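import Mathlib
import Cfsg.Statements.S0007

set_option autoImplicit false
open Cfsg

namespace Cfsg.Agent.S0007

/-- Subgroups of coprime index: the intersection has index equal to the product of the indices, and every element is a product of an element of the first subgroup and an element of the second. -/
theorem result {G : Type*} [Group G] [Finite G] (H K : Subgroup G)
    (h : H.index.Coprime K.index) :
    (H ⊓ K).index = H.index * K.index ∧ ∀ g : G, ∃ x ∈ H, ∃ y ∈ K, g = x * y := by
  have h1 : (H ⊓ K).index = H.index * K.index := by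
    apply Nat.dvd_antisymm
    · have hne : (H ⊓ K).index ≠ 0 := Subgroup.index_ne_zero_of_finite
      have hle := Subgroup.index_inf_le (H := H) (K := K)
      have hd : H.index * K.index ∣ (H ⊓ K).index :=
        Nat.Coprime.mul_dvd_of_dvd_of_dvd h (Subgroup.index_dvd_of_le inf_le_left)
          (Subgroup.index_dvd_of_le inf_le_right)
      have := Nat.le_of_dvd (Nat.pos_of_ne_zero hne) hd
      have heq : (H ⊓ K).index = H.index * K.index := le_antisymm hle this
      rw [heq]
    · exact Nat.Coprime.mul_dvd_of_dvd_of_dvd h (Subgroup.index_dvd_of_le inf_le_left)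
          (Subgroup.index_dvd_of_le inf_le_right)
  refine ⟨h1, ?_⟩
  -- relIndex
  have h2 : H.relIndex K = H.index := by
    have h3 : (H ⊓ K).relIndex K * K.index = (H ⊓ K).index :=
      Subgroup.relIndex_mul_index inf_le_right
    rw [Subgroup.inf_relIndex_right, h1] at h3
    have hK : K.index ≠ 0 := Subgroup.index_ne_zero_of_finite
    exact Nat.eq_of_mul_eq_mul_right (Nat.pos_of_ne_zero hK) h3
  -- action of K on G ⧸ H
  have hstab : MulAction.stabilizer K ((1 : G) : G ⧸ H) = H.subgroupOf K := by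
    ext k
    rw [MulAction.mem_stabilizer_iff, Subgroup.mem_subgroupOf]
    change (((k : G) * 1 : G) : G ⧸ H) = ((1 : G) : G ⧸ H) ↔ _
    rw [mul_one, eq_comm, QuotientGroup.eq, inv_one, one_mul]
  have horb : (MulAction.orbit K ((1 : G) : G ⧸ H)).ncard = Nat.card (G ⧸ H) := by
    rw [← MulAction.index_stabilizer, hstab]
    exact h2
  have huniv : MulAction.orbit K ((1 : G) : G ⧸ H) = Set.univ :=
    (Set.eq_univ_iff_ncard _).2 horb
  intro g
  have hg : ((g⁻¹ : G) : G ⧸ H) ∈ MulAction.orbit K ((1 : G) : G ⧸ H) := by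
    rw [huniv]; trivial
  obtain ⟨k, hk⟩ := hg
  have hk' : (((k : G) * 1 : G) : G ⧸ H) = ((g⁻¹ : G) : G ⧸ H) := hk
  rw [mul_one, QuotientGroup.eq] at hk'
  -- (k)⁻¹ * g⁻¹ ∈ H
  refine ⟨((k : G)⁻¹ * g⁻¹)⁻¹, H.inv_mem hk', (k : G)⁻¹, K.inv_mem k.2, ?_⟩
  group

end Cfsg.Agent.S0007
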