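import Mathlib
import Cfsg.Agent.Helper1.Nilp
import Cfsg.Agent.Helper4.DicyclicHom
import Cfsg.Statements.S0016
-- import your own Cfsg.Agent.* helpers here

set_option autoImplicit false
open Cfsg

namespace Cfsg.Agent.S0016

universe u
open scoped commutatorElement

/-- The "unique subgroup of order `p`" hypothesis, in the form we use: every subgroup of
exponent `p` has at most `p` elements. -/
def SmallOmega (p : ℕ) (G : Type u) [Group G] : Prop :=
  ∀ K : Subgroup G, (∀ x ∈ K, x ^ p = 1) → Nat.card K ≤ p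

theorem smallOmega_of_unique {G : Type u} [Group G] [Finite G] (p : ℕ) [hp : Fact p.Prime]
    (huniq : ∀ H K : Subgroup G, Nat.card H = p → Nat.card K = p → H = K) :
    SmallOmega p G := by
  intro K hK
  rcases K.bot_or_exists_ne_one with hbot | ⟨x, hxK, hx1⟩
  · rw [hbot, Subgroup.card_bot]; exact hp.out.one_lt.le
  have hox : orderOf x = p := orderOf_eq_prime (hK x hxK) hx1
  have hle : K ≤ Subgroup.zpowers x := by
    intro y hy
    by_cases hy1 : y = 1
    · rw [hy1]; exact Subgroup.one_mem _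
    have hoy : orderOf y = p := orderOf_eq_prime (hK y hy) hy1
    have := huniq (Subgroup.zpowers y) (Subgroup.zpowers x)
      (by rw [Nat.card_zpowers, hoy]) (by rw [Nat.card_zpowers, hox])
    rw [← this]; exact Subgroup.mem_zpowers y
  calc Nat.card K ≤ Nat.card (Subgroup.zpowers x) := Subgroup.card_le_of_le hle
    _ = p := by rw [Nat.card_zpowers, hox]

theorem SmallOmega.subgroup {G : Type u} [Group G] {p : ℕ} (h : SmallOmega p G) (H : Subgroup G) :
    SmallOmega p ↥H := by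
  intro K hK
  have := h (K.map H.subtype) (by
    rintro _ ⟨y, hy, rfl⟩
    rw [← map_pow, hK y hy, map_one])
  rwa [Subgroup.card_map_of_injective H.subtype_injective] at this

/-- Abelian case: a finite abelian `p`-group with small `Ω₁` is cyclic. -/
theorem comm_cyclic (p : ℕ) [hp : Fact p.Prime] : ∀ (n : ℕ) (A : Type u) [CommGroup A] [Finite A],
    Nat.card A = n → IsPGroup p A → SmallOmega p A → IsCyclic A := by
  intro n
  induction n using Nat.strong_induction_on with
  | _ n ih =>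
  intro A _ _ hn hA hS
  by_cases htriv : Subsingleton A
  · exact isCyclic_of_subsingleton
  rw [not_subsingleton_iff_nontrivial] at htriv
  set φ : A →* A := powMonoidHom p with hφ
  have h2 : Nat.card φ.ker * Nat.card φ.range = Nat.card A := by
    have := Subgroup.card_eq_card_quotient_mul_card_subgroup φ.ker
    rw [this, Nat.card_congr (QuotientGroup.quotientKerEquivRange φ).toEquiv, mul_comm]
  have hkerle : Nat.card φ.ker ≤ p := hS φ.ker (fun x hx => by
    simpa [hφ, MonoidHom.mem_ker] using hx)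
  -- the kernel is nontrivial by Cauchy
  obtain ⟨m, hm0, hm⟩ := hA.nontrivial_iff_card.mp htriv
  have hpdvd : p ∣ Nat.card A := by rw [hm]; exact dvd_pow_self p (Nat.pos_iff_ne_zero.mp hm0)
  obtain ⟨g, hg⟩ := exists_prime_orderOf_dvd_card' p hpdvd
  have hgker : g ∈ φ.ker := by
    rw [MonoidHom.mem_ker, hφ, powMonoidHom_apply, ← hg, pow_orderOf_eq_one]
  have hker : Nat.card φ.ker = p := by
    apply le_antisymm hkerle
    have h1 : Subgroup.zpowers g ≤ φ.ker := by rwa [Subgroup.zpowers_le]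
    have := Subgroup.card_le_of_le h1
    rwa [Nat.card_zpowers, hg] at this
  rw [hker] at h2
  have hlt : Nat.card φ.range < n := by
    rw [← hn, ← h2]
    have : 0 < Nat.card φ.range := Nat.card_pos
    nlinarith [hp.out.one_lt]
  have hcyc : IsCyclic ↥φ.range :=
    ih _ hlt ↥φ.range rfl (hA.to_subgroup _) (hS.subgroup _)
  obtain ⟨⟨b, hb⟩, hbgen⟩ := hcyc.exists_generator
  obtain ⟨a, rfl⟩ := hb
  have hob : orderOf (φ a) = Nat.card φ.range := by
    have h := orderOf_eq_card_of_forall_mem_zpowers hbgen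
    rw [← h]
    exact (Subgroup.orderOf_mk (φ a) _).symm
  by_cases ha1 : φ a = 1
  · rw [ha1, orderOf_one] at hob
    rw [← hob, mul_one] at h2
    have : Fact (Nat.card A).Prime := ⟨by rw [← h2]; exact hp.out⟩
    exact isCyclic_of_prime_card rfl
  · have hpa : p ∣ orderOf a := by
      by_contra hnd
      have hcop : (orderOf a).Coprime p := by
        obtain ⟨k, hk⟩ := (IsPGroup.iff_orderOf.mp hA) a
        rw [hk] at hnd ⊢
        cases k with
        | zero => simp
        | succ k => exact absurd (dvd_pow_self p (Nat.succ_ne_zero k)) hnd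
      have : orderOf a = 1 := by
        obtain ⟨k, hk⟩ := (IsPGroup.iff_orderOf.mp hA) a
        cases k with
        | zero => simpa using hk
        | succ k => rw [hk] at hnd; exact absurd (dvd_pow_self p (Nat.succ_ne_zero k)) hnd
      rw [orderOf_eq_one_iff] at this
      exact ha1 (by rw [this, map_one])
    have hoa : orderOf (φ a) = orderOf a / p := by
      rw [hφ, powMonoidHom_apply]
      exact orderOf_pow_of_dvd hp.out.ne_zero hpa
    apply isCyclic_of_orderOf_eq_card a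
    rw [← h2, ← hob, hoa, mul_comm, Nat.div_mul_cancel hpa]


theorem pow_mul_comm_class_two {G : Type u} [Group G] (x y c : G) (hc : y * x = c * x * y)
    (hcy : Commute c y) (n : ℕ) : y ^ n * x = c ^ n * x * y ^ n := by
  induction n with
  | zero => simp
  | succ n ih =>
    calc y ^ (n + 1) * x = y * (y ^ n * x) := by rw [pow_succ', mul_assoc]
      _ = y * (c ^ n * x * y ^ n) := by rw [ih]
      _ = c ^ n * (y * x) * y ^ n := by
        rw [← mul_assoc, ← mul_assoc, ((hcy.pow_left n).eq).symm, mul_assoc (c ^ n)]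
      _ = c ^ n * (c * x * y) * y ^ n := by rw [hc]
      _ = c ^ (n + 1) * x * y ^ (n + 1) := by
        rw [pow_succ, pow_succ']; simp only [mul_assoc]

theorem mul_pow_class_two {G : Type u} [Group G] (x y c : G) (hc : y * x = c * x * y)
    (hcx : Commute c x) (hcy : Commute c y) (n : ℕ) :
    (x * y) ^ n = x ^ n * y ^ n * c ^ (n.choose 2) := by
  induction n with
  | zero => simp
  | succ n ih =>
    have h1 := pow_mul_comm_class_two x y c hc hcy n
    have e : (n + 1).choose 2 = n + n.choose 2 := by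
      rw [Nat.choose_succ_succ, Nat.choose_one_right]
    have hcT : Commute (c ^ (n.choose 2)) (x * y) := (hcx.mul_right hcy).pow_left _
    calc (x * y) ^ (n + 1) = x ^ n * y ^ n * c ^ (n.choose 2) * (x * y) := by rw [pow_succ, ih]
      _ = x ^ n * y ^ n * (x * y) * c ^ (n.choose 2) := by
        rw [mul_assoc, hcT.eq, ← mul_assoc]
      _ = x ^ n * (y ^ n * x) * y * c ^ (n.choose 2) := by simp only [mul_assoc]
      _ = x ^ n * (c ^ n * x * y ^ n) * y * c ^ (n.choose 2) := by rw [h1]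
      _ = c ^ n * (x ^ n * x) * (y ^ n * y) * c ^ (n.choose 2) := by
        have := ((hcx.pow_pow n n).eq)
        rw [← mul_assoc (x ^ n), ← mul_assoc (x ^ n), ← this]; simp only [mul_assoc]
      _ = x ^ (n + 1) * y ^ (n + 1) * (c ^ n * c ^ (n.choose 2)) := by
        rw [← pow_succ, ← pow_succ]
        have h3 : Commute (c ^ n) (x ^ (n + 1) * y ^ (n + 1)) :=
          ((hcx.pow_right _).mul_right (hcy.pow_right _)).pow_left _
        rw [mul_assoc (c ^ n), h3.eq]; simp only [mul_assoc]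
      _ = x ^ (n + 1) * y ^ (n + 1) * c ^ ((n + 1).choose 2) := by rw [e, pow_add c]

/-- A subgroup of order `p^(m-1)` in a group of order `p^m` has index `p` and is normal. -/
theorem index_normal_of_card {G : Type u} [Group G] [Finite G] (p : ℕ) [hp : Fact p.Prime]
    {m : ℕ} (hm0 : m ≠ 0) (hm : Nat.card G = p ^ m) (M : Subgroup G)
    (hM : Nat.card M = p ^ (m - 1)) : M.index = p ∧ M.Normal := by
  have hidx : M.index = p := by
    have h := M.index_mul_card
    rw [hm, hM] at h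
    have e : p ^ m = p * p ^ (m - 1) := by
      rw [← pow_succ']; congr 1; omega
    rw [e] at h
    exact Nat.eq_of_mul_eq_mul_right (pow_pos hp.out.pos _) h
  refine ⟨hidx, ?_⟩
  apply Subgroup.normal_of_index_eq_minFac_card
  rw [hidx, hm, Nat.pow_minFac hm0, Nat.Prime.minFac_eq hp.out]

theorem eq_top_of_index_prime_of_lt {G : Type u} [Group G] {p : ℕ} (hp : p.Prime)
    {M K : Subgroup G} (hM : M.index = p) (hMK : M < K) : K = ⊤ := by
  have h := Subgroup.relIndex_mul_index hMK.le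
  rw [hM] at h
  rcases (Nat.dvd_prime hp).mp ⟨_, h.symm⟩ with h1 | h1
  · exact absurd (Subgroup.relIndex_eq_one.mp h1) (not_le_of_gt hMK)
  · rw [h1] at h
    have : K.index = 1 := by
      have hp0 := hp.pos
      nlinarith [Nat.eq_of_mul_eq_mul_left hp0 (h.trans (mul_one p).symm)]
    exact Subgroup.index_eq_one.mp this

theorem odd_cyclic (p : ℕ) [hp : Fact p.Prime] (hp2 : p ≠ 2) :
    ∀ (n : ℕ) (G : Type u) [Group G] [Finite G],
    Nat.card G = n → IsPGroup p G → SmallOmega p G → IsCyclic G := by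
  intro n
  induction n using Nat.strong_induction_on with
  | _ n ih =>
  intro G _ _ hn hG hS
  by_contra hnc
  obtain ⟨m, hm⟩ := IsPGroup.iff_card.mp hG
  have hm0 : m ≠ 0 := by
    rintro rfl
    rw [pow_zero] at hm
    have : Subsingleton G := (Nat.card_eq_one_iff_unique.mp hm).1
    exact hnc isCyclic_of_subsingleton
  -- proper subgroups are cyclic
  have hprop : ∀ H : Subgroup G, H ≠ ⊤ → IsCyclic ↥H := by
    intro H hH
    have hlt : Nat.card H < n := by
      rw [← hn]
      exact lt_of_le_of_ne (Subgroup.card_le_card_group H)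
        (fun h => hH (Subgroup.eq_top_of_card_eq H h))
    exact ih _ hlt ↥H rfl (hG.to_subgroup H) (hS.subgroup H)
  have hdvd : p ^ (m - 1) ∣ Nat.card G := by
    rw [hm]; exact pow_dvd_pow p (Nat.sub_le m 1)
  obtain ⟨M1, hM1⟩ := Sylow.exists_subgroup_card_pow_prime p hdvd
  have hlt1 : p ^ (m - 1) < p ^ m := Nat.pow_lt_pow_right hp.out.one_lt (by omega)
  have hM1top : M1 ≠ ⊤ := by
    intro h
    rw [h, Subgroup.card_top, hm] at hM1
    omega
  obtain ⟨x, -, hxM1⟩ := SetLike.exists_of_lt (lt_top_iff_ne_top.mpr hM1top)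
  have hxtop : Subgroup.zpowers x ≠ ⊤ := by
    intro h
    refine hnc ⟨x, fun g => ?_⟩
    have hg : g ∈ Subgroup.zpowers x := by rw [h]; trivial
    exact hg
  obtain ⟨j, hj⟩ := IsPGroup.iff_card.mp (hG.to_subgroup (Subgroup.zpowers x))
  have hjm : j ≤ m - 1 := by
    have h1 : p ^ j ∣ p ^ m := by
      rw [← hj, ← hm]; exact Subgroup.card_subgroup_dvd_card _
    have h2 : j ≤ m := (Nat.pow_dvd_pow_iff_le_right hp.out.one_lt).mp h1
    have h3 : j ≠ m := by
      rintro rfl
      exact hxtop (Subgroup.eq_top_of_card_eq _ (hj.trans hm.symm))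
    omega
  obtain ⟨M2, hM2, hxM2'⟩ := Sylow.exists_subgroup_card_pow_prime_le p hdvd _ hj hjm
  have hxM2 : x ∈ M2 := hxM2' (Subgroup.mem_zpowers x)
  obtain ⟨hi1, hn1⟩ := index_normal_of_card p hm0 hm M1 hM1
  obtain ⟨hi2, hn2⟩ := index_normal_of_card p hm0 hm M2 hM2
  have hM2top : M2 ≠ ⊤ := by
    intro h
    rw [h, Subgroup.card_top, hm] at hM2
    omega
  have hc1 : IsCyclic ↥M1 := hprop M1 hM1top
  have hc2 : IsCyclic ↥M2 := hprop M2 hM2top
  have hcomm1 : ∀ a ∈ M1, ∀ b ∈ M1, a * b = b * a := fun a ha b hb =>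
    congrArg Subtype.val (mul_comm' (⟨a, ha⟩ : M1) ⟨b, hb⟩)
  have hcomm2 : ∀ a ∈ M2, ∀ b ∈ M2, a * b = b * a := fun a ha b hb =>
    congrArg Subtype.val (mul_comm' (⟨a, ha⟩ : M2) ⟨b, hb⟩)
  have hsup : M1 ⊔ M2 = ⊤ := by
    apply eq_top_of_index_prime_of_lt hp.out hi1
    refine lt_of_le_of_ne le_sup_left (fun h => hxM1 ?_)
    rw [h]; exact (le_sup_right : M2 ≤ M1 ⊔ M2) hxM2
  -- the intersection is central
  have hDcent : ∀ d ∈ M1 ⊓ M2, ∀ g : G, g * d = d * g := by
    intro d hd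
    have h1 : M1 ≤ Subgroup.centralizer {d} := fun g hg => by
      rw [Subgroup.mem_centralizer_singleton_iff]
      exact hcomm1 g hg d hd.1
    have h2 : M2 ≤ Subgroup.centralizer {d} := fun g hg => by
      rw [Subgroup.mem_centralizer_singleton_iff]
      exact hcomm2 g hg d hd.2
    have h3 : (⊤ : Subgroup G) ≤ Subgroup.centralizer {d} := hsup ▸ sup_le h1 h2
    intro g
    have := h3 (Subgroup.mem_top g)
    rwa [Subgroup.mem_centralizer_singleton_iff] at this
  have hpowD : ∀ g : G, g ^ p ∈ M1 ⊓ M2 := fun g =>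
    ⟨hi1 ▸ M1.pow_index_mem g, hi2 ▸ M2.pow_index_mem g⟩
  have hcommD : ∀ g h : G, ⁅g, h⁆ ∈ M1 ⊓ M2 := by
    intro g h
    have hmem : ⁅g, h⁆ ∈ _root_.commutator G := by
      rw [commutator_def]
      exact Subgroup.commutator_mem_commutator (Subgroup.mem_top g) (Subgroup.mem_top h)
    have hq : ∀ M : Subgroup G, M.index = p → ∀ [M.Normal], _root_.commutator G ≤ M := by
      intro M hM _
      have : Fact (Nat.card (G ⧸ M)).Prime := ⟨by rw [← Subgroup.index_eq_card, hM]; exact hp.out⟩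
      have : IsCyclic (G ⧸ M) := isCyclic_of_prime_card rfl
      exact Subgroup.Normal.quotient_commutative_iff_commutator_le.mp inferInstance
    exact ⟨hq M1 hi1 hmem, hq M2 hi2 hmem⟩
  -- the p-power map is an endomorphism
  have hp3 : 2 < p := lt_of_le_of_ne hp.out.two_le (Ne.symm hp2)
  have hmul : ∀ a b : G, (a * b) ^ p = a ^ p * b ^ p := by
    intro a b
    set c := ⁅b, a⁆ with hc
    have hcD := hcommD b a
    have hca : Commute c a := (hDcent c hcD a).symm
    have hcb : Commute c b := (hDcent c hcD b).symm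
    have hba : b * a = c * a * b := by
      rw [hc, commutatorElement_def]; group
    have h1 := pow_mul_comm_class_two a b c hba hcb p
    have hcp : c ^ p = 1 := by
      have h2 : b ^ p * a = a * b ^ p := hDcent _ (hpowD b) a |>.symm
      rw [h2] at h1
      have h3 : a * b ^ p = c ^ p * (a * b ^ p) := by rw [← mul_assoc]; exact h1
      exact (mul_eq_right.mp h3.symm)
    have h4 := mul_pow_class_two a b c hba hca hcb p
    obtain ⟨t, ht⟩ := Nat.Prime.dvd_choose_self hp.out (by norm_num : (2 : ℕ) ≠ 0) hp3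
    rw [h4, ht, pow_mul, hcp, one_pow, mul_one]
  set φ : G →* G := MonoidHom.mk' (fun g => g ^ p) hmul with hφ
  have h2 : Nat.card φ.ker * Nat.card φ.range = Nat.card G := by
    have := Subgroup.card_eq_card_quotient_mul_card_subgroup φ.ker
    rw [this, Nat.card_congr (QuotientGroup.quotientKerEquivRange φ).toEquiv, mul_comm]
  have hkerle : Nat.card φ.ker ≤ p := hS φ.ker (fun x hx => by
    simpa [hφ, MonoidHom.mem_ker] using hx)
  have hrange : φ.range ≤ M1 ⊓ M2 := by
    rintro _ ⟨g, rfl⟩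
    exact hpowD g
  have hDlt : M1 ⊓ M2 < M1 := by
    refine lt_of_le_of_ne inf_le_left (fun h => hxM1 ?_)
    have h12 : M1 ≤ M2 := by rw [← h]; exact inf_le_right
    have : M1 = M2 := by
      have : Nat.card M1 = Nat.card M2 := hM1.trans hM2.symm
      exact Subgroup.eq_of_le_of_card_ge h12 this.ge
    rw [this]; exact hxM2
  have hDcard : Nat.card ↥(M1 ⊓ M2) * p ≤ p ^ (m - 1) := by
    obtain ⟨i, hi⟩ := IsPGroup.iff_card.mp (hG.to_subgroup (M1 ⊓ M2))
    have h1 : p ^ i ∣ p ^ (m - 1) := by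
      rw [← hi, ← hM1]; exact Subgroup.card_dvd_of_le inf_le_left
    have h2 : i ≤ m - 1 := (Nat.pow_dvd_pow_iff_le_right hp.out.one_lt).mp h1
    have h3 : i ≠ m - 1 := by
      intro h
      rw [h] at hi
      exact absurd (Subgroup.eq_of_le_of_card_ge hDlt.le (by rw [hi, hM1])) hDlt.ne
    rw [hi, ← pow_succ]
    exact Nat.pow_le_pow_right hp.out.pos (by omega)
  have hr : Nat.card φ.range ≤ Nat.card ↥(M1 ⊓ M2) := Subgroup.card_le_of_le hrange
  have e : p ^ m = p * p ^ (m - 1) := by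
    rw [← pow_succ']; congr 1; omega
  have hfin : p ^ m ≤ p * Nat.card ↥(M1 ⊓ M2) := by
    rw [← hm, ← h2]
    exact Nat.mul_le_mul hkerle hr
  have hpos : 0 < Nat.card ↥(M1 ⊓ M2) := Nat.card_pos
  have hp1 := hp.out.one_lt
  nlinarith

theorem key2 {G : Type u} [Group G] [Finite G] (a x : G) (k : ℕ) (ha : orderOf a = 2 ^ (k + 1))
    (hinv : ∀ g : G, g ^ 2 = 1 → g = 1 ∨ g = a ^ (2 ^ k))
    (hx : x ∉ Subgroup.zpowers a) (hx2 : x ^ 2 ∈ Subgroup.zpowers a)
    (hxa : x * a * x⁻¹ ∈ Subgroup.zpowers a) (hne : x * a * x⁻¹ ≠ a) :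
    x * a * x⁻¹ = a⁻¹ ∧ x ^ 2 = a ^ (2 ^ k) := by
  have hcommA : ∀ g ∈ Subgroup.zpowers a, ∀ h ∈ Subgroup.zpowers a, g * h = h * g := by
    intro g hg h hh
    obtain ⟨s, rfl⟩ := Subgroup.mem_zpowers_iff.mp hg
    obtain ⟨t, rfl⟩ := Subgroup.mem_zpowers_iff.mp hh
    exact (Commute.zpow_zpow_self a s t).eq
  have haA : a ∈ Subgroup.zpowers a := Subgroup.mem_zpowers a
  have hnat : ∀ {u g : G}, g ∈ Subgroup.zpowers u → ∃ i : ℕ, u ^ i = g := by
    intro u g hg
    rw [← (isOfFinOrder_of_finite u).mem_powers_iff_mem_zpowers] at hg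
    exact Submonoid.mem_powers_iff _ _ |>.mp hg
  set c := x * a * x⁻¹ * a⁻¹ with hc
  set w := x * a * x⁻¹ * a with hw
  have hcA : c ∈ Subgroup.zpowers a := Subgroup.mul_mem _ hxa (Subgroup.inv_mem _ haA)
  have hwA : w ∈ Subgroup.zpowers a := Subgroup.mul_mem _ hxa haA
  have hwc : w = c * a ^ 2 := by rw [hw, hc]; group
  -- (1)
  have h1 : x * (x * a * x⁻¹) * x⁻¹ = a := by
    have h := hcommA _ hx2 _ haA
    calc x * (x * a * x⁻¹) * x⁻¹ = x ^ 2 * a * (x ^ 2)⁻¹ := by rw [pow_two]; group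
      _ = a := by rw [h]; group
  -- (2)
  have h2 : x * c * x⁻¹ = c⁻¹ := by
    calc x * c * x⁻¹ = (x * (x * a * x⁻¹) * x⁻¹) * (x * a * x⁻¹)⁻¹ := by rw [hc]; group
      _ = a * (x * a * x⁻¹)⁻¹ := by rw [h1]
      _ = c⁻¹ := by rw [hc]; group
  -- (3)
  have h3 : ∀ g ∈ Subgroup.zpowers c, x * g * x⁻¹ = g⁻¹ := by
    intro g hg
    obtain ⟨t, rfl⟩ := Subgroup.mem_zpowers_iff.mp hg
    rw [← conj_zpow, h2, inv_zpow]
  -- (4)
  have h4 : ∀ i : ℕ, (x * a ^ i) ^ 2 = w ^ i * x ^ 2 := by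
    intro i
    have hai : a ^ i ∈ Subgroup.zpowers a := Subgroup.pow_mem _ haA i
    have e1 : x * a ^ i * x⁻¹ = (x * a * x⁻¹) ^ i := (conj_pow).symm
    have e2 : w ^ i = (x * a * x⁻¹) ^ i * a ^ i :=
      (Commute.mul_pow (hcommA _ hxa _ haA) i)
    calc (x * a ^ i) ^ 2 = (x * a ^ i * x⁻¹) * x ^ 2 * a ^ i := by
          rw [pow_two, pow_two]; group
      _ = (x * a * x⁻¹) ^ i * (x ^ 2 * a ^ i) := by rw [e1, mul_assoc ((x * a * x⁻¹) ^ i)]
      _ = (x * a * x⁻¹) ^ i * (a ^ i * x ^ 2) := by rw [hcommA _ hx2 _ hai]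
      _ = w ^ i * x ^ 2 := by rw [e2, mul_assoc ((x * a * x⁻¹) ^ i)]
  -- (5)
  have h5 : ∀ i : ℕ, w ^ i * x ^ 2 ≠ 1 := by
    intro i h
    rw [← h4] at h
    have hai : a ^ i ∈ Subgroup.zpowers a := Subgroup.pow_mem _ haA i
    have hmem : x * a ^ i ∈ Subgroup.zpowers a := by
      rcases hinv _ h with h' | h'
      · rw [h']; exact Subgroup.one_mem _
      · rw [h']; exact Subgroup.pow_mem _ haA _
    exact hx ((Subgroup.mul_mem_cancel_right _ hai).mp hmem)
  -- (6)
  obtain ⟨j, hj⟩ := hnat hx2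
  have hjeven : Even j := by
    by_contra hodd
    rw [Nat.not_even_iff_odd] at hodd
    have hcop : j.Coprime (orderOf a) := by
      rw [ha]; exact Nat.Coprime.pow_right _ (Nat.coprime_two_right.mpr hodd)
    obtain ⟨t, ht⟩ := exists_pow_eq_self_of_coprime hcop
    apply hne
    rw [hj] at ht
    have : Commute x a := by
      rw [← ht]; exact ((Commute.refl x).pow_right 2).pow_right t
    rw [this.eq]; group
  obtain ⟨j', hj'⟩ := hjeven
  have hx2' : x ^ 2 = (a ^ 2) ^ j' := by rw [← hj, hj', ← two_mul, pow_mul]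
  have hoa2 : orderOf (a ^ 2) = 2 ^ k := by
    rw [orderOf_pow_of_dvd two_ne_zero (by rw [ha]; exact dvd_pow_self 2 (Nat.succ_ne_zero k)), ha,
      pow_succ, Nat.mul_div_cancel _ two_pos]
  -- (7)
  have hdich : a ^ 2 ∈ Subgroup.zpowers c ∨ a ^ 2 ∈ Subgroup.zpowers w := by
    obtain ⟨m, hm⟩ := hnat hcA
    rcases Nat.even_or_odd m with ⟨m', hm'⟩ | hodd
    · have hc2 : c = (a ^ 2) ^ m' := by rw [← hm, hm', ← two_mul, pow_mul]
      rcases Nat.even_or_odd m' with heven' | hodd'
      · right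
        have hw2 : w = (a ^ 2) ^ (m' + 1) := by rw [hwc, hc2]; exact (pow_succ (a ^ 2) m').symm
        have hcop : (m' + 1).Coprime (orderOf (a ^ 2)) := by
          rw [hoa2]; exact Nat.Coprime.pow_right _ (Nat.coprime_two_right.mpr heven'.add_one)
        obtain ⟨t, ht⟩ := exists_pow_eq_self_of_coprime hcop
        rw [← hw2] at ht
        rw [← ht]; exact Subgroup.pow_mem _ (Subgroup.mem_zpowers w) t
      · left
        have hcop : m'.Coprime (orderOf (a ^ 2)) := by
          rw [hoa2]; exact Nat.Coprime.pow_right _ (Nat.coprime_two_right.mpr hodd')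
        obtain ⟨t, ht⟩ := exists_pow_eq_self_of_coprime hcop
        rw [← hc2] at ht
        rw [← ht]; exact Subgroup.pow_mem _ (Subgroup.mem_zpowers c) t
    · left
      have hcop : m.Coprime (orderOf a) := by
        rw [ha]; exact Nat.Coprime.pow_right _ (Nat.coprime_two_right.mpr hodd)
      obtain ⟨t, ht⟩ := exists_pow_eq_self_of_coprime hcop
      rw [hm] at ht
      have : a ∈ Subgroup.zpowers c := by
        rw [← ht]; exact Subgroup.pow_mem _ (Subgroup.mem_zpowers c) t
      exact Subgroup.pow_mem _ this 2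
  rcases hdich with hd | hd
  · -- (9)
    have hx2c : x ^ 2 ∈ Subgroup.zpowers c := by rw [hx2']; exact Subgroup.pow_mem _ hd j'
    have h6 := h3 _ hx2c
    have h7 : x * x ^ 2 * x⁻¹ = x ^ 2 := by group
    rw [h7] at h6
    have h8 : (x ^ 2) ^ 2 = 1 := by
      rw [pow_two (x ^ 2)]
      nth_rewrite 1 [h6]
      exact inv_mul_cancel _
    have hx2z : x ^ 2 = a ^ (2 ^ k) := by
      rcases hinv _ h8 with h' | h'
      · exfalso
        apply hx
        rcases hinv _ h' with h'' | h''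
        · rw [h'']; exact Subgroup.one_mem _
        · rw [h'']; exact Subgroup.pow_mem _ haA _
      · exact h'
    have hw1 : w = 1 := by
      by_contra hw1
      have hdvd : orderOf w ∣ 2 ^ (k + 1) := by
        rw [← ha]; exact orderOf_dvd_of_mem_zpowers hwA
      obtain ⟨s, -, hs⟩ := (Nat.dvd_prime_pow Nat.prime_two).mp hdvd
      have hs0 : s ≠ 0 := by
        rintro rfl
        rw [pow_zero, orderOf_eq_one_iff] at hs
        exact hw1 hs
      obtain ⟨s', rfl⟩ := Nat.exists_eq_succ_of_ne_zero hs0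
      have hg2 : (w ^ (2 ^ s')) ^ 2 = 1 := by
        rw [← pow_mul, ← pow_succ, ← hs, pow_orderOf_eq_one]
      have hg1 : w ^ (2 ^ s') ≠ 1 := by
        apply pow_ne_one_of_lt_orderOf (pow_pos two_pos s').ne'
        rw [hs]; exact Nat.pow_lt_pow_right (by norm_num) (Nat.lt_succ_self s')
      have hgz : w ^ (2 ^ s') = a ^ (2 ^ k) := by
        rcases hinv _ hg2 with h' | h'
        · exact absurd h' hg1
        · exact h'
      apply h5 (2 ^ s')
      rw [hgz, ← hx2z, ← pow_two]; exact h8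
    refine ⟨?_, hx2z⟩
    exact eq_inv_of_mul_eq_one_left hw1
  · -- (8)
    exfalso
    have hx2w : x ^ 2 ∈ Subgroup.zpowers w := by rw [hx2']; exact Subgroup.pow_mem _ hd j'
    obtain ⟨i, hi⟩ := hnat (Subgroup.inv_mem _ hx2w)
    apply h5 i
    rw [hi]; exact inv_mul_cancel _

theorem not_four_dvd_sq_add_one (s : ℕ) : ¬ (4 ∣ s * s + 1) := by
  intro h
  have h1 : ((s * s + 1 : ℕ) : ZMod 4) = 0 := (ZMod.natCast_eq_zero_iff _ _).mpr h
  push_cast at h1
  have h2 : ∀ t : ZMod 4, t * t + 1 ≠ 0 := by decide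
  exact h2 _ h1

open scoped IsMulCommutative in
theorem two_case {G : Type u} [Group G] [Finite G] (hG : IsPGroup 2 G)
    (huniq : ∀ H K : Subgroup G, Nat.card H = 2 → Nat.card K = 2 → H = K) :
    IsCyclic G ∨ ∃ n : ℕ, Nonempty (G ≃* QuaternionGroup (2 ^ n)) := by
  have : Fact (Nat.Prime 2) := ⟨Nat.prime_two⟩
  have hS : SmallOmega 2 G := smallOmega_of_unique 2 huniq
  -- a maximal normal abelian subgroup
  let 𝒮 : Set (Subgroup G) := {A | A.Normal ∧ IsMulCommutative A}
  have hbot : (⊥ : Subgroup G) ∈ 𝒮 := ⟨inferInstance, inferInstance⟩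
  obtain ⟨A, -, hAmax⟩ := (Set.toFinite 𝒮).exists_le_maximal hbot
  obtain ⟨hAn, hAc⟩ := hAmax.prop
  have := hAn
  have := hAc
  have : Group.IsNilpotent G := hG.isNilpotent
  have hCA : Subgroup.centralizer (A : Set G) = A :=
    Cfsg.Agent.Helper1.centralizer_eq_of_maximal_abelian_normal A
      (fun M hMn hMc hAM => le_antisymm (hAmax.le_of_ge ⟨hMn, hMc⟩ hAM) hAM)
  have hAcyc : IsCyclic ↥A :=
    comm_cyclic 2 _ ↥A rfl (hG.to_subgroup A) (hS.subgroup A)
  by_cases hAtop : A = ⊤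
  · left
    have : IsCyclic ↥(⊤ : Subgroup G) := hAtop ▸ hAcyc
    exact isCyclic_of_surjective (Subgroup.topEquiv : (⊤ : Subgroup G) ≃* G)
      Subgroup.topEquiv.surjective
  right
  obtain ⟨⟨a, haA⟩, hgen⟩ := hAcyc.exists_generator
  have hAz : A = Subgroup.zpowers a := by
    apply le_antisymm
    · intro g hg
      obtain ⟨t, ht⟩ := Subgroup.mem_zpowers_iff.mp (hgen ⟨g, hg⟩)
      rw [Subgroup.mem_zpowers_iff]
      exact ⟨t, by simpa using congrArg Subtype.val ht⟩
    · rwa [Subgroup.zpowers_le]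
  obtain ⟨K, hK⟩ := IsPGroup.iff_card.mp (hG.to_subgroup A)
  have hoa : orderOf a = 2 ^ K := by rw [← hK, hAz, Nat.card_zpowers]
  have hmemC : ∀ g : G, g * a * g⁻¹ = a → g ∈ A := by
    intro g hg
    rw [← hCA, Subgroup.mem_centralizer_iff]
    intro h hh
    rw [SetLike.mem_coe, hAz] at hh
    obtain ⟨t, rfl⟩ := Subgroup.mem_zpowers_iff.mp hh
    have : Commute g a := by
      have : g * a = a * g := by
        calc g * a = g * a * g⁻¹ * g := by group
          _ = a * g := by rw [hg]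
      exact this
    exact (this.zpow_right t).eq.symm
  have hK0 : K ≠ 0 := by
    rintro rfl
    rw [pow_zero, orderOf_eq_one_iff] at hoa
    apply hAtop
    rw [eq_top_iff]
    intro g _
    apply hmemC
    rw [hoa]; group
  obtain ⟨k, rfl⟩ := Nat.exists_eq_succ_of_ne_zero hK0
  set z := a ^ (2 ^ k) with hz
  have hoz : orderOf z = 2 := by
    rw [hz, orderOf_pow_of_dvd (pow_pos two_pos k).ne' (by rw [hoa]; exact pow_dvd_pow 2 (Nat.le_succ k)),
      hoa, pow_succ, Nat.mul_div_cancel_left _ (pow_pos two_pos k)]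
  have hinv : ∀ g : G, g ^ 2 = 1 → g = 1 ∨ g = z := by
    intro g hg
    by_cases hg1 : g = 1
    · exact Or.inl hg1
    right
    have hog : orderOf g = 2 := orderOf_eq_prime hg hg1
    have h := huniq (Subgroup.zpowers g) (Subgroup.zpowers z)
      (by rw [Nat.card_zpowers, hog]) (by rw [Nat.card_zpowers, hoz])
    have hzg : z ∈ Subgroup.zpowers g := by rw [h]; exact Subgroup.mem_zpowers z
    obtain ⟨t, ht⟩ := Subgroup.mem_zpowers_iff.mp hzg
    have hz1 : z ≠ 1 := by
      intro h1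
      rw [h1, orderOf_one] at hoz
      exact absurd hoz (by norm_num)
    rcases Int.even_or_odd' t with ⟨s, rfl | rfl⟩
    · exfalso
      apply hz1
      rw [← ht, zpow_mul, zpow_ofNat, hg, one_zpow]
    · rw [← ht, zpow_add, zpow_mul, zpow_ofNat, hg, one_zpow, one_mul, zpow_one]
  -- elements outside `A` squaring into `A` invert `a`
  have hkey : ∀ x : G, x ∉ A → x ^ 2 ∈ A → x * a * x⁻¹ = a⁻¹ ∧ x ^ 2 = z := by
    intro x hx hx2
    rw [hAz] at hx hx2
    refine key2 a x k hoa hinv hx hx2 ?_ ?_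
    · rw [← hAz]; exact hAn.conj_mem a haA x
    · intro h
      apply hx
      rw [← hAz]; exact hmemC x h
  have hk0 : k ≠ 0 := by
    rintro rfl
    obtain ⟨x, -, hx⟩ := SetLike.exists_of_lt (lt_top_iff_ne_top.mpr hAtop)
    have ha2 : a ^ 2 = 1 := by rw [← pow_orderOf_eq_one a, hoa]; rfl
    have hainv : a⁻¹ = a := by
      rw [inv_eq_iff_mul_eq_one, ← pow_two]; exact ha2
    -- every element centralizes `a`
    have hxa : x * a * x⁻¹ ∈ Subgroup.zpowers a := by
      rw [← hAz]; exact hAn.conj_mem a haA x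
    have hne : x * a * x⁻¹ ≠ 1 := by
      intro h
      have : a = 1 := by
        have := congrArg (fun y => x⁻¹ * y * x) h
        simpa [mul_assoc] using this
      rw [this, orderOf_one] at hoa
      norm_num at hoa
    have h2 : (x * a * x⁻¹) ^ 2 = 1 := by rw [conj_pow, ha2]; group
    have h3 : x * a * x⁻¹ = z := (hinv _ h2).resolve_left hne
    have h4 : z = a := by rw [hz]; simp
    exact hx (hmemC x (h3.trans h4))
  -- every element outside `A` squares into `A`
  have hsq : ∀ y : G, y ∉ A → y ^ 2 ∈ A := by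
    intro y hy
    by_contra hy2
    have hex : ∃ i : ℕ, y ^ (2 ^ i) ∈ A := by
      obtain ⟨e, he⟩ := (IsPGroup.iff_orderOf.mp hG) y
      exact ⟨e, by rw [← he, pow_orderOf_eq_one]; exact A.one_mem⟩
    classical
    have hspec := Nat.find_spec hex
    have hmin := fun i => Nat.find_min hex (m := i)
    have h0 : Nat.find hex ≠ 0 := by
      intro h; rw [h] at hspec; simp at hspec; exact hy hspec
    have h1 : Nat.find hex ≠ 1 := by
      intro h; rw [h] at hspec; simp at hspec; exact hy2 hspec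
    obtain ⟨i, hi⟩ : ∃ i, Nat.find hex = i + 2 := ⟨Nat.find hex - 2, by omega⟩
    rw [hi] at hspec
    have hnot : y ^ (2 ^ (i + 1)) ∉ A := hmin (i + 1) (by omega)
    set w := y ^ (2 ^ i) with hw
    have hw2 : w ^ 2 = y ^ (2 ^ (i + 1)) := by rw [hw, ← pow_mul, ← pow_succ]
    have hw4 : (w ^ 2) ^ 2 = y ^ (2 ^ (i + 2)) := by rw [hw2, ← pow_mul, ← pow_succ]
    obtain ⟨hinvw, -⟩ := hkey (w ^ 2) (by rw [hw2]; exact hnot) (by rw [hw4]; exact hspec)
    have hwa : w * a * w⁻¹ ∈ Subgroup.zpowers a := by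
      rw [← hAz]; exact hAn.conj_mem a haA w
    rw [← (isOfFinOrder_of_finite a).mem_powers_iff_mem_zpowers] at hwa
    obtain ⟨s, hs⟩ := (Submonoid.mem_powers_iff _ _).mp hwa
    have h5 : w ^ 2 * a * (w ^ 2)⁻¹ = a ^ (s * s) := by
      calc w ^ 2 * a * (w ^ 2)⁻¹ = w * (w * a * w⁻¹) * w⁻¹ := by rw [pow_two]; group
        _ = w * a ^ s * w⁻¹ := by rw [hs]
        _ = (w * a * w⁻¹) ^ s := (conj_pow).symm
        _ = a ^ (s * s) := by rw [← hs, ← pow_mul]
    rw [hinvw] at h5
    have h6 : a ^ (s * s + 1) = 1 := by rw [pow_succ, ← h5]; exact inv_mul_cancel a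
    have h7 : 2 ^ (k + 1) ∣ s * s + 1 := by rw [← hoa]; exact orderOf_dvd_of_pow_eq_one h6
    have h8 : 4 ∣ 2 ^ (k + 1) := by
      obtain ⟨k', rfl⟩ := Nat.exists_eq_succ_of_ne_zero hk0
      exact ⟨2 ^ k', by rw [pow_succ, pow_succ]; ring⟩
    exact not_four_dvd_sq_add_one s (h8.trans h7)
  have hinvert : ∀ y : G, y ∉ A → y * a * y⁻¹ = a⁻¹ ∧ y ^ 2 = z := fun y hy => hkey y hy (hsq y hy)
  have hcoset : ∀ y1 y2 : G, y1 ∉ A → y2 ∉ A → y1⁻¹ * y2 ∈ A := by
    intro y1 y2 h1 h2
    apply hmemC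
    have e1 := (hinvert y1 h1).1
    have e2 := (hinvert y2 h2).1
    have e3 : y1⁻¹ * a⁻¹ * y1 = a := by
      rw [← e1]; group
    calc y1⁻¹ * y2 * a * (y1⁻¹ * y2)⁻¹ = y1⁻¹ * (y2 * a * y2⁻¹) * y1 := by group
      _ = a := by rw [e2, e3]
  obtain ⟨x, -, hx⟩ := SetLike.exists_of_lt (lt_top_iff_ne_top.mpr hAtop)
  obtain ⟨hxa, hx2⟩ := hinvert x hx
  have hu : a ^ (2 * 2 ^ k) = 1 := by
    rw [← pow_succ', ← hoa, pow_orderOf_eq_one]
  have hJ : x * x = a ^ (2 ^ k) := by rw [← pow_two, hx2]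
  have huJ : a * x * a = x := by
    have : x * a = a⁻¹ * x := by
      calc x * a = x * a * x⁻¹ * x := by group
        _ = a⁻¹ * x := by rw [hxa]
    rw [mul_assoc, this, mul_inv_cancel_left]
  refine ⟨k, ⟨(MulEquiv.ofBijective (Cfsg.Agent.Helper4.dicyclicHom a x hu hJ huJ) ⟨?_, ?_⟩).symm⟩⟩
  · apply Cfsg.Agent.Helper4.dicyclicHom_injective
    · intro i hi0 hi h
      have := orderOf_dvd_of_pow_eq_one h
      rw [hoa, pow_succ'] at this
      exact absurd (Nat.le_of_dvd hi0 this) (not_le.mpr hi)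
    · intro i h
      apply hx
      have : x = (a ^ i)⁻¹ := eq_inv_of_mul_eq_one_left h
      rw [this]
      exact A.inv_mem (A.pow_mem haA i)
  · intro g
    have hpow : ∀ t : ℕ, a ^ ((t : ZMod (2 * 2 ^ k))).val = a ^ t := by
      intro t
      rw [ZMod.val_natCast, ← pow_succ', ← hoa, pow_mod_orderOf]
    have hnat : ∀ h ∈ A, ∃ t : ℕ, a ^ t = h := by
      intro h hh
      rw [hAz, ← (isOfFinOrder_of_finite a).mem_powers_iff_mem_zpowers] at hh
      exact (Submonoid.mem_powers_iff _ _).mp hh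
    by_cases hg : g ∈ A
    · obtain ⟨t, ht⟩ := hnat g hg
      refine ⟨QuaternionGroup.a (t : ZMod (2 * 2 ^ k)), ?_⟩
      rw [Cfsg.Agent.Helper4.dicyclicHom_a, hpow, ht]
    · obtain ⟨t, ht⟩ := hnat _ (hcoset x g hx hg)
      refine ⟨QuaternionGroup.xa (t : ZMod (2 * 2 ^ k)), ?_⟩
      rw [Cfsg.Agent.Helper4.dicyclicHom_xa, hpow, ht, mul_inv_cancel_left]

/-- A finite p-group in which only one subgroup has order p is either cyclic or (with p = 2) isomorphic to a generalized quaternion group. -/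
theorem result {G : Type*} [Group G] [Finite G] (p : ℕ) [Fact p.Prime]
    (hG : IsPGroup p G) (huniq : ∀ H K : Subgroup G, Nat.card H = p → Nat.card K = p → H = K) :
    IsCyclic G ∨ (p = 2 ∧ ∃ n : ℕ, Nonempty (G ≃* QuaternionGroup (2 ^ n))) := by
  by_cases hp2 : p = 2
  · subst hp2
    rcases two_case hG huniq with h | h
    · exact Or.inl h
    · exact Or.inr ⟨rfl, h⟩
  · exact Or.inl (odd_cyclic p hp2 _ G rfl hG (smallOmega_of_unique p huniq))

end Cfsg.Agent.S0016
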