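import Cfsg.Statements.S5104
import Mathlib
import Cfsg.Agent.Lead.Fusion

set_option autoImplicit false
open Cfsg

namespace Cfsg.Agent.S5104

open Cfsg.Agent.Lead Cfsg.FusionSystem

/-- In a saturated fusion system over a finite p-group S, a fully centralized subgroup U with C_S(U) ≤ U is centric. -/
theorem result {Ω : Type*} [Group Ω] {S : Subgroup Ω} [Finite S] (p : ℕ) [Fact p.Prime] (hS : IsPGroup p S) (F : Cfsg.FusionSystem S) (hF : F.IsSaturated p) (U : Subgroup Ω) (hU : F.IsFullyCentralized U) (hC : Cfsg.FusionSystem.centralizerIn S U ≤ U) : F.IsCentric U := by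
  refine ⟨hU.1, ?_⟩
  rintro Q ⟨φ, hφ, rfl⟩
  have hQS : φ.range ≤ S := Fusion.range_le F hφ
  have h1 : Nat.card (centralizerIn S φ.range) ≤ Nat.card (centralizerIn S U) := hU.2 _ ⟨φ, hφ, rfl⟩
  -- Z_U
  have h2 : centralizerIn S U ≤ U ⊓ Subgroup.centralizer (U : Set Ω) := le_inf hC inf_le_right
  have hfinS : ∀ H : Subgroup Ω, H ≤ S → Finite H := fun H hH =>
    Finite.of_injective (Subgroup.inclusion hH) (Subgroup.inclusion_injective hH)
  have hfinZU : Finite ↥(U ⊓ Subgroup.centralizer (U : Set Ω)) := hfinS _ (inf_le_left.trans hU.1)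
  have hfinZQ : Finite ↥(φ.range ⊓ Subgroup.centralizer (φ.range : Set Ω)) := hfinS _ (inf_le_left.trans hQS)
  have hfinCQ : Finite ↥(centralizerIn S φ.range) := hfinS _ inf_le_left
  have h3 : Nat.card (centralizerIn S U) ≤ Nat.card ↥(U ⊓ Subgroup.centralizer (U : Set Ω)) :=
    Subgroup.card_le_of_le h2
  let f : ↥(U ⊓ Subgroup.centralizer (U : Set Ω)) → ↥(φ.range ⊓ Subgroup.centralizer (φ.range : Set Ω)) :=
    fun z => ⟨φ ⟨z.1, (Subgroup.mem_inf.mp z.2).1⟩, Subgroup.mem_inf.mpr ⟨⟨_, rfl⟩, by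
      rw [Subgroup.mem_centralizer_iff]
      rintro _ ⟨u, rfl⟩
      have hz : z.1 ∈ Subgroup.centralizer (U : Set Ω) := (Subgroup.mem_inf.mp z.2).2
      rw [Subgroup.mem_centralizer_iff] at hz
      have := hz u.1 u.2
      rw [← map_mul, ← map_mul]
      congr 1
      exact Subtype.ext this⟩⟩
  have hfinj : Function.Injective f := by
    intro z z' h
    have : φ ⟨z.1, (Subgroup.mem_inf.mp z.2).1⟩ = φ ⟨z'.1, (Subgroup.mem_inf.mp z'.2).1⟩ :=
      congrArg Subtype.val h
    have := F.injective_of_mem hφ this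
    apply Subtype.ext
    exact congrArg (fun u : U => (u : Ω)) this
  have h4 : Nat.card ↥(U ⊓ Subgroup.centralizer (U : Set Ω)) ≤
      Nat.card ↥(φ.range ⊓ Subgroup.centralizer (φ.range : Set Ω)) :=
    Nat.card_le_card_of_injective f hfinj
  have h5 : φ.range ⊓ Subgroup.centralizer (φ.range : Set Ω) ≤ centralizerIn S φ.range :=
    inf_le_inf_right _ hQS
  have h6 : φ.range ⊓ Subgroup.centralizer (φ.range : Set Ω) = centralizerIn S φ.range :=
    Subgroup.eq_of_le_of_card_ge h5 (by omega)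
  rw [← h6]
  exact inf_le_left

end Cfsg.Agent.S5104
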