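import Cfsg.Statements.S5085
import Mathlib
import Cfsg.Agent.Lead.Fusion

set_option autoImplicit false
open Cfsg

namespace Cfsg.Agent.S5085

open Cfsg.Agent.Lead Cfsg.FusionSystem

/-- In any fusion system, a characteristic subgroup of a subgroup that is normal in the system is itself normal in the system. -/
theorem result {Ω : Type*} [Group Ω] {S : Subgroup Ω} (F : Cfsg.FusionSystem S) (Q U : Subgroup Ω) (hQ : F.IsNormal Q) (hUQ : U ≤ Q) (hU : (U.subgroupOf Q).Characteristic) : F.IsNormal U := by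
  refine ⟨hUQ.trans hQ.1, ?_⟩
  intro P φ hφ
  obtain ⟨ψ, hψ, hext, hmap⟩ := hQ.2 P φ hφ
  have hle : P ⊔ U ≤ P ⊔ Q := sup_le_sup_left hUQ P
  have hQle : Q ≤ P ⊔ Q := le_sup_right
  -- ψ maps Q into Q
  have hψQ : ∀ q : Q, ψ ⟨q.1, hQle q.2⟩ ∈ Q := by
    intro q
    have : ψ ⟨q.1, hQle q.2⟩ ∈ (Q.subgroupOf (P ⊔ Q)).map ψ := by
      refine ⟨⟨q.1, hQle q.2⟩, ?_, rfl⟩
      rw [SetLike.mem_coe, Subgroup.mem_subgroupOf]
      exact q.2
    rw [hmap] at this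
    exact this
  let f : Q →* Q :=
    { toFun := fun q => ⟨ψ ⟨q.1, hQle q.2⟩, hψQ q⟩
      map_one' := by
        apply Subtype.ext
        show ψ ⟨(1 : Q).1, _⟩ = 1
        have : (⟨((1 : Q) : Ω), hQle (1 : Q).2⟩ : ↥(P ⊔ Q)) = 1 := rfl
        rw [this, map_one]
      map_mul' := by
        intro a b
        apply Subtype.ext
        show ψ ⟨(a * b).1, _⟩ = ψ ⟨a.1, _⟩ * ψ ⟨b.1, _⟩
        rw [← map_mul]
        rfl }
  have hfinj : Function.Injective f := by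
    intro a b h
    have h1 : ψ ⟨a.1, hQle a.2⟩ = ψ ⟨b.1, hQle b.2⟩ := congrArg Subtype.val h
    have h2 := F.injective_of_mem hψ h1
    apply Subtype.ext
    exact congrArg (fun z : ↥(P ⊔ Q) => (z : Ω)) h2
  have hfsurj : Function.Surjective f := by
    intro y
    have hy : y.1 ∈ (Q.subgroupOf (P ⊔ Q)).map ψ := by rw [hmap]; exact y.2
    obtain ⟨x, hx, hxy⟩ := hy
    rw [SetLike.mem_coe, Subgroup.mem_subgroupOf] at hx
    refine ⟨⟨x.1, hx⟩, ?_⟩
    apply Subtype.ext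
    exact hxy
  let α : Q ≃* Q := MulEquiv.ofBijective f ⟨hfinj, hfsurj⟩
  have hchar := hU.fixed α
  have hiff : ∀ q : Q, ψ ⟨q.1, hQle q.2⟩ ∈ U ↔ q.1 ∈ U := by
    intro q
    have h1 : q ∈ (U.subgroupOf Q).comap α.toMonoidHom ↔ q ∈ U.subgroupOf Q := by rw [hchar]
    rw [Subgroup.mem_comap, Subgroup.mem_subgroupOf, Subgroup.mem_subgroupOf] at h1
    exact h1
  refine ⟨ψ.comp (Subgroup.inclusion hle), Fusion.restrict_mem F hψ hle, ?_, ?_⟩
  · intro x
    rw [← hext x]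
    rfl
  · ext y
    constructor
    · rintro ⟨x, hx, rfl⟩
      rw [SetLike.mem_coe, Subgroup.mem_subgroupOf] at hx
      exact (hiff ⟨x.1, hUQ hx⟩).mpr hx
    · intro hy
      obtain ⟨q, hq⟩ := hfsurj ⟨y, hUQ hy⟩
      have hq' : ψ ⟨q.1, hQle q.2⟩ = y := congrArg Subtype.val hq
      have hqU : q.1 ∈ U := (hiff q).mp (by rw [hq']; exact hy)
      refine ⟨⟨q.1, (le_sup_right : U ≤ P ⊔ U) hqU⟩, ?_, ?_⟩
      · rw [SetLike.mem_coe, Subgroup.mem_subgroupOf]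
        exact hqU
      · exact hq'

end Cfsg.Agent.S5085
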