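import Cfsg.Statements.S5122
import Mathlib
import Cfsg.Agent.Lead.GroupFusion
import Cfsg.Agent.Lead.AutInduced

set_option autoImplicit false
open Cfsg

namespace Cfsg.Agent.S5122

open Cfsg.Agent.Lead Cfsg.FusionSystem

variable {G : Type*} [Group G] [Finite G] {p : ℕ} [Fact p.Prime]

lemma part1 (S : Sylow p G) (P : Subgroup G) (hP : P ≤ S) :
    ∃ g : G, P.map (MulAut.conj g).toMonoidHom ≤ S ∧
      Nat.card (normalizerIn (S : Subgroup G) (P.map (MulAut.conj g).toMonoidHom)) =
        p ^ (Nat.card (Subgroup.normalizer ((P.map (MulAut.conj g).toMonoidHom : Subgroup G) : Set G))).factorization p := by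
  have hPp : IsPGroup p P := S.isPGroup'.to_le hP
  obtain ⟨T, hPT, hTN, hTp, hTcard⟩ := exists_le_card_eq_ppart hPp (Subgroup.le_normalizer (H := P))
  obtain ⟨g, hg⟩ := exists_conj_le_sylow S T hTp
  refine ⟨g, (Subgroup.map_mono hPT).trans hg, ?_⟩
  have hNp : IsPGroup p (normalizerIn (S : Subgroup G) (P.map (MulAut.conj g).toMonoidHom)) :=
    S.isPGroup'.to_le inf_le_left
  have h1 := card_dvd_ppart_of_isPGroup hNp
    (inf_le_right : normalizerIn (S : Subgroup G) (P.map (MulAut.conj g).toMonoidHom) ≤ _)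
  apply Nat.dvd_antisymm h1
  have h2 : T.map (MulAut.conj g).toMonoidHom ≤
      normalizerIn (S : Subgroup G) (P.map (MulAut.conj g).toMonoidHom) := by
    apply le_inf hg
    rw [normalizer_map_conj]
    exact Subgroup.map_mono hTN
  have h3 := Subgroup.card_dvd_of_le h2
  rw [card_map_conj, hTcard] at h3
  rw [normalizer_map_conj, card_map_conj]
  exact h3

lemma part2 (S : Sylow p G) (Q : Subgroup G)
    (hN : Nat.card (normalizerIn (S : Subgroup G) Q) =
      p ^ (Nat.card (Subgroup.normalizer (Q : Set G))).factorization p) :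
    Nat.card (centralizerIn (S : Subgroup G) Q) =
      p ^ (Nat.card (Subgroup.centralizer (Q : Set G))).factorization p := by
  have hNp : IsPGroup p (normalizerIn (S : Subgroup G) Q) := S.isPGroup'.to_le inf_le_left
  have hnorm : Subgroup.normalizer (Q : Set G) ≤
      Subgroup.normalizer ((Subgroup.centralizer (Q : Set G) : Subgroup G) : Set G) := by
    intro s hsN
    rw [Subgroup.mem_normalizer_iff]
    intro c
    simp only [Subgroup.mem_centralizer_iff]
    constructor
    · intro hc q hq
      have hq' : s⁻¹ * q * s ∈ Q := by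
        apply (Subgroup.mem_normalizer_iff.mp hsN _).mpr
        have : s * (s⁻¹ * q * s) * s⁻¹ = q := by group
        rw [this]; exact hq
      have := hc _ hq'
      have e1 : q * (s * c * s⁻¹) = s * (s⁻¹ * q * s * c) * s⁻¹ := by group
      have e2 : s * c * s⁻¹ * q = s * (c * (s⁻¹ * q * s)) * s⁻¹ := by group
      rw [e1, e2, this]
    · intro hc q hq
      have hq' : s * q * s⁻¹ ∈ Q := (Subgroup.mem_normalizer_iff.mp hsN _).mp hq
      have := hc _ hq'
      have e1 : q * c = s⁻¹ * (s * q * s⁻¹ * (s * c * s⁻¹)) * s := by group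
      have e2 : c * q = s⁻¹ * (s * c * s⁻¹ * (s * q * s⁻¹)) * s := by group
      rw [e1, e2, this]
  have := card_inf_eq_ppart_of_normal (inf_le_right : normalizerIn (S : Subgroup G) Q ≤ _)
    (Subgroup.centralizer_le_normalizer (Q : Set G)) hnorm hNp hN
  have e : normalizerIn (S : Subgroup G) Q ⊓ Subgroup.centralizer (Q : Set G) =
      centralizerIn (S : Subgroup G) Q := by
    rw [normalizerIn, centralizerIn, inf_assoc,
      inf_eq_right.mpr (Subgroup.centralizer_le_normalizer (Q : Set G))]
  rw [← e]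
  exact this

lemma part3 (S : Sylow p G) (Q : Subgroup G)
    (hN : ∃ R : Sylow p ↥(Subgroup.normalizer (Q : Set G)),
      (R : Subgroup ↥(Subgroup.normalizer (Q : Set G))) =
        (normalizerIn (S : Subgroup G) Q).subgroupOf (Subgroup.normalizer (Q : Set G))) :
    Nat.card (autInducedBy (S : Subgroup G) Q) =
      p ^ (Nat.card (autInducedBy (⊤ : Subgroup G) Q)).factorization p := by
  obtain ⟨R, hR⟩ := hN
  have hS : autInducedBy (S : Subgroup G) Q = (R : Subgroup _).map (conjAutHom Q) := by
    rw [autInducedBy_eq_map, hR]; rfl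
  have hT : autInducedBy (⊤ : Subgroup G) Q = (conjAutHom Q).range := by
    rw [autInducedBy_eq_map, top_inf_eq, Subgroup.subgroupOf_self, MonoidHom.range_eq_map]
  rw [hS, hT]
  have hsurj : Function.Surjective (conjAutHom Q).rangeRestrict := MonoidHom.rangeRestrict_surjective _
  have h1 := (R.mapSurjective hsurj).card_eq_multiplicity
  rw [Sylow.coe_mapSurjective] at h1
  rw [← h1]
  have h2 : (R : Subgroup _).map (conjAutHom Q) =
      ((R : Subgroup _).map (conjAutHom Q).rangeRestrict).map (conjAutHom Q).range.subtype := by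
    rw [Subgroup.map_map]
    rfl
  rw [h2, Subgroup.card_map_of_injective (Subgroup.subtype_injective _)]

/-- Let G be a finite group with Sylow p-subgroup S. Every subgroup P of S has a G-conjugate Q ≤ S such that N_S(Q) is a Sylow p-subgroup of N_G(Q); and for any Q ≤ S with that property, C_S(Q) is a Sylow p-subgroup of C_G(Q) and the automorphisms of Q induced by N_S(Q) form a Sylow p-subgroup of those induced by N_G(Q). -/
theorem result {G : Type*} [Group G] [Finite G] (p : ℕ) [Fact p.Prime] (S : Sylow p G) : (∀ P : Subgroup G, P ≤ S → ∃ g : G, P.map (MulAut.conj g).toMonoidHom ≤ S ∧ (∃ R : Sylow p ↥(Subgroup.normalizer ((P.map (MulAut.conj g).toMonoidHom : Subgroup G) : Set G)), (R : Subgroup ↥(Subgroup.normalizer ((P.map (MulAut.conj g).toMonoidHom : Subgroup G) : Set G))) = (Cfsg.FusionSystem.normalizerIn (S : Subgroup G) (P.map (MulAut.conj g).toMonoidHom)).subgroupOf (Subgroup.normalizer ((P.map (MulAut.conj g).toMonoidHom : Subgroup G) : Set G)))) ∧ ∀ Q : Subgroup G, Q ≤ S → (∃ R : Sylow p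 ↥(Subgroup.normalizer (Q : Set G)), (R : Subgroup ↥(Subgroup.normalizer (Q : Set G))) = (Cfsg.FusionSystem.normalizerIn (S : Subgroup G) Q).subgroupOf (Subgroup.normalizer (Q : Set G))) → (∃ R : Sylow p ↥(Subgroup.centralizer (Q : Set G)), (R : Subgroup ↥(Subgroup.centralizer (Q : Set G))) = (Cfsg.FusionSystem.centralizerIn (S : Subgroup G) Q).subgroupOf (Subgroup.centralizer (Q : Set G))) ∧ (∃ R : Sylow p ↥(Cfsg.autInducedBy ⊤ Q), (R : Subgroup ↥(Cfsg.autInducedBy ⊤ Q)) = (Cfsg.autInducedBy (S : Subgroup G) Q).subgroupOf (Cfsg.autInducedBy ⊤ Q)) := by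
  have hNle : ∀ Q : Subgroup G, normalizerIn (S : Subgroup G) Q ≤ Subgroup.normalizer (Q : Set G) :=
    fun Q => inf_le_right
  have hCle : ∀ Q : Subgroup G, centralizerIn (S : Subgroup G) Q ≤ Subgroup.centralizer (Q : Set G) :=
    fun Q => inf_le_right
  refine ⟨?_, ?_⟩
  · intro P hP
    obtain ⟨g, hg, hcard⟩ := part1 S P hP
    refine ⟨g, hg, ?_⟩
    rw [exists_sylow_eq_subgroupOf_iff _ _ (hNle _)]
    exact hcard
  · intro Q hQ hN
    refine ⟨?_, ?_⟩
    · rw [exists_sylow_eq_subgroupOf_iff _ _ (hCle Q)]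
      apply part2 S Q
      exact (exists_sylow_eq_subgroupOf_iff _ _ (hNle Q)).mp hN
    · have hle : autInducedBy (S : Subgroup G) Q ≤ autInducedBy (⊤ : Subgroup G) Q := by
        rw [autInducedBy_eq_map, autInducedBy_eq_map]
        apply Subgroup.map_mono
        intro x hx
        rw [Subgroup.mem_subgroupOf] at hx ⊢
        exact ⟨Subgroup.mem_top _, hx.2⟩
      have : Finite Q := inferInstance
      have : Finite (MulAut Q) := inferInstance
      rw [exists_sylow_eq_subgroupOf_iff _ _ hle]
      exact part3 S Q hN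

end Cfsg.Agent.S5122
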