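import Cfsg.Statements.S5123
import Mathlib
import Cfsg.Agent.Lead.GroupFusion

set_option autoImplicit false
open Cfsg

namespace Cfsg.Agent.S5123

open Cfsg.Agent.Lead Cfsg.FusionSystem

/-- Let G be a finite group with Sylow p-subgroup S, P, Q ≤ S and g ∈ G with gPg⁻¹ = Q, and suppose N_S(Q) is a Sylow p-subgroup of N_G(Q). Let N be the set of x ∈ N_S(P) with gxg⁻¹ ∈ N_S(Q)C_G(Q). Then some h ∈ C_G(Q) satisfies (hg)N(hg)⁻¹ ≤ S. -/
theorem result {G : Type*} [Group G] [Finite G] (p : ℕ) [Fact p.Prime] (S : Sylow p G) (P Q : Subgroup G) (hP : P ≤ S) (hQ : Q ≤ S) (g : G) (hg : P.map (MulAut.conj g).toMonoidHom = Q) (hN : (∃ R : Sylow p ↥(Subgroup.normalizer (Q : Set G)), (R : Subgroup ↥(Subgroup.normalizer (Q : Set G))) = (Cfsg.FusionSystem.normalizerIn (S : Subgroup G) Q).subgroupOf (Subgroup.normalizer (Q : Set G)))) : ∃ h ∈ Subgroup.centralizer (Q : Set G), ((Cfsg.FusionSystem.normalizerIn (S : Subgroup G) P) ⊓ (Cfsg.FusionSystem.normalizerIn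 (S : Subgroup G) Q ⊔ Subgroup.centralizer (Q : Set G)).comap (MulAut.conj g).toMonoidHom).map (MulAut.conj (h * g)).toMonoidHom ≤ S := by
  set NQ := normalizerIn (S : Subgroup G) Q with hNQ
  set C := Subgroup.centralizer (Q : Set G) with hC
  set K := normalizerIn (S : Subgroup G) P ⊓ (NQ ⊔ C).comap (MulAut.conj g).toMonoidHom with hK
  have hNQle : NQ ≤ Subgroup.normalizer (Q : Set G) := inf_le_right
  have hNQp : IsPGroup p NQ := S.isPGroup'.to_le inf_le_left
  have hCle : C ≤ Subgroup.normalizer (Q : Set G) := Subgroup.centralizer_le_normalizer _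
  have hMle : NQ ⊔ C ≤ Subgroup.normalizer (Q : Set G) := sup_le hNQle hCle
  have hcardH := (exists_sylow_eq_subgroupOf_iff _ _ hNQle).mp hN
  have hcardM : Nat.card NQ = p ^ (Nat.card ↥(NQ ⊔ C)).factorization p :=
    card_eq_ppart_of_le le_sup_left hMle hNQp hcardH
  -- T = g K g⁻¹
  have hTM : K.map (MulAut.conj g).toMonoidHom ≤ NQ ⊔ C := by
    rintro _ ⟨x, hx, rfl⟩
    exact hx.2
  have hKp : IsPGroup p K := S.isPGroup'.to_le (inf_le_left.trans inf_le_left)
  have hTp : IsPGroup p (K.map (MulAut.conj g).toMonoidHom) := hKp.map _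
  obtain ⟨m, hmM, hm⟩ := exists_conj_le_of_card_eq_ppart (le_sup_left : NQ ≤ NQ ⊔ C) hcardM hTM hTp
  -- decompose m = s * c
  have hnorm : NQ ≤ Subgroup.normalizer (C : Set G) := by
    intro s hs
    have hsN : s ∈ Subgroup.normalizer (Q : Set G) := hNQle hs
    rw [Subgroup.mem_normalizer_iff]
    intro c
    simp only [hC, Subgroup.mem_centralizer_iff]
    constructor
    · intro hc q hq
      have hq' : s⁻¹ * q * s ∈ Q := by
        apply (Subgroup.mem_normalizer_iff.mp hsN _).mpr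
        have : s * (s⁻¹ * q * s) * s⁻¹ = q := by group
        rw [this]; exact hq
      have := hc _ hq'
      have e1 : q * (s * c * s⁻¹) = s * (s⁻¹ * q * s * c) * s⁻¹ := by group
      have e2 : s * c * s⁻¹ * q = s * (c * (s⁻¹ * q * s)) * s⁻¹ := by group
      rw [e1, e2, this]
    · intro hc q hq
      have hq' : s * q * s⁻¹ ∈ Q := (Subgroup.mem_normalizer_iff.mp hsN _).mp hq
      have := hc _ hq'
      have e1 : q * c = s⁻¹ * (s * q * s⁻¹ * (s * c * s⁻¹)) * s := by group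
      have e2 : c * q = s⁻¹ * (s * c * s⁻¹ * (s * q * s⁻¹)) * s := by group
      rw [e1, e2, this]
  have hmem : m ∈ ((NQ ⊔ C : Subgroup G) : Set G) := hmM
  rw [Subgroup.coe_mul_of_left_le_normalizer_right NQ C hnorm] at hmem
  obtain ⟨s, hs, c, hc, rfl⟩ := hmem
  refine ⟨c, hc, ?_⟩
  rintro _ ⟨x, hx, rfl⟩
  have h1 : (MulAut.conj (s * c)).toMonoidHom ((MulAut.conj g).toMonoidHom x) ∈ NQ :=
    hm ⟨_, ⟨x, hx, rfl⟩, rfl⟩
  have h2 : s⁻¹ * ((MulAut.conj (s * c)).toMonoidHom ((MulAut.conj g).toMonoidHom x)) * s ∈ NQ :=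
    NQ.mul_mem (NQ.mul_mem (NQ.inv_mem hs) h1) hs
  have h3 : s⁻¹ * ((MulAut.conj (s * c)).toMonoidHom ((MulAut.conj g).toMonoidHom x)) * s =
      (MulAut.conj (c * g)).toMonoidHom x := by
    simp only [MulEquiv.coe_toMonoidHom, MulAut.conj_apply]
    group
  rw [h3] at h2
  exact (inf_le_left : NQ ≤ (S : Subgroup G)) h2

end Cfsg.Agent.S5123
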