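import Cfsg.Statements.S5076
import Mathlib
import Cfsg.Agent.Lead.GroupFusion
import Cfsg.Agent.Lead.AutInduced
import Cfsg.Agent.Lead.TI
import Cfsg.Agent.S5122
import Cfsg.Agent.S5123

set_option autoImplicit false
open Cfsg

namespace Cfsg.Agent.S5076

open Cfsg.Agent.Lead Cfsg.FusionSystem

variable {G : Type*} [Group G]

lemma autGroup_groupFusionSystem (S Q : Subgroup G) (hQ : Q ≤ S) :
    (groupFusionSystem S).autGroup Q = autInducedBy ⊤ Q := by
  unfold FusionSystem.autGroup autInducedBy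
  congr 1
  ext α
  constructor
  · rintro ⟨_, _, g, hg⟩
    exact ⟨g, Subgroup.mem_top g, fun x => hg x⟩
  · rintro ⟨g, _, hg⟩
    exact ⟨hQ, fun x => hQ (α x).2, g, fun x => hg x⟩

/-- The generators of the extender of conjugation by `g` lie in `N_S(P) ∩ (N_S(Q) C_G(Q))^g`. -/
lemma extender_le [Finite G] (S P : Subgroup G) (g : G) (φ : P →* G) (hφ : ∀ x : P, φ x = g * x * g⁻¹) :
    extender S P φ ≤ normalizerIn S P ⊓
      (normalizerIn S (P.map (MulAut.conj g).toMonoidHom) ⊔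
        Subgroup.centralizer ((P.map (MulAut.conj g).toMonoidHom : Subgroup G) : Set G)).comap
          (MulAut.conj g).toMonoidHom := by
  unfold extender
  rw [Subgroup.closure_le]
  rintro x ⟨hxS, hxN, h, hhS, hh⟩
  refine Subgroup.mem_inf.mpr ⟨Subgroup.mem_inf.mpr ⟨hxS, hxN⟩, ?_⟩
  rw [Subgroup.mem_comap]
  set Q := P.map (MulAut.conj g).toMonoidHom with hQ
  -- key identity: for y ∈ P, g (x y x⁻¹) g⁻¹ = h (g y g⁻¹) h⁻¹
  have key : ∀ y ∈ P, g * (x * y * x⁻¹) * g⁻¹ = h * (g * y * g⁻¹) * h⁻¹ := by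
    intro y hy
    have hxy : x * y * x⁻¹ ∈ P := (Subgroup.mem_normalizer_iff.mp hxN y).mp hy
    have := hh ⟨y, hy⟩ hxy
    rw [hφ, hφ] at this
    exact this
  -- h maps Q into Q, hence normalizes Q
  have hmapsto : ∀ q ∈ Q, h * q * h⁻¹ ∈ Q := by
    rintro _ ⟨y, hy, rfl⟩
    have hxy : x * y * x⁻¹ ∈ P := (Subgroup.mem_normalizer_iff.mp hxN y).mp hy
    refine ⟨x * y * x⁻¹, hxy, ?_⟩
    simp only [MulEquiv.coe_toMonoidHom, MulAut.conj_apply]
    exact key y hy
  have hhN : h ∈ Subgroup.normalizer (Q : Set G) := by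
    rw [← map_conj_eq_iff_mem_normalizer']
    apply Subgroup.eq_of_le_of_card_ge
    · rintro _ ⟨q, hq, rfl⟩
      simpa using hmapsto q hq
    · exact le_of_eq (card_map_conj Q h).symm
  -- h⁻¹ * (g x g⁻¹) centralizes Q
  have hcent : h⁻¹ * (g * x * g⁻¹) ∈ Subgroup.centralizer (Q : Set G) := by
    rw [Subgroup.mem_centralizer_iff]
    rintro _ ⟨y, hy, rfl⟩
    simp only [MulEquiv.coe_toMonoidHom, MulAut.conj_apply]
    have := key y hy
    have e1 : g * y * g⁻¹ * (h⁻¹ * (g * x * g⁻¹)) = h⁻¹ * (h * (g * y * g⁻¹) * h⁻¹) * (g * x * g⁻¹) := by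
      group
    have e2 : h⁻¹ * (g * x * g⁻¹) * (g * y * g⁻¹) = h⁻¹ * (g * (x * y * x⁻¹) * g⁻¹) * (g * x * g⁻¹) := by
      group
    rw [e1, e2, this]
  have : (MulAut.conj g).toMonoidHom x = h * (h⁻¹ * (g * x * g⁻¹)) := by
    simp only [MulEquiv.coe_toMonoidHom, MulAut.conj_apply]
    group
  rw [this]
  exact Subgroup.mul_mem_sup ⟨hhS, hhN⟩ hcent

/-- The fusion system of a finite group on a Sylow p-subgroup is saturated: every subgroup of the Sylow subgroup is conjugate in the system to one that is fully automized and receptive. -/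
theorem result {G : Type*} [Group G] [Finite G] (p : ℕ) [Fact p.Prime] (S : Sylow p G) : (Cfsg.groupFusionSystem (S : Subgroup G)).IsSaturated p := by
  intro P hP
  obtain ⟨g, hQS, hN⟩ := (Cfsg.Agent.S5122.result p S).1 P hP
  set Q := P.map (MulAut.conj g).toMonoidHom with hQ
  refine ⟨Q, (groupFusionSystem_isConj_iff _ _ _).mpr ⟨hP, hQS, g, rfl⟩, ⟨hQS, ?_⟩, ⟨hQS, ?_⟩⟩
  · rw [autGroup_groupFusionSystem _ _ hQS]
    exact ((Cfsg.Agent.S5122.result p S).2 Q hQS hN).2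
  · rintro P' φ ⟨hP'S, hφS, g', hg'⟩ hrange
    have hQ' : P'.map (MulAut.conj g').toMonoidHom = Q := by
      rw [← hrange]
      ext y
      constructor
      · rintro ⟨x, hx, rfl⟩
        exact ⟨⟨x, hx⟩, hg' ⟨x, hx⟩⟩
      · rintro ⟨x, rfl⟩
        exact ⟨x.1, x.2, (hg' x).symm⟩
    obtain ⟨h, hhC, hh⟩ := Cfsg.Agent.S5123.result p S P' Q hP'S hQS g' hQ' hN
    have hext := extender_le (S : Subgroup G) P' g' φ hg'
    rw [hQ'] at hext
    have hvals : ∀ x : extender (S : Subgroup G) P' φ, (h * g') * (x : G) * (h * g')⁻¹ ∈ (S : Subgroup G) := by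
      intro x
      apply hh
      exact ⟨x.1, hext x.2, rfl⟩
    have hextS : extender (S : Subgroup G) P' φ ≤ (S : Subgroup G) :=
      hext.trans (inf_le_left.trans inf_le_left)
    refine ⟨conjHom _ (h * g'), ⟨hextS, hvals, h * g', fun x => rfl⟩, ?_⟩
    intro x hxP hxN
    show (h * g') * x * (h * g')⁻¹ = φ ⟨x, hxP⟩
    rw [hg']
    have hq : g' * x * g'⁻¹ ∈ Q := by
      rw [← hQ']
      exact ⟨x, hxP, rfl⟩
    have := (Subgroup.mem_centralizer_iff.mp hhC) _ hq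
    calc h * g' * x * (h * g')⁻¹ = h * (g' * x * g'⁻¹) * h⁻¹ := by group
      _ = (g' * x * g'⁻¹) * h * h⁻¹ := by rw [← this]
      _ = g' * x * g'⁻¹ := by group

end Cfsg.Agent.S5076
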