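import Mathlib
import Cfsg.Agent.Helper5.ZJClosed
import Cfsg.Statements.S3079
-- import your own Cfsg.Agent.* helpers here

set_option autoImplicit false
open Cfsg

namespace Cfsg.Agent.S3079

open Cfsg.Agent.Lead.ZJ Cfsg.Agent.Helper5.ZJC in
theorem isPStableOn_of_normalizer {G : Type*} [Group G] [Finite G] {p : ℕ} [Fact p.Prime]
    (hst : Cfsg.IsNormalizerPStable p G) (V : Subgroup G) [hV : V.Normal] (hVp : IsPGroup p V) :
    Cfsg.IsPStableOn p V := by
  intro a hquad
  have hN : Subgroup.normalizer (V : Set G) = ⊤ := Subgroup.normalizer_eq_top V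
  have ha : a ∈ Subgroup.normalizer (V : Set G) := by rw [hN]; exact Subgroup.mem_top a
  have h1 := hst V hVp a ha hquad
  -- the map between the two quotients
  let φ : (↥(Subgroup.normalizer (V : Set G)) ⧸
      (Subgroup.centralizer (V : Set G)).subgroupOf (Subgroup.normalizer (V : Set G))) →*
      (G ⧸ Subgroup.centralizer (V : Set G)) :=
    QuotientGroup.map _ _ (Subgroup.normalizer (V : Set G)).subtype (fun x hx => hx)
  have hφs : Function.Surjective φ := by
    intro x
    obtain ⟨g, rfl⟩ := QuotientGroup.mk_surjective x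
    have hg : g ∈ Subgroup.normalizer (V : Set G) := by rw [hN]; exact Subgroup.mem_top g
    exact ⟨QuotientGroup.mk ⟨g, hg⟩, rfl⟩
  have hle : (Cfsg.pCore p (↥(Subgroup.normalizer (V : Set G)) ⧸
      (Subgroup.centralizer (V : Set G)).subgroupOf (Subgroup.normalizer (V : Set G)))).map φ ≤
      Cfsg.pCore p (G ⧸ Subgroup.centralizer (V : Set G)) := by
    apply Cfsg.Agent.Helper1.le_pCore
    · exact Subgroup.Normal.map inferInstance φ hφs
    · exact (Cfsg.Agent.Helper1.pCore_isPGroup p).map φ
  exact hle ⟨_, h1, rfl⟩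

theorem omegaOne_map_inj {S S' : Type*} [Group S] [Group S'] (p : ℕ) (H : Subgroup S) (f : S →* S')
    (hf : Function.Injective f) :
    (Cfsg.omegaOne p H).map f = Cfsg.omegaOne p (H.map f) := by
  unfold Cfsg.omegaOne
  rw [MonoidHom.map_closure]
  congr 1
  ext y
  constructor
  · rintro ⟨x, ⟨hxH, hxp⟩, rfl⟩
    exact ⟨⟨x, hxH, rfl⟩, by rw [← map_pow, hxp, map_one]⟩
  · rintro ⟨⟨x, hxH, rfl⟩, hyp⟩
    refine ⟨x, ⟨hxH, hf ?_⟩, rfl⟩
    rw [map_pow, hyp, map_one]

/-- Glauberman's ZJ-Theorem for strongly closed subgroups, p odd. Let G be a finite group that is p-stable in the normalizer form (for every p-subgroup U and g ∈ N_G(U) with [U, g, g] = 1, the image of g lies in O_p(N_G(U)/C_G(U))), with C_G(O_p(G)) ≤ O_p(G), let P be a Sylow p-subgroup and D a subgroup of P strongly closed in P with respect to G. Then Z(J(D)) is normal in G, where J(D) is generated by the abelian subgroups of D of largest order; and so is Ω₁(Z(J_e(D))), where J_e(D) is generated by the elementary abelian subgroups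 of D of largest order. -/
theorem result {G : Type*} [Group G] [Finite G] {p : ℕ} [Fact p.Prime] (hp : p ≠ 2) (P : Sylow p G) (D : Subgroup G) (hD : Cfsg.IsStronglyClosed D (P : Subgroup G)) (hst : Cfsg.IsNormalizerPStable p G) (hc : Subgroup.centralizer ((Cfsg.pCore p G : Subgroup G) : Set G) ≤ Cfsg.pCore p G) : (Cfsg.centerThompsonAOf D).Normal ∧ (Cfsg.omegaOne p (Cfsg.centerThompsonOf p D)).Normal := by
  have hodd : Odd p := (Fact.out : p.Prime).eq_two_or_odd'.resolve_left hp
  have hst' : ∀ (V : Subgroup G) [V.Normal], IsPGroup p V → Cfsg.IsPStableOn p V :=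
    fun V _ hVp => isPStableOn_of_normalizer hst V hVp
  constructor
  · rw [← Cfsg.Agent.Lead.ZJ.inter_goodAb]
    exact Cfsg.Agent.Helper5.ZJC.inter_normal' (Cfsg.Agent.Lead.ZJ.goodAb G) hp P D hD hc hst'
  · have h1 := Cfsg.Agent.Helper5.ZJC.inter_normal' (Cfsg.Agent.Lead.ZJ.goodEA p hodd G) hp P D hD hc hst'
    rw [Cfsg.Agent.Lead.ZJ.inter_goodEA p hodd D] at h1
    have h2 : (Cfsg.omegaCenterThompson p ↥D).map D.subtype =
        Cfsg.omegaOne p (Cfsg.centerThompsonOf p D) := by
      unfold Cfsg.omegaCenterThompson Cfsg.centerThompsonOf Cfsg.thompsonSubgroupOf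
      rw [omegaOne_map_inj p _ D.subtype (Subgroup.subtype_injective D),
        Cfsg.Agent.Lead.ZJ.map_inf_centralizer]
    rwa [h2] at h1

end Cfsg.Agent.S3079
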