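import Cfsg.Statements.S1509
import Mathlib
import Cfsg.Agent.Helper6.NormTwo
import Cfsg.Agent.Helper6.IrrDegree
-- import your own Cfsg.Agent.* helpers here

set_option autoImplicit false
open Cfsg

namespace Cfsg.Agent.S1509

/-- Let α, β, γ, δ be functions on a finite group X each of which is an irreducible character or the negative of one, and u, v nonzero real numbers. Suppose ⟨α, β⟩ = ⟨γ, δ⟩ = 0, ⟨α − β, uγ − vδ⟩ = 0, α 1 = β 1 and u γ 1 = v δ 1. Then also ⟨α, γ⟩ = ⟨α, δ⟩ = ⟨β, γ⟩ = ⟨β, δ⟩ = 0. -/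
theorem result {X : Type*} [Group X] [Fintype X] (α β γ δ : X → ℂ) (hα : Cfsg.IsIrrCharacter X α ∨ Cfsg.IsIrrCharacter X (-α)) (hβ : Cfsg.IsIrrCharacter X β ∨ Cfsg.IsIrrCharacter X (-β)) (hγ : Cfsg.IsIrrCharacter X γ ∨ Cfsg.IsIrrCharacter X (-γ)) (hδ : Cfsg.IsIrrCharacter X δ ∨ Cfsg.IsIrrCharacter X (-δ)) (u v : ℝ) (hu : u ≠ 0) (hv : v ≠ 0) (hab : Cfsg.classInner α β = 0) (hcd : Cfsg.classInner γ δ = 0) (hmix : Cfsg.classInner (α - β) ((u : ℂ) • γ - (v : ℂ) • δ) = 0) (h1 : α 1 = β 1) (h2 : (u : ℂ) * γ 1 = (v : ℂ) * δ 1) : Cfsg.classInner α γ = 0 ∧ Cfsg.classInner α δ = 0 ∧ Cfsg.classInner β γ = 0 ∧ Cfsg.classInner β δ = 0 := by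
  classical
  -- signed irreducible characters
  have hsgn : ∀ f : X → ℂ, (Cfsg.IsIrrCharacter X f ∨ Cfsg.IsIrrCharacter X (-f)) →
      ∃ (s : ℂ) (χ : X → ℂ), (s = 1 ∨ s = -1) ∧ Cfsg.IsIrrCharacter X χ ∧ f = s • χ := by
    intro f hf
    rcases hf with h | h
    · exact ⟨1, f, Or.inl rfl, h, by rw [one_smul]⟩
    · exact ⟨-1, -f, Or.inr rfl, h, by simp⟩
  have hconj : ∀ s : ℂ, (s = 1 ∨ s = -1) → (starRingEnd ℂ) s = s := by
    rintro s (rfl | rfl) <;> simp
  have hsq : ∀ s : ℂ, (s = 1 ∨ s = -1) → s * s = 1 := by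
    rintro s (rfl | rfl) <;> simp
  have hne0 : ∀ s : ℂ, (s = 1 ∨ s = -1) → s ≠ 0 := by
    rintro s (rfl | rfl) <;> simp
  -- inner products of signed irreducibles
  have hcases : ∀ f₁ f₂ : X → ℂ, (Cfsg.IsIrrCharacter X f₁ ∨ Cfsg.IsIrrCharacter X (-f₁)) →
      (Cfsg.IsIrrCharacter X f₂ ∨ Cfsg.IsIrrCharacter X (-f₂)) →
      Cfsg.classInner f₁ f₂ = 0 ∨ ∃ s : ℂ, (s = 1 ∨ s = -1) ∧ f₁ = s • f₂ ∧ f₂ = s • f₁ := by
    intro f₁ f₂ h₁ h₂
    obtain ⟨s₁, χ₁, hs₁, hχ₁, rfl⟩ := hsgn f₁ h₁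
    obtain ⟨s₂, χ₂, hs₂, hχ₂, rfl⟩ := hsgn f₂ h₂
    by_cases h : χ₁ = χ₂
    · right
      subst h
      refine ⟨s₁ * s₂, ?_, ?_, ?_⟩
      · rcases hs₁ with rfl | rfl <;> rcases hs₂ with rfl | rfl <;> simp
      · rw [smul_smul, mul_assoc, hsq s₂ hs₂, mul_one]
      · rw [smul_smul, mul_comm s₁ s₂, mul_assoc, hsq s₁ hs₁, mul_one]
    · left
      rw [Cfsg.Agent.Helper6.classInner_smul_left, Cfsg.Agent.Helper6.classInner_smul_right,
        Cfsg.Agent.Helper6.classInner_irr_ne hχ₁ hχ₂ h, mul_zero, mul_zero]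
  have hdeg : ∀ f : X → ℂ, (Cfsg.IsIrrCharacter X f ∨ Cfsg.IsIrrCharacter X (-f)) → f 1 ≠ 0 := by
    intro f hf
    obtain ⟨s, χ, hs, hχ, rfl⟩ := hsgn f hf
    simp only [Pi.smul_apply, smul_eq_mul]
    exact mul_ne_zero (hne0 s hs) (Cfsg.Agent.Helper6.IsIrrCharacter.apply_one_ne_zero hχ)
  have hself : ∀ f : X → ℂ, (Cfsg.IsIrrCharacter X f ∨ Cfsg.IsIrrCharacter X (-f)) →
      Cfsg.classInner f f = 1 := by
    intro f hf
    obtain ⟨s, χ, hs, hχ, rfl⟩ := hsgn f hf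
    rw [Cfsg.Agent.Helper6.classInner_smul_left, Cfsg.Agent.Helper6.classInner_smul_right,
      Cfsg.Agent.Helper6.classInner_irr_self hχ, hconj s hs, mul_one, hsq s hs]
  have hba : Cfsg.classInner β α = 0 := by
    rw [Cfsg.Agent.Helper6.classInner_conj_symm, hab, map_zero]
  have hdc : Cfsg.classInner δ γ = 0 := by
    rw [Cfsg.Agent.Helper6.classInner_conj_symm, hcd, map_zero]
  -- the mixed relation
  have hmix' : (u : ℂ) * Cfsg.classInner α γ - (v : ℂ) * Cfsg.classInner α δ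
      - (u : ℂ) * Cfsg.classInner β γ + (v : ℂ) * Cfsg.classInner β δ = 0 := by
    rw [Cfsg.Agent.Helper6.classInner_sub_left, Cfsg.Agent.Helper6.classInner_sub_right,
      Cfsg.Agent.Helper6.classInner_sub_right, Cfsg.Agent.Helper6.classInner_smul_right,
      Cfsg.Agent.Helper6.classInner_smul_right, Cfsg.Agent.Helper6.classInner_smul_right,
      Cfsg.Agent.Helper6.classInner_smul_right, Complex.conj_ofReal, Complex.conj_ofReal] at hmix
    linear_combination hmix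
  have huC : (u : ℂ) ≠ 0 := by exact_mod_cast hu
  have hvC : (v : ℂ) ≠ 0 := by exact_mod_cast hv
  -- the two basic contradictions
  have caseA : Cfsg.classInner α γ ≠ 0 → False := by
    intro ha
    rcases hcases α γ hα hγ with h0 | ⟨s, hs, hαγ, hγα⟩
    · exact ha h0
    have hb : Cfsg.classInner α δ = 0 := by
      rw [hαγ, Cfsg.Agent.Helper6.classInner_smul_left, hcd, mul_zero]
    have hc : Cfsg.classInner β γ = 0 := by
      rw [hγα, Cfsg.Agent.Helper6.classInner_smul_right, hba, mul_zero]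
    have ha' : Cfsg.classInner α γ = s := by
      rw [hαγ, Cfsg.Agent.Helper6.classInner_smul_left, hself γ hγ, mul_one]
    rw [hb, hc, ha'] at hmix'
    rcases hcases β δ hβ hδ with h0 | ⟨t, ht, hβδ, hδβ⟩
    · rw [h0] at hmix'
      have : (u : ℂ) * s = 0 := by linear_combination hmix'
      exact (mul_ne_zero huC (hne0 s hs)) this
    have hd' : Cfsg.classInner β δ = t := by
      rw [hβδ, Cfsg.Agent.Helper6.classInner_smul_left, hself δ hδ, mul_one]
    rw [hd'] at hmix'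
    have e1 : s * γ 1 = t * δ 1 := by
      have h3 := congrFun hαγ 1
      have h4 := congrFun hβδ 1
      simp only [Pi.smul_apply, smul_eq_mul] at h3 h4
      rw [← h3, ← h4, h1]
    have hδ1 : δ 1 ≠ 0 := hdeg δ hδ
    -- u s = v t from the degrees, u s = - v t from the relation
    have e2 : (u : ℂ) * s = (v : ℂ) * t := by
      have e3 : (u : ℂ) * s * (t * δ 1) = (v : ℂ) * t * (t * δ 1) := by
        calc (u : ℂ) * s * (t * δ 1) = (u : ℂ) * s * (s * γ 1) := by rw [e1]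
          _ = (s * s) * ((u : ℂ) * γ 1) := by ring
          _ = (v : ℂ) * δ 1 := by rw [hsq s hs, one_mul, h2]
          _ = (t * t) * ((v : ℂ) * δ 1) := by rw [hsq t ht, one_mul]
          _ = (v : ℂ) * t * (t * δ 1) := by ring
      exact mul_right_cancel₀ (mul_ne_zero (hne0 t ht) hδ1) e3
    have : (v : ℂ) * t = 0 := by linear_combination (1/2 : ℂ) * hmix' - (1/2 : ℂ) * e2
    exact (mul_ne_zero hvC (hne0 t ht)) this
  have caseB : Cfsg.classInner α δ ≠ 0 → False := by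
    intro hb
    rcases hcases α δ hα hδ with h0 | ⟨s, hs, hαδ, hδα⟩
    · exact hb h0
    have ha : Cfsg.classInner α γ = 0 := by
      rw [hαδ, Cfsg.Agent.Helper6.classInner_smul_left, hdc, mul_zero]
    have hd : Cfsg.classInner β δ = 0 := by
      rw [hδα, Cfsg.Agent.Helper6.classInner_smul_right, hba, mul_zero]
    have hb' : Cfsg.classInner α δ = s := by
      rw [hαδ, Cfsg.Agent.Helper6.classInner_smul_left, hself δ hδ, mul_one]
    rw [ha, hd, hb'] at hmix'
    rcases hcases β γ hβ hγ with h0 | ⟨t, ht, hβγ, hγβ⟩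
    · rw [h0] at hmix'
      have : (v : ℂ) * s = 0 := by linear_combination -hmix'
      exact (mul_ne_zero hvC (hne0 s hs)) this
    have hc' : Cfsg.classInner β γ = t := by
      rw [hβγ, Cfsg.Agent.Helper6.classInner_smul_left, hself γ hγ, mul_one]
    rw [hc'] at hmix'
    have e1 : s * δ 1 = t * γ 1 := by
      have h3 := congrFun hαδ 1
      have h4 := congrFun hβγ 1
      simp only [Pi.smul_apply, smul_eq_mul] at h3 h4
      rw [← h3, ← h4, h1]
    have hγ1 : γ 1 ≠ 0 := hdeg γ hγ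
    have e2 : (u : ℂ) * t = (v : ℂ) * s := by
      have e3 : (u : ℂ) * t * (t * γ 1) = (v : ℂ) * s * (t * γ 1) := by
        calc (u : ℂ) * t * (t * γ 1) = (t * t) * ((u : ℂ) * γ 1) := by ring
          _ = (v : ℂ) * δ 1 := by rw [hsq t ht, one_mul, h2]
          _ = (s * s) * ((v : ℂ) * δ 1) := by rw [hsq s hs, one_mul]
          _ = (v : ℂ) * s * (s * δ 1) := by ring
          _ = (v : ℂ) * s * (t * γ 1) := by rw [e1]
      exact mul_right_cancel₀ (mul_ne_zero (hne0 t ht) hγ1) e3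
    have : (v : ℂ) * s = 0 := by linear_combination (-1/2 : ℂ) * hmix' - (1/2 : ℂ) * e2
    exact (mul_ne_zero hvC (hne0 s hs)) this
  have hA : Cfsg.classInner α γ = 0 := by
    by_contra h; exact caseA h
  have hB : Cfsg.classInner α δ = 0 := by
    by_contra h; exact caseB h
  rw [hA, hB] at hmix'
  refine ⟨hA, hB, ?_, ?_⟩
  · by_contra hc
    rcases hcases β γ hβ hγ with h0 | ⟨t, ht, hβγ, hγβ⟩
    · exact hc h0
    have hd : Cfsg.classInner β δ = 0 := by
      rw [hβγ, Cfsg.Agent.Helper6.classInner_smul_left, hcd, mul_zero]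
    have hc' : Cfsg.classInner β γ = t := by
      rw [hβγ, Cfsg.Agent.Helper6.classInner_smul_left, hself γ hγ, mul_one]
    rw [hd, hc'] at hmix'
    have : (u : ℂ) * t = 0 := by linear_combination -hmix'
    exact (mul_ne_zero huC (hne0 t ht)) this
  · by_contra hd
    rcases hcases β δ hβ hδ with h0 | ⟨t, ht, hβδ, hδβ⟩
    · exact hd h0
    have hc : Cfsg.classInner β γ = 0 := by
      rw [hβδ, Cfsg.Agent.Helper6.classInner_smul_left, hdc, mul_zero]
    have hd' : Cfsg.classInner β δ = t := by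
      rw [hβδ, Cfsg.Agent.Helper6.classInner_smul_left, hself δ hδ, mul_one]
    rw [hc, hd'] at hmix'
    have : (v : ℂ) * t = 0 := by linear_combination hmix'
    exact (mul_ne_zero hvC (hne0 t ht)) this

end Cfsg.Agent.S1509
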