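import Cfsg.Statements.S0198
import Mathlib
import Cfsg.Agent.Helper6.NormTwo
import Cfsg.Agent.Helper6.OddReal
-- import your own Cfsg.Agent.* helpers here

set_option autoImplicit false
open Cfsg

namespace Cfsg.Agent.S0198

/-- The isometry lemma behind exceptional characters. Let τ be a family of generalized characters of a finite group G indexed by Fin n, with τ i₀ = 0, every τ i vanishing at the identity, and inner products ⟨τ i, τ j⟩ = 2 if i = j and 1 otherwise for i, j ≠ i₀. Then there are a sign ε and pairwise distinct irreducible characters μ i with τ i = ε (μ i − μ i₀) for all i. -/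
theorem result {G : Type*} [Group G] [Fintype G] (n : ℕ) (i₀ : Fin n) (τ : Fin n → (G → ℂ)) (h0 : τ i₀ = 0) (hgen : ∀ i, Cfsg.IsGeneralizedCharacter G (τ i)) (hone : ∀ i, τ i 1 = 0) (hgram : ∀ i j, i ≠ i₀ → j ≠ i₀ → Cfsg.classInner (τ i) (τ j) = if i = j then 2 else 1) : ∃ ε : ℂ, (ε = 1 ∨ ε = -1) ∧ ∃ μ : Fin n → (G → ℂ), (∀ i, Cfsg.IsIrrCharacter G (μ i)) ∧ Function.Injective μ ∧ ∀ i, τ i = ε • (μ i - μ i₀) := by
  classical
  have hdec : ∀ i, i ≠ i₀ → ∃ a b : G → ℂ, Cfsg.IsIrrCharacter G a ∧ Cfsg.IsIrrCharacter G b ∧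
      a ≠ b ∧ τ i = a - b := by
    intro i hi
    exact Cfsg.Agent.Helper6.exists_sub_of_norm_two (hgen i) (by simpa using hgram i i hi hi)
      (hone i)
  choose! a b ha hb hab hτ using hdec
  have hpair : ∀ i j, i ≠ i₀ → j ≠ i₀ → i ≠ j → a i ≠ b j ∧ b i ≠ a j ∧
      (a i = a j ∨ b i = b j) ∧ ¬(a i = a j ∧ b i = b j) := by
    intro i j hi hj hij
    apply Cfsg.Agent.Helper6.irr_diff_gram (ha i hi) (hb i hi) (ha j hj) (hb j hj) (hab i hi)
      (hab j hj)
    rw [← hτ i hi, ← hτ j hj, hgram i j hi hj, if_neg hij]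
  by_cases hex : ∃ i₁, i₁ ≠ i₀
  swap
  · push Not at hex
    refine ⟨1, Or.inl rfl, fun _ => fun _ => 1, fun _ => Cfsg.Agent.Helper6.isIrrCharacter_one,
      ?_, ?_⟩
    · intro i j _
      rw [hex i, hex j]
    · intro i
      rw [hex i, h0]
      simp
  obtain ⟨i₁, hi₁⟩ := hex
  have hcomb := Cfsg.Agent.Helper6.all_eq_or_all_eq (ι := {i : Fin n // i ≠ i₀})
    (fun i => a i.1) (fun i => b i.1) (by
      intro i j hij
      exact (hpair i.1 j.1 i.2 j.2 (fun e => hij (Subtype.ext e))).2.2.1)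
  rcases hcomb with hA | hB | ⟨i, j, hij, h1, h2⟩
  · refine ⟨-1, Or.inr rfl, fun i => if i = i₀ then a i₁ else b i, ?_, ?_, ?_⟩
    · intro i
      show Cfsg.IsIrrCharacter G (if i = i₀ then a i₁ else b i)
      split_ifs with h
      · exact ha i₁ hi₁
      · exact hb i h
    · intro i j hij
      by_contra hne
      by_cases hi : i = i₀ <;> by_cases hj : j = i₀
      · exact hne (hi.trans hj.symm)
      · simp only [hi, hj, if_true, if_false] at hij
        exact hab j hj ((hA ⟨j, hj⟩ ⟨i₁, hi₁⟩).trans hij)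
      · simp only [hi, hj, if_true, if_false] at hij
        exact hab i hi ((hA ⟨i, hi⟩ ⟨i₁, hi₁⟩).trans hij.symm)
      · simp only [hi, hj, if_false] at hij
        exact (hpair i j hi hj hne).2.2.2 ⟨hA ⟨i, hi⟩ ⟨j, hj⟩, hij⟩
    · intro i
      by_cases hi : i = i₀
      · rw [hi, h0]
        simp
      · simp only [hi, if_false, if_true]
        rw [hτ i hi]
        have := hA ⟨i, hi⟩ ⟨i₁, hi₁⟩
        simp only at this
        rw [this]
        simp
  · refine ⟨1, Or.inl rfl, fun i => if i = i₀ then b i₁ else a i, ?_, ?_, ?_⟩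
    · intro i
      show Cfsg.IsIrrCharacter G (if i = i₀ then b i₁ else a i)
      split_ifs with h
      · exact hb i₁ hi₁
      · exact ha i h
    · intro i j hij
      by_contra hne
      by_cases hi : i = i₀ <;> by_cases hj : j = i₀
      · exact hne (hi.trans hj.symm)
      · simp only [hi, hj, if_true, if_false] at hij
        exact hab j hj (hij.symm.trans (hB ⟨i₁, hi₁⟩ ⟨j, hj⟩))
      · simp only [hi, hj, if_true, if_false] at hij
        exact hab i hi (hij.trans (hB ⟨i₁, hi₁⟩ ⟨i, hi⟩))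
      · simp only [hi, hj, if_false] at hij
        exact (hpair i j hi hj hne).2.2.2 ⟨hij, hB ⟨i, hi⟩ ⟨j, hj⟩⟩
    · intro i
      by_cases hi : i = i₀
      · rw [hi, h0]
        simp
      · simp only [hi, if_false, if_true]
        rw [hτ i hi]
        have := hB ⟨i, hi⟩ ⟨i₁, hi₁⟩
        simp only at this
        rw [this]
        simp
  · exfalso
    exact (hpair i.1 j.1 i.2 j.2 (fun e => hij (Subtype.ext e))).2.2.2 ⟨h1, h2⟩

end Cfsg.Agent.S0198
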