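import Mathlib
import Cfsg.Statements.S0031

set_option autoImplicit false
open Cfsg

namespace Cfsg.Agent.S0031

/-- A fixed-point-free automorphism of a finite group maps some Sylow p-subgroup to itself. -/
theorem result {G : Type*} [Group G] [Finite G] (φ : G ≃* G)
    (hφ : MonoidHom.FixedPointFree (φ : G →* G)) (p : ℕ) [Fact p.Prime] :
    ∃ P : Sylow p G, (P : Subgroup G).map (φ : G →* G) = P := by
  obtain ⟨P₀⟩ : Nonempty (Sylow p G) := inferInstance
  obtain ⟨g, hg⟩ := MulAction.exists_smul_eq G P₀ (φ • P₀)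
  obtain ⟨y, hy⟩ := hφ.commutatorMap_surjective g⁻¹
  have hy' : y * (φ y)⁻¹ = g⁻¹ := by
    simpa [MonoidHom.commutatorMap_apply, div_eq_mul_inv] using hy
  set x := y⁻¹ with hx
  have hxg : φ x * g = x := by
    rw [hx, map_inv]
    have : g = φ y * y⁻¹ := by
      have := congrArg (·⁻¹) hy'
      simpa using this.symm
    rw [this]; group
  have hconj : φ * MulAut.conj x = MulAut.conj (φ x) * φ := by
    ext z
    simp [MulAut.mul_apply, MulAut.conj_apply, map_mul, map_inv]
  refine ⟨x • P₀, ?_⟩
  have h1 : φ • (x • P₀) = x • P₀ := by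
    rw [Sylow.smul_def, ← mul_smul, hconj, mul_smul, ← hg, Sylow.smul_def, ← mul_smul,
      ← map_mul, hxg]
  have h2 := congrArg (fun Q : Sylow p G => (Q : Subgroup G)) h1
  simp only [Sylow.pointwise_smul_def] at h2
  exact h2

end Cfsg.Agent.S0031
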