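import Mathlib
import Cfsg.Statements.S0032

set_option autoImplicit false
open Cfsg

namespace Cfsg.Agent.S0032

/-- If an automorphism of a finite group fixes only the identity and maps a normal subgroup N into itself, then the only cosets of N it fixes are those in N: a fixed coset xN forces x ∈ N. -/
theorem result {G : Type*} [Group G] [Finite G] (φ : G ≃* G)
    (hφ : MonoidHom.FixedPointFree (φ : G →* G)) (N : Subgroup G) [N.Normal] (hN : ∀ n ∈ N, φ n ∈ N)
    (x : G) (hx : (φ x)⁻¹ * x ∈ N) : x ∈ N := by
  let c : G → G := fun y => (φ y)⁻¹ * y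
  have hc_inj : Function.Injective c := by
    intro a b hab
    have h1 : φ (b * a⁻¹) = b * a⁻¹ := by
      have h2 : (φ a)⁻¹ * a = (φ b)⁻¹ * b := hab
      rw [map_mul, map_inv]
      have h3 : φ b * ((φ a)⁻¹ * a) = b := by rw [h2]; group
      calc φ b * (φ a)⁻¹ = (φ b * ((φ a)⁻¹ * a)) * a⁻¹ := by group
        _ = b * a⁻¹ := by rw [h3]
    have h4 := hφ _ h1
    have : b = a := by
      have := congrArg (· * a) h4
      simpa using this
    exact this.symm
  let c' : N → N := fun n => ⟨c n, N.mul_mem (N.inv_mem (hN n n.2)) n.2⟩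
  have hc'_inj : Function.Injective c' := by
    intro a b hab
    apply Subtype.ext
    apply hc_inj
    exact congrArg Subtype.val hab
  have hc'_surj : Function.Surjective c' := Finite.surjective_of_injective hc'_inj
  obtain ⟨n, hn⟩ := hc'_surj ⟨c x, hx⟩
  have h5 : c n = c x := congrArg Subtype.val hn
  have h6 : (n : G) = x := hc_inj h5
  rw [← h6]; exact n.2

end Cfsg.Agent.S0032
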