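import Cfsg.Statements.S1529
import Mathlib
import Cfsg.Agent.Helper6.NormOne
-- import your own Cfsg.Agent.* helpers here

set_option autoImplicit false
open Cfsg

namespace Cfsg.Agent.S1529

/-- Let N be a subgroup of the finite group G, S a set of irreducible characters of N with at least two members, and τ₁ a linear isometry on the integer combinations of S with virtual-character values such that τ₁ α vanishes at 1 whenever α ∈ ℤ[S] does. Then there is ε ∈ {1, −1} such that ε • τ₁ χ is an irreducible character of G for every χ ∈ S, and distinct members of S give distinct characters. -/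
theorem result {G : Type*} [Group G] [Fintype G] (N : Subgroup G) [Fintype N] (S : Set (N → ℂ)) (hirr : ∀ χ ∈ S, Cfsg.IsIrrCharacter N χ) (htwo : ∃ χ ∈ S, ∃ ψ ∈ S, χ ≠ ψ) (τ₁ : (N → ℂ) → (G → ℂ)) (hτ₁ : Cfsg.IsLinearIsometryOn (Cfsg.zspan S) τ₁) (h0 : ∀ α ∈ Cfsg.zspan S, α 1 = 0 → τ₁ α 1 = 0) : ∃ ε : ℂ, (ε = 1 ∨ ε = -1) ∧ (∀ χ ∈ S, Cfsg.IsIrrCharacter G (ε • τ₁ χ)) ∧ (∀ χ ∈ S, ∀ ψ ∈ S, τ₁ χ = τ₁ ψ → χ = ψ) := by
  classical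
  obtain ⟨hadd, hsmul, hiso, hgen⟩ := hτ₁
  have hE : ∀ χ ∈ S, χ ∈ Cfsg.zspan S := fun χ hχ => Submodule.subset_span hχ
  -- each τ₁ χ is a signed irreducible character
  have hsigned : ∀ χ ∈ S, ∃ (μ : G → ℂ) (s : ℤ) (m : ℕ), Cfsg.IsIrrCharacter G μ ∧
      (s = 1 ∨ s = -1) ∧ τ₁ χ = (s : ℂ) • μ ∧ μ 1 = m ∧ 0 < m := by
    intro χ hχ
    have hnorm : Cfsg.classInner (τ₁ χ) (τ₁ χ) = 1 := by
      rw [hiso χ (hE χ hχ) χ (hE χ hχ), Cfsg.Agent.Helper6.classInner_irr_self (hirr χ hχ)]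
    obtain ⟨μ, hμ, hor⟩ := Cfsg.Agent.Helper6.exists_signed_irr_of_norm_one
      (hgen χ (hE χ hχ)) hnorm
    obtain ⟨m, hm, -, hmpos⟩ := Cfsg.Agent.Helper6.IsIrrCharacter.degree_dvd_card hμ
    rcases hor with h | h
    · exact ⟨μ, 1, m, hμ, Or.inl rfl, by rw [h]; simp, hm, hmpos⟩
    · exact ⟨μ, -1, m, hμ, Or.inr rfl, by rw [h]; simp, hm, hmpos⟩
  -- the degree relation
  have hrel : ∀ χ ∈ S, ∀ ψ ∈ S, ∀ dχ dψ : ℕ, χ 1 = dχ → ψ 1 = dψ →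
      (dψ : ℂ) * τ₁ χ 1 = (dχ : ℂ) * τ₁ ψ 1 := by
    intro χ hχ ψ hψ dχ dψ hdχ hdψ
    have h1 : ((dψ : ℤ) • χ) ∈ Cfsg.zspan S := Submodule.smul_mem _ _ (hE χ hχ)
    have h2 : ((-(dχ : ℤ)) • ψ) ∈ Cfsg.zspan S := Submodule.smul_mem _ _ (hE ψ hψ)
    have h3 : ((dψ : ℤ) • χ + (-(dχ : ℤ)) • ψ) ∈ Cfsg.zspan S := Submodule.add_mem _ h1 h2
    have hval : ((dψ : ℤ) • χ + (-(dχ : ℤ)) • ψ) 1 = 0 := by
      have : ((dψ : ℤ) • χ + (-(dχ : ℤ)) • ψ) 1 = (dψ : ℤ) • χ 1 + (-(dχ : ℤ)) • ψ 1 := rfl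
      rw [this, hdχ, hdψ, zsmul_eq_mul, zsmul_eq_mul]
      push_cast
      ring
    have h4 := h0 _ h3 hval
    rw [hadd _ h1 _ h2, hsmul χ (hE χ hχ), hsmul ψ (hE ψ hψ)] at h4
    have h5 : ((dψ : ℤ) • τ₁ χ + (-(dχ : ℤ)) • τ₁ ψ) 1 =
        (dψ : ℤ) • τ₁ χ 1 + (-(dχ : ℤ)) • τ₁ ψ 1 := rfl
    rw [h5, zsmul_eq_mul, zsmul_eq_mul] at h4
    push_cast at h4
    linear_combination h4
  obtain ⟨χ₀, hχ₀, -, -, -⟩ := htwo
  obtain ⟨μ₀, s₀, m₀, hμ₀, hs₀, hτχ₀, hm₀, hm₀pos⟩ := hsigned χ₀ hχ₀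
  obtain ⟨d₀, hd₀, -, hd₀pos⟩ := Cfsg.Agent.Helper6.IsIrrCharacter.degree_dvd_card (hirr χ₀ hχ₀)
  refine ⟨(s₀ : ℂ), ?_, ?_, ?_⟩
  · rcases hs₀ with h | h
    · left; rw [h]; simp
    · right; rw [h]; simp
  · intro χ hχ
    obtain ⟨μ, s, m, hμ, hs, hτχ, hm, hmpos⟩ := hsigned χ hχ
    obtain ⟨d, hd, -, hdpos⟩ := Cfsg.Agent.Helper6.IsIrrCharacter.degree_dvd_card (hirr χ hχ)
    have h := hrel χ hχ χ₀ hχ₀ d d₀ hd hd₀
    rw [hτχ, hτχ₀] at h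
    simp only [Pi.smul_apply, smul_eq_mul, hm, hm₀] at h
    have hZ : (d₀ : ℤ) * (s * m) = (d : ℤ) * (s₀ * m₀) := by exact_mod_cast h
    have hss : s = s₀ := by
      have p1 : (0 : ℤ) < d₀ * m := by positivity
      have p2 : (0 : ℤ) < d * m₀ := by positivity
      rcases hs with h1 | h1 <;> rcases hs₀ with h2 | h2
      · rw [h1, h2]
      · exfalso; rw [h1, h2] at hZ; nlinarith
      · exfalso; rw [h1, h2] at hZ; nlinarith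
      · rw [h1, h2]
    rw [hτχ, hss, smul_smul]
    have : (s₀ : ℂ) * (s₀ : ℂ) = 1 := by
      rcases hs₀ with h | h <;> rw [h] <;> simp
    rw [this, one_smul]
    exact hμ
  · intro χ hχ ψ hψ heq
    by_contra hne
    have h1 := hiso χ (hE χ hχ) ψ (hE ψ hψ)
    rw [Cfsg.Agent.Helper6.classInner_irr_ne (hirr χ hχ) (hirr ψ hψ) hne, heq,
      hiso ψ (hE ψ hψ) ψ (hE ψ hψ), Cfsg.Agent.Helper6.classInner_irr_self (hirr ψ hψ)] at h1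
    exact one_ne_zero h1

end Cfsg.Agent.S1529
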