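import Mathlib
import Cfsg.Statements.S0252
import Cfsg.Agent.Helper7.SL2Sylow
import Cfsg.Agent.Helper7.LinearCard

set_option autoImplicit false
open Cfsg
open scoped LinearAlgebra.Projectivization

namespace Cfsg.Agent.S0252

open Matrix

/-- PSL_2(4) is isomorphic to A_5. -/
theorem result {F : Type*} [Field F] [Fintype F] (hF : Fintype.card F = 4) : Nonempty (Matrix.ProjectiveSpecialLinearGroup (Fin 2) F ≃* alternatingGroup (Fin 5)) := by
  classical
  -- the projective line has five points
  have hX : Nat.card (ℙ F (Fin 2 → F)) = 5 := by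
    rw [Projectivization.card_of_finrank_two F (Fin 2 → F) (by simp), Nat.card_eq_fintype_card, hF]
  have : Finite (ℙ F (Fin 2 → F)) := Nat.finite_of_card_ne_zero (by rw [hX]; norm_num)
  have : Fintype (ℙ F (Fin 2 → F)) := Fintype.ofFinite _
  -- the order of `PSL_2(3)`
  have hPSL : Nat.card (ProjectiveSpecialLinearGroup (Fin 2) F) = 60 := by
    have h1 := Cfsg.Agent.Helper7.card_center_mul_card_PSL (F := F) 2 (by norm_num)
    rw [Cfsg.Agent.Helper7.SL2.card_SL2, hF] at h1
    have e1 : Nat.gcd 2 (4 - 1) = 1 := by decide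
    have e2 : 4 * (4 ^ 2 - 1) = 60 := by norm_num
    rw [e1, e2] at h1
    omega
  -- the permutation representation
  set ψ := MulAction.toPermHom (ProjectiveSpecialLinearGroup (Fin 2) F) (ℙ F (Fin 2 → F)) with hψ
  have hinj : Function.Injective ψ := MulAction.toPerm_injective
  have hrange_card : Nat.card ψ.range = 60 := by
    rw [← hPSL]
    exact (Nat.card_congr (MonoidHom.ofInjective hinj).toEquiv).symm
  have hperm : Nat.card (Equiv.Perm (ℙ F (Fin 2 → F))) = 120 := by
    rw [Nat.card_perm, hX]; rfl
  have hindex : ψ.range.index = 2 := by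
    have := Subgroup.card_mul_index ψ.range
    rw [hrange_card, hperm] at this
    omega
  have halt : ψ.range = alternatingGroup (ℙ F (Fin 2 → F)) :=
    Equiv.Perm.eq_alternatingGroup_of_index_eq_two hindex
  have e1 : ProjectiveSpecialLinearGroup (Fin 2) F ≃* ψ.range := MonoidHom.ofInjective hinj
  have e2 : ψ.range ≃* alternatingGroup (ℙ F (Fin 2 → F)) := MulEquiv.subgroupCongr halt
  have e3 : ℙ F (Fin 2 → F) ≃ Fin 5 := Finite.equivFinOfCardEq hX
  exact ⟨(e1.trans e2).trans (Equiv.altCongrHom e3)⟩

end Cfsg.Agent.S0252
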