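import Mathlib
import Cfsg.Statements.S0209
import Cfsg.Agent.Helper2.Invol

set_option autoImplicit false
open Cfsg

namespace Cfsg.Agent.S0209

open Cfsg.Agent.Helper2

/-- If x, y are involutions whose product has even order n, the element (xy)^(n/2) is an involution that commutes with x and with y. -/
theorem result {G : Type*} [Group G] [Finite G] (x y : G) (hx : orderOf x = 2) (hy : orderOf y = 2) (heven : Even (orderOf (x * y))) : orderOf ((x * y) ^ (orderOf (x * y) / 2)) = 2 ∧ Commute ((x * y) ^ (orderOf (x * y) / 2)) x ∧ Commute ((x * y) ^ (orderOf (x * y) / 2)) y := by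
  have hxx := mul_self_of_orderOf_two hx
  have hyy := mul_self_of_orderOf_two hy
  obtain ⟨m, hm⟩ := heven
  have hm' : orderOf (x * y) = 2 * m := by rw [hm]; ring
  have hpos : 0 < orderOf (x * y) := orderOf_pos _
  have hmpos : 0 < m := by omega
  have hdiv : orderOf (x * y) / 2 = m := by omega
  rw [hdiv]
  have hpow : (x * y) ^ (2 * m) = 1 := by rw [← hm']; exact pow_orderOf_eq_one _
  have hinv : (y * x) ^ m = (x * y) ^ m := by
    have h2 : (x * y) ^ m * (x * y) ^ m = 1 := by rw [← pow_add, ← two_mul, hpow]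
    have : ((x * y) ^ m)⁻¹ = (x * y) ^ m := inv_eq_of_mul_eq_one_left h2
    rw [← inv_mul_invol hxx hyy, inv_pow, this]
  refine ⟨?_, ?_, ?_⟩
  · rw [orderOf_pow_of_dvd hmpos.ne' (by rw [hm']; exact Dvd.intro_left 2 rfl), hm']
    exact Nat.mul_div_cancel 2 hmpos
  · show (x * y) ^ m * x = x * (x * y) ^ m
    rw [pow_mul_invol hxx, hinv]
  · show (x * y) ^ m * y = y * (x * y) ^ m
    rw [← hinv, pow_mul_invol hyy, hinv]

end Cfsg.Agent.S0209
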