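import Mathlib
import Cfsg.Statements.S1230
import Cfsg.Agent.Helper2.Sharp3D
import Cfsg.Agent.S1229

set_option autoImplicit false
open Cfsg

namespace Cfsg.Agent.S1230

open Cfsg.Agent.Helper2

/-- Let G be a finite group with a Sylow 2-subgroup T that is neither cyclic nor normal, such that the centralizer of every involution is an elementary abelian 2-group. Then G ≅ PSL(2,F) for a finite field F with |F| = |T|. -/
theorem result {G : Type*} [Group G] [Finite G] (T : Sylow 2 G) (hnc : ¬ IsCyclic (T : Subgroup G)) (hnn : ¬ (T : Subgroup G).Normal) (hC : ∀ t : G, orderOf t = 2 → IsMulCommutative (Subgroup.centralizer ({t} : Set G)) ∧ ∀ c ∈ Subgroup.centralizer ({t} : Set G), c ^ 2 = 1) : ∃ (F : Type) (_ : Field F) (_ : Fintype F), Fintype.card F = Nat.card T ∧ Nonempty (G ≃* Matrix.ProjectiveSpecialLinearGroup (Fin 2) F) := by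
    classical
    obtain ⟨htrans, hsharp, hreg⟩ := Cfsg.Agent.S1229.result T hnc hnn hC
    have hS : Sharp3.SharpThree G (G ⧸ Subgroup.normalizer ((T : Subgroup G) : Set G)) :=
      ⟨htrans, hsharp⟩
    have hex : ∃ x0 : G ⧸ Subgroup.normalizer ((T : Subgroup G) : Set G),
        x0 ≠ QuotientGroup.mk 1 := by
      by_contra hcon
      push_neg at hcon
      apply hnn
      have : Subgroup.normalizer ((T : Subgroup G) : Set G) = ⊤ := by
        rw [eq_top_iff]
        intro g _
        have h1 := hcon (QuotientGroup.mk g)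
        rw [QuotientGroup.eq, mul_one] at h1
        have := Subgroup.inv_mem _ h1
        rwa [inv_inv] at this
      exact Subgroup.normalizer_eq_top_iff.1 this
    have hTfix : ∀ t ∈ (T : Subgroup G),
        t • (QuotientGroup.mk 1 : G ⧸ Subgroup.normalizer ((T : Subgroup G) : Set G)) =
          QuotientGroup.mk 1 := by
      intro t ht
      rw [MulAction.Quotient.smul_mk, QuotientGroup.eq, smul_eq_mul, mul_one, mul_one]
      exact Subgroup.inv_mem _ (Subgroup.le_normalizer ht)
    obtain ⟨x0, hx0⟩ := hex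
    have hne : ∀ t : T, (t : G) • x0 ≠
        (QuotientGroup.mk 1 : G ⧸ Subgroup.normalizer ((T : Subgroup G) : Set G)) := by
      intro t ht
      rw [← hTfix t t.2] at ht
      exact hx0 (MulAction.injective _ ht)
    have hbij : Function.Bijective (fun t : T => (⟨(t : G) • x0, hne t⟩ :
        {x : G ⧸ Subgroup.normalizer ((T : Subgroup G) : Set G) // x ≠ QuotientGroup.mk 1})) := by
      constructor
      · intro t t' htt
        have h1 : (t : G) • x0 = (t' : G) • x0 := congrArg Subtype.val htt
        obtain ⟨s, -, hs⟩ := hreg x0 ((t' : G) • x0) hx0 (hne t')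
        have e1 := hs t ⟨t.2, h1⟩
        have e2 := hs t' ⟨t'.2, rfl⟩
        exact Subtype.ext (e1.trans e2.symm)
      · rintro ⟨y, hy⟩
        obtain ⟨s, ⟨hs1, hs2⟩, -⟩ := hreg x0 y hx0 hy
        exact ⟨⟨s, hs1⟩, Subtype.ext hs2⟩
    have hcard : Nat.card (G ⧸ Subgroup.normalizer ((T : Subgroup G) : Set G)) = Nat.card T + 1 := by
      rw [← Nat.card_congr (Equiv.optionSubtypeNe
        (QuotientGroup.mk 1 : G ⧸ Subgroup.normalizer ((T : Subgroup G) : Set G))),
        Finite.card_option]
      exact congrArg (· + 1) (Nat.card_eq_of_bijective _ hbij).symm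
    obtain ⟨k, hk⟩ := (IsPGroup.iff_card (p := 2) (G := T)).1 T.isPGroup'
    have hk0 : k ≠ 0 := by
      intro h0
      rw [h0, pow_zero] at hk
      haveI : Subsingleton T := (Nat.card_eq_one_iff_unique.1 hk).1
      exact hnc (isCyclic_of_subsingleton (α := T))
    have h2 : 2 ≤ 2 ^ k := by
      calc 2 = 2 ^ 1 := (pow_one 2).symm
        _ ≤ 2 ^ k := Nat.pow_le_pow_right (by norm_num) (by omega)
    obtain ⟨β, F, FT, hβ, ⟨φ⟩⟩ := hS.exists_pgl
      (by rw [hcard, hk]; exact Even.add_one ((Nat.even_pow).2 ⟨even_two, hk0⟩))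
      (by rw [hcard, hk]; omega)
    obtain ⟨F', i1, i2, hF', ⟨ψ⟩⟩ := Mobius.exists_small_field (K := β)
    have hcF : Fintype.card F' = 2 ^ k := by
      rw [hF']
      omega
    have h20 : (2 : F') = 0 := by
      have := FiniteField.cast_card_eq_zero F'
      rw [hcF, Nat.cast_pow, Nat.cast_ofNat] at this
      exact (pow_eq_zero_iff hk0).1 this
    obtain ⟨χ⟩ := Mobius.nonempty_pgl_equiv_psl (F := F') h20
    refine ⟨F', i1, i2, ?_, ⟨(φ.trans ψ).trans χ⟩⟩
    rw [hcF, hk]

end Cfsg.Agent.S1230
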