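import Cfsg.Statements.S0170
import Mathlib
import Cfsg.Agent.Helper6.NormTwo
import Cfsg.Agent.Helper6.IndFun2
import Cfsg.Agent.Helper6.Induced
import Cfsg.Agent.Helper6.Degrees
import Cfsg.Agent.S0198
-- import your own Cfsg.Agent.* helpers here

set_option autoImplicit false
open Cfsg

namespace Cfsg.Agent.S0170

/-- Exceptional characters. Let S be a subset of a finite group contained in its normalizer N and meeting its conjugates by elements outside N only in the identity. Given n ≥ 2 distinct irreducible characters of N of equal degree that vanish on N away from S, there exist a sign ε and n distinct irreducible characters θ_i of G such that inducing χ_i − χ_j to G gives ε (θ_i − θ_j) for all i, j. -/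
theorem result {G : Type*} [Group G] [Fintype G] (S : Set G) (hSN : S ⊆ Subgroup.normalizer S) (hTI : ∀ g : G, g ∉ Subgroup.normalizer S → ∀ s ∈ S, g * s * g⁻¹ ∈ S → s = 1) (n : ℕ) (hn : 2 ≤ n) (χ : Fin n → (Subgroup.normalizer S → ℂ)) (hirr : ∀ i, Cfsg.IsIrrCharacter (Subgroup.normalizer S) (χ i)) (hinj : Function.Injective χ) (hvan : ∀ i, ∀ x : Subgroup.normalizer S, (x : G) ∉ S → χ i x = 0) (hdeg : ∀ i j, χ i 1 = χ j 1) : ∃ ε : ℂ, (ε = 1 ∨ ε = -1) ∧ ∃ θ : Fin n → (G → ℂ), (∀ i, Cfsg.IsIrrCharacter G (θ i)) ∧ Function.Injective θ ∧ ∀ i j, Cfsg.indFun (Subgroup.normalizer S) (χ i) - Cfsg.indFun (Subgroup.normalizer S) (χ j) = ε • (θ i - θ j) := by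
  classical
  haveI : Fintype (Subgroup.normalizer S) := Fintype.ofFinite _
  let i₀ : Fin n := ⟨0, by omega⟩
  have hcf : ∀ i, Cfsg.IsClassFunction (Subgroup.normalizer S) (χ i) := fun i =>
    Cfsg.Agent.Helper6.IsCharacter.isClassFunction
      (Cfsg.Agent.Helper6.IsIrrCharacter.isCharacter (hirr i))
  have hτ0 : Cfsg.indFun (Subgroup.normalizer S) (χ i₀) -
      Cfsg.indFun (Subgroup.normalizer S) (χ i₀) = 0 := sub_self _
  have hmain := Cfsg.Agent.S0198.result (G := G) n i₀
    (fun i => Cfsg.indFun (Subgroup.normalizer S) (χ i) -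
      Cfsg.indFun (Subgroup.normalizer S) (χ i₀)) hτ0 ?_ ?_ ?_
  · obtain ⟨ε, hε, μ, hμirr, hμinj, hμ⟩ := hmain
    refine ⟨ε, hε, μ, hμirr, hμinj, ?_⟩
    intro i j
    have h1 := hμ i
    have h2 := hμ j
    have : Cfsg.indFun (Subgroup.normalizer S) (χ i) - Cfsg.indFun (Subgroup.normalizer S) (χ j) =
        (Cfsg.indFun (Subgroup.normalizer S) (χ i) - Cfsg.indFun (Subgroup.normalizer S) (χ i₀)) -
        (Cfsg.indFun (Subgroup.normalizer S) (χ j) -
          Cfsg.indFun (Subgroup.normalizer S) (χ i₀)) := by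
      abel
    rw [this, h1, h2, ← smul_sub]
    congr 1
    abel
  · intro i
    exact ⟨_, _, Cfsg.Agent.Helper6.isCharacter_indFun _ _
        (Cfsg.Agent.Helper6.IsIrrCharacter.isCharacter (hirr i)),
      Cfsg.Agent.Helper6.isCharacter_indFun _ _
        (Cfsg.Agent.Helper6.IsIrrCharacter.isCharacter (hirr i₀)), rfl⟩
  · intro i
    simp only [Pi.sub_apply]
    rw [Cfsg.Agent.Helper6.indFun_apply_one, Cfsg.Agent.Helper6.indFun_apply_one, hdeg i i₀,
      sub_self]
  · intro i j hi hj
    rw [← Cfsg.Agent.Helper6.indFun_sub, ← Cfsg.Agent.Helper6.indFun_sub]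
    rw [Cfsg.Agent.Helper6.indFun_TI_inner S hTI (χ i - χ i₀) (χ j - χ i₀)
      (Cfsg.Agent.Helper6.IsClassFunction.sub (hcf j) (hcf i₀))
      (fun x hx => by simp only [Pi.sub_apply, hvan i x hx, hvan i₀ x hx, sub_self])
      (fun x hx => by simp only [Pi.sub_apply, hvan j x hx, hvan i₀ x hx, sub_self])
      (by simp only [Pi.sub_apply, hdeg i i₀, sub_self])]
    rw [Cfsg.Agent.Helper6.classInner_sub_left, Cfsg.Agent.Helper6.classInner_sub_right,
      Cfsg.Agent.Helper6.classInner_sub_right,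
      Cfsg.Agent.Helper6.classInner_irr_ite (hirr i) (hirr j),
      Cfsg.Agent.Helper6.classInner_irr_ite (hirr i) (hirr i₀),
      Cfsg.Agent.Helper6.classInner_irr_ite (hirr i₀) (hirr j),
      Cfsg.Agent.Helper6.classInner_irr_ite (hirr i₀) (hirr i₀)]
    have e1 : χ i ≠ χ i₀ := fun e => hi (hinj e)
    have e2 : χ i₀ ≠ χ j := fun e => hj (hinj e).symm
    rw [if_neg e1, if_neg e2, if_pos rfl]
    by_cases hij : i = j
    · rw [if_pos hij, if_pos (congrArg χ hij)]
      norm_num
    · rw [if_neg hij, if_neg (fun e => hij (hinj e))]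
      norm_num

end Cfsg.Agent.S0170
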