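import Cfsg.Statements.S0870
import Mathlib
import Cfsg.Agent.Helper6.PermOrbits
-- import your own Cfsg.Agent.* helpers here

set_option autoImplicit false
open Cfsg

namespace Cfsg.Agent.S0870

/-- For subgroups H and K of a finite group G, the pointwise product of the functions induced from the constant function 1 on H and on K is a sum, over subgroups U of H with natural-number coefficients, of the functions induced from the constant function 1 on U. -/
theorem result {G : Type*} [Group G] [Fintype G] (H K : Subgroup G) : ∃ a : Subgroup G → ℕ, (∀ U, a U ≠ 0 → U ≤ H) ∧ Cfsg.indFun H (fun _ => 1) * Cfsg.indFun K (fun _ => 1) = ∑ U : Subgroup G, (a U : ℂ) • Cfsg.indFun U (fun _ => 1) := by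
  classical
  haveI : Fintype (G ⧸ H) := Fintype.ofFinite _
  haveI : Fintype (G ⧸ K) := Fintype.ofFinite _
  haveI : Fintype (MulAction.orbitRel.Quotient G ((G ⧸ H) × (G ⧸ K))) := Fintype.ofFinite _
  -- representatives with first coordinate the trivial coset
  have hex : ∀ ω : MulAction.orbitRel.Quotient G ((G ⧸ H) × (G ⧸ K)),
      ∃ z : (G ⧸ H) × (G ⧸ K), z.1 = ((1 : G) : G ⧸ H) ∧
        (Quotient.mk'' z : MulAction.orbitRel.Quotient G ((G ⧸ H) × (G ⧸ K))) = ω := by
    intro ω
    induction ω using Quotient.inductionOn' with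
    | h z =>
      obtain ⟨a, b⟩ := z
      induction a using QuotientGroup.induction_on with
      | H a =>
        refine ⟨a⁻¹ • ((a : G ⧸ H), b), ?_, ?_⟩
        · change a⁻¹ • (a : G ⧸ H) = _
          rw [MulAction.Quotient.smul_coe, smul_eq_mul, inv_mul_cancel]
        · rw [Quotient.eq'']
          exact MulAction.orbitRel_apply.mpr (MulAction.mem_orbit _ _)
  choose rep hrep1 hrep2 using hex
  have hperm := Helper6.permChar_eq_sum_indFun (G := G) ((G ⧸ H) × (G ⧸ K)) rep hrep2
  have hH := Helper6.permChar_eq_indFun (G := G) (G ⧸ H) ((1 : G) : G ⧸ H)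
  have hK := Helper6.permChar_eq_indFun (G := G) (G ⧸ K) ((1 : G) : G ⧸ K)
  rw [MulAction.stabilizer_quotient] at hH hK
  refine ⟨fun U => (Finset.univ.filter (fun ω => MulAction.stabilizer G (rep ω) = U)).card,
    ?_, ?_⟩
  · intro U hU
    obtain ⟨ω, hω⟩ := Finset.card_pos.mp (Nat.pos_of_ne_zero hU)
    rw [Finset.mem_filter] at hω
    rw [← hω.2]
    intro g hg
    rw [MulAction.mem_stabilizer_iff] at hg
    have h1 : g • (rep ω).1 = (rep ω).1 := congrArg Prod.fst hg
    rw [hrep1 ω] at h1
    have : g ∈ MulAction.stabilizer G ((1 : G) : G ⧸ H) := MulAction.mem_stabilizer_iff.mpr h1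
    rwa [MulAction.stabilizer_quotient] at this
  · rw [← hH, ← hK]
    have hprod : (fun g : G => (Nat.card (MulAction.fixedBy (G ⧸ H) g) : ℂ)) *
        (fun g : G => (Nat.card (MulAction.fixedBy (G ⧸ K) g) : ℂ)) =
        (fun g : G => (Nat.card (MulAction.fixedBy ((G ⧸ H) × (G ⧸ K)) g) : ℂ)) := by
      ext g
      rw [Pi.mul_apply, Helper6.card_fixedBy_eq_sum, Helper6.card_fixedBy_eq_sum,
        Helper6.card_fixedBy_eq_sum, Fintype.sum_prod_type, Finset.sum_mul_sum]
      apply Finset.sum_congr rfl
      intro a _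
      apply Finset.sum_congr rfl
      intro b _
      by_cases ha : g • a = a
      · by_cases hb : g • b = b
        · simp [ha, hb, Prod.smul_mk]
        · simp [ha, hb, Prod.smul_mk]
      · simp [ha, Prod.smul_mk]
    rw [hprod, hperm]
    rw [← Finset.sum_fiberwise' (Finset.univ) (fun ω => MulAction.stabilizer G (rep ω))
      (fun U => Cfsg.indFun U (fun _ => (1 : ℂ)))]
    apply Finset.sum_congr rfl
    intro U _
    rw [Finset.sum_const, Nat.cast_smul_eq_nsmul]

end Cfsg.Agent.S0870
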