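import Cfsg.Statements.S0871
import Mathlib
import Cfsg.Agent.Helper6.QuasiElem
-- import your own Cfsg.Agent.* helpers here

set_option autoImplicit false
open Cfsg

namespace Cfsg.Agent.S0871

/-- Let x be an element of the finite group G and p a prime. Then there is a subgroup H having a cyclic normal subgroup C of order prime to p and p-power index in H, such that the value at x of the function induced from the constant function 1 on H is a natural number not divisible by p. -/
theorem result {G : Type*} [Group G] [Fintype G] (x : G) (p : ℕ) (hp : p.Prime) : ∃ H : Subgroup G, (∃ C : Subgroup G, C ≤ H ∧ H ≤ Subgroup.normalizer (C : Set G) ∧ IsCyclic C ∧ Nat.Coprime (Nat.card C) p ∧ ∃ k : ℕ, C.relIndex H = p ^ k) ∧ ∃ n : ℕ, Cfsg.indFun H (fun _ => 1) x = (n : ℂ) ∧ ¬ p ∣ n := by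
  classical
  haveI : Fact p.Prime := ⟨hp⟩
  obtain ⟨a, m, H, ho, hm, hcard, hCH, hHN, hxH, ⟨k, hk⟩, hidx, hord⟩ :=
    Helper6.quasiElem_setup x p
  have hcop : Nat.Coprime m p := ((Nat.Prime.coprime_iff_not_dvd hp).mpr hm).symm
  refine ⟨H, ⟨Subgroup.zpowers (x ^ (p ^ a)), hCH, hHN, inferInstance, ?_, k, hk⟩, ?_⟩
  · rw [hcard]
    exact hcop
  · have hxN : x ∈ Subgroup.normalizer (Subgroup.zpowers (x ^ (p ^ a)) : Set G) := hHN hxH
    haveI : Fintype (Subgroup.normalizer (Subgroup.zpowers (x ^ (p ^ a)) : Set G)) :=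
      Fintype.ofFinite _
    have h1 := Helper6.indFun_one_restrict H
      (Subgroup.normalizer (Subgroup.zpowers (x ^ (p ^ a)) : Set G)) hHN ⟨x, hxN⟩
      (fun y hy => Helper6.mem_normalizer_of_conj_mem x p a m H hcard hord y hy)
    change Cfsg.indFun H (fun _ => 1) x = _ at h1
    rw [h1]
    haveI : ((Subgroup.zpowers (x ^ (p ^ a))).subgroupOf
        (Subgroup.normalizer (Subgroup.zpowers (x ^ (p ^ a)) : Set G))).Normal :=
      Subgroup.normal_in_normalizer
    apply Helper6.fixed_count p ((Subgroup.zpowers (x ^ (p ^ a))).subgroupOf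
        (Subgroup.normalizer (Subgroup.zpowers (x ^ (p ^ a)) : Set G)))
      (H.subgroupOf (Subgroup.normalizer (Subgroup.zpowers (x ^ (p ^ a)) : Set G))) ?_
      ⟨x, hxN⟩ a m (Nat.Coprime.pow_right _ hcop) ?_ ?_ hidx
    · intro g hg
      rw [Subgroup.mem_subgroupOf] at hg ⊢
      exact hCH hg
    · rw [Subgroup.mem_subgroupOf]
      exact Subgroup.mem_zpowers _
    · apply Subtype.ext
      change (x ^ m) ^ (p ^ a) = 1
      rw [← pow_mul, mul_comm, ← ho, pow_orderOf_eq_one]

end Cfsg.Agent.S0871
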