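import Mathlib
import Cfsg.Statements.S0254
import Cfsg.Agent.Helper7.SL2Sylow
import Cfsg.Agent.Helper7.LinearCard
import Cfsg.Agent.Helper7.SLTransfer
import Cfsg.Agent.Helper7.NormOne
import Cfsg.Agent.Helper7.SL29Data

set_option autoImplicit false
open Cfsg

namespace Cfsg.Agent.S0254

open Matrix Cfsg.Agent.Helper7.SL29 Cfsg.Agent.Helper7.NormOne

/-- The polynomial `x ^ 2 + 1` has no root in the field with three elements. -/
instance irr : Fact (∀ r : ZMod 3, r ^ 2 ≠ (-1 : ZMod 3) + 0 * r) := ⟨by decide⟩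

/-- Matrices over the field with nine elements. -/
abbrev M2 := Matrix (Fin 2) (Fin 2) K9
/-- The special linear group over the field with nine elements. -/
abbrev G := Matrix.SpecialLinearGroup (Fin 2) K9

/-- Encoding of a matrix as a tuple. -/
def enc (A : M2) : T := (A 0 0, A 0 1, A 1 0, A 1 1)
/-- Decoding of a tuple as a matrix. -/
def dec (t : T) : M2 := !![t.1, t.2.1; t.2.2.1, t.2.2.2]

theorem enc_dec (t : T) : enc (dec t) = t := rfl
theorem dec_enc (A : M2) : dec (enc A) = A := (Matrix.eta_fin_two A).symm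

theorem enc_injective : Function.Injective enc := fun A B h => by
  rw [← dec_enc A, ← dec_enc B, h]

theorem enc_mul (A B : M2) : enc (A * B) = mulT (enc A) (enc B) := by
  simp [enc, mulT, Matrix.mul_apply, Fin.sum_univ_two]

theorem enc_one : enc 1 = one := by
  have h00 : (1 : M2) 0 0 = 1 := Matrix.one_apply_eq 0
  have h11 : (1 : M2) 1 1 = 1 := Matrix.one_apply_eq 1
  have h01 : (1 : M2) 0 1 = 0 := Matrix.one_apply_ne (by decide)
  have h10 : (1 : M2) 1 0 = 0 := Matrix.one_apply_ne (by decide)
  show ((1 : M2) 0 0, (1 : M2) 0 1, (1 : M2) 1 0, (1 : M2) 1 1) = one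
  rw [h00, h01, h10, h11]
  rfl

theorem enc_neg_one : enc (-1) = negone := by
  have h00 : (1 : M2) 0 0 = 1 := Matrix.one_apply_eq 0
  have h11 : (1 : M2) 1 1 = 1 := Matrix.one_apply_eq 1
  have h01 : (1 : M2) 0 1 = 0 := Matrix.one_apply_ne (by decide)
  have h10 : (1 : M2) 1 0 = 0 := Matrix.one_apply_ne (by decide)
  show ((-1 : M2) 0 0, (-1 : M2) 0 1, (-1 : M2) 1 0, (-1 : M2) 1 1) = negone
  rw [Matrix.neg_apply, Matrix.neg_apply, Matrix.neg_apply, Matrix.neg_apply, h00, h01, h10, h11]
  decide +kernel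

theorem enc_adj (A : M2) : enc A.adjugate = adjT (enc A) := by
  rw [Matrix.adjugate_fin_two]
  rfl

theorem det_enc (A : M2) : A.det = detT (enc A) := Matrix.det_fin_two A

theorem mulT_eq (x y : T) : mulT x y = enc (dec x * dec y) := by
  rw [enc_mul, enc_dec, enc_dec]

theorem mulT_assoc (x y z : T) : mulT (mulT x y) z = mulT x (mulT y z) := by
  rw [mulT_eq x y, mulT_eq _ z, dec_enc, mulT_eq y z, mulT_eq x _, dec_enc, mul_assoc]

theorem mulT_one (x : T) : mulT x one = x := by
  rw [mulT_eq, ← enc_one, dec_enc, mul_one, enc_dec]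

theorem L_mul : ∀ x ∈ L, ∀ y ∈ L, mulT x y ∈ L := by
  intro x hx y hy
  obtain ⟨p, hp, rfl⟩ := List.mem_map.mp hy
  revert x
  refine ok_induct gA gB (fun y => ∀ x ∈ L, mulT x y ∈ L) ?_ ?_ ?_ W W_ok p hp
  · intro x hx
    rwa [mulT_one]
  · intro y hy x hx
    rw [← mulT_assoc]
    exact (L_ra _ (hy x hx)).1
  · intro y hy x hx
    rw [← mulT_assoc]
    exact (L_ra _ (hy x hx)).2

/-- The binary icosahedral subgroup of `SL_2(9)`. -/
def H : Subgroup G where
  carrier := {g | enc g.1 ∈ L}
  mul_mem' := fun {a b} ha hb => by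
    show enc (a * b).1 ∈ L
    rw [Matrix.SpecialLinearGroup.coe_mul, enc_mul]
    exact L_mul _ ha _ hb
  one_mem' := by
    show enc (1 : G).1 ∈ L
    rw [Matrix.SpecialLinearGroup.coe_one, enc_one]
    exact one_mem
  inv_mem' := fun {a} ha => by
    show enc (a⁻¹).1 ∈ L
    rw [Matrix.SpecialLinearGroup.coe_inv, enc_adj]
    exact L_adj _ ha

theorem mem_H (g : G) : g ∈ H ↔ enc g.1 ∈ L := Iff.rfl

theorem card_H : Nat.card H = 120 := by
  have e : H ≃ {t : T // t ∈ L} :=
    { toFun := fun g => ⟨enc g.1.1, g.2⟩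
      invFun := fun t => ⟨⟨dec t.1, by rw [det_enc, enc_dec]; exact L_det t.1 t.2⟩, by
        show enc (dec t.1) ∈ L; rw [enc_dec]; exact t.2⟩
      left_inv := fun g => by
        apply Subtype.ext; apply Subtype.ext
        exact dec_enc _
      right_inv := fun t => rfl }
  rw [Nat.card_congr e, Nat.card_eq_fintype_card, Fintype.card_of_subtype L.toFinset (by simp),
    List.toFinset_card_of_nodup L_nodup]
  exact L_length

theorem card_K9 : Fintype.card K9 = 9 := by
  rw [card_quadAlg, ZMod.card]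
  norm_num

theorem card_G : Nat.card G = 720 := by
  show Nat.card (Matrix.SpecialLinearGroup (Fin 2) K9) = 720
  rw [Cfsg.Agent.Helper7.SL2.card_SL2, card_K9]
  norm_num

theorem index_H : H.index = 6 := by
  have h := Subgroup.card_mul_index H
  rw [card_H, card_G] at h
  omega

theorem center_le_H : Subgroup.center G ≤ H := by
  intro z hz
  rw [Matrix.SpecialLinearGroup.mem_center_iff] at hz
  obtain ⟨r, hr, hz⟩ := hz
  rw [mem_H, ← hz]
  have hr2 : (r - 1) * (r + 1) = 0 := by
    have : r ^ 2 = 1 := by simpa using hr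
    linear_combination this
  rcases mul_eq_zero.mp hr2 with h | h
  · have : r = 1 := by linear_combination h
    rw [this, map_one, enc_one]
    exact one_mem
  · have : r = -1 := by linear_combination h
    rw [this, map_neg, map_one, enc_neg_one]
    exact negone_mem

/-- Decoding a tuple of determinant one as a group element. -/
def decG (t : T) (h : detT t = 1) : G := ⟨dec t, by rw [det_enc, enc_dec]; exact h⟩

theorem enc_conj (t : T) (h : detT t = 1) (k : G) :
    enc (decG t h * k * (decG t h)⁻¹).1 = conjT t (enc k.1) := by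
  rw [Matrix.SpecialLinearGroup.coe_mul, Matrix.SpecialLinearGroup.coe_mul,
    Matrix.SpecialLinearGroup.coe_inv, enc_mul, enc_mul, enc_adj]
  show mulT (mulT (enc (dec t)) (enc k.1)) (adjT (enc (dec t))) = conjT t (enc k.1)
  rw [enc_dec]
  rfl

theorem neg_one_mem_center (z : G) (hz : z.1 = -1) : z ∈ Subgroup.center G := by
  rw [Subgroup.mem_center_iff]
  intro g
  apply Subtype.ext
  rw [Matrix.SpecialLinearGroup.coe_mul, Matrix.SpecialLinearGroup.coe_mul, hz]
  simp

theorem core_eq : H.normalCore = Subgroup.center G := by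
  apply le_antisymm
  · intro k hk
    have h0 : k ∈ H := H.normalCore_le hk
    have h1 := hk (decG c1 det_c1)
    have h2 := hk (decG c2 det_c2)
    have h3 := hk (decG c3 det_c3)
    rw [mem_H] at h0 h1 h2 h3
    rw [enc_conj] at h1 h2 h3
    rcases core_aux (enc k.1) h0 ⟨h1, h2, h3⟩ with h | h
    · have : k = 1 := by
        apply Subtype.ext
        apply enc_injective
        rw [h, Matrix.SpecialLinearGroup.coe_one, enc_one]
      rw [this]; exact Subgroup.one_mem _
    · apply neg_one_mem_center k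
      apply enc_injective
      rw [h, enc_neg_one]
  · rw [Subgroup.normal_le_normalCore]
    exact center_le_H

theorem main : Nonempty (ProjectiveSpecialLinearGroup (Fin 2) K9 ≃* alternatingGroup (Fin 6)) := by
  classical
  have hX : Nat.card (G ⧸ H) = 6 := by rw [← Subgroup.index_eq_card]; exact index_H
  have : Finite (G ⧸ H) := Nat.finite_of_card_ne_zero (by rw [hX]; norm_num)
  have : Fintype (G ⧸ H) := Fintype.ofFinite _
  have hPSL : Nat.card (ProjectiveSpecialLinearGroup (Fin 2) K9) = 360 := by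
    have h1 := Cfsg.Agent.Helper7.card_center_mul_card_PSL (F := K9) 2 (by norm_num)
    rw [show Nat.card (Matrix.SpecialLinearGroup (Fin 2) K9) = 720 from card_G, card_K9] at h1
    have e1 : Nat.gcd 2 (9 - 1) = 2 := by decide
    rw [e1] at h1
    omega
  set φ := MulAction.toPermHom G (G ⧸ H) with hφ
  have hker : φ.ker = Subgroup.center G := by
    rw [hφ, ← Subgroup.normalCore_eq_ker]; exact core_eq
  have e0 : ProjectiveSpecialLinearGroup (Fin 2) K9 ≃* G ⧸ φ.ker :=
    QuotientGroup.quotientMulEquivOfEq hker.symm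
  have e1 : G ⧸ φ.ker ≃* φ.range := QuotientGroup.quotientKerEquivRange φ
  have hrange_card : Nat.card φ.range = 360 := by
    rw [← hPSL]
    exact (Nat.card_congr (e0.trans e1).toEquiv).symm
  have hperm : Nat.card (Equiv.Perm (G ⧸ H)) = 720 := by
    rw [Nat.card_perm, hX]; rfl
  have hindex : φ.range.index = 2 := by
    have := Subgroup.card_mul_index φ.range
    rw [hrange_card, hperm] at this
    omega
  have halt : φ.range = alternatingGroup (G ⧸ H) :=
    Equiv.Perm.eq_alternatingGroup_of_index_eq_two hindex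
  have e2 : φ.range ≃* alternatingGroup (G ⧸ H) := MulEquiv.subgroupCongr halt
  have e3 : (G ⧸ H) ≃ Fin 6 := Finite.equivFinOfCardEq hX
  exact ⟨((e0.trans e1).trans e2).trans (Equiv.altCongrHom e3)⟩

/-- PSL_2(9) is isomorphic to A_6. -/
theorem result {F : Type*} [Field F] [Fintype F] (hF : Fintype.card F = 9) : Nonempty (Matrix.ProjectiveSpecialLinearGroup (Fin 2) F ≃* alternatingGroup (Fin 6)) := by
  have φ : F ≃+* K9 := FiniteField.ringEquivOfCardEq (by rw [hF, card_K9])
  obtain ⟨e⟩ := main
  exact ⟨(Cfsg.Agent.Helper7.SLTransfer.pslEquiv φ).trans e⟩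

end Cfsg.Agent.S0254
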