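import Cfsg.Statements.S0741
import Cfsg.Agent.Helper7.ZassInvol

set_option autoImplicit false
open Cfsg

namespace Cfsg.Agent.S0741

open Cfsg.Agent.Helper7.Zass

/-- If the two-point stabilisers of a finite Zassenhaus group of degree `n + 1` have even order `d`, then `2d ≥ n - 1`. -/
theorem result {G Ω : Type*} [Group G] [Finite G] [MulAction G Ω] [Fintype Ω] (hZ : Cfsg.IsZassenhausGroup G Ω) {a b : Ω} (hab : a ≠ b) (heven : Even (Nat.card ↥(MulAction.stabilizer G a ⊓ MulAction.stabilizer G b))) : Fintype.card Ω - 2 ≤ 2 * Nat.card ↥(MulAction.stabilizer G a ⊓ MulAction.stabilizer G b) := by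
  classical
  obtain ⟨hfaith, h2t, hp3, hfix, hnoreg⟩ := hZ
  have hZH : ZHyp G Ω :=
    { t2 := fun a b c d hab hcd => (MulAction.is_two_pretransitive_iff.1 h2t) hab hcd
      p3 := hp3
      fix2 := hfix
      noreg := hnoreg }
  have := Fintype.ofFinite G
  set H : Subgroup G := MulAction.stabilizer G a ⊓ MulAction.stabilizer G b with hH
  have hmemH : ∀ h : G, h ∈ H ↔ h • a = a ∧ h • b = b := by
    intro h
    rw [hH, Subgroup.mem_inf, MulAction.mem_stabilizer_iff, MulAction.mem_stabilizer_iff]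
  -- an involution in `H`
  have h2 : 2 ∣ Nat.card H := even_iff_two_dvd.1 heven
  have : Fact (Nat.Prime 2) := ⟨Nat.prime_two⟩
  obtain ⟨t₀', ht₀'⟩ := exists_prime_orderOf_dvd_card' (G := H) 2 h2
  set t₀ : G := (t₀' : G) with ht₀
  have ht₀o : orderOf t₀ = 2 := by rw [ht₀, Subgroup.orderOf_coe, ht₀']
  have ht₀2 : t₀ * t₀ = 1 := by
    rw [← pow_two, ← ht₀o, pow_orderOf_eq_one]
  have ht₀1 : t₀ ≠ 1 := by
    intro e
    rw [e, orderOf_one] at ht₀o
    omega
  obtain ⟨ht₀a, ht₀b⟩ := (hmemH t₀).1 t₀'.2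
  -- the set of involutions swapping `a` and `b`
  set R : Finset G := Finset.univ.filter (fun j => j * j = 1 ∧ j • a = b ∧ j • b = a) with hR
  set S : Finset Ω := Finset.univ.filter (fun c => c ≠ a ∧ c ≠ b) with hS
  have hScard : S.card = Fintype.card Ω - 2 := by
    have : S = (Finset.univ.erase a).erase b := by
      ext c
      rw [hS, Finset.mem_filter, Finset.mem_erase, Finset.mem_erase]
      simp only [Finset.mem_univ, true_and, and_true]
      exact and_comm
    rw [this, Finset.card_erase_of_mem, Finset.card_erase_of_mem (Finset.mem_univ _),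
      Finset.card_univ]
    · omega
    · rw [Finset.mem_erase]
      exact ⟨Ne.symm hab, Finset.mem_univ _⟩
  have hex : ∀ c : Ω, ∃ j : G, c ∈ S → (j ∈ R ∧ j • c = c) := by
    intro c
    by_cases hc : c ∈ S
    · rw [hS, Finset.mem_filter] at hc
      obtain ⟨-, hca, hcb⟩ := hc
      obtain ⟨g, hga, hgb⟩ := hZH.t2 a b c a hab hca
      have htc : (g * t₀ * g⁻¹) • c = c := by
        rw [mul_smul, mul_smul, ← hga, inv_smul_smul, ht₀a]
      have hte : (g * t₀ * g⁻¹) • a = a := by
        rw [mul_smul, mul_smul, ← hgb, inv_smul_smul, ht₀b]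
      have ht2 : (g * t₀ * g⁻¹) * (g * t₀ * g⁻¹) = 1 := by
        calc (g * t₀ * g⁻¹) * (g * t₀ * g⁻¹) = g * (t₀ * t₀) * g⁻¹ := by group
          _ = 1 := by rw [ht₀2]; group
      have ht1 : g * t₀ * g⁻¹ ≠ 1 := by
        intro e1
        apply ht₀1
        have : t₀ = g⁻¹ * (g * t₀ * g⁻¹) * g := by group
        rw [this, e1]
        group
      -- need the second fixed point different from `c`; use `a`
      obtain ⟨j, hj2, hj1, hjc, hjab⟩ :=
        exists_invol_swap_fix hZH (a := a) (b := b) (c := c) (Ne.symm hca) (Ne.symm hcb) ht2 ht1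
          htc (e := a) (Ne.symm hca) hte
      refine ⟨j, fun _ => ⟨?_, hjc⟩⟩
      rw [hR, Finset.mem_filter]
      refine ⟨Finset.mem_univ _, hj2, hjab, ?_⟩
      rw [← hjab, ← mul_smul, hj2, one_smul]
    · exact ⟨1, fun h => absurd h hc⟩
  choose jf hjf using hex
  have h1 : S.card ≤ 2 * R.card := by
    apply Finset.card_le_mul_card_image_of_maps_to (f := jf) (fun c hc => (hjf c hc).1)
    intro x hx
    rw [hR, Finset.mem_filter] at hx
    obtain ⟨-, hx2, hxa, hxb⟩ := hx
    have hx1 : x ≠ 1 := by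
      intro e
      rw [e, one_smul] at hxa
      exact hab hxa
    by_contra hcon
    rw [not_le, Finset.two_lt_card] at hcon
    obtain ⟨c₁, hc₁, c₂, hc₂, c₃, hc₃, h12, h13, h23⟩ := hcon
    rw [Finset.mem_filter] at hc₁ hc₂ hc₃
    have f1 : x • c₁ = c₁ := by
      have := (hjf c₁ hc₁.1).2
      rwa [hc₁.2] at this
    have f2 : x • c₂ = c₂ := by
      have := (hjf c₂ hc₂.1).2
      rwa [hc₂.2] at this
    have f3 : x • c₃ = c₃ := by
      have := (hjf c₃ hc₃.1).2
      rwa [hc₃.2] at this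
    exact hx1 (hp3 x c₁ c₂ c₃ h12 h23 h13 f1 f2 f3)
  -- `R` injects into `H`
  have h2' : R.card ≤ Nat.card H := by
    obtain ⟨s, hsa, hsb⟩ := hZH.t2 a b b a hab (Ne.symm hab)
    have hfinH : (H : Set G).Finite := Set.toFinite _
    have hHc : Nat.card H = (H : Set G).ncard := (Nat.card_coe_set_eq (H : Set G))
    rw [← Set.ncard_coe_finset, hHc]
    apply Set.ncard_le_ncard_of_injOn (fun x => s⁻¹ * x) _ _ hfinH
    · intro x hx
      rw [Finset.mem_coe, hR, Finset.mem_filter] at hx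
      obtain ⟨-, -, hxa, hxb⟩ := hx
      show s⁻¹ * x ∈ H
      rw [hmemH, mul_smul, mul_smul, hxa, hxb, inv_smul_eq_iff, inv_smul_eq_iff, hsa, hsb]
      exact ⟨rfl, rfl⟩
    · intro x _ y _ hxy
      exact mul_left_cancel hxy
  rw [← hScard]
  calc S.card ≤ 2 * R.card := h1
    _ ≤ 2 * Nat.card H := Nat.mul_le_mul_left 2 h2'

end Cfsg.Agent.S0741
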