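import Mathlib
import Cfsg.Statements.S0494
import Cfsg.Agent.Helper2.AltRecog
import Cfsg.Agent.Helper2.SmallOrder
import Cfsg.Agent.Helper2.SylowExact2

set_option autoImplicit false
open Cfsg

namespace Cfsg.Agent.S0494

open Cfsg.Agent.Helper2

/-- A simple group of order 60 is isomorphic to the alternating group of degree 5. -/
theorem result {G : Type*} [Group G] [Finite G] [IsSimpleGroup G]
    (h : Nat.card G = 60) : Nonempty (G ≃* alternatingGroup (Fin 5)) := by
    haveI : Fact (Nat.Prime 2) := ⟨Nat.prime_two⟩
    let P : Sylow 2 G := default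
    have hPcard : Nat.card P = 2 ^ 2 :=
      SylowExact.card_sylow_of_exact_pow (m := 15) (by rw [h]; norm_num) (by norm_num) P
    have hNS := SmallOrder.card_normalizer_mul_card_sylow P
    rw [h] at hNS
    have hidxP : (P : Subgroup G).index = 15 := by
      have h1 := (P : Subgroup G).card_mul_index
      rw [hPcard, h] at h1; omega
    have hdvd : Nat.card (Sylow 2 G) ∣ 15 := hidxP ▸ Sylow.card_dvd_index P
    have hne1 : Nat.card (Sylow 2 G) ≠ 1 :=
      SmallOrder.card_sylow_ne_one P (by rw [hPcard]; norm_num) (by rw [hPcard, h]; norm_num)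
    have hidxN : (Subgroup.normalizer ((P : Subgroup G) : Set G)).index = Nat.card (Sylow 2 G) :=
      (Sylow.card_eq_index_normalizer P).symm
    have hNtop : Subgroup.normalizer ((P : Subgroup G) : Set G) ≠ ⊤ := by
      intro htop
      rw [htop, Subgroup.index_top] at hidxN
      exact hne1 hidxN.symm
    have hfact := SmallOrder.card_dvd_factorial_index _ hNtop
    rw [hidxN, h] at hfact
    have hmem : Nat.card (Sylow 2 G) ∈ Nat.divisors 15 := Nat.mem_divisors.mpr ⟨hdvd, by norm_num⟩
    have hdiv : Nat.divisors 15 = {1, 3, 5, 15} := by decide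
    rw [hdiv] at hmem
    simp only [Finset.mem_insert, Finset.mem_singleton] at hmem
    rcases hmem with h1 | h1 | h1 | h1
    · exact absurd h1 hne1
    · exfalso
      rw [h1] at hfact
      revert hfact; decide
    · exact AltRecog.equiv_alternating_of_index 5 (by norm_num) _ (hidxN.trans h1)
        (by rw [h]; decide)
    · exfalso
      rw [h1] at hNS
      have hN4 : Nat.card (Subgroup.normalizer ((P : Subgroup G) : Set G)) = 4 := by omega
      have hNP : Subgroup.normalizer ((P : Subgroup G) : Set G) = (P : Subgroup G) := by
        symm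
        apply Subgroup.eq_of_le_of_card_ge Subgroup.le_normalizer
        rw [hN4, hPcard]; norm_num
      have hPab : IsMulCommutative (P : Subgroup G) :=
        IsPGroup.isMulCommutative_of_card_eq_prime_sq hPcard
      have hle : Subgroup.normalizer ((P : Subgroup G) : Set G) ≤
          Subgroup.centralizer ((P : Subgroup G) : Set G) := by
        rw [hNP]
        intro x hx
        rw [Subgroup.mem_centralizer_iff]
        intro y hy
        exact congrArg Subtype.val (hPab.is_comm.comm (⟨y, hy⟩ : (P : Subgroup G)) ⟨x, hx⟩)
      have hcomp := MonoidHom.ker_transferSylow_isComplement' P hle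
      rcases (MonoidHom.normal_ker (MonoidHom.transferSylow P hle)).eq_bot_or_eq_top with h0 | h0
      · rw [h0, Subgroup.isComplement'_bot_left] at hcomp
        have : Nat.card (P : Subgroup G) = Nat.card G := by rw [hcomp, Subgroup.card_top]
        rw [hPcard, h] at this
        omega
      · rw [h0, Subgroup.isComplement'_top_left] at hcomp
        have : Nat.card (P : Subgroup G) = 1 := by rw [hcomp, Subgroup.card_bot]
        rw [hPcard] at this
        omega

end Cfsg.Agent.S0494
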