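import Mathlib
import Cfsg.Statements.S3377
import Cfsg.Statements.S3377
import Cfsg.Agent.Helper3.CosetCert
-- import your own Cfsg.Agent.* helpers here

set_option autoImplicit false
open Cfsg

namespace Cfsg.Agent.S3377
open Cfsg

open Cfsg.Agent.Helper3.CosetCert

/-! ### The certificate data (right regular representation of `A₅`, a spanning tree, and the
sequence of deductions) -/

def actTab : List (List ℕ) :=
  [[1, 2],
   [3, 4],
   [5, 6],
   [0, 7],
   [8, 9],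
   [10, 3],
   [11, 12],
   [13, 14],
   [15, 0],
   [16, 17],
   [2, 18],
   [19, 10],
   [20, 8],
   [21, 1],
   [22, 23],
   [4, 24],
   [25, 15],
   [26, 13],
   [23, 27],
   [6, 28],
   [24, 19],
   [7, 29],
   [30, 21],
   [31, 5],
   [12, 32],
   [9, 33],
   [29, 25],
   [34, 35],
   [35, 36],
   [17, 37],
   [14, 38],
   [18, 30],
   [39, 40],
   [40, 41],
   [42, 31],
   [43, 11],
   [44, 39],
   [45, 46],
   [46, 47],
   [48, 20],
   [49, 16],
   [50, 45],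
   [27, 51],
   [28, 42],
   [52, 43],
   [53, 26],
   [54, 22],
   [55, 34],
   [32, 52],
   [33, 48],
   [56, 49],
   [47, 57],
   [36, 58],
   [37, 56],
   [38, 53],
   [51, 54],
   [41, 59],
   [59, 44],
   [57, 50],
   [58, 55]]

def wordTab : List (List (Fin 2)) :=
  [[],
   [0],
   [1],
   [0, 0],
   [0, 1],
   [1, 0],
   [1, 1],
   [0, 0, 1],
   [0, 1, 0],
   [0, 1, 1],
   [1, 0, 0],
   [1, 1, 0],
   [1, 1, 1],
   [0, 0, 1, 0],
   [0, 0, 1, 1],
   [0, 1, 0, 0],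
   [0, 1, 1, 0],
   [0, 1, 1, 1],
   [1, 0, 0, 1],
   [1, 1, 0, 0],
   [1, 1, 1, 0],
   [0, 0, 1, 0, 0],
   [0, 0, 1, 1, 0],
   [0, 0, 1, 1, 1],
   [0, 1, 0, 0, 1],
   [0, 1, 1, 0, 0],
   [0, 1, 1, 1, 0],
   [1, 0, 0, 1, 1],
   [1, 1, 0, 0, 1],
   [0, 0, 1, 0, 0, 1],
   [0, 0, 1, 1, 0, 0],
   [0, 0, 1, 1, 1, 0],
   [0, 1, 0, 0, 1, 1],
   [0, 1, 1, 0, 0, 1],
   [1, 0, 0, 1, 1, 0],
   [1, 0, 0, 1, 1, 1],
   [1, 1, 0, 0, 1, 1],
   [0, 0, 1, 0, 0, 1, 1],
   [0, 0, 1, 1, 0, 0, 1],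
   [0, 1, 0, 0, 1, 1, 0],
   [0, 1, 0, 0, 1, 1, 1],
   [0, 1, 1, 0, 0, 1, 1],
   [1, 0, 0, 1, 1, 0, 0],
   [1, 0, 0, 1, 1, 1, 0],
   [1, 1, 0, 0, 1, 1, 0],
   [0, 0, 1, 0, 0, 1, 1, 0],
   [0, 0, 1, 0, 0, 1, 1, 1],
   [0, 0, 1, 1, 0, 0, 1, 1],
   [0, 1, 0, 0, 1, 1, 0, 0],
   [0, 1, 0, 0, 1, 1, 1, 0],
   [0, 1, 1, 0, 0, 1, 1, 0],
   [1, 0, 0, 1, 1, 0, 0, 1],
   [1, 1, 0, 0, 1, 1, 0, 0],
   [0, 0, 1, 0, 0, 1, 1, 0, 0],
   [0, 0, 1, 0, 0, 1, 1, 1, 0],
   [0, 0, 1, 1, 0, 0, 1, 1, 0],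
   [0, 1, 1, 0, 0, 1, 1, 0, 0],
   [1, 0, 0, 1, 1, 0, 0, 1, 1],
   [1, 1, 0, 0, 1, 1, 0, 0, 1],
   [0, 1, 1, 0, 0, 1, 1, 0, 0, 1]]

def cert : List (Fin 60 × List (Fin 2) × Fin 2 × List (Fin 2)) :=
  [(0, [0, 0], 0, []),
   (0, [0, 1, 0], 1, []),
   (1, [0, 1, 0], 1, []),
   (2, [0, 0], 0, []),
   (2, [1, 1], 1, [1, 1]),
   (2, [0], 1, [0, 1]),
   (3, [1, 1, 1], 1, [1]),
   (4, [0, 0], 0, []),
   (4, [1, 1], 1, [1, 1]),
   (5, [0, 1], 0, [1]),
   (6, [0, 0], 0, []),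
   (6, [0], 1, [0, 1]),
   (7, [0, 0], 0, []),
   (8, [0, 1], 0, [1]),
   (9, [0, 0], 0, []),
   (9, [0], 1, [0, 1]),
   (10, [1, 1, 1], 1, [1]),
   (11, [0, 1], 0, [1]),
   (12, [0], 0, [0]),
   (12, [0], 1, [0, 1]),
   (13, [0, 1], 0, [1]),
   (14, [0, 0], 0, []),
   (14, [0], 1, [0, 1]),
   (15, [1, 1, 1], 1, [1]),
   (16, [0, 1], 0, [1]),
   (17, [0], 0, [0]),
   (17, [0], 1, [0, 1]),
   (18, [0, 0], 0, []),
   (20, [0, 1, 0], 1, []),
   (21, [1, 1, 1], 1, [1]),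
   (22, [0, 1], 0, [1]),
   (23, [0], 1, [0, 1]),
   (26, [0, 1, 0], 1, []),
   (27, [0, 0], 0, []),
   (27, [0], 1, [0, 1]),
   (28, [0, 0], 0, []),
   (28, [1], 1, [1, 1, 1]),
   (30, [1, 1], 1, [1, 1]),
   (32, [0, 0], 0, []),
   (33, [0, 0], 0, []),
   (33, [1], 1, [1, 1, 1]),
   (34, [0, 1], 0, [1]),
   (35, [0], 1, [0, 1]),
   (36, [0, 0], 0, []),
   (36, [0], 1, [0, 1]),
   (37, [0, 0], 0, []),
   (38, [0, 0], 0, []),
   (39, [0], 1, [0, 1]),
   (40, [0], 1, [0, 1]),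
   (41, [0, 0], 0, []),
   (41, [0], 1, [0, 1]),
   (42, [1, 1], 1, [1, 1]),
   (44, [0, 1], 0, [1]),
   (45, [0], 1, [0, 1]),
   (46, [0], 1, [0, 1]),
   (47, [0], 0, [0]),
   (47, [0], 1, [0, 1]),
   (48, [1, 1], 1, [1, 1]),
   (50, [0, 1], 0, [1]),
   (53, [1, 1], 1, [1, 1]),
   (55, [0, 1], 0, [1])]

/-- The table as a function. -/
def act : Fin 60 → Fin 2 → Fin 60 := fun ω s =>
  ⟨((actTab.getD ω.val []).getD s.val 0) % 60, Nat.mod_lt _ (by norm_num)⟩

/-- The spanning tree words. -/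
def word : Fin 60 → List (Fin 2) := fun ω => wordTab.getD ω.val []

/-- The relators as words. -/
def R : List (List (Fin 2)) := [[0, 0, 0], [1, 1, 1, 1, 1], [0, 1, 0, 1]]

set_option maxRecDepth 100000 in
theorem cert_ok : ∀ e : Fin 60 × Fin 2, e ∈ run act R (treeEdges act word) cert := by
  decide +kernel

/-- The relators of the presentation. -/
abbrev rels : Set (FreeGroup (Fin 2)) :=
  {FreeGroup.of (0 : Fin 2) ^ 3, FreeGroup.of (1 : Fin 2) ^ 5,
    (FreeGroup.of (0 : Fin 2) * FreeGroup.of 1) ^ 2}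

/-- The generators of the presented group. -/
def gens : Fin 2 → PresentedGroup rels := fun i => PresentedGroup.of i

theorem hR : ∀ r ∈ R, prodL gens r = 1 := by
  intro r hr
  simp only [R, List.mem_cons, List.not_mem_nil, or_false] at hr
  rcases hr with rfl | rfl | rfl
  · have : PresentedGroup.mk rels (FreeGroup.of (0 : Fin 2) ^ 3) = 1 :=
      PresentedGroup.one_of_mem (by simp [rels])
    rw [map_pow] at this
    simpa [prodL, gens, pow_succ, mul_assoc, PresentedGroup.of] using this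
  · have : PresentedGroup.mk rels (FreeGroup.of (1 : Fin 2) ^ 5) = 1 :=
      PresentedGroup.one_of_mem (by simp [rels])
    rw [map_pow] at this
    simpa [prodL, gens, pow_succ, mul_assoc, PresentedGroup.of] using this
  · have : PresentedGroup.mk rels ((FreeGroup.of (0 : Fin 2) * FreeGroup.of 1) ^ 2) = 1 :=
      PresentedGroup.one_of_mem (by simp [rels])
    rw [map_pow, map_mul] at this
    simpa [prodL, gens, pow_succ, mul_assoc, PresentedGroup.of] using this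

theorem hgen : Subgroup.closure (Set.range gens) = ⊤ := PresentedGroup.closure_range_of rels

theorem surj : Function.Surjective (fun ω : Fin 60 => prodL gens (word ω)) :=
  surjective_of_cert gens hgen act word 0 (by decide) R hR cert cert_ok

/-! ### The homomorphism onto `A₅` -/

/-- images of the generators -/
def gA : Fin 2 → alternatingGroup (Fin 5) := fun i =>
  if i = 0 then ⟨Equiv.swap 0 1 * Equiv.swap 1 2, Equiv.Perm.mem_alternatingGroup.2 (by decide)⟩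
  else ⟨Equiv.swap 0 2 * Equiv.swap 2 4 * Equiv.swap 4 1 * Equiv.swap 1 3,
    Equiv.Perm.mem_alternatingGroup.2 (by decide)⟩

theorem gA_rels : ∀ r ∈ rels, FreeGroup.lift gA r = 1 := by
  intro r hr
  simp only [rels, Set.mem_insert_iff, Set.mem_singleton_iff] at hr
  rcases hr with rfl | rfl | rfl
  · rw [map_pow, FreeGroup.lift_apply_of]; decide
  · rw [map_pow, FreeGroup.lift_apply_of]; decide
  · rw [map_pow, map_mul, FreeGroup.lift_apply_of, FreeGroup.lift_apply_of]; decide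

/-- the homomorphism -/
def phi : PresentedGroup rels →* alternatingGroup (Fin 5) := PresentedGroup.toGroup gA_rels

theorem phi_prodL (l : List (Fin 2)) : phi (prodL gens l) = prodL gA l := by
  induction l with
  | nil => simp [prodL]
  | cons s l ih =>
    rw [prodL_cons, prodL_cons, map_mul, ih]
    congr 1

set_option maxRecDepth 100000 in
theorem gA_surj : ∀ g : alternatingGroup (Fin 5), ∃ ω : Fin 60, prodL gA (word ω) = g := by
  decide +kernel

/-- The alternating group of degree 5 has the presentation ⟨x, y | x³ = 1, y⁵ = 1, (xy)² = 1⟩: the group so presented is isomorphic to Alt(5). -/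
theorem result :
    Nonempty (PresentedGroup ({FreeGroup.of (0 : Fin 2) ^ 3, FreeGroup.of (1 : Fin 2) ^ 5,
        (FreeGroup.of (0 : Fin 2) * FreeGroup.of 1) ^ 2} : Set (FreeGroup (Fin 2))) ≃* alternatingGroup (Fin 5)) := by
  have hfin : Finite (PresentedGroup rels) := Finite.of_surjective _ surj
  have hcard : Nat.card (PresentedGroup rels) ≤ 60 := by
    have := Nat.card_le_card_of_surjective _ surj
    simpa using this
  have hsurj : Function.Surjective phi := by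
    intro g
    obtain ⟨ω, hω⟩ := gA_surj g
    exact ⟨prodL gens (word ω), by rw [phi_prodL, hω]⟩
  have hA : Nat.card (alternatingGroup (Fin 5)) = 60 := by
    rw [nat_card_alternatingGroup, Nat.card_fin]
    decide
  have hb : Function.Bijective phi :=
    Function.Surjective.bijective_of_nat_card_le hsurj (by rw [hA]; exact hcard)
  exact ⟨MulEquiv.ofBijective phi hb⟩


end Cfsg.Agent.S3377
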