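import Mathlib
import Cfsg.Statements.S5016
import Cfsg.Agent.Helper7.RankOneOmega
import Cfsg.Agent.Helper7.Transvections

set_option autoImplicit false
open Cfsg

namespace Cfsg.Agent.S5016

open Matrix Cfsg.Agent.Helper7.R1

variable {k : Type*} [Field k]

/-- The subgroup of `SL₂(k)` fixing a vector. -/
def fixer (v : Fin 2 → k) : Subgroup (SpecialLinearGroup (Fin 2) k) where
  carrier := {g | (g : Matrix (Fin 2) (Fin 2) k) *ᵥ v = v}
  mul_mem' := by
    intro g h hg hh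
    simp only [Set.mem_ofPred_eq] at *
    rw [Matrix.SpecialLinearGroup.coe_mul, ← Matrix.mulVec_mulVec, hh, hg]
  one_mem' := by
    change ((1 : SpecialLinearGroup (Fin 2) k) : Matrix (Fin 2) (Fin 2) k) *ᵥ v = v
    rw [Matrix.SpecialLinearGroup.coe_one, Matrix.one_mulVec]
  inv_mem' := by
    intro g hg
    simp only [Set.mem_ofPred_eq] at *
    conv_lhs => rw [← hg]
    rw [Matrix.mulVec_mulVec, ← Matrix.SpecialLinearGroup.coe_mul, inv_mul_cancel]
    simp

theorem mem_fixer {v : Fin 2 → k} {g : SpecialLinearGroup (Fin 2) k} :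
    g ∈ fixer v ↔ (g : Matrix (Fin 2) (Fin 2) k) *ᵥ v = v := Iff.rfl

theorem conjBy_fixer (v : Fin 2 → k) (g : SpecialLinearGroup (Fin 2) k) :
    conjBy (fixer v) g = fixer ((g : Matrix (Fin 2) (Fin 2) k) *ᵥ v) := by
  ext x
  rw [mem_conjBy, mem_fixer, mem_fixer]
  simp only [Matrix.SpecialLinearGroup.coe_mul, ← Matrix.mulVec_mulVec]
  constructor
  · intro h
    have := congrArg (fun w => (g : Matrix (Fin 2) (Fin 2) k) *ᵥ w) h
    simp only [Matrix.mulVec_mulVec, ← Matrix.SpecialLinearGroup.coe_mul] at this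
    rw [← mul_assoc, ← mul_assoc, mul_inv_cancel, one_mul] at this
    simpa [Matrix.SpecialLinearGroup.coe_mul, ← Matrix.mulVec_mulVec] using this
  · intro h
    rw [h, Matrix.mulVec_mulVec, ← Matrix.SpecialLinearGroup.coe_mul, inv_mul_cancel]
    simp

theorem fixer_smul (v : Fin 2 → k) {c : k} (hc : c ≠ 0) : fixer (c • v) = fixer v := by
  ext g
  rw [mem_fixer, mem_fixer, Matrix.mulVec_smul]
  constructor
  · intro h
    exact smul_right_injective _ hc h
  · intro h; rw [h]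

theorem mem_fixer_e1 {g : SpecialLinearGroup (Fin 2) k} :
    g ∈ fixer (![1, 0] : Fin 2 → k) ↔ (g : Matrix (Fin 2) (Fin 2) k) 1 0 = 0 ∧
      (g : Matrix (Fin 2) (Fin 2) k) 0 0 = 1 ∧ (g : Matrix (Fin 2) (Fin 2) k) 1 1 = 1 := by
  rw [mem_fixer]
  have hdet := g.det_coe
  rw [Matrix.det_fin_two] at hdet
  constructor
  · intro h
    have h0 := congrFun h 0
    have h1 := congrFun h 1
    simp [Matrix.mulVec, dotProduct, Fin.sum_univ_two] at h0 h1
    refine ⟨h1, h0, ?_⟩
    rw [h0, h1] at hdet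
    simpa using hdet
  · rintro ⟨h10, h00, h11⟩
    ext i
    fin_cases i <;> simp [Matrix.mulVec, dotProduct, Fin.sum_univ_two, h10, h00]

theorem mem_fixer_e2 {g : SpecialLinearGroup (Fin 2) k} :
    g ∈ fixer (![0, 1] : Fin 2 → k) ↔ (g : Matrix (Fin 2) (Fin 2) k) 0 1 = 0 ∧
      (g : Matrix (Fin 2) (Fin 2) k) 0 0 = 1 ∧ (g : Matrix (Fin 2) (Fin 2) k) 1 1 = 1 := by
  rw [mem_fixer]
  have hdet := g.det_coe
  rw [Matrix.det_fin_two] at hdet
  constructor
  · intro h
    have h0 := congrFun h 0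
    have h1 := congrFun h 1
    simp [Matrix.mulVec, dotProduct, Fin.sum_univ_two] at h0 h1
    refine ⟨h0, ?_, h1⟩
    rw [h0, h1] at hdet
    simpa using hdet
  · rintro ⟨h01, h00, h11⟩
    ext i
    fin_cases i <;> simp [Matrix.mulVec, dotProduct, Fin.sum_univ_two, h01, h11]

theorem upper_eq : upperUnipotentSL2 k = fixer ![1, 0] := by
  have : {g : SpecialLinearGroup (Fin 2) k | (g : Matrix (Fin 2) (Fin 2) k) 1 0 = 0 ∧
      (g : Matrix (Fin 2) (Fin 2) k) 0 0 = 1 ∧ (g : Matrix (Fin 2) (Fin 2) k) 1 1 = 1} =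
      (fixer (![1, 0] : Fin 2 → k) : Set (SpecialLinearGroup (Fin 2) k)) := by
    ext g
    exact mem_fixer_e1.symm
  rw [upperUnipotentSL2, this, Subgroup.closure_eq]

theorem lower_eq : lowerUnipotentSL2 k = fixer ![0, 1] := by
  have : {g : SpecialLinearGroup (Fin 2) k | (g : Matrix (Fin 2) (Fin 2) k) 0 1 = 0 ∧
      (g : Matrix (Fin 2) (Fin 2) k) 0 0 = 1 ∧ (g : Matrix (Fin 2) (Fin 2) k) 1 1 = 1} =
      (fixer (![0, 1] : Fin 2 → k) : Set (SpecialLinearGroup (Fin 2) k)) := by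
    ext g
    exact mem_fixer_e2.symm
  rw [lowerUnipotentSL2, this, Subgroup.closure_eq]

/-- Lower unitriangular matrix. -/
def lo (t : k) : SpecialLinearGroup (Fin 2) k := ⟨!![1, 0; t, 1], by simp [Matrix.det_fin_two]⟩

/-- Upper unitriangular matrix. -/
def up (s : k) : SpecialLinearGroup (Fin 2) k := ⟨!![1, s; 0, 1], by simp [Matrix.det_fin_two]⟩

theorem lo_mem (t : k) : lo t ∈ fixer (![0, 1] : Fin 2 → k) := by
  rw [mem_fixer]
  ext i
  fin_cases i <;> simp [lo, Matrix.mulVec, dotProduct, Fin.sum_univ_two]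

theorem up_mem (s : k) : up s ∈ fixer (![1, 0] : Fin 2 → k) := by
  rw [mem_fixer]
  ext i
  fin_cases i <;> simp [up, Matrix.mulVec, dotProduct, Fin.sum_univ_two]

theorem lo_coe (t : k) : ((lo t : SpecialLinearGroup (Fin 2) k) : Matrix (Fin 2) (Fin 2) k) = !![1, 0; t, 1] := rfl
theorem up_coe (s : k) : ((up s : SpecialLinearGroup (Fin 2) k) : Matrix (Fin 2) (Fin 2) k) = !![1, s; 0, 1] := rfl

theorem eq_lo {g : SpecialLinearGroup (Fin 2) k} (hg : g ∈ fixer (![0, 1] : Fin 2 → k)) :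
    g = lo ((g : Matrix (Fin 2) (Fin 2) k) 1 0) := by
  obtain ⟨h01, h00, h11⟩ := mem_fixer_e2.mp hg
  ext i j
  fin_cases i <;> fin_cases j <;> simp [lo_coe, h01, h00, h11]

theorem eq_up {g : SpecialLinearGroup (Fin 2) k} (hg : g ∈ fixer (![1, 0] : Fin 2 → k)) :
    g = up ((g : Matrix (Fin 2) (Fin 2) k) 0 1) := by
  obtain ⟨h10, h00, h11⟩ := mem_fixer_e1.mp hg
  ext i j
  fin_cases i <;> fin_cases j <;> simp [up_coe, h10, h00, h11]

theorem lo_mul (t t' : k) : lo t * lo t' = lo (t + t') := by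
  ext i j
  fin_cases i <;> fin_cases j <;>
    simp [Matrix.SpecialLinearGroup.coe_mul, lo_coe, Matrix.mul_apply, Fin.sum_univ_two, add_comm]

theorem up_mul (s s' : k) : up s * up s' = up (s + s') := by
  ext i j
  fin_cases i <;> fin_cases j <;>
    simp [Matrix.SpecialLinearGroup.coe_mul, up_coe, Matrix.mul_apply, Fin.sum_univ_two, add_comm]

theorem lo_zero : lo (0 : k) = 1 := by
  ext i j
  fin_cases i <;> fin_cases j <;> simp [lo_coe]

theorem up_zero : up (0 : k) = 1 := by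
  ext i j
  fin_cases i <;> fin_cases j <;> simp [up_coe]

theorem lo_inv (t : k) : (lo t)⁻¹ = lo (-t) := by
  rw [inv_eq_iff_mul_eq_one, lo_mul, add_neg_cancel, lo_zero]

theorem up_inv (s : k) : (up s)⁻¹ = up (-s) := by
  rw [inv_eq_iff_mul_eq_one, up_mul, add_neg_cancel, up_zero]

theorem lo_ne_one {t : k} (ht : t ≠ 0) : lo t ≠ 1 := by
  intro h
  have := congrArg (fun g : SpecialLinearGroup (Fin 2) k => (g : Matrix (Fin 2) (Fin 2) k) 1 0) h
  simp [lo_coe] at this
  exact ht this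

theorem up_ne_one {s : k} (hs : s ≠ 0) : up s ≠ 1 := by
  intro h
  have := congrArg (fun g : SpecialLinearGroup (Fin 2) k => (g : Matrix (Fin 2) (Fin 2) k) 0 1) h
  simp [up_coe] at this
  exact hs this

theorem lo_inv_mulVec (t : k) :
    (((lo t)⁻¹ : SpecialLinearGroup (Fin 2) k) : Matrix (Fin 2) (Fin 2) k) *ᵥ ![1, 0] = ![1, -t] := by
  rw [lo_inv, lo_coe]
  ext i
  fin_cases i <;> simp [Matrix.mulVec, dotProduct, Fin.sum_univ_two]

theorem up_inv_mulVec (s : k) :
    (((up s)⁻¹ : SpecialLinearGroup (Fin 2) k) : Matrix (Fin 2) (Fin 2) k) *ᵥ ![0, 1] = ![-s, 1] := by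
  rw [up_inv, up_coe]
  ext i
  fin_cases i <;> simp [Matrix.mulVec, dotProduct, Fin.sum_univ_two]

/-- The basic conjugation identity. -/
theorem conj_eq {s t : k} (hst : s * t = 1) :
    conjBy (fixer (![0, 1] : Fin 2 → k)) (up s)⁻¹ = conjBy (fixer (![1, 0] : Fin 2 → k)) (lo t)⁻¹ := by
  rw [conjBy_fixer, conjBy_fixer, lo_inv_mulVec, up_inv_mulVec]
  have hs : -s ≠ 0 := by
    intro h
    rw [neg_eq_zero] at h
    rw [h, zero_mul] at hst
    exact zero_ne_one hst
  have : (![-s, 1] : Fin 2 → k) = (-s) • ![1, -t] := by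
    ext i
    fin_cases i <;> simp [hst]
  rw [this, fixer_smul _ hs]

theorem special_identity {s t : k} (hst : s * t = 1) :
    (up s)⁻¹ * lo t * up s = (lo t)⁻¹ * (up s)⁻¹ * lo t := by
  rw [up_inv, lo_inv]
  have hts : t * s = 1 := by rw [mul_comm]; exact hst
  ext i j
  fin_cases i <;> fin_cases j <;>
    simp [Matrix.SpecialLinearGroup.coe_mul, up_coe, lo_coe, Matrix.mul_apply, Fin.sum_univ_two, hst, hts]
  ring

theorem isMulCommutative_lower : IsMulCommutative ↥(fixer (![0, 1] : Fin 2 → k)) := by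
  constructor; constructor
  rintro ⟨a, ha⟩ ⟨b, hb⟩
  apply Subtype.ext
  change a * b = b * a
  rw [eq_lo ha, eq_lo hb, lo_mul, lo_mul, add_comm]

theorem isMulCommutative_upper : IsMulCommutative ↥(fixer (![1, 0] : Fin 2 → k)) := by
  constructor; constructor
  rintro ⟨a, ha⟩ ⟨b, hb⟩
  apply Subtype.ext
  change a * b = b * a
  rw [eq_up ha, eq_up hb, up_mul, up_mul, add_comm]

theorem pair : IsRankOnePair (fixer (![0, 1] : Fin 2 → k)) (fixer (![1, 0] : Fin 2 → k)) := by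
  refine ⟨?_, ⟨1, Subgroup.upperCentralSeries_one_eq_top_iff.mpr isMulCommutative_lower⟩,
    ⟨1, Subgroup.upperCentralSeries_one_eq_top_iff.mpr isMulCommutative_upper⟩, ?_, ?_⟩
  · intro h
    have h1 : lo (1 : k) ∈ fixer (![1, 0] : Fin 2 → k) := h ▸ lo_mem 1
    rw [mem_fixer_e1] at h1
    simp [lo_coe] at h1
  · intro a ha ha1
    rw [eq_lo ha] at ha1 ⊢
    set t := (a : Matrix (Fin 2) (Fin 2) k) 1 0
    have ht : t ≠ 0 := by
      intro h
      rw [h, lo_zero] at ha1
      exact ha1 rfl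
    exact ⟨up t⁻¹, up_mem _, up_ne_one (inv_ne_zero ht), conj_eq (inv_mul_cancel₀ ht)⟩
  · intro b hb hb1
    rw [eq_up hb] at hb1 ⊢
    set s := (b : Matrix (Fin 2) (Fin 2) k) 0 1
    have hs : s ≠ 0 := by
      intro h
      rw [h, up_zero] at hb1
      exact hb1 rfl
    exact ⟨lo s⁻¹, lo_mem _, lo_ne_one (inv_ne_zero hs), (conj_eq (mul_inv_cancel₀ hs)).symm⟩

theorem sup_eq_top :
    fixer (![0, 1] : Fin 2 → k) ⊔ fixer (![1, 0] : Fin 2 → k) = ⊤ := by
  rw [eq_top_iff]
  intro g _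
  refine Cfsg.Agent.Helper7.Transv.transvection_induction
    (fun g => g ∈ fixer (![0, 1] : Fin 2 → k) ⊔ fixer (![1, 0] : Fin 2 → k)) ?_ ?_ g
  · intro i j hij a
    fin_cases i <;> fin_cases j
    · exact absurd rfl hij
    · apply Subgroup.mem_sup_right
      rw [mem_fixer_e1]
      simp [Matrix.SpecialLinearGroup.transvection, Matrix.transvection]
    · apply Subgroup.mem_sup_left
      rw [mem_fixer_e2]
      simp [Matrix.SpecialLinearGroup.transvection, Matrix.transvection]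
    · exact absurd rfl hij
  · intro A B hA hB
    exact Subgroup.mul_mem _ hA hB

theorem special : IsSpecialRankOnePair (fixer (![0, 1] : Fin 2 → k)) (fixer (![1, 0] : Fin 2 → k)) := by
  refine ⟨pair, ?_⟩
  intro a ha ha1 b hb hb1 hconj
  obtain ⟨b₀, _, huniq⟩ := existsUnique_partner pair ha ha1
  have hb0 := huniq b ⟨hb, hb1, hconj⟩
  rw [eq_lo ha] at ha1 hconj huniq ⊢
  set t := (a : Matrix (Fin 2) (Fin 2) k) 1 0
  have ht : t ≠ 0 := by
    intro h
    rw [h, lo_zero] at ha1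
    exact ha1 rfl
  have hb1' := huniq (up t⁻¹) ⟨up_mem _, up_ne_one (inv_ne_zero ht), conj_eq (inv_mul_cancel₀ ht)⟩
  rw [hb0, ← hb1']
  exact special_identity (inv_mul_cancel₀ ht)

/-- For any field k, the special linear group SL₂(k) is a special rank one group with abelian unipotent subgroups, the unipotent subgroups being the group of lower unitriangular matrices and the group of upper unitriangular matrices. -/
theorem result (k : Type*) [Field k] :
    Cfsg.IsRankOneGroup (Matrix.SpecialLinearGroup (Fin 2) k) (Cfsg.lowerUnipotentSL2 k) (Cfsg.upperUnipotentSL2 k) ∧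
    Cfsg.IsSpecialRankOnePair (Cfsg.lowerUnipotentSL2 k) (Cfsg.upperUnipotentSL2 k) ∧
    Cfsg.HasAbelianUnipotents (Cfsg.lowerUnipotentSL2 k) (Cfsg.upperUnipotentSL2 k) := by
  rw [lower_eq, upper_eq]
  exact ⟨⟨sup_eq_top, pair⟩, special, isMulCommutative_lower, isMulCommutative_upper⟩

end Cfsg.Agent.S5016
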