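import Mathlib
import Cfsg.Statements.S0755

set_option autoImplicit false
open Cfsg

namespace Cfsg.Agent.S0755

open Module

section field

variable {F : Type*} [Field F] [Finite F] (σ : F →+* F)

/-- The norm map `x ↦ x σ(x)` on units. -/
def normHom : Fˣ →* Fˣ where
  toFun x := x * Units.map (σ : F →* F) x
  map_one' := by simp
  map_mul' x y := by
    rw [map_mul]
    exact mul_mul_mul_comm _ _ _ _

/-- The map `y ↦ σ(y)/y` on units. -/
def quotHom : Fˣ →* Fˣ where
  toFun x := Units.map (σ : F →* F) x * x⁻¹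
  map_one' := by simp
  map_mul' x y := by
    rw [map_mul, _root_.mul_inv_rev, mul_comm y⁻¹ x⁻¹]
    exact mul_mul_mul_comm _ _ _ _

theorem normHom_val (x : Fˣ) : ((normHom σ x : Fˣ) : F) = (x : F) * σ x := rfl

theorem quotHom_val (x : Fˣ) : ((quotHom σ x : Fˣ) : F) = σ x * ((x : F))⁻¹ := by
  change σ (x : F) * ((x⁻¹ : Fˣ) : F) = _
  rw [Units.val_inv_eq_inv_val]

variable {σ}

/-- Hilbert 90, elementary form. -/
theorem range_quotHom (hσ : σ ≠ RingHom.id F) (hσ2 : ∀ a : F, σ (σ a) = a) :
    (quotHom σ).range = (normHom σ).ker := by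
  ext x
  rw [MonoidHom.mem_ker, MonoidHom.mem_range]
  constructor
  · rintro ⟨y, rfl⟩
    apply Units.ext
    rw [normHom_val, quotHom_val, Units.val_one, map_mul, map_inv₀, hσ2]
    have hy : (y : F) ≠ 0 := y.ne_zero
    have hy' : σ (y : F) ≠ 0 := by
      intro h
      have := congrArg σ h
      rw [hσ2, map_zero] at this
      exact hy this
    field_simp
  · intro hx
    have hx' : (x : F) * σ x = 1 := by
      have := congrArg Units.val hx
      rwa [normHom_val, Units.val_one] at this
    by_cases h1 : 1 + σ (x : F) = 0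
    · -- x = -1
      obtain ⟨θ, hθ⟩ : ∃ θ : F, σ θ ≠ θ := by
        by_contra hcon
        push Not at hcon
        exact hσ (RingHom.ext hcon)
      have hx1 : (x : F) = -1 := by
        have h2 : σ (x : F) = -1 := by linear_combination h1
        have := congrArg σ h2
        rwa [hσ2, map_neg, map_one] at this
      have hy : θ - σ θ ≠ 0 := sub_ne_zero.mpr (Ne.symm hθ)
      refine ⟨Units.mk0 _ hy, ?_⟩
      apply Units.ext
      rw [quotHom_val, Units.val_mk0, map_sub, hσ2, hx1]
      field_simp
      ring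
    · refine ⟨Units.mk0 _ h1, ?_⟩
      apply Units.ext
      rw [quotHom_val, Units.val_mk0, map_add, map_one, hσ2]
      field_simp
      linear_combination (-1 : F) * hx'

theorem ker_quotHom (x : Fˣ) : x ∈ (quotHom σ).ker ↔ σ (x : F) = x := by
  rw [MonoidHom.mem_ker]
  constructor
  · intro h
    have := congrArg Units.val h
    rw [quotHom_val, Units.val_one] at this
    have hx : (x : F) ≠ 0 := x.ne_zero
    field_simp at this
    exact this
  · intro h
    apply Units.ext
    rw [quotHom_val, Units.val_one, h]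
    exact mul_inv_cancel₀ x.ne_zero

/-- Surjectivity of the norm onto the fixed field. -/
theorem exists_norm_eq (hσ : σ ≠ RingHom.id F) (hσ2 : ∀ a : F, σ (σ a) = a) {a : F} (ha : a ≠ 0)
    (hfix : σ a = a) : ∃ μ : F, μ * σ μ = a := by
  have h1 := Subgroup.card_mul_index (quotHom σ).ker
  rw [Subgroup.index_ker, range_quotHom hσ hσ2] at h1
  have h2 := Subgroup.card_mul_index (normHom σ).ker
  rw [Subgroup.index_ker] at h2
  have hpos : 0 < Nat.card (normHom σ).ker := Nat.card_pos
  have hcard : Nat.card (normHom σ).range = Nat.card (quotHom σ).ker := by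
    have : Nat.card (normHom σ).ker * Nat.card (normHom σ).range =
        Nat.card (normHom σ).ker * Nat.card (quotHom σ).ker := by
      rw [h2, mul_comm, h1]
    exact Nat.eq_of_mul_eq_mul_left hpos this
  have hle : (normHom σ).range ≤ (quotHom σ).ker := by
    rintro _ ⟨y, rfl⟩
    rw [ker_quotHom, normHom_val, map_mul, hσ2, mul_comm]
  have heq : (normHom σ).range = (quotHom σ).ker :=
    Subgroup.eq_of_le_of_card_ge hle (le_of_eq hcard.symm)
  have hmem : Units.mk0 a ha ∈ (quotHom σ).ker := by
    rw [ker_quotHom]; exact hfix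
  rw [← heq] at hmem
  obtain ⟨μ, hμ⟩ := hmem
  refine ⟨(μ : F), ?_⟩
  have := congrArg Units.val hμ
  rwa [normHom_val, Units.val_mk0] at this

end field

section form

variable {F V : Type*} [Field F] [AddCommGroup V] [Module F V] {σ : F →+* F}

/-- A nonzero Hermitian form has a non-isotropic vector. -/
theorem exists_self_ne_zero (hσ : σ ≠ RingHom.id F) (hσ2 : ∀ a : F, σ (σ a) = a)
    (B : V →ₛₗ[σ] V →ₗ[F] F) (hS : B.IsSymm) (hB0 : B ≠ 0) : ∃ x : V, B x x ≠ 0 := by
  by_contra hcon
  push Not at hcon
  apply hB0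
  obtain ⟨θ, hθ⟩ : ∃ θ : F, σ θ ≠ θ := by
    by_contra hcon'
    push Not at hcon'
    exact hσ (RingHom.ext hcon')
  have key : ∀ x y : V, B x y + σ (B x y) = 0 := by
    intro x y
    have h := hcon (x + y)
    simp only [map_add, LinearMap.add_apply, hcon x, hcon y, zero_add, add_zero] at h
    rw [hS.eq x y]
    linear_combination h
  ext x y
  have h1 := key x y
  have h2 := key (θ • x) y
  rw [LinearMap.map_smulₛₗ₂, smul_eq_mul, map_mul, hσ2] at h2
  have h3 : (σ θ - θ) * B x y = 0 := by linear_combination h2 - θ * h1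
  rcases mul_eq_zero.mp h3 with h | h
  · exact absurd (sub_eq_zero.mp h) hθ
  · simpa using h

variable [Finite F] [FiniteDimensional F V]

/-- A non-degenerate Hermitian form on a nonzero space represents `1`. -/
theorem exists_self_eq_one (hσ : σ ≠ RingHom.id F) (hσ2 : ∀ a : F, σ (σ a) = a)
    (B : V →ₛₗ[σ] V →ₗ[F] F) (hS : B.IsSymm) (hB : B.Nondegenerate) (hV : 0 < finrank F V) :
    ∃ x : V, B x x = 1 := by
  have hB0 : B ≠ 0 := by
    rintro rfl
    have : Nontrivial V := finrank_pos_iff.mp hV
    obtain ⟨x, hx⟩ := exists_ne (0 : V)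
    exact hx (hB.1 x (fun y => rfl))
  obtain ⟨x₀, hx₀⟩ := exists_self_ne_zero hσ hσ2 B hS hB0
  have hfix : σ (B x₀ x₀)⁻¹ = (B x₀ x₀)⁻¹ := by rw [map_inv₀, hS.eq]
  obtain ⟨μ, hμ⟩ := exists_norm_eq hσ hσ2 (inv_ne_zero hx₀) hfix
  refine ⟨μ • x₀, ?_⟩
  rw [LinearMap.map_smulₛₗ₂, map_smul, smul_eq_mul, smul_eq_mul, ← mul_assoc, mul_comm (σ μ), hμ,
    inv_mul_cancel₀ hx₀]

theorem main (hσ : σ ≠ RingHom.id F) (hσ2 : ∀ a : F, σ (σ a) = a) :
    ∀ (d : ℕ) (V : Type _) [AddCommGroup V] [Module F V] [FiniteDimensional F V]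
      (B : V →ₛₗ[σ] V →ₗ[F] F) (_ : B.IsSymm) (_ : B.Nondegenerate) (_ : finrank F V = d),
      ∃ b : Basis (Fin d) F V, ∀ i j, B (b i) (b j) = if i = j then 1 else 0 := by
  intro d
  induction d with
  | zero =>
    intro V _ _ _ B hS hB hd
    exact ⟨basisOfFinrankZero hd, fun i => i.elim0⟩
  | succ d ih =>
    intro V _ _ _ B hS hB hd
    obtain ⟨x, hx⟩ := exists_self_eq_one hσ hσ2 B hS hB (by omega)
    set N : Submodule F V := LinearMap.ker (B x) with hN
    have hsp : ∀ z : V, ∃ c : F, z + c • x ∈ N := by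
      intro z
      refine ⟨-B x z, ?_⟩
      rw [hN, LinearMap.mem_ker, map_add, map_smul, hx, smul_eq_mul, mul_one, add_neg_cancel]
    have hli : ∀ (c : F), ∀ y ∈ N, c • x + y = 0 → c = 0 := by
      intro c y hy hc
      have := congrArg (B x) hc
      rw [map_add, map_smul, hx, LinearMap.mem_ker.mp hy, map_zero, add_zero, smul_eq_mul,
        mul_one] at this
      exact this
    have hxN : ∀ n : N, B x (n : V) = 0 := fun n => LinearMap.mem_ker.mp n.2
    have hNx : ∀ n : N, B (n : V) x = 0 := by
      intro n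
      rw [← hS.eq x n, hxN, map_zero]
    -- dimension
    have hdN : finrank F N = d := by
      have h1 := LinearMap.finrank_range_add_finrank_ker (B x)
      have h2 : LinearMap.range (B x) = ⊤ := by
        rw [LinearMap.range_eq_top]
        intro c
        exact ⟨c • x, by rw [map_smul, hx, smul_eq_mul, mul_one]⟩
      rw [h2, finrank_top, finrank_self, hd] at h1
      rw [hN]
      omega
    -- restricted form
    have hS' : (B.domRestrict₁₂ N N).IsSymm := hS.domRestrict N
    have hB' : (B.domRestrict₁₂ N N).Nondegenerate := by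
      constructor
      · intro m hm
        apply Subtype.ext
        apply hB.1
        intro v
        obtain ⟨c, hc⟩ := hsp v
        have hv : v = (⟨v + c • x, hc⟩ : N) - c • x := by
          change v = (v + c • x) - c • x
          rw [add_sub_cancel_right]
        rw [hv, map_sub, map_smul, hNx, smul_zero, sub_zero]
        exact hm ⟨v + c • x, hc⟩
      · intro m hm
        apply Subtype.ext
        apply hB.2
        intro v
        obtain ⟨c, hc⟩ := hsp v
        have hv : v = (⟨v + c • x, hc⟩ : N) - c • x := by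
          change v = (v + c • x) - c • x
          rw [add_sub_cancel_right]
        rw [hv, map_sub, LinearMap.sub_apply, LinearMap.map_smulₛₗ₂, hxN, smul_zero, sub_zero]
        exact hm ⟨v + c • x, hc⟩
    obtain ⟨b', hb'⟩ := ih N (B.domRestrict₁₂ N N) hS' hB' hdN
    refine ⟨Basis.mkFinCons x b' hli hsp, ?_⟩
    rw [Basis.coe_mkFinCons]
    intro i j
    refine Fin.cases ?_ (fun i => ?_) i <;> refine Fin.cases ?_ (fun j => ?_) j
    · simp only [Fin.cons_zero, if_true]
      exact hx
    · simp only [Fin.cons_zero, Fin.cons_succ, Function.comp_apply]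
      rw [hxN, if_neg (Fin.succ_ne_zero j).symm]
    · simp only [Fin.cons_zero, Fin.cons_succ, Function.comp_apply]
      rw [hNx, if_neg (Fin.succ_ne_zero i)]
    · simp only [Fin.cons_succ, Function.comp_apply]
      have := hb' i j
      rw [LinearMap.domRestrict₁₂_apply] at this
      rw [this]
      simp only [Fin.succ_inj]

end form

/-- Classification of Hermitian forms over finite fields: if σ is a non-identity involutive automorphism of the finite field F and B is a non-degenerate conjugate-symmetric σ-sesquilinear form on the finite-dimensional space V, then V has a B-orthonormal basis. -/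
theorem result {F V : Type*} [Field F] [Finite F] [AddCommGroup V] [Module F V] [FiniteDimensional F V] (σ : F →+* F) (hσ : σ ≠ RingHom.id F) (hσ2 : ∀ a : F, σ (σ a) = a) (B : V →ₛₗ[σ] V →ₗ[F] F) (hS : B.IsSymm) (hB : B.Nondegenerate) : ∃ b : Module.Basis (Fin (Module.finrank F V)) F V, ∀ i j, B (b i) (b j) = if i = j then 1 else 0 := by
  exact main hσ hσ2 _ V B hS hB rfl

end Cfsg.Agent.S0755
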