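import Cfsg.Statements.S2261
import Mathlib

set_option autoImplicit false
open Cfsg

namespace Cfsg.Agent.S2261

open Matrix Polynomial

variable {F : Type*} [Field F] [Fintype F]

/-- the `F`-span of the first `d` powers of a matrix. -/
def TT {d : ℕ} (M : Matrix (Fin d) (Fin d) F) : Set (Matrix (Fin d) (Fin d) F) :=
  Set.range (fun c : Fin d → F => ∑ i : Fin d, c i • M ^ (i : ℕ))

omit [Fintype F] in
theorem smul_pow_mem_TT {d : ℕ} (M : Matrix (Fin d) (Fin d) F) (c : F) (k : ℕ) :
    c • M ^ k ∈ TT M := by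
  rcases Nat.eq_zero_or_pos d with hd | hd
  · subst hd
    exact ⟨0, Subsingleton.elim _ _⟩
  have hdeg : (X ^ k %ₘ M.charpoly).degree < (d : WithBot ℕ) := by
    have h1 := Polynomial.degree_modByMonic_lt (X ^ k) (Matrix.charpoly_monic M)
    have h2 : M.charpoly.degree = (d : WithBot ℕ) := by
      rw [Matrix.charpoly_degree_eq_dim, Fintype.card_fin]
    rwa [h2] at h1
  refine ⟨fun i => c * (X ^ k %ₘ M.charpoly).coeff i, ?_⟩
  show ∑ i : Fin d, (c * (X ^ k %ₘ M.charpoly).coeff i) • M ^ (i : ℕ) = c • M ^ k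
  rw [Matrix.pow_eq_aeval_mod_charpoly M k, Polynomial.aeval_eq_sum_range' (n := d)]
  · rw [Finset.smul_sum, Finset.sum_range]
    refine Finset.sum_congr rfl fun i _ => ?_
    rw [smul_smul]
  · by_cases h0 : X ^ k %ₘ M.charpoly = 0
    · rw [h0, Polynomial.natDegree_zero]
      exact hd
    · exact (Polynomial.natDegree_lt_iff_degree_lt h0).mpr hdeg

theorem card_TT_le {d : ℕ} (M : Matrix (Fin d) (Fin d) F) :
    Nat.card (TT M) ≤ Fintype.card F ^ d := by
  have h := Nat.card_le_card_of_surjective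
    (fun c : Fin d → F => (⟨∑ i : Fin d, c i • M ^ (i : ℕ), ⟨c, rfl⟩⟩ : TT M))
    (by rintro ⟨x, c, rfl⟩; exact ⟨c, rfl⟩)
  have h2 : Nat.card (Fin d → F) = Fintype.card F ^ d := by
    rw [Nat.card_eq_fintype_card, Fintype.card_fun, Fintype.card_fin]
  rwa [h2] at h

theorem card_center (d : ℕ) (hd : 1 ≤ d) :
    Nat.card (Subgroup.center (GL (Fin d) F)) = Fintype.card F - 1 := by
  classical
  rw [Matrix.GeneralLinearGroup.center_eq_range_scalar]
  have hinj : Function.Injective (Matrix.GeneralLinearGroup.scalar (Fin d) (R := F)) := by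
    intro a b h
    have h2 := congrArg (fun g : GL (Fin d) F =>
      (g : Matrix (Fin d) (Fin d) F) ⟨0, by omega⟩ ⟨0, by omega⟩) h
    simp at h2
    exact Units.ext h2
  rw [Nat.card_congr (MonoidHom.ofInjective hinj).symm.toEquiv, Nat.card_eq_fintype_card,
    Fintype.card_units]

/-- elements of `⟨a⟩ Z` are scalar multiples of powers of `a`. -/
theorem mem_TT_of_mk_mem {d : ℕ} (a x : GL (Fin d) F)
    (hx : (QuotientGroup.mk x : GL (Fin d) F ⧸ Subgroup.center (GL (Fin d) F)) ∈
      Subgroup.zpowers (QuotientGroup.mk a : GL (Fin d) F ⧸ Subgroup.center (GL (Fin d) F))) :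
    (x : Matrix (Fin d) (Fin d) F) ∈ TT (a : Matrix (Fin d) (Fin d) F) := by
  rw [← mem_powers_iff_mem_zpowers] at hx
  obtain ⟨k, hk⟩ := hx
  have h1 : (QuotientGroup.mk (a ^ k) : GL (Fin d) F ⧸ Subgroup.center (GL (Fin d) F)) =
      QuotientGroup.mk x := hk
  rw [QuotientGroup.eq, Matrix.GeneralLinearGroup.center_eq_range_scalar] at h1
  obtain ⟨c, hc⟩ := h1
  have h2 : x = a ^ k * Matrix.GeneralLinearGroup.scalar (Fin d) c := by
    rw [hc, mul_inv_cancel_left]
  have h3 : (x : Matrix (Fin d) (Fin d) F) = (c : F) • (a : Matrix (Fin d) (Fin d) F) ^ k := by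
    rw [h2, Units.val_mul, Units.val_pow_eq_pow_val]
    simp [Matrix.GeneralLinearGroup.scalar, Matrix.smul_eq_mul_diagonal]
  rw [h3]
  exact smul_pow_mem_TT _ _ _

theorem upper (d : ℕ) (hd : 1 ≤ d) (g : GL (Fin d) F ⧸ Subgroup.center (GL (Fin d) F)) :
    (Fintype.card F - 1) * orderOf g ≤ Fintype.card F ^ d - 1 := by
  classical
  obtain ⟨a, rfl⟩ := QuotientGroup.mk_surjective g
  have h1 := QuotientGroup.card_preimage_mk (Subgroup.center (GL (Fin d) F))
    ((Subgroup.zpowers (QuotientGroup.mk a : GL (Fin d) F ⧸ Subgroup.center (GL (Fin d) F)) :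
      Subgroup _) : Set (GL (Fin d) F ⧸ Subgroup.center (GL (Fin d) F)))
  rw [card_center d hd] at h1
  have h1' : Nat.card ((Subgroup.zpowers (QuotientGroup.mk a :
      GL (Fin d) F ⧸ Subgroup.center (GL (Fin d) F)) : Subgroup _) :
      Set (GL (Fin d) F ⧸ Subgroup.center (GL (Fin d) F))) =
      orderOf (QuotientGroup.mk a : GL (Fin d) F ⧸ Subgroup.center (GL (Fin d) F)) :=
    Nat.card_zpowers _
  rw [h1'] at h1
  rw [← h1]
  have hnz : Nontrivial (Matrix (Fin d) (Fin d) F) := by
    haveI : Nonempty (Fin d) := ⟨⟨0, by omega⟩⟩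
    infer_instance
  have hinj : Function.Injective
      (fun x : (QuotientGroup.mk ⁻¹' ((Subgroup.zpowers (QuotientGroup.mk a :
        GL (Fin d) F ⧸ Subgroup.center (GL (Fin d) F)) : Subgroup _) :
        Set (GL (Fin d) F ⧸ Subgroup.center (GL (Fin d) F)))) =>
        (⟨⟨((x : GL (Fin d) F) : Matrix (Fin d) (Fin d) F), mem_TT_of_mk_mem a x x.2⟩,
          fun h0 => by
            have h2 : ((x : GL (Fin d) F) : Matrix (Fin d) (Fin d) F) = 0 :=
              congrArg Subtype.val h0
            exact (x : GL (Fin d) F).ne_zero h2⟩ :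
          {y : TT (a : Matrix (Fin d) (Fin d) F) // y ≠ ⟨0, ⟨0, by simp⟩⟩})) := by
    intro x y h
    have h2 := congrArg (fun z => ((z.1 : TT (a : Matrix (Fin d) (Fin d) F)) :
      Matrix (Fin d) (Fin d) F)) h
    exact Subtype.ext (Units.ext h2)
  have h3 := Nat.card_le_card_of_injective _ hinj
  have h4 : Nat.card {y : TT (a : Matrix (Fin d) (Fin d) F) // y ≠ ⟨0, ⟨0, by simp⟩⟩} =
      Nat.card (TT (a : Matrix (Fin d) (Fin d) F)) - 1 := by
    rw [Nat.card_eq_fintype_card, Nat.card_eq_fintype_card, Fintype.card_subtype_compl,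
      Fintype.card_subtype_eq]
  rw [h4] at h3
  have h5 := card_TT_le (a : Matrix (Fin d) (Fin d) F)
  omega

/-- in an extension `L/F` of finite fields, `x ^ (q - 1) = 1` characterises `Fˣ ⊆ Lˣ`. -/
theorem mem_range_iff {L : Type*} [Field L] [Finite L] [Algebra F L] (x : Lˣ) :
    x ^ (Fintype.card F - 1) = 1 ↔ ∃ c : Fˣ, Units.map (algebraMap F L).toMonoidHom c = x := by
  classical
  have hq : 1 < Fintype.card F := Fintype.one_lt_card
  have hR : (Units.map (algebraMap F L).toMonoidHom).range ≤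
      (powMonoidHom (Fintype.card F - 1) : Lˣ →* Lˣ).ker := by
    rintro _ ⟨c, rfl⟩
    rw [MonoidHom.mem_ker, powMonoidHom_apply, ← map_pow]
    have : c ^ (Fintype.card F - 1) = 1 := by
      rw [← Fintype.card_units]; exact pow_card_eq_one
    rw [this, map_one]
  have hinj : Function.Injective (Units.map (algebraMap F L).toMonoidHom) :=
    Units.map_injective (algebraMap F L).injective
  have hcardR : Nat.card (Units.map (algebraMap F L).toMonoidHom).range = Fintype.card F - 1 := by
    rw [Nat.card_congr (MonoidHom.ofInjective hinj).symm.toEquiv, Nat.card_eq_fintype_card,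
      Fintype.card_units]
  have hcardK : Nat.card (powMonoidHom (Fintype.card F - 1) : Lˣ →* Lˣ).ker ≤
      Fintype.card F - 1 := by
    rw [IsCyclic.card_powMonoidHom_ker]
    exact Nat.le_of_dvd (by omega) (Nat.gcd_dvd_right _ _)
  have heq := Subgroup.eq_of_le_of_card_ge hR (by rw [hcardR]; exact hcardK)
  constructor
  · intro hx
    have : x ∈ (powMonoidHom (Fintype.card F - 1) : Lˣ →* Lˣ).ker := by
      rw [MonoidHom.mem_ker, powMonoidHom_apply]; exact hx
    rw [← heq] at this
    exact this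
  · rintro ⟨c, rfl⟩
    have := hR ⟨c, rfl⟩
    rwa [MonoidHom.mem_ker, powMonoidHom_apply] at this

theorem exists_singer (d : ℕ) (hd : 1 ≤ d) :
    ∃ g : (GL (Fin d) F ⧸ Subgroup.center (GL (Fin d) F)),
      (Fintype.card F - 1) * orderOf g = Fintype.card F ^ d - 1 := by
  classical
  obtain ⟨p, hp⟩ := CharP.exists F
  haveI : Fact p.Prime := ⟨CharP.char_is_prime F p⟩
  haveI : NeZero d := ⟨by omega⟩
  have hq : 1 < Fintype.card F := Fintype.one_lt_card
  let L := FiniteField.Extension F p d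
  have hfr : Module.finrank F L = d := FiniteField.finrank_extension F p d
  let b : Module.Basis (Fin d) F L := Module.finBasisOfFinrankEq F L hfr
  let φ : L →ₐ[F] Matrix (Fin d) (Fin d) F := Algebra.leftMulMatrix b
  have hφ : Function.Injective φ := Algebra.leftMulMatrix_injective b
  obtain ⟨ω, hω⟩ := IsCyclic.exists_generator (α := Lˣ)
  have hordω : orderOf ω = Fintype.card F ^ d - 1 := by
    rw [orderOf_eq_card_of_forall_mem_zpowers hω, Nat.card_units,
      FiniteField.natCard_extension F p d, Nat.card_eq_fintype_card]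
  let g : GL (Fin d) F := Units.map φ.toMonoidHom ω
  have hdvd : Fintype.card F - 1 ∣ Fintype.card F ^ d - 1 := by
    have := Nat.sub_dvd_pow_sub_pow (x := Fintype.card F) (y := 1) (n := d)
    rwa [one_pow] at this
  obtain ⟨N, hN⟩ := hdvd
  -- characterisation of the powers of `mk g` which are trivial
  have key : ∀ k : ℕ, (QuotientGroup.mk g : GL (Fin d) F ⧸ Subgroup.center (GL (Fin d) F)) ^ k = 1 ↔
      N ∣ k := by
    intro k
    rw [← QuotientGroup.mk_pow, QuotientGroup.eq_one_iff,
      Matrix.GeneralLinearGroup.center_eq_range_scalar]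
    have hgk : ((g ^ k : GL (Fin d) F) : Matrix (Fin d) (Fin d) F) = φ ((ω : L) ^ k) := by
      rw [Units.val_pow_eq_pow_val, map_pow]; rfl
    have hsc : ∀ c : Fˣ, ((Matrix.GeneralLinearGroup.scalar (Fin d) c : GL (Fin d) F) :
        Matrix (Fin d) (Fin d) F) = φ (algebraMap F L (c : F)) := by
      intro c
      rw [AlgHom.commutes]
      simp [Matrix.GeneralLinearGroup.scalar, Matrix.algebraMap_eq_diagonal]
    have h1 : (∃ c : Fˣ, Matrix.GeneralLinearGroup.scalar (Fin d) c = g ^ k) ↔
        ∃ c : Fˣ, Units.map (algebraMap F L).toMonoidHom c = ω ^ k := by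
      constructor
      · rintro ⟨c, hc⟩
        refine ⟨c, ?_⟩
        apply Units.ext
        apply hφ
        have h2 := congrArg (fun x : GL (Fin d) F => (x : Matrix (Fin d) (Fin d) F)) hc
        simp only [hgk, hsc] at h2
        rw [Units.val_pow_eq_pow_val, ← h2]
        rfl
      · rintro ⟨c, hc⟩
        refine ⟨c, ?_⟩
        apply Units.ext
        rw [hgk, hsc]
        have h2 := congrArg (fun x : Lˣ => φ (x : L)) hc
        simp only [Units.val_pow_eq_pow_val] at h2
        rw [← h2]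
        rfl
    rw [MonoidHom.mem_range, h1, ← mem_range_iff (F := F) (ω ^ k), ← pow_mul,
      ← orderOf_dvd_iff_pow_eq_one, hordω, hN]
    have hq1 : 0 < Fintype.card F - 1 := by omega
    rw [mul_comm k, Nat.mul_dvd_mul_iff_left hq1]
  refine ⟨QuotientGroup.mk g, ?_⟩
  have hN0 : N ≠ 0 := by
    rintro rfl
    rw [mul_zero] at hN
    have : 1 < Fintype.card F ^ d := Nat.one_lt_pow (by omega) hq
    omega
  have hord : orderOf (QuotientGroup.mk g : GL (Fin d) F ⧸ Subgroup.center (GL (Fin d) F)) = N := by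
    apply Nat.dvd_antisymm
    · exact orderOf_dvd_of_pow_eq_one ((key N).mpr dvd_rfl)
    · exact (key _).mp (pow_orderOf_eq_one _)
  rw [hord, hN]

/-- Let F be a finite field with q elements and d ≥ 1. Then every element of PGL_d(F) = GL_d(F)/Z has order at most (q^d − 1)/(q − 1), and some element (the image of a Singer cycle) has exactly this order. -/
theorem result {F : Type*} [Field F] [Fintype F] (d : ℕ) (hd : 1 ≤ d) :
    (∀ g : (GL (Fin d) F ⧸ Subgroup.center (GL (Fin d) F)), (Fintype.card F - 1) * orderOf g ≤ Fintype.card F ^ d - 1) ∧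
    (∃ g : (GL (Fin d) F ⧸ Subgroup.center (GL (Fin d) F)), (Fintype.card F - 1) * orderOf g = Fintype.card F ^ d - 1) := by
  exact ⟨upper d hd, exists_singer d hd⟩

end Cfsg.Agent.S2261
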