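import Cfsg.Statements.S4558
import Mathlib
import Cfsg.Agent.Helper6.CycloVanish
import Cfsg.Agent.Helper6.RepEigen
import Cfsg.Agent.Helper6.CharBasic
-- import your own Cfsg.Agent.* helpers here

set_option autoImplicit false
open Cfsg

namespace Cfsg.Agent.S4558

/-- Let χ be a character of the finite group G and g an element of p-power order for the prime p. If χ g = 0, then p divides the degree of χ. -/
theorem result {G : Type*} [Group G] [Finite G] (p : ℕ) [Fact p.Prime] (χ : G → ℂ) (hχ : Cfsg.IsCharacter G χ) (g : G) (hg : ∃ j : ℕ, orderOf g = p ^ j) (h0 : χ g = 0) : p ∣ Cfsg.charDegree χ := by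
  obtain ⟨n, ρ, rfl⟩ := hχ
  obtain ⟨j, hj⟩ := hg
  have hdeg : Cfsg.charDegree ρ.character = Module.finrank ℂ (Fin n → ℂ) := by
    unfold Cfsg.charDegree
    rw [Representation.char_one]
    simp
  rw [hdeg]
  rcases Nat.eq_zero_or_pos j with hj0 | hjpos
  · rw [hj0, pow_zero, orderOf_eq_one_iff] at hj
    rw [hj, Representation.char_one] at h0
    have : Module.finrank ℂ (Fin n → ℂ) = 0 := by exact_mod_cast h0
    rw [this]
    exact dvd_zero p
  · obtain ⟨k, rfl⟩ : ∃ k, j = k + 1 := ⟨j - 1, by omega⟩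
    obtain ⟨ι, hι, b, μ, h1, h2, h3⟩ := Cfsg.Agent.Helper6.exists_eigenbasis_rep ρ g
    rw [← h3]
    apply Cfsg.Agent.Helper6.prime_dvd_card_of_sum_roots_eq_zero p k μ
    · intro i
      rw [← hj]
      exact h2 i
    · rw [← Cfsg.Agent.Helper6.trace_eq_sum_of_eigenbasis b (ρ g) μ h1]
      exact h0

end Cfsg.Agent.S4558
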