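import Cfsg.Statements.S0915
import Mathlib
import Cfsg.Agent.Helper6.PCoreChar
import Cfsg.Agent.Helper6.BlockBasic
import Cfsg.Agent.Helper1.Cores
import Cfsg.Agent.Helper1.Fitting
import Cfsg.Agent.Helper4.HallHigman
-- import your own Cfsg.Agent.* helpers here

set_option autoImplicit false
open Cfsg

namespace Cfsg.Agent.S0915

/-- Let G be a finite p-solvable group with trivial largest normal subgroup of order prime to p. Then any two irreducible characters of G lie in the same block relative to every maximal ideal M of the algebraic integers containing p: G has a single p-block. -/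
theorem result {G : Type*} [Group G] [Finite G] (p : ℕ) [Fact p.Prime] (M : Ideal Cfsg.AlgInt) (hM : Cfsg.IsPModular p M) (hsolv : Cfsg.IsPSolvable p G) (hcore : Cfsg.pPrimeCore p G = ⊥) (χ ψ : Cfsg.IrrCharacter G) : Cfsg.SameBlock M (χ : G → ℂ) (ψ : G → ℂ) := by
  classical
  have hconstr := Helper4.centralizer_pCore_le_of_isPSolvable hsolv hcore
  intro g
  by_cases hgc : g ∈ Subgroup.centralizer ((Cfsg.pCore p G : Subgroup G) : Set G)
  · have hgQ := hconstr hgc
    have h1 := Helper6.centralChar_sub_index_memLocalIdeal_of_mem hM (Cfsg.pCore p G)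
      (Helper1.pCore_isPGroup p) χ g hgQ
    have h2 := Helper6.centralChar_sub_index_memLocalIdeal_of_mem hM (Cfsg.pCore p G)
      (Helper1.pCore_isPGroup p) ψ g hgQ
    have h3 := Helper6.MemLocalIdeal.sub hM.2.1 h1 h2
    have e : Cfsg.centralChar (χ : G → ℂ) g - ((Subgroup.centralizer ({g} : Set G)).index : ℂ) -
        (Cfsg.centralChar (ψ : G → ℂ) g - ((Subgroup.centralizer ({g} : Set G)).index : ℂ)) =
        Cfsg.centralChar (χ : G → ℂ) g - Cfsg.centralChar (ψ : G → ℂ) g := by ring
    rwa [e] at h3
  · have h1 := Helper6.centralChar_memLocalIdeal_of_not_mem_centralizer hM (Cfsg.pCore p G)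
      (Helper1.pCore_isPGroup p) χ g hgc
    have h2 := Helper6.centralChar_memLocalIdeal_of_not_mem_centralizer hM (Cfsg.pCore p G)
      (Helper1.pCore_isPGroup p) ψ g hgc
    exact Helper6.MemLocalIdeal.sub hM.2.1 h1 h2

end Cfsg.Agent.S0915
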