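import Cfsg.Statements.S4672
import Mathlib
import Cfsg.Agent.Helper6.FongCount
-- import your own Cfsg.Agent.* helpers here

set_option autoImplicit false
open Cfsg

namespace Cfsg.Agent.S4672

/-- Fix a prime p and a maximal ideal M of the algebraic integers containing p. Let N be a normal subgroup of the finite group G of p-power index and c a p-block of N stable under conjugation by G. Then the idempotent of c is a block idempotent of G: there is a p-block B of G whose idempotent coefficients agree with those of c on N and vanish off N; and for every defect group P of such a block B, G = NP and P ∩ N is a defect group of c. -/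
theorem result {G : Type*} [Group G] [Fintype G] (p : ℕ) [Fact p.Prime] (M : Ideal Cfsg.AlgInt) (hM : Cfsg.IsPModular p M) (N : Subgroup G) [N.Normal] (hN : ∃ k : ℕ, N.index = p ^ k) (c : Set (Cfsg.IrrCharacter N)) (hc : Cfsg.IsPBlock M c) (hst : ∀ x : G, Cfsg.StabilizesBlock N c x) : (∃ B : Set (Cfsg.IrrCharacter G), Cfsg.IsPBlock M B ∧ ∀ g : G, Cfsg.blockCoeff B g = Cfsg.subgroupBlockCoeff N c g) ∧ ∀ B : Set (Cfsg.IrrCharacter G), Cfsg.IsPBlock M B → (∀ g : G, Cfsg.blockCoeff B g = Cfsg.subgroupBlockCoeff N c g) → ∀ P : Subgroup G, Cfsg.IsDefectGroup p M B P → N ⊔ P = ⊤ ∧ Cfsg.IsDefectGroup p M c ((P ⊓ N).subgroupOf N) := by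
  classical
  haveI : Fintype N := Fintype.ofFinite _
  have hMm := hM.2.1
  have hO := Helper6.stable_of_stabilizesBlock N c hst
  constructor
  · obtain ⟨B, ⟨hB, χ₀, hχ₀, θ₀, hθ₀, hcon₀⟩, huniq⟩ :=
      Helper6.covering_unique hMm p hM.2.2 N hN c hc
    refine ⟨B, hB, ?_⟩
    have hBL : B = Helper6.lyingOver N c := by
      apply Set.Subset.antisymm
      · intro χ' hχ'
        have hcong := (Helper6.covering_iff hMm N B hB c hc).mp ⟨χ₀, hχ₀, θ₀, hθ₀, hcon₀⟩
        obtain ⟨θ', hθ', hcon'⟩ := Helper6.exists_constituent_in_block hMm N c hc χ' θ₀ hθ₀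
          (fun n => hcong χ' hχ' θ₀ hθ₀ n)
        exact ⟨θ', hθ', hcon'⟩
      · rintro χ' ⟨θ', hθ', hcon'⟩
        have h1 := huniq (Cfsg.blockOf M (χ' : G → ℂ))
          ⟨⟨χ', rfl⟩, χ', Helper6.mem_blockOf_self hMm χ', θ', hθ', hcon'⟩
        rw [← h1]
        exact Helper6.mem_blockOf_self hMm χ'
    intro g
    rw [hBL, Helper6.blockCoeff_lyingOver N c hO g]
    by_cases hg : g ∈ N
    · rw [Helper6.subgroupBlockCoeff_of_mem N c g hg, Helper6.extendByZero_mem N _ hg]
    · rw [Helper6.subgroupBlockCoeff_of_not_mem N c g hg, Helper6.extendByZero_not_mem N _ hg]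
  · intro B hB hBc P hP
    obtain ⟨k, hk⟩ := hN
    obtain ⟨g, hg, S, rfl⟩ := hP
    obtain ⟨hgN, hdc, t, hpt, ht⟩ := Helper6.fong_defectClass hM N c hc hst B hBc g hg
    obtain ⟨h1, h2⟩ := Helper6.sylow_centralizer_normal_count N k hk ⟨g, hgN⟩ t hpt ht S
    refine ⟨h1, ⟨g, hgN⟩, hdc, ?_⟩
    have hle : (((S : Subgroup (Subgroup.centralizer ({g} : Set G))).map
        (Subgroup.centralizer ({g} : Set G)).subtype ⊓ N).subgroupOf N) ≤
        Subgroup.centralizer ({(⟨g, hgN⟩ : N)} : Set N) := by
      intro x hx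
      rw [Subgroup.mem_subgroupOf] at hx
      obtain ⟨y, -, hy⟩ := hx.1
      have hxg : (x : G) ∈ Subgroup.centralizer ({g} : Set G) := by
        rw [← hy]
        exact y.2
      have hx1 := Subgroup.mem_centralizer_singleton_iff.mp hxg
      exact Subgroup.mem_centralizer_singleton_iff.mpr (Subtype.ext hx1)
    have hcard : Nat.card ((((S : Subgroup (Subgroup.centralizer ({g} : Set G))).map
        (Subgroup.centralizer ({g} : Set G)).subtype ⊓ N).subgroupOf N).subgroupOf
          (Subgroup.centralizer ({(⟨g, hgN⟩ : N)} : Set N))) =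
        p ^ (Nat.card (Subgroup.centralizer ({(⟨g, hgN⟩ : N)} : Set N))).factorization p := by
      rw [Nat.card_congr (Subgroup.subgroupOfEquivOfLe hle).toEquiv,
        Nat.card_congr (Subgroup.subgroupOfEquivOfLe
          (inf_le_right : (S : Subgroup (Subgroup.centralizer ({g} : Set G))).map
            (Subgroup.centralizer ({g} : Set G)).subtype ⊓ N ≤ N)).toEquiv]
      exact h2
    refine ⟨Sylow.ofCard _ hcard, ?_⟩
    rw [Sylow.coe_ofCard, Subgroup.map_subgroupOf_eq_of_le hle]

end Cfsg.Agent.S4672
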