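import Cfsg.Statements.S0865
import Mathlib
import Cfsg.Agent.Helper6.LinearExt
-- import your own Cfsg.Agent.* helpers here

set_option autoImplicit false
open Cfsg

namespace Cfsg.Agent.S0865

/-- Let N be a normal subgroup of the finite group G and λ a character of N of degree 1, invariant under conjugation by G, whose order (under pointwise multiplication) is coprime to the index of N. Then there is a character μ of G of degree 1 restricting to λ with the same order as λ, and μ is the only degree-1 character of G restricting to λ whose order is coprime to the index of N. -/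
theorem result {G : Type*} [Group G] [Finite G] (N : Subgroup G) [hN : N.Normal] (lam : N → ℂ) (hlam : Cfsg.IsCharacter N lam ∧ lam 1 = 1) (hinv : ∀ (g : G) (n : N), lam ⟨g * n * g⁻¹, hN.conj_mem (n : G) n.2 g⟩ = lam n) (hcop : Nat.Coprime N.index (orderOf lam)) : ∃ μ : G → ℂ, (Cfsg.IsCharacter G μ ∧ μ 1 = 1 ∧ (∀ n : N, μ n = lam n) ∧ orderOf μ = orderOf lam) ∧ ∀ μ' : G → ℂ, Cfsg.IsCharacter G μ' ∧ μ' 1 = 1 → (∀ n : N, μ' n = lam n) → Nat.Coprime N.index (orderOf μ') → μ' = μ := by
  classical
  obtain ⟨L, hL⟩ := Helper6.exists_hom_of_char_degree_one hlam.1 hlam.2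
  subst hL
  have hinvL : ∀ (g : G) (n : N), L ⟨g * n * g⁻¹, hN.conj_mem (n : G) n.2 g⟩ = L n := by
    intro g n
    exact Units.ext (hinv g n)
  have hord : orderOf (fun n : N => ((L n : ℂˣ) : ℂ)) = orderOf L := Helper6.orderOf_coeFun L
  rw [hord] at hcop
  obtain ⟨M, hMn, hMord, hMuniq⟩ := Helper6.extend_invariant_hom_coprime N L hinvL hcop
  refine ⟨fun g => ((M g : ℂˣ) : ℂ), ⟨?_, ?_, ?_, ?_⟩, ?_⟩
  · exact Helper6.IsIrrCharacter.isCharacter (Helper6.isIrrCharacter_of_hom M)
  · simp
  · intro n
    simp only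
    rw [hMn]
  · rw [Helper6.orderOf_coeFun, hord, hMord]
  · intro μ' hμ' hres hcop'
    obtain ⟨M', rfl⟩ := Helper6.exists_hom_of_char_degree_one hμ'.1 hμ'.2
    rw [Helper6.orderOf_coeFun] at hcop'
    have := hMuniq M' (fun n => Units.ext (hres n)) hcop'
    rw [this]

end Cfsg.Agent.S0865
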