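import Cfsg.Statements.S0867
import Mathlib
import Cfsg.Agent.Helper6.Glue3
import Cfsg.Agent.Helper6.LinearExt
import Cfsg.Agent.S0865
import Cfsg.Agent.S0862
-- import your own Cfsg.Agent.* helpers here

set_option autoImplicit false
open Cfsg

namespace Cfsg.Agent.S0867

/-- Let N be a normal subgroup of the finite group G and ϑ an irreducible character of N of degree d, invariant under conjugation by G, such that the index of N is coprime to the product of d and the determinantal order of ϑ. Then there is an irreducible character χ of G restricting to ϑ whose determinantal order equals that of ϑ, and χ is the only irreducible character of G restricting to ϑ whose determinantal order is coprime to the index of N. -/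
theorem result {G : Type*} [Group G] [Finite G] (N : Subgroup G) [hN : N.Normal] (ϑ : N → ℂ) (hϑ : Cfsg.IsIrrCharacter N ϑ) (hinv : ∀ (g : G) (n : N), ϑ ⟨g * n * g⁻¹, hN.conj_mem (n : G) n.2 g⟩ = ϑ n) (d : ℕ) (hd : ϑ 1 = d) (hcop : Nat.Coprime N.index (Cfsg.detOrder ϑ * d)) : ∃ χ : G → ℂ, (Cfsg.IsIrrCharacter G χ ∧ (∀ n : N, χ n = ϑ n) ∧ Cfsg.detOrder χ = Cfsg.detOrder ϑ) ∧ ∀ χ' : G → ℂ, Cfsg.IsIrrCharacter G χ' → (∀ n : N, χ' n = ϑ n) → Nat.Coprime N.index (Cfsg.detOrder χ') → χ' = χ := by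
  classical
  have hϑc := Helper6.IsIrrCharacter.isCharacter hϑ
  obtain ⟨δ, hδ⟩ := Helper6.exists_hom_detChar hϑc
  have hlam : Cfsg.IsCharacter N (Cfsg.detChar ϑ) ∧ Cfsg.detChar ϑ 1 = 1 := by
    rw [hδ]
    exact ⟨Helper6.IsIrrCharacter.isCharacter (Helper6.isIrrCharacter_of_hom δ), by simp⟩
  have hlaminv : ∀ (g : G) (n : N),
      Cfsg.detChar ϑ ⟨g * n * g⁻¹, hN.conj_mem (n : G) n.2 g⟩ = Cfsg.detChar ϑ n := by
    intro g n
    have h1 := Helper6.detChar_comp_hom (MulAut.conjNormal g : N ≃* N).toMonoidHom hϑc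
    have h2 : (fun h : N => ϑ ((MulAut.conjNormal g : N ≃* N).toMonoidHom h)) = ϑ := by
      funext m
      have := hinv g m
      rw [← this]
      congr 1
    rw [h2] at h1
    have h3 := congrFun h1 n
    rw [h3]
    congr 1
  have hcop1 : Nat.Coprime N.index (orderOf (Cfsg.detChar ϑ)) :=
    Nat.Coprime.coprime_dvd_right (Dvd.intro _ rfl) hcop
  have hcop2 : Nat.Coprime N.index d :=
    Nat.Coprime.coprime_dvd_right (Dvd.intro_left _ rfl) hcop
  obtain ⟨μ, ⟨hμ, hμ1, hμN, hμord⟩, hμuniq⟩ :=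
    Cfsg.Agent.S0865.result N (Cfsg.detChar ϑ) hlam hlaminv hcop1
  obtain ⟨M, hMeq⟩ := Helper6.exists_hom_of_char_degree_one hμ hμ1
  have hMN : ∀ n : N, ((M n : ℂˣ) : ℂ) = Cfsg.detChar ϑ n := by
    intro n
    rw [← hμN n, hMeq]
  have hext := Helper6.ext_of_det_ext N ϑ M hϑ hinv d hd hcop2 hMN
  obtain ⟨χ, ⟨hχ, hχN, hχdet⟩, hχuniq⟩ :=
    Cfsg.Agent.S0862.result N ϑ hϑ d hd hcop2 hext μ ⟨hμ, hμ1⟩ hμN
  refine ⟨χ, ⟨hχ, hχN, ?_⟩, ?_⟩
  · unfold Cfsg.detOrder
    rw [hχdet, hμord]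
  · intro χ' hχ' hχ'N hcop'
    have hχ'c := Helper6.IsIrrCharacter.isCharacter hχ'
    obtain ⟨δ', hδ'⟩ := Helper6.exists_hom_detChar hχ'c
    have hμ' : Cfsg.IsCharacter G (Cfsg.detChar χ') ∧ Cfsg.detChar χ' 1 = 1 := by
      rw [hδ']
      exact ⟨Helper6.IsIrrCharacter.isCharacter (Helper6.isIrrCharacter_of_hom δ'), by simp⟩
    have hμ'N : ∀ n : N, Cfsg.detChar χ' n = Cfsg.detChar ϑ n := by
      intro n
      have h1 := Helper6.detChar_comp_hom N.subtype hχ'c
      have h2 : (fun h : N => χ' (N.subtype h)) = ϑ := funext hχ'N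
      rw [h2] at h1
      rw [h1]
      rfl
    have hμ'eq := hμuniq (Cfsg.detChar χ') hμ' hμ'N hcop'
    exact hχuniq χ' ⟨hχ', hχ'N, hμ'eq⟩

end Cfsg.Agent.S0867
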