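import Cfsg.Statements.S0880
import Cfsg.Agent.Helper7.ZassCount

set_option autoImplicit false
open Cfsg

namespace Cfsg.Agent.S0880

open Cfsg.Agent.Helper7.Zass

/-- Let G be a finite simple Zassenhaus group on Ω with n points whose two-point stabilizer E has odd order less than n - 2. Then there are two elements of G, each fixing no point of Ω, that are not conjugate. -/
theorem result {G Ω : Type*} [Group G] [Finite G] [MulAction G Ω] [Fintype Ω] (hZ : Cfsg.IsZassenhausGroup G Ω) {a b : Ω} (hab : a ≠ b) [IsSimpleGroup G] (hodd : Odd (Nat.card ↥(MulAction.stabilizer G a ⊓ MulAction.stabilizer G b : Subgroup G))) (hlt : Nat.card ↥(MulAction.stabilizer G a ⊓ MulAction.stabilizer G b : Subgroup G) < Fintype.card Ω - 2) : ∃ x y : G, (∀ c : Ω, x • c ≠ c) ∧ (∀ c : Ω, y • c ≠ c) ∧ ¬ IsConj x y := by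
  classical
  obtain ⟨hfaith, h2t, hp3, hfix, hnoreg⟩ := hZ
  have hZH : ZHyp G Ω :=
    { t2 := fun a b c d hab hcd => (MulAction.is_two_pretransitive_iff.1 h2t) hab hcd
      p3 := hp3
      fix2 := hfix
      noreg := hnoreg }
  have := Fintype.ofFinite G
  set e := Nat.card ↥(MulAction.stabilizer G a ⊓ MulAction.stabilizer G b : Subgroup G) with he
  set n := Fintype.card Ω with hn
  -- `e ≥ 3`
  have he1 : e ≠ 1 := by
    intro e1
    obtain ⟨x, hx1, hxa, hxb⟩ := hZH.exists_fix hab
    have hbot := (Subgroup.eq_bot_iff_card _).2 e1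
    have hx : x ∈ (MulAction.stabilizer G a ⊓ MulAction.stabilizer G b : Subgroup G) :=
      Subgroup.mem_inf.2 ⟨hxa, hxb⟩
    rw [hbot, Subgroup.mem_bot] at hx
    exact hx1 hx
  have he3 : 3 ≤ e := by
    obtain ⟨k, hk⟩ := hodd
    omega
  have hn3 : 3 ≤ n := by omega
  have hcard : Fintype.card G = e * (n * n - n) := card_eq hZH.t2 hab
  have hcount := two_mul_card_fpf hZH.t2 hZH.p3 hab
  rw [← hn] at hcount
  set X : Finset G := (Finset.univ : Finset G).filter (fun g => ∀ c : Ω, g • c ≠ c) with hX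
  have hnn : n * n - n + n = n * n := Nat.sub_add_cancel (Nat.le_mul_self n)
  have hnn3 : 3 * n ≤ n * n := Nat.mul_le_mul_right n hn3
  have h3G : 3 * (n * n - n) ≤ Fintype.card G := by
    rw [hcard]
    exact Nat.mul_le_mul_right _ he3
  -- there is a fixed-point-free element
  have hXpos : 0 < X.card := by
    by_contra hcon
    have h0 : X.card = 0 := by omega
    rw [h0] at hcount
    omega
  obtain ⟨x₀, hx₀⟩ := Finset.card_pos.1 hXpos
  have hx₀' : ∀ c : Ω, x₀ • c ≠ c := by
    rw [hX, Finset.mem_filter] at hx₀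
    exact hx₀.2
  by_contra hcon
  have hall : ∀ x y : G, (∀ c : Ω, x • c ≠ c) → (∀ c : Ω, y • c ≠ c) → IsConj x y := by
    intro x y hx hy
    by_contra hxy
    exact hcon ⟨x, y, hx, hy, hxy⟩
  -- `X` is the conjugacy class of `x₀`
  have hXorb : (X : Set G) = MulAction.orbit (ConjAct G) x₀ := by
    ext g
    rw [ConjAct.mem_orbit_conjAct, Finset.mem_coe, hX, Finset.mem_filter]
    constructor
    · intro hg
      exact hall g x₀ hg.2 hx₀'
    · intro hg
      refine ⟨Finset.mem_univ _, ?_⟩
      rw [isConj_comm, isConj_iff] at hg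
      obtain ⟨y, rfl⟩ := hg
      intro c hc
      rw [mul_smul, mul_smul, smul_eq_iff_eq_inv_smul] at hc
      exact hx₀' _ hc
  have hdvd : X.card ∣ Fintype.card G := by
    have h1 := MulAction.index_stabilizer (G := ConjAct G) (x := x₀)
    rw [← hXorb, Set.ncard_coe_finset] at h1
    rw [← h1, ← ConjAct.card, ← Nat.card_eq_fintype_card]
    exact Subgroup.index_dvd_card _
  obtain ⟨k, hk⟩ := hdvd
  -- arithmetic
  have hXbig : n * n ≤ X.card + 1 := by omega
  by_cases hk2 : k ≤ 2
  · have : X.card * k ≤ X.card * 2 := Nat.mul_le_mul_left _ hk2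
    have h5 : n * n + 2 ≤ 3 * n := by omega
    have : 3 * n + 1 ≤ n * n + 2 := by omega
    omega
  · have : X.card * 3 ≤ X.card * k := Nat.mul_le_mul_left _ (by omega)
    omega

end Cfsg.Agent.S0880
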