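import Cfsg.Statements.S0339
import Cfsg.Agent.Helper7.ZassSub

set_option autoImplicit false
open Cfsg

namespace Cfsg.Agent.S0339

open Cfsg.Agent.Helper7.Zass MulAction

/-- A non-trivial normal subgroup of a Zassenhaus group is itself a Zassenhaus group on the same set. -/
theorem result {G Ω : Type*} [Group G] [MulAction G Ω] [Finite Ω]
    (hZ : Cfsg.IsZassenhausGroup G Ω) (N : Subgroup G) [N.Normal] (hN : N ≠ ⊥) :
    Cfsg.IsZassenhausGroup N Ω := by
  obtain ⟨hfaith, h2t, hp3, hfix, hnoreg⟩ := hZ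
  have hZH : ZHyp G Ω :=
    { t2 := fun a b c d hab hcd => (MulAction.is_two_pretransitive_iff.1 h2t) hab hcd
      p3 := hp3
      fix2 := hfix
      noreg := hnoreg }
  have hfin : Finite G :=
    Finite.of_injective (MulAction.toPerm : G → Equiv.Perm Ω) MulAction.toPerm_injective
  refine ⟨?_, ?_, ?_, ?_, ?_⟩
  · constructor
    intro n n' hnn
    apply Subtype.ext
    apply FaithfulSMul.eq_of_smul_eq_smul (α := Ω)
    intro c
    exact hnn c
  · rw [MulAction.is_two_pretransitive_iff]
    intro a b c d hab hcd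
    obtain ⟨n, hn, hna, hnb⟩ := normal_two_transitive hZH hN a b c d hab hcd
    exact ⟨⟨n, hn⟩, hna, hnb⟩
  · intro g a b c hab hbc hac hga hgb hgc
    exact Subtype.ext (hp3 (g : G) a b c hab hbc hac hga hgb hgc)
  · obtain ⟨n, hn, hn1, a, b, hab, hna, hnb⟩ := normal_fix2 hZH hN
    exact ⟨⟨n, hn⟩, fun e => hn1 (congrArg Subtype.val e), a, b, hab, hna, hnb⟩
  · intro M hMn hMtr
    by_contra hcon
    simp only [not_exists, not_not] at hcon
    apply normal_noreg hZH hN (M.map N.subtype)
    · rintro _ ⟨m, -, rfl⟩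
      exact m.2
    · rintro n hn _ ⟨m, hm, rfl⟩
      refine ⟨⟨n, hn⟩ * m * ⟨n, hn⟩⁻¹, hMn.conj_mem m hm ⟨n, hn⟩, ?_⟩
      simp
    · constructor
      · intro c d
        obtain ⟨m, hm⟩ := MulAction.exists_smul_eq M c d
        exact ⟨((m : N) : G), ⟨(m : N), m.2, rfl⟩, hm⟩
      · rintro _ ⟨m, hm, rfl⟩ c hc
        have : (⟨m, hm⟩ : M) ∈ stabilizer M c := by
          rw [mem_stabilizer_iff]
          exact hc
        rw [hcon c, Subgroup.mem_bot] at this
        have e : m = 1 := congrArg Subtype.val this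
        rw [e]
        rfl

end Cfsg.Agent.S0339
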