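import Mathlib
import Cfsg.Statements.S0669

set_option autoImplicit false
open Cfsg

namespace Cfsg.Agent.S0669

/-- The rank of a transitive action: orbits on ordered pairs correspond to orbits of a point stabiliser. -/
theorem result {G : Type*} [Group G] {Ω : Type*} [Finite Ω] [MulAction G Ω] [MulAction.IsPretransitive G Ω] (a : Ω) : Nat.card (MulAction.orbitRel.Quotient G (Ω × Ω)) = Nat.card (MulAction.orbitRel.Quotient (MulAction.stabilizer G a) Ω) := by
  symm
  let f : MulAction.orbitRel.Quotient (MulAction.stabilizer G a) Ω → MulAction.orbitRel.Quotient G (Ω × Ω) :=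
    Quotient.map' (fun b => (a, b)) (by
      intro b b' h
      rw [MulAction.orbitRel_apply] at h ⊢
      obtain ⟨s, hs⟩ := h
      refine ⟨s.1, ?_⟩
      have hs' : s.1 • b' = b := hs
      have hsa : s.1 • a = a := s.2
      show (s.1 • a, s.1 • b') = (a, b)
      rw [hsa, hs'])
  apply Nat.card_eq_of_bijective f
  constructor
  · intro q q' h
    induction q using Quotient.inductionOn' with | _ b => ?_
    induction q' using Quotient.inductionOn' with | _ b' => ?_
    simp only [f, Quotient.map'_mk''] at h
    rw [Quotient.eq''] at h ⊢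
    rw [MulAction.orbitRel_apply] at h ⊢
    obtain ⟨g, hg⟩ := h
    have hg' : (g • a, g • b') = (a, b) := hg
    rw [Prod.mk.injEq] at hg'
    exact ⟨⟨g, hg'.1⟩, hg'.2⟩
  · intro q
    induction q using Quotient.inductionOn' with | _ p => ?_
    obtain ⟨x, y⟩ := p
    obtain ⟨g, hg⟩ := MulAction.exists_smul_eq G x a
    refine ⟨Quotient.mk'' (g • y), ?_⟩
    simp only [f, Quotient.map'_mk'']
    rw [Quotient.eq'', MulAction.orbitRel_apply]
    refine ⟨g, ?_⟩
    show (g • x, g • y) = (a, g • y)
    rw [hg]

end Cfsg.Agent.S0669
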