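import Cfsg.Statements.S0958
import Mathlib
import Cfsg.Agent.Helper6.BrauerIdem
import Cfsg.Agent.Helper6.PrincipalDefect
import Cfsg.Agent.Helper6.DefectClass
-- import your own Cfsg.Agent.* helpers here

set_option autoImplicit false
open Cfsg

namespace Cfsg.Agent.S0958

/-- Let P be a p-subgroup of the finite group G and H a subgroup with P ⊔ C_G(P) ≤ H ≤ N_G(P); fix a maximal ideal M of the algebraic integers containing p. Then a block B of G is induced by some block of H if and only if some conjugate of P is contained in a defect group of B. -/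
theorem result {G : Type*} [Group G] [Finite G] (p : ℕ) [Fact p.Prime] (M : Ideal Cfsg.AlgInt) (hM : Cfsg.IsPModular p M) (P H : Subgroup G) (hP : IsPGroup p P) (hPH : P ⊔ Subgroup.centralizer (P : Set G) ≤ H) (hHN : H ≤ Subgroup.normalizer (P : Set G)) (B : Set (Cfsg.IrrCharacter G)) (hB : Cfsg.IsPBlock M B) : (∃ b : Set (Cfsg.IrrCharacter H), Cfsg.IsInducedBlock M H b B) ↔ ∃ D : Subgroup G, Cfsg.IsDefectGroup p M B D ∧ ∃ x : G, P.map (MulAut.conj x).toMonoidHom ≤ D := by
  classical
  have hPH' : P ≤ H := le_trans le_sup_left hPH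
  have hCH : Subgroup.centralizer (P : Set G) ≤ H := le_trans le_sup_right hPH
  constructor
  · rintro ⟨b, hind⟩
    have hb : Cfsg.IsPBlock M b := hind.1
    obtain ⟨h, hh⟩ := Helper6.exists_defectClass hM.2.1 b hb
    obtain ⟨S⟩ : Nonempty (Sylow p (Subgroup.centralizer ({h} : Set H))) := inferInstance
    have hDb : Cfsg.IsDefectGroup p M b
        ((S : Subgroup _).map (Subgroup.centralizer ({h} : Set H)).subtype) := ⟨h, hh, S, rfl⟩
    obtain ⟨E, hE, hle⟩ := Helper6.exists_defectGroup_ge_of_induced hM H b B hind _ hDb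
    haveI : (P.subgroupOf H).Normal := Subgroup.normal_subgroupOf_iff_le_normalizer hPH' |>.mpr hHN
    have hQle := Helper6.normal_pSubgroup_le_defectGroup hM (P.subgroupOf H)
      (hP.comap_subtype) b hb _ hDb
    refine ⟨E, hE, 1, ?_⟩
    intro y hy
    rw [Subgroup.mem_map] at hy
    obtain ⟨u, hu, rfl⟩ := hy
    have e : (MulAut.conj (1 : G)).toMonoidHom u = u := by simp
    rw [e]
    apply hle
    rw [Subgroup.mem_map]
    exact ⟨⟨u, hPH' hu⟩, hQle (by rw [Subgroup.mem_subgroupOf]; exact hu), rfl⟩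
  · rintro ⟨D, ⟨g, hdc, S, rfl⟩, x, hx⟩
    have hdc₀ : Cfsg.IsDefectClass M B (x⁻¹ * g * x⁻¹⁻¹) :=
      Helper6.isDefectClass_conj B g x⁻¹ hdc
    have hg₀c : x⁻¹ * g * x⁻¹⁻¹ ∈ Subgroup.centralizer (P : Set G) := by
      rw [Subgroup.mem_centralizer_iff]
      intro u hu
      have h1 : (MulAut.conj x).toMonoidHom u ∈
          (S : Subgroup _).map (Subgroup.centralizer ({g} : Set G)).subtype :=
        hx (Subgroup.mem_map_of_mem _ hu)
      rw [Subgroup.mem_map] at h1
      obtain ⟨c, hc, hcu⟩ := h1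
      have h2 : x * u * x⁻¹ ∈ Subgroup.centralizer ({g} : Set G) := by
        have e : (c : G) = x * u * x⁻¹ := by
          have := hcu
          simp only [Subgroup.coe_subtype, MulEquiv.coe_toMonoidHom, MulAut.conj_apply] at this
          exact this
        rw [← e]
        exact c.2
      rw [Subgroup.mem_centralizer_iff] at h2
      have h3 := h2 g (Set.mem_singleton g)
      calc u * (x⁻¹ * g * x⁻¹⁻¹) = x⁻¹ * ((x * u * x⁻¹) * g) * x := by group
        _ = x⁻¹ * (g * (x * u * x⁻¹)) * x := by rw [h3]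
        _ = x⁻¹ * g * x⁻¹⁻¹ * u := by group
    obtain ⟨ξ, χ, hχB, hcong⟩ := Helper6.exists_irr_brauer_block hM P H hP hCH hHN B hB
      (x⁻¹ * g * x⁻¹⁻¹) hg₀c hdc₀.2.1
    refine ⟨Cfsg.blockOf M (ξ : H → ℂ), ?_⟩
    have hind := Helper6.isInducedBlock_of_brauer hM P H hP hPH' hHN ξ χ hcong
    obtain ⟨χB, rfl⟩ := hB
    have e : Cfsg.blockOf M (χB : G → ℂ) = Cfsg.blockOf M (χ : G → ℂ) :=
      Helper6.blockOf_eq_of_sameBlock hM.2.1 hχB
    rw [e]
    exact hind

end Cfsg.Agent.S0958
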