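import Cfsg.Statements.S0738
import Cfsg.Agent.Helper7.ZassKernel
import Cfsg.Agent.Helper7.TwoOrbits

set_option autoImplicit false
open Cfsg

namespace Cfsg.Agent.S0738

open Cfsg.Agent.Helper7.Zass Cfsg.Agent.Helper7.TwoOrb

/-- Let a finite Zassenhaus group of degree `n + 1` have two-point stabilisers of order `d` with `2d ≥ n - 1`. Then a normal subgroup of a point stabiliser acting regularly on the remaining points is elementary abelian, and the degree is a prime power plus one. -/
theorem result {G Ω : Type*} [Group G] [Finite G] [MulAction G Ω] [Fintype Ω] (hZ : Cfsg.IsZassenhausGroup G Ω) {a b : Ω} (hab : a ≠ b) (hd : Fintype.card Ω - 2 ≤ 2 * Nat.card ↥(MulAction.stabilizer G a ⊓ MulAction.stabilizer G b)) (F : Subgroup G) (hFle : F ≤ MulAction.stabilizer G a) (hFn : (F.subgroupOf (MulAction.stabilizer G a)).Normal) (hreg : ∀ y z : Ω, y ≠ a → z ≠ a → ∃! u : F, (u : G) • y = z) : IsMulCommutative F ∧ ∃ p f : ℕ, p.Prime ∧ (∀ u ∈ F, u ^ p = 1) ∧ Fintype.card Ω = p ^ f + 1 := by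
  classical
  obtain ⟨hfaith, h2t, hp3, hfix, hnoreg⟩ := hZ
  have hZH : ZHyp G Ω :=
    { t2 := fun a b c d hab hcd => (MulAction.is_two_pretransitive_iff.1 h2t) hab hcd
      p3 := hp3
      fix2 := hfix
      noreg := hnoreg }
  set H : Subgroup G := MulAction.stabilizer G a ⊓ MulAction.stabilizer G b with hH
  have hmemH : ∀ h : G, h ∈ H ↔ h • a = a ∧ h • b = b := by
    intro h
    rw [hH, Subgroup.mem_inf, MulAction.mem_stabilizer_iff, MulAction.mem_stabilizer_iff]
  -- `F` is normalised by the stabiliser of `a`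
  have hnormA : ∀ g : G, g • a = a → ∀ x ∈ F, g * x * g⁻¹ ∈ F := by
    intro g hg x hx
    have hxa : x ∈ MulAction.stabilizer G a := hFle hx
    have hm : (⟨x, hxa⟩ : MulAction.stabilizer G a) ∈ F.subgroupOf (MulAction.stabilizer G a) := by
      rw [Subgroup.mem_subgroupOf]
      exact hx
    have := hFn.conj_mem _ hm ⟨g, hg⟩
    rw [Subgroup.mem_subgroupOf] at this
    exact this
  have hnorm : ∀ h ∈ H, ∀ x ∈ F, h * x * h⁻¹ ∈ F := fun h hh => hnormA h ((hmemH h).1 hh).1
  -- freeness of `F` on the remaining points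
  have hFfree : ∀ x ∈ F, ∀ y : Ω, y ≠ a → x • y = y → x = 1 := by
    intro x hx y hy hxy
    obtain ⟨u, -, hu⟩ := hreg y y hy hy
    have h1 := hu ⟨x, hx⟩ hxy
    have h2 := hu 1 (by
      show ((1 : F) : G) • y = y
      rw [Subgroup.coe_one, one_smul])
    have := h1.trans h2.symm
    exact congrArg Subtype.val this
  have hfree : ∀ h ∈ H, ∀ x ∈ F, x ≠ 1 → h * x * h⁻¹ = x → h = 1 := by
    intro h hh x hx hx1 hconj
    obtain ⟨hha, hhb⟩ := (hmemH h).1 hh
    have hxa : x • a = a := hFle hx
    have hcomm : h * x = x * h := by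
      have : h * x = (h * x * h⁻¹) * h := by group
      rw [this, hconj]
    have h3 : h • (x • b) = x • b := by
      rw [← mul_smul, hcomm, mul_smul, hhb]
    have hxb : x • b ≠ b := fun e => hx1 (hFfree x hx b (Ne.symm hab) e)
    have hxba : x • b ≠ a := by
      intro e
      apply hab
      have : x • b = x • a := by rw [e, hxa]
      exact (smul_left_cancel _ this).symm
    exact hp3 h a b (x • b) hab (Ne.symm hxb) (Ne.symm hxba) hha hhb h3
  -- the order of `F`
  have hcardF : Nat.card F + 1 = Fintype.card Ω := by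
    let φ : F → ({a}ᶜ : Set Ω) := fun u => ⟨(u : G) • b, by
      intro e
      have e' : (u : G) • b = a := e
      have hua : (u : G) • a = a := hFle u.2
      have : (u : G) • b = (u : G) • a := by rw [e', hua]
      exact hab (smul_left_cancel _ this).symm⟩
    have hφ : Function.Bijective φ := by
      constructor
      · intro u v huv
        have huv' : (u : G) • b = (v : G) • b := congrArg Subtype.val huv
        have hva : (v : G) • b ≠ a := (φ v).2
        obtain ⟨w, -, hw⟩ := hreg b ((v : G) • b) (Ne.symm hab) hva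
        exact (hw u huv').trans (hw v rfl).symm
      · rintro ⟨z, hz⟩
        obtain ⟨u, hu, -⟩ := hreg b z (Ne.symm hab) hz
        exact ⟨u, Subtype.ext hu⟩
    rw [Nat.card_eq_of_bijective φ hφ, Nat.card_coe_set_eq, Set.ncard_compl, Set.ncard_singleton,
      Nat.card_eq_fintype_card]
    have : 0 < Fintype.card Ω := Fintype.card_pos_iff.2 ⟨a⟩
    omega
  have h3 : 2 < Fintype.card Ω := by
    obtain ⟨g, hg1, a', b', hab', hga, hgb⟩ := hfix
    obtain ⟨c, hc⟩ := exists_moved (Ω := Ω) hg1
    have hca : c ≠ a' := fun e => hc (by rw [e, hga])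
    have hcb : c ≠ b' := fun e => hc (by rw [e, hgb])
    rw [← Finset.card_univ, Finset.two_lt_card]
    exact ⟨a', Finset.mem_univ _, b', Finset.mem_univ _, c, Finset.mem_univ _, hab',
      Ne.symm hca, Ne.symm hcb⟩
  have h2 : Nat.card F - 1 ≤ 2 * Nat.card H := by
    have : Nat.card F - 1 = Fintype.card Ω - 2 := by omega
    rw [this]
    exact hd
  have hF2 : 2 ≤ Nat.card F := by omega
  obtain ⟨hcomm, p, f, hp, hexp, hf⟩ := elementary_abelian F H hnorm hfree h2 hF2
  refine ⟨⟨⟨?_⟩⟩, p, f, hp, hexp, ?_⟩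
  · intro x y
    apply Subtype.ext
    rw [Subgroup.coe_mul, Subgroup.coe_mul]
    exact hcomm x x.2 y y.2
  · rw [← hcardF, hf]

end Cfsg.Agent.S0738
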