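import Mathlib
import Cfsg.Statements.S0200
import Cfsg.Agent.Helper2.BaerSuzuki
import Cfsg.Agent.Helper2.DihedralIso
import Cfsg.Agent.Helper2.Invol

set_option autoImplicit false
open Cfsg

namespace Cfsg.Agent.S0200

open Cfsg.Agent.Helper2

/-- An involution lying in no normal 2-subgroup of a finite group inverts a nontrivial element of odd order (a consequence of the Baer–Suzuki Theorem). -/
theorem result {G : Type*} [Group G] [Finite G] (t : G) (ht : orderOf t = 2) (hO : ∀ N : Subgroup G, N.Normal → IsPGroup 2 N → t ∉ N) : ∃ h : G, h ≠ 1 ∧ Odd (orderOf h) ∧ t * h * t⁻¹ = h⁻¹ := by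
  haveI : Fact (Nat.Prime 2) := ⟨Nat.prime_two⟩
  have htt : t * t = 1 := mul_self_of_orderOf_two ht
  have ht1 : t ≠ 1 := ne_one_of_orderOf_two ht
  have htinv : t⁻¹ = t := inv_eq_self_of_orderOf_two ht
  have hXp : IsPGroup 2 (Subgroup.zpowers t) := by
    apply IsPGroup.of_card (n := 1)
    rw [Nat.card_zpowers, ht, pow_one]
  -- Baer–Suzuki gives a conjugate `s` of `t` with `⟨t, s⟩` not a 2-group
  have hex : ∃ g : G, ¬ IsPGroup 2 ↥(Subgroup.zpowers t ⊔ cj g (Subgroup.zpowers t)) := by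
    by_contra hcon
    push Not at hcon
    obtain ⟨N, hN, hNp, hXN⟩ := baer_suzuki (Subgroup.zpowers t) hXp hcon
    exact hO N hN hNp (hXN (Subgroup.mem_zpowers t))
  obtain ⟨g, hg⟩ := hex
  set s := g * t * g⁻¹ with hs
  have hss : s * s = 1 := conj_mul_self htt g
  have hs1 : s ≠ 1 := by
    intro h1
    apply ht1
    calc t = g⁻¹ * s * g := by rw [hs]; group
      _ = 1 := by rw [h1]; group
  have hnpow : ∀ k : ℕ, orderOf (t * s) ≠ 2 ^ k := by
    intro k hk
    apply hg
    obtain ⟨e⟩ := closure_pair_invol_equiv_dihedral htt hss ht1 hs1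
    have hcard : Nat.card ↥(Subgroup.closure ({t, s} : Set G)) = 2 ^ (k + 1) := by
      rw [Nat.card_congr e.toEquiv, DihedralGroup.nat_card, hk, pow_succ, mul_comm]
    have hcl : IsPGroup 2 ↥(Subgroup.closure ({t, s} : Set G)) := IsPGroup.of_card hcard
    apply hcl.to_le
    apply sup_le
    · rw [Subgroup.zpowers_le]
      exact Subgroup.subset_closure (by simp)
    · have : cj g (Subgroup.zpowers t) = Subgroup.zpowers s := by
        rw [cj, MonoidHom.map_zpowers]; rfl
      rw [this, Subgroup.zpowers_le]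
      exact Subgroup.subset_closure (by simp)
  obtain ⟨k, m, hm, hn⟩ := Nat.exists_eq_two_pow_mul_odd (orderOf_pos (t * s)).ne'
  have hm1 : m ≠ 1 := by
    rintro rfl
    exact hnpow k (by rw [hn, mul_one])
  have hconj : t * (t * s) * t⁻¹ = (t * s)⁻¹ := by
    rw [inv_mul_invol htt hss, htinv, ← mul_assoc, htt, one_mul]
  refine ⟨(t * s) ^ (2 ^ k), ?_, ?_, ?_⟩
  · intro h1
    have hdvd := orderOf_dvd_of_pow_eq_one h1
    rw [hn] at hdvd
    have hpos : 0 < 2 ^ k := pow_pos (by norm_num) k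
    have : 2 ^ k * m ∣ 2 ^ k * 1 := by rw [mul_one]; exact hdvd
    have hm' : m ∣ 1 := (Nat.mul_dvd_mul_iff_left hpos).mp this
    exact hm1 (Nat.dvd_one.mp hm')
  · have hord : orderOf ((t * s) ^ (2 ^ k)) = m := by
      rw [orderOf_pow_of_dvd (pow_pos (by norm_num) k).ne' (by rw [hn]; exact Dvd.intro _ rfl), hn,
        Nat.mul_div_cancel_left _ (pow_pos (by norm_num) k)]
    rw [hord]; exact hm
  · rw [← conj_pow, hconj, inv_pow]

end Cfsg.Agent.S0200
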