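import Cfsg.Statements.S5096
import Mathlib
import Cfsg.Agent.Lead.Fusion

set_option autoImplicit false
open Cfsg

namespace Cfsg.Agent.S5096

open Cfsg.Agent.Lead Cfsg.FusionSystem

variable {Ω : Type*} [Group Ω] {S : Subgroup Ω}

/-- The normalizer system as a fusion system. -/
def normSys (F : Cfsg.FusionSystem S) (Q : Subgroup Ω) (hQ : Q ≤ S) :
    Cfsg.FusionSystem (Cfsg.FusionSystem.normalizerIn S Q) where
  Hom P := F.normalizerHom Q P
  le_of_mem := by
    rintro P φ ⟨_, h2, h3, _⟩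
    exact ⟨h2, h3⟩
  injective_of_mem := by
    rintro P φ ⟨h1, _⟩
    exact F.injective_of_mem h1
  conj_mem := by
    intro P g hP hg
    have hgS : g ∈ S := hg.1
    have hgN : g ∈ Subgroup.normalizer (Q : Set Ω) := hg.2
    have hPS : P ≤ S := hP.trans inf_le_left
    refine ⟨F.conj_mem hPS hgS, hP, ?_, conjHom (P ⊔ Q) g, F.conj_mem (sup_le hPS hQ) hgS, ?_, ?_⟩
    · intro x
      show g * (x : Ω) * g⁻¹ ∈ normalizerIn S Q
      exact Subgroup.mul_mem _ (Subgroup.mul_mem _ hg (hP x.2)) (Subgroup.inv_mem _ hg)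
    · intro x; rfl
    · ext y
      constructor
      · rintro ⟨x, hx, rfl⟩
        rw [SetLike.mem_coe, Subgroup.mem_subgroupOf] at hx
        exact (Subgroup.mem_normalizer_iff.mp hgN x.1).mp hx
      · intro hy
        have h1 : g⁻¹ * y * g ∈ Q := by
          apply (Subgroup.mem_normalizer_iff.mp hgN _).mpr
          have : g * (g⁻¹ * y * g) * g⁻¹ = y := by group
          rw [this]; exact hy
        refine ⟨⟨g⁻¹ * y * g, (le_sup_right : Q ≤ P ⊔ Q) h1⟩, ?_, ?_⟩
        · rw [SetLike.mem_coe, Subgroup.mem_subgroupOf]; exact h1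
        · show g * (g⁻¹ * y * g) * g⁻¹ = y
          group
  comp_mem := by
    rintro P P' φ ψ ⟨hφ, hPN, hφN, φ', hφ', hφext, hφQ⟩ ⟨hψ, hP'N, hψN, ψ', hψ', hψext, hψQ⟩ h
    -- φ' maps P ⊔ Q into P' ⊔ Q
    have hφQmem : ∀ x : Q, φ' (Subgroup.inclusion le_sup_right x) ∈ Q := by
      intro x
      have : φ' (Subgroup.inclusion le_sup_right x) ∈ (Q.subgroupOf (P ⊔ Q)).map φ' := by
        refine ⟨_, ?_, rfl⟩
        rw [SetLike.mem_coe, Subgroup.mem_subgroupOf]
        exact x.2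
      rw [hφQ] at this
      exact this
    have hψQmem : ∀ x : Q, ψ' (Subgroup.inclusion le_sup_right x) ∈ Q := by
      intro x
      have : ψ' (Subgroup.inclusion le_sup_right x) ∈ (Q.subgroupOf (P' ⊔ Q)).map ψ' := by
        refine ⟨_, ?_, rfl⟩
        rw [SetLike.mem_coe, Subgroup.mem_subgroupOf]
        exact x.2
      rw [hψQ] at this
      exact this
    have hmaps : ∀ x : ↥(P ⊔ Q), φ' x ∈ P' ⊔ Q := by
      apply Fusion.sup_map_mem
      · intro x
        rw [hφext]
        exact (le_sup_left : P' ≤ P' ⊔ Q) (h x)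
      · intro x
        exact (le_sup_right : Q ≤ P' ⊔ Q) (hφQmem x)
    refine ⟨F.comp_mem hφ hψ h, hPN, fun x => hψN _, ψ'.comp (φ'.codRestrict (P' ⊔ Q) hmaps),
      F.comp_mem hφ' hψ' hmaps, ?_, ?_⟩
    · intro x
      show ψ' ⟨φ' (Subgroup.inclusion le_sup_left x), _⟩ = ψ ⟨φ x, _⟩
      rw [← hψext ⟨φ x, h x⟩]
      congr 1
      apply Subtype.ext
      exact hφext x
    · ext y
      constructor
      · rintro ⟨x, hx, rfl⟩
        rw [SetLike.mem_coe, Subgroup.mem_subgroupOf] at hx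
        have h1 := hφQmem ⟨x.1, hx⟩
        exact hψQmem ⟨_, h1⟩
      · intro hy
        have hy' : y ∈ (Q.subgroupOf (P' ⊔ Q)).map ψ' := by rw [hψQ]; exact hy
        obtain ⟨z, hz, rfl⟩ := hy'
        rw [SetLike.mem_coe, Subgroup.mem_subgroupOf] at hz
        have hz' : z.1 ∈ (Q.subgroupOf (P ⊔ Q)).map φ' := by rw [hφQ]; exact hz
        obtain ⟨w, hw, hwz⟩ := hz'
        refine ⟨w, hw, ?_⟩
        show ψ' ⟨φ' w, _⟩ = ψ' z
        congr 1
        exact Subtype.ext hwz
  inv_mem := by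
    rintro P φ ⟨hφ, hPN, hφN, φ', hφ', hφext, hφQ⟩
    obtain ⟨χ, hχ, hχinv⟩ := F.inv_mem hφ'
    have hφQmem : ∀ x : Q, φ' (Subgroup.inclusion le_sup_right x) ∈ Q := by
      intro x
      have : φ' (Subgroup.inclusion le_sup_right x) ∈ (Q.subgroupOf (P ⊔ Q)).map φ' := by
        refine ⟨_, ?_, rfl⟩
        rw [SetLike.mem_coe, Subgroup.mem_subgroupOf]
        exact x.2
      rw [hφQ] at this
      exact this
    have hle : φ.range ⊔ Q ≤ φ'.range := by
      apply sup_le
      · rintro _ ⟨x, rfl⟩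
        exact ⟨Subgroup.inclusion le_sup_left x, hφext x⟩
      · intro y hy
        have hy' : y ∈ (Q.subgroupOf (P ⊔ Q)).map φ' := by rw [hφQ]; exact hy
        obtain ⟨z, _, rfl⟩ := hy'
        exact ⟨z, rfl⟩
    have hle1 : φ.range ≤ φ'.range := le_sup_left.trans hle
    have hχ1 : χ.comp (Subgroup.inclusion hle1) ∈ F.Hom φ.range := Fusion.restrict_mem F hχ hle1
    have hχ2 : χ.comp (Subgroup.inclusion hle) ∈ F.Hom (φ.range ⊔ Q) := Fusion.restrict_mem F hχ hle
    have hmemr : ∀ x : P, φ x ∈ φ'.range := fun x => hle1 (MonoidHom.mem_range.mpr ⟨x, rfl⟩)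
    have hval : ∀ x : P, χ ⟨φ x, hmemr x⟩ = x := by
      intro x
      have := hχinv (Subgroup.inclusion le_sup_left x)
      have e : (⟨φ x, hmemr x⟩ : φ'.range) =
          ⟨φ' (Subgroup.inclusion le_sup_left x), MonoidHom.mem_range.mpr ⟨_, rfl⟩⟩ :=
        Subtype.ext (hφext x).symm
      rw [e, this]; rfl
    refine ⟨χ.comp (Subgroup.inclusion hle1), ⟨hχ1, ?_, ?_, χ.comp (Subgroup.inclusion hle), hχ2, ?_, ?_⟩, ?_⟩
    · rintro _ ⟨x, rfl⟩
      exact hφN x
    · rintro ⟨_, x, rfl⟩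
      show χ ⟨φ x, _⟩ ∈ normalizerIn S Q
      rw [hval x]
      exact hPN x.2
    · intro x
      rfl
    · ext y
      constructor
      · rintro ⟨x, hx, rfl⟩
        rw [SetLike.mem_coe, Subgroup.mem_subgroupOf] at hx
        -- x.1 ∈ Q, x.1 = φ' z with z ∈ Q
        have hx' : x.1 ∈ (Q.subgroupOf (P ⊔ Q)).map φ' := by rw [hφQ]; exact hx
        obtain ⟨z, hz, hzx⟩ := hx'
        rw [SetLike.mem_coe, Subgroup.mem_subgroupOf] at hz
        have : (χ.comp (Subgroup.inclusion hle)) x = z := by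
          show χ ⟨x.1, _⟩ = z
          rw [← hχinv z]
          congr 1
          exact Subtype.ext hzx.symm
        rw [this]; exact hz
      · intro hy
        have h1 := hφQmem ⟨y, hy⟩
        refine ⟨⟨φ' (Subgroup.inclusion le_sup_right ⟨y, hy⟩), (le_sup_right : Q ≤ φ.range ⊔ Q) h1⟩, ?_, ?_⟩
        · rw [SetLike.mem_coe, Subgroup.mem_subgroupOf]; exact h1
        · show χ ⟨φ' (Subgroup.inclusion le_sup_right ⟨y, hy⟩), _⟩ = y
          exact hχinv (Subgroup.inclusion le_sup_right ⟨y, hy⟩)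
    · intro x
      exact hval x

/-- For any fusion system over a subgroup S and any Q ≤ S, the maps of the normalizer system N_F(Q) — those maps between subgroups of N_S(Q) that extend to the subgroup generated with Q carrying Q onto Q — form a fusion system over N_S(Q). -/
theorem result {Ω : Type*} [Group Ω] {S : Subgroup Ω} (F : Cfsg.FusionSystem S) (Q : Subgroup Ω) (hQ : Q ≤ S) : ∃ E : Cfsg.FusionSystem (Cfsg.FusionSystem.normalizerIn S Q), F.IsNormalizerSystem Q E := by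
  exact ⟨normSys F Q hQ, fun P => rfl⟩

end Cfsg.Agent.S5096
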