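import Cfsg.Statements.S5141
import Cfsg.Agent.Helper2.PPrimeResC
import Cfsg.Agent.WNE.ResInv
import Cfsg.Agent.WNE.Final

set_option autoImplicit false
open Cfsg
open Cfsg.FusionSystem Cfsg.Agent.Lead Cfsg.Agent.Lead.PrimeIdx Cfsg.Agent.Helper2.PPrimeRes Cfsg.Agent.WNE

namespace Cfsg.Agent.S5141

/-- Let F be a saturated fusion system over a finite p-group S and E a weakly normal subsystem of F over T. Then the p'-residual subsystem of E (the least saturated subsystem of E over T of index prime to p) is normal in F. -/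
theorem result {Ω : Type*} [Group Ω] {S : Subgroup Ω} [Finite S] (p : ℕ) [Fact p.Prime] (hS : IsPGroup p S) (F : Cfsg.FusionSystem S) (hF : F.IsSaturated p) {T : Subgroup Ω} (E : Cfsg.FusionSystem T) (hE : E.IsWeaklyNormalIn F p) (D : Cfsg.FusionSystem T) (hD : E.IsPPrimeResidual p D) : D.IsNormalIn F p := by
  have hEs : E.IsSaturated p := hE.1
  have hEinv : E.IsInvariantIn F := hE.2.2
  have hTS : T ≤ S := hEinv.2.1.1
  have hfinT : Finite T := Fusion.finite_of_le hTS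
  have hTp : IsPGroup p T := hS.to_le hTS
  -- `D` and `resSys p E` have the same maps
  have h1 : D.IsSubsystemOf (resSys p E) :=
    hD.2.2 _ (resSys_isSaturated p hTp E hEs) (resSys_main p hTp E hEs).1
  have h2 : (resSys p E).IsSubsystemOf D := resSys_le_of_saturated p hTp E hEs D hD.1 hD.2.1
  -- invariance
  obtain ⟨ha, hb, hc, hd⟩ := wne_resSys_isInvariantIn p hS F hF E hE
  have hinvD : D.IsInvariantIn F := by
    refine ⟨fun P φ h => ha P (h1 P h), hb, ?_, ?_⟩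
    · intro P hPT φ hφ α hα
      obtain ⟨χ, hχ, hv⟩ := hc P hPT φ (h1 P hφ) α hα
      exact ⟨χ, h2 _ hχ, hv⟩
    · intro P hPT φ hφ
      obtain ⟨α, hα, φ₀, hφ₀, hv⟩ := hd P hPT φ hφ
      exact ⟨α, hα, φ₀, h2 P hφ₀, hv⟩
  refine ⟨⟨hD.1, hF, hinvD⟩, ?_⟩
  intro α hα
  -- `Aut_D(T) ≤ A0 p E`
  have hαA0 : α ∈ A0 p E := by
    have h3 := (Fusion.mem_autGroup_iff D le_rfl α).mp hα
    obtain ⟨-, β', hβ', φ₀, hφ₀, hw⟩ := resSys_le_bigSys p E T (h1 T h3)
    obtain ⟨β, hβ, hβeq⟩ := (mem_FA_top p E β').mp hβ'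
    have hφ₀E : φ₀ ∈ E.Hom T := E1_le p E T hφ₀
    have hr : φ₀.range = T :=
      (Fusion.weaklyClosed_of_stronglyClosed E (stronglyClosed_top E)).2 φ₀ hφ₀E
    obtain ⟨γ₀, hγ₀, hγ₀v⟩ := Fusion.exists_aut_of_range_eq E hφ₀E hr
    have hγ₀A : γ₀ ∈ A0 p E := by
      apply Subgroup.subset_closure
      refine ⟨hγ₀, T, Fusion.top_isCentric E, ?_⟩
      convert hφ₀ using 1
      ext x
      exact hγ₀v x
    have hαeq : α = β * γ₀ := by
      ext t
      have e1 : ((α t : T) : Ω) = β' ⟨φ₀ t, ((E1 p E).le_of_mem hφ₀).2 t⟩ := hw t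
      rw [e1, hβeq, MulAut.mul_apply]
      have e2 : (⟨φ₀ t, ((E1 p E).le_of_mem hφ₀).2 t⟩ : T) = γ₀ t := Subtype.ext (hγ₀v t).symm
      rw [e2]
    rw [hαeq]
    exact Subgroup.mul_mem _ hβ hγ₀A
  exact wne_extension p hS F hF E hE α hαA0

end Cfsg.Agent.S5141
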