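import Cfsg.Statements.S5097
import Mathlib
import Cfsg.Agent.Lead.Fusion

set_option autoImplicit false
open Cfsg

namespace Cfsg.Agent.S5097

open Cfsg.Agent.Lead Cfsg.FusionSystem

variable {Ω : Type*} [Group Ω] {S : Subgroup Ω}

/-- The centralizer system as a fusion system. -/
def centSys (F : Cfsg.FusionSystem S) (Q : Subgroup Ω) (hQ : Q ≤ S) :
    Cfsg.FusionSystem (Cfsg.FusionSystem.centralizerIn S Q) where
  Hom P := F.centralizerHom Q P
  le_of_mem := by
    rintro P φ ⟨_, h2, h3, _⟩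
    exact ⟨h2, h3⟩
  injective_of_mem := by
    rintro P φ ⟨h1, _⟩
    exact F.injective_of_mem h1
  conj_mem := by
    intro P g hP hg
    have hgS : g ∈ S := hg.1
    have hgC : g ∈ Subgroup.centralizer (Q : Set Ω) := hg.2
    have hPS : P ≤ S := hP.trans inf_le_left
    refine ⟨F.conj_mem hPS hgS, hP, ?_, conjHom (P ⊔ Q) g, F.conj_mem (sup_le hPS hQ) hgS, ?_, ?_⟩
    · intro x
      show g * (x : Ω) * g⁻¹ ∈ centralizerIn S Q
      exact Subgroup.mul_mem _ (Subgroup.mul_mem _ hg (hP x.2)) (Subgroup.inv_mem _ hg)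
    · intro x; rfl
    · intro x
      show g * (x : Ω) * g⁻¹ = x
      have := (Subgroup.mem_centralizer_iff.mp hgC) x.1 x.2
      rw [← this]; group
  comp_mem := by
    rintro P P' φ ψ ⟨hφ, hPN, hφN, φ', hφ', hφext, hφQ⟩ ⟨hψ, hP'N, hψN, ψ', hψ', hψext, hψQ⟩ h
    have hmaps : ∀ x : ↥(P ⊔ Q), φ' x ∈ P' ⊔ Q := by
      apply Fusion.sup_map_mem
      · intro x
        rw [hφext]
        exact (le_sup_left : P' ≤ P' ⊔ Q) (h x)
      · intro x
        rw [hφQ]
        exact (le_sup_right : Q ≤ P' ⊔ Q) x.2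
    refine ⟨F.comp_mem hφ hψ h, hPN, fun x => hψN _, ψ'.comp (φ'.codRestrict (P' ⊔ Q) hmaps),
      F.comp_mem hφ' hψ' hmaps, ?_, ?_⟩
    · intro x
      show ψ' ⟨φ' (Subgroup.inclusion le_sup_left x), _⟩ = ψ ⟨φ x, _⟩
      rw [← hψext ⟨φ x, h x⟩]
      congr 1
      apply Subtype.ext
      exact hφext x
    · intro x
      show ψ' ⟨φ' (Subgroup.inclusion le_sup_right x), _⟩ = x
      rw [← hψQ x]
      congr 1
      apply Subtype.ext
      exact hφQ x
  inv_mem := by
    rintro P φ ⟨hφ, hPN, hφN, φ', hφ', hφext, hφQ⟩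
    obtain ⟨χ, hχ, hχinv⟩ := F.inv_mem hφ'
    have hle : φ.range ⊔ Q ≤ φ'.range := by
      apply sup_le
      · rintro _ ⟨x, rfl⟩
        exact ⟨Subgroup.inclusion le_sup_left x, hφext x⟩
      · intro y hy
        exact ⟨Subgroup.inclusion le_sup_right ⟨y, hy⟩, hφQ ⟨y, hy⟩⟩
    have hle1 : φ.range ≤ φ'.range := le_sup_left.trans hle
    have hχ1 : χ.comp (Subgroup.inclusion hle1) ∈ F.Hom φ.range := Fusion.restrict_mem F hχ hle1
    have hχ2 : χ.comp (Subgroup.inclusion hle) ∈ F.Hom (φ.range ⊔ Q) := Fusion.restrict_mem F hχ hle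
    have hmemr : ∀ x : P, φ x ∈ φ'.range := fun x => hle1 (MonoidHom.mem_range.mpr ⟨x, rfl⟩)
    have hval : ∀ x : P, χ ⟨φ x, hmemr x⟩ = x := by
      intro x
      have := hχinv (Subgroup.inclusion le_sup_left x)
      have e : (⟨φ x, hmemr x⟩ : φ'.range) =
          ⟨φ' (Subgroup.inclusion le_sup_left x), MonoidHom.mem_range.mpr ⟨_, rfl⟩⟩ :=
        Subtype.ext (hφext x).symm
      rw [e, this]; rfl
    refine ⟨χ.comp (Subgroup.inclusion hle1), ⟨hχ1, ?_, ?_, χ.comp (Subgroup.inclusion hle), hχ2, ?_, ?_⟩, ?_⟩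
    · rintro _ ⟨x, rfl⟩
      exact hφN x
    · rintro ⟨_, x, rfl⟩
      show χ ⟨φ x, _⟩ ∈ centralizerIn S Q
      rw [hval x]
      exact hPN x.2
    · intro x
      rfl
    · intro x
      show χ ⟨x.1, _⟩ = x
      have := hχinv (Subgroup.inclusion le_sup_right x)
      have e : (⟨x.1, hle ((le_sup_right : Q ≤ φ.range ⊔ Q) x.2)⟩ : φ'.range) =
          ⟨φ' (Subgroup.inclusion le_sup_right x), MonoidHom.mem_range.mpr ⟨_, rfl⟩⟩ :=
        Subtype.ext (hφQ x).symm
      rw [e, this]; rfl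
    · intro x
      exact hval x

/-- For any fusion system over a subgroup S and any Q ≤ S, the maps of the centralizer system C_F(Q) — those maps between subgroups of C_S(Q) that extend to the subgroup generated with Q fixing Q elementwise — form a fusion system over C_S(Q). -/
theorem result {Ω : Type*} [Group Ω] {S : Subgroup Ω} (F : Cfsg.FusionSystem S) (Q : Subgroup Ω) (hQ : Q ≤ S) : ∃ E : Cfsg.FusionSystem (Cfsg.FusionSystem.centralizerIn S Q), F.IsCentralizerSystem Q E := by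
  exact ⟨centSys F Q hQ, fun P => rfl⟩

end Cfsg.Agent.S5097
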