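import Mathlib
import Cfsg.Statements.S3993
-- import your own Cfsg.Agent.* helpers here

set_option autoImplicit false
open Cfsg

namespace Cfsg.Agent.S3993

universe u

open scoped Classical in
theorem dvd_sum_of_invariant {H α : Type*} [Group H] [MulAction H α] [Fintype α]
    (g : α → ℕ) (hg : ∀ (h : H) (y : α), g (h • y) = g y) (D : ℕ)
    (hD : ∀ y, D ∣ Nat.card (MulAction.orbit H y) * g y) : D ∣ ∑ y, g y := by
  have : Fintype (MulAction.orbitRel.Quotient H α) := Fintype.ofFinite _
  rw [← Finset.sum_fiberwise Finset.univ (fun y => (Quotient.mk'' y : MulAction.orbitRel.Quotient H α)) g]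
  apply Finset.dvd_sum
  intro ω _
  obtain ⟨y0, rfl⟩ := Quotient.exists_rep ω
  have hconst : ∀ y ∈ Finset.univ.filter (fun y : α => (Quotient.mk'' y : MulAction.orbitRel.Quotient H α) = ⟦y0⟧),
      g y = g y0 := by
    intro y hy
    rw [Finset.mem_filter] at hy
    have h1 : y ∈ MulAction.orbit H y0 := by
      rw [← MulAction.orbitRel_apply]
      exact Quotient.exact hy.2
    obtain ⟨h, rfl⟩ := h1
    exact hg h y0
  rw [Finset.sum_congr rfl hconst, Finset.sum_const, smul_eq_mul]
  have hcard : (Finset.univ.filter (fun y : α => (Quotient.mk'' y : MulAction.orbitRel.Quotient H α) = ⟦y0⟧)).card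
      = Nat.card (MulAction.orbit H y0) := by
    rw [Nat.card_eq_fintype_card, ← Set.toFinset_card]
    congr 1
    ext y
    rw [Finset.mem_filter, Set.mem_toFinset, ← MulAction.orbitRel_apply]
    constructor
    · rintro ⟨-, h⟩; exact Quotient.exact h
    · intro h; exact ⟨Finset.mem_univ _, Quotient.sound h⟩
  rw [hcard]
  exact hD y0

theorem card_pow_eq_one_quotient {K : Type u} [Group K] [Finite K] (Y : Subgroup K) [Y.Normal]
    (hY : Y ≤ Subgroup.center K) (m : ℕ) (hcop : Nat.Coprime (Nat.card Y) m) :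
    Nat.card {k : K // k ^ m = 1} = Nat.card {h : K ⧸ Y // h ^ m = 1} := by
  set q := Nat.card Y with hq
  have hYq : ∀ c ∈ Y, c ^ q = 1 := by
    intro c hc
    have : (⟨c, hc⟩ : Y) ^ q = 1 := pow_card_eq_one'
    simpa using congrArg Subtype.val this
  let f : {k : K // k ^ m = 1} → {h : K ⧸ Y // h ^ m = 1} := fun k =>
    ⟨QuotientGroup.mk k.1, by rw [← QuotientGroup.mk_pow, k.2]; rfl⟩
  apply Nat.card_congr (Equiv.ofBijective f ⟨?_, ?_⟩)
  · rintro ⟨k1, h1⟩ ⟨k2, h2⟩ h
    have h' : (QuotientGroup.mk k1 : K ⧸ Y) = QuotientGroup.mk k2 := congrArg Subtype.val h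
    rw [QuotientGroup.eq] at h'
    set c := k1⁻¹ * k2 with hc
    have hcc : ∀ x : K, x * c = c * x := fun x => (Subgroup.mem_center_iff.mp (hY h') x)
    have hk2 : k2 = k1 * c := by rw [hc]; group
    have hcm : c ^ m = 1 := by
      have : (k1 * c) ^ m = k1 ^ m * c ^ m := (Commute.mul_pow (hcc k1) m)
      rw [← hk2, h1, h2, one_mul] at this
      exact this.symm
    have hc1 : c = 1 := by
      have h3 : orderOf c ∣ q := orderOf_dvd_of_pow_eq_one (hYq c h')
      have h4 : orderOf c ∣ m := orderOf_dvd_of_pow_eq_one hcm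
      have h5 : orderOf c ∣ 1 := by
        have := Nat.dvd_gcd h3 h4
        rwa [hcop] at this
      exact orderOf_eq_one_iff.mp (Nat.dvd_one.mp h5)
    apply Subtype.ext
    change k1 = k2
    rw [hk2, hc1, mul_one]
  · rintro ⟨h, hh⟩
    obtain ⟨w, rfl⟩ := QuotientGroup.mk_surjective h
    have hwm : w ^ m ∈ Y := by
      rw [← QuotientGroup.eq_one_iff, QuotientGroup.mk_pow]; exact hh
    -- Bezout
    have hb : (q : ℤ) * Nat.gcdA q m + (m : ℤ) * Nat.gcdB q m = 1 := by
      have := Nat.gcd_eq_gcd_ab q m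
      rw [hcop] at this
      exact_mod_cast this.symm
    set s := Nat.gcdA q m
    set t := Nat.gcdB q m
    refine ⟨⟨w ^ ((q : ℤ) * s), ?_⟩, ?_⟩
    · rw [← zpow_natCast, ← zpow_mul, mul_comm ((q : ℤ) * s), ← mul_assoc, zpow_mul, zpow_mul,
        zpow_natCast, zpow_natCast, hYq _ hwm, one_zpow]
    · apply Subtype.ext
      change (QuotientGroup.mk (w ^ ((q : ℤ) * s)) : K ⧸ Y) = QuotientGroup.mk w
      rw [QuotientGroup.mk_zpow]
      have : (q : ℤ) * s = 1 - (m : ℤ) * t := by linarith
      rw [this, zpow_sub, zpow_one, zpow_mul, zpow_natCast, hh, one_zpow, inv_one, mul_one]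

theorem arith1 (m o c g N : ℕ) (hN : o * c = N) (hm : m ∣ N) (hg : Nat.gcd m c ∣ g) :
    m ∣ o * g := by
  obtain ⟨m', c', hcop, hm', hc'⟩ := Nat.exists_coprime m c
  set d := Nat.gcd m c with hd
  obtain ⟨g', rfl⟩ := hg
  by_cases hd0 : d = 0
  · rw [hd0, zero_mul, mul_zero]; exact dvd_zero _
  have h1 : m' * d ∣ o * c' * d := by
    rw [← hm', mul_assoc, ← hc', hN]; exact hm
  have h2 : m' ∣ o * c' := Nat.dvd_of_mul_dvd_mul_right (Nat.pos_of_ne_zero hd0) h1
  have h3 : m' ∣ o := hcop.dvd_of_dvd_mul_right h2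
  obtain ⟨o', rfl⟩ := h3
  rw [hm']
  exact ⟨o' * g', by ring⟩

open scoped Classical in
theorem card_gen_eq_totient {G : Type u} [Group G] [Finite G] (x0 : G) :
    Nat.card {x : G // Subgroup.zpowers x = Subgroup.zpowers x0} = Nat.totient (orderOf x0) := by
  have : Fintype ↥(Subgroup.zpowers x0) := Fintype.ofFinite _
  have hcard : Fintype.card ↥(Subgroup.zpowers x0) = orderOf x0 := by
    rw [← Nat.card_eq_fintype_card, Nat.card_zpowers]
  have h1 := IsCyclic.card_orderOf_eq_totient (α := ↥(Subgroup.zpowers x0)) (d := orderOf x0)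
    (by rw [hcard])
  rw [← h1, ← Fintype.card_subtype, ← Nat.card_eq_fintype_card]
  apply Nat.card_congr
  have hmem : ∀ x : {x : G // Subgroup.zpowers x = Subgroup.zpowers x0}, x.1 ∈ Subgroup.zpowers x0 := by
    rintro ⟨x, hx⟩
    have := Subgroup.mem_zpowers x
    rwa [hx] at this
  refine ⟨fun x => ⟨⟨x.1, hmem x⟩, ?_⟩,
    fun c => ⟨c.1.1, ?_⟩, fun x => rfl, fun c => rfl⟩
  · rw [Subgroup.orderOf_mk, ← Nat.card_zpowers, x.2, Nat.card_zpowers]
  · have hc : orderOf (c.1 : G) = orderOf x0 := by rw [Subgroup.orderOf_coe]; exact c.2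
    apply Subgroup.eq_of_le_of_card_ge
    · rw [Subgroup.zpowers_le]; exact c.1.2
    · rw [Nat.card_zpowers, Nat.card_zpowers, hc]

/-- A set closed under "generating the same cyclic subgroup", all of whose elements have order
divisible by `q`, has cardinality divisible by `φ(q)`. -/
theorem totient_dvd_card_of_closed {G : Type u} [Group G] [Finite G] (P : G → Prop) (q : ℕ)
    (hclosed : ∀ x x' : G, P x → Subgroup.zpowers x' = Subgroup.zpowers x → P x')
    (hq : ∀ x, P x → q ∣ orderOf x) : Nat.totient q ∣ Nat.card {x : G // P x} := by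
  classical
  have : Fintype G := Fintype.ofFinite _
  rw [Nat.card_eq_fintype_card, Fintype.card_subtype]
  rw [Finset.card_eq_sum_card_fiberwise (f := fun x => Subgroup.zpowers x)
    (t := (Finset.univ.filter P).image (fun x => Subgroup.zpowers x))
    (fun x hx => Finset.mem_image_of_mem _ hx)]
  apply Finset.dvd_sum
  intro C hC
  obtain ⟨x0, hx0, rfl⟩ := Finset.mem_image.mp hC
  rw [Finset.mem_filter] at hx0
  have heq : (Finset.univ.filter P).filter (fun x => Subgroup.zpowers x = Subgroup.zpowers x0) =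
      Finset.univ.filter (fun x => Subgroup.zpowers x = Subgroup.zpowers x0) := by
    ext x
    simp only [Finset.mem_filter, Finset.mem_univ, true_and]
    constructor
    · exact fun h => h.2
    · exact fun h => ⟨hclosed x0 x hx0.2 h, h⟩
  rw [heq, ← Fintype.card_subtype, ← Nat.card_eq_fintype_card, card_gen_eq_totient]
  exact Nat.totient_dvd_of_dvd (hq x0 hx0.2)

/-- The fibre of the "p-part" map over an element `y` of order `q` is in bijection with the
solutions of `k ^ m = 1` in the centralizer of `y`. -/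
theorem card_fiber {G : Type u} [Group G] (q m : ℕ) (u v : ℤ) (huv : u * m + v * q = 1)
    (y : G) (hy : y ^ q = 1) :
    Nat.card {x : G // x ^ (q * m) = 1 ∧ x ^ (u * m) = y} =
      Nat.card {k : ↥(Subgroup.centralizer ({y} : Set G)) // k ^ m = 1} := by
  have hyz : ∀ t : ℤ, y ^ (t * q) = 1 := by
    intro t; rw [zpow_mul, zpow_natCast, ← zpow_natCast, ← zpow_mul, mul_comm, zpow_mul, zpow_natCast, hy, one_zpow]
  apply Nat.card_congr
  refine ⟨fun x => ⟨⟨x.1 ^ (v * q), ?_⟩, ?_⟩, fun k => ⟨y * k.1.1, ?_, ?_⟩, ?_, ?_⟩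
  · -- x^(vq) centralizes y
    obtain ⟨x, hx1, hx2⟩ := x
    rw [Subgroup.mem_centralizer_singleton_iff]
    change x ^ (v * q) * y = y * x ^ (v * q)
    rw [← hx2]
    exact (Commute.zpow_zpow_self x _ _).eq
  · -- (x^(vq))^m = 1
    apply Subtype.ext
    change (x.1 ^ (v * q)) ^ m = 1
    rw [← zpow_natCast, ← zpow_mul]
    have : v * (q : ℤ) * m = ((q * m : ℕ) : ℤ) * v := by push_cast; ring
    rw [this, zpow_mul, zpow_natCast, x.2.1, one_zpow]
  · -- (y k)^(qm) = 1
    have hk : Commute y k.1.1 := (Subgroup.mem_centralizer_singleton_iff.mp k.1.2).symm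
    have hkm : (k.1.1 : G) ^ m = 1 := by
      have := congrArg Subtype.val k.2
      simpa using this
    rw [hk.mul_pow, pow_mul, hy, one_pow, one_mul, mul_comm q m, pow_mul, hkm, one_pow]
  · -- (y k)^(um) = y
    have hk : Commute y k.1.1 := (Subgroup.mem_centralizer_singleton_iff.mp k.1.2).symm
    have hkm : (k.1.1 : G) ^ m = 1 := by
      have := congrArg Subtype.val k.2
      simpa using this
    rw [hk.mul_zpow]
    have h1 : (k.1.1 : G) ^ (u * m) = 1 := by
      rw [mul_comm, zpow_mul, zpow_natCast, hkm, one_zpow]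
    have h2 : y ^ (u * (m : ℤ)) = y := by
      have : u * (m : ℤ) = 1 - v * q := by linarith
      rw [this, zpow_sub, zpow_one, hyz, inv_one, mul_one]
    rw [h1, h2, mul_one]
  · -- left inverse
    rintro ⟨x, hx1, hx2⟩
    apply Subtype.ext
    change y * x ^ (v * q) = x
    rw [← hx2, ← zpow_add, huv, zpow_one]
  · -- right inverse
    intro k
    apply Subtype.ext
    apply Subtype.ext
    change (y * k.1.1) ^ (v * q) = k.1.1
    have hk : Commute y k.1.1 := (Subgroup.mem_centralizer_singleton_iff.mp k.1.2).symm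
    have hkm : (k.1.1 : G) ^ m = 1 := by
      have := congrArg Subtype.val k.2
      simpa using this
    rw [hk.mul_zpow, hyz, one_mul]
    have : v * (q : ℤ) = 1 - (m : ℤ) * u := by linarith
    rw [this, zpow_sub, zpow_one, zpow_mul, zpow_natCast, hkm, one_zpow, inv_one, mul_one]

def Frob (H : Type u) [Group H] : Prop :=
  ∀ n : ℕ, n ∣ Nat.card H → n ∣ Nat.card {h : H // h ^ n = 1}

theorem Frob.gcd_dvd {H : Type u} [Group H] [Finite H] (hF : Frob H) (m : ℕ) :
    Nat.gcd m (Nat.card H) ∣ Nat.card {h : H // h ^ m = 1} := by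
  have h1 := hF (Nat.gcd m (Nat.card H)) (Nat.gcd_dvd_right _ _)
  have h2 : Nat.card {h : H // h ^ (Nat.gcd m (Nat.card H)) = 1} = Nat.card {h : H // h ^ m = 1} :=
    Nat.card_congr (Equiv.subtypeEquivRight (fun h => by
      rw [pow_gcd_eq_one]
      exact ⟨fun hh => hh.1, fun hh => ⟨hh, pow_card_eq_one'⟩⟩))
  rwa [h2] at h1

theorem m_dvd_card_X {G : Type u} [Group G] [Finite G]
    (IH : ∀ (H : Type u) [Group H] [Finite H], Nat.card H < Nat.card G → Frob H)
    (q m : ℕ) (hq1 : 1 < q) (hcop : Nat.Coprime q m) (hm : m ∣ Nat.card G) (u v : ℤ)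
    (huv : u * m + v * q = 1) :
    m ∣ Nat.card {x : G // x ^ (q * m) = 1 ∧ orderOf (x ^ (u * m)) = q} := by
  classical
  have : Fintype G := Fintype.ofFinite _
  set P : G → Prop := fun x => x ^ (q * m) = 1 ∧ orderOf (x ^ (u * m)) = q with hP
  set π : {x : G // P x} → G := fun x => x.1 ^ (u * m) with hπ
  have hsum : Nat.card {x : G // P x} = ∑ y : G, Nat.card {x : {x : G // P x} // π x = y} := by
    rw [← Nat.card_sigma]
    exact Nat.card_congr (Equiv.sigmaFiberEquiv π).symm
  rw [hsum]
  -- invariance under conjugation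
  have hle : ∀ (h : ConjAct G) (y : G),
      Nat.card {x : {x : G // P x} // π x = y} ≤ Nat.card {x : {x : G // P x} // π x = h • y} := by
    intro h y
    set c : G ≃* G := MulAut.conj (ConjAct.ofConjAct h) with hc
    have hcy : ∀ g : G, h • g = c g := fun g => by rw [ConjAct.smul_def]; rfl
    have hPc : ∀ x : G, P x → P (c x) := by
      rintro x ⟨hx1, hx2⟩
      refine ⟨by rw [← map_pow, hx1, map_one], ?_⟩
      rw [← map_zpow, MulEquiv.orderOf_eq]; exact hx2
    apply Nat.card_le_card_of_injective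
      (fun x => (⟨⟨c x.1.1, hPc _ x.1.2⟩, by
        change (c x.1.1) ^ (u * m) = h • y
        rw [hcy, ← map_zpow]
        exact congrArg c x.2⟩ : {x : {x : G // P x} // π x = h • y}))
    intro x x' hxx'
    have h1 : c x.1.1 = c x'.1.1 := congrArg (fun t => t.1.1) hxx'
    exact Subtype.ext (Subtype.ext (c.injective h1))
  have hinv : ∀ (h : ConjAct G) (y : G),
      Nat.card {x : {x : G // P x} // π x = h • y} = Nat.card {x : {x : G // P x} // π x = y} := by
    intro h y
    apply le_antisymm _ (hle h y)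
    have := hle h⁻¹ (h • y)
    rwa [inv_smul_smul] at this
  apply dvd_sum_of_invariant (H := ConjAct G) _ hinv
  intro y
  by_cases hy : orderOf y = q
  · have hyq : y ^ q = 1 := by rw [← hy]; exact pow_orderOf_eq_one y
    have e1 : Nat.card {x : {x : G // P x} // π x = y} =
        Nat.card {x : G // x ^ (q * m) = 1 ∧ x ^ (u * m) = y} := by
      apply Nat.card_congr
      refine ⟨fun x => ⟨x.1.1, x.1.2.1, x.2⟩, fun x => ⟨⟨x.1, x.2.1, ?_⟩, x.2.2⟩,
        fun x => rfl, fun x => rfl⟩
      rw [x.2.2]; exact hy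
    rw [e1, card_fiber q m u v huv y hyq]
    -- the centralizer and its quotient
    set K := Subgroup.centralizer ({y} : Set G) with hK
    have hyK : y ∈ K := by
      rw [hK, Subgroup.mem_centralizer_singleton_iff]
    set Y : Subgroup ↥K := Subgroup.zpowers (⟨y, hyK⟩ : ↥K) with hY
    have hYc : Y ≤ Subgroup.center ↥K := by
      rw [hY, Subgroup.zpowers_le, Subgroup.mem_center_iff]
      intro k
      apply Subtype.ext
      exact (Subgroup.mem_centralizer_singleton_iff.mp k.2)
    have hYn : Y.Normal := ⟨fun n hn g => by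
      have := Subgroup.mem_center_iff.mp (hYc hn) g
      rw [this, mul_inv_cancel_right]; exact hn⟩
    have hYcard : Nat.card Y = q := by
      rw [hY, Nat.card_zpowers, Subgroup.orderOf_mk, hy]
    rw [card_pow_eq_one_quotient Y hYc m (by rw [hYcard]; exact hcop)]
    have hKY : Nat.card (↥K ⧸ Y) * q = Nat.card ↥K := by
      rw [← hYcard]; exact (Subgroup.card_eq_card_quotient_mul_card_subgroup Y).symm
    have hlt : Nat.card (↥K ⧸ Y) < Nat.card G := by
      have h1 : Nat.card ↥K ≤ Nat.card G := Subgroup.card_le_card_group K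
      have h2 : 0 < Nat.card (↥K ⧸ Y) := Nat.card_pos
      nlinarith
    have hF := (IH (↥K ⧸ Y) hlt).gcd_dvd m
    have hgcd : Nat.gcd m (Nat.card ↥K) = Nat.gcd m (Nat.card (↥K ⧸ Y)) := by
      rw [← hKY]
      exact Nat.Coprime.gcd_mul_right_cancel_right _ hcop
    rw [← hgcd] at hF
    have horb : Nat.card (MulAction.orbit (ConjAct G) y) * Nat.card ↥K = Nat.card G := by
      rw [hK, Subgroup.nat_card_centralizer_nat_card_stabilizer, Nat.card_eq_fintype_card,
        Nat.card_eq_fintype_card, Nat.card_eq_fintype_card,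
        MulAction.card_orbit_mul_card_stabilizer_eq_card_group, ConjAct.card]
    exact arith1 m _ _ _ _ horb hm hF
  · have : IsEmpty {x : {x : G // P x} // π x = y} := by
      refine ⟨fun x => hy ?_⟩
      rw [← x.2]; exact x.1.2.2
    rw [Nat.card_of_isEmpty (α := {x : {x : G // P x} // π x = y}), mul_zero]
    exact dvd_zero _

theorem step {G : Type u} [Group G] [Finite G]
    (IH : ∀ (H : Type u) [Group H] [Finite H], Nat.card H < Nat.card G → Frob H)
    (p a m : ℕ) (hp : p.Prime) (hpm : ¬ p ∣ m) (hdvd : p ^ (a + 1) * m ∣ Nat.card G)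
    (hbig : p ^ (a + 1) * m ∣ Nat.card {g : G // g ^ (p ^ (a + 1) * m) = 1}) :
    p ^ a * m ∣ Nat.card {g : G // g ^ (p ^ a * m) = 1} := by
  classical
  have : Fintype G := Fintype.ofFinite _
  set q := p ^ (a + 1) with hq
  have hq1 : 1 < q := Nat.one_lt_pow (Nat.succ_ne_zero a) hp.one_lt
  have hcop : Nat.Coprime q m := Nat.Coprime.pow_left _ ((Nat.Prime.coprime_iff_not_dvd hp).mpr hpm)
  have hm : m ∣ Nat.card G := (Dvd.intro_left _ rfl).trans hdvd
  -- Bezout
  obtain ⟨u, v, huv⟩ : ∃ u v : ℤ, u * m + v * q = 1 := by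
    have := Nat.gcd_eq_gcd_ab m q
    rw [hcop.symm] at this
    exact ⟨Nat.gcdA m q, Nat.gcdB m q, by push_cast at this; linarith⟩
  have hX2 := m_dvd_card_X IH q m hq1 hcop hm u v huv
  -- (I)
  have hX1 : p ^ a ∣ Nat.card {x : G // x ^ (q * m) = 1 ∧ orderOf (x ^ (u * m)) = q} := by
    have h := totient_dvd_card_of_closed
      (fun x : G => x ^ (q * m) = 1 ∧ orderOf (x ^ (u * m)) = q) q ?_ ?_
    · rw [hq, Nat.totient_prime_pow_succ hp] at h
      exact (Dvd.intro _ rfl).trans h
    · rintro x x' ⟨hx1, hx2⟩ hxx'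
      have h1 : x' ∈ Subgroup.zpowers x := by rw [← hxx']; exact Subgroup.mem_zpowers x'
      have h2 : x ∈ Subgroup.zpowers x' := by rw [hxx']; exact Subgroup.mem_zpowers x
      obtain ⟨k, hk⟩ := Subgroup.mem_zpowers_iff.mp h1
      obtain ⟨k', hk'⟩ := Subgroup.mem_zpowers_iff.mp h2
      refine ⟨?_, ?_⟩
      · rw [← hk, ← zpow_natCast, ← zpow_mul, mul_comm, zpow_mul, zpow_natCast, hx1, one_zpow]
      · rw [← hx2, ← Nat.card_zpowers, ← Nat.card_zpowers]
        have hsub : Subgroup.zpowers (x' ^ (u * (m : ℤ))) = Subgroup.zpowers (x ^ (u * (m : ℤ))) := by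
          have e : ∀ (w : G) (j : ℤ), (w ^ j) ^ (u * (m : ℤ)) = (w ^ (u * (m : ℤ))) ^ j := by
            intro w j; rw [← zpow_mul, ← zpow_mul, mul_comm]
          apply le_antisymm
          · rw [Subgroup.zpowers_le, ← hk, e]
            exact Subgroup.zpow_mem _ (Subgroup.mem_zpowers _) _
          · rw [Subgroup.zpowers_le]
            nth_rewrite 1 [← hk']
            rw [e]
            exact Subgroup.zpow_mem _ (Subgroup.mem_zpowers _) _
        rw [hsub]
    · rintro x ⟨-, hx2⟩
      rw [← hx2]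
      exact orderOf_dvd_of_mem_zpowers (Subgroup.zpow_mem _ (Subgroup.mem_zpowers x) _)
  have hX : p ^ a * m ∣ Nat.card {x : G // x ^ (q * m) = 1 ∧ orderOf (x ^ (u * m)) = q} :=
    Nat.Coprime.mul_dvd_of_dvd_of_dvd
      (Nat.Coprime.pow_left _ ((Nat.Prime.coprime_iff_not_dvd hp).mpr hpm)) hX1 hX2
  -- decomposition of the solution set
  have hsplit : Nat.card {g : G // g ^ (q * m) = 1} =
      Nat.card {x : G // x ^ (q * m) = 1 ∧ orderOf (x ^ (u * m)) = q} +
      Nat.card {g : G // g ^ (p ^ a * m) = 1} := by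
    rw [Nat.card_eq_fintype_card, Nat.card_eq_fintype_card, Nat.card_eq_fintype_card,
      Fintype.card_subtype, Fintype.card_subtype, Fintype.card_subtype]
    rw [← Finset.card_filter_add_card_filter_not (s := Finset.univ.filter (fun g : G => g ^ (q * m) = 1))
      (fun x : G => orderOf (x ^ (u * m)) = q), Finset.filter_filter, Finset.filter_filter]
    congr 2
    ext g
    simp only [Finset.mem_filter, Finset.mem_univ, true_and]
    constructor
    · rintro ⟨h1, h2⟩
      -- y = g^(um) has order dividing p^a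
      set y := g ^ (u * m) with hy
      set z := g ^ (v * q) with hz
      have hyq : y ^ q = 1 := by
        rw [hy, ← zpow_natCast, ← zpow_mul]
        have : u * (m : ℤ) * q = ((q * m : ℕ) : ℤ) * u := by push_cast; ring
        rw [this, zpow_mul, zpow_natCast, h1, one_zpow]
      have hzm : z ^ m = 1 := by
        rw [hz, ← zpow_natCast, ← zpow_mul]
        have : v * (q : ℤ) * m = ((q * m : ℕ) : ℤ) * v := by push_cast; ring
        rw [this, zpow_mul, zpow_natCast, h1, one_zpow]
      have hyz : g = y * z := by rw [hy, hz, ← zpow_add, huv, zpow_one]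
      have hcomm : Commute y z := Commute.zpow_zpow_self g _ _
      have hya : y ^ (p ^ a) = 1 := by
        have h3 : orderOf y ∣ p ^ (a + 1) := orderOf_dvd_of_pow_eq_one hyq
        obtain ⟨j, hj, hj'⟩ := (Nat.dvd_prime_pow hp).mp h3
        have hja : j ≤ a := by
          rcases Nat.lt_or_ge a j with h | h
          · exfalso; apply h2
            have : j = a + 1 := by omega
            rw [hj', this]
          · exact h
        apply orderOf_dvd_iff_pow_eq_one.mp
        rw [hj']; exact pow_dvd_pow p hja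
      rw [hyz, hcomm.mul_pow, pow_mul, hya, one_pow, one_mul, mul_comm, pow_mul, hzm, one_pow]
    · intro h
      refine ⟨?_, ?_⟩
      · have : q * m = (p ^ a * m) * p := by rw [hq, pow_succ]; ring
        rw [this, pow_mul, h, one_pow]
      · intro h2
        have h3 : (g ^ (u * m)) ^ (p ^ a) = 1 := by
          rw [← zpow_natCast, ← zpow_mul]
          have : u * (m : ℤ) * ((p ^ a : ℕ) : ℤ) = ((p ^ a * m : ℕ) : ℤ) * u := by push_cast; ring
          rw [this, zpow_mul, zpow_natCast, h, one_zpow]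
        have h4 := orderOf_dvd_of_pow_eq_one h3
        rw [h2, hq] at h4
        have := (Nat.pow_dvd_pow_iff_le_right hp.one_lt).mp h4
        omega
  have hn : p ^ a * m ∣ Nat.card {g : G // g ^ (q * m) = 1} := by
    refine Dvd.dvd.trans ?_ hbig
    rw [hq, pow_succ]
    exact ⟨p, by ring⟩
  rw [hsplit] at hn
  exact (Nat.dvd_add_right hX).mp hn

theorem frobenius : ∀ (N : ℕ) (G : Type u) [Group G] [Finite G], Nat.card G = N → Frob G := by
  intro N
  induction N using Nat.strong_induction_on with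
  | _ N ih =>
  intro G _ _ hN
  have IH : ∀ (H : Type u) [Group H] [Finite H], Nat.card H < Nat.card G → Frob H := by
    intro H _ _ hlt
    exact ih _ (hN ▸ hlt) H rfl
  suffices h : ∀ d n : ℕ, n * d = Nat.card G → n ∣ Nat.card {g : G // g ^ n = 1} by
    intro n ⟨d, hd⟩
    exact h d n hd.symm
  intro d
  induction d using Nat.strong_induction_on with
  | _ d ihd =>
  intro n hnd
  have hGpos : 0 < Nat.card G := Nat.card_pos
  have hd0 : d ≠ 0 := by rintro rfl; rw [mul_zero] at hnd; omega
  have hn0 : n ≠ 0 := by rintro rfl; rw [zero_mul] at hnd; omega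
  by_cases hd1 : d = 1
  · subst hd1
    rw [mul_one] at hnd
    have : Nat.card {g : G // g ^ n = 1} = Nat.card G := by
      apply Nat.card_congr
      exact Equiv.subtypeUnivEquiv (fun g => by rw [hnd]; exact pow_card_eq_one')
    rw [this, hnd]
  · set p := d.minFac with hp
    have hpp : p.Prime := Nat.minFac_prime hd1
    obtain ⟨d', hd'⟩ := Nat.minFac_dvd d
    rw [← hp] at hd'
    have hd'lt : d' < d := by
      have : 0 < d' := Nat.pos_of_ne_zero (by rintro rfl; rw [mul_zero] at hd'; exact hd0 hd')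
      have := hpp.one_lt
      nlinarith
    obtain ⟨a, m, hpm, hnam⟩ := Nat.exists_eq_pow_mul_and_not_dvd hn0 p hpp.ne_one
    have hnp : p ^ (a + 1) * m = n * p := by rw [hnam, pow_succ]; ring
    have hbig := ihd d' hd'lt (n * p) (by rw [← hnd, hd']; ring)
    rw [← hnp] at hbig
    have hdvd : p ^ (a + 1) * m ∣ Nat.card G := by
      rw [hnp, ← hnd, hd']; exact ⟨d', by ring⟩
    have := step IH p a m hpp hpm hdvd hbig
    rwa [← hnam] at this


/-- Frobenius' divisibility Theorem: if m divides the order of a finite group G, then m divides the number of elements g of G with g^m = 1. -/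
theorem result {G : Type*} [Group G] [Finite G] (m : ℕ) (hm : m ∣ Nat.card G) :
    m ∣ Nat.card {g : G // g ^ m = 1} := by
  exact frobenius _ G rfl m hm

end Cfsg.Agent.S3993
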