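import Cfsg.Statements.S2437
import Cfsg.Agent.Helper8.FieldTwo

set_option autoImplicit false
open Cfsg

namespace Cfsg.Agent.S2437

variable {F : Type*} [Field F]

/-- The Borel subgroup of `SL₂`. -/
abbrev Bor (F : Type*) [Field F] : Subgroup (Matrix.SpecialLinearGroup (Fin 2) F) :=
  (Cfsg.upperTriangularGL 2 F).comap Matrix.SpecialLinearGroup.toGL

theorem mem_Bor (g : Matrix.SpecialLinearGroup (Fin 2) F) :
    g ∈ Bor F ↔ (g : Matrix (Fin 2) (Fin 2) F) 1 0 = 0 := by
  change (g : Matrix (Fin 2) (Fin 2) F).BlockTriangular id ↔ _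
  constructor
  · intro h
    exact h (show id (0 : Fin 2) < id 1 by decide)
  · intro h i j hij
    fin_cases i <;> fin_cases j <;> first | exact h | (exfalso; revert hij; decide)

/-- The matrix `[a b; 0 a⁻¹]`. -/
def bmat (a : Fˣ) (b : F) : Matrix.SpecialLinearGroup (Fin 2) F :=
  ⟨!![(a : F), b; 0, ((a⁻¹ : Fˣ) : F)], by
    rw [Matrix.det_fin_two_of]
    simp⟩

theorem bmat_mem (a : Fˣ) (b : F) : bmat a b ∈ Bor F := by
  rw [mem_Bor]
  simp [bmat]

/-- Parametrisation of the Borel subgroup. -/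
noncomputable def eB : Fˣ × F ≃ Bor F where
  toFun p := ⟨bmat p.1 p.2, bmat_mem _ _⟩
  invFun g := (Units.mk0 ((g : Matrix.SpecialLinearGroup (Fin 2) F) 0 0) (by
      intro h0
      have hdet := (g : Matrix.SpecialLinearGroup (Fin 2) F).2
      rw [Matrix.det_fin_two] at hdet
      have h10 := (mem_Bor _).mp g.2
      rw [h0, h10] at hdet
      simp at hdet), (g : Matrix.SpecialLinearGroup (Fin 2) F) 0 1)
  left_inv p := by
    apply Prod.ext
    · apply Units.ext
      simp [bmat]
    · simp [bmat]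
  right_inv g := by
    apply Subtype.ext
    apply Subtype.ext
    have hdet := (g : Matrix.SpecialLinearGroup (Fin 2) F).2
    rw [Matrix.det_fin_two] at hdet
    have h10 := (mem_Bor _).mp g.2
    rw [h10, mul_zero, sub_zero] at hdet
    have h11 : ((g : Matrix.SpecialLinearGroup (Fin 2) F) : Matrix (Fin 2) (Fin 2) F) 1 1
        = (((g : Matrix.SpecialLinearGroup (Fin 2) F) : Matrix (Fin 2) (Fin 2) F) 0 0)⁻¹ :=
      eq_inv_of_mul_eq_one_right hdet
    ext i j
    fin_cases i <;> fin_cases j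
    · simp [bmat]
    · simp [bmat]
    · simp [bmat, h10]
    · simp [bmat, h11]

theorem bmat_coe (a : Fˣ) (b : F) :
    ((bmat a b : Matrix.SpecialLinearGroup (Fin 2) F) : Matrix (Fin 2) (Fin 2) F)
      = !![(a : F), b; 0, ((a⁻¹ : Fˣ) : F)] := rfl

theorem bmat_mul (a c : Fˣ) (b d : F) :
    bmat a b * bmat c d = bmat (a * c) ((a : F) * d + b * ((c⁻¹ : Fˣ) : F)) := by
  apply Subtype.ext
  rw [Matrix.SpecialLinearGroup.coe_mul, bmat_coe, bmat_coe, bmat_coe, Matrix.mul_fin_two]
  simp [mul_comm]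

theorem bmat_inj (a c : Fˣ) (b d : F) : bmat a b = bmat c d ↔ a = c ∧ b = d := by
  constructor
  · intro h
    have h' := congrArg (fun M : Matrix.SpecialLinearGroup (Fin 2) F =>
      (M : Matrix (Fin 2) (Fin 2) F)) h
    simp only [bmat_coe] at h'
    have h00 := congrFun (congrFun h' 0) 0
    have h01 := congrFun (congrFun h' 0) 1
    simp at h00 h01
    exact ⟨Units.ext h00, h01⟩
  · rintro ⟨rfl, rfl⟩
    rfl

theorem commute_iff (x y : Fˣ × F) :
    Commute (eB x) (eB y) ↔
      y.2 * ((x.1 : F) - ((x.1⁻¹ : Fˣ) : F)) = x.2 * ((y.1 : F) - ((y.1⁻¹ : Fˣ) : F)) := by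
  obtain ⟨a, b⟩ := x
  obtain ⟨c, d⟩ := y
  rw [Commute, SemiconjBy]
  rw [Subtype.ext_iff]
  change bmat a b * bmat c d = bmat c d * bmat a b ↔ _
  rw [bmat_mul, bmat_mul, bmat_inj]
  simp only
  constructor
  · rintro ⟨-, h⟩
    linear_combination h
  · intro h
    exact ⟨mul_comm _ _, by linear_combination h⟩

section count
variable [Fintype F]

open scoped Classical in
theorem card_lin (α β : F) :
    Nat.card {bd : F × F // bd.2 * α = bd.1 * β}
      = if α = 0 ∧ β = 0 then Fintype.card F ^ 2 else Fintype.card F := by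
  classical
  by_cases hα : α = 0
  · by_cases hβ : β = 0
    · rw [if_pos ⟨hα, hβ⟩]
      subst hα hβ
      have : Nat.card {bd : F × F // bd.2 * (0:F) = bd.1 * 0} = Nat.card (F × F) :=
        Nat.card_congr (Equiv.subtypeUnivEquiv (by simp))
      rw [this, Nat.card_prod, Nat.card_eq_fintype_card, sq]
    · rw [if_neg (fun h => hβ h.2)]
      subst hα
      rw [← Nat.card_eq_fintype_card]
      apply Nat.card_congr
      refine ⟨fun bd => bd.1.2, fun d => ⟨(0, d), by simp⟩, ?_, ?_⟩
      · rintro ⟨⟨b, d⟩, h⟩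
        simp only [mul_zero] at h
        have hb : b = 0 := by
          rcases mul_eq_zero.mp h.symm with h | h
          · exact h
          · exact absurd h hβ
        simp [hb]
      · intro d
        rfl
  · rw [if_neg (fun h => hα h.1)]
    rw [← Nat.card_eq_fintype_card]
    apply Nat.card_congr
    refine ⟨fun bd => bd.1.1, fun b => ⟨(b, b * β / α), by field_simp⟩, ?_, ?_⟩
    · rintro ⟨⟨b, d⟩, h⟩
      simp only at h
      apply Subtype.ext
      simp only [Prod.mk.injEq, true_and]
      rw [← h]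
      field_simp
    · intro b
      rfl

/-- `a - a⁻¹`. -/
def sfun (a : Fˣ) : F := (a : F) - ((a⁻¹ : Fˣ) : F)

open scoped Classical in
theorem card_Z (hodd : Odd (Fintype.card F)) :
    (Finset.univ.filter (fun a : Fˣ => sfun a = 0)).card = 2 := by
  have hm1 : (-1 : F) ≠ 1 := Helper8.neg_one_ne_one_of_odd_card hodd
  have hne : (1 : Fˣ) ≠ -1 := by
    intro h
    have : ((1 : Fˣ) : F) = ((-1 : Fˣ) : F) := by rw [← h]
    simp only [Units.val_one, Units.val_neg] at this
    exact hm1 this.symm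
  have : Finset.univ.filter (fun a : Fˣ => sfun a = 0) = {1, -1} := by
    ext a
    rw [Finset.mem_filter]
    simp only [Finset.mem_univ, true_and, Finset.mem_insert, Finset.mem_singleton,
      sfun]
    have ha : (a : F) ≠ 0 := a.ne_zero
    constructor
    · intro h
      have h1 : ((a : F) - 1) * ((a : F) + 1) = 0 := by
        have h3 : (a : F) * ((a⁻¹ : Fˣ) : F) = 1 := by simp
        linear_combination (a : F) * h + h3
      rcases mul_eq_zero.mp h1 with h | h
      · left
        apply Units.ext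
        simp only [Units.val_one]
        linear_combination h
      · right
        apply Units.ext
        simp only [Units.val_neg, Units.val_one]
        linear_combination h
    · rintro (rfl | rfl) <;> simp
  rw [this, Finset.card_pair hne]

open scoped Classical in
theorem card_pairs (hodd : Odd (Fintype.card F)) :
    Nat.card {p : (Fˣ × F) × (Fˣ × F) // p.2.2 * sfun p.1.1 = p.1.2 * sfun p.2.1}
      = 4 * Fintype.card F ^ 2 + ((Fintype.card F - 1) ^ 2 - 4) * Fintype.card F := by
  have e1 : {p : (Fˣ × F) × (Fˣ × F) // p.2.2 * sfun p.1.1 = p.1.2 * sfun p.2.1}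
      ≃ {p : (Fˣ × Fˣ) × (F × F) // p.2.2 * sfun p.1.1 = p.2.1 * sfun p.1.2} :=
    Equiv.subtypeEquiv (Equiv.prodProdProdComm _ _ _ _) (fun p => Iff.rfl)
  rw [Nat.card_congr e1,
    Nat.card_congr (Equiv.subtypeProdEquivSigmaSubtype
      (fun (ac : Fˣ × Fˣ) (bd : F × F) => bd.2 * sfun ac.1 = bd.1 * sfun ac.2)),
    Nat.card_sigma]
  simp_rw [card_lin]
  rw [Finset.sum_ite, Finset.sum_const, Finset.sum_const, smul_eq_mul, smul_eq_mul]
  have hZ := card_Z hodd
  have h4 : (Finset.univ.filter (fun ac : Fˣ × Fˣ => sfun ac.1 = 0 ∧ sfun ac.2 = 0)).card = 4 := by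
    have : Finset.univ.filter (fun ac : Fˣ × Fˣ => sfun ac.1 = 0 ∧ sfun ac.2 = 0)
        = (Finset.univ.filter (fun a : Fˣ => sfun a = 0)) ×ˢ (Finset.univ.filter (fun a : Fˣ => sfun a = 0)) := by
      ext ⟨a, c⟩
      simp
    rw [this, Finset.card_product, hZ]
  have htot := Finset.card_filter_add_card_filter_not (s := (Finset.univ : Finset (Fˣ × Fˣ)))
    (fun ac : Fˣ × Fˣ => sfun ac.1 = 0 ∧ sfun ac.2 = 0)
  rw [h4] at htot
  have hcard : (Finset.univ : Finset (Fˣ × Fˣ)).card = (Fintype.card F - 1) ^ 2 := by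
    rw [Finset.card_univ, Fintype.card_prod, Fintype.card_units, sq]
  rw [hcard] at htot
  rw [h4]
  congr 1
  congr 1
  omega

end count

/-- Over a finite field F with q elements, q odd, the upper triangular subgroup of SL₂ (a Borel subgroup, of order q(q − 1)) has exactly q + 3 conjugacy classes. -/
theorem result {F : Type*} [Field F] [Fintype F] (hodd : Odd (Fintype.card F)) :
    Nat.card (ConjClasses ((Cfsg.upperTriangularGL 2 F).comap Matrix.SpecialLinearGroup.toGL)) = Fintype.card F + 3 := by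
  classical
  have hB : Nat.card (Bor F) = (Fintype.card F - 1) * Fintype.card F := by
    rw [← Nat.card_congr (eB (F := F)), Nat.card_prod, Nat.card_eq_fintype_card,
      Nat.card_eq_fintype_card, Fintype.card_units]
  have hcomm := card_comm_eq_card_conjClasses_mul_card (Bor F)
  have e2 : {p : (Fˣ × F) × (Fˣ × F) // p.2.2 * sfun p.1.1 = p.1.2 * sfun p.2.1}
      ≃ {p : Bor F × Bor F // Commute p.1 p.2} :=
    Equiv.subtypeEquiv (Equiv.prodCongr eB eB) (fun p => by
      rw [Equiv.prodCongr_apply, Prod.map_fst, Prod.map_snd, commute_iff]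
      rfl)
  rw [← Nat.card_congr e2, card_pairs hodd, hB] at hcomm
  change Nat.card (ConjClasses (Bor F)) = _
  generalize Nat.card (ConjClasses (Bor F)) = k at hcomm ⊢
  have hq1 : 1 < Fintype.card F := Fintype.one_lt_card
  generalize Fintype.card F = q at hcomm hodd hq1 ⊢
  have hq3 : 3 ≤ q := by
    obtain ⟨r, hr⟩ := hodd
    omega
  obtain ⟨r, rfl⟩ : ∃ r, q = r + 3 := ⟨q - 3, by omega⟩
  have h1 : r + 3 - 1 = r + 2 := by omega
  rw [h1] at hcomm
  have h2 : (r + 2) ^ 2 - 4 = r ^ 2 + 4 * r := by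
    have : (r + 2) ^ 2 = r ^ 2 + 4 * r + 4 := by ring
    omega
  rw [h2] at hcomm
  have h3 : (r + 3 + 3) * ((r + 2) * (r + 3)) = k * ((r + 2) * (r + 3)) := by
    rw [← hcomm]; ring
  exact (Nat.eq_of_mul_eq_mul_right (by positivity) h3).symm

end Cfsg.Agent.S2437
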