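import Cfsg.Statements.S0372
import Cfsg.Agent.Helper9.Golay.Count

set_option autoImplicit false
open Cfsg

namespace Cfsg.Agent.S0372

open Cfsg.Agent.Helper9.Golay in
theorem key : ∀ o : Option (ZMod 23), encW (genW o ∘ projInv) ∈ codeList := by
  decide +kernel

/-- The involution x ↦ -1/x of the projective line over ZMod 23 lies in the group of the length-24 code. -/
theorem result : Cfsg.projInv ∈ Cfsg.M24 := by
  apply Cfsg.Agent.Helper9.Golay.mem_M24_of_comp
  intro o
  rw [Cfsg.Agent.Helper9.Golay.mem_golayCode_iff]
  exact key o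

end Cfsg.Agent.S0372
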