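import Cfsg.Statements.S0373
import Cfsg.Agent.Helper9.Golay.Count

set_option autoImplicit false
open Cfsg

namespace Cfsg.Agent.S0373

open Cfsg.Agent.Helper9.Golay in
theorem key : ∀ o : Option (ZMod 23), encW (genW o ∘ cubeTwistFun) ∈ codeList := by
  decide +kernel

/-- The cube-twist permutation (squares t ↦ t^3/9, non-squares t ↦ 9t^3, extra point fixed) lies in the group of the length-24 code. -/
theorem result : Cfsg.cubeTwist ∈ Cfsg.M24 := by
  apply Cfsg.Agent.Helper9.Golay.mem_M24_of_comp
  intro o
  rw [Cfsg.Agent.Helper9.Golay.mem_golayCode_iff]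
  exact key o

end Cfsg.Agent.S0373
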