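import Cfsg.Statements.S0358
import Cfsg.Agent.Helper9.Golay.Count

set_option autoImplicit false
open Cfsg

namespace Cfsg.Agent.S0358

/-- The length-24 code built from the squares modulo 23 has dimension 12 over the field with two elements. -/
theorem result : Module.finrank (ZMod 2) Cfsg.golayCode = 12 := by
  open Cfsg.Agent.Helper9.Golay in
  have hcard : Nat.card Cfsg.golayCode = 4096 := by
    have h1 : (Cfsg.golayCode : Set (Cfsg.GolayPt → ZMod 2)) = decW '' {m | m ∈ codeList} := by
      ext w
      simp only [SetLike.mem_coe, Set.mem_image, Set.mem_setOf_eq]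
      constructor
      · intro hw
        obtain ⟨m, hm, rfl⟩ := exists_mask_of_mem hw
        exact ⟨m, hm, rfl⟩
      · rintro ⟨m, hm, rfl⟩
        exact decW_mem_of_mem_codeList hm
    have h2 : Set.InjOn decW {m | m ∈ codeList} := by
      intro a ha b hb hab
      exact decW_injOn (codeList_lt ha) (codeList_lt hb) hab
    have h3 : Nat.card Cfsg.golayCode
        = (Cfsg.golayCode : Set (Cfsg.GolayPt → ZMod 2)).ncard := rfl
    rw [h3, h1, Set.InjOn.ncard_image h2]
    have h4 : {m | m ∈ codeList} = ((codeList.toFinset : Finset ℕ) : Set ℕ) := by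
      ext m
      rw [Finset.mem_coe, List.mem_toFinset]
      rfl
    rw [h4, Set.ncard_coe_finset, List.toFinset_card_of_nodup codeList_nodup, codeList_length]
  have h := Module.natCard_eq_pow_finrank (K := ZMod 2) (V := Cfsg.golayCode)
  rw [hcard, Nat.card_zmod] at h
  have h12 : (4096 : ℕ) = 2 ^ 12 := by norm_num
  rw [h12] at h
  exact (Nat.pow_right_injective (le_refl 2) h).symm

end Cfsg.Agent.S0358
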