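import Cfsg.Statements.S0382
import Cfsg.Agent.Helper9.Golay.M24Trans

set_option autoImplicit false
open scoped Pointwise
open Cfsg

namespace Cfsg.Agent.S0382

/-- A dodecad stabiliser in the group of the length-24 code has order 95040 = 2^6·3^3·5·11. -/
theorem result (d : Finset Cfsg.GolayPt) (hd : d ∈ Cfsg.dodecads) : Nat.card (MulAction.stabilizer Cfsg.M24 d) = 95040 := by
  have hcard := Subgroup.card_mul_index (MulAction.stabilizer Cfsg.M24 d)
  rw [MulAction.index_stabilizer, Cfsg.Agent.Helper9.Golay.card_M24] at hcard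
  have horb : MulAction.orbit Cfsg.M24 d = Cfsg.dodecads := by
    ext d'
    constructor
    · rintro ⟨g, rfl⟩
      exact Cfsg.Agent.Helper9.Golay.smul_mem_wordsOfWeight g.2 hd
    · intro hd'
      obtain ⟨g, hg⟩ := Cfsg.Agent.Helper9.Golay.transitive_dodecads hd hd'
      exact ⟨g, hg⟩
  have hn : Cfsg.dodecads.ncard = 2576 := by
    unfold Cfsg.dodecads
    rw [Cfsg.Agent.Helper9.Golay.ncard_wordsOfWeight]
    exact Cfsg.Agent.Helper9.Golay.count_weight12
  rw [horb, hn] at hcard
  omega

end Cfsg.Agent.S0382
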