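import Cfsg.Statements.S0378
import Cfsg.Agent.Helper9.Golay.M24Trans

set_option autoImplicit false
open Cfsg

namespace Cfsg.Agent.S0378

/-- A two-point stabiliser in the group of the length-24 code has order 443520 = 2^7·3^2·5·7·11. -/
theorem result (p q : Cfsg.GolayPt) (hpq : p ≠ q) : Nat.card ↥(MulAction.stabilizer Cfsg.M24 p ⊓ MulAction.stabilizer Cfsg.M24 q) = 443520 := by
  -- the order of the point stabilizer
  haveI : MulAction.IsPretransitive Cfsg.M24 Cfsg.GolayPt :=
    Cfsg.Agent.Helper9.Golay.m24_isPretransitive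
  have hidx := MulAction.index_stabilizer_of_transitive Cfsg.M24 p
  have hcard := Subgroup.card_mul_index (MulAction.stabilizer Cfsg.M24 p)
  have h24 : Nat.card Cfsg.GolayPt = 24 := by
    rw [Nat.card_eq_fintype_card]; decide
  rw [hidx, Cfsg.Agent.Helper9.Golay.card_M24, h24] at hcard
  have hp : Nat.card (MulAction.stabilizer Cfsg.M24 p) = 10200960 := by omega
  -- orbit-stabilizer for the point stabilizer acting on `q`
  have hos := Cfsg.Agent.Helper9.Golay.card_eq_orbit_mul (MulAction.stabilizer Cfsg.M24 p) q
  have horb : (MulAction.orbit (MulAction.stabilizer Cfsg.M24 p) q).ncard = 23 := by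
    have : MulAction.orbit (MulAction.stabilizer Cfsg.M24 p) q
        = ((Finset.univ.erase p : Finset Cfsg.GolayPt) : Set Cfsg.GolayPt) := by
      ext a
      simp only [Finset.coe_erase, Finset.coe_univ, Set.mem_diff, Set.mem_univ,
        Set.mem_singleton_iff, true_and]
      constructor
      · rintro ⟨g, rfl⟩ hcon
        have hg : (g : Cfsg.M24) • p = p := g.2
        have : (g : Cfsg.M24) • q = (g : Cfsg.M24) • p := by
          rw [hg]; exact hcon
        exact hpq.symm (MulAction.injective (g : Cfsg.M24) this)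
      · intro ha
        obtain ⟨g, hg, hgp, hgq⟩ := Cfsg.Agent.Helper9.Golay.m24_two_trans hpq (Ne.symm ha)
        exact ⟨⟨⟨g, hg⟩, hgp⟩, hgq⟩
    rw [this, Set.ncard_coe_finset, Finset.card_erase_of_mem (Finset.mem_univ p),
      Finset.card_univ]
    decide
  rw [hp, horb] at hos
  omega

end Cfsg.Agent.S0378
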