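import Cfsg.Statements.S1565
import Cfsg.Agent.Helper9.Coatom
import Cfsg.Agent.Helper9.Golay.OctJoint
import Cfsg.Agent.Helper9.Golay.OctGraph

set_option autoImplicit false
open scoped Pointwise
open Cfsg

namespace Cfsg.Agent.S1565

/-- The stabiliser of an octad is a maximal proper subgroup of the group of the length-24 code. -/
theorem result (o : Finset Cfsg.GolayPt) (ho : o ∈ Cfsg.octads) : IsCoatom (MulAction.stabilizer Cfsg.M24 o) := by
  classical
  have horb : MulAction.orbit Cfsg.M24 o = Cfsg.octads := by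
    ext o'
    constructor
    · rintro ⟨g, rfl⟩
      exact Cfsg.Agent.Helper9.Golay.smul_mem_wordsOfWeight g.2 ho
    · intro ho'
      obtain ⟨g, hg⟩ := Cfsg.Agent.Helper9.Golay.transitive_octads ho ho'
      exact ⟨g, hg⟩
  apply Cfsg.Agent.Helper9.isCoatom_stabilizer_of_suborbits o (fun o' => (o ∩ o').card)
    ({0, 2, 4} : Finset ℕ) (fun v => if v = 0 then 30 else if v = 2 then 448 else 280) 759
  · rw [horb]
    exact Cfsg.Agent.Helper9.Golay.ncard_octads
  · norm_num
  · intro y hy z hz hc
    rw [horb] at hy hz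
    obtain ⟨g, hg, hgo, hgy⟩ := Cfsg.Agent.Helper9.Golay.octad_pair_conj ho hy hz hc
    exact ⟨⟨g, hg⟩, hgo, hgy⟩
  · intro y hy hne
    rw [horb] at hy
    have := Cfsg.Agent.Helper9.Golay.card_inter_octads ho hy (Ne.symm hne)
    simp only [Finset.mem_insert, Finset.mem_singleton]
    exact this
  · rw [Finset.inter_self, ho.2]
    decide
  · intro v hv
    rw [horb]
    have h := Cfsg.Agent.Helper9.Golay.ncard_inter_octad v ho
    rw [h]
    simp only [Finset.mem_insert, Finset.mem_singleton] at hv
    rcases hv with rfl | rfl | rfl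
    · exact Cfsg.Agent.Helper9.Golay.oct_oct_0
    · exact Cfsg.Agent.Helper9.Golay.oct_oct_2
    · exact Cfsg.Agent.Helper9.Golay.oct_oct_4
  · decide

end Cfsg.Agent.S1565
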