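import Cfsg.Statements.S1077
import Cfsg.Agent.Helper7.StJ
import Cfsg.Agent.Helper7.StZ

set_option autoImplicit false
open Cfsg

namespace Cfsg.Agent.S1077

/-- Steinberg's Theorem: there is a homomorphism `x̄_r(t) ↦ x_r(t)` from the presented group onto the Chevalley group whose kernel is precisely the centre; hence `L(K) ≅ Ḡ/Z(Ḡ)`. -/
theorem result {K : Type*} [Field K] (D : Cfsg.Lie.ChevalleyDatum) (hD : D ∈ [Cfsg.Lie.chevG2, Cfsg.Lie.chevB2, Cfsg.Lie.chevD4, Cfsg.Lie.chevF4, Cfsg.Lie.chevE6, Cfsg.Lie.chevE7, Cfsg.Lie.chevE8]) :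
    ∃ θ : D.SteinbergGroup K →* ↥(D.group K), Function.Surjective θ ∧ θ.ker = Subgroup.center (D.SteinbergGroup K) ∧
      ∀ (r : ℕ) (t : K), r < D.nroots → ((θ (D.stGen K r t) : GL D.Idx K) : Matrix D.Idx D.Idx K) = D.x K r t := by
  have hG := Cfsg.Agent.Helper7.Chev.good3_of_mem D hD
  have hkill : ∀ g ∈ D.steinbergRels K, Cfsg.Agent.Helper7.St.liftX hG.toGood1 g = 1 :=
    fun g hg => Cfsg.Agent.Helper7.St.liftX_rels hG hg
  have hAB : D.steinbergRelsAB K ⊆ D.steinbergRels K := fun g hg => Or.inl hg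
  have hsurj := Cfsg.Agent.Helper7.St.toChev_surjective hG _ hkill
  refine ⟨Cfsg.Agent.Helper7.St.toChev hG (D.steinbergRels K) hkill, hsurj, ?_, ?_⟩
  · apply le_antisymm
    · intro x hx
      rw [MonoidHom.mem_ker] at hx
      exact (Cfsg.Agent.Helper7.St.toChev_ker_mem hD (D.steinbergRels K) hAB hkill hx).2
    · intro z hz
      rw [MonoidHom.mem_ker]
      have hc : Cfsg.Agent.Helper7.St.toChev hG (D.steinbergRels K) hkill z ∈
          Subgroup.center ↥(D.group K) := by
        rw [Subgroup.mem_center_iff]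
        intro g
        obtain ⟨y, rfl⟩ := hsurj g
        rw [← map_mul, ← map_mul, (Subgroup.mem_center_iff.mp hz) y]
      rw [Cfsg.Agent.Helper7.St.center_group_eq_bot hD, Subgroup.mem_bot] at hc
      exact hc
  · intro r t _
    exact Cfsg.Agent.Helper7.St.toChev_stX hG _ hkill r t

end Cfsg.Agent.S1077
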