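import Cfsg.Statements.S2530
import Mathlib

set_option autoImplicit false
open Cfsg

namespace Cfsg.Agent.S2530

open CoxeterSystem

/-- The abstract Coxeter group of type `A_n`. -/
abbrev W (n : ℕ) := (CoxeterMatrix.A n).Group

/-- Its Coxeter system. -/
def cs (n : ℕ) : CoxeterSystem (CoxeterMatrix.A n) (W n) := (CoxeterMatrix.A n).toCoxeterSystem

/-- Generators indexed by natural numbers (trivial outside the range). -/
noncomputable def sg (n : ℕ) (i : ℕ) : W n := if h : i < n then (cs n).simple ⟨i, h⟩ else 1

theorem sg_of_lt (n i : ℕ) (h : i < n) : sg n i = (cs n).simple ⟨i, h⟩ := dif_pos h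

theorem sg_sq (n i : ℕ) : sg n i * sg n i = 1 := by
  unfold sg
  split_ifs with h
  · exact (cs n).simple_mul_simple_self _
  · exact one_mul 1

theorem A_apply (n : ℕ) (i j : Fin n) : (CoxeterMatrix.A n) i j =
    if i = j then 1 else (if (j : ℕ) + 1 = i ∨ (i : ℕ) + 1 = j then 3 else 2) := rfl

theorem sg_comm (n i j : ℕ) (hij : i + 2 ≤ j) : sg n i * sg n j = sg n j * sg n i := by
  by_cases hj : j < n
  · have hi : i < n := by omega
    rw [sg_of_lt n i hi, sg_of_lt n j hj]
    have h := (cs n).simple_mul_simple_pow ⟨i, hi⟩ ⟨j, hj⟩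
    have hM : (CoxeterMatrix.A n) ⟨i, hi⟩ ⟨j, hj⟩ = 2 := by
      rw [A_apply]
      have h1 : ¬ ((⟨i, hi⟩ : Fin n) = ⟨j, hj⟩) := by
        intro h
        have := congrArg Fin.val h
        simp only at this
        omega
      rw [if_neg h1, if_neg]
      simp only
      omega
    rw [hM, pow_two] at h
    have e1 := (cs n).simple_mul_simple_self ⟨i, hi⟩
    have e2 := (cs n).simple_mul_simple_self ⟨j, hj⟩
    set a := (cs n).simple ⟨i, hi⟩
    set b := (cs n).simple ⟨j, hj⟩
    have ha : a⁻¹ = a := inv_eq_of_mul_eq_one_left e1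
    have hb : b⁻¹ = b := inv_eq_of_mul_eq_one_left e2
    have hab := inv_eq_of_mul_eq_one_left h
    rw [_root_.mul_inv_rev, ha, hb] at hab
    exact hab.symm
  · have : sg n j = 1 := dif_neg hj
    rw [this, mul_one, one_mul]

theorem sg_braid (n i : ℕ) (hi : i + 1 < n) :
    sg n i * sg n (i + 1) * sg n i = sg n (i + 1) * sg n i * sg n (i + 1) := by
  have hi' : i < n := by omega
  rw [sg_of_lt n i hi', sg_of_lt n (i + 1) hi]
  have h := (cs n).simple_mul_simple_pow ⟨i, hi'⟩ ⟨i + 1, hi⟩
  have hM : (CoxeterMatrix.A n) ⟨i, hi'⟩ ⟨i + 1, hi⟩ = 3 := by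
    rw [A_apply]
    have h1 : ¬ ((⟨i, hi'⟩ : Fin n) = ⟨i + 1, hi⟩) := by
      intro h
      have := congrArg Fin.val h
      simp only at this
      omega
    rw [if_neg h1, if_pos]
    right
    rfl
  rw [hM, pow_succ, pow_two] at h
  have e1 := (cs n).simple_mul_simple_self ⟨i, hi'⟩
  have e2 := (cs n).simple_mul_simple_self ⟨i + 1, hi⟩
  set a := (cs n).simple ⟨i, hi'⟩
  set b := (cs n).simple ⟨i + 1, hi⟩
  have ha : a⁻¹ = a := inv_eq_of_mul_eq_one_left e1
  have hb : b⁻¹ = b := inv_eq_of_mul_eq_one_left e2
  -- (ab)(ab)(ab) = 1 → aba = (bab)⁻¹⁻¹...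
  have h2 : a * b * a * (b * a * b) = 1 := by
    rw [← h]
    group
  have h3 := inv_eq_of_mul_eq_one_left h2
  rw [_root_.mul_inv_rev, _root_.mul_inv_rev, ha, hb, ← mul_assoc] at h3
  exact h3.symm

/-- `cc n k = s_n s_{n-1} ⋯ s_{n-k+1}` in `W (n+1)`. -/
noncomputable def cc (n : ℕ) : ℕ → W (n + 1)
  | 0 => 1
  | k + 1 => cc n k * sg (n + 1) (n - k)

theorem cc_succ (n k : ℕ) : cc n (k + 1) = cc n k * sg (n + 1) (n - k) := rfl

theorem cc_comm (n k j : ℕ) (h : j + k < n) :
    cc n k * sg (n + 1) j = sg (n + 1) j * cc n k := by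
  induction k with
  | zero => simp [cc]
  | succ k ih =>
    rw [cc_succ]
    calc cc n k * sg (n + 1) (n - k) * sg (n + 1) j
        = cc n k * (sg (n + 1) (n - k) * sg (n + 1) j) := by rw [mul_assoc]
      _ = cc n k * (sg (n + 1) j * sg (n + 1) (n - k)) := by
          rw [sg_comm (n + 1) j (n - k) (by omega)]
      _ = (cc n k * sg (n + 1) j) * sg (n + 1) (n - k) := by rw [mul_assoc]
      _ = sg (n + 1) j * cc n k * sg (n + 1) (n - k) := by rw [ih (by omega)]
      _ = _ := by rw [mul_assoc]

theorem cc_shift (n k j : ℕ) (hk : k ≤ n + 1) (hj : j ≤ n) (h : n + 2 ≤ j + k) :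
    cc n k * sg (n + 1) j = sg (n + 1) (j - 1) * cc n k := by
  induction k generalizing j with
  | zero => omega
  | succ k ih =>
    by_cases hcase : j + k = n + 1
    · -- j = n - k + 1, k ≥ 1
      obtain ⟨k', rfl⟩ : ∃ k', k = k' + 1 := ⟨k - 1, by omega⟩
      obtain ⟨i, hi⟩ : ∃ i, n - k' = i + 1 := ⟨n - k' - 1, by omega⟩
      have hj' : j = i + 1 := by omega
      have hi2 : n - (k' + 1) = i := by omega
      have hj1 : j - 1 = i := by omega
      rw [cc_succ, cc_succ, hi, hi2, hj', Nat.add_sub_cancel]
      have hb := sg_braid (n + 1) i (by omega)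
      calc cc n k' * sg (n + 1) (i + 1) * sg (n + 1) i * sg (n + 1) (i + 1)
          = cc n k' * (sg (n + 1) (i + 1) * sg (n + 1) i * sg (n + 1) (i + 1)) := by
            simp only [mul_assoc]
        _ = cc n k' * (sg (n + 1) i * sg (n + 1) (i + 1) * sg (n + 1) i) := by rw [hb]
        _ = (cc n k' * sg (n + 1) i) * sg (n + 1) (i + 1) * sg (n + 1) i := by
            simp only [mul_assoc]
        _ = sg (n + 1) i * cc n k' * sg (n + 1) (i + 1) * sg (n + 1) i := by
            rw [cc_comm n k' i (by omega)]
        _ = sg (n + 1) i * (cc n k' * sg (n + 1) (i + 1) * sg (n + 1) i) := by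
            simp only [mul_assoc]
    · rw [cc_succ]
      calc cc n k * sg (n + 1) (n - k) * sg (n + 1) j
          = cc n k * (sg (n + 1) (n - k) * sg (n + 1) j) := by rw [mul_assoc]
        _ = cc n k * (sg (n + 1) j * sg (n + 1) (n - k)) := by
            rw [sg_comm (n + 1) (n - k) j (by omega)]
        _ = (cc n k * sg (n + 1) j) * sg (n + 1) (n - k) := by rw [mul_assoc]
        _ = sg (n + 1) (j - 1) * cc n k * sg (n + 1) (n - k) := by
            rw [ih j (by omega) hj (by omega)]
        _ = _ := by rw [mul_assoc]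

theorem A_castSucc (n : ℕ) (i j : Fin n) :
    (CoxeterMatrix.A (n + 1)) i.castSucc j.castSucc = (CoxeterMatrix.A n) i j := by
  rw [A_apply, A_apply]
  simp only [Fin.castSucc_inj, Fin.val_castSucc]

/-- The map induced by the inclusion of generators. -/
noncomputable def phi (n : ℕ) : W n →* W (n + 1) :=
  (cs n).lift ⟨fun i => (cs (n + 1)).simple i.castSucc, fun i j => by
    rw [← A_castSucc]
    exact (cs (n + 1)).simple_mul_simple_pow _ _⟩

theorem phi_simple (n : ℕ) (i : Fin n) : phi n ((cs n).simple i) = (cs (n + 1)).simple i.castSucc :=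
  (cs n).lift_apply_simple _ i

theorem sg_mem_range (n j : ℕ) (hj : j < n) : ∃ x : W n, phi n x = sg (n + 1) j := by
  refine ⟨(cs n).simple ⟨j, hj⟩, ?_⟩
  rw [phi_simple, sg_of_lt (n + 1) j (by omega)]
  rfl

theorem cover (n : ℕ) (g : W (n + 1)) : ∃ (x : W n) (k : ℕ), k ≤ n + 1 ∧ g = phi n x * cc n k := by
  induction g using (cs (n + 1)).simple_induction_right with
  | one => exact ⟨1, 0, by omega, by simp [cc]⟩
  | mul_simple_right w i ih =>
    obtain ⟨x, k, hk, rfl⟩ := ih
    have hs : (cs (n + 1)).simple i = sg (n + 1) i.val := by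
      rw [sg_of_lt (n + 1) i.val i.isLt]
    rw [hs]
    have hin : i.val ≤ n := Nat.lt_succ_iff.mp i.isLt
    generalize i.val = j at hin
    rcases lt_trichotomy (j + k) n with h1 | h1 | h1
    · -- commute
      obtain ⟨y, hy⟩ := sg_mem_range n j (by omega)
      refine ⟨x * y, k, hk, ?_⟩
      rw [mul_assoc, cc_comm n k j h1, map_mul, hy, mul_assoc]
    · -- extend
      refine ⟨x, k + 1, by omega, ?_⟩
      have : n - k = j := by omega
      rw [cc_succ, this, mul_assoc]
    · by_cases h2 : j + k = n + 1
      · -- cancel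
        obtain ⟨k', rfl⟩ : ∃ k', k = k' + 1 := ⟨k - 1, by omega⟩
        refine ⟨x, k', by omega, ?_⟩
        have : n - k' = j := by omega
        rw [cc_succ, this, mul_assoc, mul_assoc, sg_sq, mul_one]
      · -- shift
        obtain ⟨y, hy⟩ := sg_mem_range n (j - 1) (by omega)
        refine ⟨x * y, k, hk, ?_⟩
        rw [mul_assoc, cc_shift n k j hk hin (by omega), map_mul, hy, mul_assoc]

theorem finite_card (n : ℕ) : Finite (W n) ∧ Nat.card (W n) ≤ (n + 1).factorial := by
  induction n with
  | zero =>
    have h1 : ∀ g : W 0, g = 1 := by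
      intro g
      obtain ⟨ω, rfl⟩ := (cs 0).wordProd_surjective g
      cases ω with
      | nil => simp
      | cons i _ => exact i.elim0
    haveI : Subsingleton (W 0) := ⟨fun a b => by rw [h1 a, h1 b]⟩
    refine ⟨inferInstance, ?_⟩
    rw [Nat.card_unique]
    simp
  | succ n ih =>
    obtain ⟨hfin, hcard⟩ := ih
    haveI := hfin
    let F : W n × Fin (n + 2) → W (n + 1) := fun p => phi n p.1 * cc n p.2.val
    have hF : Function.Surjective F := by
      intro g
      obtain ⟨x, k, hk, rfl⟩ := cover n g
      exact ⟨(x, ⟨k, by omega⟩), rfl⟩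
    haveI : Finite (W (n + 1)) := Finite.of_surjective F hF
    refine ⟨inferInstance, ?_⟩
    calc Nat.card (W (n + 1)) ≤ Nat.card (W n × Fin (n + 2)) := Nat.card_le_card_of_surjective F hF
      _ = Nat.card (W n) * (n + 2) := by rw [Nat.card_prod, Nat.card_fin]
      _ ≤ (n + 1).factorial * (n + 2) := Nat.mul_le_mul_right _ hcard
      _ = (n + 1 + 1).factorial := by rw [Nat.factorial_succ (n + 1)]; ring

/-- Adjacent transpositions satisfy the Coxeter relations. -/
theorem liftable (n : ℕ) : (CoxeterMatrix.A n).IsLiftable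
    (fun i : Fin n => (Equiv.swap i.castSucc i.succ : Equiv.Perm (Fin (n + 1)))) := by
  intro i j
  change (Equiv.swap i.castSucc i.succ * Equiv.swap j.castSucc j.succ) ^ (CoxeterMatrix.A n i j) = 1
  rw [A_apply]
  by_cases hij : i = j
  · subst hij
    simp
  · rw [if_neg hij]
    have hne : i.val ≠ j.val := fun h => hij (Fin.ext h)
    by_cases hadj : (j : ℕ) + 1 = i ∨ (i : ℕ) + 1 = j
    · rw [if_pos hadj]
      rcases hadj with h | h
      · -- i = j + 1: i.castSucc = j.succ
        have e : i.castSucc = j.succ := Fin.ext (by simp [h])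
        rw [e]
        have h3 : (Equiv.swap j.succ i.succ * Equiv.swap j.castSucc j.succ).IsThreeCycle := by
          rw [Equiv.swap_comm j.castSucc j.succ]
          apply Equiv.Perm.isThreeCycle_swap_mul_swap_same
          · intro h'
            have := congrArg Fin.val h'
            simp at this
            omega
          · intro h'
            have := congrArg Fin.val h'
            simp at this
          · intro h'
            have := congrArg Fin.val h'
            simp at this
            omega
        rw [← h3.orderOf]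
        exact pow_orderOf_eq_one _
      · have e : j.castSucc = i.succ := Fin.ext (by simp [h])
        rw [e]
        have h3 : (Equiv.swap i.castSucc i.succ * Equiv.swap i.succ j.succ).IsThreeCycle := by
          rw [Equiv.swap_comm i.castSucc i.succ]
          apply Equiv.Perm.isThreeCycle_swap_mul_swap_same
          · intro h'
            have := congrArg Fin.val h'
            simp at this
          · intro h'
            have := congrArg Fin.val h'
            simp at this
            omega
          · intro h'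
            have := congrArg Fin.val h'
            simp at this
            omega
        rw [← h3.orderOf]
        exact pow_orderOf_eq_one _
    · rw [if_neg hadj]
      push Not at hadj
      have hd : Equiv.Perm.Disjoint (Equiv.swap i.castSucc i.succ) (Equiv.swap j.castSucc j.succ) := by
        apply Equiv.Perm.disjoint_swap_swap
        simp only [List.nodup_cons, List.mem_cons, List.not_mem_nil, or_false, not_or, List.nodup_nil,
          and_true, not_false_eq_true]
        refine ⟨⟨?_, ?_, ?_⟩, ⟨?_, ?_⟩, ?_⟩ <;>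
        · intro h'
          have := congrArg Fin.val h'
          simp only [Fin.val_castSucc, Fin.val_succ] at this
          omega
      have hc := hd.commute
      rw [pow_two]
      calc Equiv.swap i.castSucc i.succ * Equiv.swap j.castSucc j.succ *
            (Equiv.swap i.castSucc i.succ * Equiv.swap j.castSucc j.succ)
          = Equiv.swap i.castSucc i.succ * (Equiv.swap j.castSucc j.succ * Equiv.swap i.castSucc i.succ) *
            Equiv.swap j.castSucc j.succ := by simp only [mul_assoc]
        _ = Equiv.swap i.castSucc i.succ * (Equiv.swap i.castSucc i.succ * Equiv.swap j.castSucc j.succ) *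
            Equiv.swap j.castSucc j.succ := by rw [hc.eq]
        _ = 1 := by
          rw [← mul_assoc, Equiv.swap_mul_self, one_mul, Equiv.swap_mul_self]

/-- The homomorphism onto the symmetric group. -/
noncomputable def toPerm (n : ℕ) : W n →* Equiv.Perm (Fin (n + 1)) :=
  (cs n).lift ⟨_, liftable n⟩

theorem toPerm_simple (n : ℕ) (i : Fin n) :
    toPerm n ((cs n).simple i) = Equiv.swap i.castSucc i.succ :=
  (cs n).lift_apply_simple (liftable n) i

theorem toPerm_surjective (n : ℕ) : Function.Surjective (toPerm n) := by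
  rw [← MonoidHom.mrange_eq_top]
  rw [eq_top_iff, ← Equiv.Perm.mclosure_swap_castSucc_succ n, Submonoid.closure_le]
  rintro _ ⟨i, rfl⟩
  exact ⟨(cs n).simple i, toPerm_simple n i⟩

theorem toPerm_bijective (n : ℕ) : Function.Bijective (toPerm n) := by
  obtain ⟨hfin, hcard⟩ := finite_card n
  haveI := hfin
  apply (toPerm_surjective n).bijective_of_nat_card_le
  rw [Nat.card_eq_fintype_card (α := Equiv.Perm (Fin (n + 1))), Fintype.card_perm, Fintype.card_fin]
  exact hcard

/-- The Coxeter presentation of the symmetric group: for every n, the symmetric group on n+1 letters is the Coxeter group of type A_n with the adjacent transpositions (i, i+1) as simple reflections; that is, it is presented by generators r_1, …, r_n subject to r_i² = 1, (r_i r_j)² = 1 for |i − j| > 1 and (r_i r_{i+1})³ = 1, with r_i mapping to (i, i+1). -/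
theorem result (n : ℕ) :
    ∃ cs : CoxeterSystem (CoxeterMatrix.A n) (Equiv.Perm (Fin (n + 1))), ∀ i : Fin n, cs.simple i = Equiv.swap i.castSucc i.succ := by
  refine ⟨⟨(MulEquiv.ofBijective (toPerm n) (toPerm_bijective n)).symm⟩, ?_⟩
  intro i
  exact toPerm_simple n i

end Cfsg.Agent.S2530
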