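import Mathlib
import Cfsg.Statements.S0296
import Cfsg.Agent.Helper8.StdForms
import Cfsg.Agent.Helper8.OmegaSimple

set_option autoImplicit false
open Cfsg

namespace Cfsg.Agent.S0296

open Module Cfsg.Agent.Helper8.StdForms Cfsg.Agent.Helper8.OmegaSimple

/-- PΩ^+_{2m}(q) is simple for m at least 4. -/
theorem result {F : Type*} [Field F] [Fintype F] (m : ℕ) (hm : 4 ≤ m) : IsSimpleGroup (Cfsg.POmega F (Cfsg.quadFormPlus m F)) := by
  classical
  have hQeq : Cfsg.quadFormPlus m F = ⇑(plusForm F m) :=
    funext (fun v => (plusForm_apply F m v).symm)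
  rw [hQeq]
  have hcard : Fintype.card (Fin m ⊕ Fin m) = 2 * m := by
    simp only [Fintype.card_sum, Fintype.card_fin]
    ring
  exact isSimpleGroup_POmega (plusForm F m) (plusForm_nondeg F m) (by rw [hcard]; omega)

end Cfsg.Agent.S0296
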