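import Mathlib
import Cfsg.Statements.S0756

set_option autoImplicit false
open Cfsg

namespace Cfsg.Agent.S0756

open Module LinearMap.BilinForm

section field

variable {F : Type*} [Field F] [Finite F]

/-- Every nonzero element is a square or a fixed nonsquare times a square. -/
theorem eq_sq_or_nonsq_mul_sq (h2 : (2 : F) ≠ 0) {α : F} (hα : ¬ IsSquare α) {a : F} (ha : a ≠ 0) :
    ∃ c : F, c ≠ 0 ∧ (a = c ^ 2 ∨ a = α * c ^ 2) := by
  have : Fintype F := Fintype.ofFinite F
  have hF : ringChar F ≠ 2 := by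
    intro h
    have : CharP F 2 := ringChar.of_eq h
    exact h2 (CharP.cast_eq_zero F 2)
  have hα0 : α ≠ 0 := by
    rintro rfl
    exact hα ⟨0, by simp⟩
  by_cases hsq : IsSquare a
  · obtain ⟨c, hc⟩ := hsq
    refine ⟨c, ?_, Or.inl (by rw [hc, pow_two])⟩
    rintro rfl
    exact ha (by rw [hc, mul_zero])
  · have h1 : a ^ (Fintype.card F / 2) = -1 := by
      rcases FiniteField.pow_dichotomy hF ha with h | h
      · exact absurd ((FiniteField.isSquare_iff hF ha).mpr h) hsq
      · exact h
    have h3 : α ^ (Fintype.card F / 2) = -1 := by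
      rcases FiniteField.pow_dichotomy hF hα0 with h | h
      · exact absurd ((FiniteField.isSquare_iff hF hα0).mpr h) hα
      · exact h
    have h4 : IsSquare (a / α) := by
      rw [FiniteField.isSquare_iff hF (div_ne_zero ha hα0), div_pow, h1, h3]
      simp
    obtain ⟨c, hc⟩ := h4
    refine ⟨c, ?_, Or.inr ?_⟩
    · rintro rfl
      rw [mul_zero] at hc
      exact div_ne_zero ha hα0 hc
    · rw [pow_two, ← hc, mul_div_cancel₀ _ hα0]

/-- A binary diagonal form represents `1`. -/
theorem exists_sq_add_sq_eq_one (h2 : (2 : F) ≠ 0) {a b : F} (ha : a ≠ 0) (hb : b ≠ 0) :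
    ∃ s t : F, a * s ^ 2 + b * t ^ 2 = 1 := by
  have : Fintype F := Fintype.ofFinite F
  have hF : ringChar F ≠ 2 := by
    intro h
    have : CharP F 2 := ringChar.of_eq h
    exact h2 (CharP.cast_eq_zero F 2)
  have hodd := FiniteField.odd_card_of_char_ne_two hF
  obtain ⟨s, t, hst⟩ := FiniteField.exists_root_sum_quadratic
    (f := Polynomial.C a * Polynomial.X ^ 2) (g := Polynomial.C b * Polynomial.X ^ 2 - Polynomial.C 1)
    (by rw [Polynomial.degree_C_mul_X_pow 2 ha]; rfl)
    (by
      rw [Polynomial.degree_sub_eq_left_of_degree_lt]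
      · rw [Polynomial.degree_C_mul_X_pow 2 hb]; rfl
      · rw [Polynomial.degree_C_mul_X_pow 2 hb, Polynomial.degree_C one_ne_zero]
        norm_num) hodd
  refine ⟨s, t, ?_⟩
  simp only [Polynomial.eval_mul, Polynomial.eval_C, Polynomial.eval_pow, Polynomial.eval_X,
    Polynomial.eval_sub] at hst
  linear_combination hst

end field

variable {F V : Type*} [Field F] [Finite F] [AddCommGroup V] [Module F V] [FiniteDimensional F V]

theorem ne_zero_of_nondegenerate (B : LinearMap.BilinForm F V) (hB : B.Nondegenerate)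
    (hV : 0 < finrank F V) : B ≠ 0 := by
  rintro rfl
  have : Nontrivial V := finrank_pos_iff.mp hV
  obtain ⟨x, hx⟩ := exists_ne (0 : V)
  exact hx (hB.1 x (fun y => rfl))

theorem finrank_orthogonal (B : LinearMap.BilinForm F V) {x : V} (hx : B x x ≠ 0) {d : ℕ}
    (hd : finrank F V = d + 1) : finrank F (B.orthogonal (F ∙ x)) = d := by
  have h1 := Submodule.finrank_add_eq_of_isCompl (LinearMap.BilinForm.isCompl_span_singleton_orthogonal hx)
  have hx0 : x ≠ 0 := by
    rintro rfl
    exact hx (by simp)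
  rw [finrank_span_singleton hx0, hd] at h1
  omega

/-- In dimension at least one the form represents `1` or `α`. -/
theorem exists_self_eq_one_or (h2 : (2 : F) ≠ 0) (B : LinearMap.BilinForm F V) (hS : B.IsSymm)
    (hB : B.Nondegenerate) (hV : 0 < finrank F V) {α : F} (hα : ¬ IsSquare α) :
    ∃ x : V, B x x = 1 ∨ B x x = α := by
  have : Invertible (2 : F) := invertibleOfNonzero h2
  obtain ⟨x, hx⟩ := exists_bilinForm_self_ne_zero (ne_zero_of_nondegenerate B hB hV)
    (isSymm_iff.mp hS)
  obtain ⟨c, hc0, hc⟩ := eq_sq_or_nonsq_mul_sq h2 hα hx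
  refine ⟨c⁻¹ • x, ?_⟩
  simp only [map_smul, LinearMap.smul_apply, smul_eq_mul]
  rcases hc with hc | hc
  · left
    rw [hc]
    field_simp
  · right
    rw [hc]
    field_simp

/-- In dimension at least two the form represents `1`. -/
theorem exists_self_eq_one (h2 : (2 : F) ≠ 0) (B : LinearMap.BilinForm F V) (hS : B.IsSymm)
    (hB : B.Nondegenerate) {d : ℕ} (hV : finrank F V = d + 2) : ∃ x : V, B x x = 1 := by
  have : Invertible (2 : F) := invertibleOfNonzero h2
  obtain ⟨x, hx⟩ := exists_bilinForm_self_ne_zero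
    (ne_zero_of_nondegenerate B hB (by omega)) (isSymm_iff.mp hS)
  have hN := restrict_nondegenerate_orthogonal_spanSingleton B hB hS.isRefl hx
  have hdN : finrank F (B.orthogonal (F ∙ x)) = d + 1 := finrank_orthogonal B hx hV
  obtain ⟨y, hy⟩ := exists_bilinForm_self_ne_zero
    (ne_zero_of_nondegenerate _ hN (by omega)) (isSymm_iff.mp (hS.restrict _))
  have hy' : B (y : V) (y : V) ≠ 0 := hy
  have hxy : B x (y : V) = 0 :=
    (mem_orthogonal_iff.mp y.2) x (Submodule.mem_span_singleton_self x)
  have hyx : B (y : V) x = 0 := by rw [hS.eq]; exact hxy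
  obtain ⟨s, t, hst⟩ := exists_sq_add_sq_eq_one h2 hx hy'
  refine ⟨s • x + t • (y : V), ?_⟩
  simp only [map_add, map_smul, LinearMap.add_apply, LinearMap.smul_apply, smul_eq_mul, hxy, hyx,
    mul_zero, add_zero, zero_add]
  linear_combination hst

omit [Finite F] in
/-- Prepending a non-isotropic vector to a basis of its orthogonal complement. -/
theorem exists_cons_basis (B : LinearMap.BilinForm F V) {x : V} (hx : B x x ≠ 0) {d : ℕ}
    (v' : Basis (Fin d) F (B.orthogonal (F ∙ x))) :
    ∃ b : Basis (Fin (d + 1)) F V, (b : Fin (d + 1) → V) = Fin.cons x ((↑) ∘ v') := by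
  have hx0 : x ≠ 0 := by
    rintro rfl
    exact hx (by simp)
  refine ⟨Basis.mkFinCons x v' ?_ ?_, Basis.coe_mkFinCons _ _ _ _⟩
  · rintro c y hy hc
    rw [add_eq_zero_iff_neg_eq] at hc
    rw [← hc, Submodule.neg_mem_iff] at hy
    have := (LinearMap.BilinForm.isCompl_span_singleton_orthogonal hx).disjoint
    rw [Submodule.disjoint_def] at this
    have := this (c • x) (Submodule.smul_mem _ _ <| Submodule.mem_span_singleton_self _) hy
    exact (smul_eq_zero.1 this).resolve_right hx0
  · intro y
    refine ⟨-B x y / B x x, ?_⟩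
    rw [mem_orthogonal_iff]
    intro z hz
    obtain ⟨c, rfl⟩ := Submodule.mem_span_singleton.1 hz
    rw [map_smul, LinearMap.smul_apply, map_add, map_smul, smul_eq_mul, smul_eq_mul,
      div_mul_cancel₀ _ hx, add_neg_cancel, mul_zero]

theorem main (h2 : (2 : F) ≠ 0) {α : F} (hα : ¬ IsSquare α) :
    ∀ (d : ℕ) (V : Type _) [AddCommGroup V] [Module F V] [FiniteDimensional F V]
      (B : LinearMap.BilinForm F V) (_ : B.IsSymm) (_ : B.Nondegenerate)
      (_ : finrank F V = d + 1),
      ∃ b : Basis (Fin (d + 1)) F V, (∀ i j, i ≠ j → B (b i) (b j) = 0) ∧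
        (∀ i, i ≠ Fin.last d → B (b i) (b i) = 1) ∧
        (B (b (Fin.last d)) (b (Fin.last d)) = 1 ∨ B (b (Fin.last d)) (b (Fin.last d)) = α) := by
  have hα0 : α ≠ 0 := by
    rintro rfl
    exact hα ⟨0, by simp⟩
  intro d
  induction d with
  | zero =>
    intro V _ _ _ B hS hB hd
    obtain ⟨x, hx⟩ := exists_self_eq_one_or h2 B hS hB (by omega) hα
    have hx' : B x x ≠ 0 := by
      rcases hx with h | h <;> rw [h]
      · exact one_ne_zero
      · exact hα0
    have hN : finrank F (B.orthogonal (F ∙ x)) = 0 := finrank_orthogonal B hx' hd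
    obtain ⟨b, hb⟩ := exists_cons_basis B hx' (d := 0) (basisOfFinrankZero hN)
    have hsub : Subsingleton (Fin (0 + 1)) := (inferInstance : Subsingleton (Fin 1))
    refine ⟨b, ?_, ?_, ?_⟩
    · intro i j hij
      exact absurd (Subsingleton.elim i j) hij
    · intro i hi
      exact absurd (Subsingleton.elim i _) hi
    · have : b (Fin.last 0) = x := by
        rw [hb]; rfl
      rw [this]
      exact hx
  | succ d ih =>
    intro V _ _ _ B hS hB hd
    obtain ⟨x, hx⟩ := exists_self_eq_one h2 B hS hB hd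
    have hx' : B x x ≠ 0 := by rw [hx]; exact one_ne_zero
    have hN := restrict_nondegenerate_orthogonal_spanSingleton B hB hS.isRefl hx'
    have hdN : finrank F (B.orthogonal (F ∙ x)) = d + 1 := finrank_orthogonal B hx' hd
    obtain ⟨v', hv1, hv2, hv3⟩ := ih (B.orthogonal (F ∙ x)) (B.restrict _) (hS.restrict _) hN hdN
    obtain ⟨b, hb⟩ := exists_cons_basis B hx' v'
    have hb0 : b 0 = x := by rw [hb]; rfl
    have hbs : ∀ i : Fin (d + 1), b i.succ = (v' i : V) := by
      intro i; rw [hb]; rfl
    have hxv : ∀ i : Fin (d + 1), B x (v' i : V) = 0 := fun i =>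
      (mem_orthogonal_iff.mp (v' i).2) x (Submodule.mem_span_singleton_self x)
    refine ⟨b, ?_, ?_, ?_⟩
    · intro i j
      refine Fin.cases ?_ (fun i => ?_) i <;> refine Fin.cases ?_ (fun j => ?_) j <;> intro hij
      · exact absurd rfl hij
      · rw [hb0, hbs]; exact hxv j
      · rw [hb0, hbs, hS.eq]; exact hxv i
      · rw [hbs, hbs]
        exact hv1 i j (fun h => hij (by rw [h]))
    · intro i
      refine Fin.cases ?_ (fun i => ?_) i
      · intro _
        rw [hb0]; exact hx
      · intro hi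
        rw [hbs]
        exact hv2 i (fun h => hi (by rw [h]; rfl))
    · have : b (Fin.last (d + 1)) = (v' (Fin.last d) : V) := by
        rw [← Fin.succ_last, hbs]
      rw [this]
      exact hv3

/-- Classification of symmetric bilinear forms over finite fields of odd characteristic: if B is non-degenerate symmetric on V of dimension n + 1 and α is a fixed non-square of F, there is an orthogonal basis b_0, ..., b_n with B(b_i, b_i) = 1 for i < n and B(b_n, b_n) ∈ {1, α}. -/
theorem result {F V : Type*} [Field F] [Finite F] [AddCommGroup V] [Module F V] [FiniteDimensional F V] (h2 : (2 : F) ≠ 0) (B : LinearMap.BilinForm F V) (hS : B.IsSymm) (hB : B.Nondegenerate) {n : ℕ} (hn : Module.finrank F V = n + 1) (α : F) (hα : ¬ IsSquare α) : ∃ b : Module.Basis (Fin (n + 1)) F V, (∀ i j, i ≠ j → B (b i) (b j) = 0) ∧ (∀ i, i ≠ Fin.last n → B (b i) (b i) = 1) ∧ (B (b (Fin.last n)) (b (Fin.last n)) = 1 ∨ B (b (Fin.last n)) (b (Fin.last n)) = α) := by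
  exact main h2 hα n V B hS hB hn

end Cfsg.Agent.S0756
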