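import Mathlib
import Cfsg.Statements.S0261
import Cfsg.Agent.S0016
import Cfsg.Agent.S0756
import Cfsg.Agent.Helper4.DicyclicHom

set_option autoImplicit false
open Cfsg

namespace Cfsg.Agent.S0261

open Matrix

variable {F : Type*} [Field F]

/-- An involution of determinant one in characteristic not two is `±1`. -/
theorem invol (h2 : (2 : F) ≠ 0) (A : Matrix (Fin 2) (Fin 2) F) (hdet : A.det = 1)
    (hA : A * A = 1) : A = 1 ∨ A = -1 := by
  have h00 := congrFun (congrFun hA 0) 0
  have h01 := congrFun (congrFun hA 0) 1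
  have h10 := congrFun (congrFun hA 1) 0
  have h11 := congrFun (congrFun hA 1) 1
  rw [Matrix.det_fin_two] at hdet
  simp only [Matrix.mul_apply, Fin.sum_univ_two, Matrix.one_apply_eq] at h00 h11
  rw [Matrix.mul_apply, Fin.sum_univ_two, Matrix.one_apply_ne (by decide)] at h01 h10
  have ht : A 0 0 + A 1 1 ≠ 0 := by
    intro ht
    apply h2
    have hd : A 1 1 = -A 0 0 := by linear_combination ht
    rw [hd] at hdet
    linear_combination (-1 : F) * h00 + (-1 : F) * hdet
  have hb : A 0 1 = 0 := by
    have : A 0 1 * (A 0 0 + A 1 1) = 0 := by linear_combination h01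
    rcases mul_eq_zero.mp this with h | h
    · exact h
    · exact absurd h ht
  have hc : A 1 0 = 0 := by
    have : A 1 0 * (A 0 0 + A 1 1) = 0 := by linear_combination h10
    rcases mul_eq_zero.mp this with h | h
    · exact h
    · exact absurd h ht
  rw [hb, hc] at h00 hdet
  have had : A 1 1 = A 0 0 := by
    have : A 1 1 = A 1 1 * (A 0 0 * A 0 0) := by rw [show A 0 0 * A 0 0 = 1 by linear_combination h00, mul_one]
    rw [this]
    linear_combination A 0 0 * hdet
  have ha : (A 0 0 - 1) * (A 0 0 + 1) = 0 := by linear_combination h00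
  rcases mul_eq_zero.mp ha with h | h
  · left
    have h1 : A 0 0 = 1 := by linear_combination h
    rw [Matrix.eta_fin_two A, hb, hc, had, h1]
    exact Matrix.one_fin_two.symm
  · right
    have h1 : A 0 0 = -1 := by linear_combination h
    rw [Matrix.eta_fin_two A, hb, hc, had, h1, Matrix.one_fin_two]
    ext i j
    fin_cases i <;> fin_cases j <;> simp

set_option linter.unusedSectionVars false

variable [Fintype F]

/-- The group. -/
abbrev G (F : Type*) [Field F] := Matrix.SpecialLinearGroup (Fin 2) F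

theorem two_ne_zero_of_odd (hF : Odd (Fintype.card F)) : (2 : F) ≠ 0 := by
  intro h
  have hchar : ringChar F = 2 := by
    have : ringChar F ∣ 2 := by
      rw [← ringChar.spec]  -- placeholder
      exact_mod_cast h
    rcases (Nat.dvd_prime Nat.prime_two).mp this with h1 | h1
    · exact absurd h1 (CharP.ringChar_ne_one)
    · exact h1
  have := FiniteField.even_card_of_char_two hchar
  have := Nat.odd_iff.mp hF
  omega

/-- The central involution. -/
def negOne : G F := ⟨-1, by rw [Matrix.det_neg, Matrix.det_one]; simp⟩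

theorem negOne_val : (negOne : G F).1 = -1 := rfl

/-- An element of order two is the central involution. -/
theorem eq_negOne (h2 : (2 : F) ≠ 0) (g : G F) (hg : g ^ 2 = 1) (hg1 : g ≠ 1) : g = negOne := by
  apply Subtype.ext
  have h := congrArg (fun x : G F => x.1) hg
  simp only [pow_two, Matrix.SpecialLinearGroup.coe_mul, Matrix.SpecialLinearGroup.coe_one] at h
  rcases invol h2 g.1 g.2 h with h1 | h1
  · exact absurd (Subtype.ext h1) hg1
  · exact h1

/-- A subgroup of order two of a subgroup of `SL_2` is generated by the central involution. -/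
theorem unique_order_two (h2 : (2 : F) ≠ 0) (P : Subgroup (G F)) (H K : Subgroup P)
    (hH : Nat.card H = 2) (hK : Nat.card K = 2) : H = K := by
  have key : ∀ H : Subgroup P, Nat.card H = 2 → ∃ h : P, h.1 = negOne ∧ H = Subgroup.zpowers h := by
    intro H hH
    have : Finite H := Nat.finite_of_card_ne_zero (by rw [hH]; norm_num)
    have hnt : Nontrivial H := by
      rw [← Finite.one_lt_card_iff_nontrivial, hH]; norm_num
    obtain ⟨h, hh1⟩ := exists_ne (1 : H)
    have hh2 : h ^ 2 = 1 := by
      have := pow_card_eq_one' (G := H) (x := h)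
      rwa [hH] at this
    have hne : h.1 ≠ 1 := fun e => hh1 (Subtype.ext e)
    have hsq : h.1 ^ 2 = 1 := by
      have := congrArg (fun x : H => x.1) hh2
      simpa using this
    refine ⟨h.1, ?_, ?_⟩
    · apply eq_negOne h2
      · have := congrArg (fun x : P => x.1) hsq
        simpa using this
      · intro e
        exact hne (Subtype.ext e)
    · symm
      apply Subgroup.eq_of_le_of_card_ge
      · rw [Subgroup.zpowers_le]; exact h.2
      · rw [Nat.card_zpowers, orderOf_eq_prime hsq hne, hH]
  obtain ⟨h, hh, rfl⟩ := key H hH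
  obtain ⟨k, hk, rfl⟩ := key K hK
  have : h = k := Subtype.ext (hh.trans hk.symm)
  rw [this]

/-- The first quaternion generator. -/
def qx (s t : F) (h : s ^ 2 + t ^ 2 = -1) : G F :=
  ⟨!![s, t; t, -s], by rw [Matrix.det_fin_two_of]; linear_combination (-1 : F) * h⟩

/-- The second quaternion generator. -/
def qy : G F := ⟨!![0, -1; 1, 0], by rw [Matrix.det_fin_two_of]; ring⟩

theorem qx_sq (s t : F) (h : s ^ 2 + t ^ 2 = -1) : qx s t h * qx s t h = negOne := by
  apply Subtype.ext
  rw [Matrix.SpecialLinearGroup.coe_mul, negOne_val]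
  show !![s, t; t, -s] * !![s, t; t, -s] = -1
  rw [Matrix.mul_fin_two, Matrix.one_fin_two]
  ext i j
  fin_cases i <;> fin_cases j <;> simp <;>
    first | ring1 | linear_combination h

theorem qy_sq : (qy : G F) * qy = negOne := by
  apply Subtype.ext
  rw [Matrix.SpecialLinearGroup.coe_mul, negOne_val]
  show !![(0 : F), -1; 1, 0] * !![0, -1; 1, 0] = -1
  rw [Matrix.mul_fin_two, Matrix.one_fin_two]
  ext i j
  fin_cases i <;> fin_cases j <;> simp

theorem negOne_sq : (negOne : G F) * negOne = 1 := by
  apply Subtype.ext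
  rw [Matrix.SpecialLinearGroup.coe_mul, negOne_val, Matrix.SpecialLinearGroup.coe_one]
  simp

theorem qxyx (s t : F) (h : s ^ 2 + t ^ 2 = -1) : qx s t h * qy * qx s t h = qy := by
  apply Subtype.ext
  rw [Matrix.SpecialLinearGroup.coe_mul, Matrix.SpecialLinearGroup.coe_mul]
  show !![s, t; t, -s] * !![0, -1; 1, 0] * !![s, t; t, -s] = !![0, -1; 1, 0]
  rw [Matrix.mul_fin_two, Matrix.mul_fin_two]
  ext i j
  fin_cases i <;> fin_cases j <;> simp <;>
    first | ring1 | linear_combination h | linear_combination (-1 : F) * h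

theorem qxy_ne (h2 : (2 : F) ≠ 0) (s t : F) (h : s ^ 2 + t ^ 2 = -1) :
    qx s t h * qy ≠ qy * qx s t h := by
  intro e
  have e1 := congrArg (fun x : G F => x.1) e
  simp only [Matrix.SpecialLinearGroup.coe_mul] at e1
  change !![s, t; t, -s] * !![0, -1; 1, 0] = !![0, -1; 1, 0] * !![s, t; t, -s] at e1
  rw [Matrix.mul_fin_two, Matrix.mul_fin_two] at e1
  have e00 := congrFun (congrFun e1 0) 0
  have e01 := congrFun (congrFun e1 0) 1
  simp at e00 e01
  have ht : t = 0 := by
    have : (2 : F) * t = 0 := by linear_combination e00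
    rcases mul_eq_zero.mp this with h' | h'
    · exact absurd h' h2
    · exact h'
  have hs : s = 0 := by
    have : (2 : F) * s = 0 := by linear_combination (-1 : F) * e01
    rcases mul_eq_zero.mp this with h' | h'
    · exact absurd h' h2
    · exact h'
  rw [hs, ht] at h
  have : (1 : F) = 0 := by linear_combination h
  exact one_ne_zero this

theorem exists_noncomm (h2 : (2 : F) ≠ 0) :
    ∃ K : Subgroup (G F), IsPGroup 2 K ∧ ∃ x ∈ K, ∃ y ∈ K, x * y ≠ y * x := by
  have : Finite F := Finite.of_fintype F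
  obtain ⟨s, t, hst⟩ := Cfsg.Agent.S0756.exists_sq_add_sq_eq_one h2
    (a := (-1 : F)) (b := (-1 : F)) (by simp) (by simp)
  have h : s ^ 2 + t ^ 2 = -1 := by linear_combination (-1 : F) * hst
  have hu : qx s t h ^ (2 * 2) = 1 := by
    rw [show 2 * 2 = 2 + 2 by norm_num, pow_add, pow_two, qx_sq, negOne_sq]
  have hJ : (qy : G F) * qy = qx s t h ^ 2 := by rw [pow_two, qx_sq, qy_sq]
  let f := Cfsg.Agent.Helper4.dicyclicHom (n := 2) (qx s t h) qy hu hJ (qxyx s t h)
  refine ⟨f.range, ?_, qx s t h, ⟨QuaternionGroup.a 1, ?_⟩, qy, ⟨QuaternionGroup.xa 0, ?_⟩,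
    qxy_ne h2 s t h⟩
  · have hQ : IsPGroup 2 (QuaternionGroup 2) := by
      apply IsPGroup.of_card (n := 3)
      rw [Nat.card_eq_fintype_card, QuaternionGroup.card]
      norm_num
    exact hQ.of_surjective f.rangeRestrict f.rangeRestrict_surjective
  · show f (QuaternionGroup.a 1) = qx s t h
    rw [Cfsg.Agent.Helper4.dicyclicHom_a]
    have : ((1 : ZMod (2 * 2))).val = 1 := rfl
    rw [this, pow_one]
  · show f (QuaternionGroup.xa 0) = qy
    rw [Cfsg.Agent.Helper4.dicyclicHom_xa]
    simp

/-- For q odd, the Sylow 2-subgroups of SL_2(q) are generalised quaternion. -/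
theorem result {F : Type*} [Field F] [Fintype F] (hF : Odd (Fintype.card F)) (P : Sylow 2 (Matrix.SpecialLinearGroup (Fin 2) F)) : ∃ k : ℕ, 1 ≤ k ∧ Nonempty ((P : Subgroup (Matrix.SpecialLinearGroup (Fin 2) F)) ≃* QuaternionGroup (2 ^ k)) := by
  classical
  have h2 := two_ne_zero_of_odd hF
  have : Finite (Matrix.SpecialLinearGroup (Fin 2) F) := Subtype.finite
  have hP : IsPGroup 2 (P : Subgroup (G F)) := P.isPGroup'
  -- the Sylow subgroup is not commutative
  have hnc : ¬ (∀ a b : (P : Subgroup (G F)), a * b = b * a) := by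
    intro hcomm
    obtain ⟨K, hK, x, hx, y, hy, hxy⟩ := exists_noncomm h2
    obtain ⟨Q, hQ⟩ := hK.exists_le_sylow
    have e : (P : Subgroup (G F)) ≃* (Q : Subgroup (G F)) := Sylow.equiv P Q
    have hcommQ : ∀ a b : (Q : Subgroup (G F)), a * b = b * a := by
      intro a b
      apply e.symm.injective
      rw [map_mul, map_mul]
      exact hcomm _ _
    have := hcommQ ⟨x, hQ hx⟩ ⟨y, hQ hy⟩
    exact hxy (congrArg Subtype.val this)
  have huniq : ∀ H K : Subgroup (P : Subgroup (G F)), Nat.card H = 2 → Nat.card K = 2 → H = K :=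
    fun H K hH hK => unique_order_two h2 _ H K hH hK
  rcases Cfsg.Agent.S0016.result (G := (P : Subgroup (G F))) 2 hP huniq with hc | ⟨_, n, ⟨e⟩⟩
  · exact absurd (fun a b => hc.isMulCommutative.is_comm.comm a b) hnc
  · refine ⟨n, ?_, ⟨e⟩⟩
    by_contra hn
    have hn0 : n = 0 := by omega
    subst hn0
    apply hnc
    intro a b
    have hcyc : IsCyclic (QuaternionGroup (2 ^ 0)) := by
      rw [pow_zero]; exact QuaternionGroup.quaternionGroup_one_isCyclic
    apply e.injective
    rw [map_mul, map_mul]
    exact hcyc.isMulCommutative.is_comm.comm _ _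

end Cfsg.Agent.S0261
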