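import Mathlib
import Cfsg.Statements.S0262
import Cfsg.Agent.Helper7.SL2Tori

set_option autoImplicit false
open Cfsg

namespace Cfsg.Agent.S0262

open Cfsg.Agent.Helper7.SL2

/-- For an odd prime r different from the characteristic, the Sylow r-subgroups of SL_2(q) are cyclic. -/
theorem result {F : Type*} [Field F] [Fintype F] (p : ℕ) [Fact p.Prime] [CharP F p] (r : ℕ) [Fact r.Prime] (hr : r ≠ 2) (hrp : r ≠ p) (R : Sylow r (Matrix.SpecialLinearGroup (Fin 2) F)) : IsCyclic (R : Subgroup (Matrix.SpecialLinearGroup (Fin 2) F)) := by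
  have hrP : r.Prime := Fact.out
  have hpP : p.Prime := Fact.out
  obtain ⟨k, hk1, hk⟩ := exists_card_eq (F := F) p
  have hrq : ¬ r ∣ Fintype.card F := by
    rw [hk]
    intro h
    exact hrp ((Nat.prime_dvd_prime_iff_eq hrP hpP).mp (hrP.dvd_of_dvd_pow h))
  have hq2 : 2 ≤ Fintype.card F := Fintype.one_lt_card
  by_cases h : r ∣ Fintype.card F + 1
  · -- non-split torus
    have hr1 : ¬ r ∣ Fintype.card F - 1 := by
      intro h1
      have h2 : r ∣ (Fintype.card F + 1) - (Fintype.card F - 1) := Nat.dvd_sub h h1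
      have e : (Fintype.card F + 1) - (Fintype.card F - 1) = 2 := by omega
      rw [e] at h2
      exact hr ((Nat.prime_dvd_prime_iff_eq hrP Nat.prime_two).mp h2)
    exact sylow_isCyclic_of_subgroup (nonsplitHom (F := F) p).range
      (not_dvd_index_nonsplit p hrP hrq hr1) R
  · -- split torus
    refine sylow_isCyclic_of_subgroup (torusHom F).range ?_ R
    rw [index_torus]
    intro hdvd
    rcases (Nat.Prime.dvd_mul hrP).mp hdvd with h' | h'
    · exact hrq h'
    · exact h h'

end Cfsg.Agent.S0262
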