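import Mathlib
import Cfsg.Statements.S2117
import Cfsg.Agent.Helper3.StemC
import Cfsg.Agent.Helper3.Schur
import Cfsg.Agent.S0261
import Cfsg.Agent.S0262
-- import your own Cfsg.Agent.* helpers here

set_option autoImplicit false
open Cfsg

namespace Cfsg.Agent.S2117

open Cfsg.Agent.Helper3 Cfsg.Agent.Helper3.Stem Cfsg.Agent.Helper5.SLB

/-- For every prime `s` there is a good subgroup of `SL₂(q)` of index prime to `s`. -/
theorem exists_good {F : Type*} [Field F] [Fintype F] (h4 : Fintype.card F ≠ 4)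
    (h9 : Fintype.card F ≠ 9) {Γ : Type*} [Group Γ]
    (σ : Γ →* Matrix.SpecialLinearGroup (Fin 2) F)
    (hcen : σ.ker ≤ Subgroup.center Γ) (hsurj : Function.Surjective σ) (s : ℕ) (hs : s.Prime) :
    ∃ U : Subgroup (Matrix.SpecialLinearGroup (Fin 2) F), ¬ s ∣ U.index ∧ Good σ U := by
  obtain ⟨p, hchar⟩ := CharP.exists F
  have hp : p.Prime := CharP.char_is_prime F p
  have : Fact p.Prime := ⟨hp⟩
  have : Fact s.Prime := ⟨hs⟩
  by_cases hsp : s = p
  · subst hsp
    exact ⟨unip F, not_dvd_index_unip s, good_unip h4 h9 σ hcen hsurj⟩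
  by_cases hs2 : s = 2
  · subst hs2
    have hodd : Odd (Fintype.card F) := by
      obtain ⟨n, -, hcard⟩ := FiniteField.card F p
      rw [hcard]
      apply Odd.pow
      rcases hp.eq_two_or_odd' with h | h
      · exact absurd h.symm hsp
      · exact h
    let P : Sylow 2 (Matrix.SpecialLinearGroup (Fin 2) F) := default
    obtain ⟨k, -, ⟨e⟩⟩ := Cfsg.Agent.S0261.result hodd P
    exact ⟨P, P.not_dvd_index, good_of_quaternion σ hcen hsurj _ e⟩
  · let P : Sylow s (Matrix.SpecialLinearGroup (Fin 2) F) := default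
    have : IsCyclic (P : Subgroup (Matrix.SpecialLinearGroup (Fin 2) F)) :=
      Cfsg.Agent.S0262.result p s hs2 hsp P
    exact ⟨P, P.not_dvd_index, good_of_isCyclic σ hcen hsurj _⟩

theorem ker_eq_bot {F : Type*} [Field F] [Fintype F] (h4 : Fintype.card F ≠ 4)
    (h9 : Fintype.card F ≠ 9) {Γ : Type*} [Group Γ] [Finite Γ]
    (σ : Γ →* Matrix.SpecialLinearGroup (Fin 2) F) (hσ : Cfsg.IsStemExtension σ) :
    σ.ker = ⊥ := by
  by_contra hne
  obtain ⟨z, hz, hz1⟩ : ∃ z ∈ σ.ker, z ≠ 1 := by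
    by_contra hcon
    push Not at hcon
    apply hne
    rw [eq_bot_iff]
    intro x hx
    rw [Subgroup.mem_bot]
    exact hcon x hx
  have hord : orderOf z ≠ 1 := by
    rw [Ne, orderOf_eq_one_iff]; exact hz1
  obtain ⟨s, hs, hsd⟩ := Nat.exists_prime_and_dvd hord
  obtain ⟨U, hU1, hU2⟩ := exists_good h4 h9 σ hσ.2.1 hσ.1 s hs
  have h1 := pow_index_eq_one_of_good σ hσ U hU2 z hz
  exact hU1 (hsd.trans (orderOf_dvd_of_pow_eq_one h1))

/-- For a finite field with q elements, q ≠ 4 and q ≠ 9, the special linear group SL₂ has trivial Schur multiplier (here the Schur multiplier is described through stem extensions, as in the definitions). -/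
theorem result {F : Type*} [Field F] [Fintype F] (h4 : Fintype.card F ≠ 4) (h9 : Fintype.card F ≠ 9) : Cfsg.HasCyclicSchurMultiplier (Matrix.SpecialLinearGroup (Fin 2) F) 1 := by
  apply hasCyclicSchurMultiplier_one_of
  intro Γ _ _ σ hσ
  exact ker_eq_bot h4 h9 σ hσ


end Cfsg.Agent.S2117
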