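import Cfsg.Statements.S1054
import Cfsg.Agent.Helper7.ChevGood3
import Cfsg.Agent.Helper7.ChevT5
import Cfsg.Agent.Helper7.ChevT6
import Cfsg.Agent.Helper7.ChevT7
import Cfsg.Agent.Helper7.ChevT9
import Cfsg.Agent.Helper7.ChevT11
import Cfsg.Agent.Helper7.ChevT13
import Cfsg.Agent.Helper7.ChevW0All

set_option autoImplicit false
open Cfsg

namespace Cfsg.Agent.S1054

/-- The Chevalley groups of types D₄, F₄, E₆, E₇, E₈ are simple over every field. -/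
theorem result {F : Type*} [Field F] (D : Cfsg.Lie.ChevalleyDatum)
    (hD : D ∈ [Cfsg.Lie.chevD4, Cfsg.Lie.chevF4, Cfsg.Lie.chevE6, Cfsg.Lie.chevE7, Cfsg.Lie.chevE8]) :
    IsSimpleGroup ↥(D.group F) ∧ ¬ IsMulCommutative ↥(D.group F) := by
  simp only [List.mem_cons, List.not_mem_nil, or_false] at hD
  rcases hD with rfl | rfl | rfl | rfl | rfl
  · exact Cfsg.Agent.Helper7.Chev.isSimpleGroup_of_perfect Cfsg.Agent.Helper7.Chev.good3_D4.toGood2 Cfsg.Agent.Helper7.Chev.T0_D4 Cfsg.Agent.Helper7.Chev.good3_D4.t3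
      Cfsg.Agent.Helper7.Chev.good3_D4.t4 Cfsg.Agent.Helper7.Chev.T5_D4 Cfsg.Agent.Helper7.Chev.T6_D4 Cfsg.Agent.Helper7.Chev.T8_D4 Cfsg.Agent.Helper7.Chev.T9_D4 Cfsg.Agent.Helper7.Chev.T13_D4 Cfsg.Agent.Helper7.Chev.W0_D4
      (Cfsg.Agent.Helper7.Chev.perfect_of_T11 Cfsg.Agent.Helper7.Chev.good3_D4.toGood2
        (fun r s hr hs hsr hsn => Cfsg.Agent.Helper7.Chev.good3_D4.comm hr hs hsr hsn) Cfsg.Agent.Helper7.Chev.T11_D4)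
  · exact Cfsg.Agent.Helper7.Chev.isSimpleGroup_of_perfect Cfsg.Agent.Helper7.Chev.good3_F4.toGood2 Cfsg.Agent.Helper7.Chev.T0_F4 Cfsg.Agent.Helper7.Chev.good3_F4.t3
      Cfsg.Agent.Helper7.Chev.good3_F4.t4 Cfsg.Agent.Helper7.Chev.T5_F4 Cfsg.Agent.Helper7.Chev.T6_F4 Cfsg.Agent.Helper7.Chev.T8_F4 Cfsg.Agent.Helper7.Chev.T9_F4 Cfsg.Agent.Helper7.Chev.T13_F4 Cfsg.Agent.Helper7.Chev.W0_F4
      (Cfsg.Agent.Helper7.Chev.perfect_of_T11 Cfsg.Agent.Helper7.Chev.good3_F4.toGood2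
        (fun r s hr hs hsr hsn => Cfsg.Agent.Helper7.Chev.good3_F4.comm hr hs hsr hsn) Cfsg.Agent.Helper7.Chev.T11_F4)
  · exact Cfsg.Agent.Helper7.Chev.isSimpleGroup_of_perfect Cfsg.Agent.Helper7.Chev.good3_E6.toGood2 Cfsg.Agent.Helper7.Chev.T0_E6 Cfsg.Agent.Helper7.Chev.good3_E6.t3
      Cfsg.Agent.Helper7.Chev.good3_E6.t4 Cfsg.Agent.Helper7.Chev.T5_E6 Cfsg.Agent.Helper7.Chev.T6_E6 Cfsg.Agent.Helper7.Chev.T8_E6 Cfsg.Agent.Helper7.Chev.T9_E6 Cfsg.Agent.Helper7.Chev.T13_E6 Cfsg.Agent.Helper7.Chev.W0_E6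
      (Cfsg.Agent.Helper7.Chev.perfect_of_T11 Cfsg.Agent.Helper7.Chev.good3_E6.toGood2
        (fun r s hr hs hsr hsn => Cfsg.Agent.Helper7.Chev.good3_E6.comm hr hs hsr hsn) Cfsg.Agent.Helper7.Chev.T11_E6)
  · exact Cfsg.Agent.Helper7.Chev.isSimpleGroup_of_perfect Cfsg.Agent.Helper7.Chev.good3_E7.toGood2 Cfsg.Agent.Helper7.Chev.T0_E7 Cfsg.Agent.Helper7.Chev.good3_E7.t3
      Cfsg.Agent.Helper7.Chev.good3_E7.t4 Cfsg.Agent.Helper7.Chev.T5_E7 Cfsg.Agent.Helper7.Chev.T6_E7 Cfsg.Agent.Helper7.Chev.T8_E7 Cfsg.Agent.Helper7.Chev.T9_E7 Cfsg.Agent.Helper7.Chev.T13_E7 Cfsg.Agent.Helper7.Chev.W0_E7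
      (Cfsg.Agent.Helper7.Chev.perfect_of_T11 Cfsg.Agent.Helper7.Chev.good3_E7.toGood2
        (fun r s hr hs hsr hsn => Cfsg.Agent.Helper7.Chev.good3_E7.comm hr hs hsr hsn) Cfsg.Agent.Helper7.Chev.T11_E7)
  · exact Cfsg.Agent.Helper7.Chev.isSimpleGroup_of_perfect Cfsg.Agent.Helper7.Chev.good3_E8.toGood2 Cfsg.Agent.Helper7.Chev.T0_E8 Cfsg.Agent.Helper7.Chev.good3_E8.t3
      Cfsg.Agent.Helper7.Chev.good3_E8.t4 Cfsg.Agent.Helper7.Chev.T5_E8 Cfsg.Agent.Helper7.Chev.T6_E8 Cfsg.Agent.Helper7.Chev.T8_E8 Cfsg.Agent.Helper7.Chev.T9_E8 Cfsg.Agent.Helper7.Chev.T13_E8 Cfsg.Agent.Helper7.Chev.W0_E8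
      (Cfsg.Agent.Helper7.Chev.perfect_of_T11 Cfsg.Agent.Helper7.Chev.good3_E8.toGood2
        (fun r s hr hs hsr hsn => Cfsg.Agent.Helper7.Chev.good3_E8.comm hr hs hsr hsn) Cfsg.Agent.Helper7.Chev.T11_E8)

end Cfsg.Agent.S1054
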