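import Cfsg.Statements.S4717
import Mathlib
import Cfsg.Agent.Helper6.DeficiencyClassB
import Cfsg.Agent.Helper6.ThirdMain
import Cfsg.Agent.Helper6.SecondMainC
import Cfsg.Agent.Helper6.MaximalPairDefect
-- import your own Cfsg.Agent.* helpers here

set_option autoImplicit false
open Cfsg

namespace Cfsg.Agent.S4717

/-- Let p be a prime, M a maximal ideal of the algebraic integers containing p, and r a natural number; say that a finite group X has deficiency class r when X has no non-principal p-block of defect ≥ r. If G has deficiency class r then so does the centralizer of every p-element of G; conversely, if r > 0 and the centralizer of every element of order p has deficiency class r, then G has deficiency class r. -/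
theorem result {G : Type*} [Group G] [Finite G] (p : ℕ) [Fact p.Prime] (M : Ideal Cfsg.AlgInt) (hM : Cfsg.IsPModular p M) (r : ℕ) : ((∀ B' : Set (Cfsg.IrrCharacter G), Cfsg.IsPBlock M B' → B' ≠ Cfsg.principalBlock M G → Cfsg.blockDefect p B' < r) → ∀ y : G, (∃ k : ℕ, orderOf y = p ^ k) → (∀ B' : Set (Cfsg.IrrCharacter ↥(Subgroup.centralizer ({y} : Set G))), Cfsg.IsPBlock M B' → B' ≠ Cfsg.principalBlock M ↥(Subgroup.centralizer ({y} : Set G)) → Cfsg.blockDefect p B' < r)) ∧ (0 < r → (∀ y : G, orderOf y = p → (∀ B' : Set (Cfsg.IrrCharacter ↥(Subgroup.centralizer ({y} : Set G))), Cfsg.IsPBlock M B' → B' ≠ Cfsg.principalBlock M ↥(Subgroup.centralizer ({y} : Set G)) → Cfsg.blockDefect p B' < r)) → (∀ B' : Set (Cfsg.IrrCharacter G), Cfsg.IsPBlock M B' → B' ≠ Cfsg.principalBlock M G → Cfsg.blockDefect p B' < r)) := by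
  have hMm := hM.2.1
  constructor
  · intro hG y hy b' hb' hne
    obtain ⟨B, hind⟩ := Helper6.inducedBlockDefined_centralizer hM y hy b' hb'
    have hBne : B ≠ Cfsg.principalBlock M G := by
      rintro rfl
      exact hne ((Helper6.third_main hM _ b' ⟨_, hind⟩).mp hind)
    have h1 := hG B hind.2.1 hBne
    have h2 := Helper6.blockDefect_le_of_induced hM _ b' B hind
    omega
  · intro hr hC B' hB' hne
    by_contra hcon
    have hle : r ≤ Cfsg.blockDefect p B' := not_lt.mp hcon
    have hdef : Cfsg.blockDefect p B' ≠ 0 := by omega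
    obtain ⟨y, hy, b, hind, hdb⟩ := Helper6.exists_induced_block_defect_ge hM B' hB' hdef
    have hbne : b ≠ Cfsg.principalBlock M ↥(Subgroup.centralizer ({y} : Set G)) := by
      rintro rfl
      have h3 := (Helper6.third_main hM (Subgroup.centralizer ({y} : Set G))
        (Cfsg.principalBlock M ↥(Subgroup.centralizer ({y} : Set G))) ⟨_, hind⟩).mpr rfl
      exact hne (Helper6.isInducedBlock_unique hMm _ _ _ _ hind h3)
    have h4 := hC y hy b hind.1 hbne
    omega

end Cfsg.Agent.S4717
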