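import Mathlib
import Cfsg.Statements.S2157
import Cfsg.Agent.Helper8.ChevChain

set_option autoImplicit false
open Cfsg

namespace Cfsg.Agent.S2157

open Cfsg.Lie Cfsg.Agent.Helper7 Cfsg.Agent.Helper8.ChevChain

/-- In a Chevalley group of type G₂, B₂, D₄, F₄, E₆, E₇ or E₈, for every character `χ` of the root lattice with values in `Fˣ` the diagonal matrix `ĥ(χ)` (identity on the coroot coordinates, `χ(s)` on the coordinate of `e_s`) conjugates each root element `x_r(t)` to `x_r(χ(r) t)`: `ĥ(χ) x_r(t) ĥ(χ)⁻¹ = x_r(χ(r) t)` as matrices, with `ĥ(χ)⁻¹` written as `ĥ(χ⁻¹)`. -/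
theorem result {F : Type*} [Field F] (D : Cfsg.Lie.ChevalleyDatum) (hD : D ∈ [Cfsg.Lie.chevG2, Cfsg.Lie.chevB2, Cfsg.Lie.chevD4, Cfsg.Lie.chevF4, Cfsg.Lie.chevE6, Cfsg.Lie.chevE7, Cfsg.Lie.chevE8]) (χ : ℕ → Fˣ) (hχ : D.IsRootCharacter χ) (r : ℕ) (hr : r < D.nroots) (t : F) :
    D.charDiag F χ * D.x F r t * D.charDiag F (fun s => (χ s)⁻¹) = D.x F r ((χ r : F) * t) := by
  have hOK := chainOK_of D hD
  obtain ⟨hn1, hn2⟩ := neg_ok D hD r hr
  have hχneg : χ (D.negIdx.getD r 0) = (χ r)⁻¹ := hχ.1 r hr
  rw [x_of_lt D F hr, x_of_lt D F hr]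
  ext row col
  unfold Cfsg.Lie.ChevalleyDatum.charDiag
  rw [Matrix.mul_diagonal, Matrix.diagonal_mul]
  simp only [Cfsg.Lie.ChevalleyDatum.xMat, Matrix.of_apply]
  rcases col with i | s
  · rcases row with i' | u
    · simp only [Sum.elim_inl]; ring
    · simp only [Sum.elim_inl, Sum.elim_inr]
      split_ifs with h
      · rw [h]; ring
      · ring
  · simp only [Sum.elim_inr]
    split_ifs with h1 h2
    · subst h1
      rcases row with i' | u
      · simp
      · simp only [Sum.elim_inr]
        split_ifs with h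
        · rw [h]
          simp
        · ring
    · have hs : χ s.val = (χ r)⁻¹ := by rw [h2]; exact hχneg
      rcases row with i' | u
      · simp only [Sum.elim_inl]
        rw [hs, inv_inv]; ring
      · simp only [Sum.elim_inr]
        split_ifs with h3 h4
        · rw [h3]; simp
        · rw [h4, hs, inv_inv]; simp only []; ring
        · ring
    · rcases row with i' | u
      · simp
      · simp only [Sum.elim_inr]
        have hsum : (χ u.val : F) *
            ((D.chainCoeff r s.val u.val).map fun km => ((km.2 : ℤ) : F) * t ^ km.1).sum *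
              (((χ s.val)⁻¹ : Fˣ) : F) =
            ((D.chainCoeff r s.val u.val).map fun km =>
              ((km.2 : ℤ) : F) * ((χ r : F) * t) ^ km.1).sum := by
          rw [← List.sum_map_mul_left, ← List.sum_map_mul_right]
          congr 1
          apply List.map_congr_left
          intro km hkm
          have := char_chainCoeff D hOK χ hχ hr s.val u.val km hkm
          rw [this, Units.val_mul, Units.val_pow_eq_pow_val, mul_pow]
          have hs0 : ((χ s.val : Fˣ) : F) * (((χ s.val)⁻¹ : Fˣ) : F) = 1 := by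
            rw [← Units.val_mul, mul_inv_cancel, Units.val_one]
          linear_combination ((χ r : F) ^ km.1 * ((km.2 : ℤ) : F) * t ^ km.1) * hs0
        rw [mul_add, add_mul, hsum]
        congr 1
        split_ifs with h
        · rw [h, mul_one, ← Units.val_mul, mul_inv_cancel, Units.val_one]
        · ring

end Cfsg.Agent.S2157
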