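import Cfsg.Statements.S1079
import Cfsg.Agent.Helper7.StEmbE
import Cfsg.Agent.Helper7.StEmbE6
import Cfsg.Agent.Helper7.StEmbE7
import Cfsg.Agent.Helper7.ChevT21
import Cfsg.Agent.Helper7.ChevT17
import Cfsg.Agent.Helper7.StCertAll

set_option autoImplicit false
open Cfsg

namespace Cfsg.Agent.S1079

open Cfsg.Agent.Helper7 Cfsg.Agent.Helper7.Chev Cfsg.Agent.Helper7.St in
/-- `|Z(Ḡ)| = gcd(3, q-1)` for E₆ and `gcd(2, q-1)` for E₇ over a field with `q` elements (the centre is dual to the weight lattice modulo the root lattice). -/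
theorem result {K : Type*} [Field K] [Fintype K] {q : ℕ} (hq : Fintype.card K = q)
    (p : Cfsg.Lie.ChevalleyDatum × ℕ) (hp : p ∈ [(Cfsg.Lie.chevE6, 3), (Cfsg.Lie.chevE7, 2)]) :
    Nat.card (Subgroup.center (p.1.SteinbergGroup K)) = Nat.gcd p.2 (q - 1) := by
  simp only [List.mem_cons, List.not_mem_nil, or_false] at hp
  rcases hp with rfl | rfl
  · have h6 : Cfsg.Lie.chevE6 ∈ [Cfsg.Lie.chevG2, Cfsg.Lie.chevB2, Cfsg.Lie.chevD4,
        Cfsg.Lie.chevF4, Cfsg.Lie.chevE6, Cfsg.Lie.chevE7, Cfsg.Lie.chevE8] := by simp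
    have h8 : Cfsg.Lie.chevE8 ∈ [Cfsg.Lie.chevG2, Cfsg.Lie.chevB2, Cfsg.Lie.chevD4,
        Cfsg.Lie.chevF4, Cfsg.Lie.chevE6, Cfsg.Lie.chevE7, Cfsg.Lie.chevE8] := by simp
    change Nat.card (Subgroup.center (Cfsg.Lie.chevE6.SteinbergGroup K)) = Nat.gcd 3 (q - 1)
    rw [card_center_of_emb (K := K) h6 h8 emb_E6 emb_simple_E6 (by decide) T17_E8 (by decide) rfl
      CoxeterMatrix.E₆ CoxE6.hm T21_E6 T38_E6,
      card_ker_torusHom (good1_of_mem _ h6) T17_E6, hq]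
    change ∏ i : Fin 6, (q - 1).gcd (t17d_E6 i.val) = Nat.gcd 3 (q - 1)
    simp [Fin.prod_univ_succ, t17d_E6, Nat.gcd_comm]
  · have h7 : Cfsg.Lie.chevE7 ∈ [Cfsg.Lie.chevG2, Cfsg.Lie.chevB2, Cfsg.Lie.chevD4,
        Cfsg.Lie.chevF4, Cfsg.Lie.chevE6, Cfsg.Lie.chevE7, Cfsg.Lie.chevE8] := by simp
    have h8 : Cfsg.Lie.chevE8 ∈ [Cfsg.Lie.chevG2, Cfsg.Lie.chevB2, Cfsg.Lie.chevD4,
        Cfsg.Lie.chevF4, Cfsg.Lie.chevE6, Cfsg.Lie.chevE7, Cfsg.Lie.chevE8] := by simp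
    change Nat.card (Subgroup.center (Cfsg.Lie.chevE7.SteinbergGroup K)) = Nat.gcd 2 (q - 1)
    rw [card_center_of_emb (K := K) h7 h8 emb_E7 emb_simple_E7 (by decide) T17_E8 (by decide) rfl
      CoxeterMatrix.E₇ CoxE7.hm T21_E7 T38_E7,
      card_ker_torusHom (good1_of_mem _ h7) T17_E7, hq]
    change ∏ i : Fin 7, (q - 1).gcd (t17d_E7 i.val) = Nat.gcd 2 (q - 1)
    simp [Fin.prod_univ_succ, t17d_E7, Nat.gcd_comm]

end Cfsg.Agent.S1079
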