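import Cfsg.Statements.S0334
import Cfsg.Agent.Helper7.SzGroup

set_option autoImplicit false
open Cfsg

namespace Cfsg.Agent.S0334

open Cfsg.Agent.Helper7.Sz Matrix

variable {F : Type*} [Field F]

/-- Preserving the form. -/
def Pres (M : Matrix (Fin 4) (Fin 4) F) : Prop := M.transpose * Cfsg.suzukiForm F * M = Cfsg.suzukiForm F

theorem Pres.mul {A B : Matrix (Fin 4) (Fin 4) F} (hA : Pres A) (hB : Pres B) : Pres (A * B) := by
  unfold Pres at *
  rw [Matrix.transpose_mul]
  calc B.transpose * A.transpose * Cfsg.suzukiForm F * (A * B)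
      = B.transpose * (A.transpose * Cfsg.suzukiForm F * A) * B := by
        simp only [Matrix.mul_assoc]
    _ = Cfsg.suzukiForm F := by rw [hA, hB]

theorem pres_Wmat : Pres (Wmat : Matrix (Fin 4) (Fin 4) F) := by
  unfold Pres Cfsg.suzukiForm Wmat
  ext i j
  fin_cases i <;> fin_cases j <;> simp [Matrix.mul_apply, Fin.sum_univ_four]

theorem pres_Hmat (m : ℕ) {t : F} (ht : t ≠ 0) : Pres (Hmat m t) := by
  have hs : sg m t ≠ 0 := sg_ne_zero ht
  unfold Pres Cfsg.suzukiForm Hmat
  ext i j
  fin_cases i <;> fin_cases j <;> simp [Matrix.mul_apply, Fin.sum_univ_four] <;> field_simp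

theorem pres_Tmat [Fintype F] {m : ℕ} (h : FH F m) (a b : F) : Pres (Tmat m a b) := by
  have h2 := h.two_eq_zero
  unfold Pres Cfsg.suzukiForm Tmat
  ext i j
  fin_cases i <;> fin_cases j <;> simp [Matrix.mul_apply, Fin.sum_univ_four] <;>
    first
    | ring1
    | linear_combination a * h2
    | linear_combination sg m a * h2
    | linear_combination (b + a * sg m a) * h2
    | linear_combination (2 * a * b + sg m a * (a * a) + sg m b) * h2

/-- Every element of the Suzuki group preserves the alternating form with antidiagonal matrix: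
`gᵀ J g = J`. Hence the Suzuki group is a subgroup of a 4-dimensional symplectic group. -/
theorem result {F : Type*} [Field F] [Fintype F] {m : ℕ} (hm : 1 ≤ m)
    (hF : Fintype.card F = 2 ^ (2 * m + 1)) {g : Matrix.SpecialLinearGroup (Fin 4) F}
    (hg : g ∈ Cfsg.Sz F m) :
    (g : Matrix (Fin 4) (Fin 4) F).transpose * Cfsg.suzukiForm F * (g : Matrix (Fin 4) (Fin 4) F) =
      Cfsg.suzukiForm F := by
  have h : FH F m := ⟨hm, hF⟩
  show Pres (g : Matrix (Fin 4) (Fin 4) F)
  rcases eq_prod h hg with ⟨a, b, t, ht, e⟩ | ⟨a, b, a', b', t, ht, e⟩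
  · rw [e]
    exact (pres_Tmat h a b).mul (pres_Hmat m ht)
  · rw [e]
    exact ((pres_Tmat h a b).mul pres_Wmat).mul ((pres_Tmat h a' b').mul (pres_Hmat m ht))

end Cfsg.Agent.S0334
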