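import Cfsg.Statements.S0331
import Cfsg.Agent.Helper7.SzFix
import Cfsg.Agent.Helper7.IrredPrime

set_option autoImplicit false
open Cfsg

namespace Cfsg.Agent.S0331

open Cfsg.Agent.Helper7.Sz Cfsg.Agent.Helper7 MulAction

variable {F : Type*} [Field F] [Fintype F] {m : ℕ}

/-- The matrix of an element. -/
def matHom (P : Subgroup (Cfsg.Sz F m)) : P →* Matrix (Fin 4) (Fin 4) F where
  toFun y := ((y : Cfsg.Sz F m) : Matrix.SpecialLinearGroup (Fin 4) F).1
  map_one' := rfl
  map_mul' _ _ := rfl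

omit [Fintype F] in
theorem matHom_injective (P : Subgroup (Cfsg.Sz F m)) : Function.Injective (matHom P) := by
  intro a b hab
  apply Subtype.ext
  apply Subtype.ext
  apply Subtype.ext
  exact hab

/-- For every odd prime `p` the Sylow `p`-subgroups of the Suzuki group are cyclic. -/
theorem result {F : Type*} [Field F] [Fintype F] {m : ℕ} (hm : 1 ≤ m)
    (hF : Fintype.card F = 2 ^ (2 * m + 1)) {p : ℕ} [Fact p.Prime] (hp : p ≠ 2)
    (P : Sylow p (Cfsg.Sz F m)) : IsCyclic P := by
  have h : FH F m := ⟨hm, hF⟩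
  have hpr : p.Prime := Fact.out
  by_cases hd : p ∣ Fintype.card F ^ 2 + 1
  · -- the torus case
    by_cases hnt : Nontrivial (P : Subgroup (Cfsg.Sz F m))
    · have hcn : Nontrivial (Subgroup.center (P : Subgroup (Cfsg.Sz F m))) :=
        IsPGroup.center_nontrivial P.isPGroup'
      obtain ⟨⟨z, hz⟩, hz1⟩ := exists_ne (1 : Subgroup.center (P : Subgroup (Cfsg.Sz F m)))
      have hz1' : z ≠ 1 := fun e => hz1 (Subtype.ext e)
      obtain ⟨k, hk⟩ := P.isPGroup' z
      have hyp : IrredPrime.Hyp (matHom (P : Subgroup (Cfsg.Sz F m)) z) p := by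
        refine ⟨hpr, hp, hd, ⟨k, ?_⟩, ?_⟩
        · rw [← map_pow, hk, map_one]
        · intro e
          apply hz1'
          apply matHom_injective
          rw [e, map_one]
      apply hyp.isCyclic (matHom (P : Subgroup (Cfsg.Sz F m))) (matHom_injective _)
      intro y
      rw [← map_mul, ← map_mul]
      congr 1
      exact Subgroup.mem_center_iff.1 hz y
    · rw [not_nontrivial_iff_subsingleton] at hnt
      exact isCyclic_of_subsingleton
  · -- the case of a fixed point
    have hcard : Nat.card (Cfsg.suzukiOvoid F m) = Fintype.card F ^ 2 + 1 := Cfsg.Agent.S0326.result m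
    have hfin : Finite (Cfsg.suzukiOvoid F m) := (ovoid_finite m).to_subtype
    obtain ⟨ω, hω⟩ := P.isPGroup'.nonempty_fixed_point_of_prime_not_dvd_card (Cfsg.suzukiOvoid F m)
      (by rw [hcard]; exact hd)
    obtain ⟨c, hc, hcω⟩ := exists_smul_Pinf_eq h ω.2
    -- the conjugate fixes the point at infinity
    have hfix : ∀ y : (P : Subgroup (Cfsg.Sz F m)),
        (c⁻¹ * ((y : Cfsg.Sz F m) : Matrix.SpecialLinearGroup (Fin 4) F) * c) •
          (Pinf : Projectivization F (Fin 4 → F)) = Pinf := by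
      intro y
      have h1 : (y : Cfsg.Sz F m) • ω = ω := hω y
      have h2 : ((y : Cfsg.Sz F m) : Matrix.SpecialLinearGroup (Fin 4) F) •
          (ω : Projectivization F (Fin 4 → F)) = ω := congrArg Subtype.val h1
      rw [mul_smul, mul_smul, hcω, h2, ← hcω, inv_smul_smul]
    have hmemS : ∀ y : (P : Subgroup (Cfsg.Sz F m)),
        c⁻¹ * ((y : Cfsg.Sz F m) : Matrix.SpecialLinearGroup (Fin 4) F) * c ∈ Cfsg.Sz F m := by
      intro y
      exact Subgroup.mul_mem _ (Subgroup.mul_mem _ (Subgroup.inv_mem _ hc) y.1.2) hc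
    let ψ : (P : Subgroup (Cfsg.Sz F m)) →* F :=
      { toFun := fun y => (c⁻¹ * ((y : Cfsg.Sz F m) : Matrix.SpecialLinearGroup (Fin 4) F) * c).1 0 0
        map_one' := by
          show (c⁻¹ * (1 : Matrix.SpecialLinearGroup (Fin 4) F) * c).1 0 0 = 1
          rw [mul_one, inv_mul_cancel]
          simp
        map_mul' := by
          intro y y'
          have e : c⁻¹ * (((y * y' : (P : Subgroup (Cfsg.Sz F m))) : Cfsg.Sz F m) :
              Matrix.SpecialLinearGroup (Fin 4) F) * c =
              (c⁻¹ * ((y : Cfsg.Sz F m) : Matrix.SpecialLinearGroup (Fin 4) F) * c) *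
                (c⁻¹ * ((y' : Cfsg.Sz F m) : Matrix.SpecialLinearGroup (Fin 4) F) * c) := by
            rw [Subgroup.coe_mul, Subgroup.coe_mul]
            group
          show (c⁻¹ * (((y * y' : (P : Subgroup (Cfsg.Sz F m))) : Cfsg.Sz F m) :
              Matrix.SpecialLinearGroup (Fin 4) F) * c).1 0 0 = _
          rw [e, Matrix.SpecialLinearGroup.coe_mul]
          exact mul_entry (fun k hk => entry_of_fix (hfix y') hk) }
    have hψ : ∀ y, ψ y = (c⁻¹ * ((y : Cfsg.Sz F m) : Matrix.SpecialLinearGroup (Fin 4) F) * c).1 0 0 :=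
      fun _ => rfl
    apply isCyclic_of_injective_ringHom ψ
    rw [injective_iff_map_eq_one]
    intro y hy
    rw [hψ] at hy
    obtain ⟨a, b, t, ht, e⟩ := eq_Tel_mul_Hel h (hmemS y) (hfix y)
    have e1 : (c⁻¹ * ((y : Cfsg.Sz F m) : Matrix.SpecialLinearGroup (Fin 4) F) * c).1 =
        Tmat m a b * Hmat m t := by
      rw [e]
      rfl
    rw [e1, Tmat_mul_Hmat_entry] at hy
    have ht1 : t = 1 := h.eq_one_of_sg_mul_self (by rw [mul_comm]; exact hy)
    subst ht1
    rw [Hel_one, mul_one] at e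
    -- the fourth power
    have e4 : ((y : Cfsg.Sz F m) : Matrix.SpecialLinearGroup (Fin 4) F) ^ 4 = 1 := by
      have : ((y : Cfsg.Sz F m) : Matrix.SpecialLinearGroup (Fin 4) F) = c * Tel m a b * c⁻¹ := by
        rw [← e]
        group
      rw [this, conj_pow, Tel_pow_four h]
      group
    have e4' : y ^ 4 = 1 := by
      apply Subtype.ext
      apply Subtype.ext
      rw [Subgroup.coe_pow, Subgroup.coe_pow]
      exact e4
    obtain ⟨k, hk⟩ := P.isPGroup' y
    have h1 : orderOf y ∣ 4 := orderOf_dvd_of_pow_eq_one e4'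
    have h2 : orderOf y ∣ p ^ k := orderOf_dvd_of_pow_eq_one hk
    have hcop : Nat.Coprime 4 (p ^ k) := by
      apply Nat.Coprime.pow_right
      have : Nat.Coprime 2 p := (Nat.coprime_primes Nat.prime_two hpr).2 (Ne.symm hp)
      exact Nat.Coprime.pow_left 2 this
    have h3 : orderOf y ∣ 1 := by
      have := Nat.dvd_gcd h1 h2
      rwa [hcop] at this
    exact orderOf_eq_one_iff.1 (Nat.dvd_one.1 h3)

end Cfsg.Agent.S0331
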