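import Cfsg.Statements.S0330
import Cfsg.Agent.Helper7.SzSylow

set_option autoImplicit false
open Cfsg

namespace Cfsg.Agent.S0330

open Cfsg.Agent.Helper7.Sz

/-- The `2`-part of the order. -/
theorem factorization_two (m : ℕ) :
    ((2 ^ (2 * m + 1)) * ((2 ^ (2 * m + 1)) * (2 ^ (2 * m + 1) - 1)) *
      ((2 ^ (2 * m + 1)) ^ 2 + 1)).factorization 2 = 2 * (2 * m + 1) := by
  set q := 2 ^ (2 * m + 1) with hq
  have hq2 : q = 2 * 2 ^ (2 * m) := by rw [hq, pow_succ, mul_comm]
  have hpos : 0 < 2 ^ (2 * m) := by positivity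
  have hq0 : q ≠ 0 := by omega
  have hr1 : ¬ 2 ∣ q - 1 := by omega
  have hr2 : ¬ 2 ∣ q ^ 2 + 1 := by
    rw [hq2]
    intro hd
    have : 2 ∣ (2 * 2 ^ (2 * m)) ^ 2 := Dvd.dvd.pow (dvd_mul_right 2 _) (by norm_num)
    have := (Nat.dvd_add_right this).1 hd
    omega
  have e : q * (q * (q - 1)) * (q ^ 2 + 1) = 2 ^ (2 * (2 * m + 1)) * ((q - 1) * (q ^ 2 + 1)) := by
    rw [pow_mul' 2 2, ← hq]
    ring
  have hr : ¬ 2 ∣ (q - 1) * (q ^ 2 + 1) := by
    intro hd
    rcases (Nat.Prime.dvd_mul Nat.prime_two).1 hd with h1 | h1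
    · exact hr1 h1
    · exact hr2 h1
  have hr0 : (q - 1) * (q ^ 2 + 1) ≠ 0 := by
    intro e0
    apply hr
    rw [e0]
    exact dvd_zero 2
  rw [e, Nat.factorization_mul (by positivity) hr0, Nat.Prime.factorization_pow Nat.prime_two,
    Finsupp.add_apply, Finsupp.single_eq_same, Nat.factorization_eq_zero_of_not_dvd hr, add_zero]

/-- A Sylow 2-subgroup `P` of the Suzuki group (field with `q = 2^(2m+1)` elements, `m ≥ 1`) has order
`q²` and exponent `4`; its centre coincides with its commutator subgroup and has order `q`. -/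
theorem result {F : Type*} [Field F] [Fintype F] {m : ℕ} (hm : 1 ≤ m)
    (hF : Fintype.card F = 2 ^ (2 * m + 1)) (P : Sylow 2 (Cfsg.Sz F m)) :
    Nat.card P = (2 ^ (2 * m + 1)) ^ 2 ∧ Monoid.exponent P = 4 ∧
      Subgroup.center P = commutator P ∧ Nat.card (Subgroup.center P) = 2 ^ (2 * m + 1) := by
  have h : FH F m := ⟨hm, hF⟩
  -- the standard Sylow subgroup
  let U : Subgroup (Cfsg.Sz F m) :=
    { carrier := {x | ∃ a b : F, x = TelS h a b}
      mul_mem' := by
        rintro x y ⟨a, b, rfl⟩ ⟨c, d, rfl⟩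
        exact ⟨a + c, b + d + sg m a * c, Subtype.ext (Tel_mul h a b c d)⟩
      one_mem' := ⟨0, 0, Subtype.ext Tel_zero.symm⟩
      inv_mem' := by
        rintro x ⟨a, b, rfl⟩
        exact ⟨a, b + sg m a * a, Subtype.ext (Tel_inv h a b)⟩ }
  let τU : F × F → U := fun x => ⟨TelS h x.1 x.2, ⟨x.1, x.2, rfl⟩⟩
  have hτU : Function.Bijective τU := by
    constructor
    · rintro ⟨a, b⟩ ⟨c, d⟩ e
      have e1 : Tel m a b = Tel m c d :=
        congrArg (fun z : U => ((z : Cfsg.Sz F m) : Matrix.SpecialLinearGroup (Fin 4) F)) e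
      obtain ⟨rfl, rfl⟩ := Tel_injective e1
      rfl
    · rintro ⟨x, a, b, rfl⟩
      exact ⟨(a, b), rfl⟩
  have hlawU : SuzLaw m τU := by
    intro a b c d
    apply Subtype.ext
    apply Subtype.ext
    exact Tel_mul h a b c d
  have hcardU : Nat.card U = 2 ^ (Nat.card (Cfsg.Sz F m)).factorization 2 := by
    rw [← Nat.card_eq_of_bijective τU hτU, card_Sz h, Nat.card_prod, Nat.card_eq_fintype_card,
      hF, factorization_two, pow_mul' 2 2, pow_two]
  have : Fact (Nat.Prime 2) := ⟨Nat.prime_two⟩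
  let PU : Sylow 2 (Cfsg.Sz F m) := Sylow.ofCard U hcardU
  let e : U ≃* P := Sylow.equiv PU P
  let τ : F × F → P := fun x => e (τU x)
  have hτ : Function.Bijective τ := e.bijective.comp hτU
  have hlaw : SuzLaw m τ := by
    intro a b c d
    show e (τU (a, b)) * e (τU (c, d)) = e (τU (a + c, b + d + sg m a * c))
    rw [← map_mul, hlawU]
  have key := hlaw.structure h hτ
  rw [hF] at key
  exact key

end Cfsg.Agent.S0330
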