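import Cfsg.Statements.S0338
import Cfsg.Agent.Helper7.ZassOdd

set_option autoImplicit false
open Cfsg

namespace Cfsg.Agent.S0338

open Cfsg.Agent.Helper7.Zass

/-- A Zassenhaus group of odd degree is a simple group. -/
theorem result {G Ω : Type*} [Group G] [MulAction G Ω] [Fintype Ω]
    (hZ : Cfsg.IsZassenhausGroup G Ω) (hodd : Odd (Fintype.card Ω)) : IsSimpleGroup G := by
  obtain ⟨hfaith, h2t, hp3, hfix, hnoreg⟩ := hZ
  have hZH : ZHyp G Ω :=
    { t2 := fun a b c d hab hcd => (MulAction.is_two_pretransitive_iff.1 h2t) hab hcd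
      p3 := hp3
      fix2 := hfix
      noreg := hnoreg }
  have hfin : Finite G :=
    Finite.of_injective (MulAction.toPerm : G → Equiv.Perm Ω) MulAction.toPerm_injective
  obtain ⟨g, hg1, -⟩ := hfix
  have hnt : Nontrivial G := ⟨⟨g, 1, hg1⟩⟩
  refine ⟨?_⟩
  intro N hN
  by_cases hN1 : N = ⊥
  · exact Or.inl hN1
  · exact Or.inr (eq_top_of_odd hZH hodd hN1)

end Cfsg.Agent.S0338
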