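import Cfsg.Statements.S5155
import Cfsg.Agent.S5097
import Cfsg.Agent.CSE.Largest
import Cfsg.Agent.CSE.Closed
import Cfsg.Agent.CSE.Focal
import Cfsg.Agent.CFE.Main

set_option autoImplicit false
open Cfsg

namespace Cfsg.Agent.S5155

/-- Let F be a saturated fusion system over a finite p-group S, E a normal subsystem over T, and Y the largest subgroup of C_S(T) such that E is a subsystem of the centralizer system of Y (every map of E extends to a map of F fixing Y elementwise). Then there is a normal subsystem of F over Y that is a subsystem of the centralizer system of T. -/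
theorem result {Ω : Type*} [Group Ω] {S : Subgroup Ω} [Finite S] (p : ℕ) [Fact p.Prime] (hS : IsPGroup p S) (F : Cfsg.FusionSystem S) (hF : F.IsSaturated p) {T : Subgroup Ω} (E : Cfsg.FusionSystem T) (hE : E.IsNormalIn F p) (Y : Subgroup Ω) (hY : Y ≤ Cfsg.FusionSystem.centralizerIn S T) (hEY : ∀ P : Subgroup Ω, E.Hom P ⊆ F.centralizerHom Y P) (hmax : ∀ Y' : Subgroup Ω, Y' ≤ Cfsg.FusionSystem.centralizerIn S T → (∀ P : Subgroup Ω, E.Hom P ⊆ F.centralizerHom Y' P) → Y' ≤ Y) : ∃ D : Cfsg.FusionSystem Y, D.IsNormalIn F p ∧ ∀ P : Subgroup Ω, D.Hom P ⊆ F.centralizerHom T P := by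
  have hsetup : Cfsg.Agent.CSE.Setup p F E := ⟨hS, hF, hE⟩
  have hmem := Cfsg.Agent.CSE.cse_sSup_mem p hsetup
  have hYeq : Y = sSup (Cfsg.Agent.CSE.cseY F E) :=
    le_antisymm (le_sSup ⟨hY, hEY⟩) (hmax _ hmem.1 hmem.2)
  have hTS : T ≤ S := hsetup.le
  have hCC : F.IsCentralizerSystem T (Cfsg.Agent.S5097.centSys F T hTS) := fun P => rfl
  have hYsc : F.StronglyClosed Y := by
    rw [hYeq]
    exact Cfsg.Agent.CSE.cse_stronglyClosed p hsetup
  have hfoc : (Cfsg.Agent.S5097.centSys F T hTS).focalSubgroup ≤ Y := by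
    rw [hYeq]
    exact Cfsg.Agent.CSE.cse_focal_le p hsetup _ hCC
  exact Cfsg.Agent.CFE.cfe_main p hS F hF hsetup.sc _ hCC hYsc hY
    ((Cfsg.Agent.CFE.cfe_hyperfocal_le_focal _ p).trans hfoc)

end Cfsg.Agent.S5155
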