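import Mathlib
import Cfsg.Agent.Helper5.Zsig3
import Cfsg.Statements.S2904
-- import your own Cfsg.Agent.* helpers here

set_option autoImplicit false
open Cfsg Cfsg.Agent.Helper5.Zsig

namespace Cfsg.Agent.S2904

theorem case_two (a : ℕ) (ha : 1 < a) (h2 : ¬ ∃ m : ℕ, a + 1 = 2 ^ m) :
    ∃ r : ℕ, r.Prime ∧ r ∣ a ^ 2 - 1 ∧ ∀ k : ℕ, 0 < k → k < 2 → ¬ r ∣ a ^ k - 1 := by
  have hex : ∃ r : ℕ, r.Prime ∧ r ∣ a + 1 ∧ r ≠ 2 := by
    by_contra hcon
    push Not at hcon
    apply h2
    exact ⟨_, Nat.eq_prime_pow_of_unique_prime_dvd (by omega) (fun {d} hd hdvd => hcon d hd hdvd)⟩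
  obtain ⟨r, hr, hra, hr2⟩ := hex
  refine ⟨r, hr, ?_, ?_⟩
  · have h1 : a ^ 2 - 1 = (a + 1) * (a - 1) := by
      obtain ⟨b, rfl⟩ : ∃ b, a = b + 2 := ⟨a - 2, by omega⟩
      have : (b + 2) ^ 2 = (b + 2 + 1) * (b + 2 - 1) + 1 := by
        have e : b + 2 - 1 = b + 1 := by omega
        rw [e]; ring
      omega
    rw [h1]
    exact Dvd.dvd.mul_right hra _
  · intro k hk hk2 hdvd
    have hk1 : k = 1 := by omega
    rw [hk1, pow_one] at hdvd
    have h3 : r ∣ (a + 1) - (a - 1) := Nat.dvd_sub hra hdvd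
    have h4 : (a + 1) - (a - 1) = 2 := by omega
    rw [h4] at h3
    exact hr2 ((Nat.prime_dvd_prime_iff_eq hr Nat.prime_two).mp h3)

theorem case_ge_three (a n : ℕ) (ha : 1 < a) (hn : 2 < n) (h6 : ¬ (a = 2 ∧ n = 6)) :
    ∃ r : ℕ, r.Prime ∧ r ∣ a ^ n - 1 ∧ ∀ k : ℕ, 0 < k → k < n → ¬ r ∣ a ^ k - 1 := by
  by_contra hcon
  push Not at hcon
  have hno : ∀ r : ℕ, r.Prime → r ∣ phi n a → ∀ _ : Fact r.Prime, orderOf (a : ZMod r) ≠ n := by
    intro r hr hrN hF hord
    obtain ⟨h1, h2⟩ := primitive_of_order_eq n a r ha hrN hord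
    obtain ⟨k, hk, hkn, hdvd⟩ := hcon r hr h1
    exact h2 k hk hkn hdvd
  obtain ⟨r, d, j, hr, hN, hdpos, hd1, hjpos, hj⟩ := phi_eq_prime_of_no_primitive n a hn ha hno
  have hrn : r ∣ n := by
    rw [hj]
    exact Dvd.dvd.mul_left (dvd_pow_self r hjpos.ne') d
  have hdr : d ≤ r - 1 := Nat.le_of_dvd (by have := hr.two_le; omega) hd1
  rcases Nat.lt_or_ge 2 a with ha3 | ha2
  · -- `a ≥ 3`
    have h1 : (a - 1) ^ n.totient < phi n a := phi_lower_strict n a (by omega) ha
    have h2 : 2 ^ n.totient ≤ (a - 1) ^ n.totient := Nat.pow_le_pow_left (by omega) _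
    have h3 : r - 1 ≤ n.totient := by
      rw [← Nat.totient_prime hr]
      exact Nat.le_of_dvd (Nat.totient_pos.mpr (by omega)) (Nat.totient_dvd_of_dvd hrn)
    have h4 : 2 ^ (r - 1) ≤ 2 ^ n.totient := Nat.pow_le_pow_right (by norm_num) h3
    have h5 : r - 1 < 2 ^ (r - 1) := Nat.lt_two_pow_self
    omega
  · -- `a = 2`
    have ha2' : a = 2 := by omega
    subst ha2'
    have hr2 : r ≠ 2 := by
      intro h
      rw [h] at hN
      have h1 : 2 ∣ 2 ^ n - 1 := by
        have := phi_dvd n 2 (by norm_num)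
        rwa [hN] at this
      have h2 : 2 ∣ 2 ^ n := dvd_pow_self 2 (by omega)
      have h3 : 1 ≤ 2 ^ n := Nat.one_le_pow _ _ (by norm_num)
      omega
    rcases Nat.lt_or_ge 1 j with hj2 | hj1
    · -- `j ≥ 2`
      set m := d * r ^ (j - 1) with hm
      have hnm : n = m * r := by
        rw [hj, hm, mul_assoc, ← pow_succ]
        congr 2
        omega
      have hrm : r ∣ m := by
        rw [hm]
        exact Dvd.dvd.mul_left (dvd_pow_self r (by omega)) d
      have hmpos : 0 < m := by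
        rcases Nat.eq_zero_or_pos m with h0 | h0
        · rw [h0, zero_mul] at hnm; omega
        · exact h0
      have h1 : phi n 2 = phi m (2 ^ r) := by rw [hnm]; exact phi_expand_dvd m 2 r (by norm_num) hr hrm
      have h2 : (2 ^ r - 1) ^ m.totient ≤ phi m (2 ^ r) :=
        phi_lower m (2 ^ r) (Nat.one_lt_pow hr.ne_zero (by norm_num))
      have h3 : 2 ^ r - 1 ≤ (2 ^ r - 1) ^ m.totient :=
        Nat.le_self_pow (Nat.totient_pos.mpr hmpos).ne' _
      have h4 := two_pow_bound1 r hr.two_le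
      omega
    · -- `j = 1`
      have hj1' : j = 1 := by omega
      rw [hj1', pow_one] at hj
      have hrd : ¬ r ∣ d := by
        intro h
        have := Nat.le_of_dvd hdpos h
        have := hr.two_le
        omega
      have h1 : phi d (2 ^ r) = phi (d * r) 2 * phi d 2 := phi_expand_not_dvd d 2 r (by norm_num) hr hrd
      rw [← hj, hN] at h1
      have h2 : (2 ^ r - 1) ^ d.totient ≤ phi d (2 ^ r) :=
        phi_lower d (2 ^ r) (Nat.one_lt_pow hr.ne_zero (by norm_num))
      have h3 : phi d 2 ≤ 3 ^ d.totient := phi_upper d 2 (by norm_num)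
      have hk : d.totient ≠ 0 := (Nat.totient_pos.mpr hdpos).ne'
      by_cases hr3 : r = 3
      · subst hr3
        have hd2 : d = 1 ∨ d = 2 := by
          have : d ≤ 2 := hdr
          omega
        rcases hd2 with h | h
        · rw [h] at hj
          rw [hj] at hN
          have := phi_three_two
          norm_num at hN
          omega
        · rw [h] at hj
          exact h6 ⟨rfl, by omega⟩
      · have hr5 : 5 ≤ r := by
          have h2le := hr.two_le
          by_contra hlt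
          have : r = 4 := by omega
          rw [this] at hr
          exact absurd hr (by norm_num)
        have h4 := two_pow_bound2 r hr5
        have h5 : (3 * r) ^ d.totient < (2 ^ r - 1) ^ d.totient :=
          Nat.pow_lt_pow_left (by omega) hk
        have h6' : (3 * r) ^ d.totient = 3 ^ d.totient * r ^ d.totient := mul_pow _ _ _
        have h7 : r ≤ r ^ d.totient := Nat.le_self_pow hk r
        have h8 : 3 ^ d.totient * r ≤ 3 ^ d.totient * r ^ d.totient := Nat.mul_le_mul_left _ h7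
        have h9 : r * phi d 2 ≤ r * 3 ^ d.totient := Nat.mul_le_mul_left _ h3
        have h10 : r * 3 ^ d.totient = 3 ^ d.totient * r := mul_comm _ _
        omega

/-- Zsigmondy's Theorem: for natural numbers a > 1 and n > 1 there is a prime dividing aⁿ − 1 that divides aᵏ − 1 for no natural number 0 < k < n, unless a = 2 and n = 6, or n = 2 and a + 1 is a power of two. -/
theorem result (a n : ℕ) (ha : 1 < a) (hn : 1 < n) (h6 : ¬ (a = 2 ∧ n = 6)) (h2 : ¬ (n = 2 ∧ ∃ m : ℕ, a + 1 = 2 ^ m)) : ∃ r : ℕ, r.Prime ∧ r ∣ a ^ n - 1 ∧ ∀ k : ℕ, 0 < k → k < n → ¬ r ∣ a ^ k - 1 := by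
  rcases Nat.lt_or_ge 2 n with h | h
  · exact case_ge_three a n ha h h6
  · have hn2 : n = 2 := by omega
    subst hn2
    exact case_two a ha (fun hex => h2 ⟨rfl, hex⟩)

end Cfsg.Agent.S2904
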