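import Mathlib
import Cfsg.Agent.Helper5.Isolated
import Cfsg.Agent.Helper5.SylowSub
import Cfsg.Agent.Helper5.Misc
import Cfsg.Agent.Helper5.CharP
import Cfsg.Statements.S2970
-- import your own Cfsg.Agent.* helpers here

set_option autoImplicit false
open Cfsg

namespace Cfsg.Agent.S2970

theorem orderOf_conj' {G : Type*} [Group G] (g x : G) : orderOf (g * x * g⁻¹) = orderOf x := by
  have := orderOf_injective (MulAut.conj g).toMonoidHom (MulAut.conj g).injective x
  simpa using this

/-- In a cyclic `p`-group containing an element `z` of order `p`, every `r` with `r ^ p = 1` is a power of `z`. -/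
theorem mem_zpowers_of_pow_eq_one {G : Type*} [Group G] [Finite G] {p : ℕ} [Fact p.Prime] (P : Subgroup G)
    (hP : IsCyclic ↥P) (z : G) (hzP : z ∈ P) (hz : orderOf z = p) (r : G) (hrP : r ∈ P) (hr : r ^ p = 1) :
    r ∈ Subgroup.zpowers z := by
  classical
  have hp : p.Prime := Fact.out
  have : Fintype ↥P := Fintype.ofFinite _
  have hle := IsCyclic.card_pow_eq_one_le (α := ↥P) hp.pos
  -- the set of solutions contains zpowers z (p elements) and r
  set Sol := (Finset.univ.filter fun a : ↥P => a ^ p = 1) with hSol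
  set Z : Finset ↥P := (Finset.range p).image (fun i => (⟨z, hzP⟩ : ↥P) ^ i) with hZ
  have hZcard : Z.card = p := by
    rw [hZ, Finset.card_image_of_injOn, Finset.card_range]
    intro i hi j hj hij
    simp only [Finset.coe_range, Set.mem_Iio] at hi hj
    have hij' : z ^ i = z ^ j := by
      have := congrArg Subtype.val hij
      simpa using this
    have := pow_injOn_Iio_orderOf (x := z) (by rw [hz]; exact hi) (by rw [hz]; exact hj) hij'
    exact this
  have hZSol : Z ⊆ Sol := by
    intro a ha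
    rw [hZ, Finset.mem_image] at ha
    obtain ⟨i, -, rfl⟩ := ha
    rw [hSol, Finset.mem_filter]
    refine ⟨Finset.mem_univ _, ?_⟩
    apply Subtype.ext
    simp only [Subgroup.coe_pow, Subgroup.coe_one]
    rw [← pow_mul, mul_comm, pow_mul, ← hz, pow_orderOf_eq_one, one_pow]
  have heq : Z = Sol := by
    apply Finset.eq_of_subset_of_card_le hZSol
    rw [hZcard]; exact hle
  have hrSol : (⟨r, hrP⟩ : ↥P) ∈ Sol := by
    rw [hSol, Finset.mem_filter]
    exact ⟨Finset.mem_univ _, Subtype.ext (by simpa using hr)⟩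
  rw [← heq, hZ, Finset.mem_image] at hrSol
  obtain ⟨i, -, hi⟩ := hrSol
  have : z ^ i = r := by
    have := congrArg Subtype.val hi
    simpa using this
  rw [← this]
  exact Subgroup.pow_mem _ (Subgroup.mem_zpowers z) i

/-- Let G be a finite group, p a prime and x ∈ G an element of p-power order which is isolated in G. Then the image of x in any quotient G ⧸ N is isolated in G ⧸ N; and if x ≠ 1 and the Sylow p-subgroups of G are cyclic, then G has a normal p-complement. -/
theorem result {G : Type*} [Group G] [Finite G] {p : ℕ} [Fact p.Prime] (x : G) (hx : ∃ k : ℕ, orderOf x = p ^ k) (hiso : Cfsg.IsIsolated x) : (∀ (N : Subgroup G) [N.Normal], Cfsg.IsIsolated (QuotientGroup.mk x : G ⧸ N)) ∧ (x ≠ 1 → (∀ P : Sylow p G, IsCyclic ↥(P : Subgroup G)) → Cfsg.HasNormalPComplement p G) := by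
  obtain ⟨k, hk⟩ := hx
  have hp : p.Prime := Fact.out
  have hxpow : x ^ p ^ k = 1 := by rw [← hk]; exact pow_orderOf_eq_one x
  have hZx : IsPGroup p (Subgroup.zpowers x) := by
    apply IsPGroup.of_card (n := k)
    rw [Nat.card_zpowers, hk]
  constructor
  · intro N _ gbar hcomm
    obtain ⟨g, rfl⟩ := QuotientGroup.mk_surjective gbar
    set M := (Subgroup.centralizer ({(QuotientGroup.mk x : G ⧸ N)} : Set (G ⧸ N))).comap (QuotientGroup.mk' N) with hM
    have hxM : x ∈ M := by
      rw [hM, Subgroup.mem_comap, Subgroup.mem_centralizer_singleton_iff]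
      rfl
    have hyM : g * x * g⁻¹ ∈ M := by
      rw [hM, Subgroup.mem_comap, Subgroup.mem_centralizer_singleton_iff]
      exact hcomm.eq.symm
    obtain ⟨T, hxT, hTM, hTp, -, hTconj⟩ := Cfsg.Agent.Helper5.exists_sylow_of_subgroup M (Subgroup.zpowers x)
      (by rw [Subgroup.zpowers_le]; exact hxM) hZx
    have hZy : IsPGroup p (Subgroup.zpowers (g * x * g⁻¹)) := by
      apply IsPGroup.of_card (n := k)
      rw [Nat.card_zpowers, orderOf_conj', hk]
    obtain ⟨m, hmM, hm⟩ := hTconj (Subgroup.zpowers (g * x * g⁻¹)) (by rw [Subgroup.zpowers_le]; exact hyM) hZy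
    have hmy : m * (g * x * g⁻¹) * m⁻¹ ∈ T := hm _ (Subgroup.mem_zpowers _)
    have hxT' : x ∈ T := hxT (Subgroup.mem_zpowers x)
    have hcen := Cfsg.Agent.Helper5.central_of_isIsolated_in_pgroup T hTp x hxT' hiso
    have h1 : m * (g * x * g⁻¹) * m⁻¹ = (m * g) * x * (m * g)⁻¹ := by group
    have h2 : (m * g) * x * (m * g)⁻¹ = x := by
      apply hiso
      rw [← h1]
      exact (hcen _ hmy).symm
    -- now pass to the quotient
    have h3 : ((m * g * x * (m * g)⁻¹ : G) : G ⧸ N) = (x : G ⧸ N) := by rw [h2]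
    have hmc : (m : G ⧸ N) * (x : G ⧸ N) = (x : G ⧸ N) * (m : G ⧸ N) := by
      have := hmM
      rw [hM, Subgroup.mem_comap, Subgroup.mem_centralizer_singleton_iff] at this
      exact this
    have h4 : ((m * g * x * (m * g)⁻¹ : G) : G ⧸ N) =
        (m : G ⧸ N) * ((g : G ⧸ N) * (x : G ⧸ N) * (g : G ⧸ N)⁻¹) * (m : G ⧸ N)⁻¹ := by
      simp only [QuotientGroup.mk_mul, QuotientGroup.mk_inv]
      group
    rw [h4] at h3
    calc (g : G ⧸ N) * (x : G ⧸ N) * (g : G ⧸ N)⁻¹
        = (m : G ⧸ N)⁻¹ * ((m : G ⧸ N) * ((g : G ⧸ N) * (x : G ⧸ N) * (g : G ⧸ N)⁻¹) * (m : G ⧸ N)⁻¹) * (m : G ⧸ N) := by group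
      _ = (m : G ⧸ N)⁻¹ * (x : G ⧸ N) * (m : G ⧸ N) := by rw [h3]
      _ = (m : G ⧸ N)⁻¹ * ((x : G ⧸ N) * (m : G ⧸ N)) := by group
      _ = (m : G ⧸ N)⁻¹ * ((m : G ⧸ N) * (x : G ⧸ N)) := by rw [hmc]
      _ = (x : G ⧸ N) := by group
  · intro hx1 hcyc
    obtain ⟨P, hxP⟩ := hZx.exists_le_sylow
    have hxP' : x ∈ (P : Subgroup G) := hxP (Subgroup.mem_zpowers x)
    have hPc : IsCyclic ↥(P : Subgroup G) := hcyc P
    have hPcomm : ∀ a ∈ (P : Subgroup G), ∀ b ∈ (P : Subgroup G), a * b = b * a := by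
      intro a ha b hb
      have hcm : IsMulCommutative ↥(P : Subgroup G) := hPc.isMulCommutative
      have h := hcm.is_comm.comm ⟨a, ha⟩ ⟨b, hb⟩
      exact congrArg Subtype.val h
    -- k ≥ 1 and z := x^(p^(k-1)) has order p
    have hk0 : k ≠ 0 := by
      intro h0
      apply hx1
      rw [h0, pow_zero] at hk
      exact orderOf_eq_one_iff.mp hk
    set z := x ^ p ^ (k - 1) with hz
    have hzord : orderOf z = p := by
      have hdvd : p ^ (k - 1) ∣ orderOf x := by rw [hk]; exact pow_dvd_pow p (Nat.sub_le k 1)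
      rw [hz, orderOf_pow_of_dvd (pow_ne_zero _ hp.ne_zero) hdvd, hk]
      have : p ^ k = p ^ (k - 1) * p := by rw [← pow_succ]; congr 1; omega
      rw [this, Nat.mul_div_cancel_left _ (pow_pos hp.pos _)]
    have hzP : z ∈ (P : Subgroup G) := Subgroup.pow_mem _ hxP' _
    -- N_G(P) centralizes x
    have hNx : ∀ n ∈ Subgroup.normalizer ((P : Subgroup G) : Set G), n * x = x * n := by
      intro n hn
      have h1 : n * x * n⁻¹ ∈ (P : Subgroup G) := (Subgroup.mem_normalizer_iff.mp hn x).mp hxP'
      have h2 : n * x * n⁻¹ = x := hiso n (hPcomm x hxP' _ h1)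
      calc n * x = n * x * n⁻¹ * n := by group
        _ = x * n := by rw [h2]
    -- p'-elements of N_G(P) centralize P
    have hcop : ∀ n ∈ Subgroup.normalizer ((P : Subgroup G) : Set G), (orderOf n).Coprime p →
        ∀ i : ℕ, ∀ a ∈ (P : Subgroup G), a ^ p ^ i = 1 → n * a = a * n := by
      intro n hn hnc i
      induction i with
      | zero =>
        intro a _ ha
        rw [pow_zero, pow_one] at ha
        rw [ha]; simp
      | succ i ih =>
        intro a haP ha
        have hna : n * a * n⁻¹ ∈ (P : Subgroup G) := (Subgroup.mem_normalizer_iff.mp hn a).mp haP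
        have hrP : a⁻¹ * (n * a * n⁻¹) ∈ (P : Subgroup G) := Subgroup.mul_mem _ (Subgroup.inv_mem _ haP) hna
        have hap : n * a ^ p = a ^ p * n := by
          apply ih _ (Subgroup.pow_mem _ haP p)
          rw [← pow_mul, ← pow_succ']; exact ha
        have hrp : (a⁻¹ * (n * a * n⁻¹)) ^ p = 1 := by
          have hc : Commute a⁻¹ (n * a * n⁻¹) := hPcomm _ (Subgroup.inv_mem _ haP) _ hna
          rw [hc.mul_pow, conj_pow, inv_pow]
          have : n * a ^ p * n⁻¹ = a ^ p := by rw [hap]; group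
          rw [this]; group
        have hrz := mem_zpowers_of_pow_eq_one (P : Subgroup G) hPc z hzP hzord _ hrP hrp
        apply Cfsg.Agent.Helper5.stability_elt (p := p) n a hnc
        · exact ⟨1, by rw [pow_one]; exact hrp⟩
        · obtain ⟨j, hj⟩ := Subgroup.mem_zpowers_iff.mp hrz
          rw [← hj]
          have h1 : Commute n x := hNx n hn
          have h2 : Commute n z := h1.pow_right _
          exact (h2.zpow_right j).eq
    have hPnc : Subgroup.normalizer ((P : Subgroup G) : Set G) ≤ Subgroup.centralizer ((P : Subgroup G) : Set G) := by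
      intro n hn
      have hn0 : orderOf n ≠ 0 := (orderOf_pos n).ne'
      obtain ⟨e, m, hm, hnm⟩ := Nat.exists_eq_pow_mul_and_not_dvd hn0 p hp.ne_one
      have hpe : p ^ e ≠ 0 := pow_ne_zero _ hp.ne_zero
      have hm0 : m ≠ 0 := by
        intro h; rw [h, mul_zero] at hnm; exact hn0 hnm
      have hcopm : (p ^ e).Coprime m :=
        Nat.Coprime.pow_left e ((Nat.Prime.coprime_iff_not_dvd hp).mpr hm)
      apply Cfsg.Agent.Helper5.mem_of_pow_mem_of_coprime _ n (p ^ e) m hcopm
      · -- n^(p^e) has order m, coprime to p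
        have hord : orderOf (n ^ p ^ e) = m := by
          rw [orderOf_pow_of_dvd hpe ⟨m, hnm⟩, hnm, Nat.mul_div_cancel_left _ (Nat.pos_of_ne_zero hpe)]
        have hc : (orderOf (n ^ p ^ e)).Coprime p := by
          rw [hord, Nat.coprime_comm]; exact (Nat.Prime.coprime_iff_not_dvd hp).mpr hm
        rw [Subgroup.mem_centralizer_iff]
        intro a ha
        obtain ⟨j, hj⟩ := (P.isPGroup') ⟨a, ha⟩
        have haj : a ^ p ^ j = 1 := by simpa using congrArg Subtype.val hj
        exact (hcop _ (Subgroup.pow_mem _ hn _) hc j a ha haj).symm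
      · -- n^m is a p-element of N_G(P), so lies in P
        have hpow : (n ^ m) ^ p ^ e = 1 := by
          rw [← pow_mul, mul_comm, ← hnm, pow_orderOf_eq_one]
        have hmem := Cfsg.Agent.Helper5.mem_sylow_of_mem_normalizer P (n ^ m) (Subgroup.pow_mem _ hn _) ⟨e, hpow⟩
        rw [Subgroup.mem_centralizer_iff]
        intro a ha
        exact hPcomm a ha _ hmem
    exact ⟨P, (MonoidHom.transferSylow P hPnc).ker, inferInstance,
      MonoidHom.ker_transferSylow_isComplement' P hPnc⟩

end Cfsg.Agent.S2970
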