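import Mathlib
import Cfsg.Agent.Helper5.SPE
import Cfsg.Agent.Helper5.SPERank
import Cfsg.Agent.Helper5.CharP
import Cfsg.Agent.S3056
import Cfsg.Agent.S2970
import Cfsg.Statements.S3058
-- import your own Cfsg.Agent.* helpers here

set_option autoImplicit false
open Cfsg

namespace Cfsg.Agent.S3058

/-- A normal subgroup of order divisible by `p` meets a given Sylow `p`-subgroup in an element of order `p`. -/
theorem exists_order_p_in_sylow_inf {G : Type*} [Group G] [Finite G] {p : ℕ} [Fact p.Prime] (P : Sylow p G)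
    (N : Subgroup G) [hNn : N.Normal] (hN : p ∣ Nat.card N) :
    ∃ a : G, a ∈ (P : Subgroup G) ∧ a ∈ N ∧ orderOf a = p := by
  obtain ⟨x, hx⟩ := exists_prime_orderOf_dvd_card' p hN
  have hx' : orderOf (x : G) = p := by rw [Subgroup.orderOf_coe]; exact hx
  have hZ : IsPGroup p (Subgroup.zpowers (x : G)) := by
    apply IsPGroup.of_card (n := 1)
    rw [Nat.card_zpowers, hx', pow_one]
  obtain ⟨k, hk⟩ := Cfsg.Agent.Helper5.exists_conj_le_sylow P _ hZ
  refine ⟨k * (x : G) * k⁻¹, hk _ (Subgroup.mem_zpowers _), hNn.conj_mem _ x.2 k, ?_⟩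
  rw [Cfsg.Agent.S2970.orderOf_conj', hx']

/-- Let p be a prime and G a finite group whose Sylow p-subgroups are not chain-connected through nontrivial intersections (so G has a strongly p-embedded subgroup). If N and M are normal subgroups of G whose orders are both divisible by p, then the order of N ∩ M is divisible by p. Consequently, among the normal subgroups of G whose order is divisible by p there is a smallest one (the intersection of all of them). -/
theorem result {G : Type*} [Group G] [Finite G]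
    (p : ℕ) [Fact p.Prime] (hG : ¬ Cfsg.IsSylowChainConnected p G)
    (N M : Subgroup G) [N.Normal] [M.Normal] (hN : p ∣ Nat.card N) (hM : p ∣ Nat.card M) :
    p ∣ Nat.card ↥(N ⊓ M) := by
  open Cfsg.Agent.Helper5 in
  have hp : p.Prime := Fact.out
  by_contra hXd
  obtain ⟨H, hHtop, hpH, hcl⟩ := (Cfsg.Agent.S3056.result p).mp hG
  obtain ⟨P, hP⟩ := locCtrl_of_classical H hpH hcl
  have hNn : N.Normal := inferInstance
  have hMn : M.Normal := inferInstance
  obtain ⟨a, haP, haN, hao⟩ := exists_order_p_in_sylow_inf P N hN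
  obtain ⟨b, hbP, hbM, hbo⟩ := exists_order_p_in_sylow_inf P M hM
  set X := N ⊓ M with hX
  have hXn : X.Normal := Subgroup.normal_inf_normal N M
  have hXcop : (Nat.card X).Coprime p := by
    rw [Nat.coprime_comm]; exact (Nat.Prime.coprime_iff_not_dvd hp).mpr hXd
  have hPX : ∀ y : G, y ∈ (P : Subgroup G) → y ∈ X → y = 1 := by
    intro y hyP hyX
    apply eq_one_of_coprime_of_mem_pgroup (P : Subgroup G) P.isPGroup' y hyP
    have h1 : orderOf (⟨y, hyX⟩ : ↥X) ∣ Nat.card X := orderOf_dvd_natCard _
    rw [Subgroup.orderOf_mk] at h1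
    exact hXcop.coprime_dvd_left h1
  have hap : a ^ p = 1 := by rw [← hao]; exact pow_orderOf_eq_one a
  have hbp : b ^ p = 1 := by rw [← hbo]; exact pow_orderOf_eq_one b
  have hab : a * b = b * a := by
    have h1 : a * b * a⁻¹ * b⁻¹ = 1 := by
      apply hPX
      · exact Subgroup.mul_mem _ (Subgroup.mul_mem _ (Subgroup.mul_mem _ haP hbP) (Subgroup.inv_mem _ haP))
          (Subgroup.inv_mem _ hbP)
      · constructor
        · have h2 : a * b * a⁻¹ * b⁻¹ = a * (b * a⁻¹ * b⁻¹) := by group
          rw [h2]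
          exact N.mul_mem haN (hNn.conj_mem _ (N.inv_mem haN) b)
        · exact M.mul_mem (hMn.conj_mem _ hbM a) (M.inv_mem hbM)
    calc a * b = (a * b * a⁻¹ * b⁻¹) * (b * a) := by group
      _ = b * a := by rw [h1, one_mul]
  have hind : ∀ s t : ZMod p, abPow p a b s t = 1 → s = 0 ∧ t = 0 := by
    intro s t hst
    unfold abPow at hst
    have h1 : a ^ s.val = (b ^ t.val)⁻¹ := eq_inv_of_mul_eq_one_left hst
    have h2 : a ^ s.val = 1 := by
      apply hPX
      · exact Subgroup.pow_mem _ haP _
      · exact ⟨N.pow_mem haN _, by rw [h1]; exact M.inv_mem (M.pow_mem hbM _)⟩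
    have h3 : b ^ t.val = 1 := by rw [h2, one_mul] at hst; exact hst
    have hs : s = 0 := by
      have hd : p ∣ s.val := by
        have h0 : orderOf a ∣ s.val := orderOf_dvd_of_pow_eq_one h2
        exact (dvd_of_eq hao.symm).trans h0
      have hlt : s.val < p := ZMod.val_lt s
      have : s.val = 0 := Nat.eq_zero_of_dvd_of_lt hd hlt
      exact (ZMod.val_eq_zero s).mp this
    have ht : t = 0 := by
      have hd : p ∣ t.val := by
        have h0 : orderOf b ∣ t.val := orderOf_dvd_of_pow_eq_one h3
        exact (dvd_of_eq hbo.symm).trans h0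
      have hlt : t.val < p := ZMod.val_lt t
      have : t.val = 0 := Nat.eq_zero_of_dvd_of_lt hd hlt
      exact (ZMod.val_eq_zero t).mp this
    exact ⟨hs, ht⟩
  have hXtop : ∀ g : G, g ∈ Subgroup.normalizer (X : Set G) := by
    intro g; rw [Subgroup.normalizer_eq_top_iff.mpr hXn]; exact Subgroup.mem_top g
  have hXH : X ≤ H := hP.le_of_rank_two a b haP hbP hab hap hbp hind X (hXtop a) (hXtop b) hXcop
  have hb1 : b ≠ 1 := by
    intro h; rw [h, orderOf_one] at hbo; exact hp.one_lt.ne hbo
  have hZbP : Subgroup.zpowers b ≤ (P : Subgroup G) := by rw [Subgroup.zpowers_le]; exact hbP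
  -- N ≤ H
  have hNH : N ≤ H := by
    intro n hn
    have hninv : n⁻¹ ∈ H := by
      apply hP.mem_of_inter n⁻¹ (Subgroup.zpowers b) (hZbP.trans hP.1) _ (P.isPGroup'.to_le hZbP)
        (by rw [Ne, Subgroup.zpowers_eq_bot]; exact hb1)
      intro z hz
      rw [mem_map_conj_iff]
      obtain ⟨j, rfl⟩ := Subgroup.mem_zpowers_iff.mp hz
      have h1 : n * b * n⁻¹ ∈ H := by
        have h2 : n * b * n⁻¹ * b⁻¹ ∈ X := by
          constructor
          · have h3 : n * b * n⁻¹ * b⁻¹ = n * (b * n⁻¹ * b⁻¹) := by group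
            rw [h3]
            exact N.mul_mem hn (hNn.conj_mem _ (N.inv_mem hn) b)
          · exact M.mul_mem (hMn.conj_mem _ hbM n) (M.inv_mem hbM)
        have h4 : n * b * n⁻¹ = (n * b * n⁻¹ * b⁻¹) * b := by group
        rw [h4]
        exact H.mul_mem (hXH h2) (hP.1 hbP)
      have h5 : n⁻¹⁻¹ * b ^ j * n⁻¹ = (n * b * n⁻¹) ^ j := by
        have := (MulAut.conj n).toMonoidHom.map_zpow b j
        simp only [MulEquiv.coe_toMonoidHom, MulAut.conj_apply] at this
        rw [inv_inv, this]
      rw [h5]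
      exact H.zpow_mem h1 j
    have := H.inv_mem hninv
    rwa [inv_inv] at this
  apply hHtop
  rw [eq_top_iff]
  intro g _
  by_contra hg
  apply hcl g hg
  refine hN.trans (Subgroup.card_dvd_of_le ?_)
  apply le_inf hNH
  intro x hx
  rw [mem_map_conj_iff]
  apply hNH
  have := hNn.conj_mem x hx g⁻¹
  simpa using this

end Cfsg.Agent.S3058
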