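import Mathlib
import Cfsg.Agent.Helper5.Generation
import Cfsg.Agent.Helper5.Generation2
import Cfsg.Statements.S0058
-- import your own Cfsg.Agent.* helpers here

set_option autoImplicit false
open Cfsg

namespace Cfsg.Agent.S0058

/-- Generation by centralisers: when a noncyclic abelian group A normalises K with coprime orders, K is generated by the fixed-point subgroups of the nonidentity elements of A. -/
theorem result {G : Type*} [Group G] [Finite G] (A K : Subgroup G)
    [IsMulCommutative A] (hA : ¬ IsCyclic A) (hAK : A ≤ Subgroup.normalizer (K : Set G)) (hcop : (Nat.card A).Coprime (Nat.card K)) :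
    (⨆ a ∈ {a : G | a ∈ A ∧ a ≠ 1}, K ⊓ Subgroup.centralizer {a}) = K := by
  open Cfsg.Agent.Helper5 in
  apply le_antisymm
  · exact iSup₂_le fun _ _ => inf_le_left
  · have hAc : IsMulCommutative ↥A := inferInstance
    let instCG : CommGroup ↥A := { (inferInstance : Group ↥A) with mul_comm := hAc.is_comm.comm }
    obtain ⟨q, hq, a', b', ha'q, hb'q, hind'⟩ := exists_rank_two_of_not_isCyclic (B := ↥A) hA
    have : Fact q.Prime := ⟨hq⟩
    have haq : (a' : G) ^ q = 1 := by
      have := congrArg Subtype.val ha'q
      simpa using this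
    have hbq : (b' : G) ^ q = 1 := by
      have := congrArg Subtype.val hb'q
      simpa using this
    have hind : ∀ s t : ZMod q, abPow q (a' : G) (b' : G) s t = 1 → s = 0 ∧ t = 0 := by
      intro s t hst
      have h1 : a' ^ s.val * b' ^ t.val = 1 := by
        apply Subtype.ext
        simpa [abPow] using hst
      obtain ⟨h2, h3⟩ := hind' _ _ h1
      constructor
      · rw [← ZMod.natCast_zmod_val s, ZMod.natCast_eq_zero_iff]; exact h2
      · rw [← ZMod.natCast_zmod_val t, ZMod.natCast_eq_zero_iff]; exact h3
    have hgen := le_genCent A (a' : G) (b' : G) a'.2 b'.2 haq hbq hind (Nat.card K) K rfl hAK hcop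
    refine hgen.trans ?_
    unfold genCent
    apply iSup_le
    rintro ⟨⟨s, t⟩, hst⟩
    have hmem : abPow q (a' : G) (b' : G) s t ∈ {a : G | a ∈ A ∧ a ≠ 1} := by
      refine ⟨abPow_mem A _ _ a'.2 b'.2 s t, ?_⟩
      intro h1
      obtain ⟨h2, h3⟩ := hind s t h1
      rcases hst with h | h
      · exact h h2
      · exact h h3
    exact le_iSup₂_of_le (abPow q (a' : G) (b' : G) s t) hmem le_rfl

end Cfsg.Agent.S0058
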