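import Cfsg.Statements.S2620
import Cfsg.Agent.Helper8.Gram

set_option autoImplicit false
open Cfsg

namespace Cfsg.Agent.S2620
open Cfsg.Agent.Helper8 Matrix

theorem polar_quadFormPlus {F : Type*} [Field F] (m : ℕ) (u v : Fin m ⊕ Fin m → F) :
    QuadraticMap.polar (Cfsg.quadFormPlus m F) u v = u ⬝ᵥ (hypMat F m *ᵥ v) := by
  rw [QuadraticMap.polar, hypMat, Matrix.fromBlocks_mulVec]
  simp only [Cfsg.quadFormPlus, dotProduct, Fintype.sum_sum_type, Sum.elim_inl, Sum.elim_inr,
    Matrix.zero_mulVec, Matrix.one_mulVec, zero_add, add_zero, Pi.add_apply, Function.comp_apply]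
  rw [← Finset.sum_sub_distrib, ← Finset.sum_sub_distrib, ← Finset.sum_add_distrib]
  apply Finset.sum_congr rfl
  intro i _
  ring

theorem isSquare_sq_mul {F : Type*} [Field F] (d x : F) (hd : d ≠ 0) :
    IsSquare (d ^ 2 * x) ↔ IsSquare x := by
  constructor
  · rintro ⟨y, hy⟩
    refine ⟨y / d, ?_⟩
    field_simp
    linear_combination hy
  · rintro ⟨y, hy⟩
    refine ⟨d * y, ?_⟩
    rw [hy]
    ring

theorem isSquare_neg_one_pow {F : Type*} [Field F] [Fintype F] (m : ℕ) :
    IsSquare ((-1 : F) ^ m) ↔ (Even m ∨ Fintype.card F % 4 ≠ 3) := by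
  rcases Nat.even_or_odd m with hm | hm
  · rw [hm.neg_one_pow]
    simp [hm]
  · rw [hm.neg_one_pow, FiniteField.isSquare_neg_one_iff]
    have : ¬ Even m := Nat.not_even_iff_odd.mpr hm
    simp [this]

theorem even_iff (m q : ℕ) (hq : Odd q) : Even (m * (q - 1) / 2) ↔ (Even m ∨ q % 4 ≠ 3) := by
  obtain ⟨k, hk⟩ := hq
  have h1 : m * (q - 1) / 2 = m * k := by
    have : q - 1 = 2 * k := by omega
    rw [this, ← mul_assoc, mul_comm m 2, mul_assoc, Nat.mul_div_cancel_left _ two_pos]
  rw [h1, Nat.even_mul]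
  have h2 : Even k ↔ q % 4 ≠ 3 := by
    constructor
    · rintro ⟨j, hj⟩
      omega
    · intro h
      rcases Nat.even_or_odd k with hk' | ⟨j, hj⟩
      · exact hk'
      · omega
  rw [h2]

/-- Discriminant of the hyperbolic quadratic form Σ_(i<m) x_i y_i over a field with q elements, q odd, m ≥ 1: the determinant of the Gram matrix of its polar form in any basis is a square if and only if m(q − 1)/2 is even (equivalently q^m ≡ 1 (mod 4)). -/
theorem result {F : Type*} [Field F] [Fintype F] {q : ℕ} (hF : Fintype.card F = q) (hq : Odd q) {m : ℕ} (hm : 1 ≤ m) {ι : Type*} [Fintype ι] [DecidableEq ι] (b : Module.Basis ι F (Fin m ⊕ Fin m → F)) : IsSquare (Matrix.of (fun i j : ι => QuadraticMap.polar (Cfsg.quadFormPlus m F) (b i) (b j))).det ↔ Even (m * (q - 1) / 2) := by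
  obtain ⟨d, hd, hdet⟩ := gram_det (hypMat F m)
    (fun u v => QuadraticMap.polar (Cfsg.quadFormPlus m F) u v) (polar_quadFormPlus m) b
  rw [hdet, isSquare_sq_mul d _ hd, det_hypMat, isSquare_neg_one_pow, hF, even_iff m q hq]

end Cfsg.Agent.S2620
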