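import Mathlib
import Cfsg.Statements.S0269
import Cfsg.Agent.Helper7.SympPerfect

set_option autoImplicit false
open Cfsg

namespace Cfsg.Agent.S0269

open Matrix Cfsg.Agent.Helper7.Symp

theorem sympForm_single {F : Type*} [Field F] {m : ℕ} (i j : Fin m ⊕ Fin m) :
    sympForm m F (Pi.single i 1) (Pi.single j 1) = J (Fin m) F i j := by
  unfold sympForm
  rw [single_dotProduct, one_mul, mulVec_single_one]
  rfl

theorem single_ne_zero' {F : Type*} [Field F] {m : ℕ} (i : Fin m ⊕ Fin m) :
    (Pi.single i 1 : Fin m ⊕ Fin m → F) ≠ 0 := by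
  intro h
  have := congrFun h i
  rw [Pi.single_eq_same, Pi.zero_apply] at this
  exact one_ne_zero this

theorem exists_sq_ne_one {F : Type*} [Field F] [Fintype F] (h : 4 ≤ Fintype.card F) :
    ∃ a : F, a ≠ 0 ∧ a * a ≠ 1 := by
  classical
  have hcard : ({0, 1, -1} : Finset F).card < (Finset.univ : Finset F).card := by
    rw [Finset.card_univ]
    calc ({0, 1, -1} : Finset F).card ≤ 3 := Finset.card_le_three
      _ < Fintype.card F := h
  obtain ⟨a, _, ha⟩ := Finset.exists_mem_notMem_of_card_lt_card hcard
  simp only [Finset.mem_insert, Finset.mem_singleton, not_or] at ha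
  refine ⟨a, ha.1, ?_⟩
  intro h1
  rcases mul_self_eq_one_iff.mp h1 with h2 | h2
  · exact ha.2.1 h2
  · exact ha.2.2 h2

/-- Sp_{2m}(q) is perfect except for Sp_2(2), Sp_2(3) and Sp_4(2): stated as m at least 3, or m = 2 and q at least 3, or q at least 4. -/
theorem result {F : Type*} [Field F] [Fintype F] (m : ℕ) (h : 3 ≤ m ∨ (m = 2 ∧ 3 ≤ Fintype.card F) ∨ 4 ≤ Fintype.card F) : commutator (Matrix.symplecticGroup (Fin m) F) = ⊤ := by
  rw [← Abelianization.ker_of, eq_top_iff]
  intro g _
  rw [MonoidHom.mem_ker]
  apply map_eq_one_of_T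
  intro w c hw
  by_cases h4 : 4 ≤ Fintype.card F
  · obtain ⟨a, ha, ha2⟩ := exists_sq_ne_one h4
    exact map_T_eq_one_of_sq_ne_one _ ha ha2 hw c
  by_cases h2 : (2 : F) = 0
  · -- characteristic two, so `m ≥ 3`
    have hm : 3 ≤ m := by
      rcases h with h | ⟨_, h3⟩ | h
      · exact h
      · exfalso
        have h3' : Fintype.card F = 3 := by omega
        have hc := Nat.cast_card_eq_zero F
        rw [h3'] at hc
        have : (1 : F) = 0 := by
          have e : (1 : F) = ((3 : ℕ) : F) - 2 := by push_cast; ring
          rw [e, hc, h2, sub_zero]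
        exact one_ne_zero this
      · exact absurd h h4
    let i0 : Fin m := ⟨0, by omega⟩
    let i1 : Fin m := ⟨1, by omega⟩
    let i2 : Fin m := ⟨2, by omega⟩
    have h01 : i0 ≠ i1 := by intro h; have := congrArg Fin.val h; simp [i0, i1] at this
    have h02 : i0 ≠ i2 := by intro h; have := congrArg Fin.val h; simp [i0, i2] at this
    have h12 : i1 ≠ i2 := by intro h; have := congrArg Fin.val h; simp [i1, i2] at this
    have key := map_T_char_two (Abelianization.of (G := Matrix.symplecticGroup (Fin m) F)) h2
      (a := Pi.single (Sum.inl i0) 1) (b := Pi.single (Sum.inl i1) 1) (c := Pi.single (Sum.inl i2) 1)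
      (by rw [sympForm_single]; rfl) (by rw [sympForm_single]; rfl) (by rw [sympForm_single]; rfl)
      (single_ne_zero' _) (single_ne_zero' _) (single_ne_zero' _)
      (by
        intro h
        have := congrFun h (Sum.inl i0)
        simp [h01] at this)
      (by
        intro h
        have := congrFun h (Sum.inl i0)
        simp [h02] at this)
      (by
        intro h
        have := congrFun h (Sum.inl i1)
        simp [h12] at this)
      (by
        intro h
        have := congrFun h (Sum.inl i0)
        simp [h01, h02] at this) c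
    rw [map_T_eq _ hw (single_ne_zero' (Sum.inl i0))]
    exact key
  · -- odd characteristic, `m ≥ 2`
    have hm : 2 ≤ m := by
      rcases h with h | ⟨h, _⟩ | h
      · omega
      · omega
      · exact absurd h h4
    let i0 : Fin m := ⟨0, by omega⟩
    let i1 : Fin m := ⟨1, by omega⟩
    have h01 : i0 ≠ i1 := by intro h; have := congrArg Fin.val h; simp [i0, i1] at this
    have key := map_T_two_mul (Abelianization.of (G := Matrix.symplecticGroup (Fin m) F))
      (a := Pi.single (Sum.inl i0) 1) (b := Pi.single (Sum.inl i1) 1) (y := Pi.single (Sum.inr i1) 1)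
      (single_ne_zero' _) (by rw [sympForm_single]; rfl)
      (by
        rw [sympForm_single]
        simp [J, h01])
      (by
        rw [sympForm_single]
        simp [J]) (2⁻¹ * c)
    rw [← mul_assoc, mul_inv_cancel₀ h2, one_mul] at key
    rw [map_T_eq _ hw (single_ne_zero' (Sum.inl i0))]
    exact key

end Cfsg.Agent.S0269
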