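import Mathlib
import Cfsg.Statements.S0768
import Cfsg.Agent.Helper7.SympTransitive

set_option autoImplicit false
open Cfsg
open scoped LinearAlgebra.Projectivization

namespace Cfsg.Agent.S0768

open Matrix Cfsg.Agent.Helper7.Symp

variable {F : Type*} [Field F] {m : ℕ}

/-- A symplectic matrix as an element of `spGL`. -/
def toSpGL (A : Matrix.symplecticGroup (Fin m) F) : ↥(Cfsg.spGL m F) :=
  ⟨⟨(A : Matrix (Fin m ⊕ Fin m) (Fin m ⊕ Fin m) F),
    ((A⁻¹ : Matrix.symplecticGroup (Fin m) F) : Matrix (Fin m ⊕ Fin m) (Fin m ⊕ Fin m) F),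
    congrArg Subtype.val (mul_inv_cancel A), congrArg Subtype.val (inv_mul_cancel A)⟩,
    fun u v => sympForm_mulVec A u v⟩

theorem toSpGL_smul (A : Matrix.symplecticGroup (Fin m) F) (x : Fin m ⊕ Fin m → F) :
    toSpGL A • x = (A : Matrix (Fin m ⊕ Fin m) (Fin m ⊕ Fin m) F) *ᵥ x := rfl

theorem exists_smul_eq {u u' : Fin m ⊕ Fin m → F} (hu : u ≠ 0) (hu' : u' ≠ 0) :
    ∃ g : ↥(Cfsg.spGL m F), g • u = u' := by
  obtain ⟨g, _, hg⟩ := exists_mem_mulVec_eq hu hu'
  exact ⟨toSpGL g, hg⟩

theorem exists_fix_smul {x v w : Fin m ⊕ Fin m → F} (hv : sympForm m F x v ≠ 0)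
    (hw : sympForm m F x w ≠ 0) :
    ∃ (g : ↥(Cfsg.spGL m F)) (c : F), c ≠ 0 ∧ g • x = x ∧ g • v = c • w := by
  obtain ⟨g, _, hg1, hg2⟩ := exists_mem_mulVec_pair (u := x) (v := (sympForm m F x v)⁻¹ • v)
    (u' := x) (v' := (sympForm m F x w)⁻¹ • w)
    (by rw [sympForm_smul_right, inv_mul_cancel₀ hv]) (by rw [sympForm_smul_right, inv_mul_cancel₀ hw])
  refine ⟨toSpGL g, sympForm m F x v * (sympForm m F x w)⁻¹, mul_ne_zero hv (inv_ne_zero hw), hg1, ?_⟩
  rw [toSpGL_smul]
  rw [mulVec_smul] at hg2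
  have := congrArg (fun y => sympForm m F x v • y) hg2
  beta_reduce at this
  rw [smul_smul, mul_inv_cancel₀ hv, one_smul, smul_smul] at this
  exact this

theorem smul_mk' (g : ↥(Cfsg.spGL m F)) {v : Fin m ⊕ Fin m → F} (hv : v ≠ 0) :
    g • Projectivization.mk F v hv =
      Projectivization.mk F (g • v) ((smul_ne_zero_iff_ne g).mpr hv) := by
  rw [Subgroup.smul_def]
  exact Projectivization.smul_mk (g : Matrix.GeneralLinearGroup (Fin m ⊕ Fin m) F) hv

instance : MulAction.IsPretransitive ↥(Cfsg.spGL m F) (ℙ F (Fin m ⊕ Fin m → F)) := by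
  constructor
  intro P Q
  induction P using Projectivization.ind with
  | h v hv =>
  induction Q using Projectivization.ind with
  | h w hw =>
  obtain ⟨g, hg⟩ := exists_smul_eq (m := m) hv hw
  refine ⟨g, ?_⟩
  rw [smul_mk' g hv]
  simp only [hg]

theorem smul_mem_of_fix {B : Set (ℙ F (Fin m ⊕ Fin m → F))} (hB : MulAction.IsBlock ↥(Cfsg.spGL m F) B)
    {P Q : ℙ F (Fin m ⊕ Fin m → F)} (hP : P ∈ B) (hQ : Q ∈ B) {g : ↥(Cfsg.spGL m F)}
    (hg : g • P = P) : g • Q ∈ B := by
  have h := hB.smul_eq_of_mem hP (by rw [hg]; exact hP)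
  rw [← h]
  exact Set.smul_mem_smul_set hQ

/-- Step: with base point `x` and partner `v` in the block, non-perpendicular, every `w` not perpendicular
to `x` gives a point of the block. -/
theorem mem_of_nonperp {B : Set (ℙ F (Fin m ⊕ Fin m → F))} (hB : MulAction.IsBlock ↥(Cfsg.spGL m F) B)
    {x v w : Fin m ⊕ Fin m → F} (hx : x ≠ 0) (hv0 : v ≠ 0) (hw0 : w ≠ 0)
    (hxB : Projectivization.mk F x hx ∈ B) (hvB : Projectivization.mk F v hv0 ∈ B)
    (hv : sympForm m F x v ≠ 0) (hw : sympForm m F x w ≠ 0) :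
    Projectivization.mk F w hw0 ∈ B := by
  obtain ⟨g, c, hc, hg1, hg2⟩ := exists_fix_smul hv hw
  have hfix : g • Projectivization.mk F x hx = Projectivization.mk F x hx := by
    rw [smul_mk' g hx]
    simp only [hg1]
  have := smul_mem_of_fix hB hxB hvB hfix
  rw [smul_mk' g hv0] at this
  have e : Projectivization.mk F (g • v) (by rw [hg2]; exact smul_ne_zero hc hw0) =
      Projectivization.mk F w hw0 := by
    rw [Projectivization.mk_eq_mk_iff']
    exact ⟨c, hg2.symm⟩
  rw [← e]
  exact this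

theorem sympForm_zero_left (v : Fin m ⊕ Fin m → F) : sympForm m F 0 v = 0 := by
  unfold sympForm; rw [zero_dotProduct]

theorem sympForm_zero_right (v : Fin m ⊕ Fin m → F) : sympForm m F v 0 = 0 := by
  unfold sympForm; rw [mulVec_zero, dotProduct_zero]

/-- Two non-perpendicular points in a block force the block to be everything. -/
theorem eq_univ_of_nonperp {B : Set (ℙ F (Fin m ⊕ Fin m → F))} (hB : MulAction.IsBlock ↥(Cfsg.spGL m F) B)
    {u v : Fin m ⊕ Fin m → F} (hu : u ≠ 0) (hv0 : v ≠ 0)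
    (huB : Projectivization.mk F u hu ∈ B) (hvB : Projectivization.mk F v hv0 ∈ B)
    (huv : sympForm m F u v ≠ 0) : B = Set.univ := by
  rw [Set.eq_univ_iff_forall]
  intro P
  induction P using Projectivization.ind with
  | h w hw =>
  by_cases h : sympForm m F u w ≠ 0
  · exact mem_of_nonperp hB hu hv0 hw huB hvB huv h
  · push Not at h
    -- find `x` not perpendicular to both `u` and `w`
    obtain ⟨a, ha⟩ := exists_sympForm_ne_zero hu
    obtain ⟨b, hb⟩ := exists_sympForm_ne_zero hw
    have hx : ∃ x, sympForm m F u x ≠ 0 ∧ sympForm m F w x ≠ 0 := by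
      by_cases h1 : sympForm m F w a ≠ 0
      · exact ⟨a, ha, h1⟩
      · push Not at h1
        by_cases h2 : sympForm m F u b ≠ 0
        · exact ⟨b, h2, hb⟩
        · push Not at h2
          refine ⟨a + b, ?_, ?_⟩
          · rw [sympForm_add_right, h2, add_zero]; exact ha
          · rw [sympForm_add_right, h1, zero_add]; exact hb
    obtain ⟨x, hx1, hx2⟩ := hx
    have hx0 : x ≠ 0 := by
      rintro rfl
      exact hx1 (sympForm_zero_right u)
    have hxB : Projectivization.mk F x hx0 ∈ B := mem_of_nonperp hB hu hv0 hx0 huB hvB huv hx1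
    have hxu : sympForm m F x u ≠ 0 := by
      rw [sympForm_swap]; exact neg_ne_zero.mpr hx1
    have hxw : sympForm m F x w ≠ 0 := by
      rw [sympForm_swap]; exact neg_ne_zero.mpr hx2
    exact mem_of_nonperp hB hx0 hu hw hxB huB hxu hxw

/-- For independent `u, v` there is `a` with `f(u,a) ≠ 0` and `f(v,a) = 0`. -/
theorem exists_separating {u v : Fin m ⊕ Fin m → F} (hv : v ≠ 0) (huv : ∀ c : F, u ≠ c • v) :
    ∃ a, sympForm m F u a ≠ 0 ∧ sympForm m F v a = 0 := by
  by_contra hcon
  push Not at hcon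
  obtain ⟨a, ha⟩ := exists_sympForm_ne_zero hv
  apply huv (sympForm m F u a * (sympForm m F v a)⁻¹)
  by_contra hne
  have hne' : u - (sympForm m F u a * (sympForm m F v a)⁻¹) • v ≠ 0 := sub_ne_zero.mpr hne
  obtain ⟨y, hy⟩ := exists_sympForm_ne_zero hne'
  apply hy
  rw [sympForm_sub_left, sympForm_smul_left]
  -- y - (ψ y / ψ a) a is in ker ψ
  have h1 : sympForm m F v (y - (sympForm m F v y * (sympForm m F v a)⁻¹) • a) = 0 := by
    rw [sympForm_sub_right, sympForm_smul_right, mul_assoc, inv_mul_cancel₀ ha, mul_one, sub_self]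
  have h2 : sympForm m F u (y - (sympForm m F v y * (sympForm m F v a)⁻¹) • a) = 0 := by
    by_contra h
    exact hcon _ h h1
  rw [sympForm_sub_right, sympForm_smul_right] at h2
  rw [sub_eq_zero] at h2 ⊢
  rw [h2]; ring

/-- Primitivity: for m ≥ 1 and F finite, the symplectic group of the form sympForm (as a subgroup of the general linear group) acts primitively on the projective space of F^(2m). -/
theorem result {F : Type*} [Field F] [Finite F] (m : ℕ) (hm : 1 ≤ m) : MulAction.IsPreprimitive ↥(Cfsg.spGL m F) (ℙ F (Fin m ⊕ Fin m → F)) := by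
  refine ⟨?_⟩
  intro B hB
  by_cases hsub : B.Subsingleton
  · left; exact hsub
  right
  rw [Set.not_subsingleton_iff] at hsub
  obtain ⟨P, hP, Q, hQ, hPQ⟩ := hsub
  induction P using Projectivization.ind with
  | h u hu =>
  induction Q using Projectivization.ind with
  | h v hv =>
  by_cases huv : sympForm m F u v ≠ 0
  · exact eq_univ_of_nonperp hB hu hv hP hQ huv
  · push Not at huv
    have hind : ∀ c : F, u ≠ c • v := by
      intro c hc
      apply hPQ
      rw [Projectivization.mk_eq_mk_iff']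
      exact ⟨c, hc.symm⟩
    obtain ⟨a, ha1, ha2⟩ := exists_separating hv hind
    -- the transvection along `a` fixes `v` and moves `u`
    have hfix : toSpGL (T a 1) • Projectivization.mk F v hv = Projectivization.mk F v hv := by
      rw [smul_mk' _ hv]
      have : toSpGL (T a 1) • v = v := by
        rw [toSpGL_smul, T_mulVec, ha2, mul_zero, zero_smul, add_zero]
      simp only [this]
    have hmem := smul_mem_of_fix hB hQ hP hfix
    rw [smul_mk' _ hu] at hmem
    have hu' : toSpGL (T a 1) • u = u + sympForm m F u a • a := by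
      rw [toSpGL_smul, T_mulVec, one_mul]
    have hnp : sympForm m F u (toSpGL (T a 1) • u) ≠ 0 := by
      rw [hu', sympForm_add_right, sympForm_self, zero_add, sympForm_smul_right]
      exact mul_ne_zero ha1 ha1
    have hne : toSpGL (T a 1) • u ≠ 0 := by
      intro h0
      rw [h0] at hnp
      exact hnp (sympForm_zero_right u)
    exact eq_univ_of_nonperp hB hu hne hP hmem hnp

end Cfsg.Agent.S0768
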