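import Mathlib
import Cfsg.Statements.S0270
import Cfsg.Agent.Helper7.SympPerfect
import Cfsg.Agent.S0269
import Cfsg.Agent.S0768

set_option autoImplicit false
open Cfsg
open scoped LinearAlgebra.Projectivization Pointwise

namespace Cfsg.Agent.S0270

open Matrix Cfsg.Agent.Helper7.Symp

variable {F : Type*} [Field F] {m : ℕ}

/-- The symplectic group mapped to `spGL`. -/
def toSpGLHom (m : ℕ) (F : Type*) [Field F] : Matrix.symplecticGroup (Fin m) F →* ↥(Cfsg.spGL m F) :=
  MonoidHom.mk' Cfsg.Agent.S0768.toSpGL (fun _ _ => Subtype.ext (Units.ext rfl))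

theorem toSpGLHom_apply (A : Matrix.symplecticGroup (Fin m) F) :
    toSpGLHom m F A = Cfsg.Agent.S0768.toSpGL A := rfl

theorem sympForm_mulVec_eq (A : Matrix (Fin m ⊕ Fin m) (Fin m ⊕ Fin m) F) (u v : Fin m ⊕ Fin m → F) :
    sympForm m F (A *ᵥ u) (A *ᵥ v) = u ⬝ᵥ ((Aᵀ * J (Fin m) F * A) *ᵥ v) := by
  unfold sympForm
  rw [← mulVec_mulVec, ← mulVec_mulVec, dotProduct_comm, dotProduct_mulVec, dotProduct_comm,
    mulVec_transpose]

theorem toSpGLHom_surjective : Function.Surjective (toSpGLHom m F) := by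
  intro g
  have hg : ∀ u v, sympForm m F (((g : Matrix.GeneralLinearGroup (Fin m ⊕ Fin m) F) :
      Matrix (Fin m ⊕ Fin m) (Fin m ⊕ Fin m) F) *ᵥ u)
      (((g : Matrix.GeneralLinearGroup (Fin m ⊕ Fin m) F) :
      Matrix (Fin m ⊕ Fin m) (Fin m ⊕ Fin m) F) *ᵥ v) = sympForm m F u v := g.2
  have hmem : ((g : Matrix.GeneralLinearGroup (Fin m ⊕ Fin m) F) :
      Matrix (Fin m ⊕ Fin m) (Fin m ⊕ Fin m) F) ∈ Matrix.symplecticGroup (Fin m) F := by
    rw [SymplecticGroup.mem_iff']
    ext i j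
    have h := hg (Pi.single i 1) (Pi.single j 1)
    rw [sympForm_mulVec_eq, Cfsg.Agent.S0269.sympForm_single, single_dotProduct, one_mul,
      mulVec_single_one] at h
    exact h
  refine ⟨⟨_, hmem⟩, ?_⟩
  apply Subtype.ext
  apply Units.ext
  rfl

/-- The symplectic group acts on the projective space. -/
instance instMulActionProj : MulAction (Matrix.symplecticGroup (Fin m) F) (ℙ F (Fin m ⊕ Fin m → F)) :=
  MulAction.compHom _ (toSpGLHom m F)

theorem smul_def' (g : Matrix.symplecticGroup (Fin m) F) (P : ℙ F (Fin m ⊕ Fin m → F)) :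
    g • P = toSpGLHom m F g • P := rfl

theorem smul_mk (g : Matrix.symplecticGroup (Fin m) F) {v : Fin m ⊕ Fin m → F} (hv : v ≠ 0)
    (hgv : (g : Matrix (Fin m ⊕ Fin m) (Fin m ⊕ Fin m) F) *ᵥ v ≠ 0) :
    g • Projectivization.mk F v hv =
      Projectivization.mk F ((g : Matrix (Fin m ⊕ Fin m) (Fin m ⊕ Fin m) F) *ᵥ v) hgv := by
  rw [smul_def', Cfsg.Agent.S0768.smul_mk' _ hv]
  rfl

theorem mulVec_ne_zero (g : Matrix.symplecticGroup (Fin m) F) {v : Fin m ⊕ Fin m → F} (hv : v ≠ 0) :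
    (g : Matrix (Fin m ⊕ Fin m) (Fin m ⊕ Fin m) F) *ᵥ v ≠ 0 := by
  intro h
  apply hv
  have := coe_inv_mulVec_eq g h
  rw [mulVec_zero] at this
  exact this.symm

/-- The identity as an equivariant map. -/
def idEquivariant (m : ℕ) (F : Type*) [Field F] :
    ℙ F (Fin m ⊕ Fin m → F) →ₑ[toSpGLHom m F] ℙ F (Fin m ⊕ Fin m → F) where
  toFun := id
  map_smul' _ _ := rfl

theorem isPreprimitive [Finite F] (hm : 1 ≤ m) :
    MulAction.IsPreprimitive (Matrix.symplecticGroup (Fin m) F) (ℙ F (Fin m ⊕ Fin m → F)) := by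
  have h := Cfsg.Agent.S0768.result (F := F) m hm
  exact (MulAction.isPreprimitive_congr (f := idEquivariant m F) toSpGLHom_surjective
    Function.bijective_id).mpr h

/-! ### Root subgroups -/

/-- The root subgroup of a vector. -/
def rootSubgroup (w : Fin m ⊕ Fin m → F) : Subgroup (Matrix.symplecticGroup (Fin m) F) where
  carrier := {g | ∃ c : F, g = T w c}
  mul_mem' := by
    rintro _ _ ⟨c, rfl⟩ ⟨d, rfl⟩
    exact ⟨c + d, T_mul w c d⟩
  one_mem' := ⟨0, (T_zero_right w).symm⟩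
  inv_mem' := by
    rintro _ ⟨c, rfl⟩
    refine ⟨-c, ?_⟩
    apply inv_eq_of_mul_eq_one_right
    rw [T_mul, add_neg_cancel, T_zero_right]

theorem mem_rootSubgroup {w : Fin m ⊕ Fin m → F} {g : Matrix.symplecticGroup (Fin m) F} :
    g ∈ rootSubgroup w ↔ ∃ c : F, g = T w c := Iff.rfl

theorem rootSubgroup_smul {a : F} (ha : a ≠ 0) (w : Fin m ⊕ Fin m → F) :
    rootSubgroup (a • w) = rootSubgroup w := by
  ext g
  rw [mem_rootSubgroup, mem_rootSubgroup]
  constructor
  · rintro ⟨c, rfl⟩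
    exact ⟨a * a * c, T_smul a w c⟩
  · rintro ⟨c, rfl⟩
    refine ⟨(a * a)⁻¹ * c, ?_⟩
    rw [T_smul, ← mul_assoc, mul_inv_cancel₀ (mul_ne_zero ha ha), one_mul]

theorem rootSubgroup_rep {w : Fin m ⊕ Fin m → F} (hw : w ≠ 0) :
    rootSubgroup (Projectivization.mk F w hw).rep = rootSubgroup w := by
  obtain ⟨a, ha⟩ := Projectivization.exists_smul_eq_mk_rep F w hw
  rw [← ha]
  exact rootSubgroup_smul a.ne_zero w

theorem rootSubgroup_conj (g : Matrix.symplecticGroup (Fin m) F) (w : Fin m ⊕ Fin m → F) :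
    rootSubgroup ((g : Matrix (Fin m ⊕ Fin m) (Fin m ⊕ Fin m) F) *ᵥ w) =
      MulAut.conj g • rootSubgroup w := by
  ext h
  rw [Subgroup.mem_smul_pointwise_iff_exists, mem_rootSubgroup]
  constructor
  · rintro ⟨c, rfl⟩
    refine ⟨T w c, ⟨c, rfl⟩, ?_⟩
    rw [MulAut.smul_def, MulAut.conj_apply, conj_T]
  · rintro ⟨_, ⟨c, rfl⟩, rfl⟩
    refine ⟨c, ?_⟩
    rw [MulAut.smul_def, MulAut.conj_apply, conj_T]

/-- The Iwasawa structure. -/
noncomputable def iwasawa (m : ℕ) (F : Type*) [Field F] :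
    MulAction.IwasawaStructure (Matrix.symplecticGroup (Fin m) F) (ℙ F (Fin m ⊕ Fin m → F)) where
  T P := rootSubgroup P.rep
  is_comm P := by
    refine ⟨⟨?_⟩⟩
    rintro ⟨_, ⟨c, rfl⟩⟩ ⟨_, ⟨d, rfl⟩⟩
    apply Subtype.ext
    change T P.rep c * T P.rep d = T P.rep d * T P.rep c
    rw [T_mul, T_mul, add_comm]
  is_conj g P := by
    induction P using Projectivization.ind with
    | h w hw =>
    rw [smul_mk g hw (mulVec_ne_zero g hw), rootSubgroup_rep, rootSubgroup_rep, rootSubgroup_conj]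
  is_generator := by
    rw [eq_top_iff, ← transvectionSubgroup_eq_top]
    unfold transvectionSubgroup
    rw [Subgroup.closure_le]
    rintro B ⟨w, c, hB⟩
    have hB' : B = T w c := Subtype.ext hB
    rw [SetLike.mem_coe, hB']
    by_cases hw : w = 0
    · rw [hw, T_zero_left]; exact one_mem _
    · apply Subgroup.mem_iSup_of_mem (Projectivization.mk F w hw)
      rw [rootSubgroup_rep]
      exact ⟨c, rfl⟩

/-- An element fixing every point is central. -/
theorem mem_center_of_fix (g : Matrix.symplecticGroup (Fin m) F)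
    (h : ∀ P : ℙ F (Fin m ⊕ Fin m → F), g • P = P) :
    g ∈ Subgroup.center (Matrix.symplecticGroup (Fin m) F) := by
  obtain ⟨a, ha⟩ := LinearMap.exists_eq_smul_id_of_forall_notLinearIndependent
    (f := Matrix.mulVecLin (g : Matrix (Fin m ⊕ Fin m) (Fin m ⊕ Fin m) F)) (by
      intro v
      rw [Matrix.mulVecLin_apply]
      by_cases hv : v = 0
      · subst hv
        intro hli
        exact hli.ne_zero 0 rfl
      have hP := h (Projectivization.mk F v hv)
      rw [smul_mk g hv (mulVec_ne_zero g hv), Projectivization.mk_eq_mk_iff'] at hP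
      obtain ⟨a, ha⟩ := hP
      rw [← ha]
      intro hli
      have := LinearIndependent.pair_iff.mp hli a (-1) (by simp)
      simp at this)
  have hgv : ∀ v, (g : Matrix (Fin m ⊕ Fin m) (Fin m ⊕ Fin m) F) *ᵥ v = a • v := by
    intro v
    have := congrArg (fun f : (Fin m ⊕ Fin m → F) →ₗ[F] (Fin m ⊕ Fin m → F) => f v) ha
    simpa using this
  rw [Subgroup.mem_center_iff]
  intro k
  apply ext_mulVec
  intro x
  rw [coe_mul_mulVec, coe_mul_mulVec, hgv, hgv, mulVec_smul]

theorem nontrivial_symp (hm : 1 ≤ m) : Nontrivial (Matrix.symplecticGroup (Fin m) F) := by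
  let i0 : Fin m := ⟨0, hm⟩
  refine ⟨⟨T (Pi.single (Sum.inl i0) 1) 1, 1, ?_⟩⟩
  intro h
  have h1 := congrArg (fun g : Matrix.symplecticGroup (Fin m) F =>
    (g : Matrix (Fin m ⊕ Fin m) (Fin m ⊕ Fin m) F) *ᵥ (Pi.single (Sum.inr i0) 1)) h
  beta_reduce at h1
  rw [T_mulVec, coe_one_mulVec, one_mul, Cfsg.Agent.S0269.sympForm_single] at h1
  have h2 := congrFun h1 (Sum.inl i0)
  simp [J] at h2

/-- PSp_{2m}(q) is simple for m at least 2 and (m, q) other than (2, 2). -/
theorem result {F : Type*} [Field F] [Fintype F] (m : ℕ) (hm : 2 ≤ m) (h : m = 2 → 3 ≤ Fintype.card F) : IsSimpleGroup (Cfsg.PSp m F) := by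
  have hperf : commutator (Matrix.symplecticGroup (Fin m) F) = ⊤ := by
    apply Cfsg.Agent.S0269.result
    by_cases h2 : m = 2
    · right; left; exact ⟨h2, h h2⟩
    · left; omega
  have := nontrivial_symp (F := F) (m := m) (by omega)
  have : MulAction.IsPreprimitive (Matrix.symplecticGroup (Fin m) F) (ℙ F (Fin m ⊕ Fin m → F)) :=
    isPreprimitive (by omega)
  have hZ : Subgroup.center (Matrix.symplecticGroup (Fin m) F) ≠ ⊤ := by
    intro hZ
    have := (commutator_eq_bot_iff_center_eq_top _).mpr hZ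
    rw [hperf] at this
    exact top_ne_bot this
  have : Nontrivial (Cfsg.PSp m F) := by
    by_contra hnt
    rw [not_nontrivial_iff_subsingleton] at hnt
    exact hZ (QuotientGroup.subgroup_eq_top_of_subsingleton _ hnt)
  apply IsSimpleGroup.mk
  intro N hN
  set π := QuotientGroup.mk' (Subgroup.center (Matrix.symplecticGroup (Fin m) F)) with hπ
  have hπs : Function.Surjective π := QuotientGroup.mk'_surjective _
  have hN' : (N.comap π).Normal := hN.comap π
  by_cases hfix : MulAction.fixedPoints (N.comap π) (ℙ F (Fin m ⊕ Fin m → F)) = Set.univ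
  · left
    rw [Subgroup.eq_bot_iff_forall]
    intro x hx
    obtain ⟨g, rfl⟩ := hπs x
    have hg : g ∈ N.comap π := hx
    have hc : g ∈ Subgroup.center (Matrix.symplecticGroup (Fin m) F) := by
      apply mem_center_of_fix
      intro P
      have hP : P ∈ MulAction.fixedPoints (N.comap π) (ℙ F (Fin m ⊕ Fin m → F)) := by
        rw [hfix]; exact Set.mem_univ P
      exact hP ⟨g, hg⟩
    rw [hπ, QuotientGroup.mk'_apply, QuotientGroup.eq_one_iff]
    exact hc
  · right
    have hle := (iwasawa m F).commutator_le (N.comap π) hfix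
    rw [hperf, top_le_iff] at hle
    rw [eq_top_iff]
    intro x _
    obtain ⟨g, rfl⟩ := hπs x
    have : g ∈ N.comap π := by rw [hle]; exact Subgroup.mem_top g
    exact this

end Cfsg.Agent.S0270
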