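import Cfsg.Statements.S5645
import Cfsg.Agent.Helper7.SpMaxA
import Cfsg.Agent.S0270

set_option autoImplicit false
open Cfsg

namespace Cfsg.Agent.S5645

open Matrix Cfsg.Agent.Helper7.Symp Cfsg.Agent.Helper7.SpMax

/-- The symplectic group inside the general linear group. -/
noncomputable def toGL (m : ℕ) (F : Type*) [Field F] :
    Matrix.symplecticGroup (Fin m) F →* Matrix.GeneralLinearGroup (Fin m ⊕ Fin m) F :=
  (Cfsg.spGL m F).subtype.comp (Cfsg.Agent.S0270.toSpGLHom m F)

theorem toGL_mem {F : Type*} [Field F] {m : ℕ} (A : Matrix.symplecticGroup (Fin m) F) :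
    toGL m F A ∈ Cfsg.spGL m F := (Cfsg.Agent.S0270.toSpGLHom m F A).2

theorem exists_toGL_eq {F : Type*} [Field F] {m : ℕ} {g : Matrix.GeneralLinearGroup (Fin m ⊕ Fin m) F}
    (hg : g ∈ Cfsg.spGL m F) : ∃ A, toGL m F A = g := by
  obtain ⟨A, hA⟩ := Cfsg.Agent.S0270.toSpGLHom_surjective ⟨g, hg⟩
  exact ⟨A, congrArg Subtype.val hA⟩

theorem toGL_mem_stab {F : Type*} [Field F] {m : ℕ} (W : Submodule F (Fin m ⊕ Fin m → F))
    (A : Matrix.symplecticGroup (Fin m) F) :
    toGL m F A ∈ Cfsg.Geo.subspaceStabilizer W ↔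
      ∀ v : Fin m ⊕ Fin m → F, v ∈ W ↔
        (A : Matrix (Fin m ⊕ Fin m) (Fin m ⊕ Fin m) F) *ᵥ v ∈ W := Iff.rfl

/-- For a finite field F and m ≥ 7, in the symplectic group Sp_2m(F) of the standard alternating form on F^(2m) (as a subgroup of GL_2m(F)), the stabiliser of any non-zero subspace on which the form vanishes identically is a maximal subgroup. -/
theorem result {F : Type*} [Field F] [Fintype F] (m : ℕ) (hm : 7 ≤ m) (W : Submodule F (Fin m ⊕ Fin m → F)) (hW0 : W ≠ ⊥) (hW : Cfsg.Geo.IsTotallySingularFor (Cfsg.sympForm m F) W) : Cfsg.Geo.IsMaximalIn (Cfsg.spGL m F) (Cfsg.Geo.subspaceStabilizer W ⊓ Cfsg.spGL m F) := by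
  refine ⟨lt_of_le_not_ge inf_le_right ?_, ?_⟩
  · -- properness
    intro hle
    obtain ⟨w, hwW, hw0⟩ := (Submodule.ne_bot_iff W).mp hW0
    obtain ⟨x, hx⟩ := exists_sympForm_ne_zero hw0
    have hxW : x ∉ W := fun h => hx (hW w hwW x h)
    have hx0 : x ≠ 0 := by
      rintro rfl
      exact hxW W.zero_mem
    obtain ⟨g, _, hg⟩ := exists_mem_mulVec_eq hw0 hx0
    have h1 : toGL m F g ∈ Cfsg.Geo.subspaceStabilizer W := (hle (toGL_mem g)).1
    rw [toGL_mem_stab] at h1
    have := (h1 w).mp hwW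
    rw [hg] at this
    exact hxW this
  · intro M hPM hMG
    have key := stab_or_top W hW (M.comap (toGL m F)) (by
      intro A hA
      rw [Subgroup.mem_comap]
      exact hPM ⟨(toGL_mem_stab W A).mpr hA, toGL_mem A⟩)
    rcases key with h | h
    · left
      apply le_antisymm _ hPM
      intro g hg
      obtain ⟨A, rfl⟩ := exists_toGL_eq (hMG hg)
      exact ⟨(toGL_mem_stab W A).mpr (h A (Subgroup.mem_comap.mpr hg)), hMG hg⟩
    · right
      apply le_antisymm hMG
      intro g hg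
      obtain ⟨A, rfl⟩ := exists_toGL_eq hg
      have : A ∈ M.comap (toGL m F) := by rw [h]; exact Subgroup.mem_top A
      exact this

end Cfsg.Agent.S5645
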