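import Cfsg.Statements.S5653
import Cfsg.Agent.Helper7.SUMaxA

set_option autoImplicit false
open Cfsg

namespace Cfsg.Agent.S5653

open Matrix Cfsg.Agent.Helper7.Herm Cfsg.Agent.Helper8.GUOrder Cfsg.Agent.Helper8.SURoot
  Cfsg.Agent.Helper8.AutSU Cfsg.Agent.Helper7.SUSimp Cfsg.Agent.Helper7.SUMax

/-- The special unitary group inside the general linear group. -/
def toGL (n : ℕ) (F : Type*) [Field F] [Fintype F] (q : ℕ) :
    SU n F q →* Matrix.GeneralLinearGroup (Fin n) F :=
  (Cfsg.GU n F q).subtype.comp toGU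

theorem toGL_mem {F : Type*} [Field F] [Fintype F] {n q : ℕ} (A : SU n F q) :
    toGL n F q A ∈ Cfsg.GU n F q ⊓ Cfsg.Geo.specialLinear (Fin n) F := by
  refine ⟨(toGU A).2, ?_⟩
  show Matrix.GeneralLinearGroup.det (toGL n F q A) = 1
  apply Units.ext
  exact A.1.2

theorem exists_toGL_eq {F : Type*} [Field F] [Fintype F] {n q : ℕ}
    {g : Matrix.GeneralLinearGroup (Fin n) F}
    (hg : g ∈ Cfsg.GU n F q ⊓ Cfsg.Geo.specialLinear (Fin n) F) : ∃ A, toGL n F q A = g := by
  obtain ⟨A, hA⟩ := exists_toGU_eq (g := (⟨g, hg.1⟩ : GU n F q)) hg.2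
  exact ⟨A, congrArg Subtype.val hA⟩

theorem toGL_mem_stab {F : Type*} [Field F] [Fintype F] {n q : ℕ} (W : Submodule F (Fin n → F))
    (A : SU n F q) :
    toGL n F q A ∈ Cfsg.Geo.subspaceStabilizer W ↔
      ∀ v : Fin n → F, v ∈ W ↔ mt A *ᵥ v ∈ W := Iff.rfl

/-- Let F be the field with q² elements and n ≥ 13, and let SU_n(q) be the group of matrices of determinant one preserving the standard unitary form Σ u_i v_i^q on F^n (the intersection of the unitary group GU_n with the kernel of the determinant). The elements of SU_n(q) stabilising a non-zero subspace on which the form vanishes identically form a maximal subgroup of SU_n(q). -/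
theorem result {F : Type*} [Field F] [Fintype F] (n q : ℕ) (hF : Fintype.card F = q ^ 2) (hn : 13 ≤ n) (W : Submodule F (Fin n → F)) (hW0 : W ≠ ⊥) (hW : Cfsg.Geo.IsTotallySingularFor (Cfsg.hermForm n F q) W) : Cfsg.Geo.IsMaximalIn (Cfsg.GU n F q ⊓ Cfsg.Geo.specialLinear (Fin n) F) (Cfsg.Geo.subspaceStabilizer W ⊓ (Cfsg.GU n F q ⊓ Cfsg.Geo.specialLinear (Fin n) F)) := by
  haveI : Fact (Fintype.card F = q ^ 2) := ⟨hF⟩
  refine ⟨lt_of_le_not_ge inf_le_right ?_, ?_⟩
  · -- properness
    intro hle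
    obtain ⟨w, hwW, hw0⟩ := (Submodule.ne_bot_iff W).mp hW0
    have hww : hermForm n F q w w = 0 := hW w hwW w hwW
    obtain ⟨x, hx, hwx⟩ := exists_partner hw0 hww
    have hxW : x ∉ W := by
      intro h
      rw [hW w hwW x h] at hwx
      exact zero_ne_one hwx
    have hx0 : x ≠ 0 := by
      rintro rfl
      exact hxW W.zero_mem
    obtain ⟨k, rfl⟩ : ∃ k, n = k + 2 := ⟨n - 2, by omega⟩
    obtain ⟨g, c, hc, hg⟩ := exists_SU_point hw0 hww hx0 hx
    have h1 : toGL (k + 2) F q g ∈ Cfsg.Geo.subspaceStabilizer W := (hle (toGL_mem g)).1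
    rw [toGL_mem_stab] at h1
    have := (h1 w).mp hwW
    rw [hg] at this
    apply hxW
    have h2 := W.smul_mem c⁻¹ this
    rwa [smul_smul, inv_mul_cancel₀ hc, one_smul] at h2
  · intro M hPM hMG
    have key := stab_or_top (q := q) (by omega) (by omega) W hW (M.comap (toGL n F q)) (by
      intro A hA
      rw [Subgroup.mem_comap]
      exact hPM ⟨(toGL_mem_stab W A).mpr hA, toGL_mem A⟩)
    rcases key with h | h
    · left
      apply le_antisymm _ hPM
      intro g hg
      obtain ⟨A, rfl⟩ := exists_toGL_eq (hMG hg)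
      exact ⟨(toGL_mem_stab W A).mpr (h A (Subgroup.mem_comap.mpr hg)), hMG hg⟩
    · right
      apply le_antisymm hMG
      intro g hg
      obtain ⟨A, rfl⟩ := exists_toGL_eq hg
      have : A ∈ M.comap (toGL n F q) := by rw [h]; trivial
      exact this

end Cfsg.Agent.S5653
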