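import Mathlib
import Cfsg.Agent.Helper5.WeaklyClosed
import Cfsg.Agent.Helper5.PGroupCenter
import Cfsg.Agent.Helper5.Misc
import Cfsg.Agent.Helper5.Cores
import Cfsg.Agent.Helper4.PCore
import Cfsg.Statements.S2844
-- import your own Cfsg.Agent.* helpers here

set_option autoImplicit false
open Cfsg Cfsg.Agent.Helper5

namespace Cfsg.Agent.S2844

theorem large_normalizer_le {H : Type*} [Group H] [Finite H] {p : ℕ} [Fact p.Prime] (Q : Subgroup H)
    (hQ1 : Q ≠ ⊥) (hL : Cfsg.IsLarge Q) (T : Subgroup H) (hT : IsPGroup p ↥T) (hQT : Q ≤ T) :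
    Subgroup.normalizer (T : Set H) ≤ Subgroup.normalizer (Q : Set H) := by
  have hT1 : T ≠ ⊥ := fun h => hQ1 (le_bot_iff.mp (h ▸ hQT))
  obtain ⟨x, hxT, hxo, hxc⟩ := exists_orderOf_eq_prime_central T T hT le_rfl hT1 Subgroup.le_normalizer
  set U := T ⊓ Subgroup.centralizer (T : Set H) with hU
  have hxU : x ∈ U := ⟨hxT, by
    show x ∈ Subgroup.centralizer (T : Set H)
    rw [Subgroup.mem_centralizer_iff]; intro t ht; exact hxc t ht⟩
  have hU1 : U ≠ ⊥ := by
    intro h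
    rw [h, Subgroup.mem_bot] at hxU
    rw [hxU, orderOf_one] at hxo
    exact (Fact.out : p.Prime).one_lt.ne hxo
  have hUC : U ≤ Subgroup.centralizer (Q : Set H) := inf_le_right.trans (Subgroup.centralizer_le hQT)
  refine le_trans ?_ (hL.2 U hUC hU1)
  apply le_normalizer_of_conj_mem
  intro n hn y hy
  have hn' := Subgroup.mem_normalizer_iff.mp hn
  refine ⟨(hn' y).mp hy.1, ?_⟩
  show n * y * n⁻¹ ∈ Subgroup.centralizer (T : Set H)
  rw [Subgroup.mem_centralizer_iff]
  intro t ht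
  have ht' : n⁻¹ * t * n ∈ T := by
    rw [hn' (n⁻¹ * t * n)]
    have : n * (n⁻¹ * t * n) * n⁻¹ = t := by group
    rw [this]; exact ht
  have hy2 := (Subgroup.mem_centralizer_iff.mp hy.2) _ ht'
  calc t * (n * y * n⁻¹) = n * ((n⁻¹ * t * n) * y) * n⁻¹ := by group
    _ = n * (y * (n⁻¹ * t * n)) * n⁻¹ := by rw [hy2]
    _ = n * y * n⁻¹ * t := by group

theorem large_weaklyClosed {H : Type*} [Group H] [Finite H] {p : ℕ} [Fact p.Prime] (Q : Subgroup H)
    (hQp : IsPGroup p ↥Q) (hQ1 : Q ≠ ⊥) (hL : Cfsg.IsLarge Q) : Cfsg.IsWeaklyClosedSubgroup p Q := by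
  obtain ⟨T, hQT⟩ := hQp.exists_le_sylow
  refine ⟨T, hQT, fun g hg => ?_⟩
  have hN := large_normalizer_le Q hQ1 hL T T.2 hQT
  have hTN : (T : Subgroup H) ≤ Subgroup.normalizer (Q : Set H) := Subgroup.le_normalizer.trans hN
  have hQT' : Q ≤ ((g⁻¹ • T : Sylow p H) : Subgroup H) := by
    intro x hx
    rw [sylow_mem_smul_iff, inv_inv]
    exact (map_conj_le_iff Q T g).mp hg x hx
  have hN' := large_normalizer_le Q hQ1 hL _ (g⁻¹ • T).2 hQT'
  have hT'N : ((g⁻¹ • T : Sylow p H) : Subgroup H) ≤ Subgroup.normalizer (Q : Set H) :=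
    Subgroup.le_normalizer.trans hN'
  obtain ⟨k, hk, hkT⟩ := exists_conj_le_sylow_of_le T (Subgroup.normalizer (Q : Set H)) hTN _ hT'N (g⁻¹ • T).2
  have h1 : k * g⁻¹ ∈ Subgroup.normalizer ((T : Subgroup H) : Set H) := by
    apply mem_normalizer_of_conj_mem
    intro x hx
    have h2 : g⁻¹ * x * g ∈ ((g⁻¹ • T : Sylow p H) : Subgroup H) := by
      rw [sylow_mem_smul_iff, inv_inv]
      have : g * (g⁻¹ * x * g) * g⁻¹ = x := by group
      rw [this]; exact hx
    have h3 := hkT _ h2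
    have : k * g⁻¹ * x * (k * g⁻¹)⁻¹ = k * (g⁻¹ * x * g) * k⁻¹ := by group
    rw [this]; exact h3
  have h4 : k * g⁻¹ ∈ Subgroup.normalizer (Q : Set H) := hN h1
  have h5 : g ∈ Subgroup.normalizer (Q : Set H) := by
    have : g = (k * g⁻¹)⁻¹ * k := by group
    rw [this]; exact mul_mem (inv_mem h4) hk
  exact (mem_normalizer_iff_map_conj Q g).mp h5

/-- Let Q be a nontrivial large p-subgroup of the finite group H and Q• = O_p(N_H(Q)). Then for every g ∈ H outside N_H(Q): C_H(Q) ∩ C_H(gQg⁻¹) = 1, C_H(Q•) ∩ C_H(gQ•g⁻¹) = 1, Z(Q) ∩ Z(gQg⁻¹) = 1 and Z(Q•) ∩ Z(gQ•g⁻¹) = 1; moreover N_H(Q) = N_H(Q•) and Q• is large in H. -/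
theorem result {H : Type*} [Group H] [Finite H] {p : ℕ} [Fact p.Prime] (Q : Subgroup H) (hQp : IsPGroup p ↥Q) (hQ1 : Q ≠ ⊥) (hL : Cfsg.IsLarge Q) (Qb : Subgroup H) (hQb : Qb = Cfsg.largeBullet p Q) : (∀ g : H, g ∉ Subgroup.normalizer ((Q : Subgroup H) : Set H) → Subgroup.centralizer ((Q : Subgroup H) : Set H) ⊓ Subgroup.centralizer ((((Q : Subgroup H).map (MulAut.conj (g : H)).toMonoidHom) : Subgroup H) : Set H) = ⊥ ∧ Subgroup.centralizer ((Qb : Subgroup H) : Set H) ⊓ Subgroup.centralizer ((((Qb : Subgroup H).map (MulAut.conj (g : H)).toMonoidHom) : Subgroup H) : Set H) = ⊥ ∧ (Q ⊓ Subgroup.centralizer ((Q : Subgroup H) : Set H)) ⊓ (((Q : Subgroup H).map (MulAut.conj (g : H)).toMonoidHom) ⊓ Subgroup.centralizer ((((Q : Subgroup H).map (MulAut.conj (g : H)).toMonoidHom) : Subgroup H) : Set H)) = ⊥ ∧ (Qb ⊓ Subgroup.centralizer ((Qb : Subgroup H) : Set H)) ⊓ (((Qb : Subgroup H).map (MulAut.conj (g : H)).toMonoidHom) ⊓ Subgroup.centralizer ((((Qb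 : Subgroup H).map (MulAut.conj (g : H)).toMonoidHom) : Subgroup H) : Set H)) = ⊥) ∧ Subgroup.normalizer ((Q : Subgroup H) : Set H) = Subgroup.normalizer ((Qb : Subgroup H) : Set H) ∧ Cfsg.IsLarge Qb := by
  have hwc := large_weaklyClosed Q hQp hQ1 hL
  set N := Subgroup.normalizer (Q : Set H) with hN
  have hQbdef : Qb = (Cfsg.pCore p ↥N).map N.subtype := by rw [hQb]; rfl
  have hQbp : IsPGroup p ↥Qb := by rw [hQbdef]; exact (isPGroup_pCore p).map _
  have hQQb : Q ≤ Qb := by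
    have hn : (Q.subgroupOf N).Normal := Subgroup.normal_in_normalizer
    have h1 := le_pCore hn (hQp.comap_subtype)
    intro x hx
    rw [hQbdef]
    exact ⟨⟨x, Subgroup.le_normalizer hx⟩, h1 (Subgroup.mem_subgroupOf.mpr hx), rfl⟩
  have hNQb : N ≤ Subgroup.normalizer (Qb : Set H) := by
    rw [hQbdef]
    have hn : (Cfsg.pCore p ↥N).Normal := Cfsg.Agent.Helper4.pCore_normal
    have h1 := Subgroup.le_normalizer_map (H := Cfsg.pCore p ↥N) N.subtype
    rw [Subgroup.normalizer_eq_top, ← MonoidHom.range_eq_map, Subgroup.range_subtype] at h1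
    exact h1
  have hQbN' : Subgroup.normalizer (Qb : Set H) ≤ N := by
    intro g hg
    rw [hN, mem_normalizer_iff_map_conj]
    apply IsWeaklyClosedSubgroup.conj_eq_of_le_pgroup hwc Qb hQbp hQQb g
    rw [mem_normalizer_iff_map_conj] at hg
    rw [← hg]; exact Subgroup.map_mono hQQb
  have hNeq : N = Subgroup.normalizer (Qb : Set H) := le_antisymm hNQb hQbN'
  have key : ∀ g : H, g ∉ N → Subgroup.centralizer (Q : Set H) ⊓
      Subgroup.centralizer ((Q.map (MulAut.conj g).toMonoidHom : Subgroup H) : Set H) = ⊥ := by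
    intro g hg
    by_contra hne
    apply hg
    set U := Subgroup.centralizer (Q : Set H) ⊓
      Subgroup.centralizer ((Q.map (MulAut.conj g).toMonoidHom : Subgroup H) : Set H) with hU
    have h1 : Subgroup.normalizer (U : Set H) ≤ N := hL.2 U inf_le_left hne
    have h2 : Q.map (MulAut.conj g).toMonoidHom ≤ N := by
      intro y hy
      apply h1
      apply Subgroup.centralizer_le_normalizer
      rw [Subgroup.mem_centralizer_iff]
      intro u hu
      have h3 := (Subgroup.mem_centralizer_iff.mp hu.2) y hy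
      exact h3.symm
    have h3 : IsPGroup p ↥(Q.map (MulAut.conj g).toMonoidHom ⊔ Q : Subgroup H) :=
      IsPGroup.to_sup_of_normal_right' (hQp.map _) hQp h2
    have h4 := IsWeaklyClosedSubgroup.conj_eq_of_le_pgroup hwc _ h3 le_sup_right g le_sup_left
    rw [hN, mem_normalizer_iff_map_conj]
    exact h4
  refine ⟨fun g hg => ⟨key g hg, ?_, ?_, ?_⟩, hNeq, ?_, ?_⟩
  · rw [eq_bot_iff, ← key g hg]
    exact inf_le_inf (Subgroup.centralizer_le hQQb) (Subgroup.centralizer_le (Subgroup.map_mono hQQb))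
  · rw [eq_bot_iff, ← key g hg]
    exact inf_le_inf inf_le_right inf_le_right
  · rw [eq_bot_iff, ← key g hg]
    exact inf_le_inf (inf_le_right.trans (Subgroup.centralizer_le hQQb))
      (inf_le_right.trans (Subgroup.centralizer_le (Subgroup.map_mono hQQb)))
  · exact (Subgroup.centralizer_le hQQb).trans (hL.1.trans hQQb)
  · intro U hU hU1
    rw [← hNeq]
    exact hL.2 U (hU.trans (Subgroup.centralizer_le hQQb)) hU1

end Cfsg.Agent.S2844
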