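import Mathlib
import Cfsg.Agent.Helper5.WeaklyClosed
import Cfsg.Agent.Helper5.PResidual
import Cfsg.Agent.Helper1.Subnormal
import Cfsg.Statements.S2839
-- import your own Cfsg.Agent.* helpers here

set_option autoImplicit false
open Cfsg Cfsg.Agent.Helper5

namespace Cfsg.Agent.S2839

theorem map_conj_map_hom {G G' : Type*} [Group G] [Group G'] (f : G →* G') (Q : Subgroup G) (g : G) :
    (Q.map f).map (MulAut.conj (f g)).toMonoidHom = (Q.map (MulAut.conj g).toMonoidHom).map f := by
  rw [Subgroup.map_map, Subgroup.map_map]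
  congr 1
  ext x
  simp

/-- Let Q be a nontrivial p-subgroup of the finite group H that is a weakly closed subgroup, K a subgroup containing Q and N a normal subgroup of H. Then Q is a weakly closed subgroup of K; every H-conjugate of Q contained in K is a K-conjugate of Q; N_K(Q) contains a Sylow p-subgroup of K; N = N_N(Q)·O^p(N); and QN/N is a weakly closed subgroup of H/N. -/
theorem result {H : Type*} [Group H] [Finite H] {p : ℕ} [Fact p.Prime] (Q : Subgroup H) (hQp : IsPGroup p ↥Q) (hQ1 : Q ≠ ⊥) (hwc : Cfsg.IsWeaklyClosedSubgroup p Q) (K : Subgroup H) (hQK : Q ≤ K) (N' : Subgroup H) [N'.Normal] : Cfsg.IsWeaklyClosedSubgroup p (Q.subgroupOf K) ∧ (∀ g : H, ((Q : Subgroup H).map (MulAut.conj (g : H)).toMonoidHom) ≤ K → ∃ k ∈ K, ((Q : Subgroup H).map (MulAut.conj (g : H)).toMonoidHom) = ((Q : Subgroup H).map (MulAut.conj (k : H)).toMonoidHom)) ∧ Cfsg.IsParabolic p ((Subgroup.normalizer ((Q : Subgroup H) : Set H)).subgroupOf K) ∧ (N' ⊓ Subgroup.normalizer ((Q : Subgroup H) : Set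 H)) ⊔ (Cfsg.pResidual p ↥N').map N'.subtype = N' ∧ Cfsg.IsWeaklyClosedSubgroup p (Q.map (QuotientGroup.mk' N')) := by
  have hQK' : IsPGroup p ↥(Q.subgroupOf K) := hQp.comap_subtype
  obtain ⟨TK, hTK⟩ := hQK'.exists_le_sylow
  set R : Subgroup H := (TK : Subgroup K).map K.subtype with hRdef
  have hR : IsPGroup p ↥R := TK.2.map _
  have hQR : Q ≤ R := by
    intro x hx
    exact ⟨⟨x, hQK hx⟩, hTK (by rw [Subgroup.mem_subgroupOf]; exact hx), rfl⟩
  refine ⟨⟨TK, hTK, fun k hk => ?_⟩, ?_, ⟨TK, ?_⟩, ?_, ?_⟩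
  · -- part 1
    have h1 : Q.map (MulAut.conj (k : H)).toMonoidHom ≤ R := by
      rw [map_conj_le_iff]
      intro x hx
      have h2 : (⟨x, hQK hx⟩ : K) ∈ Q.subgroupOf K := by rw [Subgroup.mem_subgroupOf]; exact hx
      have h3 := hk (conj_mem_map_conj _ k _ h2)
      exact ⟨_, h3, by simp⟩
    have h4 := IsWeaklyClosedSubgroup.conj_eq_of_le_pgroup hwc R hR hQR (k : H) h1
    ext y
    rw [mem_map_conj_iff, Subgroup.mem_subgroupOf, Subgroup.mem_subgroupOf]
    have h5 := mem_map_conj_iff Q (k : H) (y : H)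
    rw [h4] at h5
    rw [h5]
    simp
  · exact fun g hg => IsWeaklyClosedSubgroup.exists_conj_in hwc hQp K hQK g hg
  · -- part 3
    intro y hy
    rw [Subgroup.mem_subgroupOf]
    have h1 : (y : H) ∈ R := ⟨y, hy, rfl⟩
    exact IsWeaklyClosedSubgroup.normalizer_le hwc R hR hQR (Subgroup.le_normalizer h1)
  · -- part 4
    obtain ⟨T, hQT⟩ := hQp.exists_le_sylow
    have hwcT := IsWeaklyClosedSubgroup.of_sylow hwc T hQT
    have hsub : N'.IsSubnormal := Subgroup.Normal.isSubnormal inferInstance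
    obtain ⟨P, hP⟩ := Cfsg.Agent.Helper1.sylow_inf_subnormal p N' hsub T
    have h1 := pResidual_sup_sylow P
    apply le_antisymm
    · apply sup_le inf_le_left
      rintro _ ⟨y, -, rfl⟩; exact y.2
    · intro n hn
      have h2 : (⟨n, hn⟩ : N') ∈ (⊤ : Subgroup N') := Subgroup.mem_top _
      rw [← h1] at h2
      have h3 : n ∈ ((Cfsg.pResidual p ↥N') ⊔ (P : Subgroup N')).map N'.subtype := ⟨_, h2, rfl⟩
      rw [Subgroup.map_sup] at h3
      refine (sup_le ?_ ?_ : _ ≤ (N' ⊓ Subgroup.normalizer (Q : Set H)) ⊔ (Cfsg.pResidual p ↥N').map N'.subtype) h3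
      · exact le_sup_right
      · refine le_trans ?_ le_sup_left
        rintro _ ⟨y, hy, rfl⟩
        rw [hP] at hy
        have hy : (y : H) ∈ (T : Subgroup H) := Subgroup.mem_subgroupOf.mp hy
        refine ⟨y.2, ?_⟩
        show (y : H) ∈ Subgroup.normalizer (Q : Set H)
        rw [mem_normalizer_iff_map_conj]
        apply hwcT.2
        rw [map_conj_le_iff]
        intro x hx
        exact (T : Subgroup H).mul_mem ((T : Subgroup H).mul_mem hy (hQT hx)) ((T : Subgroup H).inv_mem hy)
  · -- part 5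
    obtain ⟨T, hQT⟩ := hQp.exists_le_sylow
    have hwcT := IsWeaklyClosedSubgroup.of_sylow hwc T hQT
    have hsurj : Function.Surjective (QuotientGroup.mk' N') := QuotientGroup.mk'_surjective N'
    refine ⟨T.mapSurjective hsurj, ?_, fun gbar hg => ?_⟩
    · rw [Sylow.coe_mapSurjective]
      exact Subgroup.map_mono hQT
    · obtain ⟨g, rfl⟩ := hsurj gbar
      rw [Sylow.coe_mapSurjective] at hg
      have h1 : Q.map (MulAut.conj g).toMonoidHom ≤ (T : Subgroup H) ⊔ N' := by
        rw [map_conj_le_iff]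
        intro x hx
        have h2 : (QuotientGroup.mk' N') (g * x * g⁻¹) ∈ (T : Subgroup H).map (QuotientGroup.mk' N') := by
          apply hg
          refine ⟨(QuotientGroup.mk' N') x, Subgroup.mem_map_of_mem _ hx, ?_⟩
          simp
        have h3 : g * x * g⁻¹ ∈ ((T : Subgroup H).map (QuotientGroup.mk' N')).comap (QuotientGroup.mk' N') := h2
        rw [Subgroup.comap_map_eq, QuotientGroup.ker_mk'] at h3
        exact h3
      obtain ⟨k, hk, hkT⟩ := exists_conj_le_sylow_of_le T ((T : Subgroup H) ⊔ N') le_sup_left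
        (Q.map (MulAut.conj g).toMonoidHom) h1 (hQp.map _)
      rw [Subgroup.mem_sup_of_normal_right] at hk
      obtain ⟨t, ht, n, hn, rfl⟩ := hk
      have h4 : Q.map (MulAut.conj (n * g)).toMonoidHom ≤ (T : Subgroup H) := by
        rw [map_conj_le_iff]
        intro x hx
        have h5 := hkT _ (conj_mem_map_conj Q g x hx)
        have h6 : n * g * x * (n * g)⁻¹ = t⁻¹ * (t * n * (g * x * g⁻¹) * (t * n)⁻¹) * t := by group
        rw [h6]
        exact (T : Subgroup H).mul_mem ((T : Subgroup H).mul_mem ((T : Subgroup H).inv_mem ht) h5) ht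
      have h7 := hwcT.2 (n * g) h4
      have h8 : (QuotientGroup.mk' N') g = (QuotientGroup.mk' N') (n * g) := by
        rw [map_mul]
        have : (QuotientGroup.mk' N') n = 1 := by
          rw [QuotientGroup.mk'_apply, QuotientGroup.eq_one_iff]; exact hn
        rw [this, one_mul]
      rw [h8, map_conj_map_hom, h7]

end Cfsg.Agent.S2839
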