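import Mathlib
import Cfsg.Agent.Helper5.WeaklyClosed
import Cfsg.Agent.S2839
import Cfsg.Statements.S2840
-- import your own Cfsg.Agent.* helpers here

set_option autoImplicit false
open Cfsg Cfsg.Agent.Helper5

namespace Cfsg.Agent.S2840

theorem conj_le_of_subnormal {H : Type*} [Group H] [Finite H] {p : ℕ} [Fact p.Prime] {Q : Subgroup H}
    (hwc : Cfsg.IsWeaklyClosedSubgroup p Q) (hQp : IsPGroup p ↥Q) (S : Subgroup H) (hS : S.IsSubnormal) :
    Q ≤ S → ∀ h : H, Q.map (MulAut.conj h).toMonoidHom ≤ S := by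
  induction hS with
  | top => intro _ h; exact le_top
  | step S S₁ hle hsub hn ih =>
    intro hQS h
    have h1 := ih (hQS.trans hle) h
    obtain ⟨s, hs, hseq⟩ := IsWeaklyClosedSubgroup.exists_conj_in hwc hQp S₁ (hQS.trans hle) h h1
    rw [hseq, map_conj_le_iff]
    intro x hx
    have h2 : (⟨x, hle (hQS hx)⟩ : S₁) ∈ S.subgroupOf S₁ := by
      rw [Subgroup.mem_subgroupOf]; exact hQS hx
    have h3 := hn.conj_mem _ h2 ⟨s, hs⟩
    rw [Subgroup.mem_subgroupOf] at h3
    simpa using h3

/-- Let Q be a nontrivial p-subgroup of the finite group H that is a weakly closed subgroup and K a subgroup containing Q; let K° be the weak closure of Q in K (generated by the H-conjugates of Q inside K). Then K° is generated by the K-conjugates of Q, and K° is the subnormal closure of Q in K. -/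
theorem result {H : Type*} [Group H] [Finite H] {p : ℕ} [Fact p.Prime] (Q : Subgroup H) (hQp : IsPGroup p ↥Q) (hQ1 : Q ≠ ⊥) (hwc : Cfsg.IsWeaklyClosedSubgroup p Q) (K : Subgroup H) (hQK : Q ≤ K) (Kc : Subgroup H) (hKc : Kc = Cfsg.weakClosure Q K) : Kc = ⨆ k : ↥K, ((Q : Subgroup H).map (MulAut.conj ((k : H) : H)).toMonoidHom) ∧ Kc = (Cfsg.subnormalClosure (Q.subgroupOf K)).map K.subtype := by
  have hp1 : Kc = ⨆ k : ↥K, ((Q : Subgroup H).map (MulAut.conj ((k : H) : H)).toMonoidHom) := by
    rw [hKc]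
    unfold Cfsg.weakClosure
    apply le_antisymm
    · apply iSup_le
      rintro ⟨g, hg⟩
      obtain ⟨k, hk, hkeq⟩ := IsWeaklyClosedSubgroup.exists_conj_in hwc hQp K hQK g hg
      show Q.map (MulAut.conj g).toMonoidHom ≤ _
      rw [hkeq]
      exact le_iSup (fun k : ↥K => (Q : Subgroup H).map (MulAut.conj ((k : H) : H)).toMonoidHom) ⟨k, hk⟩
    · apply iSup_le
      intro k
      have hk : Q.map (MulAut.conj (k : H)).toMonoidHom ≤ K := by
        rw [map_conj_le_iff]
        intro x hx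
        exact K.mul_mem (K.mul_mem k.2 (hQK hx)) (K.inv_mem k.2)
      exact le_iSup (fun g : {g : H // Q.map (MulAut.conj g).toMonoidHom ≤ K} => Q.map (MulAut.conj (g : H)).toMonoidHom) ⟨k, hk⟩
  refine ⟨hp1, ?_⟩
  have hwcK : Cfsg.IsWeaklyClosedSubgroup p (Q.subgroupOf K) :=
    (Cfsg.Agent.S2839.result Q hQp hQ1 hwc K hQK ⊤).1
  have hQK' : IsPGroup p ↥(Q.subgroupOf K) := hQp.comap_subtype
  rw [hp1]
  apply le_antisymm
  · apply iSup_le
    intro k
    rw [map_conj_le_iff]
    intro x hx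
    have h2 : (⟨x, hQK hx⟩ : K) ∈ Q.subgroupOf K := by rw [Subgroup.mem_subgroupOf]; exact hx
    refine ⟨k * ⟨x, hQK hx⟩ * k⁻¹, ?_, by simp⟩
    unfold Cfsg.subnormalClosure
    rw [SetLike.mem_coe, Subgroup.mem_sInf]
    rintro S ⟨hQS, hS⟩
    exact conj_le_of_subnormal hwcK hQK' S hS hQS k (conj_mem_map_conj _ k _ h2)
  · set N : Subgroup H := ⨆ k : ↥K, ((Q : Subgroup H).map (MulAut.conj ((k : H) : H)).toMonoidHom) with hN
    have hNn : (N.subgroupOf K).Normal := by
      constructor
      intro n hn k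
      rw [Subgroup.mem_subgroupOf] at hn ⊢
      have h3 : (k : H) * n * (k : H)⁻¹ ∈ N.map (MulAut.conj (k : H)).toMonoidHom :=
        conj_mem_map_conj N _ _ hn
      have h4 : N.map (MulAut.conj (k : H)).toMonoidHom ≤ N := by
        rw [hN, Subgroup.map_iSup]
        apply iSup_le
        intro k'
        rw [map_conj_map_conj]
        exact le_iSup (fun k : ↥K => (Q : Subgroup H).map (MulAut.conj ((k : H) : H)).toMonoidHom) (k * k')
      simpa using h4 h3
    have hQN : Q ≤ N := by
      have := le_iSup (fun k : ↥K => (Q : Subgroup H).map (MulAut.conj ((k : H) : H)).toMonoidHom) 1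
      have h0 : (Q : Subgroup H).map (MulAut.conj (((1 : ↥K) : H) : H)).toMonoidHom = Q := by
        rw [Subgroup.coe_one, map_conj_one]
      rw [← h0]
      exact this
    have h5 : Cfsg.subnormalClosure (Q.subgroupOf K) ≤ N.subgroupOf K := by
      unfold Cfsg.subnormalClosure
      apply sInf_le
      refine ⟨?_, hNn.isSubnormal⟩
      intro x hx
      rw [Subgroup.mem_subgroupOf] at hx ⊢
      exact hQN hx
    rintro _ ⟨y, hy, rfl⟩
    exact Subgroup.mem_subgroupOf.mp (h5 hy)

end Cfsg.Agent.S2840
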