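import Mathlib
import Cfsg.Agent.Helper5.LargeSub2
import Cfsg.Agent.S2840
import Cfsg.Statements.S2845
-- import your own Cfsg.Agent.* helpers here

set_option autoImplicit false
open Cfsg Cfsg.Agent.Helper5

namespace Cfsg.Agent.S2845

theorem coe_mem_centralizer_map {H : Type*} [Group H] (L : Subgroup H) (K : Subgroup ↥L) (x : ↥L)
    (hx : x ∈ Subgroup.centralizer (K : Set ↥L)) :
    (x : H) ∈ Subgroup.centralizer ((K.map L.subtype : Subgroup H) : Set H) := by
  rw [Subgroup.mem_centralizer_iff]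
  rintro _ ⟨y, hy, rfl⟩
  have h1 := (Subgroup.mem_centralizer_iff.mp hx) y hy
  have h2 := congrArg Subtype.val h1
  simpa using h2

theorem charP_of_isPGroup_centralizer {H : Type*} [Group H] [Finite H] {p : ℕ} [Fact p.Prime] (L : Subgroup H)
    (hD : IsPGroup p ↥(Subgroup.centralizer (((Cfsg.pCore p ↥L).map L.subtype : Subgroup H) : Set H))) :
    Subgroup.centralizer (Cfsg.pCore p ↥L : Set ↥L) ≤ Cfsg.pCore p ↥L := by
  have hn : (Cfsg.pCore p ↥L).Normal := Cfsg.Agent.Helper4.pCore_normal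
  have hCn : (Subgroup.centralizer (Cfsg.pCore p ↥L : Set ↥L)).Normal := Subgroup.normal_centralizer
  apply le_pCore hCn
  intro x
  have hx := coe_mem_centralizer_map L _ x.1 x.2
  obtain ⟨k, hk⟩ := hD ⟨_, hx⟩
  refine ⟨k, ?_⟩
  have h1 : ((x : ↥L) : H) ^ p ^ k = 1 := by
    have h0 := congrArg Subtype.val hk
    rw [Subgroup.coe_pow, Subgroup.coe_one] at h0
    exact h0
  apply Subtype.ext
  apply Subtype.ext
  rw [Subgroup.coe_pow, Subgroup.coe_pow, Subgroup.coe_one, Subgroup.coe_one]
  exact h1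

/-- Let Q be a nontrivial large p-subgroup of the finite group H. Then for every subgroup L ≥ Q with O_p(L) ≠ 1, C_H(O_p(L)) is a p-group and L has characteristic p, and either the weak closure L° of Q in L equals Q or C_H(L°) = 1; for every subgroup R of H containing a Sylow p-subgroup of H with O_p(R) ≠ 1, C_H(O_p(R)) ≤ O_p(R); and H has parabolic characteristic p. -/
theorem result {H : Type*} [Group H] [Finite H] {p : ℕ} [Fact p.Prime] (Q : Subgroup H) (hQp : IsPGroup p ↥Q) (hQ1 : Q ≠ ⊥) (hL : Cfsg.IsLarge Q) : (∀ L : Subgroup H, Q ≤ L → Cfsg.pCore p ↥L ≠ ⊥ → IsPGroup p ↥(Subgroup.centralizer (((Cfsg.pCoreOf p L) : Subgroup H) : Set H)) ∧ Subgroup.centralizer (Cfsg.pCore p ↥L : Set ↥L) ≤ Cfsg.pCore p ↥L ∧ (Cfsg.weakClosure Q L = Q ∨ Subgroup.centralizer (((Cfsg.weakClosure Q L) : Subgroup H) : Set H) = ⊥)) ∧ (∀ R : Subgroup H, Cfsg.IsParabolic p R → Cfsg.pCore p ↥R ≠ ⊥ → Subgroup.centralizer (((Cfsg.pCoreOf p R) : Subgroup H) : Set H) ≤ (Cfsg.pCoreOf p R)) ∧ Cfsg.IsOfParabolicCharacteristic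 p H := by
  have hwc := Cfsg.Agent.S2844.large_weaklyClosed Q hQp hQ1 hL
  have hA : ∀ L : Subgroup H, Q ≤ L → Cfsg.pCore p ↥L ≠ ⊥ →
      IsPGroup p ↥(Subgroup.centralizer (((Cfsg.pCoreOf p L) : Subgroup H) : Set H)) ∧
      Subgroup.centralizer (Cfsg.pCore p ↥L : Set ↥L) ≤ Cfsg.pCore p ↥L ∧
      (Cfsg.weakClosure Q L = Q ∨ Subgroup.centralizer (((Cfsg.weakClosure Q L) : Subgroup H) : Set H) = ⊥) := by
    intro L hQL hO
    have h1 := large_centralizer_pCoreOf_isPGroup Q hQp hL L hQL hO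
    refine ⟨h1, charP_of_isPGroup_centralizer L h1, ?_⟩
    by_cases hc : Subgroup.centralizer (((Cfsg.weakClosure Q L) : Subgroup H) : Set H) = ⊥
    · right; exact hc
    · left
      have hLo : Cfsg.weakClosure Q L = ⨆ k : ↥L, Q.map (MulAut.conj (k : H)).toMonoidHom :=
        (Cfsg.Agent.S2840.result Q hQp hQ1 hwc L hQL _ rfl).1
      set Lo := Cfsg.weakClosure Q L with hLodef
      have hQLo : Q ≤ Lo := by
        rw [hLo]
        have h1 := le_iSup (fun k : ↥L => Q.map (MulAut.conj (k : H)).toMonoidHom) 1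
        have h0 : Q.map (MulAut.conj (((1 : ↥L) : H) : H)).toMonoidHom = Q := by
          rw [Subgroup.coe_one, map_conj_one]
        exact le_of_eq_of_le h0.symm h1
      have hUQ : Subgroup.centralizer (Lo : Set H) ≤ Subgroup.centralizer (Q : Set H) :=
        Subgroup.centralizer_le hQLo
      have hN := hL.2 _ hUQ hc
      have hLoN : Lo ≤ Subgroup.normalizer (Q : Set H) := by
        refine le_trans ?_ hN
        refine le_trans ?_ (Subgroup.centralizer_le_normalizer _)
        exact Subgroup.le_centralizer_iff.mp le_rfl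
      apply le_antisymm _ hQLo
      rw [hLo]
      apply iSup_le
      intro l
      have h2 : Q.map (MulAut.conj (l : H)).toMonoidHom ≤ Subgroup.normalizer (Q : Set H) := by
        refine le_trans ?_ hLoN
        rw [hLo]
        exact le_iSup (fun k : ↥L => Q.map (MulAut.conj (k : H)).toMonoidHom) l
      have h3 : IsPGroup p ↥(Q.map (MulAut.conj (l : H)).toMonoidHom ⊔ Q : Subgroup H) :=
        IsPGroup.to_sup_of_normal_right' (hQp.map _) hQp h2
      have h4 := IsWeaklyClosedSubgroup.conj_eq_of_le_pgroup hwc _ h3 le_sup_right l le_sup_left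
      rw [h4]
  have hB : ∀ R : Subgroup H, Cfsg.IsParabolic p R → Cfsg.pCore p ↥R ≠ ⊥ →
      Subgroup.centralizer (((Cfsg.pCoreOf p R) : Subgroup H) : Set H) ≤ (Cfsg.pCoreOf p R) := by
    rintro R ⟨T, hTR⟩ hO
    obtain ⟨h, hh⟩ := exists_conj_le_sylow T Q hQp
    have hQ'T : Q.map (MulAut.conj h).toMonoidHom ≤ T := (map_conj_le_iff Q T h).mpr hh
    have hQ'p : IsPGroup p ↥(Q.map (MulAut.conj h).toMonoidHom) := hQp.map _
    have hL' := isLarge_map_conj Q hL h
    have hD := large_centralizer_pCoreOf_isPGroup _ hQ'p hL' R (hQ'T.trans hTR) hO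
    unfold Cfsg.pCoreOf
    set Y := (Cfsg.pCore p ↥R).map R.subtype with hY
    set D := Subgroup.centralizer (Y : Set H) with hDdef
    have hRNY : R ≤ Subgroup.normalizer (Y : Set H) := by
      have hn : (Cfsg.pCore p ↥R).Normal := Cfsg.Agent.Helper4.pCore_normal
      have h1 := Subgroup.le_normalizer_map (H := Cfsg.pCore p ↥R) R.subtype
      rw [Subgroup.normalizer_eq_top, ← MonoidHom.range_eq_map, Subgroup.range_subtype] at h1
      exact h1
    have hTND : (T : Subgroup H) ≤ Subgroup.normalizer (D : Set H) := by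
      apply le_normalizer_of_conj_mem
      intro t ht c hc
      exact conj_mem_centralizer_of_mem_normalizer Y t (hRNY (hTR ht)) c hc
    have hDT : IsPGroup p ↥((T : Subgroup H) ⊔ D : Subgroup H) :=
      IsPGroup.to_sup_of_normal_right' T.2 hD hTND
    have hDleT : D ≤ T := by
      have h2 := T.is_maximal' hDT le_sup_left
      rw [← h2]; exact le_sup_right
    have hDR : D ≤ R := hDleT.trans hTR
    have hDn : (D.subgroupOf R).Normal := by
      constructor
      intro n hn g
      rw [Subgroup.mem_subgroupOf] at hn ⊢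
      have := conj_mem_centralizer_of_mem_normalizer Y g (hRNY g.2) n hn
      simpa using this
    have h3 := le_pCore hDn hD.comap_subtype
    intro d hd
    exact ⟨⟨d, hDR hd⟩, h3 (Subgroup.mem_subgroupOf.mpr hd), rfl⟩
  refine ⟨hA, hB, ?_⟩
  intro R hRp hR1 hpar
  have hO : Cfsg.pCore p ↥(Subgroup.normalizer (R : Set H)) ≠ ⊥ := by
    have hn : (R.subgroupOf (Subgroup.normalizer (R : Set H))).Normal := Subgroup.normal_in_normalizer
    have h1 := le_pCore hn hRp.comap_subtype
    intro hbot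
    rw [hbot, le_bot_iff] at h1
    apply hR1
    rw [eq_bot_iff]
    intro x hx
    have h2 : (⟨x, Subgroup.le_normalizer hx⟩ : ↥(Subgroup.normalizer (R : Set H))) ∈
        R.subgroupOf (Subgroup.normalizer (R : Set H)) := Subgroup.mem_subgroupOf.mpr hx
    rw [h1, Subgroup.mem_bot] at h2
    have h3 := congrArg Subtype.val h2
    simpa using h3
  have hB' := hB _ hpar hO
  intro x hx
  have hxD := coe_mem_centralizer_map _ _ x hx
  obtain ⟨y, hy, hyx⟩ := hB' hxD
  have h4 : y = x := Subtype.ext hyx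
  rw [← h4]
  exact hy

end Cfsg.Agent.S2845
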