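import Mathlib
import Cfsg.Agent.Helper5.PReducedRel2
import Cfsg.Statements.S2821
-- import your own Cfsg.Agent.* helpers here

set_option autoImplicit false
open Cfsg Cfsg.Agent.Helper5

namespace Cfsg.Agent.S2821

/-- Let H be a finite group, p a prime, T a Sylow p-subgroup and L a subgroup of characteristic p containing T; let Y_L be the largest p-reduced normal subgroup of L (the join of the normal elementary abelian p-subgroups V of L with O_p(L/C_L(V)) = 1). Then T₀ := C_T(Y_L) is a Sylow p-subgroup of C_H(Y_L); moreover O_p(L) ≤ T₀ ≤ C_L(Y_L) and Ω₁(Z(T)) ≤ Z_L ≤ Y_L ≤ Ω₁(Z(O_p(L))), where Z_L is generated by the Ω₁(Z(S)) over the Sylow p-subgroups S of L. -/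
theorem result {H : Type*} [Group H] [Finite H] {p : ℕ} [Fact p.Prime] (T : Sylow p H) (L : Subgroup H) (hTL : (T : Subgroup H) ≤ L) (hL : Subgroup.centralizer (Cfsg.pCore p ↥L : Set ↥L) ≤ Cfsg.pCore p ↥L) (T₀ : Subgroup H) (hT₀ : T₀ = (T : Subgroup H) ⊓ Subgroup.centralizer (((Cfsg.largestPReducedOf p L) : Subgroup H) : Set H)) : (∃ P : Sylow p ↥(Subgroup.centralizer (((Cfsg.largestPReducedOf p L) : Subgroup H) : Set H)), (P : Subgroup ↥(Subgroup.centralizer (((Cfsg.largestPReducedOf p L) : Subgroup H) : Set H))) = T₀.subgroupOf (Subgroup.centralizer (((Cfsg.largestPReducedOf p L) : Subgroup H) : Set H))) ∧ (Cfsg.pCoreOf p L) ≤ T₀ ∧ T₀ ≤ L ⊓ Subgroup.centralizer (((Cfsg.largestPReducedOf p L) : Subgroup H) : Set H) ∧ (Cfsg.omegaOne p ((T : Subgroup H) ⊓ Subgroup.centralizer (((T : Subgroup H) : Subgroup H) : Set H))) ≤ Cfsg.sylowCenterClosure p L ∧ Cfsg.sylowCenterClosure p L ≤ (Cfsg.largestPReducedOf p L) ∧ (Cfsg.largestPReducedOf p L) ≤ (Cfsg.omegaOne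 p ((Cfsg.pCoreOf p L) ⊓ Subgroup.centralizer (((Cfsg.pCoreOf p L) : Subgroup H) : Set H))) := by
  subst hT₀
  have hP := pRedIn_largestPReducedOf p L
  refine ⟨?_, ?_, ?_, ?_, ?_, ?_⟩
  · exact sylow_inf_of_le_normalizer T _ (Subgroup.normalizer ((Cfsg.largestPReducedOf p L : Subgroup H) : Set H))
      (hTL.trans hP.2.1) (Subgroup.centralizer_le_normalizer _) (normalizer_le_normalizer_centralizer _)
  · exact le_inf (pCoreOf_le_sylow T hTL) hP.pCoreOf_le_centralizer
  · exact inf_le_inf_right _ hTL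
  · unfold Cfsg.sylowCenterClosure
    refine le_trans ?_ (le_iSup _ (T.subtype hTL))
    have : ((T.subtype hTL : Sylow p ↥L) : Subgroup ↥L).map L.subtype = (T : Subgroup H) := by
      rw [Sylow.coe_subtype, Subgroup.map_subgroupOf_eq_of_le hTL]
    rw [this]
  · exact (pRedIn_sylowCenterClosure L hL).le_largestPReducedOf
  · intro y hy
    apply Subgroup.subset_closure
    refine ⟨⟨largestPReducedOf_le_pCoreOf p L hy, ?_⟩, hP.2.2.1.2 y hy⟩
    exact (Subgroup.le_centralizer_iff.mp hP.pCoreOf_le_centralizer) hy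

end Cfsg.Agent.S2821
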