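import Mathlib
import Cfsg.Agent.Helper5.PReducedRel2
import Cfsg.Statements.S2824
-- import your own Cfsg.Agent.* helpers here

set_option autoImplicit false
open Cfsg Cfsg.Agent.Helper5

namespace Cfsg.Agent.S2824

/-- Let H be a finite group, p a prime, T a Sylow p-subgroup, L and M subgroups of characteristic p containing T, Y_L the largest p-reduced normal subgroup of L and T₀ = C_T(Y_L). If M·C_H(Y_L) = L·C_H(Y_L), then L* := N_M(T₀) has Y_{L*} = Y_L and L·C_H(Y_L) = L*·C_H(Y_L). -/
theorem result {H : Type*} [Group H] [Finite H] {p : ℕ} [Fact p.Prime] (T : Sylow p H) (L M : Subgroup H) (hTL : (T : Subgroup H) ≤ L) (hTM : (T : Subgroup H) ≤ M) (hL : Subgroup.centralizer (Cfsg.pCore p ↥L : Set ↥L) ≤ Cfsg.pCore p ↥L) (hM : Subgroup.centralizer (Cfsg.pCore p ↥M : Set ↥M) ≤ Cfsg.pCore p ↥M) (T₀ : Subgroup H) (hT₀ : T₀ = (T : Subgroup H) ⊓ Subgroup.centralizer (((Cfsg.largestPReducedOf p L) : Subgroup H) : Set H)) (hfac : M ⊔ Subgroup.centralizer (((Cfsg.largestPReducedOf p L) : Subgroup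 H) : Set H) = L ⊔ Subgroup.centralizer (((Cfsg.largestPReducedOf p L) : Subgroup H) : Set H)) (Ls : Subgroup H) (hLs : Ls = M ⊓ Subgroup.normalizer ((T₀ : Subgroup H) : Set H)) : (Cfsg.largestPReducedOf p Ls) = (Cfsg.largestPReducedOf p L) ∧ L ⊔ Subgroup.centralizer (((Cfsg.largestPReducedOf p L) : Subgroup H) : Set H) = Ls ⊔ Subgroup.centralizer (((Cfsg.largestPReducedOf p L) : Subgroup H) : Set H) := by
  subst hT₀ hLs
  have hP := pRedIn_largestPReducedOf p L
  have hLN := hP.2.1
  have hCN : Subgroup.centralizer ((Cfsg.largestPReducedOf p L : Subgroup H) : Set H) ≤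
      Subgroup.normalizer ((Cfsg.largestPReducedOf p L : Subgroup H) : Set H) :=
    Subgroup.centralizer_le_normalizer _
  have hNC := normalizer_le_normalizer_centralizer (Cfsg.largestPReducedOf p L)
  have hMN : M ≤ Subgroup.normalizer ((Cfsg.largestPReducedOf p L : Subgroup H) : Set H) := by
    calc M ≤ M ⊔ Subgroup.centralizer ((Cfsg.largestPReducedOf p L : Subgroup H) : Set H) := le_sup_left
      _ = L ⊔ Subgroup.centralizer ((Cfsg.largestPReducedOf p L : Subgroup H) : Set H) := hfac
      _ ≤ _ := sup_le hLN hCN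
  have hTN : (T : Subgroup H) ≤ Subgroup.normalizer ((((T : Subgroup H) ⊓
      Subgroup.centralizer ((Cfsg.largestPReducedOf p L : Subgroup H) : Set H)) : Subgroup H) : Set H) := by
    apply le_normalizer_of_conj_mem
    intro t ht x hx
    exact ⟨(T : Subgroup H).mul_mem ((T : Subgroup H).mul_mem ht hx.1) ((T : Subgroup H).inv_mem ht),
      (Subgroup.mem_normalizer_iff.mp (hNC (hLN (hTL ht))) x).mp hx.2⟩
  have hTLs : (T : Subgroup H) ≤ M ⊓ Subgroup.normalizer ((((T : Subgroup H) ⊓
      Subgroup.centralizer ((Cfsg.largestPReducedOf p L : Subgroup H) : Set H)) : Subgroup H) : Set H) :=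
    le_inf hTM hTN
  have hA := frattini_rel T M (Subgroup.centralizer ((Cfsg.largestPReducedOf p L : Subgroup H) : Set H))
    hTM (hMN.trans hNC)
  have hfac' : L ⊔ Subgroup.centralizer ((Cfsg.largestPReducedOf p L : Subgroup H) : Set H) =
      (M ⊓ Subgroup.normalizer ((((T : Subgroup H) ⊓
      Subgroup.centralizer ((Cfsg.largestPReducedOf p L : Subgroup H) : Set H)) : Subgroup H) : Set H)) ⊔
        Subgroup.centralizer ((Cfsg.largestPReducedOf p L : Subgroup H) : Set H) := by
    rw [← hfac]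
    exact le_antisymm (sup_le hA le_sup_right) (sup_le (inf_le_left.trans le_sup_left) le_sup_right)
  refine ⟨?_, hfac'⟩
  have hYT : Cfsg.largestPReducedOf p L ≤ (T : Subgroup H) :=
    (largestPReducedOf_le_pCoreOf p L).trans (pCoreOf_le_sylow T hTL)
  have hPLs := hP.transfer (hYT.trans hTLs) hfac'.symm
  have h1 := hPLs.le_largestPReducedOf
  have hPs := pRedIn_largestPReducedOf p (M ⊓ Subgroup.normalizer ((((T : Subgroup H) ⊓
      Subgroup.centralizer ((Cfsg.largestPReducedOf p L : Subgroup H) : Set H)) : Subgroup H) : Set H))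
  have hcore : Cfsg.pCoreOf p (M ⊓ Subgroup.normalizer ((((T : Subgroup H) ⊓
      Subgroup.centralizer ((Cfsg.largestPReducedOf p L : Subgroup H) : Set H)) : Subgroup H) : Set H)) =
      (T : Subgroup H) ⊓ Subgroup.centralizer ((Cfsg.largestPReducedOf p L : Subgroup H) : Set H) := by
    apply le_antisymm
    · exact le_inf (pCoreOf_le_sylow T hTLs) hPLs.pCoreOf_le_centralizer
    · have hT₀Ls := (inf_le_left : (T : Subgroup H) ⊓
        Subgroup.centralizer ((Cfsg.largestPReducedOf p L : Subgroup H) : Set H) ≤ _).trans hTLs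
      have hn := (Subgroup.normal_subgroupOf_iff_le_normalizer hT₀Ls).mpr inf_le_right
      have hpg : IsPGroup p ↥(((T : Subgroup H) ⊓
        Subgroup.centralizer ((Cfsg.largestPReducedOf p L : Subgroup H) : Set H)).subgroupOf
          (M ⊓ Subgroup.normalizer ((((T : Subgroup H) ⊓
      Subgroup.centralizer ((Cfsg.largestPReducedOf p L : Subgroup H) : Set H)) : Subgroup H) : Set H))) :=
        (T.2.to_le inf_le_left).comap_subtype
      have h2 := Subgroup.map_mono (f := Subgroup.subtype _) (le_pCore hn hpg)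
      rwa [Subgroup.map_subgroupOf_eq_of_le hT₀Ls] at h2
  apply le_antisymm _ h1
  refine le_trans ?_ (le_of_eq (largestPReducedOf_eq_omegaOne T L hTL hL).symm)
  intro y hy
  apply Subgroup.subset_closure
  refine ⟨⟨?_, ?_⟩, hPs.2.2.1.2 y hy⟩
  · rw [← hcore]
    exact largestPReducedOf_le_pCoreOf p _ hy
  · rw [← hcore]
    exact (Subgroup.le_centralizer_iff.mp hPs.pCoreOf_le_centralizer) hy

end Cfsg.Agent.S2824
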