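import Mathlib
import Cfsg.Statements.S3771

set_option autoImplicit false
open Cfsg

namespace Cfsg.Agent.S3771

/-- Let p be a prime and R a finite p-group of p-rank at most 2 (no elementary abelian subgroup of order p³) in which every element has order dividing p. Then R has order at most p³. -/
theorem result {R : Type*} [Group R] [Finite R] {p : ℕ} [Fact p.Prime] (hR : IsPGroup p R) (hrank : Cfsg.PRankLE p 2 R) (hexp : ∀ x : R, x ^ p = 1) : Nat.card R ≤ p ^ 3 := by
  have hp : p.Prime := Fact.out
  by_contra hcon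
  push Not at hcon
  obtain ⟨m, hm⟩ := IsPGroup.iff_card.1 hR
  have hm4 : 4 ≤ m := by
    by_contra h
    push Not at h
    have : p ^ m ≤ p ^ 3 := Nat.pow_le_pow_right hp.pos (by omega)
    omega
  have hpow : ∀ a b : ℕ, p ^ a < p ^ b → a < b := fun a b h => (Nat.pow_lt_pow_iff_right hp.one_lt).1 h
  -- every abelian subgroup has order ≤ p^2
  have hab : ∀ A : Subgroup R, IsMulCommutative A → Nat.card A ≤ p ^ 2 :=
    fun A hA => hrank A hA (fun a _ => hexp a)
  set Z := Subgroup.center R with hZ
  have hZab : IsMulCommutative Z := inferInstance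
  have hZle := hab Z hZab
  have hZtop : Z ≠ ⊤ := by
    intro h
    have := hab ⊤ (by rw [← h]; exact hZab)
    rw [Subgroup.card_top, hm] at this
    have := Nat.pow_le_pow_right hp.pos (show 3 ≤ m by omega)
    have h3 : p ^ 2 < p ^ 3 := Nat.pow_lt_pow_right hp.one_lt (by norm_num)
    omega
  -- an element w whose image in R ⧸ Z is central and nontrivial
  have hQnt : Nontrivial (R ⧸ Z) := by
    rw [← Finite.one_lt_card_iff_nontrivial]
    exact Subgroup.one_lt_index_of_ne_top hZtop
  have hQp : IsPGroup p (R ⧸ Z) := hR.to_quotient Z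
  have hcnt : Nontrivial (Subgroup.center (R ⧸ Z)) := hQp.center_nontrivial
  obtain ⟨⟨wb, hwb⟩, hwb1⟩ := exists_ne (1 : Subgroup.center (R ⧸ Z))
  obtain ⟨w, rfl⟩ := QuotientGroup.mk_surjective wb
  have hwZ : w ∉ Z := by
    intro h
    apply hwb1
    apply Subtype.ext
    exact (QuotientGroup.eq_one_iff w).2 h
  have hcomm : ∀ r : R, r * w * r⁻¹ * w⁻¹ ∈ Z := by
    intro r
    rw [← QuotientGroup.eq_one_iff]
    have := Subgroup.mem_center_iff.1 hwb (r : R ⧸ Z)
    simp only [QuotientGroup.mk_mul, QuotientGroup.mk_inv]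
    rw [this]; group
  -- A = ⟨Z, w⟩
  set A := Subgroup.closure ((Z : Set R) ∪ {w}) with hA
  have hAab : IsMulCommutative A := by
    apply Subgroup.isMulCommutative_closure
    rintro x (hx | hx) y (hy | hy)
    · exact (Subgroup.mem_center_iff.1 hy x)
    · exact (Subgroup.mem_center_iff.1 hx y).symm
    · exact (Subgroup.mem_center_iff.1 hy x)
    · rw [Set.mem_singleton_iff] at hx hy; rw [hx, hy]
  have hZA : Z ≤ A := fun z hz => Subgroup.subset_closure (Or.inl hz)
  have hwA : w ∈ A := Subgroup.subset_closure (Or.inr rfl)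
  have hAle := hab A hAab
  have hZlt : Nat.card Z < Nat.card A := by
    rcases (Subgroup.card_le_of_le hZA).lt_or_eq with h | h
    · exact h
    · exact absurd (Subgroup.eq_of_le_of_card_ge hZA h.ge ▸ hwA) hwZ
  obtain ⟨a, ha⟩ := IsPGroup.iff_card.1 (hR.to_subgroup Z)
  obtain ⟨b, hb⟩ := IsPGroup.iff_card.1 (hR.to_subgroup A)
  have hab' : a < b := hpow a b (by rw [← ha, ← hb]; exact hZlt)
  have hb2 : b ≤ 2 := by
    by_contra h
    push Not at h
    have := Nat.pow_lt_pow_right hp.one_lt h
    omega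
  have ha1 : a ≤ 1 := by omega
  -- the homomorphism r ↦ [r, w]
  let φ : R →* R :=
    { toFun := fun r => r * w * r⁻¹ * w⁻¹
      map_one' := by simp
      map_mul' := by
        intro r s
        have hs := Subgroup.mem_center_iff.1 (hcomm s)
        calc r * s * w * (r * s)⁻¹ * w⁻¹
            = (r * (s * w * s⁻¹ * w⁻¹)) * (w * r⁻¹ * w⁻¹) := by group
          _ = ((s * w * s⁻¹ * w⁻¹) * r) * (w * r⁻¹ * w⁻¹) := by rw [hs r]
          _ = (s * w * s⁻¹ * w⁻¹) * (r * w * r⁻¹ * w⁻¹) := by group
          _ = (r * w * r⁻¹ * w⁻¹) * (s * w * s⁻¹ * w⁻¹) := (hs _).symm }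
  have hφrange : φ.range ≤ Z := by
    rintro _ ⟨r, rfl⟩
    exact hcomm r
  have hcardφ : Nat.card φ.ker * Nat.card φ.range = Nat.card R := by
    have := Subgroup.card_eq_card_quotient_mul_card_subgroup φ.ker
    rw [this, Nat.card_congr (QuotientGroup.quotientKerEquivRange φ).toEquiv, mul_comm]
  have hrange_le : Nat.card φ.range ≤ p := by
    have h1 := Subgroup.card_le_of_le hφrange
    have h2 : p ^ a ≤ p ^ 1 := Nat.pow_le_pow_right hp.pos ha1
    rw [pow_one] at h2
    omega
  have hker_ge : p ^ 3 ≤ Nat.card φ.ker := by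
    have h1 : p ^ m ≤ Nat.card φ.ker * p := by
      rw [← hm, ← hcardφ]
      exact Nat.mul_le_mul_left _ hrange_le
    have h2 : p ^ 4 ≤ p ^ m := Nat.pow_le_pow_right hp.pos hm4
    have h3 : p ^ 4 = p ^ 3 * p := by ring
    rw [h3] at h2
    exact Nat.le_of_mul_le_mul_right (h2.trans h1) hp.pos
  -- pick x ∈ ker φ outside A
  obtain ⟨x, hxk, hxA⟩ : ∃ x ∈ φ.ker, x ∉ A := by
    by_contra hall
    push Not at hall
    have h1 : Nat.card φ.ker ≤ Nat.card A := Subgroup.card_le_of_le hall
    have h3 : p ^ 2 < p ^ 3 := Nat.pow_lt_pow_right hp.one_lt (by norm_num)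
    omega
  have hxw : x * w = w * x := by
    have h1 : x * w * x⁻¹ * w⁻¹ = 1 := MonoidHom.mem_ker.1 hxk
    have h2 : x * w = (x * w * x⁻¹ * w⁻¹) * (w * x) := by group
    rw [h2, h1, one_mul]
  have hxA' : ∀ y ∈ A, x * y = y * x := by
    have : A ≤ Subgroup.centralizer ({x} : Set R) := by
      rw [hA, Subgroup.closure_le]
      rintro y (hy | hy)
      · rw [SetLike.mem_coe, Subgroup.mem_centralizer_iff]
        intro h hh
        rw [Set.mem_singleton_iff] at hh
        rw [hh]
        exact (Subgroup.mem_center_iff.1 hy x)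
      · rw [Set.mem_singleton_iff] at hy
        rw [hy, SetLike.mem_coe, Subgroup.mem_centralizer_iff]
        intro h hh
        rw [Set.mem_singleton_iff] at hh
        rw [hh]
        exact hxw
    intro y hy
    exact Subgroup.mem_centralizer_iff.1 (this hy) x rfl
  set B := Subgroup.closure ((A : Set R) ∪ {x}) with hB
  have hBab : IsMulCommutative B := by
    apply Subgroup.isMulCommutative_closure
    rintro u (hu | hu) v (hv | hv)
    · exact congrArg Subtype.val (hAab.is_comm.comm (⟨u, hu⟩ : A) ⟨v, hv⟩)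
    · rw [Set.mem_singleton_iff] at hv; rw [hv]; exact (hxA' u hu).symm
    · rw [Set.mem_singleton_iff] at hu; rw [hu]; exact hxA' v hv
    · rw [Set.mem_singleton_iff] at hu hv; rw [hu, hv]
  have hAB : A ≤ B := fun z hz => Subgroup.subset_closure (Or.inl hz)
  have hxB : x ∈ B := Subgroup.subset_closure (Or.inr rfl)
  have hBle := hab B hBab
  have hAlt : Nat.card A < Nat.card B := by
    rcases (Subgroup.card_le_of_le hAB).lt_or_eq with h | h
    · exact h
    · exact absurd (Subgroup.eq_of_le_of_card_ge hAB h.ge ▸ hxB) hxA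
  obtain ⟨c, hc⟩ := IsPGroup.iff_card.1 (hR.to_subgroup B)
  have hbc : b < c := hpow b c (by rw [← hb, ← hc]; exact hAlt)
  have hc2 : c ≤ 2 := by
    by_contra h
    push Not at h
    have := Nat.pow_lt_pow_right hp.one_lt h
    omega
  -- a < b < c ≤ 2 forces a = 0, contradicting the nontrivial centre
  have ha0 : a = 0 := by omega
  have hRnt : Nontrivial R := by
    rw [← Finite.one_lt_card_iff_nontrivial, hm]
    exact Nat.one_lt_pow (by omega) hp.one_lt
  have hZnt : Nontrivial Z := hR.center_nontrivial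
  rw [ha0, pow_zero] at ha
  have := (Nat.card_eq_one_iff_unique.1 ha).1
  exact not_subsingleton Z this

end Cfsg.Agent.S3771
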