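import Mathlib
import Cfsg.Statements.S4496
import Cfsg.Agent.Helper1.Frobenius
import Cfsg.Agent.Helper1.Basic
import Cfsg.Statements.S4496
-- import your own Cfsg.Agent.* helpers here

set_option autoImplicit false
open Cfsg

namespace Cfsg.Agent.S4496
open Cfsg

universe u

open scoped Pointwise

section
variable {G : Type u} [Group G] [Finite G] (p : ℕ) [hp : Fact p.Prime] (x : G) (hx : orderOf x = p)
  (hC : Subgroup.centralizer ({x} : Set G) = Subgroup.zpowers x)

include hx in
theorem card_zpowers : Nat.card (Subgroup.zpowers x) = p := by rw [Nat.card_zpowers, hx]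

include hx in
theorem x_ne_one : x ≠ 1 := by
  intro h
  rw [h, orderOf_one] at hx
  exact hp.out.one_lt.ne hx

include hC in
theorem mem_zpowers_of_commute {g : G} (h : g * x = x * g) : g ∈ Subgroup.zpowers x := by
  rw [← hC, Subgroup.mem_centralizer_singleton_iff]
  exact h

include hx hC in
theorem exists_sylow : ∃ P : Sylow p G, (P : Subgroup G) = Subgroup.zpowers x := by
  have hPp : IsPGroup p (Subgroup.zpowers x) :=
    IsPGroup.of_card (n := 1) (by rw [card_zpowers p x hx, pow_one])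
  obtain ⟨Q, hQ⟩ := hPp.exists_le_sylow
  refine ⟨Q, le_antisymm ?_ hQ⟩
  have hxQ : x ∈ (Q : Subgroup G) := hQ (Subgroup.mem_zpowers x)
  have hnt : Nontrivial ↥(Q : Subgroup G) :=
    ⟨⟨⟨x, hxQ⟩, 1, fun h => x_ne_one p x hx (congrArg Subtype.val h)⟩⟩
  have hcnt := Q.2.center_nontrivial
  obtain ⟨z, hz⟩ := exists_ne (1 : ↥(Subgroup.center ↥(Q : Subgroup G)))
  set z' : G := ((z : ↥(Q : Subgroup G)) : G) with hz'
  have hz'1 : z' ≠ 1 := by
    intro h
    apply hz
    apply Subtype.ext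
    apply Subtype.ext
    exact h
  have hzcomm : ∀ q ∈ (Q : Subgroup G), q * z' = z' * q := by
    intro q hq
    have := Subgroup.mem_center_iff.mp z.2 ⟨q, hq⟩
    exact congrArg Subtype.val this
  have hz'x : z' ∈ Subgroup.zpowers x := by
    apply mem_zpowers_of_commute x hC
    exact (hzcomm x hxQ).symm
  have hle : Subgroup.zpowers z' ≤ Subgroup.zpowers x := by
    rw [Subgroup.zpowers_le]; exact hz'x
  have hord : orderOf z' = p := by
    have h1 : orderOf z' ∣ p := by
      have := orderOf_dvd_natCard (⟨z', hz'x⟩ : Subgroup.zpowers x)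
      rw [card_zpowers p x hx] at this
      rwa [Subgroup.orderOf_mk] at this
    rcases (Nat.dvd_prime hp.out).mp h1 with h | h
    · exact absurd (orderOf_eq_one_iff.mp h) hz'1
    · exact h
  have heq : Subgroup.zpowers z' = Subgroup.zpowers x := by
    apply Subgroup.eq_of_le_of_card_ge hle
    rw [Nat.card_zpowers, Nat.card_zpowers, hord, hx]
  intro q hq
  apply mem_zpowers_of_commute x hC
  have hxz : x ∈ Subgroup.zpowers z' := by rw [heq]; exact Subgroup.mem_zpowers x
  obtain ⟨j, hj⟩ := Subgroup.mem_zpowers_iff.mp hxz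
  rw [← hj]
  exact ((show Commute q z' from hzcomm q hq).zpow_right j).eq

include hx hC in
theorem conj_of_card (H : Subgroup G) (hH : Nat.card H = p) :
    ∃ g : G, H = MulAut.conj g • Subgroup.zpowers x := by
  obtain ⟨P, hP⟩ := exists_sylow p x hx hC
  have hHp : IsPGroup p H := IsPGroup.of_card (n := 1) (by rw [hH, pow_one])
  obtain ⟨R, hR⟩ := hHp.exists_le_sylow
  obtain ⟨g, hg⟩ := MulAction.exists_smul_eq G P R
  refine ⟨g, ?_⟩
  have h1 : (R : Subgroup G) = MulAut.conj g • Subgroup.zpowers x := by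
    rw [← hg, Sylow.coe_subgroup_smul, hP]
  rw [← h1]
  apply Subgroup.eq_of_le_of_card_ge hR
  rw [h1, hH, Cfsg.Agent.Helper1.card_conj_smul, card_zpowers p x hx]


include hC in
theorem comm_mem_zpowers {n n' : G} (hn : n ∈ Subgroup.normalizer ((Subgroup.zpowers x : Subgroup G) : Set G))
    (hn' : n' ∈ Subgroup.normalizer ((Subgroup.zpowers x : Subgroup G) : Set G)) :
    n⁻¹ * n'⁻¹ * n * n' ∈ Subgroup.zpowers x := by
  obtain ⟨a, ha⟩ := Subgroup.mem_zpowers_iff.mp
    ((Subgroup.mem_normalizer_iff.mp hn x).mp (Subgroup.mem_zpowers x))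
  obtain ⟨b, hb⟩ := Subgroup.mem_zpowers_iff.mp
    ((Subgroup.mem_normalizer_iff.mp hn' x).mp (Subgroup.mem_zpowers x))
  have h1 : (n * n') * x * (n * n')⁻¹ = (x ^ a) ^ b := by
    have e : (n * n') * x * (n * n')⁻¹ = n * (n' * x * n'⁻¹) * n⁻¹ := by group
    rw [e, ← hb, ← conj_zpow, ← ha]
  have h2 : (n' * n) * x * (n' * n)⁻¹ = (x ^ b) ^ a := by
    have e : (n' * n) * x * (n' * n)⁻¹ = n' * (n * x * n⁻¹) * n'⁻¹ := by group
    rw [e, ← ha, ← conj_zpow, ← hb]
  have h3 : (n * n') * x * (n * n')⁻¹ = (n' * n) * x * (n' * n)⁻¹ := by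
    rw [h1, h2, ← zpow_mul, ← zpow_mul, mul_comm]
  apply mem_zpowers_of_commute x hC
  have e1 : n⁻¹ * n'⁻¹ * n * n' * x = (n' * n)⁻¹ * ((n * n') * x * (n * n')⁻¹) * (n * n') := by group
  have e2 : x * (n⁻¹ * n'⁻¹ * n * n') = (n' * n)⁻¹ * ((n' * n) * x * (n' * n)⁻¹) * (n * n') := by group
  rw [e1, e2, h3]

include hx hC in
theorem x_mem_of_dvd (S : Subgroup G) [hS : S.Normal] (hdvd : p ∣ Nat.card S) : x ∈ S := by
  obtain ⟨y, hy⟩ := exists_prime_orderOf_dvd_card' p hdvd
  have hcard : Nat.card (Subgroup.zpowers (y : G)) = p := by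
    rw [Nat.card_zpowers, Subgroup.orderOf_coe, hy]
  obtain ⟨g, hg⟩ := conj_of_card p x hx hC _ hcard
  have h1 : g * x * g⁻¹ ∈ MulAut.conj g • Subgroup.zpowers x :=
    Cfsg.Agent.Helper1.conj_mem_conj_smul (Subgroup.mem_zpowers x)
  rw [← hg] at h1
  have h2 : g * x * g⁻¹ ∈ S := by
    have : Subgroup.zpowers (y : G) ≤ S := by rw [Subgroup.zpowers_le]; exact y.2
    exact this h1
  have h3 := hS.conj_mem _ h2 g⁻¹
  have e : g⁻¹ * (g * x * g⁻¹) * g⁻¹⁻¹ = x := by group
  rwa [e] at h3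

include hx hC in
theorem commutator_le_of_dvd (S : Subgroup G) [hS : S.Normal] (hdvd : p ∣ Nat.card S) :
    commutator G ≤ S := by
  have hxS : x ∈ S := x_mem_of_dvd p x hx hC S hdvd
  have hPS : Subgroup.zpowers x ≤ S := by rw [Subgroup.zpowers_le]; exact hxS
  obtain ⟨P, hP⟩ := exists_sylow p x hx hC
  have hPS' : (P : Subgroup G) ≤ S := by rw [hP]; exact hPS
  have hfr := Sylow.normalizer_sup_eq_top (P.subtype hPS')
  rw [Sylow.coe_subtype, Subgroup.subgroupOf_map_subtype, inf_eq_left.mpr hPS', hP] at hfr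
  have hdec : ∀ g : G, ∃ n ∈ Subgroup.normalizer ((Subgroup.zpowers x : Subgroup G) : Set G),
      ∃ s ∈ S, g = n * s := by
    intro g
    have hg : g ∈ ((Subgroup.normalizer ((Subgroup.zpowers x : Subgroup G) : Set G) ⊔ S : Subgroup G) : Set G) := by
      rw [hfr]; trivial
    rw [Subgroup.mul_normal] at hg
    obtain ⟨n, hn, s, hs, rfl⟩ := hg
    exact ⟨n, hn, s, hs, rfl⟩
  rw [commutator_def, Subgroup.commutator_le]
  intro g _ h _
  obtain ⟨n, hn, s, hs, rfl⟩ := hdec g
  obtain ⟨n', hn', s', hs', rfl⟩ := hdec h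
  rw [← QuotientGroup.eq_one_iff (N := S)]
  have h1 : ((n * s : G) : G ⧸ S) = (n : G ⧸ S) := by
    rw [QuotientGroup.mk_mul, (QuotientGroup.eq_one_iff s).mpr hs, mul_one]
  have h2 : ((n' * s' : G) : G ⧸ S) = (n' : G ⧸ S) := by
    rw [QuotientGroup.mk_mul, (QuotientGroup.eq_one_iff s').mpr hs', mul_one]
  rw [commutatorElement_def, QuotientGroup.mk_mul, QuotientGroup.mk_mul, QuotientGroup.mk_mul,
    QuotientGroup.mk_inv, QuotientGroup.mk_inv, h1, h2]
  rw [← QuotientGroup.mk_inv, ← QuotientGroup.mk_inv, ← QuotientGroup.mk_mul, ← QuotientGroup.mk_mul,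
    ← QuotientGroup.mk_mul, QuotientGroup.eq_one_iff]
  have h3 := comm_mem_zpowers x hC (Subgroup.inv_mem _ hn) (Subgroup.inv_mem _ hn')
  rw [inv_inv, inv_inv] at h3
  exact hPS h3


include hx in
theorem inf_eq_bot (S : Subgroup G) (hnd : ¬ p ∣ Nat.card S) : S ⊓ Subgroup.zpowers x = ⊥ := by
  have h1 : Nat.card (S ⊓ Subgroup.zpowers x : Subgroup G) ∣ Nat.card S :=
    Subgroup.card_dvd_of_le inf_le_left
  have h2 : Nat.card (S ⊓ Subgroup.zpowers x : Subgroup G) ∣ p := by
    have := Subgroup.card_dvd_of_le (inf_le_right : S ⊓ Subgroup.zpowers x ≤ Subgroup.zpowers x)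
    rwa [card_zpowers p x hx] at this
  rcases (Nat.dvd_prime hp.out).mp h2 with h | h
  · exact Subgroup.card_eq_one.mp h
  · rw [h] at h1
    exact absurd h1 hnd

include hx hC in
/-- every element of the coset `x S` is an `S`-conjugate of `x`. -/
theorem exists_conj_eq (S : Subgroup G) [hS : S.Normal] (hnd : ¬ p ∣ Nat.card S) {t : G} (ht : t ∈ S) :
    ∃ s ∈ S, x⁻¹ * s * x * s⁻¹ = t := by
  classical
  have hbot := inf_eq_bot p x hx S hnd
  let f : ↥S → ↥S := fun s => ⟨x⁻¹ * s * x * (s : G)⁻¹, by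
    have h1 : x⁻¹ * (s : G) * x⁻¹⁻¹ ∈ S := hS.conj_mem _ s.2 x⁻¹
    rw [inv_inv] at h1
    exact S.mul_mem h1 (S.inv_mem s.2)⟩
  have hinj : Function.Injective f := by
    intro s t hst
    have h1 : x⁻¹ * (s : G) * x * (s : G)⁻¹ = x⁻¹ * (t : G) * x * (t : G)⁻¹ := congrArg Subtype.val hst
    have h2 : ((t : G)⁻¹ * s) * x = x * ((t : G)⁻¹ * s) := by
      have e : (s : G) * x * (s : G)⁻¹ = (t : G) * x * (t : G)⁻¹ := by
        have := congrArg (x * ·) h1
        simpa [mul_assoc] using this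
      have e1 : ((t : G)⁻¹ * s) * x = (t : G)⁻¹ * ((s : G) * x * (s : G)⁻¹) * s := by group
      rw [e1, e]
      group
    have h3 : (t : G)⁻¹ * s ∈ S ⊓ Subgroup.zpowers x :=
      ⟨S.mul_mem (S.inv_mem t.2) s.2, mem_zpowers_of_commute x hC h2⟩
    rw [hbot, Subgroup.mem_bot] at h3
    apply Subtype.ext
    have := congrArg ((t : G) * ·) h3
    simpa using this
  obtain ⟨s, hs⟩ := Finite.surjective_of_injective hinj ⟨t, ht⟩
  exact ⟨s, s.2, congrArg Subtype.val hs⟩

include hx hC in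
theorem quotient_part (S : Subgroup G) [hS : S.Normal] (hnd : ¬ p ∣ Nat.card S) :
    orderOf (QuotientGroup.mk x : G ⧸ S) = p ∧
      Subgroup.centralizer ({(QuotientGroup.mk x : G ⧸ S)} : Set (G ⧸ S)) =
        Subgroup.zpowers (QuotientGroup.mk x : G ⧸ S) := by
  have hbot := inf_eq_bot p x hx S hnd
  constructor
  · apply orderOf_eq_prime
    · rw [← QuotientGroup.mk_pow, ← hx, pow_orderOf_eq_one]; rfl
    · intro h
      rw [QuotientGroup.eq_one_iff] at h
      have : x ∈ S ⊓ Subgroup.zpowers x := ⟨h, Subgroup.mem_zpowers x⟩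
      rw [hbot, Subgroup.mem_bot] at this
      exact x_ne_one p x hx this
  · apply le_antisymm
    · intro gb hgb
      obtain ⟨g, rfl⟩ := QuotientGroup.mk_surjective gb
      rw [Subgroup.mem_centralizer_singleton_iff] at hgb
      -- x⁻¹ g x g⁻¹ ∈ S
      have ht : x⁻¹ * g * x * g⁻¹ ∈ S := by
        rw [← QuotientGroup.eq_one_iff (N := S)]
        rw [QuotientGroup.mk_mul, QuotientGroup.mk_mul, QuotientGroup.mk_mul, QuotientGroup.mk_inv,
          QuotientGroup.mk_inv]
        have hgb' : (g : G ⧸ S) * (x : G ⧸ S) = (x : G ⧸ S) * (g : G ⧸ S) := hgb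
        rw [mul_assoc ((x : G ⧸ S)⁻¹), hgb']
        group
      obtain ⟨s, hs, hst⟩ := exists_conj_eq p x hx hC S hnd ht
      have h1 : (s⁻¹ * g) * x = x * (s⁻¹ * g) := by
        have e : s * x * s⁻¹ = g * x * g⁻¹ := by
          have := congrArg (x * ·) hst
          simpa [mul_assoc] using this
        have e1 : (s⁻¹ * g) * x = s⁻¹ * (g * x * g⁻¹) * g := by group
        rw [e1, ← e]
        group
      have h2 := mem_zpowers_of_commute x hC h1
      obtain ⟨k, hk⟩ := Subgroup.mem_zpowers_iff.mp h2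
      rw [Subgroup.mem_zpowers_iff]
      refine ⟨k, ?_⟩
      rw [← QuotientGroup.mk_zpow, hk, QuotientGroup.mk_mul, QuotientGroup.mk_inv,
        (QuotientGroup.eq_one_iff s).mpr hs, inv_one, one_mul]
    · rw [Subgroup.zpowers_le, Subgroup.mem_centralizer_singleton_iff]


include hx hC in
theorem card_mod (S : Subgroup G) [hS : S.Normal] (hnd : ¬ p ∣ Nat.card S) :
    Nat.card S % p = 1 := by
  classical
  have hbot := inf_eq_bot p x hx S hnd
  let inst : MulAction ↥(Subgroup.zpowers x) ↥S :=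
    { smul := fun y s => ⟨(y : G) * s * (y : G)⁻¹, hS.conj_mem _ s.2 _⟩
      one_smul := by
        intro s
        apply Subtype.ext
        show ((1 : ↥(Subgroup.zpowers x)) : G) * s * ((1 : ↥(Subgroup.zpowers x)) : G)⁻¹ = s
        simp
      mul_smul := by
        intro y z s
        apply Subtype.ext
        show ((y * z : ↥(Subgroup.zpowers x)) : G) * s * ((y * z : ↥(Subgroup.zpowers x)) : G)⁻¹ =
          (y : G) * ((z : G) * s * (z : G)⁻¹) * (y : G)⁻¹
        rw [Subgroup.coe_mul]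
        group }
  have hsmul : ∀ (y : ↥(Subgroup.zpowers x)) (s : ↥S), ((y • s : ↥S) : G) = (y : G) * s * (y : G)⁻¹ :=
    fun y s => rfl
  have hPp : IsPGroup p (Subgroup.zpowers x) :=
    IsPGroup.of_card (n := 1) (by rw [card_zpowers p x hx, pow_one])
  have h1 := hPp.card_modEq_card_fixedPoints ↥S
  have hfix : MulAction.fixedPoints ↥(Subgroup.zpowers x) ↥S = {1} := by
    ext s
    rw [MulAction.mem_fixedPoints, Set.mem_singleton_iff]
    constructor
    · intro h
      have h2 := h ⟨x, Subgroup.mem_zpowers x⟩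
      have h3 : x * (s : G) * x⁻¹ = s := by
        have := congrArg Subtype.val h2
        rwa [hsmul] at this
      have h4 : (s : G) * x = x * s := by
        have := congrArg (· * x) h3
        simpa [mul_assoc] using this.symm
      have h5 : (s : G) ∈ S ⊓ Subgroup.zpowers x := ⟨s.2, mem_zpowers_of_commute x hC h4⟩
      rw [hbot, Subgroup.mem_bot] at h5
      exact Subtype.ext h5
    · rintro rfl y
      apply Subtype.ext
      rw [hsmul]
      simp
  rw [hfix] at h1
  have h2 : Nat.card ↑({1} : Set ↥S) = 1 := by simp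
  rw [h2] at h1
  have h3 := h1
  unfold Nat.ModEq at h3
  rw [h3, Nat.mod_eq_of_lt hp.out.one_lt]

include hx hC in
theorem card_dvd (S : Subgroup G) [hS : S.Normal] (hnd : ¬ p ∣ Nat.card S) :
    Nat.card S ∣ Nat.card {H : Subgroup G // Nat.card H = p} := by
  classical
  have hbot := inf_eq_bot p x hx S hnd
  let inst : MulAction ↥S {H : Subgroup G // Nat.card H = p} :=
    { smul := fun s H => ⟨MulAut.conj (s : G) • H.1, by
        rw [Cfsg.Agent.Helper1.card_conj_smul]; exact H.2⟩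
      one_smul := by
        intro H
        apply Subtype.ext
        show MulAut.conj ((1 : ↥S) : G) • H.1 = H.1
        rw [Subgroup.coe_one, map_one, one_smul]
      mul_smul := by
        intro s t H
        apply Subtype.ext
        show MulAut.conj ((s * t : ↥S) : G) • H.1 = MulAut.conj (s : G) • MulAut.conj (t : G) • H.1
        rw [Subgroup.coe_mul, map_mul, mul_smul] }
  have hsmul : ∀ (s : ↥S) (H : {H : Subgroup G // Nat.card H = p}),
      ((s • H : {H : Subgroup G // Nat.card H = p}) : Subgroup G) = MulAut.conj (s : G) • H.1 :=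
    fun s H => rfl
  apply Cfsg.Agent.Helper1.card_dvd_of_free
  intro H
  rw [eq_bot_iff]
  intro s hs
  rw [MulAction.mem_stabilizer_iff] at hs
  have h1 : MulAut.conj (s : G) • H.1 = H.1 := by
    have := congrArg Subtype.val hs
    rwa [hsmul] at this
  obtain ⟨g, hg⟩ := conj_of_card p x hx hC H.1 H.2
  -- s' = g⁻¹ s g normalizes zpowers x
  set s' : G := g⁻¹ * s * g with hs'
  have hs'S : s' ∈ S := by
    have := hS.conj_mem _ s.2 g⁻¹
    rwa [inv_inv] at this
  have h2 : s' * x * s'⁻¹ ∈ Subgroup.zpowers x := by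
    have h3 : g * x * g⁻¹ ∈ H.1 := by
      rw [hg]; exact Cfsg.Agent.Helper1.conj_mem_conj_smul (Subgroup.mem_zpowers x)
    have h4 : (s : G) * (g * x * g⁻¹) * (s : G)⁻¹ ∈ H.1 := by
      rw [← h1]; exact Cfsg.Agent.Helper1.conj_mem_conj_smul h3
    rw [hg, Cfsg.Agent.Helper1.mem_conj_smul] at h4
    have e : g⁻¹ * ((s : G) * (g * x * g⁻¹) * (s : G)⁻¹) * g = s' * x * s'⁻¹ := by
      rw [hs']; group
    rwa [e] at h4
  have h5 : s' * x * s'⁻¹ * x⁻¹ ∈ S := by
    have h6 : x * s'⁻¹ * x⁻¹ ∈ S := hS.conj_mem _ (S.inv_mem hs'S) x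
    have e : s' * x * s'⁻¹ * x⁻¹ = s' * (x * s'⁻¹ * x⁻¹) := by group
    rw [e]
    exact S.mul_mem hs'S h6
  have h7 : s' * x * s'⁻¹ * x⁻¹ ∈ S ⊓ Subgroup.zpowers x :=
    ⟨h5, Subgroup.mul_mem _ h2 (Subgroup.inv_mem _ (Subgroup.mem_zpowers x))⟩
  rw [hbot, Subgroup.mem_bot] at h7
  have h8 : s' * x = x * s' := by
    have := congrArg (· * x * s') h7
    simpa [mul_assoc] using this
  have h9 : s' ∈ S ⊓ Subgroup.zpowers x := ⟨hs'S, mem_zpowers_of_commute x hC h8⟩
  rw [hbot, Subgroup.mem_bot] at h9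
  rw [Subgroup.mem_bot]
  apply Subtype.ext
  have e : (s : G) = g * s' * g⁻¹ := by rw [hs']; group
  rw [e, h9]
  simp

end

/-- Let the finite group G contain an element x of prime order p with C_G(x) = ⟨x⟩. Then: (a) every normal subgroup of order divisible by p contains the commutator subgroup; (b) every normal subgroup S of order prime to p has order dividing the number of subgroups of order p of G and congruent to 1 modulo p, and in G/S the image of x again has prime order p and commutes only with its own powers. -/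
theorem result {G : Type*} [Group G] [Finite G] (p : ℕ) (hp : p.Prime) (x : G) (hx : orderOf x = p) (hC : Subgroup.centralizer ({x} : Set G) = Subgroup.zpowers x) (S : Subgroup G) [S.Normal] : (p ∣ Nat.card S → commutator G ≤ S) ∧ (¬ p ∣ Nat.card S → Nat.card S ∣ Nat.card {H : Subgroup G // Nat.card H = p} ∧ Nat.card S % p = 1 ∧ orderOf (QuotientGroup.mk x : G ⧸ S) = p ∧ Subgroup.centralizer ({(QuotientGroup.mk x : G ⧸ S)} : Set (G ⧸ S)) = Subgroup.zpowers (QuotientGroup.mk x : G ⧸ S)) := by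
  have : Fact p.Prime := ⟨hp⟩
  refine ⟨fun h => commutator_le_of_dvd p x hx hC S h, fun h => ?_⟩
  obtain ⟨h1, h2⟩ := quotient_part p x hx hC S h
  exact ⟨card_dvd p x hx hC S h, card_mod p x hx hC S h, h1, h2⟩


end Cfsg.Agent.S4496
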