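import Mathlib
import Cfsg.Statements.S1446
import Cfsg.Agent.Helper3.FrobActD
import Cfsg.Agent.Helper1.ThompsonFPF2
-- import your own Cfsg.Agent.* helpers here

set_option autoImplicit false
open Cfsg

namespace Cfsg.Agent.S1446

open Cfsg.Agent.Helper3.FrobActA Cfsg.Agent.Helper3.FrobActD
open scoped commutatorElement

variable {X : Type*} [Group X]

/-- Conjugation action of a subgroup `L` normalizing `M` on `M`. -/
def conjAct (M L : Subgroup X) (hL : L ≤ Subgroup.normalizer (M : Set X)) : L →* MulAut M where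
  toFun g :=
    { toFun := fun m => ⟨(g : X) * m * (g : X)⁻¹,
        (Subgroup.mem_normalizer_iff.mp (hL g.2) m).mp m.2⟩
      invFun := fun m => ⟨(g : X)⁻¹ * m * (g : X), by
        have := (Subgroup.mem_normalizer_iff.mp (Subgroup.inv_mem _ (hL g.2)) m).mp m.2
        rwa [inv_inv] at this⟩
      left_inv := fun m => Subtype.ext (by simp [mul_assoc])
      right_inv := fun m => Subtype.ext (by simp [mul_assoc])
      map_mul' := fun a b => Subtype.ext (by simp [mul_assoc]) }
  map_one' := by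
    apply MulEquiv.ext
    intro m
    apply Subtype.ext
    simp
  map_mul' := by
    intro g h
    apply MulEquiv.ext
    intro m
    apply Subtype.ext
    simp [mul_assoc]

theorem conjAct_apply (M L : Subgroup X) (hL : L ≤ Subgroup.normalizer (M : Set X)) (g : L)
    (m : M) : ((conjAct M L hL g m : M) : X) = (g : X) * m * (g : X)⁻¹ := rfl

theorem map_fix_conjAct (M L : Subgroup X) (hL : L ≤ Subgroup.normalizer (M : Set X))
    (T : Subgroup X) (hT : T ≤ L) :
    (fix (conjAct M L hL) (T.subgroupOf L)).map M.subtype = M ⊓ Subgroup.centralizer (T : Set X) := by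
  ext m
  constructor
  · rintro ⟨n, hn, rfl⟩
    refine ⟨n.2, ?_⟩
    change (n : X) ∈ Subgroup.centralizer (T : Set X)
    rw [Subgroup.mem_centralizer_iff]
    intro t ht
    have := congrArg Subtype.val (hn ⟨t, hT ht⟩ (Subgroup.mem_subgroupOf.mpr ht))
    rw [conjAct_apply] at this
    change t * (n : X) * t⁻¹ = n at this
    rw [mul_inv_eq_iff_eq_mul] at this
    exact this
  · rintro ⟨hmM, hmC⟩
    refine ⟨⟨m, hmM⟩, ?_, rfl⟩
    intro g hg
    apply Subtype.ext
    rw [conjAct_apply]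
    have := (Subgroup.mem_centralizer_iff.mp hmC) (g : X) (Subgroup.mem_subgroupOf.mp hg)
    change (g : X) * m * (g : X)⁻¹ = m
    rw [mul_inv_eq_iff_eq_mul]
    exact this

/-- The fixed points of `T` on `M` as a subgroup of the ambient group. -/
noncomputable def fixEquiv (M L : Subgroup X) (hL : L ≤ Subgroup.normalizer (M : Set X))
    (T : Subgroup X) (hT : T ≤ L) :
    fix (conjAct M L hL) (T.subgroupOf L) ≃* ↥(M ⊓ Subgroup.centralizer (T : Set X)) :=
  ((fix (conjAct M L hL) (T.subgroupOf L)).equivMapOfInjective M.subtype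
    M.subtype_injective).trans (MulEquiv.subgroupCongr (map_fix_conjAct M L hL T hT))

theorem card_fix_conjAct (M L : Subgroup X) (hL : L ≤ Subgroup.normalizer (M : Set X))
    (T : Subgroup X) (hT : T ≤ L) :
    Nat.card (fix (conjAct M L hL) (T.subgroupOf L)) =
      Nat.card ↥(M ⊓ Subgroup.centralizer (T : Set X)) :=
  Nat.card_congr (fixEquiv M L hL T hT).toEquiv

theorem centralizer_zpowers_eq (x : X) :
    Subgroup.centralizer ((Subgroup.zpowers x : Subgroup X) : Set X) =
      Subgroup.centralizer ({x} : Set X) := by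
  ext g
  rw [Subgroup.mem_centralizer_iff, Subgroup.mem_centralizer_iff]
  constructor
  · intro h y hy
    rw [Set.mem_singleton_iff] at hy
    rw [hy]
    exact h x (Subgroup.mem_zpowers x)
  · intro h y hy
    obtain ⟨n, rfl⟩ := Subgroup.mem_zpowers_iff.mp hy
    have hc : Commute x g := h x rfl
    exact (hc.zpow_left n).eq

/-- A group with a fixed-point-free conjugation of prime order is nilpotent (Thompson). -/
theorem nilpotent_of_fpf [Finite X] (K R : Subgroup X) (hK1 : K ≠ ⊥) (hR1 : R ≠ ⊥)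
    (hRK : R ≤ Subgroup.normalizer (K : Set X))
    (hfrob : ∀ r ∈ R, r ≠ 1 → K ⊓ Subgroup.centralizer ({r} : Set X) = ⊥) :
    Group.IsNilpotent K := by
  have hcard : Nat.card R ≠ 1 := fun h => hR1 (Subgroup.card_eq_one.mp h)
  obtain ⟨q, hq, hqdvd⟩ := Nat.exists_prime_and_dvd hcard
  haveI : Fact q.Prime := ⟨hq⟩
  obtain ⟨x, hx⟩ := exists_prime_orderOf_dvd_card' (G := R) q hqdvd
  have hx1 : (x : X) ≠ 1 := by
    intro h
    have : x = 1 := Subtype.ext h
    rw [this, orderOf_one] at hx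
    exact hq.one_lt.ne hx
  set ψ := conjAct K R hRK with hψ
  have hfix : ∀ k : K, ψ x k = k → k = 1 := by
    intro k hk
    have h1 := congrArg Subtype.val hk
    rw [conjAct_apply] at h1
    have h2 : (k : X) ∈ K ⊓ Subgroup.centralizer ({(x : X)} : Set X) := by
      refine ⟨k.2, ?_⟩
      change (k : X) ∈ Subgroup.centralizer ({(x : X)} : Set X)
      rw [Subgroup.mem_centralizer_iff]
      intro y hy
      rw [Set.mem_singleton_iff] at hy
      rw [hy]
      rw [mul_inv_eq_iff_eq_mul] at h1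
      exact h1
    rw [hfrob x x.2 hx1, Subgroup.mem_bot] at h2
    exact Subtype.ext h2
  have hne : ψ x ≠ 1 := by
    intro h1
    obtain ⟨k, hk1⟩ := (Subgroup.ne_bot_iff_exists_ne_one).mp hK1
    apply hk1
    apply hfix
    rw [h1]
    rfl
  have hpow : ψ x ^ q = 1 := by
    rw [← map_pow, ← hx, pow_orderOf_eq_one, map_one]
  have hord : orderOf (ψ x) = q := orderOf_eq_prime hpow hne
  exact Cfsg.Agent.Helper1.TFPF.thompson_fpf (ψ x) (fun k hk => hfix k hk) q hq hord

/-- Let X be a finite group with subgroups K, R, M such that: K and R are nontrivial, K ∩ R = 1, R normalizes K, no non-identity element of R centralizes a non-identity element of K, K ⊔ R is solvable of odd order; M is nilpotent and nontrivial, normalized by K and by R, with order coprime to that of K ⊔ R, M ∩ C(K) = 1, and M ∩ C(x) = M ∩ C(R) for all non-identity x ∈ R. Then R has prime order p, #M = #(M ∩ C(R)) ^ p, and if M ∩ C(R) is cyclic then [K, K] centralizes M. -/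
theorem result {X : Type*} [Group X] [Finite X] (K R M : Subgroup X) (hK1 : K ≠ ⊥) (hR1 : R ≠ ⊥) (hKR : K ⊓ R = ⊥)
    (hRK : R ≤ Subgroup.normalizer (K : Set X)) (hfrob : ∀ r ∈ R, r ≠ 1 → K ⊓ Subgroup.centralizer ({r} : Set X) = ⊥)
    (hsolv : Group.IsSolvable ↥(K ⊔ R)) (hodd : Odd (Nat.card ↥(K ⊔ R)))
    (hM1 : M ≠ ⊥) (hMn : Group.IsNilpotent M) (hKM : K ≤ Subgroup.normalizer (M : Set X)) (hRM : R ≤ Subgroup.normalizer (M : Set X))
    (hcop : (Nat.card ↥(K ⊔ R)).Coprime (Nat.card M)) (hCK : M ⊓ Subgroup.centralizer (K : Set X) = ⊥)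
    (hpr : ∀ x ∈ R, x ≠ 1 → M ⊓ Subgroup.centralizer ({x} : Set X) = M ⊓ Subgroup.centralizer (R : Set X)) :
    (Nat.card R).Prime ∧ Nat.card M = Nat.card ↥(M ⊓ Subgroup.centralizer (R : Set X)) ^ Nat.card R ∧
      (IsCyclic ↥(M ⊓ Subgroup.centralizer (R : Set X)) → ⁅K, K⁆ ≤ Subgroup.centralizer (M : Set X)) := by
  classical
  have hKL : K ≤ K ⊔ R := le_sup_left
  have hRL : R ≤ K ⊔ R := le_sup_right
  have hLM : K ⊔ R ≤ Subgroup.normalizer (M : Set X) := sup_le hKM hRM
  have hLK : K ⊔ R ≤ Subgroup.normalizer (K : Set X) := sup_le Subgroup.le_normalizer hRK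
  set φ := conjAct M (K ⊔ R) hLM with hφ
  set F : Subgroup ↥(K ⊔ R) := K.subgroupOf (K ⊔ R) with hF
  haveI hFn : F.Normal := (Subgroup.normal_subgroupOf_iff_le_normalizer hKL).mpr hLK
  have hKnil : Group.IsNilpotent K := nilpotent_of_fpf K R hK1 hR1 hRK hfrob
  have hFnil : Group.IsNilpotent F :=
    (Group.isNilpotent_congr (Subgroup.subgroupOfEquivOfLe hKL)).mpr hKnil
  have hfpf : ∀ T : Subgroup X, T ≤ R → ∀ h ∈ T.subgroupOf (K ⊔ R), h ≠ 1 → ∀ f ∈ F,
      h * f * h⁻¹ = f → f = 1 := by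
    intro T hT h hh h1 f hf hfix
    have hr : (h : X) ∈ R := hT (Subgroup.mem_subgroupOf.mp hh)
    have hr1 : (h : X) ≠ 1 := fun e => h1 (Subtype.ext e)
    have hfK : (f : X) ∈ K := Subgroup.mem_subgroupOf.mp hf
    have hmem : (f : X) ∈ K ⊓ Subgroup.centralizer ({(h : X)} : Set X) := by
      refine ⟨hfK, ?_⟩
      change (f : X) ∈ Subgroup.centralizer ({(h : X)} : Set X)
      rw [Subgroup.mem_centralizer_iff]
      intro y hy
      rw [Set.mem_singleton_iff] at hy
      rw [hy]
      have h2 := congrArg Subtype.val hfix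
      simp only [Subgroup.coe_mul, Subgroup.coe_inv] at h2
      rw [mul_inv_eq_iff_eq_mul] at h2
      exact h2
    rw [hfrob _ hr hr1, Subgroup.mem_bot] at hmem
    exact Subtype.ext hmem
  have hCF : fix φ F = ⊥ := by
    have h1 := map_fix_conjAct M (K ⊔ R) hLM K hKL
    rw [hCK] at h1
    rw [eq_bot_iff]
    intro m hm
    have h2 : M.subtype m ∈ (fix φ F).map M.subtype := Subgroup.mem_map_of_mem _ hm
    rw [h1, Subgroup.mem_bot] at h2
    rw [Subgroup.mem_bot]
    exact Subtype.ext h2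
  -- Theorem A for subgroups of `R`
  have hA : ∀ T : Subgroup X, T ≤ R →
      Nat.card M = Nat.card ↥(M ⊓ Subgroup.centralizer (T : Set X)) ^ Nat.card T := by
    intro T hT
    have h1 := card_eq_pow_fix F (T.subgroupOf (K ⊔ R)) hFnil (hfpf T hT) M φ hMn hcop hCF
    rw [card_fix_conjAct M (K ⊔ R) hLM T (hT.trans hRL),
      Nat.card_congr (Subgroup.subgroupOfEquivOfLe (hT.trans hRL)).toEquiv] at h1
    exact h1
  have hAR := hA R le_rfl
  set c := Nat.card ↥(M ⊓ Subgroup.centralizer (R : Set X)) with hc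
  have hMcard : 1 < Nat.card M := by
    rw [Finite.one_lt_card_iff_nontrivial]
    exact (Subgroup.nontrivial_iff_ne_bot M).mpr hM1
  have hc2 : 2 ≤ c := by
    by_contra hlt
    push Not at hlt
    have hcpos : 0 < c := Nat.card_pos
    have hc1 : c = 1 := by omega
    rw [hAR, hc1, one_pow] at hMcard
    exact lt_irrefl _ hMcard
  have hord : ∀ x ∈ R, x ≠ 1 → orderOf x = Nat.card R := by
    intro x hx hx1
    have h1 := hA (Subgroup.zpowers x) (by rw [Subgroup.zpowers_le]; exact hx)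
    rw [centralizer_zpowers_eq, hpr x hx hx1, Nat.card_zpowers, hAR] at h1
    exact (Nat.pow_right_injective hc2 h1).symm
  have hRcard : Nat.card R ≠ 1 := fun h => hR1 (Subgroup.card_eq_one.mp h)
  have hprime : (Nat.card R).Prime := by
    obtain ⟨q, hq, hqdvd⟩ := Nat.exists_prime_and_dvd hRcard
    haveI : Fact q.Prime := ⟨hq⟩
    obtain ⟨x, hx⟩ := exists_prime_orderOf_dvd_card' (G := R) q hqdvd
    have hx1 : (x : X) ≠ 1 := by
      intro h
      have : x = 1 := Subtype.ext h
      rw [this, orderOf_one] at hx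
      exact hq.one_lt.ne hx
    have h1 := hord (x : X) x.2 hx1
    rw [Subgroup.orderOf_coe, hx] at h1
    rw [← h1]
    exact hq
  refine ⟨hprime, hAR, ?_⟩
  intro hcyc
  set H : Subgroup ↥(K ⊔ R) := R.subgroupOf (K ⊔ R) with hH
  have hFH : F ⊔ H = ⊤ := by
    rw [hF, hH, ← Subgroup.subgroupOf_sup hKL hRL, Subgroup.subgroupOf_self]
  have hHcard : Nat.card H = Nat.card R :=
    Nat.card_congr (Subgroup.subgroupOfEquivOfLe hRL).toEquiv
  have hcycfix : IsCyclic (fix φ H) := by
    haveI := hcyc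
    exact isCyclic_of_surjective (fixEquiv M (K ⊔ R) hLM R hRL).symm
      (fixEquiv M (K ⊔ R) hLM R hRL).symm.surjective
  have hB := comm_act_of_cyclic F H hFnil (hfpf R le_rfl) hFH (Nat.card R) hprime hHcard M φ hMn
    hcop hCF hcycfix
  rw [Subgroup.commutator_le]
  intro k₁ hk₁ k₂ hk₂
  rw [Subgroup.mem_centralizer_iff]
  intro m hm
  set a : ↥(K ⊔ R) := ⟨k₁, hKL hk₁⟩ with ha
  set b : ↥(K ⊔ R) := ⟨k₂, hKL hk₂⟩ with hb
  have h1 := hB a (Subgroup.mem_subgroupOf.mpr hk₁) b (Subgroup.mem_subgroupOf.mpr hk₂)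
  have h2 : φ ((a * b) * (b * a)⁻¹) = 1 := by
    rw [map_mul, h1, ← map_mul, mul_inv_cancel, map_one]
  have h3 := congrArg (fun e : MulAut M => ((e ⟨m, hm⟩ : M) : X)) h2
  simp only [MulAut.one_apply] at h3
  rw [hφ, conjAct_apply] at h3
  have h4 : ((a * b * (b * a)⁻¹ : ↥(K ⊔ R)) : X) = ⁅k₁, k₂⁆ := by
    rw [commutatorElement_def]
    simp only [Subgroup.coe_mul, Subgroup.coe_inv, ha, hb, mul_inv_rev]
    group
  rw [h4] at h3
  change ⁅k₁, k₂⁆ * m * ⁅k₁, k₂⁆⁻¹ = m at h3
  rw [mul_inv_eq_iff_eq_mul] at h3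
  exact h3.symm


end Cfsg.Agent.S1446
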