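import Mathlib
import Cfsg.Statements.S3769
import Cfsg.Agent.Helper3.ShActB
import Cfsg.Agent.Helper3.InvariantSylow
import Cfsg.Agent.S1446
-- import your own Cfsg.Agent.* helpers here

set_option autoImplicit false
open Cfsg

namespace Cfsg.Agent.S3769
open scoped commutatorElement

set_option maxHeartbeats 1000000 in
/-- Let G and V be subgroups of a finite group with G solvable of odd order normalizing V, V an elementary abelian ℓ-group for a prime ℓ not dividing the order of G, and suppose G has a normal Hall subgroup K with a complement R of prime order. If C_V(R) = 1, then [R, K] centralizes V. -/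
theorem result {X : Type*} [Group X] [Finite X] (G : Subgroup X) (hsolv : Group.IsSolvable G) (hodd : Odd (Nat.card G)) (V : Subgroup X) {ℓ : ℕ} (hℓ : ℓ.Prime) (hV : Cfsg.IsElementaryAbelian ℓ V) (hℓG : ¬ ℓ ∣ Nat.card G) (hGV : G ≤ Subgroup.normalizer (V : Set X)) (K R : Subgroup X) (hKG : K ≤ G) (hKn : G ≤ Subgroup.normalizer (K : Set X)) (hHall : (Nat.card K).Coprime (K.relIndex G)) (hRG : R ≤ G) (hR : (Nat.card R).Prime) (hKR : K ⊓ R = ⊥) (hKRG : K ⊔ R = G) (hCV : V ⊓ Subgroup.centralizer (R : Set X) = ⊥) : ⁅R, K⁆ ≤ Subgroup.centralizer (V : Set X) := by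
  classical
  obtain ⟨r, hrdef⟩ : ∃ r, r = Nat.card R := ⟨_, rfl⟩
  have hr : r.Prime := hrdef ▸ hR
  haveI : Fact r.Prime := ⟨hr⟩
  obtain ⟨K', hK'⟩ : ∃ K' : Subgroup ↥G, K' = K.subgroupOf G := ⟨_, rfl⟩
  obtain ⟨R', hR'⟩ : ∃ R' : Subgroup ↥G, R' = R.subgroupOf G := ⟨_, rfl⟩
  have hK'mem : ∀ g : ↥G, g ∈ K' ↔ (g : X) ∈ K := by
    intro g; rw [hK', Subgroup.mem_subgroupOf]
  have hR'mem : ∀ g : ↥G, g ∈ R' ↔ (g : X) ∈ R := by
    intro g; rw [hR', Subgroup.mem_subgroupOf]
  haveI hK'n : K'.Normal := by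
    rw [hK']; exact (Subgroup.normal_subgroupOf_iff_le_normalizer hKG).2 hKn
  have hsup : K' ⊔ R' = ⊤ := by
    rw [hK', hR', ← Subgroup.subgroupOf_sup hKG hRG, hKRG, Subgroup.subgroupOf_self]
  have hinf : K' ⊓ R' = ⊥ := by
    rw [eq_bot_iff]
    intro g hg
    rw [Subgroup.mem_inf, hK'mem, hR'mem] at hg
    have : (g : X) ∈ K ⊓ R := hg
    rw [hKR, Subgroup.mem_bot] at this
    rw [Subgroup.mem_bot]
    exact Subtype.ext this
  have hcardR' : Nat.card R' = r := by
    rw [hrdef, hR']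
    exact Nat.card_congr (Subgroup.subgroupOfEquivOfLe hRG).toEquiv
  have hcardK' : Nat.card K' = Nat.card K := by
    rw [hK']
    exact Nat.card_congr (Subgroup.subgroupOfEquivOfLe hKG).toEquiv
  have hidx : K'.index = r := by
    have h1 := Subgroup.relIndex_sup_left R' K'
    rw [hsup, Subgroup.relIndex_top_right, ← Subgroup.inf_relIndex_right, hinf,
      Subgroup.relIndex_bot_left, hcardR'] at h1
    exact h1
  have hrK' : ¬ r ∣ Nat.card K' := by
    intro h
    have h1 : K.relIndex G = r := by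
      rw [← hidx, hK']; rfl
    rw [h1, ← hcardK'] at hHall
    have := Nat.Coprime.eq_one_of_dvd hHall.symm h
    exact hr.one_lt.ne' this
  -- a generator of R'
  haveI : Nontrivial ↥R' := by
    apply (Finite.one_lt_card_iff_nontrivial).1
    rw [hcardR']; exact hr.one_lt
  obtain ⟨x₀, hx₀⟩ := exists_ne (1 : ↥R')
  have hzp : Subgroup.zpowers x₀ = ⊤ := zpowers_eq_top_of_prime_card hcardR' hx₀
  obtain ⟨x, hxR', hxx₀⟩ : ∃ x : ↥G, ∃ h : x ∈ R', (⟨x, h⟩ : ↥R') = x₀ := ⟨x₀, x₀.2, rfl⟩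
  have hx1 : x ≠ 1 := by
    intro h
    apply hx₀
    rw [← hxx₀]
    exact Subtype.ext h
  have hxr : x ^ r = 1 := by
    have h1 : x₀ ^ Nat.card ↥R' = 1 := pow_card_eq_one'
    rw [hcardR', ← hxx₀] at h1
    have := congrArg Subtype.val h1
    simpa using this
  have hordx : orderOf x = r := by
    have h1 : orderOf x ∣ r := orderOf_dvd_of_pow_eq_one hxr
    rcases (Nat.dvd_prime hr).1 h1 with h | h
    · exact absurd (orderOf_eq_one_iff.1 h) hx1
    · exact h
  have hR'pow : ∀ y ∈ R', ∃ n : ℤ, x ^ n = y := by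
    intro y hy
    have h1 : (⟨y, hy⟩ : ↥R') ∈ Subgroup.zpowers x₀ := by rw [hzp]; trivial
    obtain ⟨n, hn⟩ := Subgroup.mem_zpowers_iff.1 h1
    refine ⟨n, ?_⟩
    have := congrArg Subtype.val hn
    rw [← hxx₀] at this
    simpa using this
  -- the action
  obtain ⟨ψ, hψ⟩ : ∃ ψ : ↥G →* MulAut ↥V, ψ = Cfsg.Agent.S1446.conjAct V G hGV := ⟨_, rfl⟩
  have hψapp : ∀ (g : ↥G) (v : ↥V), ((ψ g v : ↥V) : X) = (g : X) * v * (g : X)⁻¹ := by
    intro g v
    rw [hψ, Cfsg.Agent.S1446.conjAct_apply]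
  have hcommV : ∀ a b : ↥V, a * b = b * a := fun a b => hV.1.is_comm.comm a b
  have hexpV : ∀ a : ↥V, a ^ ℓ = 1 := by
    intro a
    apply Subtype.ext
    have := hV.2 a a.2
    simpa using this
  have hfix : ∀ v : ↥V, ψ x v = v → v = 1 := by
    intro v hv
    have h1 := congrArg Subtype.val hv
    rw [hψapp, mul_inv_eq_iff_eq_mul] at h1
    have h2 : (v : X) ∈ V ⊓ Subgroup.centralizer (R : Set X) := by
      refine ⟨v.2, ?_⟩
      change (v : X) ∈ Subgroup.centralizer (R : Set X)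
      rw [Subgroup.mem_centralizer_iff]
      intro y hy
      have hyG : y ∈ G := hRG hy
      obtain ⟨n, hn⟩ := hR'pow ⟨y, hyG⟩ ((hR'mem _).2 hy)
      have hn' : (x : X) ^ n = y := by
        have := congrArg Subtype.val hn
        simpa using this
      rw [← hn']
      have hc : Commute (x : X) (v : X) := h1
      exact (hc.zpow_left n).eq
    rw [hCV, Subgroup.mem_bot] at h2
    exact Subtype.ext h2
  -- the subgroup of K' commuting with x modulo the kernel
  obtain ⟨L, hL⟩ : ∃ L : Subgroup ↥G,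
      L = K' ⊓ (Subgroup.centralizer {ψ x}).comap ψ := ⟨_, rfl⟩
  have hLmem : ∀ g : ↥G, g ∈ L ↔ g ∈ K' ∧ ψ g * ψ x = ψ x * ψ g := by
    intro g
    rw [hL, Subgroup.mem_inf, Subgroup.mem_comap, Subgroup.mem_centralizer_singleton_iff]
  have hLK : L = K' := by
    have hLle : L ≤ K' := by rw [hL]; exact inf_le_left
    apply Subgroup.eq_of_le_of_card_ge hLle
    apply Nat.le_of_dvd Nat.card_pos
    rw [← Nat.factorization_le_iff_dvd Nat.card_pos.ne' Nat.card_pos.ne']
    intro q
    by_cases hq : q.Prime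
    · haveI : Fact q.Prime := ⟨hq⟩
      obtain ⟨S, hSK, hScard, hSx⟩ :=
        Cfsg.Agent.Helper3.InvariantSylow.exists_invariant_sylow K' hidx hrK' x hordx q
      rw [← hq.pow_dvd_iff_le_factorization Nat.card_pos.ne', ← hScard]
      by_cases hSL : S ≤ L
      · exact Subgroup.card_dvd_of_le hSL
      · exfalso
        obtain ⟨g, hgS, hgL⟩ := SetLike.not_le_iff_exists.1 hSL
        have hSp : IsPGroup q S := IsPGroup.of_card hScard
        have hqdvd : q ∣ Nat.card K' := by
          have hpos : 0 < (Nat.card K').factorization q := by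
            by_contra h0
            push Not at h0
            have h0' : (Nat.card K').factorization q = 0 := by omega
            rw [h0', pow_zero] at hScard
            have hS1 : S = ⊥ := Subgroup.card_eq_one.1 hScard
            rw [hS1, Subgroup.mem_bot] at hgS
            apply hgL
            rw [hgS]
            exact L.one_mem
          exact Nat.dvd_of_factorization_pos hpos.ne'
        have hqG : q ∣ Nat.card G := by
          rw [hcardK'] at hqdvd
          exact hqdvd.trans (Subgroup.card_dvd_of_le hKG)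
        have hqr : q ≠ r := by
          intro h
          rw [h] at hqdvd
          exact hrK' hqdvd
        have hℓq : ℓ ≠ q := by
          intro h
          rw [← h] at hqG
          exact hℓG hqG
        have hℓr : ℓ ≠ r := by
          intro h
          apply hℓG
          rw [h, hrdef]
          exact Subgroup.card_dvd_of_le hRG
        have hmain := Cfsg.Agent.Helper3.Shult.shult_act_B (Γ := ↥G) (A := ↥V) ℓ q r hℓ hq hr hℓq
          hℓr hqr hcommV hexpV ψ x hxr S hSp
          (by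
            intro g hg
            exact (Subgroup.mem_normalizer_iff.1 hSx g).1 hg)
          (by
            refine ⟨g, hgS, ?_⟩
            intro heq
            apply hgL
            rw [hLmem]
            refine ⟨hSK hgS, ?_⟩
            have h5 : ψ x * ψ g * (ψ x)⁻¹ = ψ g := by
              rw [← map_inv, ← map_mul, ← map_mul]; exact heq
            calc ψ g * ψ x = (ψ x * ψ g * (ψ x)⁻¹) * ψ x := by rw [h5]
              _ = ψ x * ψ g := by group)
          hfix
        have hq2 : q = 2 := hmain.1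
        rw [hq2] at hqG
        exact (Nat.not_even_iff_odd.2 hodd) (even_iff_two_dvd.2 hqG)
    · rw [Nat.factorization_eq_zero_of_not_prime _ hq]
      exact Nat.zero_le _
  -- conclusion
  rw [Subgroup.commutator_le]
  intro a ha b hb
  rw [Subgroup.mem_centralizer_iff]
  intro v hv
  have haG : a ∈ G := hRG ha
  have hbG : b ∈ G := hKG hb
  obtain ⟨n, hn⟩ := hR'pow ⟨a, haG⟩ ((hR'mem _).2 ha)
  have hbL : (⟨b, hbG⟩ : ↥G) ∈ L := by
    rw [hLK, hK'mem]
    exact hb
  have hcomm1 : Commute (ψ x) (ψ ⟨b, hbG⟩) := ((hLmem _).1 hbL).2.symm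
  have hcomm2 : Commute (ψ (⟨a, haG⟩ : ↥G)) (ψ ⟨b, hbG⟩) := by
    rw [← hn, map_zpow]
    exact hcomm1.zpow_left n
  have h2 : ψ (⟨a, haG⟩ * ⟨b, hbG⟩ * (⟨a, haG⟩ : ↥G)⁻¹ * (⟨b, hbG⟩ : ↥G)⁻¹) = 1 := by
    rw [map_mul, map_mul, map_mul, map_inv, map_inv, hcomm2.eq, mul_inv_cancel_right,
      mul_inv_cancel]
  have h3 := congrArg (fun e : MulAut ↥V => ((e ⟨v, hv⟩ : ↥V) : X)) h2
  simp only [MulAut.one_apply] at h3
  rw [hψapp] at h3
  have h4 : ((⟨a, haG⟩ * ⟨b, hbG⟩ * (⟨a, haG⟩ : ↥G)⁻¹ * (⟨b, hbG⟩ : ↥G)⁻¹ : ↥G) : X) = ⁅a, b⁆ := by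
    rw [commutatorElement_def]
    rfl
  rw [h4] at h3
  change ⁅a, b⁆ * v * ⁅a, b⁆⁻¹ = v at h3
  rw [mul_inv_eq_iff_eq_mul] at h3
  exact h3.symm


end Cfsg.Agent.S3769
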