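import Mathlib
import Cfsg.Statements.S3808
import Cfsg.Prelude.Def_Transfer
-- import your own Cfsg.Agent.* helpers here

set_option autoImplicit false
open Cfsg

namespace Cfsg.Agent.S3808
universe u

/-- A normal subgroup of order `p` of a finite `p`-group is central. -/
theorem normal_card_prime_le_center {G : Type u} [Group G] [Finite G] (p : ℕ) [hp : Fact p.Prime]
    (hG : IsPGroup p G) (N : Subgroup G) [hN : N.Normal] (hc : Nat.card N = p) :
    N ≤ Subgroup.center G := by
  have hcyc : IsCyclic N := isCyclic_of_prime_card hc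
  let φ : G →* MulAut N := MulAut.conjNormal
  have hφ : ∀ (g : G) (n : N), ((φ g n : N) : G) = g * n * g⁻¹ := fun g n => rfl
  have hcardAut : Nat.card (MulAut N) = p - 1 := by
    rw [IsCyclic.card_mulAut, hc, Nat.totient_prime hp.out]
  have htriv : ∀ g : G, φ g = 1 := by
    intro g
    obtain ⟨k, hk⟩ := hG g
    have h1 : (φ g) ^ (p ^ k) = 1 := by rw [← map_pow, hk, map_one]
    have h2 : (φ g) ^ (p - 1) = 1 := by
      rw [← hcardAut]; exact pow_card_eq_one'
    have h3 : orderOf (φ g) ∣ Nat.gcd (p ^ k) (p - 1) :=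
      Nat.dvd_gcd (orderOf_dvd_of_pow_eq_one h1) (orderOf_dvd_of_pow_eq_one h2)
    have h4 : Nat.gcd (p ^ k) (p - 1) = 1 := by
      apply Nat.Coprime.pow_left
      rw [Nat.Prime.coprime_iff_not_dvd hp.out]
      intro hd
      have := Nat.le_of_dvd (by have := hp.out.two_le; omega) hd
      have := hp.out.two_le
      omega
    rw [h4, Nat.dvd_one, orderOf_eq_one_iff] at h3
    exact h3
  intro n hn
  rw [Subgroup.mem_center_iff]
  intro g
  have := hφ g ⟨n, hn⟩
  rw [htriv g] at this
  have h5 : n = g * n * g⁻¹ := this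
  calc g * n = (g * n * g⁻¹) * g := by group
    _ = n * g := by rw [← h5]

/-- Let S be a finite p-group with an extraspecial subgroup Q of index p. Then either Z(S) = Z(Q), or S = Q·Z(S) and Z(S) has order p². -/
theorem result {S : Type*} [Group S] [Finite S] (p : ℕ) [Fact p.Prime] (hS : IsPGroup p S) (Q : Subgroup S) (hQ : Cfsg.IsExtraspecial p ↥Q) (hQi : Q.index = p) :
    Subgroup.center S = (Subgroup.center ↥Q).map Q.subtype ∨
      (Q ⊔ Subgroup.center S = ⊤ ∧ Nat.card (Subgroup.center S) = p ^ 2) := by
  have hp := (Fact.out : p.Prime)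
  obtain ⟨-, hZQ⟩ := hQ
  set Z0 : Subgroup S := (Subgroup.center ↥Q).map Q.subtype with hZ0
  have hZ0card : Nat.card Z0 = p := by
    rw [hZ0, Subgroup.card_map_of_injective Q.subtype_injective, hZQ]
  have hQn : Q.Normal := by
    apply Subgroup.normal_of_index_eq_minFac_card
    obtain ⟨k, hk⟩ := IsPGroup.iff_card.mp hS
    have hk0 : k ≠ 0 := by
      rintro rfl
      rw [pow_zero] at hk
      have := Subgroup.index_dvd_card Q
      rw [hQi, hk] at this
      exact hp.one_lt.ne' (Nat.dvd_one.mp this)
    rw [hQi, hk, Nat.pow_minFac hk0, hp.minFac_eq]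
  have hZ0n : Z0.Normal := ConjAct.normal_of_characteristic_of_normal
  have hZ0c : Z0 ≤ Subgroup.center S := normal_card_prime_le_center p hS Z0 hZ0card
  -- Z(S) ⊓ Q = Z0
  have hinf : Subgroup.center S ⊓ Q = Z0 := by
    apply le_antisymm
    · intro z hz
      obtain ⟨hzc, hzQ⟩ := Subgroup.mem_inf.mp hz
      refine ⟨⟨z, hzQ⟩, ?_, rfl⟩
      rw [SetLike.mem_coe, Subgroup.mem_center_iff]
      intro g
      apply Subtype.ext
      exact Subgroup.mem_center_iff.mp hzc g.1
    · apply le_inf hZ0c
      rw [hZ0]
      exact Subgroup.map_subtype_le _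
  by_cases hle : Subgroup.center S ≤ Q
  · left
    rw [← hinf]
    exact (inf_eq_left.mpr hle).symm
  · right
    have htop : Q ⊔ Subgroup.center S = ⊤ := by
      by_contra hne
      apply hle
      have hlt : Q ≤ Q ⊔ Subgroup.center S := le_sup_left
      -- index argument
      have h1 := Subgroup.relIndex_mul_index hlt
      rw [hQi] at h1
      have h2 : (Q ⊔ Subgroup.center S).index ∣ p := ⟨_, by rw [← h1]; ring⟩
      rcases (Nat.dvd_prime hp).mp h2 with h3 | h3
      · exact absurd (Subgroup.index_eq_one.mp h3) hne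
      · rw [h3] at h1
        have h4 : Q.relIndex (Q ⊔ Subgroup.center S) = 1 := by
          have := hp.pos
          exact Nat.eq_of_mul_eq_mul_right this (by rw [h1, one_mul])
        rw [Subgroup.relIndex_eq_one] at h4
        exact le_trans le_sup_right h4
    refine ⟨htop, ?_⟩
    have h1 : Q.relIndex (Q ⊔ Subgroup.center S) = Q.relIndex (Subgroup.center S) :=
      Subgroup.relIndex_sup_left _ _
    rw [htop, Subgroup.relIndex_top_right, hQi] at h1
    have h2 : (Subgroup.center S ⊓ Q).relIndex (Subgroup.center S) = p := by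
      rw [inf_comm, Subgroup.inf_relIndex_right, ← h1]
    have h3 : Nat.card (Subgroup.center S ⊓ Q : Subgroup S) *
        (Subgroup.center S ⊓ Q).relIndex (Subgroup.center S) = Nat.card (Subgroup.center S) :=
      by
        have := Subgroup.relIndex_mul_relIndex ⊥ (Subgroup.center S ⊓ Q) (Subgroup.center S)
          bot_le inf_le_left
        rwa [Subgroup.relIndex_bot_left, Subgroup.relIndex_bot_left] at this
    rw [h2, hinf, hZ0card] at h3
    rw [← h3, pow_two]


end Cfsg.Agent.S3808
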