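import Mathlib
import Cfsg.Statements.S0095
import Cfsg.Prelude.Def_Transfer
import Cfsg.Agent.S3808
-- import your own Cfsg.Agent.* helpers here

set_option autoImplicit false
open Cfsg

namespace Cfsg.Agent.S0095
universe u
open scoped commutatorElement

/-- In a group with central commutator subgroup, `e ↦ ⁅u, e⁆` is a hom into the commutator subgroup. -/
def cHom {P : Type u} [Group P] (hc : commutator P ≤ Subgroup.center P) (u : P) :
    P →* commutator P where
  toFun e := ⟨⁅u, e⁆, by
    rw [commutator_def]
    exact Subgroup.commutator_mem_commutator (Subgroup.mem_top _) (Subgroup.mem_top _)⟩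
  map_one' := by
    apply Subtype.ext
    simp
  map_mul' a b := by
    apply Subtype.ext
    have hc1 : ⁅u, b⁆ ∈ Subgroup.center P := hc (by
      rw [commutator_def]
      exact Subgroup.commutator_mem_commutator (Subgroup.mem_top _) (Subgroup.mem_top _))
    have h1 := Subgroup.mem_center_iff.mp hc1 a⁻¹
    show ⁅u, a * b⁆ = ⁅u, a⁆ * ⁅u, b⁆
    have h2 : ⁅u, a * b⁆ = u * a * u⁻¹ * ⁅u, b⁆ * a⁻¹ := by
      rw [commutatorElement_def, commutatorElement_def]; group
    rw [h2, mul_assoc (u * a * u⁻¹), ← h1, commutatorElement_def u a]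
    group

theorem cHom_apply {P : Type u} [Group P] (hc : commutator P ≤ Subgroup.center P) (u e : P) :
    ((cHom hc u e : commutator P) : P) = ⁅u, e⁆ := rfl

theorem cHom_eq_one_iff {P : Type u} [Group P] (hc : commutator P ≤ Subgroup.center P) (u e : P) :
    cHom hc u e = 1 ↔ u * e = e * u := by
  rw [← commutatorElement_eq_one_iff_mul_comm, ← cHom_apply hc u e]
  constructor
  · intro h; rw [h]; rfl
  · intro h; exact Subtype.ext h

theorem class_two_index (p : ℕ) [hp : Fact p.Prime] : ∀ (n : ℕ) (P : Type u) [Group P] [Finite P],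
    Nat.card P = n → IsPGroup p P → Nat.card (commutator P) ∣ p →
    ∃ m : ℕ, (Subgroup.center P).index = p ^ (2 * m) := by
  intro n
  induction n using Nat.strong_induction_on with
  | _ n ih =>
  intro P _ _ hn hP hcard
  by_cases hbot : commutator P = ⊥
  · refine ⟨0, ?_⟩
    rw [(commutator_eq_bot_iff_center_eq_top P).1 hbot, Subgroup.index_top]
    simp
  have hcp : Nat.card (commutator P) = p := by
    rcases (Nat.dvd_prime hp.out).1 hcard with h | h
    · exact absurd (Subgroup.card_eq_one.1 h) hbot
    · exact h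
  have hc : commutator P ≤ Subgroup.center P :=
    Cfsg.Agent.S3808.normal_card_prime_le_center p hP (commutator P) hcp
  -- a nontrivial commutator
  obtain ⟨x, y, hxy⟩ : ∃ x y : P, ⁅x, y⁆ ≠ 1 := by
    by_contra hcon
    push Not at hcon
    apply hbot
    rw [commutator_def, Subgroup.commutator_eq_bot_iff_le_centralizer]
    intro a _
    rw [Subgroup.mem_centralizer_iff]
    intro b _
    have := hcon a b
    rw [commutatorElement_eq_one_iff_mul_comm] at this
    exact this.symm
  set C := commutator P with hC
  set z : C := cHom hc x y with hz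
  have hz1 : z ≠ 1 := by
    intro h
    apply hxy
    rw [← cHom_apply hc x y, ← hz, h]; rfl
  have hztop : Subgroup.zpowers z = ⊤ := zpowers_eq_top_of_prime_card hcp hz1
  set ψ : P →* C × C := (cHom hc x).prod (cHom hc y) with hψ
  have hψy : ψ y = (z, 1) := by
    rw [hψ, MonoidHom.prod_apply]
    congr 1
    apply Subtype.ext
    rw [cHom_apply]; simp
  have hψx : ψ x = (1, z⁻¹) := by
    rw [hψ, MonoidHom.prod_apply]
    congr 1
    · apply Subtype.ext
      rw [cHom_apply]; simp
    · apply Subtype.ext
      rw [cHom_apply, hz, Subgroup.coe_inv, cHom_apply, commutatorElement_inv]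
  have hsurj : Function.Surjective ψ := by
    rintro ⟨a, b⟩
    have ha : a ∈ Subgroup.zpowers z := hztop ▸ Subgroup.mem_top a
    have hb : b ∈ Subgroup.zpowers z := hztop ▸ Subgroup.mem_top b
    obtain ⟨i, rfl⟩ := Subgroup.mem_zpowers_iff.1 ha
    obtain ⟨j, rfl⟩ := Subgroup.mem_zpowers_iff.1 hb
    refine ⟨y ^ i * x ^ (-j), ?_⟩
    rw [map_mul, map_zpow, map_zpow, hψy, hψx]
    ext <;> simp
  set D := ψ.ker with hD
  have hDidx : D.index = p ^ 2 := by
    rw [hD, Subgroup.index_ker, MonoidHom.range_eq_top.2 hsurj, Subgroup.card_top, Nat.card_prod, hcp]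
    ring
  have hmemD : ∀ g : P, g ∈ D ↔ x * g = g * x ∧ y * g = g * y := by
    intro g
    rw [hD, MonoidHom.mem_ker, hψ, MonoidHom.prod_apply, Prod.mk_eq_one, cHom_eq_one_iff,
      cHom_eq_one_iff]
  -- centre of D
  have hZD : (Subgroup.center D).map D.subtype = Subgroup.center P := by
    apply le_antisymm
    · rintro _ ⟨d, hd, rfl⟩
      rw [Subgroup.mem_center_iff]
      intro g
      obtain ⟨hdx, hdy⟩ := (hmemD d).1 d.2
      -- write g = y^i x^(-j) d'
      have : ∃ i j : ℤ, (y ^ i * x ^ j)⁻¹ * g ∈ D := by
        have ha : (ψ g).1 ∈ Subgroup.zpowers z := hztop ▸ Subgroup.mem_top _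
        have hb : (ψ g).2 ∈ Subgroup.zpowers z := hztop ▸ Subgroup.mem_top _
        obtain ⟨i, hi⟩ := Subgroup.mem_zpowers_iff.1 ha
        obtain ⟨j, hj⟩ := Subgroup.mem_zpowers_iff.1 hb
        refine ⟨i, -j, ?_⟩
        rw [hD, MonoidHom.mem_ker, map_mul, map_inv, map_mul, map_zpow, map_zpow, hψy, hψx]
        ext
        · simp [hi]
        · simp [hj]
      obtain ⟨i, j, hij⟩ := this
      set d' := (y ^ i * x ^ j)⁻¹ * g with hd'
      have hg : g = y ^ i * x ^ j * d' := by rw [hd']; group
      have h1 : Commute (d : P) x := hdx.symm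
      have h2 : Commute (d : P) y := hdy.symm
      have h3 : Commute (d : P) d' := by
        have := Subgroup.mem_center_iff.1 hd ⟨d', hij⟩
        have := congrArg Subtype.val this
        exact this.symm
      have h4 : Commute (d : P) g := by
        rw [hg]
        exact ((h2.zpow_right i).mul_right (h1.zpow_right j)).mul_right h3
      exact h4.eq.symm
    · intro c hcc
      have hcD : c ∈ D := by
        rw [hmemD]
        exact ⟨Subgroup.mem_center_iff.1 hcc x, Subgroup.mem_center_iff.1 hcc y⟩
      refine ⟨⟨c, hcD⟩, ?_, rfl⟩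
      refine Subgroup.mem_center_iff.2 ?_
      intro g
      apply Subtype.ext
      exact Subgroup.mem_center_iff.1 hcc g
  have hcardZ : Nat.card (Subgroup.center D) = Nat.card (Subgroup.center P) := by
    rw [← hZD, Subgroup.card_map_of_injective D.subtype_injective]
  -- induction hypothesis for D
  have hDlt : Nat.card D < n := by
    have h1 := D.card_mul_index
    rw [hDidx, hn] at h1
    have hp2 : 2 ≤ p := hp.out.two_le
    have hpos : 0 < Nat.card D := Nat.card_pos
    have h4 : 4 ≤ p ^ 2 := by nlinarith
    nlinarith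
  have hDcomm : Nat.card (commutator D) ∣ p := by
    have h1 : (commutator D).map D.subtype ≤ commutator P := by
      rw [commutator_def, Subgroup.map_commutator, commutator_def]
      exact Subgroup.commutator_mono le_top le_top
    have h2 := Subgroup.card_dvd_of_le h1
    rw [Subgroup.card_map_of_injective D.subtype_injective, ← hC, hcp] at h2
    exact h2
  obtain ⟨m, hm⟩ := ih (Nat.card D) hDlt D rfl (hP.to_subgroup D) hDcomm
  refine ⟨m + 1, ?_⟩
  have e1 := (Subgroup.center P).card_mul_index
  have e2 := D.card_mul_index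
  have e3 := (Subgroup.center D).card_mul_index
  rw [hDidx] at e2
  rw [hcardZ, hm] at e3
  have hpos : 0 < Nat.card (Subgroup.center P) := Nat.card_pos
  have : Nat.card (Subgroup.center P) * (Subgroup.center P).index =
      Nat.card (Subgroup.center P) * (p ^ (2 * (m + 1))) := by
    rw [e1, ← e2, ← e3]; ring
  exact Nat.eq_of_mul_eq_mul_left hpos this

/-- The order of an extraspecial p-group is an odd power p^(2n+1) of p with n ≥ 1. -/
theorem result {P : Type*} [Group P] [Finite P] {p : ℕ} [Fact p.Prime] (h : Cfsg.IsExtraspecial p P) : ∃ n : ℕ, 1 ≤ n ∧ Nat.card P = p ^ (2 * n + 1) := by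
  obtain ⟨⟨hP, hfr, hcomm⟩, hcard⟩ := h
  have hp : p.Prime := Fact.out
  obtain ⟨m, hm⟩ := class_two_index p (Nat.card P) P rfl hP (by rw [hcomm, hcard])
  have e1 := (Subgroup.center P).card_mul_index
  rw [hm, hcard] at e1
  refine ⟨m, ?_, ?_⟩
  · by_contra hm0
    have : m = 0 := by omega
    subst this
    have h1 : (Subgroup.center P).index = 1 := by rw [hm]; simp
    rw [Subgroup.index_eq_one] at h1
    have h2 := (commutator_eq_bot_iff_center_eq_top P).2 h1
    rw [hcomm, h1] at h2
    have : Nat.card (Subgroup.center P) = 1 := by rw [h1, h2]; simp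
    rw [hcard] at this
    exact hp.one_lt.ne' this
  · rw [← e1]; ring

end Cfsg.Agent.S0095
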