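import Mathlib
import Cfsg.Statements.S0043

set_option autoImplicit false
open Cfsg

namespace Cfsg.Agent.S0043

/-- A minimal normal subgroup of a finite solvable group is abelian, and for some prime p all of its elements have order dividing p. -/
theorem result {G : Type*} [Group G] [Finite G] [Group.IsSolvable G]
    (N : Subgroup G) [N.Normal] (hN : N ≠ ⊥) (hmin : ∀ M : Subgroup G, M.Normal → M ≤ N → M = ⊥ ∨ M = N) :
    IsMulCommutative N ∧ ∃ p : ℕ, p.Prime ∧ ∀ x ∈ N, x ^ p = 1 := by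
  -- N is abelian
  have hsolvN : Group.IsSolvable N := inferInstance
  have hNnt : Nontrivial N := (Subgroup.nontrivial_iff_ne_bot N).2 hN
  have hcomm_ne : ⁅N, N⁆ ≠ N := by
    intro h
    have h1 : (commutator N).map N.subtype = (⊤ : Subgroup N).map N.subtype := by
      rw [Subgroup.map_subtype_commutator, h, ← MonoidHom.range_eq_map, Subgroup.range_subtype]
    have h2 : commutator N = ⊤ := Subgroup.map_injective N.subtype_injective h1
    exact (Group.IsSolvable.commutator_lt_top_of_nontrivial N).ne h2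
  have hcomm_bot : ⁅N, N⁆ = ⊥ :=
    (hmin ⁅N, N⁆ inferInstance (Subgroup.commutator_le_self N)).resolve_right hcomm_ne
  have hab : IsMulCommutative N := by
    rw [Subgroup.commutator_eq_bot_iff_le_centralizer] at hcomm_bot
    exact Subgroup.le_centralizer_iff_isMulCommutative.1 hcomm_bot
  refine ⟨hab, ?_⟩
  -- a prime dividing the order
  have hcard : Nat.card N ≠ 1 := fun h => hN (Subgroup.card_eq_one.1 h)
  obtain ⟨p, hp, hpd⟩ := Nat.exists_prime_and_dvd hcard
  haveI : Fact p.Prime := ⟨hp⟩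
  refine ⟨p, hp, ?_⟩
  have hmul : ∀ a ∈ N, ∀ b ∈ N, a * b = b * a := fun a ha b hb => by
    have := hab.is_comm.comm (⟨a, ha⟩ : N) ⟨b, hb⟩
    exact congrArg Subtype.val this
  let Ω : Subgroup G :=
    { carrier := {x | x ∈ N ∧ x ^ p = 1}
      mul_mem' := by
        rintro a b ⟨ha, ha'⟩ ⟨hb, hb'⟩
        refine ⟨N.mul_mem ha hb, ?_⟩
        rw [(Commute.mul_pow (hmul a ha b hb) p), ha', hb', one_mul]
      one_mem' := ⟨N.one_mem, one_pow _⟩
      inv_mem' := by
        rintro a ⟨ha, ha'⟩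
        exact ⟨N.inv_mem ha, by rw [inv_pow, ha', inv_one]⟩ }
  have hΩn : Ω.Normal := by
    refine ⟨fun x hx g => ?_⟩
    obtain ⟨hx1, hx2⟩ := hx
    refine ⟨‹N.Normal›.conj_mem x hx1 g, ?_⟩
    rw [conj_pow, hx2, mul_one, mul_inv_cancel]
  have hΩN : Ω ≤ N := fun x hx => hx.1
  obtain ⟨y, hy⟩ := exists_prime_orderOf_dvd_card' p hpd
  have hΩne : Ω ≠ ⊥ := by
    intro h
    have hy1 : (y : G) ∈ Ω := ⟨y.2, by
      have : y ^ p = 1 := by rw [← hy]; exact pow_orderOf_eq_one y
      exact_mod_cast congrArg Subtype.val this⟩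
    rw [h, Subgroup.mem_bot] at hy1
    have : y = 1 := Subtype.ext hy1
    rw [this, orderOf_one] at hy
    exact hp.one_lt.ne hy
  have hΩeq : Ω = N := (hmin Ω hΩn hΩN).resolve_left hΩne
  intro x hx
  have : x ∈ Ω := hΩeq ▸ hx
  exact this.2

end Cfsg.Agent.S0043
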