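import Mathlib
import Cfsg.Statements.S3736
import Cfsg.Prelude.Def_Transfer
import Cfsg.Agent.Helper1.Coprime
import Cfsg.Agent.Helper1.FrattiniAct
import Cfsg.Agent.Helper1.PGroup
import Cfsg.Agent.Helper1.OmegaOdd
-- import your own Cfsg.Agent.* helpers here

set_option autoImplicit false
open Cfsg

namespace Cfsg.Agent.S3736
universe u
open scoped commutatorElement Pointwise
open Cfsg.Agent.Helper1

/-- fixed points of a coprime action on an abelian quotient `P/N` with `P = [P, A]` are trivial. -/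
theorem lemK_cent {X : Type u} [Group X] [Finite X] {p : ℕ} [hp : Fact p.Prime] (P A N : Subgroup X)
    (hP : IsPGroup p P) (hAP : A ≤ Subgroup.normalizer (P : Set X))
    (hcop : (Nat.card A).Coprime p) (hPA : ⁅P, A⁆ = P) (hNP : N ≤ P)
    (hPN : P ≤ Subgroup.normalizer (N : Set X)) (hAN : A ≤ Subgroup.normalizer (N : Set X))
    (hab : ⁅P, P⁆ ≤ N) :
    ∀ c ∈ P ⊓ Subgroup.centralizer (A : Set X), c ∈ N := by
  classical
  have : Fintype A := Fintype.ofFinite A
  set N' : Subgroup ↥P := N.subgroupOf P with hN'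
  have hN'n : N'.Normal := (Subgroup.normal_subgroupOf_iff_le_normalizer hNP).2 hPN
  let _ : CommGroup (↥P ⧸ N') :=
    { (inferInstance : Group (↥P ⧸ N')) with
      mul_comm := by
        intro a b
        induction a using QuotientGroup.induction_on with
        | H x =>
        induction b using QuotientGroup.induction_on with
        | H y =>
        rw [← QuotientGroup.mk_mul, ← QuotientGroup.mk_mul, QuotientGroup.eq, hN',
          Subgroup.mem_subgroupOf]
        apply hab
        have : (((x * y)⁻¹ * (y * x) : ↥P) : X) = ⁅(y : X)⁻¹, (x : X)⁻¹⁆ := by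
          rw [commutatorElement_def]; simp [mul_assoc]
        rw [this]
        exact Subgroup.commutator_mem_commutator (P.inv_mem y.2) (P.inv_mem x.2) }
  let φ : A → (↥P ≃* ↥P) := fun a => conjNormalizer P a (hAP a.2)
  have hφN : ∀ a : A, N' ≤ N'.comap (φ a).toMonoidHom := by
    intro a n hn
    rw [Subgroup.mem_comap, hN', Subgroup.mem_subgroupOf]
    exact (Subgroup.mem_normalizer_iff.1 (hAN a.2) n).1 hn
  let ψ : A → ((↥P ⧸ N') →* (↥P ⧸ N')) := fun a => QuotientGroup.map N' N' (φ a).toMonoidHom (hφN a)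
  have hψmk : ∀ (a : A) (x : ↥P), ψ a (x : ↥P ⧸ N') = ((φ a x : ↥P) : ↥P ⧸ N') := by
    intro a x
    exact QuotientGroup.map_mk N' N' _ _ x
  have hψmul : ∀ (a b : A) (q : ↥P ⧸ N'), ψ a (ψ b q) = ψ (a * b) q := by
    intro a b q
    induction q using QuotientGroup.induction_on with
    | H x =>
    rw [hψmk, hψmk, hψmk]
    congr 1
    apply Subtype.ext
    simp [φ, mul_assoc]
  set ν : (↥P ⧸ N') →* (↥P ⧸ N') := ∏ a : A, ψ a with hν
  have hνapp : ∀ q, ν q = ∏ a : A, ψ a q := by
    intro q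
    rw [hν, MonoidHom.finsetProd_apply]
  have hF1 : ∀ (b : A) (q : ↥P ⧸ N'), ν (ψ b q) = ν q := by
    intro b q
    rw [hνapp, hνapp]
    refine Fintype.prod_equiv (Equiv.mulRight b) _ _ (fun a => ?_)
    rw [hψmul]; rfl
  have hF3 : ∀ c : ↥P, ν (c : ↥P ⧸ N') = 1 := by
    set K : Subgroup ↥P := (ν.comp (QuotientGroup.mk' N')).ker with hK
    have hle : ⁅P, A⁆ ≤ K.map P.subtype := by
      rw [Subgroup.commutator_le]
      intro y hy b hb
      have hw : ⁅y, b⁆ ∈ P := by
        rw [← hPA]; exact Subgroup.commutator_mem_commutator hy hb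
      refine ⟨⟨⁅y, b⁆, hw⟩, ?_, rfl⟩
      rw [SetLike.mem_coe, hK, MonoidHom.mem_ker, MonoidHom.comp_apply, QuotientGroup.mk'_apply]
      have h1 : (⟨⁅y, b⁆, hw⟩ : ↥P) = ⟨y, hy⟩ * (φ ⟨b, hb⟩ ⟨y, hy⟩)⁻¹ := by
        apply Subtype.ext
        simp [φ, commutatorElement_def, mul_assoc]
      rw [h1, QuotientGroup.mk_mul, QuotientGroup.mk_inv, ← hψmk, map_mul, map_inv, hF1,
        mul_inv_cancel]
    intro c
    have : (c : X) ∈ K.map P.subtype := hle (hPA.symm ▸ c.2)
    obtain ⟨c', hc', hcc⟩ := this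
    have : c' = c := Subtype.ext hcc
    subst this
    exact hc'
  intro c hc
  set c' : ↥P := ⟨c, hc.1⟩ with hc'
  have hfix : ∀ a : A, ψ a (c' : ↥P ⧸ N') = (c' : ↥P ⧸ N') := by
    intro a
    rw [hψmk]
    congr 1
    apply Subtype.ext
    show (a : X) * c * (a : X)⁻¹ = c
    have := Subgroup.mem_centralizer_iff.1 hc.2 a a.2
    rw [this, mul_inv_cancel_right]
  have h1 : (c' : ↥P ⧸ N') ^ Nat.card A = 1 := by
    have := hF3 c'
    rw [hνapp] at this
    simp only [hfix, Finset.prod_const, Finset.card_univ] at this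
    rwa [Nat.card_eq_fintype_card]
  obtain ⟨k, hk⟩ := hP c'
  have h2 : (c' : ↥P ⧸ N') ^ (p ^ k) = 1 := by
    rw [← QuotientGroup.mk_pow, hk]; rfl
  have h3 : orderOf (c' : ↥P ⧸ N') ∣ Nat.gcd (Nat.card A) (p ^ k) :=
    Nat.dvd_gcd (orderOf_dvd_of_pow_eq_one h1) (orderOf_dvd_of_pow_eq_one h2)
  rw [Nat.Coprime.gcd_eq_one (Nat.Coprime.pow_right k hcop), Nat.dvd_one, orderOf_eq_one_iff,
    QuotientGroup.eq_one_iff, hN', Subgroup.mem_subgroupOf] at h3
  exact h3

theorem lemK {X : Type u} [Group X] [Finite X] {p : ℕ} [hp : Fact p.Prime] (P A N : Subgroup X)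
    (hP : IsPGroup p P) (hAP : A ≤ Subgroup.normalizer (P : Set X))
    (hcop : (Nat.card A).Coprime p) (hPA : ⁅P, A⁆ = P) (hNP : N ≤ P)
    (hPN : P ≤ Subgroup.normalizer (N : Set X)) (hAN : A ≤ Subgroup.normalizer (N : Set X))
    (hab : ⁅P, P⁆ ≤ N) :
    ∀ u ∈ P, (∀ a ∈ A, a * u * a⁻¹ * u⁻¹ ∈ N) → u ∈ N := by
  intro u hu hfix
  have hcopP : (Nat.card A).Coprime (Nat.card P) := by
    obtain ⟨k, hk⟩ := IsPGroup.iff_card.1 hP
    rw [hk]
    exact Nat.Coprime.pow_right k hcop
  have hnil : Group.IsNilpotent P := hP.isNilpotent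
  have hsolv : Group.IsSolvable P := inferInstance
  obtain ⟨c, hc, hcN⟩ := coprime_fixed_coset A P hAP hcopP (Or.inr hsolv) N hNP hPN hAN u hu hfix
  have hcN' := lemK_cent P A N hP hAP hcop hPA hNP hPN hAN hab c hc
  have := N.mul_mem hcN' (N.inv_mem hcN)
  simpa using this

theorem normalizer_commutator {X : Type u} [Group X] (P A : Subgroup X) (b : X)
    (hbP : b ∈ Subgroup.normalizer (P : Set X)) (hbA : b ∈ Subgroup.normalizer (A : Set X)) :
    b ∈ Subgroup.normalizer ((⁅P, A⁆ : Subgroup X) : Set X) := by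
  apply mem_normalizer_of_conj_smul_eq
  rw [conj_smul_eq_map, Subgroup.map_commutator, ← conj_smul_eq_map, ← conj_smul_eq_map,
    conj_smul_eq_of_mem_normalizer hbP, conj_smul_eq_of_mem_normalizer hbA]

/-- if `x ↦ x ^ p` is multiplicative on `P`, lands in a subgroup centralized by `A`, and
`P = [P, A]`, then `P` has exponent `p`. -/
theorem exponent_of_pow_hom {X : Type u} [Group X] (p : ℕ) (P A F : Subgroup X)
    (hAP : A ≤ Subgroup.normalizer (P : Set X)) (hPA : ⁅P, A⁆ = P)
    (hmul : ∀ x ∈ P, ∀ y ∈ P, (x * y) ^ p = x ^ p * y ^ p)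
    (hpow : ∀ x ∈ P, x ^ p ∈ F) (hFA : ⁅F, A⁆ = ⊥) : ∀ x ∈ P, x ^ p = 1 := by
  let Ω : Subgroup X :=
    { carrier := {x | x ∈ P ∧ x ^ p = 1}
      mul_mem' := by
        rintro x y ⟨hx, hx1⟩ ⟨hy, hy1⟩
        exact ⟨P.mul_mem hx hy, by rw [hmul x hx y hy, hx1, hy1, one_mul]⟩
      one_mem' := ⟨P.one_mem, one_pow p⟩
      inv_mem' := by
        rintro x ⟨hx, hx1⟩
        exact ⟨P.inv_mem hx, by rw [inv_pow, hx1, inv_one]⟩ }
  have hle : ⁅P, A⁆ ≤ Ω := by
    rw [Subgroup.commutator_le]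
    intro x hx a ha
    have hy : a * x⁻¹ * a⁻¹ ∈ P := (Subgroup.mem_normalizer_iff.1 (hAP ha) x⁻¹).1 (P.inv_mem hx)
    have hw : ⁅x, a⁆ = x * (a * x⁻¹ * a⁻¹) := by rw [commutatorElement_def]; group
    refine ⟨by rw [hw]; exact P.mul_mem hx hy, ?_⟩
    rw [hw, hmul x hx _ hy]
    have h1 : (a * x⁻¹ * a⁻¹) ^ p = a * (x ^ p)⁻¹ * a⁻¹ := by
      rw [conj_pow, inv_pow]
    have h2 : ⁅x ^ p, a⁆ = 1 := by
      rw [← Subgroup.mem_bot, ← hFA]
      exact Subgroup.commutator_mem_commutator (hpow x hx) ha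
    rw [commutatorElement_eq_one_iff_mul_comm] at h2
    rw [h1]
    have h3 : a * (x ^ p)⁻¹ = (x ^ p)⁻¹ * a := by
      have := congrArg (fun t => (x ^ p)⁻¹ * t * (x ^ p)⁻¹) h2
      simpa [mul_assoc] using this
    rw [h3, mul_assoc, mul_inv_cancel, mul_one, mul_inv_cancel]
  intro x hx
  have : x ∈ Ω := hle (hPA.symm ▸ hx)
  exact this.2

/-- The Hall–Higman reduction for a minimal non-trivial action. Let B, A and P be subgroups of a finite group with P a p-group, B normalizing P, and A a normal subgroup of B of order prime to p. Suppose A does not centralize P but centralizes every proper B-invariant subgroup of P. Then [P, A] = P; P is elementary abelian or special; B acts irreducibly on P/Φ(P), that is, the only B-invariant subgroups of P containing Φ(P) are Φ(P) and P; and if p is odd then every element of P has order dividing p. -/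
theorem result {X : Type*} [Group X] [Finite X] {p : ℕ} [Fact p.Prime] (B A P : Subgroup X) (hP : IsPGroup p P) (hBP : B ≤ Subgroup.normalizer (P : Set X)) (hAB : A ≤ B) (hAn : B ≤ Subgroup.normalizer (A : Set X)) (hAp : (Nat.card A).Coprime p) (hnt : ⁅P, A⁆ ≠ ⊥) (hmin : ∀ U : Subgroup X, U < P → B ≤ Subgroup.normalizer (U : Set X) → ⁅U, A⁆ = ⊥) : ⁅P, A⁆ = P ∧ (Cfsg.IsElementaryAbelian p P ∨ Cfsg.IsSpecial p ↥P) ∧ (∀ U : Subgroup X, (frattini ↥P).map P.subtype ≤ U → U ≤ P → B ≤ Subgroup.normalizer (U : Set X) → U = (frattini ↥P).map P.subtype ∨ U = P) ∧ (p ≠ 2 → ∀ x ∈ P, x ^ p = 1) := by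
  have hAP : A ≤ Subgroup.normalizer (P : Set X) := hAB.trans hBP
  have hcopP : (Nat.card A).Coprime (Nat.card P) := by
    obtain ⟨k, hk⟩ := IsPGroup.iff_card.1 hP
    rw [hk]
    exact Nat.Coprime.pow_right k hAp
  have hnil : Group.IsNilpotent P := hP.isNilpotent
  have hsolv : Group.IsSolvable P := inferInstance
  have hPAle : ⁅P, A⁆ ≤ P := Subgroup.le_normalizer_iff_commutator_le_left.1 hAP
  -- Part 1
  have hPA : ⁅P, A⁆ = P := by
    by_contra hne
    have hlt : ⁅P, A⁆ < P := lt_of_le_of_ne hPAle hne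
    have hB : B ≤ Subgroup.normalizer ((⁅P, A⁆ : Subgroup X) : Set X) :=
      fun b hb => normalizer_commutator P A b (hBP hb) (hAn hb)
    have h1 := hmin _ hlt hB
    rw [coprime_commutator_commutator A P hAP hcopP (Or.inr hsolv)] at h1
    exact hnt h1
  have hP1 : P ≠ ⊥ := by
    rintro rfl
    apply hnt
    rw [eq_bot_iff]
    exact hPAle
  -- characteristic subgroups
  have hchar : ∀ C : Subgroup ↥P, C.Characteristic → C ≠ ⊤ → ⁅C.map P.subtype, A⁆ = ⊥ := by
    intro C hC hCtop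
    apply hmin
    · refine lt_of_le_of_ne (Subgroup.map_subtype_le C) ?_
      intro h
      apply hCtop
      rw [eq_top_iff]
      intro x _
      have : (x : X) ∈ C.map P.subtype := by rw [h]; exact x.2
      obtain ⟨y, hy, hyx⟩ := this
      have : y = x := Subtype.ext hyx
      rw [← this]; exact hy
    · exact hBP.trans (le_normalizer_map_of_characteristic P C)
  have hcharZ : ∀ C : Subgroup ↥P, C.Characteristic → C ≠ ⊤ → C ≤ Subgroup.center ↥P := by
    intro C hC hCtop
    have h0 := hchar C hC hCtop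
    set CX := C.map P.subtype with hCX
    have hCXP : CX ≤ P := Subgroup.map_subtype_le C
    have hPCX : P ≤ Subgroup.normalizer (CX : Set X) :=
      (Subgroup.le_normalizer).trans (le_normalizer_map_of_characteristic P C)
    have h1 : ⁅⁅A, CX⁆, P⁆ = ⊥ := by
      rw [Subgroup.commutator_comm A CX, h0]
      rw [eq_bot_iff, Subgroup.commutator_le]
      intro g hg h _
      rw [Subgroup.mem_bot] at hg
      rw [hg]; simp
    have h2 : ⁅⁅CX, P⁆, A⁆ = ⊥ := by
      rw [eq_bot_iff, ← h0]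
      exact Subgroup.commutator_mono (Subgroup.le_normalizer_iff_commutator_le_left.1 hPCX) le_rfl
    have h3 := Subgroup.commutator_commutator_eq_bot_of_rotate h1 h2
    rw [hPA] at h3
    intro c hc
    rw [Subgroup.mem_center_iff]
    intro g
    have hcX : (c : X) ∈ CX := Subgroup.mem_map_of_mem _ hc
    have : ⁅(g : X), (c : X)⁆ = 1 := by
      rw [← Subgroup.mem_bot, ← h3]
      exact Subgroup.commutator_mem_commutator g.2 hcX
    rw [commutatorElement_eq_one_iff_mul_comm] at this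
    exact Subtype.ext this
  set ΦX := (frattini ↥P).map P.subtype with hΦX
  have hΦtop : frattini ↥P ≠ ⊤ := by
    intro h
    have := frattini_map_lt P hP1
    rw [h, ← MonoidHom.range_eq_map, Subgroup.range_subtype] at this
    exact lt_irrefl _ this
  have hΦA : ⁅ΦX, A⁆ = ⊥ := hchar _ inferInstance hΦtop
  have hΦP : ΦX ≤ P := Subgroup.map_subtype_le _
  have hPΦ : P ≤ Subgroup.normalizer (ΦX : Set X) :=
    (Subgroup.le_normalizer).trans (le_normalizer_map_of_characteristic P (frattini ↥P))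
  have hAΦ : A ≤ Subgroup.normalizer (ΦX : Set X) :=
    hAP.trans (le_normalizer_map_of_characteristic P (frattini ↥P))
  have hcommX : ∀ C : Subgroup ↥P, commutator ↥P ≤ C → ⁅P, P⁆ ≤ C.map P.subtype := by
    intro C hC
    have : ⁅P, P⁆ = (commutator ↥P).map P.subtype := by
      rw [commutator_def, Subgroup.map_commutator, ← MonoidHom.range_eq_map, Subgroup.range_subtype]
    rw [this]
    exact Subgroup.map_mono hC
  have hDΦ : ⁅P, P⁆ ≤ ΦX := hcommX _ (IsPGroup.commutator_le_frattini hP)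
  have hKΦ := lemK P A ΦX hP hAP hAp hPA hΦP hPΦ hAΦ hDΦ
  have hpowΦ : ∀ x ∈ P, x ^ p ∈ ΦX := by
    intro x hx
    exact ⟨⟨x, hx⟩ ^ p, IsPGroup.pow_mem_frattini hP _, rfl⟩
  -- trivial commutators give membership
  have htriv : ∀ U : Subgroup X, ⁅U, A⁆ = ⊥ → ∀ u ∈ U, ∀ a ∈ A, a * u * a⁻¹ * u⁻¹ = 1 := by
    intro U hU u hu a ha
    have : ⁅u, a⁆ = 1 := by
      rw [← Subgroup.mem_bot, ← hU]
      exact Subgroup.commutator_mem_commutator hu ha
    rw [commutatorElement_eq_one_iff_mul_comm] at this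
    rw [← this]; group
  -- Part 3
  have hirr : ∀ U : Subgroup X, ΦX ≤ U → U ≤ P → B ≤ Subgroup.normalizer (U : Set X) →
      U = ΦX ∨ U = P := by
    intro U hΦU hUP hBU
    by_cases hU : U = P
    · exact Or.inr hU
    left
    have hUA := hmin U (lt_of_le_of_ne hUP hU) hBU
    apply le_antisymm _ hΦU
    intro u hu
    apply hKΦ u (hUP hu)
    intro a ha
    rw [htriv U hUA u hu a ha]
    exact ΦX.one_mem
  by_cases hab : ∀ x ∈ P, ∀ y ∈ P, x * y = y * x
  · -- abelian case
    have hexp : ∀ x ∈ P, x ^ p = 1 :=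
      exponent_of_pow_hom p P A ΦX hAP hPA (fun x hx y hy => Commute.mul_pow (hab x hx y hy) p) hpowΦ hΦA
    refine ⟨hPA, Or.inl ⟨⟨⟨fun a b => Subtype.ext (hab a a.2 b b.2)⟩⟩, hexp⟩, hirr, fun _ => hexp⟩
  · -- nonabelian case
    have hZtop : Subgroup.center ↥P ≠ ⊤ := by
      intro h
      apply hab
      intro x hx y hy
      have : (⟨x, hx⟩ : ↥P) ∈ Subgroup.center ↥P := h ▸ Subgroup.mem_top _
      have := Subgroup.mem_center_iff.1 this ⟨y, hy⟩
      exact (congrArg Subtype.val this).symm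
    have hΦZ : frattini ↥P ≤ Subgroup.center ↥P := hcharZ _ inferInstance hΦtop
    have hDtop : commutator ↥P ≠ ⊤ := by
      intro h
      apply hΦtop
      rw [eq_top_iff, ← h]
      exact IsPGroup.commutator_le_frattini hP
    have hDchar : (commutator ↥P).Characteristic := by
      rw [commutator_def]; infer_instance
    have hDZ : commutator ↥P ≤ Subgroup.center ↥P := hcharZ _ hDchar hDtop
    have hZA : ⁅(Subgroup.center ↥P).map P.subtype, A⁆ = ⊥ := hchar _ inferInstance hZtop
    have hZΦ : Subgroup.center ↥P ≤ frattini ↥P := by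
      intro z hz
      have hzX : (z : X) ∈ (Subgroup.center ↥P).map P.subtype := Subgroup.mem_map_of_mem _ hz
      have : (z : X) ∈ ΦX := by
        apply hKΦ _ z.2
        intro a ha
        rw [htriv _ hZA _ hzX a ha]
        exact ΦX.one_mem
      obtain ⟨y, hy, hyz⟩ := this
      have : y = z := Subtype.ext hyz
      rw [← this]; exact hy
    set DX := (commutator ↥P).map P.subtype with hDX
    have hKD := lemK P A DX hP hAP hAp hPA (Subgroup.map_subtype_le _)
      ((Subgroup.le_normalizer).trans (le_normalizer_map_of_characteristic P (commutator ↥P)))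
      (hAP.trans (le_normalizer_map_of_characteristic P (commutator ↥P))) (hcommX _ le_rfl)
    have hΦD : frattini ↥P ≤ commutator ↥P := by
      intro f hf
      have hfX : (f : X) ∈ ΦX := Subgroup.mem_map_of_mem _ hf
      have : (f : X) ∈ DX := by
        apply hKD _ f.2
        intro a ha
        rw [htriv _ hΦA _ hfX a ha]
        exact DX.one_mem
      obtain ⟨y, hy, hyf⟩ := this
      have : y = f := Subtype.ext hyf
      rw [← this]; exact hy
    have hΦeqZ : frattini ↥P = Subgroup.center ↥P := le_antisymm hΦZ hZΦ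
    have hDeqZ : commutator ↥P = Subgroup.center ↥P :=
      le_antisymm hDZ (hZΦ.trans hΦD)
    refine ⟨hPA, Or.inr ⟨hP, hΦeqZ, hDeqZ⟩, hirr, ?_⟩
    intro hp2
    apply exponent_of_pow_hom p P A ΦX hAP hPA _ hpowΦ hΦA
    intro x hx y hy
    have := mul_pow_prime_of_frattini_le_center hp2 hP hΦZ ⟨x, hx⟩ ⟨y, hy⟩
    exact congrArg Subtype.val this

end Cfsg.Agent.S3736
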