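import Cfsg.Statements.S4189
import Cfsg.Agent.Helper4.Q8AutD
import Cfsg.Agent.Helper4.DicyclicHom

set_option autoImplicit false
open Cfsg

namespace Cfsg.Agent.S4189

/-- Let P be a finite non-abelian 2-group whose commutator subgroup has index 4 and whose automorphism group is not a 2-group (some automorphism has order that is not a power of 2). Then P is isomorphic to the quaternion group of order 8. -/
theorem result {P : Type*} [Group P] [Finite P] (hP : IsPGroup 2 P) (hna : ¬ IsMulCommutative P) (h4 : (commutator P).index = 4) (haut : ¬ IsPGroup 2 (MulAut P)) : Nonempty (P ≃* QuaternionGroup 2) := by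
  classical
  have hF2 : Fact (Nat.Prime 2) := ⟨Nat.prime_two⟩
  obtain ⟨α, r, hr, hr2, hord⟩ := Cfsg.Agent.Helper4.exists_odd_prime_order haut
  have hNc : commutator P ≤ Subgroup.center P :=
    Cfsg.Agent.Helper4.commutator_le_center_aux (Nat.card P) P rfl hP h4 ⟨α, r, hr, hr2, hord⟩
  obtain ⟨x, hx, hxN, hR1, hT, hcos⟩ := Cfsg.Agent.Helper4.q8aut_data hP h4 α r hr hr2 hord
  obtain ⟨y, hy⟩ : ∃ y, y = α x := ⟨_, rfl⟩
  rw [← hy] at hcos
  obtain ⟨hcc, hN2⟩ := Cfsg.Agent.Helper4.commutator_card_le_two_of_central (commutator P) hNc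
    Cfsg.Agent.Helper4.commutator_min hR1 x y (Cfsg.Agent.Helper4.comm_mem_commutator _ _) hcos
  obtain ⟨c, hc⟩ : ∃ c, c = x⁻¹ * y⁻¹ * x * y := ⟨_, rfl⟩
  rw [← hc] at hcc hN2
  have hcN : c ∈ commutator P := by rw [hc]; exact Cfsg.Agent.Helper4.comm_mem_commutator _ _
  -- c ≠ 1
  have hc1 : c ≠ 1 := by
    intro h1
    apply hna
    have hall : ∀ u v : P, u * v = v * u := by
      intro u v
      have h2 := hN2 _ (Cfsg.Agent.Helper4.comm_mem_commutator v u)
      rw [h1, or_self] at h2
      calc u * v = v * u * (v⁻¹ * u⁻¹ * v * u)⁻¹ := by group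
        _ = v * u := by rw [h2, inv_one, mul_one]
    exact ⟨⟨hall⟩⟩
  -- hrel for Z = ⊥
  have hrel : ∀ a ∈ commutator P, ∀ b ∈ commutator P,
      (a * b ∈ (⊥ : Subgroup P) ↔ (a ∈ (⊥ : Subgroup P) ↔ b ∈ (⊥ : Subgroup P))) := by
    intro a ha b hb
    simp only [Subgroup.mem_bot]
    rcases hN2 a ha with h | h <;> rcases hN2 b hb with h' | h' <;> rw [h, h']
    · simp
    · simp
    · simp
    · rw [hcc]; simp
  have hsq := Cfsg.Agent.Helper4.sq_mem_iff_of_not_mem (commutator P) ⊥ α
    (fun z => by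
      rw [Subgroup.mem_bot, Subgroup.mem_bot]
      exact MulEquiv.map_eq_one_iff α)
    bot_le hrel hT x hxN
  simp only [Subgroup.mem_bot] at hsq
  -- x ^ 2 ≠ 1
  have hx2 : x ^ 2 ≠ 1 := by
    intro h
    have hallsq : ∀ u : P, u ^ 2 ∈ (⊥ : Subgroup P) := by
      intro u
      rw [Subgroup.mem_bot]
      by_cases hu : u ∈ commutator P
      · rcases hN2 u hu with h' | h'
        · rw [h', one_pow]
        · rw [h', pow_two, hcc]
      · exact (hsq u hu).2 h
    have := Cfsg.Agent.Helper4.commutator_min ⊥ (Cfsg.Agent.Helper4.comm_mem_of_sq_mem ⊥ hallsq)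
    exact hc1 (Subgroup.mem_bot.1 (this hcN))
  have hsqc : ∀ u : P, u ∉ commutator P → u ^ 2 = c := by
    intro u hu
    have h1 : u ^ 2 ≠ 1 := fun h => hx2 ((hsq u hu).1 h)
    rcases hN2 _ (hR1 u) with h | h
    · exact absurd h h1
    · exact h
  have hcen : ∀ n ∈ commutator P, ∀ g : P, g * n = n * g := fun n hn g =>
    (Subgroup.mem_center_iff.1 (hNc hn)) g
  -- x and y do not commute
  have hnc : x * y ≠ y * x := by
    intro h
    apply hc1
    rw [hc]
    calc x⁻¹ * y⁻¹ * x * y = x⁻¹ * y⁻¹ * (x * y) := by group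
      _ = x⁻¹ * y⁻¹ * (y * x) := by rw [h]
      _ = 1 := by group
  have hyN : y ∉ commutator P := by
    intro h
    exact hnc (hcen y h x)
  have hxyN : x * y ∉ commutator P := by
    intro h
    apply hnc
    have h1 := hcen _ h x
    -- x * (x * y) = (x * y) * x
    have : x * (x * y) = x * (y * x) := by rw [h1]; group
    exact mul_left_cancel this
  have hxx : x ^ 2 = c := hsqc x hxN
  have hyy : y * y = x ^ 2 := by rw [hxx, ← pow_two]; exact hsqc y hyN
  have hxyxy : (x * y) ^ 2 = c := hsqc _ hxyN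
  have hxyx : x * y * x = y := by
    have h1 : x * y * x * y = y * y := by
      rw [hyy, hxx, ← hxyxy, pow_two]; group
    exact mul_right_cancel h1
  have hu : x ^ (2 * 2) = 1 := by
    rw [pow_mul, hxx, pow_two, hcc]
  have hx4 : x ^ 4 = 1 := hu
  have hord4 : ∀ k : ℕ, 0 < k → k < 2 * 2 → x ^ k ≠ 1 := by
    intro k hk0 hk4 hxk
    have hx1 : x ≠ 1 := by
      intro h1
      apply hx2
      rw [h1, one_pow]
    interval_cases k
    · rw [pow_one] at hxk
      exact hx1 hxk
    · exact hx2 hxk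
    · apply hx1
      have : x ^ 4 = x ^ 3 * x := pow_succ x 3
      rw [hx4, hxk, one_mul] at this
      exact this.symm
  have hJu : ∀ k : ℕ, y * x ^ k ≠ 1 := by
    intro k hk
    apply hnc
    have hy' : y = (x ^ k)⁻¹ := eq_inv_of_mul_eq_one_left hk
    rw [hy']
    exact ((Commute.refl x).pow_right k).inv_right.eq
  have hinj := Cfsg.Agent.Helper4.dicyclicHom_injective (n := 2) x y hu hyy hxyx hord4 hJu
  -- cardinalities
  have hcardN : Nat.card (commutator P) = 2 := by
    rw [Nat.card_eq_two_iff]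
    refine ⟨⟨1, Subgroup.one_mem _⟩, ⟨c, hcN⟩, ?_, ?_⟩
    · intro h
      exact hc1 (congrArg Subtype.val h).symm
    · ext ⟨n, hn⟩
      simp only [Set.mem_insert_iff, Set.mem_singleton_iff, Set.mem_univ, iff_true]
      rcases hN2 n hn with h | h
      · left; exact Subtype.ext h
      · right; exact Subtype.ext h
  have hcardP : Nat.card P = 8 := by
    rw [← Subgroup.index_mul_card (commutator P), h4, hcardN]
  have hcardQ : Nat.card (QuaternionGroup 2) = 8 := by
    rw [Nat.card_eq_fintype_card, QuaternionGroup.card]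
  have hbij : Function.Bijective (Cfsg.Agent.Helper4.dicyclicHom (n := 2) x y hu hyy hxyx) := by
    rw [Nat.bijective_iff_injective_and_card]
    exact ⟨hinj, by rw [hcardP, hcardQ]⟩
  exact ⟨(MulEquiv.ofBijective _ hbij).symm⟩

end Cfsg.Agent.S4189
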