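import Mathlib
import Cfsg.Statements.S1447
import Cfsg.Agent.Helper3.MetaActD
import Cfsg.Agent.S1446
import Cfsg.Agent.Helper1.Coprime
import Cfsg.Agent.Helper1.AbelianAct
import Cfsg.Agent.Helper4.MetacyclicA
-- import your own Cfsg.Agent.* helpers here

set_option autoImplicit false
open Cfsg

namespace Cfsg.Agent.S1447

open Cfsg.Agent.Helper3.MetaAct Cfsg.Agent.Helper3.FrobActA
open scoped commutatorElement

variable {G : Type*} [Group G]

/-- `[T, A] = T` in the abstract sense, for the conjugation action. -/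
theorem commSub_conjAct_eq_top (T A : Subgroup G) (hTA : A ≤ Subgroup.normalizer (T : Set G))
    (hTT : ⁅T, A⁆ = T) : commSub (Cfsg.Agent.S1446.conjAct T A hTA) = ⊤ := by
  have hle : ⁅T, A⁆ ≤ (commSub (Cfsg.Agent.S1446.conjAct T A hTA)).map T.subtype := by
    rw [Subgroup.commutator_le]
    intro t ht a ha
    refine ⟨(⟨t, ht⟩ : T) * (Cfsg.Agent.S1446.conjAct T A hTA ⟨a, ha⟩ ⟨t, ht⟩)⁻¹,
      mem_commSub _ _ _, ?_⟩
    rw [Subgroup.subtype_apply, Subgroup.coe_mul, Subgroup.coe_inv,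
      Cfsg.Agent.S1446.conjAct_apply, commutatorElement_def]
    simp only [mul_inv_rev, inv_inv]
    group
  rw [eq_top_iff]
  intro m _
  have hm : (m : G) ∈ ⁅T, A⁆ := by rw [hTT]; exact m.2
  obtain ⟨m', hm', hmm⟩ := hle hm
  have : m' = m := Subtype.ext hmm
  rw [← this]
  exact hm'

/-- In a non-cyclic metacyclic `p`-group (`p` odd), every non-cyclic subgroup contains all the
elements of order dividing `p`. -/
theorem mem_of_pow_eq_one_of_not_cyclic [Finite G] {p : ℕ} [hp : Fact p.Prime] (hp2 : p ≠ 2)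
    (R H : Subgroup G) (hR : IsPGroup p R) (hRm : Cfsg.IsMetacyclic R) (hHR : H ≤ R)
    (hH : ¬ IsCyclic H) (x : G) (hx : x ∈ R) (hxp : x ^ p = 1) : x ∈ H := by
  have hinj := Subgroup.inclusion_injective hHR
  have hRnc : ¬ IsCyclic R := by
    intro h
    exact hH (isCyclic_of_injective (Subgroup.inclusion hHR) hinj)
  obtain ⟨_, hcR⟩ := Cfsg.Agent.Helper1.metacyclic_omega hp2 hR hRm hRnc
  obtain ⟨_, hcH⟩ := Cfsg.Agent.Helper1.metacyclic_omega hp2 (hR.to_le hHR)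
    (Cfsg.Agent.Helper4.isMetacyclic_of_injective (Subgroup.inclusion hHR) hinj hRm) hH
  have hle : (Cfsg.omegaOne p (⊤ : Subgroup H)).map (Subgroup.inclusion hHR) ≤
      Cfsg.omegaOne p (⊤ : Subgroup R) := by
    unfold Cfsg.omegaOne
    rw [MonoidHom.map_closure, Subgroup.closure_le]
    rintro _ ⟨h, ⟨_, hh⟩, rfl⟩
    apply Subgroup.subset_closure
    exact ⟨Subgroup.mem_top _, by rw [← map_pow, hh, map_one]⟩
  have heq := Subgroup.eq_of_le_of_card_ge hle (by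
    rw [Subgroup.card_map_of_injective hinj, hcH, hcR])
  have hxΩ : (⟨x, hx⟩ : R) ∈ Cfsg.omegaOne p (⊤ : Subgroup R) := by
    apply Subgroup.subset_closure
    refine ⟨Subgroup.mem_top _, Subtype.ext ?_⟩
    rw [Subgroup.coe_pow, Subgroup.coe_one]
    exact hxp
  rw [← heq] at hxΩ
  obtain ⟨h, _, hh⟩ := hxΩ
  have h1 := congrArg Subtype.val hh
  rw [Subgroup.coe_inclusion] at h1
  change (h : G) = x at h1
  rw [← h1]
  exact h.2

theorem isCyclic_of_inf_eq_bot [Finite G] {p : ℕ} [hp : Fact p.Prime] (hp2 : p ≠ 2)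
    (R H₁ H₂ : Subgroup G) (hR : IsPGroup p R) (hRm : Cfsg.IsMetacyclic R) (h₁ : H₁ ≤ R)
    (h₂ : H₂ ≤ R) (hinf : H₁ ⊓ H₂ = ⊥) (hne : H₂ ≠ ⊥) : IsCyclic H₁ := by
  by_contra hnc
  have hH₂ : IsPGroup p H₂ := hR.to_le h₂
  obtain ⟨j, hj⟩ := (IsPGroup.iff_card).mp hH₂
  have hj0 : j ≠ 0 := by
    rintro rfl
    rw [pow_zero] at hj
    exact hne (Subgroup.card_eq_one.mp hj)
  have hdvd : p ∣ Nat.card H₂ := by
    rw [hj]; exact dvd_pow_self p hj0
  obtain ⟨c, hc⟩ := exists_prime_orderOf_dvd_card' p hdvd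
  have hcp : (c : G) ^ p = 1 := by
    have : c ^ p = 1 := by rw [← hc]; exact pow_orderOf_eq_one c
    have h1 := congrArg Subtype.val this
    rwa [Subgroup.coe_pow, Subgroup.coe_one] at h1
  have hcH₁ : (c : G) ∈ H₁ :=
    mem_of_pow_eq_one_of_not_cyclic hp2 R H₁ hR hRm h₁ hnc c (h₂ c.2) hcp
  have hc1 : (c : G) ∈ H₁ ⊓ H₂ := ⟨hcH₁, c.2⟩
  rw [hinf, Subgroup.mem_bot] at hc1
  have hc1' : c = 1 := Subtype.ext hc1
  rw [hc1', orderOf_one] at hc
  exact hp.out.one_lt.ne hc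

/-- Let G be a finite group, p an odd prime, R a metacyclic p-subgroup and A a subgroup of order coprime to p normalizing R. Then [R, A] is abelian; R is generated by [R, A] and R ∩ C_G(A), which meet trivially; and if R is non-abelian and A does not centralize R, then [R, A] and R ∩ C_G(A) are nontrivial cyclic groups and [R, R] ≤ [R, A]. -/
theorem result {G : Type*} [Group G] [Finite G] (p : ℕ) [Fact p.Prime] (hp : p ≠ 2) (R A : Subgroup G) (hR : IsPGroup p R) (hRm : Cfsg.IsMetacyclic R)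
    (hA : (A ≤ Subgroup.normalizer (R : Set G))) (hcop : (Nat.card A).Coprime p) :
    IsMulCommutative ↥⁅R, A⁆ ∧ ⁅R, A⁆ ⊔ (R ⊓ Subgroup.centralizer (A : Set G)) = R ∧ ⁅R, A⁆ ⊓ (R ⊓ Subgroup.centralizer (A : Set G)) = ⊥ ∧
      (¬ IsMulCommutative R → ¬ A ≤ Subgroup.centralizer (R : Set G) →
        ⁅R, A⁆ ≠ ⊥ ∧ IsCyclic ↥⁅R, A⁆ ∧ (R ⊓ Subgroup.centralizer (A : Set G)) ≠ ⊥ ∧ IsCyclic ↥(R ⊓ Subgroup.centralizer (A : Set G)) ∧ ⁅R, R⁆ ≤ ⁅R, A⁆) := by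
  have hpF : Fact p.Prime := inferInstance
  obtain ⟨n, hn⟩ := (IsPGroup.iff_card).mp hR
  have hcopR : (Nat.card A).Coprime (Nat.card R) := by
    rw [hn]; exact Nat.Coprime.pow_right n hcop
  have hRnil : Group.IsNilpotent R := hR.isNilpotent
  have hRsolv : Group.IsSolvable R := inferInstance
  have hsup := Cfsg.Agent.Helper1.coprime_commutator_sup_centralizer A R hA hcopR (Or.inr hRsolv)
  have hTT := Cfsg.Agent.Helper1.coprime_commutator_commutator A R hA hcopR (Or.inr hRsolv)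
  have hTR : ⁅R, A⁆ ≤ R := Subgroup.le_normalizer_iff_commutator_le_left.1 hA
  have hTA : A ≤ Subgroup.normalizer ((⁅R, A⁆ : Subgroup G) : Set G) :=
    Subgroup.normalizer_commutator_ge_right R A
  have hRT : R ≤ Subgroup.normalizer ((⁅R, A⁆ : Subgroup G) : Set G) :=
    Subgroup.normalizer_commutator_ge_left R A
  have hTp : IsPGroup p ↥⁅R, A⁆ := hR.to_le hTR
  have hTm : Cfsg.IsMetacyclic ↥⁅R, A⁆ :=
    Cfsg.Agent.Helper4.isMetacyclic_of_injective (Subgroup.inclusion hTR)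
      (Subgroup.inclusion_injective hTR) hRm
  have htop := commSub_conjAct_eq_top ⁅R, A⁆ A hTA hTT
  have hTab := abelian_of_commSub_top hp hTp hTm (Cfsg.Agent.S1446.conjAct ⁅R, A⁆ A hTA) hcop htop
  have hTcomm : IsMulCommutative ↥⁅R, A⁆ := ⟨⟨hTab⟩⟩
  have hcopT : (Nat.card A).Coprime (Nat.card ↥⁅R, A⁆) :=
    Nat.Coprime.coprime_dvd_right (Subgroup.card_dvd_of_le hTR) hcopR
  have hinf0 := Cfsg.Agent.Helper1.centralizer_inf_commutator_eq_bot A ⁅R, A⁆ hTA hcopT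
  rw [hTT] at hinf0
  have hinf : ⁅R, A⁆ ⊓ (R ⊓ Subgroup.centralizer (A : Set G)) = ⊥ := by
    rw [eq_bot_iff, ← hinf0]
    rintro x ⟨hxT, _, hxC⟩
    exact ⟨⟨hxT, hxC⟩, hxT⟩
  refine ⟨hTcomm, hsup, hinf, ?_⟩
  intro hRna hAC
  have hTne : ⁅R, A⁆ ≠ ⊥ := by
    intro h
    apply hAC
    rw [Subgroup.commutator_eq_bot_iff_le_centralizer] at h
    exact Subgroup.le_centralizer_iff.mp h
  have hCne : R ⊓ Subgroup.centralizer (A : Set G) ≠ ⊥ := by
    intro h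
    apply hRna
    rw [h, sup_bot_eq] at hsup
    have hRT' : R ≤ ⁅R, A⁆ := hsup.ge
    refine ⟨⟨fun a b => Subtype.ext ?_⟩⟩
    have h := congrArg Subtype.val (hTab ⟨a, hRT' a.2⟩ ⟨b, hRT' b.2⟩)
    exact h
  have hCR : R ⊓ Subgroup.centralizer (A : Set G) ≤ R := inf_le_left
  have hTcyc : IsCyclic ↥⁅R, A⁆ :=
    isCyclic_of_inf_eq_bot hp R _ _ hR hRm hTR hCR hinf hCne
  have hCcyc : IsCyclic ↥(R ⊓ Subgroup.centralizer (A : Set G)) :=
    isCyclic_of_inf_eq_bot hp R _ _ hR hRm hCR hTR (by rw [inf_comm]; exact hinf) hTne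
  refine ⟨hTne, hTcyc, hCne, hCcyc, ?_⟩
  rw [Subgroup.commutator_le]
  intro x hx y hy
  have hCn : R ⊓ Subgroup.centralizer (A : Set G) ≤
      Subgroup.normalizer ((⁅R, A⁆ : Subgroup G) : Set G) := hCR.trans hRT
  have hx' : x ∈ ⁅R, A⁆ ⊔ (R ⊓ Subgroup.centralizer (A : Set G)) := by rw [hsup]; exact hx
  have hy' : y ∈ ⁅R, A⁆ ⊔ (R ⊓ Subgroup.centralizer (A : Set G)) := by rw [hsup]; exact hy
  obtain ⟨t₁, ht₁, c₁, hc₁, rfl⟩ := Cfsg.Agent.Helper1.mem_sup_of_le_normalizer hCn hx'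
  obtain ⟨t₂, ht₂, c₂, hc₂, rfl⟩ := Cfsg.Agent.Helper1.mem_sup_of_le_normalizer hCn hy'
  have hcc : c₁ * c₂ = c₂ * c₁ := by
    have := hCcyc.commGroup.mul_comm ⟨c₁, hc₁⟩ ⟨c₂, hc₂⟩
    exact congrArg Subtype.val this
  have hconj : ∀ r ∈ R, ∀ t ∈ ⁅R, A⁆, r * t * r⁻¹ ∈ ⁅R, A⁆ := by
    intro r hr t ht
    exact (Subgroup.mem_normalizer_iff.mp (hRT hr) t).mp ht
  have hc₁R : c₁ ∈ R := hCR hc₁
  have hc₂R : c₂ ∈ R := hCR hc₂
  have e1 : c₁ * c₂ * c₁⁻¹ = c₂ := by rw [hcc, mul_inv_cancel_right]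
  have hform : ⁅t₁ * c₁, t₂ * c₂⁆ =
      t₁ * (c₁ * t₂ * c₁⁻¹) * ((c₁ * c₂ * c₁⁻¹) * t₁⁻¹ * c₂⁻¹) * t₂⁻¹ := by
    rw [commutatorElement_def]
    group
  rw [hform, e1]
  exact Subgroup.mul_mem _ (Subgroup.mul_mem _ (Subgroup.mul_mem _ ht₁ (hconj c₁ hc₁R t₂ ht₂))
    (hconj c₂ hc₂R _ (Subgroup.inv_mem _ ht₁))) (Subgroup.inv_mem _ ht₂)


end Cfsg.Agent.S1447
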