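import Mathlib
import Cfsg.Statements.S1378
import Cfsg.Agent.Helper1.BGPartC
import Cfsg.Agent.Helper1.BGUb

set_option autoImplicit false
open Cfsg

namespace Cfsg.Agent.S1378

/-- Let G be a minimal simple group of odd order. Then every prime dividing the order of G belongs to σ(M) for some maximal subgroup M, and if σ(M) and σ(N) have a prime in common for maximal subgroups M, N then N is conjugate to M; so the sets σ(M_i) over representatives of the conjugacy classes of maximal subgroups partition the prime divisors of #G. -/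
theorem result {G : Type*} [Group G] [Finite G] (hG : Cfsg.IsMinSimpleOddOrder G) :
    (∀ p : ℕ, p.Prime → p ∣ Nat.card G → ∃ M : Subgroup G, IsCoatom M ∧ p ∈ Cfsg.sigma M) ∧
      ∀ M N : Subgroup G, IsCoatom M → IsCoatom N → (Cfsg.sigma M ∩ Cfsg.sigma N).Nonempty → ∃ g : G, N = M.map (MulAut.conj g).toMonoidHom := by
  classical
  refine ⟨?_, ?_⟩
  · intro p hp hpG
    haveI := Fact.mk hp
    let P : Sylow p G := default
    have hPcard : Nat.card (P : Subgroup G) = p ^ (Nat.card G).factorization p :=
      P.card_eq_multiplicity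
    have hP1 : (P : Subgroup G) ≠ ⊥ := by
      intro h
      rw [h, Subgroup.card_bot] at hPcard
      have h1 : 1 ≤ (Nat.card G).factorization p :=
        (hp.dvd_iff_one_le_factorization Nat.card_pos.ne').1 hpG
      have h3 : 1 < p ^ (Nat.card G).factorization p := Nat.one_lt_pow (by omega) hp.one_lt
      omega
    have hPtop : (P : Subgroup G) ≠ ⊤ :=
      Cfsg.Agent.Helper1.BGU.sylow_ne_top hG p (P : Subgroup G) P.2
    obtain ⟨M, hM, hNM⟩ := Cfsg.Agent.Helper1.BGU.exists_coatom_ge
      (Cfsg.Agent.Helper1.BGU.normalizer_ne_top_of_simple hG hP1 hPtop)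
    have hPM : (P : Subgroup G) ≤ M := Subgroup.le_normalizer.trans hNM
    refine ⟨M, hM, Cfsg.Agent.Lead.BG12.mem_sigma_of_normalizer_le hPM hP1 P.2 ?_ hNM⟩
    apply Cfsg.Agent.Lead.card_eq_ppart_of_le hPM le_top P.2
    rw [Subgroup.card_top]; exact hPcard
  · rintro M N hM hN ⟨p, hpM, hpN⟩
    exact Cfsg.Agent.Helper1.BGPart.exists_conj_of_mem_sigma_inter hG hM hN hpM hpN

end Cfsg.Agent.S1378
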