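import Cfsg.Statements.S1424
import Cfsg.Agent.Helper4.BG10e

set_option autoImplicit false
open Cfsg

namespace Cfsg.Agent.S1424

/-- Let G be a minimal simple group of odd order, M a maximal subgroup, q ∈ σ(M), X a nontrivial q-subgroup of M, M* a maximal subgroup different from M with N_G(X) ≤ M*, and S a Sylow q-subgroup of M ∩ M* containing X. Then M* is not conjugate to M in G, N_G(S) ≤ M, and q does not divide the index of S in M*. -/
theorem result {G : Type*} [Group G] [Finite G] (hG : Cfsg.IsMinSimpleOddOrder G)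
    (M : Subgroup G) (hM : IsCoatom M) (q : ℕ) [Fact q.Prime] (hq : q ∈ Cfsg.sigma M) (X : Subgroup G) (hXq : IsPGroup q X) (hX1 : X ≠ ⊥) (hXM : X ≤ M)
    (Mstar : Subgroup G) (hMs : IsCoatom Mstar) (hne : Mstar ≠ M) (hNX : Subgroup.normalizer (X : Set G) ≤ Mstar)
    (S : Sylow q ↥(M ⊓ Mstar)) (hXS : X ≤ (S : Subgroup ↥(M ⊓ Mstar)).map (M ⊓ Mstar).subtype) :
    (∀ g : G, Mstar ≠ M.map (MulAut.conj g).toMonoidHom) ∧
      Subgroup.normalizer (((S : Subgroup ↥(M ⊓ Mstar)).map (M ⊓ Mstar).subtype : Subgroup G) : Set G) ≤ M ∧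
      ¬ q ∣ ((S : Subgroup ↥(M ⊓ Mstar)).map (M ⊓ Mstar).subtype).relIndex Mstar := by
  have hSq : IsPGroup q ↥((S : Subgroup ↥(M ⊓ Mstar)).map (M ⊓ Mstar).subtype) := S.2.map _
  have hSMK : (S : Subgroup ↥(M ⊓ Mstar)).map (M ⊓ Mstar).subtype ≤ M ⊓ Mstar :=
    Subgroup.map_subtype_le _
  have hmax : ∀ T : Subgroup G, IsPGroup q ↥T →
      (S : Subgroup ↥(M ⊓ Mstar)).map (M ⊓ Mstar).subtype ≤ T → T ≤ M ⊓ Mstar →
      T = (S : Subgroup ↥(M ⊓ Mstar)).map (M ⊓ Mstar).subtype := by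
    intro T hT hST hTle
    have h1 : (S : Subgroup ↥(M ⊓ Mstar)) ≤ T.subgroupOf (M ⊓ Mstar) := by
      intro x hx
      rw [Subgroup.mem_subgroupOf]
      exact hST ⟨x, hx, rfl⟩
    have h2 : T.subgroupOf (M ⊓ Mstar) = (S : Subgroup ↥(M ⊓ Mstar)) :=
      S.is_maximal' hT.comap_subtype h1
    rw [← h2, Subgroup.map_subgroupOf_eq_of_le hTle]
  obtain ⟨hb, hc⟩ := Cfsg.Agent.Helper4.BG10.sigma_subgroup_embedding hG hM hMs hne hq hX1 hXS hNX
    hSq hSMK hmax
  refine ⟨?_, hb, ?_⟩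
  · intro g
    have := Cfsg.Agent.Lead.BG12.lemma122b hG hM hXq hX1 hXM hNX (Or.inl ⟨hq, hne⟩) g
    rwa [Subgroup.pointwise_smul_def] at this
  · have hSK : (S : Subgroup ↥(M ⊓ Mstar)).map (M ⊓ Mstar).subtype ≤ Mstar :=
      hSMK.trans inf_le_right
    have hcard : Nat.card (((S : Subgroup ↥(M ⊓ Mstar)).map (M ⊓ Mstar).subtype).subgroupOf Mstar) =
        q ^ (Nat.card Mstar).factorization q := by
      rw [Cfsg.Agent.Lead.card_subgroupOf_of_le hSK]; exact hc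
    have := (Sylow.ofCard _ hcard).not_dvd_index
    rw [Sylow.coe_ofCard] at this
    exact this

end Cfsg.Agent.S1424
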