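import Mathlib
import Cfsg.Statements.S1365
import Cfsg.Agent.Helper3.BG142b
import Cfsg.Agent.Helper1.BGT3regC
import Cfsg.Agent.S1353
-- import your own Cfsg.Agent.* helpers here

set_option autoImplicit false
open Cfsg

namespace Cfsg.Agent.S1365

/-- Let G be a minimal simple group of odd order and M a maximal subgroup with standard factorisation M = K U M_σ and K ≠ 1. Then the derived subgroup of M is generated by U and M_σ, and M_σ ∩ C_G(K) is contained in the second derived subgroup of M. -/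
theorem result {G : Type*} [Group G] [Finite G] (hG : Cfsg.IsMinSimpleOddOrder G)
    (M : Subgroup G) (hM : IsCoatom M) (K U : Subgroup G) (hKU : Cfsg.IsSigmaDecomposition M K U) (hK1 : K ≠ ⊥) :
    ⁅M, M⁆ = U ⊔ Cfsg.sigmaCore M ∧ (Cfsg.sigmaCore M ⊓ Subgroup.centralizer (K : Set G)) ≤ ⁅⁅M, M⁆, ⁅M, M⁆⁆ := by
  have hκ : ∀ p ∈ Cfsg.kappa M, ¬ p ∣ Nat.card ↥⁅M, M⁆ := fun p hp =>
    (Cfsg.Agent.Helper1.BGT3reg.kappa_subset_tau1_of_decomp hG hM hKU p hp).2.2.2.1
  have hreg : U ⊓ Subgroup.centralizer (K : Set G) = ⊥ := by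
    obtain ⟨⟨k, hk⟩, hk1⟩ := Subgroup.ne_bot_iff_exists_ne_one.1 hK1
    have hk1' : k ≠ 1 := fun h => hk1 (Subtype.ext h)
    rw [eq_bot_iff, ← Cfsg.Agent.S1353.result hG M hM K U hKU k hk hk1']
    refine inf_le_inf_left _ ?_
    apply Subgroup.centralizer_le
    rw [Set.singleton_subset_iff]
    exact hk
  exact ⟨Cfsg.Agent.Helper3.BG142.commutator_eq_sup hG hM hKU hκ hreg,
    Cfsg.Agent.Helper3.BG142.inf_centralizer_le_commutator_commutator hG hM hKU hκ hreg⟩


end Cfsg.Agent.S1365
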