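import Mathlib
import Cfsg.Statements.S1351
import Cfsg.Agent.Helper1.BG147h

set_option autoImplicit false
open Cfsg

namespace Cfsg.Agent.S1351

/-- Let G be a minimal simple group of odd order and M a maximal subgroup. Then M possesses a Hall κ(M)-subgroup, and every Hall κ(M)-subgroup of M is cyclic. -/
theorem result {G : Type*} [Group G] [Finite G] (hG : Cfsg.IsMinSimpleOddOrder G)
    (M : Subgroup G) (hM : IsCoatom M) :
    (∃ K : Subgroup G, Cfsg.IsPiHallOf (Cfsg.kappa M) K M) ∧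
      ∀ K : Subgroup G, Cfsg.IsPiHallOf (Cfsg.kappa M) K M → IsCyclic K := by
  refine ⟨?_, fun K hK => Cfsg.Agent.Helper1.BG147.kappaHall_cyclic' hG hM hK⟩
  haveI hsolvM : Group.IsSolvable ↥M := hG.2.2.2 M hM.1
  obtain ⟨H, hH, -⟩ := Cfsg.Agent.Helper1.BG147.exists_hall_ge (π := Cfsg.kappa M) (T := ⊥)
    hsolvM bot_le (by
      intro r hr hd
      rw [Subgroup.card_bot] at hd
      exact absurd (Nat.dvd_one.mp hd) hr.one_lt.ne')
  exact ⟨H, hH⟩

end Cfsg.Agent.S1351
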