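import Mathlib
import Cfsg.Statements.S1359
import Cfsg.Agent.Helper3.BG1211a
import Cfsg.Agent.Helper1.BG151b
import Cfsg.Agent.S1353
import Cfsg.Agent.S1446
-- import your own Cfsg.Agent.* helpers here

set_option autoImplicit false
open Cfsg

namespace Cfsg.Agent.S1359

theorem isMulCommutative_of_le' {G : Type*} [Group G] {H K : Subgroup G} (h : H ≤ K)
    (hK : IsMulCommutative K) : IsMulCommutative H :=
  ⟨⟨fun a b => by
    have h1 := congrArg Subtype.val (hK.is_comm.comm ⟨a, h a.2⟩ ⟨b, h b.2⟩)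
    exact Subtype.ext h1⟩⟩

/-- Let G be a minimal simple group of odd order and M a maximal subgroup with standard factorisation M = K U M_σ. Then the subgroup generated by those elements of U which centralize some non-identity element of M_σ is abelian. -/
theorem result {G : Type*} [Group G] [Finite G] (hG : Cfsg.IsMinSimpleOddOrder G)
    (M : Subgroup G) (hM : IsCoatom M) (K U : Subgroup G) (hKU : Cfsg.IsSigmaDecomposition M K U) :
    IsMulCommutative (Subgroup.closure ((U : Set G) ∩ Cfsg.sigmaHat M)) := by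
  have hcl : Subgroup.closure ((U : Set G) ∩ Cfsg.sigmaHat M) ≤ U :=
    (Subgroup.closure_le U).2 Set.inter_subset_left
  by_cases hK1 : K = ⊥
  · -- `U` is a complement of `M_σ`
    have hE : Cfsg.IsComplIn U (Cfsg.sigmaCore M) M := by
      have := hKU.compl
      rwa [hK1, bot_sup_eq] at this
    have hκ : ∀ p : ℕ, p ∉ Cfsg.kappa M := by
      intro p hp
      have h1 := hKU.hall.2.2 p hp.1 hp
      rw [hK1, Subgroup.relIndex_bot_left] at h1
      exact h1 hp.2.1
    have h : ∀ e ∈ U, e ≠ 1 →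
        (∀ p : ℕ, p.Prime → p ∣ orderOf e → p ∈ Cfsg.tau1 M ∪ Cfsg.tau3 M) →
        Cfsg.sigmaCore M ⊓ Subgroup.centralizer ({e} : Set G) = ⊥ := by
      intro e heU he1 hpr
      rw [Subgroup.eq_bot_iff_forall]
      intro x hx
      by_contra hx1
      obtain ⟨hxσ, hxC⟩ := Subgroup.mem_inf.1 hx
      have hex : e * x = x * e := (Subgroup.mem_centralizer_singleton_iff.1 hxC).symm
      have ho1 : orderOf e ≠ 1 := fun h1 => he1 (orderOf_eq_one_iff.1 h1)
      obtain ⟨p, hp, hpd⟩ := Nat.exists_prime_and_dvd ho1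
      haveI : Fact p.Prime := ⟨hp⟩
      obtain ⟨j, hj⟩ := Cfsg.Agent.Helper3.BG144.exists_pow_orderOf_eq hp hpd
      have hpσ1 : p ∉ Cfsg.sigma M ∧ Cfsg.PRankLE p 1 ↥M := by
        rcases hpr p hp hpd with h1 | h3
        · exact ⟨h1.2.1, h1.2.2.2.2⟩
        · exact ⟨h3.2.1, h3.2.2.2⟩
      have hc : Commute e x := hex
      exact hκ p (Cfsg.Agent.Helper4.BG14.mem_kappa_of_commute hG hpσ1.1 hpσ1.2
        (M.pow_mem (hE.1 heU) j) hj hxσ hx1 (hc.pow_left j).eq)
    obtain ⟨-, -, hab, hmain⟩ := Cfsg.Agent.Helper3.BG1211.fitting_compl hG hM hE h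
    refine isMulCommutative_of_le' ?_ hab
    rw [Subgroup.closure_le]
    rintro u ⟨huU, -, y, hy, hy1, huy⟩
    apply hmain y hy hy1
    refine Subgroup.mem_inf.2 ⟨huU, ?_⟩
    rw [Subgroup.mem_centralizer_singleton_iff]
    exact huy
  · -- `U` is abelian
    refine isMulCommutative_of_le' hcl ?_
    by_cases hU1 : U = ⊥
    · refine ⟨⟨fun a b => ?_⟩⟩
      have hle : U ≤ ⊥ := le_of_eq hU1
      have ha : (a : G) = 1 := Subgroup.mem_bot.1 (hle a.2)
      have hb : (b : G) = 1 := Subgroup.mem_bot.1 (hle b.2)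
      apply Subtype.ext
      rw [Subgroup.coe_mul, Subgroup.coe_mul, ha, hb]
    have hnil : Group.IsNilpotent U :=
      Cfsg.Agent.S1446.nilpotent_of_fpf U K hU1 hK1 hKU.normal
        (Cfsg.Agent.S1353.result hG M hM K U hKU)
    apply Cfsg.Agent.Helper4.BG12.isMulCommutative_of_nilpotent_of_not_mem_sigma hG hM
      hKU.compl.1 hnil
    intro p hp hpU
    exact Cfsg.Agent.Helper1.BG151.not_mem_sigma_of_dvd_card_U hG hM hKU hp hpU


end Cfsg.Agent.S1359
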