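import Mathlib
import Cfsg.Statements.S1375
import Cfsg.Agent.Helper2.BG144b

set_option autoImplicit false
open Cfsg

namespace Cfsg.Agent.S1375

open Cfsg.Agent.Helper2

/-- Let G be a minimal simple group of odd order, M a maximal subgroup, x ≠ 1 in M_σ with C_G(x) not contained in M. Then exactly one maximal subgroup N contains C_G(x); for it N_σ = N_F, C_{N_σ}(x) is a normal subgroup of C_G(x) complementing C_M(x), M ∩ N is a complement to N_σ in N, and for every standard factorisation N = K' U' N_σ one has U' ≠ 1 and x ∈ A(N) with x ∉ N_σ. -/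
theorem result {G : Type*} [Group G] [Finite G] (hG : Cfsg.IsMinSimpleOddOrder G)
    (M : Subgroup G) (hM : IsCoatom M) (x : G) (hx : x ∈ Cfsg.sigmaCore M) (hx1 : x ≠ 1) (hxM : ¬ Subgroup.centralizer ({x} : Set G) ≤ M) :
    ∃ N : Subgroup G, (IsCoatom N ∧ Subgroup.centralizer ({x} : Set G) ≤ N) ∧ (∀ L : Subgroup G, IsCoatom L → Subgroup.centralizer ({x} : Set G) ≤ L → L = N) ∧
        Cfsg.sigmaCore N = Cfsg.fittingHallOf N ∧
        Subgroup.centralizer ({x} : Set G) ≤ Subgroup.normalizer ((Cfsg.sigmaCore N ⊓ Subgroup.centralizer ({x} : Set G) : Subgroup G) : Set G) ∧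
        Cfsg.IsComplIn (M ⊓ Subgroup.centralizer ({x} : Set G)) (Cfsg.sigmaCore N ⊓ Subgroup.centralizer ({x} : Set G)) (Subgroup.centralizer ({x} : Set G)) ∧
        Cfsg.IsComplIn (M ⊓ N) (Cfsg.sigmaCore N) N ∧
        ∀ K' U' : Subgroup G, Cfsg.IsSigmaDecomposition N K' U' → U' ≠ ⊥ ∧ x ∈ Cfsg.sigmaA N U' ∧ x ∉ Cfsg.sigmaCore N := by
    classical
    obtain ⟨N, d⟩ := Cfsg.Agent.Helper2.BG144.exists_badData hG hM hx hx1 hxM
    have hN := d.coatom
    have hxM' : x ∈ M := Cfsg.Agent.Lead.BG12.sigmaCore_le hx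
    obtain ⟨hnorm, hcompl, -⟩ := Cfsg.Agent.Helper2.BG144.cent_structure_of_badData hxM' d
    have hnil : Group.IsNilpotent ↥(Cfsg.sigmaCore N) := by
      obtain ⟨r, hr⟩ := d.tau2
      haveI : Fact r.Prime := ⟨hr.1⟩
      obtain ⟨A, hAN, hAel, hAcard⟩ :=
        Cfsg.Agent.Helper4.BG12.exists_ea2_of_not_pRankLE_one hG (H := N) hr.2.2.2
      exact (Cfsg.Agent.S1417.result hG N hN r hr A ⟨hAN, hAel, hAcard⟩).1
    refine ⟨N, ⟨hN, d.cent_le⟩,
      Cfsg.Agent.Helper2.BG144.unique_of_badData hG hM hx hx1 hxM d,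
      Cfsg.Agent.Helper2.BG144.sigmaCore_eq_fittingHallOf hG hN hnil, hnorm, hcompl, d.compl, ?_⟩
    intro K' U' hKU
    exact Cfsg.Agent.Helper2.BG144.factorisation_of_badData hG hM hx hx1 hxM d hKU

end Cfsg.Agent.S1375
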