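import Mathlib
import Cfsg.Statements.S1360
import Cfsg.Agent.Helper3.BG1211n
import Cfsg.Agent.Helper1.BG151b
import Cfsg.Agent.Helper4.BG10d
import Cfsg.Agent.Helper1.BGT3regC
import Cfsg.Agent.S1353
import Cfsg.Agent.S1446
import Cfsg.Agent.S1421
-- import your own Cfsg.Agent.* helpers here

set_option autoImplicit false
open Cfsg

namespace Cfsg.Agent.S1360

open Cfsg.Agent.Helper3.BG1211

/-- an element of maximal order in a finite `p`-group -/
theorem exists_max_orderOf {G : Type*} [Group G] [Finite G] {p : ℕ} [hp : Fact p.Prime]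
    {T : Subgroup G} (hTp : IsPGroup p ↥T) :
    ∃ c₀ ∈ T, ∀ t ∈ T, orderOf t ∣ orderOf c₀ := by
  obtain ⟨c₀, hc₀⟩ := Finite.exists_max (fun t : ↥T => orderOf (t : G))
  refine ⟨c₀, c₀.2, ?_⟩
  intro t ht
  have h1 := hc₀ ⟨t, ht⟩
  simp only at h1
  have hpow : ∀ s : ↥T, ∃ j : ℕ, orderOf (s : G) = p ^ j := by
    intro s
    obtain ⟨k, hk⟩ := hTp s
    have hk' : (s : G) ^ (p ^ k) = 1 := by
      have := congrArg Subtype.val hk
      simpa using this
    obtain ⟨j, -, hj⟩ := (Nat.dvd_prime_pow hp.out).1 (orderOf_dvd_of_pow_eq_one hk')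
    exact ⟨j, hj⟩
  obtain ⟨i, hi⟩ := hpow ⟨t, ht⟩
  obtain ⟨j, hj⟩ := hpow c₀
  simp only at hi
  rw [hi, hj] at h1 ⊢
  exact pow_dvd_pow p ((Nat.pow_le_pow_iff_right hp.out.one_lt).1 h1)

/-- Let G be a minimal simple group of odd order and M a maximal subgroup with standard factorisation M = K U M_σ. Then U contains a subgroup U₀ with the same exponent as U such that no non-identity element of U₀ centralizes a non-identity element of M_σ. -/
theorem result {G : Type*} [Group G] [Finite G] (hG : Cfsg.IsMinSimpleOddOrder G)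
    (M : Subgroup G) (hM : IsCoatom M) (K U : Subgroup G) (hKU : Cfsg.IsSigmaDecomposition M K U) :
    ∃ U₀ : Subgroup G, U₀ ≤ U ∧ Monoid.exponent U₀ = Monoid.exponent U ∧ ∀ u ∈ U₀, u ∈ Cfsg.sigmaHat M → u = 1 := by
  have hUM : U ≤ M := hKU.compl.1
  suffices hmain : ∃ U₀ : Subgroup G, U₀ ≤ U ∧ Monoid.exponent U₀ = Monoid.exponent U ∧
      ∀ e ∈ U₀, e ≠ 1 → Cfsg.sigmaCore M ⊓ Subgroup.centralizer ({e} : Set G) = ⊥ by
    obtain ⟨U₀, h1, h2, h3⟩ := hmain
    refine ⟨U₀, h1, h2, ?_⟩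
    rintro u hu ⟨-, y, hy, hy1, huy⟩
    by_contra hu1
    have h4 := h3 u hu hu1
    have hy' : y ∈ Cfsg.sigmaCore M ⊓ Subgroup.centralizer ({u} : Set G) :=
      Subgroup.mem_inf.2 ⟨hy, Subgroup.mem_centralizer_singleton_iff.2 huy.symm⟩
    rw [h4, Subgroup.mem_bot] at hy'
    exact hy1 hy'
  by_cases hK1 : K = ⊥
  · -- `U` is a complement of `M_σ`
    have hE : Cfsg.IsComplIn U (Cfsg.sigmaCore M) M := by
      have := hKU.compl
      rwa [hK1, bot_sup_eq] at this
    have hκ : ∀ p : ℕ, p ∉ Cfsg.kappa M := by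
      intro p hp
      have h1 := hKU.hall.2.2 p hp.1 hp
      rw [hK1, Subgroup.relIndex_bot_left] at h1
      exact h1 hp.2.1
    have h : ∀ e ∈ U, e ≠ 1 →
        (∀ p : ℕ, p.Prime → p ∣ orderOf e → p ∈ Cfsg.tau1 M ∪ Cfsg.tau3 M) →
        Cfsg.sigmaCore M ⊓ Subgroup.centralizer ({e} : Set G) = ⊥ := by
      intro e heU he1 hpr
      rw [Subgroup.eq_bot_iff_forall]
      intro x hx
      by_contra hx1
      obtain ⟨hxσ, hxC⟩ := Subgroup.mem_inf.1 hx
      have hex : e * x = x * e := (Subgroup.mem_centralizer_singleton_iff.1 hxC).symm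
      have ho1 : orderOf e ≠ 1 := fun h1 => he1 (orderOf_eq_one_iff.1 h1)
      obtain ⟨p, hp, hpd⟩ := Nat.exists_prime_and_dvd ho1
      haveI : Fact p.Prime := ⟨hp⟩
      obtain ⟨j, hj⟩ := Cfsg.Agent.Helper3.BG144.exists_pow_orderOf_eq hp hpd
      have hpσ1 : p ∉ Cfsg.sigma M ∧ Cfsg.PRankLE p 1 ↥M := by
        rcases hpr p hp hpd with h1 | h3
        · exact ⟨h1.2.1, h1.2.2.2.2⟩
        · exact ⟨h3.2.1, h3.2.2.2⟩
      have hc : Commute e x := hex
      exact hκ p (Cfsg.Agent.Helper4.BG14.mem_kappa_of_commute hG hpσ1.1 hpσ1.2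
        (M.pow_mem (hE.1 heU) j) hj hxσ hx1 (hc.pow_left j).eq)
    exact (Cfsg.Agent.S1421.result hG M hM U hE h).2
  · -- `U` is abelian
    by_cases hU1 : U = ⊥
    · refine ⟨U, le_rfl, rfl, ?_⟩
      intro e he he1
      rw [hU1, Subgroup.mem_bot] at he
      exact absurd he he1
    have hnil : Group.IsNilpotent U :=
      Cfsg.Agent.S1446.nilpotent_of_fpf U K hU1 hK1 hKU.normal
        (Cfsg.Agent.S1353.result hG M hM K U hKU)
    have hUc : IsMulCommutative ↥U :=
      Cfsg.Agent.Helper4.BG12.isMulCommutative_of_nilpotent_of_not_mem_sigma hG hM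
        hUM hnil (fun p hp hpU =>
          Cfsg.Agent.Helper1.BG151.not_mem_sigma_of_dvd_card_U hG hM hKU hp hpU)
    have hUab : ∀ a ∈ U, ∀ b ∈ U, a * b = b * a := by
      intro a ha b hb
      exact congrArg Subtype.val (hUc.is_comm.comm ⟨a, ha⟩ ⟨b, hb⟩)
    obtain ⟨E, hE, hUE⟩ := Cfsg.Agent.Helper4.BG10.exists_compl_sigmaCore_ge hG hM hUM
      (fun t ht htd => Cfsg.Agent.Helper1.BG151.not_mem_sigma_of_dvd_card_U hG hM hKU ht htd)
    have hEM : E ≤ M := hE.1
    have hstep : ∀ p ∈ (Nat.card U).primeFactors, p.Prime →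
        ∃ c₀ ∈ U, (∀ e ∈ U, e * c₀ * e⁻¹ ∈ Subgroup.zpowers c₀) ∧
          (∃ k : ℕ, orderOf c₀ = p ^ k) ∧
          (∀ e ∈ U, (∃ k : ℕ, e ^ (p ^ k) = 1) → orderOf e ∣ orderOf c₀) ∧
          (∀ x ∈ Subgroup.zpowers c₀, orderOf x = p →
            Cfsg.sigmaCore M ⊓ Subgroup.centralizer ({x} : Set G) = ⊥) := by
      intro p hpS hp
      haveI : Fact p.Prime := ⟨hp⟩
      have hpU : p ∣ Nat.card U := (Nat.mem_primeFactors.1 hpS).2.1
      have hpσ := Cfsg.Agent.Helper1.BG151.not_mem_sigma_of_dvd_card_U hG hM hKU hp hpU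
      have hpκ := Cfsg.Agent.Helper1.BG151.not_mem_kappa_of_dvd_card_U hKU hp hpU
      obtain ⟨T, -, hTU, hTp, hTc⟩ := Cfsg.Agent.Lead.exists_le_card_eq_ppart
        (p := p) (IsPGroup.of_bot) (bot_le : (⊥ : Subgroup G) ≤ U)
      have hUNT : U ≤ Subgroup.normalizer (T : Set G) := by
        intro g hg
        apply Cfsg.Agent.Helper3.IrrCyclic.mem_normalizer_of_conj_le
        intro t ht
        rw [hUab g hg t (hTU ht), mul_inv_cancel_right]
        exact ht
      have hall : ∀ e ∈ U, (∃ k : ℕ, e ^ (p ^ k) = 1) → e ∈ T := by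
        rintro e he ⟨k, hk⟩
        have hep : IsPGroup p ↥(Subgroup.zpowers e) := by
          obtain ⟨j, -, hj⟩ := (Nat.dvd_prime_pow hp).1 (orderOf_dvd_of_pow_eq_one hk)
          apply IsPGroup.of_card (n := j)
          rw [Nat.card_zpowers, hj]
        exact Cfsg.Agent.Helper1.BGT3reg.le_of_normal_sylow hTU hTp hTc hUNT
          (Subgroup.zpowers_le.2 he) hep (Subgroup.mem_zpowers e)
      have hkey : ∃ c₀ ∈ T, (∀ t ∈ T, orderOf t ∣ orderOf c₀) ∧
          (∀ x ∈ Subgroup.zpowers c₀, orderOf x = p →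
            Cfsg.sigmaCore M ⊓ Subgroup.centralizer ({x} : Set G) = ⊥) := by
        by_cases hpτ : p ∈ Cfsg.tau2 M
        · have hTcM : Nat.card T = p ^ (Nat.card M).factorization p := by
            rw [hTc]
            congr 1
            have h1 := Cfsg.Agent.Helper1.BG151.card_U_mul hKU
            have hnd : ¬ p ∣ Nat.card ↥(K ⊔ Cfsg.sigmaCore M) := by
              intro hd
              have hKN : K ≤ Subgroup.normalizer ((Cfsg.sigmaCore M : Subgroup G) : Set G) :=
                hKU.hall.1.trans (Cfsg.Agent.Lead.BG12.le_normalizer_sigmaCore M)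
              have h2 := hd.trans (sup_comm K (Cfsg.sigmaCore M) ▸ card_sup_dvd_mul hKN)
              rcases (Nat.Prime.dvd_mul hp).1 h2 with h3 | h3
              · exact hpσ (Cfsg.Agent.Lead.BG12.mem_sigma_of_dvd_card_sigmaCore hp h3)
              · exact hpκ (hKU.hall.2.1 p hp h3)
            have h2 := congrArg (fun n : ℕ => n.factorization p) h1
            simp only [Nat.factorization_mul Nat.card_pos.ne' Nat.card_pos.ne', Finsupp.add_apply,
              Nat.factorization_eq_zero_of_not_dvd hnd, add_zero] at h2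
            exact h2
          have hTcE : Nat.card T = p ^ (Nat.card E).factorization p :=
            Cfsg.Agent.Lead.card_eq_ppart_of_le (hTU.trans hUE) hEM hTp hTcM
          exact exists_regular_cyclic_of_sylow hG hM hE hpτ (hTU.trans hUE) hTp hTcE
        · obtain ⟨c₀, hc₀T, hc₀⟩ := exists_max_orderOf hTp
          refine ⟨c₀, hc₀T, hc₀, ?_⟩
          intro x hx hxo
          rw [Subgroup.eq_bot_iff_forall]
          intro z hz
          by_contra hz1
          obtain ⟨hzσ, hzC⟩ := Subgroup.mem_inf.1 hz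
          have hcomm : x * z = z * x := (Subgroup.mem_centralizer_singleton_iff.1 hzC).symm
          exact hpτ (Cfsg.Agent.Helper1.BG151.mem_tau2_of_commute hG hM hKU hp
            (hTU (Subgroup.zpowers_le.2 hc₀T hx)) hxo hzσ hz1 hcomm)
      obtain ⟨c₀, hc₀T, hc₀dvd, hc₀reg⟩ := hkey
      refine ⟨c₀, hTU hc₀T, ?_, ?_, ?_, hc₀reg⟩
      · intro e he
        rw [hUab e he c₀ (hTU hc₀T), mul_inv_cancel_right]
        exact Subgroup.mem_zpowers c₀
      · obtain ⟨k, hk⟩ := hTp ⟨c₀, hc₀T⟩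
        have hk' : c₀ ^ (p ^ k) = 1 := by
          have := congrArg Subtype.val hk
          simpa using this
        obtain ⟨j, -, hj⟩ := (Nat.dvd_prime_pow hp).1 (orderOf_dvd_of_pow_eq_one hk')
        exact ⟨j, hj⟩
      · intro e he hek
        exact hc₀dvd e (hall e he hek)
    obtain ⟨C, hCU, -, -, hCexp, hCreg⟩ := exists_normal_of_forall_prime U
      (fun x => Cfsg.sigmaCore M ⊓ Subgroup.centralizer ({x} : Set G) = ⊥)
      (Nat.card U).primeFactors hstep
    refine ⟨C, hCU, ?_, ?_⟩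
    · apply exponent_eq_of_forall hCU
      intro e he q k hq hek
      rcases Nat.eq_zero_or_pos k with rfl | hk
      · exact ⟨1, Subgroup.one_mem _, by simp⟩
      have hqe : q ∣ orderOf e := by rw [hek]; exact dvd_pow_self q hk.ne'
      have hqU : q ∣ Nat.card U := hqe.trans (Subgroup.orderOf_dvd_natCard U he)
      have hqS : q ∈ (Nat.card U).primeFactors :=
        Nat.mem_primeFactors.2 ⟨hq, hqU, Nat.card_pos.ne'⟩
      have hepow : e ^ (q ^ k) = 1 := by rw [← hek]; exact pow_orderOf_eq_one e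
      obtain ⟨c', hc', hdvd⟩ := hCexp q hqS hq e he ⟨k, hepow⟩
      exact ⟨c', hc', hek ▸ hdvd⟩
    · intro e he he1
      have ho1 : orderOf e ≠ 1 := fun h1 => he1 (orderOf_eq_one_iff.1 h1)
      obtain ⟨q, hq, hqe⟩ := Nat.exists_prime_and_dvd ho1
      have ho : orderOf (e ^ (orderOf e / q)) = q :=
        orderOf_pow_orderOf_div (orderOf_pos e).ne' hqe
      have he' : e ^ (orderOf e / q) ∈ C := Subgroup.pow_mem _ he _
      have hreg' : Cfsg.sigmaCore M ⊓
          Subgroup.centralizer ({e ^ (orderOf e / q)} : Set G) = ⊥ :=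
        hCreg _ he' (by rw [ho]; exact hq)
      rw [eq_bot_iff, ← hreg']
      exact inf_le_inf_left _ (centralizer_singleton_le_pow e _)


end Cfsg.Agent.S1360
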