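import Cfsg.Statements.S1048
import Cfsg.Agent.Helper7.ChevGood3
import Cfsg.Agent.Helper7.ChevT6
import Cfsg.Agent.Helper7.ChevT9
import Cfsg.Agent.Helper7.ChevT14
import Cfsg.Agent.Helper7.ChevT16

set_option autoImplicit false
open Cfsg

namespace Cfsg.Agent.S1048

/-- `U_J ⊴ P_J`, `P_J = U_J L_J` and `U_J ∩ L_J = 1` (Levi decomposition of the standard parabolic subgroup). -/
theorem result {F : Type*} [Field F] (D : Cfsg.Lie.ChevalleyDatum) (hD : D ∈ [Cfsg.Lie.chevG2, Cfsg.Lie.chevB2, Cfsg.Lie.chevD4, Cfsg.Lie.chevF4, Cfsg.Lie.chevE6, Cfsg.Lie.chevE7, Cfsg.Lie.chevE8]) (J : Set ℕ) :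
    D.parabolicSubgroup F J ≤ Subgroup.normalizer (D.unipotentRadical F J : Set (GL D.Idx F)) ∧
      D.unipotentRadical F J ⊔ D.leviSubgroup F J = D.parabolicSubgroup F J ∧
      D.unipotentRadical F J ⊓ D.leviSubgroup F J = ⊥ := by
  have hG := Cfsg.Agent.Helper7.Chev.good3_of_mem D hD
  have hT := Cfsg.Agent.Helper7.Chev.T0_of_mem D hD
  have h6 := Cfsg.Agent.Helper7.Chev.T6_of_mem D hD
  have h9 := Cfsg.Agent.Helper7.Chev.T9_of_mem D hD
  have h14 := Cfsg.Agent.Helper7.Chev.T14_of_mem D hD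
  obtain ⟨W, h16⟩ := Cfsg.Agent.Helper7.Chev.T16_of_mem D hD
  exact ⟨Cfsg.Agent.Helper7.Chev.parabolic_le_normalizer_rad hG.toGood2 hT hG.t3 hG.t4 h6 h14 J,
    Cfsg.Agent.Helper7.Chev.rad_sup_levi hG.toGood2 hT h9 J,
    Cfsg.Agent.Helper7.Chev.rad_inf_levi hG.toGood2 hT h16 J⟩

end Cfsg.Agent.S1048
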