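import Mathlib
import Cfsg.Statements.S1181
import Cfsg.Agent.Helper2.Invol

set_option autoImplicit false
open Cfsg

namespace Cfsg.Agent.S1181

open Cfsg.Agent.Helper2

/-- Let z be an isolated involution of the finite group G and N a normal subgroup with z ∉ N. Then the centralizer of zN in G/N is the image of C_G(z), and zN is an isolated involution of G/N. -/
theorem result {G : Type*} [Group G] [Finite G] (z : G) (hz : Cfsg.IsIsolatedInvolution z) (N : Subgroup G) [N.Normal] (hzN : z ∉ N) : Subgroup.centralizer ({(QuotientGroup.mk z : G ⧸ N)} : Set (G ⧸ N)) = (Subgroup.centralizer ({z} : Set G)).map (QuotientGroup.mk' N) ∧ Cfsg.IsIsolatedInvolution (QuotientGroup.mk z : G ⧸ N) := by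
  have hzz : z * z = 1 := mul_self_of_orderOf_two hz.1
  have hqq : (QuotientGroup.mk z : G ⧸ N) * QuotientGroup.mk z = 1 := by
    rw [← QuotientGroup.mk_mul, hzz]; rfl
  have hq1 : (QuotientGroup.mk z : G ⧸ N) ≠ 1 := by
    intro h; exact hzN ((QuotientGroup.eq_one_iff z).mp h)
  have hqinv : (QuotientGroup.mk z : G ⧸ N)⁻¹ = QuotientGroup.mk z := inv_eq_of_mul_eq_one_right hqq
  constructor
  · apply le_antisymm
    · intro q hq
      obtain ⟨g, rfl⟩ := QuotientGroup.mk_surjective q
      rw [Subgroup.mem_centralizer_singleton_iff] at hq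
      obtain ⟨j, hj⟩ := exists_pow_conj_of_isolated hz g
      have hsz : g * z * g⁻¹ * z ∈ N := by
        rw [← QuotientGroup.eq_one_iff]
        rw [QuotientGroup.mk_mul, QuotientGroup.mk_mul, QuotientGroup.mk_mul, QuotientGroup.mk_inv, hq,
          mul_assoc (QuotientGroup.mk z : G ⧸ N), mul_inv_cancel, mul_one, hqq]
      obtain ⟨w, hw, hwz⟩ : ∃ w ∈ N, w * z * w⁻¹ = g * z * g⁻¹ := ⟨_, N.pow_mem hsz j, hj⟩
      refine ⟨w⁻¹ * g, ?_, ?_⟩
      · rw [SetLike.mem_coe, Subgroup.mem_centralizer_singleton_iff]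
        have h1 : z = w⁻¹ * (g * z * g⁻¹) * w := by
          rw [← hwz]; group
        calc w⁻¹ * g * z
            = (w⁻¹ * (g * z * g⁻¹) * w) * (w⁻¹ * g) := by group
          _ = z * (w⁻¹ * g) := by rw [← h1]
      · show (QuotientGroup.mk (w⁻¹ * g) : G ⧸ N) = QuotientGroup.mk g
        rw [QuotientGroup.mk_mul, (QuotientGroup.eq_one_iff _).mpr (N.inv_mem hw), one_mul]
    · rintro _ ⟨g, hg, rfl⟩
      rw [SetLike.mem_coe, Subgroup.mem_centralizer_singleton_iff] at hg
      rw [Subgroup.mem_centralizer_singleton_iff]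
      show (QuotientGroup.mk g : G ⧸ N) * QuotientGroup.mk z = QuotientGroup.mk z * QuotientGroup.mk g
      rw [← QuotientGroup.mk_mul, ← QuotientGroup.mk_mul, hg]
  · refine ⟨orderOf_two_of_mul_self hqq hq1, ?_⟩
    intro q hc
    obtain ⟨g, rfl⟩ := QuotientGroup.mk_surjective q
    obtain ⟨k, hk⟩ := odd_orderOf_mul_conj_of_isolated hz g
    have hpow : (z * (g * z * g⁻¹)) ^ (2 * k + 1) = 1 := by rw [← hk]; exact pow_orderOf_eq_one _
    set t : G ⧸ N := (QuotientGroup.mk g : G ⧸ N) * QuotientGroup.mk z * (QuotientGroup.mk g : G ⧸ N)⁻¹ with ht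
    have htt : t * t = 1 := by
      rw [ht]
      exact conj_mul_self hqq _
    have hprod2 : ((QuotientGroup.mk z : G ⧸ N) * t) ^ 2 = 1 := by
      rw [hc.mul_pow, pow_two, pow_two, hqq, htt, mul_one]
    have hpowq : ((QuotientGroup.mk z : G ⧸ N) * t) ^ (2 * k + 1) = 1 := by
      have : (QuotientGroup.mk z : G ⧸ N) * t = QuotientGroup.mk (z * (g * z * g⁻¹)) := by
        rw [ht, QuotientGroup.mk_mul, QuotientGroup.mk_mul, QuotientGroup.mk_mul, QuotientGroup.mk_inv]
      rw [this, ← QuotientGroup.mk_pow, hpow]; rfl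
    have h1 : (QuotientGroup.mk z : G ⧸ N) * t = 1 := by
      have := hpowq
      rw [pow_succ, pow_mul, hprod2, one_pow, one_mul] at this
      exact this
    have : t = (QuotientGroup.mk z : G ⧸ N)⁻¹ := (inv_eq_of_mul_eq_one_right h1).symm
    rw [this, hqinv]

end Cfsg.Agent.S1181
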