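import Mathlib
import Cfsg.Statements.S1182
import Cfsg.Agent.Helper2.Invol

set_option autoImplicit false
open Cfsg

namespace Cfsg.Agent.S1182

/-- Let z be an isolated involution of the finite group G and H a subgroup normalized by z. If x, y ∈ H both commute with z and y = h x h⁻¹ for some h ∈ H, then y = c x c⁻¹ for some c ∈ H commuting with z. -/
theorem result {G : Type*} [Group G] [Finite G] (z : G) (hz : Cfsg.IsIsolatedInvolution z) (H : Subgroup G) (hzH : z ∈ Subgroup.normalizer (H : Set G)) (x y : G) (hx : x ∈ H) (hy : y ∈ H) (hxz : Commute x z) (hyz : Commute y z) (h : G) (hh : h ∈ H) (hconj : h * x * h⁻¹ = y) : ∃ c ∈ H, Commute c z ∧ c * x * c⁻¹ = y := by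
  have hzz : z * z = 1 := Cfsg.Agent.Helper2.mul_self_of_orderOf_two hz.1
  have hzinv : z⁻¹ = z := Cfsg.Agent.Helper2.inv_eq_self_of_orderOf_two hz.1
  obtain ⟨j, hj⟩ := Cfsg.Agent.Helper2.exists_pow_conj_of_isolated hz h⁻¹
  rw [inv_inv] at hj
  set z' := h⁻¹ * z * h with hz'
  set m := (z' * z) ^ j with hm
  -- z' * z ∈ H
  have hmem : z' * z ∈ H := by
    have h1 : z * h * z⁻¹ ∈ H := (Subgroup.mem_normalizer_iff.mp hzH h).mp hh
    have : z' * z = h⁻¹ * (z * h * z⁻¹) := by rw [hz', hzinv]; group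
    rw [this]
    exact H.mul_mem (H.inv_mem hh) h1
  have hmH : m ∈ H := H.pow_mem hmem j
  -- z' commutes with x
  have hz'x : Commute z' x := by
    have e : y * z = z * y := hyz.eq
    rw [← hconj] at e
    show z' * x = x * z'
    rw [hz']
    calc h⁻¹ * z * h * x = h⁻¹ * (z * (h * x * h⁻¹)) * h := by group
      _ = h⁻¹ * ((h * x * h⁻¹) * z) * h := by rw [e]
      _ = x * (h⁻¹ * z * h) := by group
  have hmx : Commute m x := (hz'x.mul_left hxz.symm).pow_left j
  refine ⟨h * m, H.mul_mem hh hmH, ?_, ?_⟩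
  · show h * m * z = z * (h * m)
    have e1 : m * z = z' * m := by
      have := congrArg (fun t => t * m) hj
      simpa [mul_assoc] using this
    calc h * m * z = h * (m * z) := by group
      _ = h * (z' * m) := by rw [e1]
      _ = z * (h * m) := by rw [hz']; group
  · have e2 : m * x * m⁻¹ = x := by
      rw [hmx.eq, mul_assoc, mul_inv_cancel, mul_one]
    calc h * m * x * (h * m)⁻¹ = h * (m * x * m⁻¹) * h⁻¹ := by group
      _ = y := by rw [e2, hconj]

end Cfsg.Agent.S1182
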