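import Mathlib
import Cfsg.Statements.S0216
import Cfsg.Agent.Helper2.SylowConj

set_option autoImplicit false
open Cfsg

namespace Cfsg.Agent.S0216

open Cfsg.Agent.Helper2

/-- For an involution u in a Sylow 2-subgroup P of a finite group G, the following are equivalent: no G-conjugate of u other than u lies in P; every commutator of u with an element of G has odd order. -/
theorem result {G : Type*} [Group G] [Finite G] (P : Sylow 2 G) (u : G) (hu : orderOf u = 2) (huP : u ∈ P) : (∀ g : G, g * u * g⁻¹ ∈ P → g * u * g⁻¹ = u) ↔ (∀ g : G, Odd (orderOf (u * g * u⁻¹ * g⁻¹))) := by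
  have huu := mul_self_of_orderOf_two hu
  have huinv := inv_eq_self_of_orderOf_two hu
  have hrew : ∀ g : G, u * g * u⁻¹ * g⁻¹ = u * (g * u * g⁻¹) := by
    intro g; rw [huinv]; group
  constructor
  · intro h g
    rw [hrew]
    exact odd_orderOf_mul_conj_of_isolated (isolated_of_sylow P hu h) g
  · intro h g hg
    have hodd := h g
    rw [hrew] at hodd
    have hmem : u * (g * u * g⁻¹) ∈ (P : Subgroup G) := Subgroup.mul_mem _ huP hg
    obtain ⟨k, hk⟩ := P.isPGroup' ⟨_, hmem⟩
    have hk' : (u * (g * u * g⁻¹)) ^ (2 ^ k) = 1 := by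
      have := congrArg Subtype.val hk
      simpa using this
    have hd : orderOf (u * (g * u * g⁻¹)) ∣ 2 ^ k := orderOf_dvd_of_pow_eq_one hk'
    have hcop : Nat.Coprime (orderOf (u * (g * u * g⁻¹))) (2 ^ k) :=
      Nat.Coprime.pow_right k (Nat.coprime_two_right.mpr hodd)
    have h1 : orderOf (u * (g * u * g⁻¹)) = 1 := Nat.Coprime.eq_one_of_dvd hcop hd
    have h2 : u * (g * u * g⁻¹) = 1 := orderOf_eq_one_iff.mp h1
    have h3 : g * u * g⁻¹ = u⁻¹ := eq_inv_of_mul_eq_one_right h2
    rw [h3, huinv]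

end Cfsg.Agent.S0216
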