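import Mathlib
import Cfsg.Statements.S0842
import Cfsg.Agent.Helper2.QuatGen
import Cfsg.Agent.Lead.SylowLemmas
import Cfsg.Agent.Helper1.Transfer1

set_option autoImplicit false
open Cfsg

namespace Cfsg.Agent.S0842

open Cfsg.Agent.Helper2

open scoped commutatorElement

/-- Suppose a Sylow 2-subgroup S of the finite group G is generalized quaternion of order at least 16, and let D be the commutator subgroup of S, C its centralizer and N its normalizer in G. Then there is a subgroup K of odd order, contained in C and normalized by N, with K ⊔ S = N and K ⊔ (S ⊓ C) = C, and C has index 2 in N. -/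
theorem result {G : Type*} [Group G] [Finite G] (S : Sylow 2 G) (n : ℕ) (e : (S : Subgroup G) ≃* QuaternionGroup (2 ^ (n + 2))) (D : Subgroup G) (hD : D = ⁅(S : Subgroup G), (S : Subgroup G)⁆) : ∃ K : Subgroup G, Odd (Nat.card K) ∧ K ≤ Subgroup.centralizer (D : Set G) ∧ Subgroup.normalizer (D : Set G) ≤ Subgroup.normalizer (K : Set G) ∧ K ⊔ (S : Subgroup G) = Subgroup.normalizer (D : Set G) ∧ K ⊔ ((S : Subgroup G) ⊓ Subgroup.centralizer (D : Set G)) = Subgroup.centralizer (D : Set G) ∧ ((Subgroup.centralizer (D : Set G)).subgroupOf (Subgroup.normalizer (D : Set G))).index = 2 := by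
  classical
  haveI : Fact (Nat.Prime 2) := ⟨Nat.prime_two⟩
  obtain ⟨k, hk⟩ : ∃ k, 2 ^ (n + 2) = k := ⟨_, rfl⟩
  rw [hk] at e
  haveI : NeZero k := ⟨by rw [← hk]; positivity⟩
  have hk4 : 4 ≤ k := by
    rw [← hk]
    calc 4 = 2 ^ 2 := by norm_num
      _ ≤ 2 ^ (n + 2) := Nat.pow_le_pow_right (by norm_num) (by omega)
  obtain ⟨a', b', haS, hbS, hoa, hrel, hbb, hnf⟩ := QuatGen.quat_gens (S : Subgroup G) k e
  set Z := Subgroup.zpowers a' with hZ
  have hZS : Z ≤ (S : Subgroup G) := by rw [hZ, Subgroup.zpowers_le]; exact haS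
  have hcardS : Nat.card (S : Subgroup G) = 4 * k := by
    rw [Nat.card_congr e.toEquiv, Nat.card_eq_fintype_card, QuaternionGroup.card]
  have hcardZ : Nat.card Z = 2 * k := by rw [hZ, Nat.card_zpowers, hoa]
  have hidxZ : (Z.subgroupOf (S : Subgroup G)).index = 2 := by
    have h1 := (Z.subgroupOf (S : Subgroup G)).card_mul_index
    rw [Cfsg.Agent.Lead.card_subgroupOf_of_le hZS, hcardZ, hcardS] at h1
    have h2 : 2 * k * (Z.subgroupOf (S : Subgroup G)).index = 2 * k * 2 := by rw [h1]; ring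
    exact Nat.eq_of_mul_eq_mul_left (by positivity) h2
  haveI hZn : (Z.subgroupOf (S : Subgroup G)).Normal := Subgroup.normal_of_index_eq_two hidxZ
  -- D ≤ Z
  have hDZ : D ≤ Z := by
    rw [hD, Subgroup.commutator_le]
    intro g₁ hg₁ g₂ hg₂
    have h1 : ((⟨g₁, hg₁⟩ : ↥(S : Subgroup G)) * ⟨g₂, hg₂⟩ * ⟨g₁, hg₁⟩⁻¹ * ⟨g₂, hg₂⟩⁻¹) ∈
        Z.subgroupOf (S : Subgroup G) := by
      rw [Subgroup.mul_mem_iff_of_index_two hidxZ, inv_mem_iff]
      constructor
      · intro h
        have h' := hZn.conj_mem _ h (⟨g₁, hg₁⟩⁻¹)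
        have e' : (⟨g₁, hg₁⟩ : ↥(S : Subgroup G))⁻¹ * (⟨g₁, hg₁⟩ * ⟨g₂, hg₂⟩ * ⟨g₁, hg₁⟩⁻¹) *
            (⟨g₁, hg₁⟩ : ↥(S : Subgroup G))⁻¹⁻¹ = ⟨g₂, hg₂⟩ := by group
        rwa [e'] at h'
      · intro h
        exact hZn.conj_mem _ h _
    rw [Subgroup.mem_subgroupOf] at h1
    simpa [commutatorElement_def] using h1
  have ha2D : a' ^ 2 ∈ D := by
    have h1 : ⁅b', a'⁆ ∈ D := by rw [hD]; exact Subgroup.commutator_mem_commutator hbS haS
    rw [commutatorElement_def, hrel] at h1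
    have h2 : a'⁻¹ * a'⁻¹ = (a' ^ 2)⁻¹ := by group
    rw [h2] at h1
    exact inv_mem_iff.mp h1
  have hDS : D ≤ (S : Subgroup G) := hDZ.trans hZS
  have hSN : (S : Subgroup G) ≤ Subgroup.normalizer (D : Set G) := by
    intro s hs
    apply Subgroup.mem_normalizer_fintype
    intro x hx
    have h1 : ⁅s, x⁆ ∈ D := by rw [hD]; exact Subgroup.commutator_mem_commutator hs (hDS hx)
    have h2 : s * x * s⁻¹ = ⁅s, x⁆ * x := by rw [commutatorElement_def]; group
    rw [h2]; exact D.mul_mem h1 hx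
  set C := Subgroup.centralizer (D : Set G) with hC
  set N := Subgroup.normalizer (D : Set G) with hN
  have hCN : C ≤ N := Subgroup.centralizer_le_normalizer _
  have hZC : Z ≤ C := by
    rw [hZ, Subgroup.zpowers_le, hC, Subgroup.mem_centralizer_iff]
    intro d hd
    obtain ⟨j, rfl⟩ := Subgroup.mem_zpowers_iff.mp (hDZ hd)
    exact ((Commute.refl a').zpow_left j).eq
  have hSC : (S : Subgroup G) ⊓ C = Z := by
    apply le_antisymm
    · rintro y ⟨hyS, hyC⟩
      obtain ⟨i, hi | hi⟩ := hnf y hyS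
      · rw [hi]; exact Subgroup.pow_mem _ (Subgroup.mem_zpowers a') _
      · exfalso
        have h1 := (Subgroup.mem_centralizer_iff.mp hyC) (a' ^ 2) ha2D
        rw [hi] at h1
        have hba : b' * a' = a'⁻¹ * b' := by rw [← hrel]; group
        have hba2 : b' * a' ^ 2 = (a' ^ 2)⁻¹ * b' := by
          rw [pow_two, ← mul_assoc, hba, mul_assoc, hba]; group
        have h2 : b' * a' ^ i * a' ^ 2 = (a' ^ 2)⁻¹ * (b' * a' ^ i) := by
          rw [mul_assoc, ← pow_add, add_comm, pow_add, ← mul_assoc, hba2, mul_assoc]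
        rw [h2] at h1
        have h3 : a' ^ 2 = (a' ^ 2)⁻¹ := mul_right_cancel h1
        have h4 : a' ^ 4 = 1 := by
          have h5 : a' ^ 4 = a' ^ 2 * a' ^ 2 := by rw [← pow_add]
          rw [h5]
          nth_rewrite 1 [h3]
          group
        have h5 := orderOf_dvd_of_pow_eq_one h4
        rw [hoa] at h5
        have := Nat.le_of_dvd (by norm_num) h5
        omega
    · exact le_inf hZS hZC
  have hNC : N ≤ Subgroup.normalizer (C : Set G) := by
    intro g hg
    apply Subgroup.mem_normalizer_fintype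
    intro c hc
    rw [SetLike.mem_coe, hC, Subgroup.mem_centralizer_iff] at hc ⊢
    intro d hd
    have h1 : g⁻¹ * d * g ∈ D := by
      have := (Subgroup.mem_normalizer_iff.mp (N.inv_mem hg) d).mp hd
      simpa using this
    have h2 := hc _ h1
    calc d * (g * c * g⁻¹) = g * ((g⁻¹ * d * g) * c) * g⁻¹ := by group
      _ = g * (c * (g⁻¹ * d * g)) * g⁻¹ := by rw [h2]
      _ = g * c * g⁻¹ * d := by group
  have hcardSN : Nat.card (S : Subgroup G) = 2 ^ (Nat.card N).factorization 2 := by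
    apply Cfsg.Agent.Lead.card_eq_ppart_of_le hSN le_top S.2
    rw [Subgroup.card_top]; exact S.card_eq_multiplicity
  have hcardZC : Nat.card Z = 2 ^ (Nat.card C).factorization 2 := by
    rw [← hSC]
    exact Cfsg.Agent.Lead.card_inf_eq_ppart_of_normal hSN hCN hNC S.2 hcardSN
  have hcard' : Nat.card (Z.subgroupOf C) = 2 ^ (Nat.card C).factorization 2 := by
    rw [Cfsg.Agent.Lead.card_subgroupOf_of_le hZC]; exact hcardZC
  let P : Sylow 2 C := Sylow.ofCard (Z.subgroupOf C) hcard'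
  have hPcoe : (P : Subgroup C) = Z.subgroupOf C := rfl
  have hPcyc : IsCyclic P := by
    show IsCyclic (Z.subgroupOf C)
    haveI : IsCyclic Z := by rw [hZ]; infer_instance
    exact isCyclic_of_surjective (Subgroup.subgroupOfEquivOfLe hZC).symm
      (Subgroup.subgroupOfEquivOfLe hZC).symm.surjective
  have hmin : (Nat.card C).minFac = 2 := by
    rw [Nat.minFac_eq_two_iff]
    have h1 : Nat.card Z ∣ Nat.card C := Subgroup.card_dvd_of_le hZC
    rw [hcardZ] at h1
    exact (Dvd.intro _ rfl).trans h1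
  have hcompl := IsCyclic.isComplement' hmin hPcyc
  obtain ⟨K₀, hK₀⟩ : ∃ K₀ : Subgroup C,
    K₀ = (MonoidHom.transferSylow P (hPcyc.normalizer_le_centralizer hmin)).ker := ⟨_, rfl⟩
  rw [← hK₀] at hcompl
  haveI hK₀n : K₀.Normal := by rw [hK₀]; infer_instance
  have hcardP : Nat.card (P : Subgroup C) = 2 * k := by
    rw [hPcoe, Cfsg.Agent.Lead.card_subgroupOf_of_le hZC, hcardZ]
  have hKP : Nat.card K₀ * Nat.card (P : Subgroup C) = Nat.card C := hcompl.card_mul_card
  have hKodd : Nat.Coprime (Nat.card K₀) 2 := by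
    rw [← hcompl.index_eq_card]
    exact ((Nat.Prime.coprime_iff_not_dvd Nat.prime_two).2 P.not_dvd_index).symm
  obtain ⟨K, hKdef⟩ : ∃ K : Subgroup G, K = K₀.map C.subtype := ⟨_, rfl⟩
  have hcardK : Nat.card K = Nat.card K₀ := by
    rw [hKdef]; exact Subgroup.card_map_of_injective C.subtype_injective
  have hKC : K ≤ C := by rw [hKdef]; exact Subgroup.map_subtype_le K₀
  have hcardC : Nat.card C = Nat.card K * (2 * k) := by rw [← hKP, hcardP, hcardK]
  have hKodd' : Nat.Coprime (Nat.card K) 2 := by rw [hcardK]; exact hKodd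
  -- the index of C in N
  have hDcyc : IsCyclic D := by
    haveI : IsCyclic Z := by rw [hZ]; infer_instance
    exact isCyclic_of_injective (Subgroup.inclusion hDZ) (Subgroup.inclusion_injective hDZ)
  have hD2 : IsPGroup 2 D := S.2.to_le hDS
  have hker : D.normalizerMonoidHom.ker = C.subgroupOf N := Subgroup.normalizerMonoidHom_ker D
  obtain ⟨m, hm⟩ : ∃ m, (C.subgroupOf N).index = 2 ^ m := by
    have h1 : (C.subgroupOf N).index = Nat.card D.normalizerMonoidHom.range := by
      rw [← hker, Subgroup.index_ker]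
    have h2 : Nat.card D.normalizerMonoidHom.range ∣ Nat.card (MulAut D) :=
      Subgroup.card_subgroup_dvd_card _
    obtain ⟨j, hj⟩ := IsPGroup.iff_card.mp hD2
    rw [IsCyclic.card_mulAut, hj] at h2
    have h3 : ∃ i, Nat.totient (2 ^ j) = 2 ^ i := by
      rcases Nat.eq_zero_or_pos j with h0 | h0
      · subst h0; exact ⟨0, by simp⟩
      · exact ⟨j - 1, by rw [Nat.totient_prime_pow Nat.prime_two h0]; simp⟩
    obtain ⟨i, hi⟩ := h3
    rw [hi, ← h1] at h2
    obtain ⟨m, -, hm⟩ := (Nat.dvd_prime_pow Nat.prime_two).mp h2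
    exact ⟨m, hm⟩
  have hcardN : Nat.card N = Nat.card C * 2 ^ m := by
    have h1 := (C.subgroupOf N).card_mul_index
    rw [Cfsg.Agent.Lead.card_subgroupOf_of_le hCN, hm] at h1
    exact h1.symm
  have h2k : 2 * k = 2 ^ (n + 3) := by rw [← hk]; ring
  have h4k : 4 * k = 2 ^ (n + 4) := by rw [← hk]; ring
  have hcardN' : Nat.card N = Nat.card K * 2 ^ (n + 3 + m) := by
    rw [hcardN, hcardC, h2k, pow_add _ (n + 3) m]; ring
  have hm1 : m = 1 := by
    have h1 : 2 ^ (n + 4) ∣ Nat.card K * 2 ^ (n + 3 + m) := by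
      rw [← hcardN', ← h4k, ← hcardS]; exact Subgroup.card_dvd_of_le hSN
    have h2 : 2 ^ (n + 4) ∣ 2 ^ (n + 3 + m) :=
      (Nat.Coprime.pow_left _ hKodd'.symm).dvd_of_dvd_mul_left h1
    have h3 : n + 4 ≤ n + 3 + m := (Nat.pow_dvd_pow_iff_le_right (by norm_num)).mp h2
    have h4 : 2 ^ (n + 3 + m) ∣ Nat.card N := by rw [hcardN']; exact Dvd.intro_left _ rfl
    have h5 : n + 3 + m ≤ (Nat.card N).factorization 2 :=
      (Nat.Prime.pow_dvd_iff_le_factorization Nat.prime_two Nat.card_pos.ne').mp h4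
    have h6 : 2 ^ (n + 3 + m) ∣ 2 ^ (n + 4) := by
      rw [← h4k, ← hcardS, hcardSN]; exact pow_dvd_pow 2 h5
    have h7 : n + 3 + m ≤ n + 4 := (Nat.pow_dvd_pow_iff_le_right (by norm_num)).mp h6
    omega
  subst hm1
  have hcardN'' : Nat.card N = Nat.card K * Nat.card (S : Subgroup G) := by
    rw [hcardN', hcardS, h4k]
  have hcopKS : Nat.Coprime (Nat.card K) (Nat.card (S : Subgroup G)) := by
    rw [hcardS, h4k]; exact Nat.Coprime.pow_right _ hKodd'
  have hcopKZ : Nat.Coprime (Nat.card K) (Nat.card Z) := by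
    rw [hcardZ, h2k]; exact Nat.Coprime.pow_right _ hKodd'
  refine ⟨K, Nat.coprime_two_right.mp hKodd', hKC, ?_, ?_, ?_, hm⟩
  · -- N normalizes K
    intro g hg
    apply Subgroup.mem_normalizer_fintype
    intro y hy
    rw [SetLike.mem_coe, hKdef] at hy
    obtain ⟨x, hx, rfl⟩ := hy
    have hmem : g * (x : G) * g⁻¹ ∈ C := (Subgroup.mem_normalizer_iff.mp (hNC hg) x).mp x.2
    rw [SetLike.mem_coe, hKdef]
    refine ⟨⟨_, hmem⟩, ?_, rfl⟩
    rw [SetLike.mem_coe, Cfsg.Agent.Helper1.mem_normal_complement_sylow_iff P K₀ hcompl] at hx ⊢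
    rw [Subgroup.orderOf_mk]
    have hord : orderOf (g * (x : G) * g⁻¹) = orderOf (x : G) := by
      have hsc : SemiconjBy g (x : G) (g * (x : G) * g⁻¹) := by unfold SemiconjBy; group
      exact (SemiconjBy.orderOf_eq g hsc).symm
    rw [hord, Subgroup.orderOf_coe]; exact hx
  · -- K ⊔ S = N
    have hle : K ⊔ (S : Subgroup G) ≤ N := sup_le (hKC.trans hCN) hSN
    apply Subgroup.eq_of_le_of_card_ge hle
    have hd : Nat.card K * Nat.card (S : Subgroup G) ∣ Nat.card ↥(K ⊔ (S : Subgroup G)) :=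
      Nat.Coprime.mul_dvd_of_dvd_of_dvd hcopKS (Subgroup.card_dvd_of_le le_sup_left)
        (Subgroup.card_dvd_of_le le_sup_right)
    rw [hcardN'']
    exact Nat.le_of_dvd Nat.card_pos hd
  · -- K ⊔ (S ⊓ C) = C
    rw [hSC]
    have hle : K ⊔ Z ≤ C := sup_le hKC hZC
    apply Subgroup.eq_of_le_of_card_ge hle
    have hd : Nat.card K * Nat.card Z ∣ Nat.card ↥(K ⊔ Z) :=
      Nat.Coprime.mul_dvd_of_dvd_of_dvd hcopKZ (Subgroup.card_dvd_of_le le_sup_left)
        (Subgroup.card_dvd_of_le le_sup_right)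
    rw [hcardC, ← hcardZ]
    exact Nat.le_of_dvd Nat.card_pos hd

end Cfsg.Agent.S0842
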