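import Mathlib
import Cfsg.Statements.S0843
import Cfsg.Agent.Helper2.QuatSylowD

set_option autoImplicit false
open Cfsg

namespace Cfsg.Agent.S0843

open Cfsg.Agent.Helper2

/-- Suppose a Sylow 2-subgroup S of the finite group G is generalized quaternion of order at least 16; let D be the commutator subgroup of S and X the set of elements of the centralizer of D whose order is divisible by the order of D. Then D is contained in the cyclic subgroup generated by any element of X; an element of G conjugating some element of X into the centralizer of D normalizes D; and the normalizer of D maps X to itself under conjugation. -/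
theorem result {G : Type*} [Group G] [Finite G] (S : Sylow 2 G) (n : ℕ) (e : (S : Subgroup G) ≃* QuaternionGroup (2 ^ (n + 2))) (D : Subgroup G) (hD : D = ⁅(S : Subgroup G), (S : Subgroup G)⁆) : (∀ y : G, y ∈ Subgroup.centralizer (D : Set G) → Nat.card D ∣ orderOf y → D ≤ Subgroup.zpowers y) ∧ (∀ g y : G, y ∈ Subgroup.centralizer (D : Set G) → Nat.card D ∣ orderOf y → g * y * g⁻¹ ∈ Subgroup.centralizer (D : Set G) → g ∈ Subgroup.normalizer (D : Set G)) ∧ (∀ g y : G, g ∈ Subgroup.normalizer (D : Set G) → y ∈ Subgroup.centralizer (D : Set G) → Nat.card D ∣ orderOf y → g * y * g⁻¹ ∈ Subgroup.centralizer (D : Set G) ∧ Nat.card D ∣ orderOf (g * y * g⁻¹)) := by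
  classical
  haveI : Fact (Nat.Prime 2) := ⟨Nat.prime_two⟩
  obtain ⟨a', haS, hDZ, hZC, hcardZ, hNC, hDS, hSN, hSC⟩ := QuatSylowD.quatD_facts S n e D hD
  have hD2 : IsPGroup 2 D := S.2.to_le hDS
  obtain ⟨i, hi⟩ := IsPGroup.iff_card.mp hD2
  have hconjord : ∀ g y : G, orderOf (g * y * g⁻¹) = orderOf y := by
    intro g y
    have hsc : SemiconjBy g y (g * y * g⁻¹) := by unfold SemiconjBy; group
    exact (SemiconjBy.orderOf_eq g hsc).symm
  have hconjzpow : ∀ (g y : G) (u : ℤ), (g * y * g⁻¹) ^ u = g * y ^ u * g⁻¹ := by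
    intro g y u
    have h1 : g * y * g⁻¹ = MulAut.conj g y := by simp
    have h2 : g * y ^ u * g⁻¹ = MulAut.conj g (y ^ u) := by simp
    rw [h1, h2, map_zpow]
  have part1 : ∀ y : G, y ∈ Subgroup.centralizer (D : Set G) → Nat.card D ∣ orderOf y →
      D ≤ Subgroup.zpowers y := by
    intro y hyC hdvd
    obtain ⟨j, t, ht, hjt⟩ := Nat.exists_eq_two_pow_mul_odd (orderOf_pos y).ne'
    have ht0 : t ≠ 0 := (Odd.pos ht).ne'
    have ho2 : orderOf (y ^ t) = 2 ^ j := by
      rw [orderOf_pow_of_dvd ht0 ⟨2 ^ j, by rw [hjt]; ring⟩, hjt, Nat.mul_div_cancel _ (Odd.pos ht)]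
    have hij : 2 ^ i ∣ 2 ^ j := by
      rw [hi, hjt] at hdvd
      exact (Nat.Coprime.pow_left i (Nat.coprime_two_left.mpr ht)).dvd_of_dvd_mul_right hdvd
    have hy2C : y ^ t ∈ Subgroup.centralizer (D : Set G) := Subgroup.pow_mem _ hyC t
    have hT2 : IsPGroup 2 (Subgroup.zpowers (y ^ t)) :=
      IsPGroup.of_card (n := j) (by rw [Nat.card_zpowers, ho2])
    obtain ⟨c, hcC, hc⟩ := Cfsg.Agent.Lead.exists_conj_le_of_card_eq_ppart hZC hcardZ
      ((Subgroup.zpowers_le).mpr hy2C) hT2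
    have hzZ : c * y ^ t * c⁻¹ ∈ Subgroup.zpowers a' := by
      apply hc
      exact ⟨y ^ t, Subgroup.mem_zpowers _, by simp⟩
    have hoz : orderOf (c * y ^ t * c⁻¹) = 2 ^ j := by rw [hconjord, ho2]
    have hDz : D ≤ Subgroup.zpowers (c * y ^ t * c⁻¹) :=
      QuatSylowD.le_of_card_dvd_of_cyclic (Subgroup.zpowers a') inferInstance D _ hDZ
        ((Subgroup.zpowers_le).mpr hzZ) (by rw [hi, Nat.card_zpowers, hoz]; exact hij)
    intro d hd
    obtain ⟨u, hu⟩ := Subgroup.mem_zpowers_iff.mp (hDz hd)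
    rw [hconjzpow] at hu
    have h2 : d * c = c * d := (Subgroup.mem_centralizer_iff.mp hcC) d hd
    have h3 : c * (y ^ t) ^ u = c * d := by
      rw [← h2]; exact mul_inv_eq_iff_eq_mul.mp hu
    have h4 : (y ^ t) ^ u = d := mul_left_cancel h3
    rw [← h4]
    exact Subgroup.zpow_mem _ (Subgroup.pow_mem _ (Subgroup.mem_zpowers y) t) u
  refine ⟨part1, ?_, ?_⟩
  · intro g y hyC hdvd hgC
    have h1 : D ≤ Subgroup.zpowers (g * y * g⁻¹) := part1 _ hgC (by rw [hconjord]; exact hdvd)
    have h2 : D ≤ Subgroup.zpowers y := part1 y hyC hdvd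
    have h3 : D.map (MulAut.conj g).toMonoidHom ≤ Subgroup.zpowers (g * y * g⁻¹) := by
      rintro _ ⟨d, hd, rfl⟩
      obtain ⟨u, hu⟩ := Subgroup.mem_zpowers_iff.mp (h2 hd)
      rw [Subgroup.mem_zpowers_iff]
      refine ⟨u, ?_⟩
      rw [hconjzpow, hu]
      simp
    have h4 : D.map (MulAut.conj g).toMonoidHom ≤ D :=
      QuatSylowD.le_of_card_dvd_of_cyclic (Subgroup.zpowers (g * y * g⁻¹)) inferInstance _ D h3 h1
        (by rw [Cfsg.Agent.Lead.card_map_conj])
    apply Subgroup.mem_normalizer_fintype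
    intro d hd
    apply h4
    exact ⟨d, hd, by simp⟩
  · intro g y hgN hyC hdvd
    refine ⟨?_, by rw [hconjord]; exact hdvd⟩
    exact (Subgroup.mem_normalizer_iff.mp (hNC hgN) y).mp hyC

end Cfsg.Agent.S0843
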