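import Mathlib
import Cfsg.Statements.S0845
import Cfsg.Agent.Helper2.BSuzJ
import Cfsg.Agent.Helper2.BSuzM
import Cfsg.Agent.Helper2.BSuzL
import Cfsg.Agent.Helper6.InvolutionInd

set_option autoImplicit false
open Cfsg

namespace Cfsg.Agent.S0845

open Cfsg.Agent.Helper2

/-- Suppose a Sylow 2-subgroup S of the finite group G is generalized quaternion of order at least 16. Then G has a normal subgroup M of even order such that G / M is non-abelian, that is, M does not contain the commutator subgroup of G. -/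
theorem result {G : Type*} [Group G] [Finite G] (S : Sylow 2 G) (n : ℕ) (e : (S : Subgroup G) ≃* QuaternionGroup (2 ^ (n + 2))) : ∃ M : Subgroup G, M.Normal ∧ Even (Nat.card M) ∧ ¬ commutator G ≤ M := by
    classical
    haveI : Fintype G := Fintype.ofFinite G
    obtain ⟨H, X, θ, χ₁, χ₂, z, hTI, hXinv, hX4, hθX, hθ1, hz2, hzuniq, h1, h2, h3, h4, h5, h6⟩ :=
      Cfsg.Agent.Helper2.BSuzJ.bs_main S n e
    -- the value at the involution
    have hz4 : ¬ 4 ∣ orderOf z := by rw [hz2]; norm_num
    have h7 := Cfsg.Agent.Helper2.BSuzM.indFun_eq_zero H X θ hX4 hθX z hz4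
    rw [h6] at h7
    simp only [Pi.add_apply, Pi.sub_apply] at h7
    have hzval : χ₁ z = χ₂ z + 1 := by linear_combination -h7
    -- the sum over pairs of involutions
    have hsumInd := Cfsg.Agent.Helper6.sum_indFun_involution_products H X hTI hXinv θ hθX z z hz2 hz2
    have hRHS : ∑ᶠ p ∈ {p : H × H | IsConj z (p.1 : G) ∧ IsConj z (p.2 : G)}, θ (p.1 * p.2) = 0 := by
      apply finsum_mem_eq_zero_of_forall_eq_zero
      intro p hp
      have ho : ∀ y : G, IsConj z y → orderOf y = 2 := by
        intro y hy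
        obtain ⟨c, hc⟩ := isConj_iff.mp hy
        have : y = MulAut.conj c z := by rw [MulAut.conj_apply, hc]
        rw [this, MulEquiv.orderOf_eq, hz2]
      have e1 : (p.1 : G) = z := hzuniq _ p.1.2 (ho _ hp.1)
      have e2 : (p.2 : G) = z := hzuniq _ p.2.2 (ho _ hp.2)
      have e3 : p.1 * p.2 = 1 := by
        apply Subtype.ext
        rw [Subgroup.coe_mul, e1, e2, Subgroup.coe_one, ← pow_two, ← hz2]
        exact pow_orderOf_eq_one z
      rw [e3, hθ1]
    rw [hRHS, mul_zero] at hsumInd
    have hset : {p : G × G | IsConj z p.1 ∧ IsConj z p.2} =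
        ↑(Cfsg.Agent.Helper6.classFinset z ×ˢ Cfsg.Agent.Helper6.classFinset z) := by
      ext p
      simp [Cfsg.Agent.Helper6.mem_classFinset]
    rw [hset, finsum_mem_coe_finset, h6] at hsumInd
    have hker : χ₁ z = χ₁ 1 :=
      Cfsg.Agent.Helper2.BSuzL.kernel_of_sum_zero χ₁ χ₂ h1 h2 z h5 hzval hsumInd
    have hdeg : χ₁ 1 ≠ 1 := by
      rw [h5]
      intro h
      have : χ₂ 1 = 0 := by linear_combination h
      exact Cfsg.Agent.Helper6.IsIrrCharacter.apply_one_ne_zero h2 this
    exact Cfsg.Agent.Helper2.BSuzL.exists_normal_even χ₁ h1 z hz2 hker hdeg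

end Cfsg.Agent.S0845
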