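import Mathlib
import Cfsg.Statements.S0950
import Cfsg.Agent.Helper2.OddAut
import Cfsg.Agent.Helper2.DihSylow
import Cfsg.Agent.Helper2.DihSub
import Cfsg.Agent.Helper1.FrobPCompl

set_option autoImplicit false
open Cfsg

namespace Cfsg.Agent.S0950

open Cfsg.Agent.Helper2

set_option maxRecDepth 100000 in
theorem q8_sq : ∀ x : QuaternionGroup 2, x ^ 2 = 1 → x = 1 ∨ x = QuaternionGroup.a 2 := by decide

set_option maxRecDepth 100000 in
theorem q8_pow4 : ∀ x : QuaternionGroup 2, x ^ 4 = 1 := by decide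

set_option maxRecDepth 100000 in
theorem q8_cover : ∀ x y w b : QuaternionGroup 2, (x ^ 2 = 1 ∨ y ^ 2 = 1 ∨ w ^ 2 = 1 ∨ b ^ 2 = 1 ∨
    y = x ∨ y = x⁻¹ ∨ w = x ∨ w = x⁻¹ ∨ w = y ∨ w = y⁻¹) ∨
    (b = x ∨ b = x⁻¹ ∨ b = y ∨ b = y⁻¹ ∨ b = w ∨ b = w⁻¹) := by decide

/-- Let S be a Sylow 2-subgroup of the finite group G that is isomorphic to the quaternion group of order 8, and suppose S has no normal complement in G. Then any two subgroups of order 4 of S are conjugate by an element of the normalizer of S. -/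
theorem result {G : Type*} [Group G] [Finite G] (S : Sylow 2 G) (e : (S : Subgroup G) ≃* QuaternionGroup 2) (hnc : ∀ N : Subgroup G, N.Normal → ¬ Subgroup.IsComplement' N (S : Subgroup G)) (A B : Subgroup G) (hA : A ≤ S) (hB : B ≤ S) (hA4 : Nat.card A = 4) (hB4 : Nat.card B = 4) : ∃ n ∈ Subgroup.normalizer ((S : Subgroup G) : Set G), B = A.map (MulAut.conj n).toMonoidHom := by
  classical
  haveI : Fact (Nat.Prime 2) := ⟨Nat.prime_two⟩
  have hcardS : Nat.card (S : Subgroup G) = 8 := by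
    rw [Nat.card_congr e.toEquiv, Nat.card_eq_fintype_card, QuaternionGroup.card]
  -- facts transported from the quaternion group
  obtain ⟨z, hzdef⟩ : ∃ z : ↥(S : Subgroup G), z = e.symm (QuaternionGroup.a 2) := ⟨_, rfl⟩
  have hsq : ∀ s : ↥(S : Subgroup G), s ^ 2 = 1 → s = 1 ∨ s = z := by
    intro s hs
    have h1 : (e s) ^ 2 = 1 := by rw [← map_pow, hs, map_one]
    rcases q8_sq (e s) h1 with h | h
    · left
      rw [← map_one e] at h
      exact e.injective h
    · right
      rw [hzdef, ← h, e.symm_apply_apply]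
  have hpow4 : ∀ s : ↥(S : Subgroup G), s ^ 4 = 1 := by
    intro s
    apply e.injective
    rw [map_pow, map_one]
    exact q8_pow4 (e s)
  have hzne : z ≠ 1 := by
    rw [hzdef]
    intro h
    have h1 := congrArg e h
    rw [e.apply_symm_apply, map_one] at h1
    revert h1
    decide
  have hz2 : z ^ 2 = 1 := by
    rw [hzdef, ← map_pow]
    have : (QuaternionGroup.a 2 : QuaternionGroup 2) ^ 2 = 1 := by decide
    rw [this, map_one]
  have hord4 : ∀ s : ↥(S : Subgroup G), s ^ 2 ≠ 1 → orderOf s = 4 := by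
    intro s hs
    have h1 : orderOf s ∣ 4 := orderOf_dvd_of_pow_eq_one (hpow4 s)
    have h2 : ¬ orderOf s ∣ 2 := fun h => hs (orderOf_dvd_iff_pow_eq_one.mp h)
    have h3 : orderOf s ≤ 4 := Nat.le_of_dvd (by norm_num) h1
    have h4 : 0 < orderOf s := orderOf_pos s
    interval_cases h : orderOf s
    · exact absurd (one_dvd 2) h2
    · exact absurd dvd_rfl h2
    · revert h1; decide
    · rfl
  -- subgroups of order four are cyclic
  have hsub4 : ∀ A : Subgroup G, A ≤ (S : Subgroup G) → Nat.card A = 4 →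
      ∃ a : G, ∃ haS : a ∈ (S : Subgroup G), (⟨a, haS⟩ : ↥(S : Subgroup G)) ^ 2 ≠ 1 ∧
        A = Subgroup.zpowers a := by
    intro A hAS hA4
    have hex : ∃ a ∈ A, ∀ haS : a ∈ (S : Subgroup G), (⟨a, haS⟩ : ↥(S : Subgroup G)) ^ 2 ≠ 1 := by
      by_contra hno
      push Not at hno
      have hle : A ≤ Subgroup.zpowers (z : G) := by
        intro a ha
        obtain ⟨haS, h2⟩ := hno a ha
        rcases hsq _ h2 with h | h
        · have : a = 1 := congrArg Subtype.val h
          rw [this]; exact Subgroup.one_mem _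
        · have : a = (z : G) := congrArg Subtype.val h
          rw [this]; exact Subgroup.mem_zpowers _
      have h1 := Subgroup.card_le_of_le hle
      rw [hA4, Nat.card_zpowers] at h1
      have h2 : orderOf (z : G) ∣ 2 := by
        apply orderOf_dvd_of_pow_eq_one
        have := congrArg Subtype.val hz2
        simpa using this
      have h3 := Nat.le_of_dvd (by norm_num) h2
      omega
    obtain ⟨a, haA, ha2⟩ := hex
    refine ⟨a, hAS haA, ha2 _, ?_⟩
    symm
    apply Subgroup.eq_of_le_of_card_ge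
    · rw [Subgroup.zpowers_le]; exact haA
    · rw [hA4, Nat.card_zpowers]
      have := hord4 ⟨a, hAS haA⟩ (ha2 _)
      rw [Subgroup.orderOf_mk] at this
      rw [this]
  -- no normal 2-complement
  have hnc' : ¬ Cfsg.HasNormalPComplement 2 G := by
    rintro ⟨P, N, hN, hc⟩
    apply hnc N hN
    apply Subgroup.isComplement'_of_coprime
    · have h1 := hc.card_mul_card
      rw [← h1, S.card_eq_multiplicity, P.card_eq_multiplicity]
    · have h1 : Nat.card N = (P : Subgroup G).index := hc.index_eq_card.symm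
      rw [h1, hcardS]
      have h2 : ¬ 2 ∣ (P : Subgroup G).index := P.not_dvd_index
      have h3 : Nat.Coprime (P : Subgroup G).index 2 :=
        ((Nat.Prime.coprime_iff_not_dvd Nat.prime_two).2 h2).symm
      exact Nat.Coprime.pow_right 3 h3
  have hfrob : ¬ Cfsg.Agent.Helper1.PLocalCentral 2 G :=
    fun h => hnc' (Cfsg.Agent.Helper1.frobenius_pcomplement h)
  have hex : ∃ Q : Subgroup G, Q ≤ (S : Subgroup G) ∧ ∃ g ∈ Subgroup.normalizer (Q : Set G),
      Nat.Coprime (orderOf g) 2 ∧ g ∉ Subgroup.centralizer (Q : Set G) := by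
    by_contra hno
    push Not at hno
    exact hfrob (DihSylow.plocalCentral_of_sylow S (fun Q hQ g hg hcop => hno Q hQ g hg hcop))
  obtain ⟨Q, hQS, g, hgN, hcop, hgC⟩ := hex
  have hQ2 : IsPGroup 2 Q := S.2.to_le hQS
  have hQ8 : Nat.card Q ∣ 8 := hcardS ▸ Subgroup.card_dvd_of_le hQS
  have hQcard : Nat.card Q = 8 := by
    rcases OddAut.odd_action_small Q hQ2 hQ8 g hgN hgC hcop with ⟨h3, h4⟩ | ⟨h7, h8⟩
    · by_contra hne
      have hQ4 : Nat.card Q = 4 := by
        have hle : Nat.card Q ≤ 8 := Nat.le_of_dvd (by norm_num) hQ8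
        have hpos : 0 < Nat.card Q := Nat.card_pos
        interval_cases hc : Nat.card Q <;> first | omega | (exfalso; revert hQ8 h4; decide)
      obtain ⟨q, hqS, hq2, hQz⟩ := hsub4 Q hQS hQ4
      have hcyc : IsCyclic Q := by rw [hQz]; infer_instance
      apply hgC
      apply DihSylow.mem_centralizer_of_aut_eq_one Q g hgN
      apply DihSub.cyclic_two_aut_odd_trivial hcyc hQ2 _ (orderOf g) (Nat.coprime_two_right.mp hcop)
      exact DihSylow.aut_pow_eq_one Q g hgN
    · exact h8
  have hQeq : Q = (S : Subgroup G) := by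
    apply Subgroup.eq_of_le_of_card_ge hQS
    rw [hQcard, hcardS]
  subst hQeq
  -- the induced automorphism of prime order
  set φ := (S : Subgroup G).normalizerMonoidHom with hφ
  obtain ⟨σ₀, hσ₀⟩ : ∃ σ₀, σ₀ = φ ⟨g, hgN⟩ := ⟨_, rfl⟩
  have hσ₀ne : σ₀ ≠ 1 := by
    intro h
    apply hgC
    apply DihSylow.mem_centralizer_of_aut_eq_one _ g hgN
    rw [← hσ₀]; exact h
  have hσ₀ord : orderOf σ₀ ∣ orderOf g := by
    apply orderOf_dvd_of_pow_eq_one
    rw [hσ₀]
    exact DihSylow.aut_pow_eq_one _ g hgN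
  have hord1 : orderOf σ₀ ≠ 1 := fun h => hσ₀ne (orderOf_eq_one_iff.mp h)
  obtain ⟨r, hrdef⟩ : ∃ r, r = (orderOf σ₀).minFac := ⟨_, rfl⟩
  have hr : r.Prime := hrdef ▸ Nat.minFac_prime hord1
  have hrdvd : r ∣ orderOf σ₀ := hrdef ▸ Nat.minFac_dvd _
  obtain ⟨k, hk⟩ := hrdvd
  have hk0 : k ≠ 0 := by
    rintro rfl
    rw [mul_zero] at hk
    exact (orderOf_pos σ₀).ne' hk
  obtain ⟨σ, hσdef⟩ : ∃ σ, σ = σ₀ ^ k := ⟨_, rfl⟩
  have hσord : orderOf σ = r := by
    rw [hσdef, orderOf_pow_of_dvd hk0 ⟨r, by rw [hk]; ring⟩, hk, Nat.mul_div_cancel _ (Nat.pos_of_ne_zero hk0)]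
  have hhN : g ^ k ∈ Subgroup.normalizer ((S : Subgroup G) : Set G) := Subgroup.pow_mem _ hgN k
  have hσφ : σ = φ ⟨g ^ k, hhN⟩ := by
    rw [hσdef, hσ₀, ← map_pow]
    rfl
  have hσapp : ∀ s : ↥(S : Subgroup G), ((σ s : ↥(S : Subgroup G)) : G) = g ^ k * s * (g ^ k)⁻¹ := by
    intro s
    rw [hσφ, hφ, Subgroup.normalizerMonoidHom_apply_apply_coe]
  haveI : Fact r.Prime := ⟨hr⟩
  have hr2 : r ≠ 2 := by
    rintro rfl
    have h1 : 2 ∣ orderOf g := (Dvd.intro _ hk.symm).trans hσ₀ord
    have := Nat.Coprime.eq_one_of_dvd hcop.symm h1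
    omega
  have hσne : σ ≠ 1 := by
    rintro rfl
    rw [orderOf_one] at hσord
    exact hr.one_lt.ne hσord
  have hmod := OddAut.card_modEq_fixSub σ r hσord
  have hσz : σ z = z := by
    have h1 : (σ z) ^ 2 = 1 := by rw [← map_pow, hz2, map_one]
    rcases hsq _ h1 with h | h
    · exfalso
      rw [← map_one σ] at h
      exact hzne (σ.injective h)
    · exact h
  have hfixne : OddAut.fixSub σ ≠ ⊥ := by
    intro h
    have : z ∈ OddAut.fixSub σ := hσz
    rw [h, Subgroup.mem_bot] at this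
    exact hzne this
  have hfixtop := OddAut.fixSub_ne_top σ hσne
  obtain ⟨j, hj⟩ := IsPGroup.iff_card.mp ((S.2 : IsPGroup 2 ↥(S : Subgroup G)).to_subgroup (OddAut.fixSub σ))
  have hj1 : 1 ≤ j := by
    by_contra h0
    have : j = 0 := by omega
    rw [this, pow_zero] at hj
    exact hfixne (Subgroup.card_eq_one.mp hj)
  have hj3 : j < 3 := by
    have h1 : Nat.card (OddAut.fixSub σ) < Nat.card ↥(S : Subgroup G) := by
      by_contra hge
      push Not at hge
      exact hfixtop (Subgroup.eq_top_of_le_card _ hge)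
    rw [hj, hcardS] at h1
    have h2 : 2 ^ j < 2 ^ 3 := by
      have : (2 : ℕ) ^ 3 = 8 := by norm_num
      rw [this]; exact h1
    exact (Nat.pow_lt_pow_iff_right (by norm_num)).mp h2
  have hr3j : r = 3 ∧ j = 1 := by
    rw [hcardS, hj] at hmod
    have hdvd : r ∣ 8 - 2 ^ j := (Nat.modEq_iff_dvd' (by
      have : 2 ^ j ≤ 2 ^ 3 := Nat.pow_le_pow_right (by norm_num) hj3.le
      simpa using this)).mp hmod.symm
    have hj12 : j = 1 ∨ j = 2 := by omega
    rcases hj12 with rfl | rfl
    · norm_num at hdvd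
      have h6 : r ∣ 2 * 3 := hdvd
      rcases (Nat.Prime.dvd_mul hr).mp h6 with h | h
      · exact absurd ((Nat.prime_dvd_prime_iff_eq hr Nat.prime_two).mp h) hr2
      · exact ⟨(Nat.prime_dvd_prime_iff_eq hr (by norm_num)).mp h, rfl⟩
    · norm_num at hdvd
      have h4 : r ∣ 2 ^ 2 := hdvd
      exact absurd ((Nat.prime_dvd_prime_iff_eq hr Nat.prime_two).mp (hr.dvd_of_dvd_pow h4)) hr2
  obtain ⟨hr3, hj1'⟩ := hr3j
  subst hr3
  subst hj1'
  have hσ3 : σ ^ 3 = 1 := by rw [← hσord]; exact pow_orderOf_eq_one σ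
  have hσ3app : ∀ s, σ (σ (σ s)) = s := by
    intro s
    have := congrArg (fun f : MulAut ↥(S : Subgroup G) => f s) hσ3
    simpa [pow_succ, MulAut.mul_apply] using this
  -- elements of order four are moved
  have hmove : ∀ s : ↥(S : Subgroup G), s ^ 2 ≠ 1 → σ s ≠ s ∧ σ s ≠ s⁻¹ := by
    intro s hs
    constructor
    · intro h
      have hle : Subgroup.zpowers s ≤ OddAut.fixSub σ := by
        rw [Subgroup.zpowers_le]; exact h
      have h1 := Subgroup.card_le_of_le hle
      rw [Nat.card_zpowers, hord4 s hs, hj] at h1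
      omega
    · intro h
      have h1 : σ (σ s) = s := by rw [h, map_inv, h, inv_inv]
      have h2 := hσ3app s
      rw [h1, h] at h2
      apply hs
      rw [pow_two]
      nth_rewrite 1 [← h2]
      exact inv_mul_cancel s
  obtain ⟨a, haS, ha2, hAz⟩ := hsub4 A hA hA4
  obtain ⟨b, hbS, hb2, hBz⟩ := hsub4 B hB hB4
  obtain ⟨a', ha'⟩ : ∃ a' : ↥(S : Subgroup G), a' = ⟨a, haS⟩ := ⟨_, rfl⟩
  obtain ⟨b', hb'⟩ : ∃ b' : ↥(S : Subgroup G), b' = ⟨b, hbS⟩ := ⟨_, rfl⟩
  rw [← ha'] at ha2
  rw [← hb'] at hb2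
  have hsq' : ∀ s : ↥(S : Subgroup G), s ^ 2 ≠ 1 → (σ s) ^ 2 ≠ 1 := by
    intro s hs h
    rw [← map_pow, ← map_one σ] at h
    exact hs (σ.injective h)
  have hesq : ∀ s : ↥(S : Subgroup G), s ^ 2 ≠ 1 → (e s) ^ 2 ≠ 1 := by
    intro s hs h
    rw [← map_pow, ← map_one e] at h
    exact hs (e.injective h)
  have h1a := hmove a' ha2
  have h1b := hmove (σ a') (hsq' _ ha2)
  have hw_ne_x : σ (σ a') ≠ a' := by
    intro h
    have := hσ3app a'
    rw [h] at this
    exact h1a.1 this
  have hw_ne_xi : σ (σ a') ≠ a'⁻¹ := by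
    intro h
    have h3 := hσ3app a'
    rw [h, map_inv] at h3
    apply h1a.2
    rw [← inv_inj, h3]
    rw [inv_inv]
  have hcases : b' = a' ∨ b' = a'⁻¹ ∨ b' = σ a' ∨ b' = (σ a')⁻¹ ∨ b' = σ (σ a') ∨ b' = (σ (σ a'))⁻¹ := by
    rcases q8_cover (e a') (e (σ a')) (e (σ (σ a'))) (e b') with h | h
    · exfalso
      rcases h with h | h | h | h | h | h | h | h | h | h
      · exact hesq _ ha2 h
      · exact hesq _ (hsq' _ ha2) h
      · exact hesq _ (hsq' _ (hsq' _ ha2)) h
      · exact hesq _ hb2 h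
      · exact h1a.1 (e.injective h)
      · rw [← map_inv] at h; exact h1a.2 (e.injective h)
      · exact hw_ne_x (e.injective h)
      · rw [← map_inv] at h; exact hw_ne_xi (e.injective h)
      · exact h1b.1 (e.injective h)
      · rw [← map_inv] at h; exact h1b.2 (e.injective h)
    · rcases h with h | h | h | h | h | h
      · exact Or.inl (e.injective h)
      · rw [← map_inv] at h; exact Or.inr (Or.inl (e.injective h))
      · exact Or.inr (Or.inr (Or.inl (e.injective h)))
      · rw [← map_inv] at h; exact Or.inr (Or.inr (Or.inr (Or.inl (e.injective h))))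
      · exact Or.inr (Or.inr (Or.inr (Or.inr (Or.inl (e.injective h)))))
      · rw [← map_inv] at h; exact Or.inr (Or.inr (Or.inr (Or.inr (Or.inr (e.injective h)))))
  -- conclusion
  have hbval : (b' : G) = b := by rw [hb']
  have haval : (a' : G) = a := by rw [ha']
  have key : ∀ n ∈ Subgroup.normalizer ((S : Subgroup G) : Set G), (b = n * a * n⁻¹ ∨ b = (n * a * n⁻¹)⁻¹) →
      ∃ n ∈ Subgroup.normalizer ((S : Subgroup G) : Set G), B = A.map (MulAut.conj n).toMonoidHom := by
    intro n hn hb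
    refine ⟨n, hn, ?_⟩
    rw [hBz, hAz, MonoidHom.map_zpowers]
    change Subgroup.zpowers b = Subgroup.zpowers (n * a * n⁻¹)
    rcases hb with h | h
    · rw [h]
    · rw [h, Subgroup.zpowers_inv]
  have hc1 : ((σ a' : ↥(S : Subgroup G)) : G) = g ^ k * a * (g ^ k)⁻¹ := by rw [hσapp, haval]
  have hc2 : ((σ (σ a') : ↥(S : Subgroup G)) : G) = (g ^ k * g ^ k) * a * (g ^ k * g ^ k)⁻¹ := by
    rw [hσapp, hc1]; group
  rcases hcases with h | h | h | h | h | h
  · apply key 1 (Subgroup.one_mem _)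
    left
    have := congrArg Subtype.val h
    rw [hbval, haval] at this
    rw [this]; group
  · apply key 1 (Subgroup.one_mem _)
    right
    have := congrArg Subtype.val h
    rw [hbval, Subgroup.coe_inv, haval] at this
    rw [this]; group
  · apply key (g ^ k) hhN
    left
    have := congrArg Subtype.val h
    rw [hbval, hc1] at this
    exact this
  · apply key (g ^ k) hhN
    right
    have := congrArg Subtype.val h
    rw [hbval, Subgroup.coe_inv, hc1] at this
    exact this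
  · apply key (g ^ k * g ^ k) (Subgroup.mul_mem _ hhN hhN)
    left
    have := congrArg Subtype.val h
    rw [hbval, hc2] at this
    exact this
  · apply key (g ^ k * g ^ k) (Subgroup.mul_mem _ hhN hhN)
    right
    have := congrArg Subtype.val h
    rw [hbval, Subgroup.coe_inv, hc2] at this
    exact this

end Cfsg.Agent.S0950
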