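import Cfsg.Statements.S0201
import Mathlib
import Cfsg.Agent.S0847
import Cfsg.Agent.Helper4.BSQ8Main

set_option autoImplicit false
open Cfsg

namespace Cfsg.Agent.S0201

/-- Brauer–Suzuki Theorem: if a Sylow 2-subgroup of a finite group is generalized quaternion (of order at least 8) and the group has no nontrivial normal subgroup of odd order, then its centre has order 2. -/
theorem result {G : Type*} [Group G] [Finite G] (S : Sylow 2 G) (n : ℕ) (e : (S : Subgroup G) ≃* QuaternionGroup (2 ^ (n + 1))) (hO : ∀ N : Subgroup G, N.Normal → Odd (Nat.card N) → N = ⊥) : Nat.card (Subgroup.center G) = 2 := by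
  rcases Nat.eq_zero_or_eq_succ_pred n with h | h
  · subst h
    have e' : (S : Subgroup G) ≃* QuaternionGroup 2 := e
    exact Cfsg.Agent.Helper4.BSQ8.brauer_suzuki_q8 (Nat.card G) G rfl S e' hO
  · rw [h] at e
    exact Cfsg.Agent.S0847.result S (n - 1) e hO

end Cfsg.Agent.S0201
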