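import Cfsg.Statements.S5347
import Cfsg.Agent.Helper9.Invol

set_option autoImplicit false
open Cfsg

namespace Cfsg.Agent.S5347

open Cfsg.Agent.Helper9

/-- Let D be a conjugation-invariant generating set of 3-transpositions of a finite group G, p a prime bigger than 3, and P a p-subgroup of G. If a member d of D normalizes P then d centralizes P. -/
theorem result {G : Type*} [Group G] [Finite G] {D : Set G} (hD : Cfsg.IsThreeTranspositionGroup D) {p : ℕ} (hp : p.Prime) (hp3 : 3 < p) (P : Subgroup G) (hP : IsPGroup p P) {d : G} (hd : d ∈ D) (hnorm : d ∈ Subgroup.normalizer (P : Set G)) : ∀ x ∈ P, Commute d x := by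
  intro x hx
  obtain ⟨hset, hconj, _⟩ := hD
  have hd2 := mul_self_of_orderOf_two (hset.1 d hd)
  have hdi : d⁻¹ = d := inv_eq_self_of_mul_self hd2
  have hd' : x * d * x⁻¹ ∈ D := hconj x d hd
  -- y = d * (x d x⁻¹) lies in P
  have hyP : d * (x * d * x⁻¹) ∈ P := by
    have h1 : d * x * d⁻¹ ∈ P := (Subgroup.mem_normalizer_iff.1 hnorm x).1 hx
    have : d * (x * d * x⁻¹) = (d * x * d⁻¹) * x⁻¹ := by rw [hdi]; simp only [mul_assoc]
    rw [this]
    exact P.mul_mem h1 (P.inv_mem hx)
  -- its order is a power of p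
  obtain ⟨k, hk⟩ := hP ⟨_, hyP⟩
  have hk' : (d * (x * d * x⁻¹)) ^ (p ^ k) = 1 := by
    have := congrArg Subtype.val hk
    simpa using this
  have hy1 : d * (x * d * x⁻¹) = 1 := by
    have hcop2 : Nat.Coprime (p ^ k) 2 := by
      apply Nat.Coprime.pow_left
      rw [Nat.coprime_primes hp Nat.prime_two]; omega
    have hcop3 : Nat.Coprime (p ^ k) 3 := by
      apply Nat.Coprime.pow_left
      rw [Nat.coprime_primes hp Nat.prime_three]; omega
    have h1 := orderOf_dvd_of_pow_eq_one hk'
    rcases hset.2 d hd _ hd' with h2 | h3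
    · have h2' := orderOf_dvd_of_pow_eq_one h2
      have := Nat.dvd_gcd h1 h2'
      rw [hcop2.gcd_eq_one] at this
      exact orderOf_eq_one_iff.1 (Nat.dvd_one.1 this)
    · have h3' := orderOf_dvd_of_pow_eq_one h3
      have := Nat.dvd_gcd h1 h3'
      rw [hcop3.gcd_eq_one] at this
      exact orderOf_eq_one_iff.1 (Nat.dvd_one.1 this)
  -- hence x d x⁻¹ = d
  have hxd : x * d * x⁻¹ = d := by
    have h := eq_inv_of_mul_eq_one_right hy1
    rw [hdi] at h; exact h
  show d * x = x * d
  calc d * x = (x * d * x⁻¹) * x := by rw [hxd]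
    _ = x * d := by group

end Cfsg.Agent.S5347
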