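import Mathlib
import Cfsg.Agent.Helper5.SCN
import Cfsg.Agent.Helper5.KInf
import Cfsg.Statements.S1978
-- import your own Cfsg.Agent.* helpers here

set_option autoImplicit false
open Cfsg Cfsg.Agent.Helper5

namespace Cfsg.Agent.S1978

/-- Let P be a finite p-group. Each of the two K-infinity subgroups of P contains its own centralizer in P, which in turn contains Z(P); in particular both are nontrivial when P is. -/
theorem result {P : Type*} [Group P] [Finite P] {p : ℕ} [Fact p.Prime] (hP : IsPGroup p P) : Subgroup.centralizer (Cfsg.kInfLower P : Set P) ≤ Cfsg.kInfLower P ∧ Subgroup.center P ≤ Subgroup.centralizer (Cfsg.kInfLower P : Set P) ∧ Subgroup.centralizer (Cfsg.kInfUpper P : Set P) ≤ Cfsg.kInfUpper P ∧ Subgroup.center P ≤ Subgroup.centralizer (Cfsg.kInfUpper P : Set P) := by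
  have hbn : (⊥ : Subgroup P).Normal := inferInstance
  have hbc : IsMulCommutative ↥(⊥ : Subgroup P) := by
    apply IsMulCommutative.of_setLike_mul_comm
    intro a ha b hb
    rw [Subgroup.mem_bot] at ha hb
    rw [ha, hb]
  obtain ⟨C, hCn, hCc, _, _, hCC⟩ := exists_scn_ge hP (⊤ : Subgroup P) ⊥ bot_le hbc
  rw [top_inf_eq] at hCC
  haveI := hCn
  have h1 : C ≤ Cfsg.kInfLower P :=
    le_trans (le_kSeqEven_of_comm_normal C hCc 0) (le_iSup (Cfsg.kSeqEven P) 0)
  have h2 : C ≤ Cfsg.kInfUpper P := le_iInf (fun n => le_kSeqOdd_of_comm_normal C hCc n)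
  refine ⟨?_, Subgroup.center_le_centralizer _, ?_, Subgroup.center_le_centralizer _⟩
  · calc Subgroup.centralizer (Cfsg.kInfLower P : Set P) ≤ Subgroup.centralizer (C : Set P) :=
          Subgroup.centralizer_le h1
      _ = C := hCC
      _ ≤ Cfsg.kInfLower P := h1
  · calc Subgroup.centralizer (Cfsg.kInfUpper P : Set P) ≤ Subgroup.centralizer (C : Set P) :=
          Subgroup.centralizer_le h2
      _ = C := hCC
      _ ≤ Cfsg.kInfUpper P := h2

end Cfsg.Agent.S1978
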