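import Cfsg.Statements.S2943
import Cfsg.Agent.Helper1.JLSK

set_option autoImplicit false
open Cfsg

namespace Cfsg.Agent.S2943

/-- Let G be a finite group of characteristic 2 type in which every 2-local subgroup is solvable and the centralizer of Ω₁(Z(S)) lies in N_G(S) for every Sylow 2-subgroup S, and let T be a nontrivial 2-subgroup (below, J is the Thompson subgroup generated by the elementary abelian 2-subgroups of largest order), L a subgroup in which T is a Sylow 2-subgroup with J(T) not contained in O₂(L) and C_G(O₂(L)) ≤ O₂(L), and K a J(T)-component contained in L. If Z(T) meets W_K = [Ω₁(Z(O₂(K))), K] nontrivially, then T normalizes K. -/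
theorem result {G : Type*} [Group G] [Finite G] (hL : Cfsg.IsCharacteristicTwoType G) (hN : ∀ N : Subgroup G, Cfsg.IsTwoLocal N → Group.IsSolvable ↥N)
    (hZ : ∀ S : Sylow 2 G, Subgroup.centralizer (Cfsg.omegaCenterOf (S : Subgroup G) : Set G) ≤ Subgroup.normalizer ((S : Subgroup G) : Set G)) (T : Subgroup G) (hT : IsPGroup 2 ↥T) (hT1 : T ≠ ⊥) (L : Subgroup G) (hLT : L ∈ Cfsg.jOvergroups T)
    (K : Subgroup G) (hK : Cfsg.IsJComponent T K) (hKL : K ≤ L)
    (hZW : T ⊓ Subgroup.centralizer (T : Set G) ⊓ Cfsg.wOf K ≠ ⊥) : T ≤ Subgroup.normalizer (K : Set G) := by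
  obtain ⟨hC, hW⟩ := Cfsg.Agent.Helper1.JLS.compHyp_of_isJComponent' hK
  have hTL : T ≤ L := hLT.1.1
  intro t ht
  rw [Subgroup.mem_normalizer_iff_map_conj_eq]
  have hinj : Function.Injective (MulAut.conj t).toMonoidHom := (MulAut.conj t).injective
  have hTt : T.map (MulAut.conj t).toMonoidHom = T :=
    (Subgroup.mem_normalizer_iff_map_conj_eq).1 (Subgroup.le_normalizer ht)
  have hC' : Cfsg.Agent.Helper1.JLS.CompHyp T (K.map (MulAut.conj t).toMonoidHom)
      ((Cfsg.pCoreOf 2 K).map (MulAut.conj t).toMonoidHom) := by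
    have := (Cfsg.Agent.Helper1.JLS.compHyp_map_iff (MulAut.conj t).toMonoidHom hinj T K
      (Cfsg.pCoreOf 2 K)).2 hC
    rwa [hTt] at this
  have hW' := (Cfsg.Agent.Helper1.JLS.wHyp_map_iff (MulAut.conj t).toMonoidHom hinj K
      (Cfsg.pCoreOf 2 K) (Cfsg.wOf K)).2 hW
  have hKtL : K.map (MulAut.conj t).toMonoidHom ≤ L := by
    rintro _ ⟨k, hk, rfl⟩
    exact L.mul_mem (L.mul_mem (hTL ht) (hKL hk)) (L.inv_mem (hTL ht))
  symm
  apply Cfsg.Agent.Helper1.JLS.eq_of_W_inf_ne_bot_of_le hN hZ hT1 hT1 hLT hLT hC hW hC' hW' hKL hKtL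
  obtain ⟨z, hz1⟩ := (Subgroup.ne_bot_iff_exists_ne_one).1 hZW
  have hzmem : (z : G) ∈ T ⊓ Subgroup.centralizer (T : Set G) ⊓ Cfsg.wOf K := z.2
  obtain ⟨⟨-, hzC⟩, hzW⟩ := hzmem
  intro hb
  have h1 : (z : G) ∈ Cfsg.wOf K ⊓ (Cfsg.wOf K).map (MulAut.conj t).toMonoidHom := by
    refine ⟨hzW, ⟨(z : G), hzW, ?_⟩⟩
    show t * (z : G) * t⁻¹ = z
    rw [Subgroup.mem_centralizer_iff.1 hzC t ht, mul_assoc, mul_inv_cancel, mul_one]
  rw [hb, Subgroup.mem_bot] at h1
  exact hz1 (Subtype.ext h1)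

end Cfsg.Agent.S2943
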