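import Mathlib
import Cfsg.Agent.Helper5.StrongEmb
import Cfsg.Agent.Helper5.PGroupCenter
import Cfsg.Agent.Helper5.Cores
import Cfsg.Agent.Lead.Thompson
import Cfsg.Statements.S2947
-- import your own Cfsg.Agent.* helpers here

set_option autoImplicit false
open Cfsg Cfsg.Agent.Helper5

namespace Cfsg.Agent.S2947

/-- in a strongly embedded subgroup, normalizers of nontrivial 2-subgroups stay inside -/
theorem se_normalizer_le {G : Type*} [Group G] [Finite G] (M : Subgroup G)
    (hM : Cfsg.IsStronglyEmbedded M) (D : Subgroup G) (hDM : D ≤ M) (hD : IsPGroup 2 D) (hD1 : D ≠ ⊥) :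
    Subgroup.normalizer (D : Set G) ≤ M := by
  haveI : Fact (Nat.Prime 2) := ⟨Nat.prime_two⟩
  intro g hg
  by_contra hgM
  have hodd := hM.2.2 g hgM
  have hDle : D ≤ M ⊓ M.map (MulAut.conj g).toMonoidHom := by
    refine le_inf hDM ?_
    have h1 : D.map (MulAut.conj g).toMonoidHom = D := (mem_normalizer_iff_map_conj D g).mp hg
    rw [← h1]
    exact Subgroup.map_mono hDM
  have h2 : 2 ∣ Nat.card D := by
    obtain ⟨n, hn⟩ := IsPGroup.iff_card.mp hD
    have hn0 : n ≠ 0 := by
      intro h0
      rw [h0, pow_zero] at hn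
      exact hD1 ((Subgroup.card_eq_one).mp hn)
    rw [hn]; exact dvd_pow_self 2 hn0
  have h3 : 2 ∣ Nat.card ↥(M ⊓ M.map (MulAut.conj g).toMonoidHom) :=
    h2.trans (Subgroup.card_dvd_of_le hDle)
  exact (Nat.not_even_iff_odd.mpr hodd) (even_iff_two_dvd.mpr h3)

theorem forward {G : Type*} [Group G] [Finite G] (M : Subgroup G)
    (hM : Cfsg.IsStronglyEmbedded M) : Cfsg.straddlingTwoSubgroups M = ∅ := by
  classical
  haveI : Fact (Nat.Prime 2) := ⟨Nat.prime_two⟩
  rw [Set.eq_empty_iff_forall_notMem]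
  rintro T ⟨hT2, hT1, hTM, L, ⟨U, hU2, hU1, rfl⟩, hTL, hLM⟩
  apply hLM
  -- P = T ⊔ U is a 2-group
  have hP : IsPGroup 2 (T ⊔ U : Subgroup G) := IsPGroup.to_sup_of_normal_right' hT2 hU2 hTL
  have hPN : T ⊔ U ≤ Subgroup.normalizer (U : Set G) := sup_le hTL Subgroup.le_normalizer
  obtain ⟨u, huU, huo, huc⟩ := exists_orderOf_eq_prime_central (T ⊔ U) U hP le_sup_right hU1 hPN
  have huM : u ∈ M := by
    apply se_normalizer_le M hM T hTM hT2 hT1
    apply Subgroup.centralizer_le_normalizer
    rw [Subgroup.mem_centralizer_iff]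
    intro t ht
    exact huc t (le_sup_left (a := T) ht)
  have hu1 : u ≠ 1 := by
    intro h
    rw [h, orderOf_one] at huo
    omega
  set U₀ := U ⊓ M with hU₀
  have hU₀1 : U₀ ≠ ⊥ := by
    intro h
    have : u ∈ U₀ := Subgroup.mem_inf.mpr ⟨huU, huM⟩
    rw [h, Subgroup.mem_bot] at this
    exact hu1 this
  have hU₀2 : IsPGroup 2 U₀ := hU2.to_le inf_le_left
  have hNU₀ := se_normalizer_le M hM U₀ inf_le_right hU₀2 hU₀1
  by_cases hUM : U ≤ M
  · exact se_normalizer_le M hM U hUM hU2 hU1
  · exfalso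
    have hlt : U₀.subgroupOf U < ⊤ := by
      rw [lt_top_iff_ne_top]
      intro h
      rw [Subgroup.subgroupOf_eq_top] at h
      exact hUM (h.trans inf_le_right)
    haveI : Group.IsNilpotent U := hU2.isNilpotent
    have hnc := Group.normalizerCondition_of_isNilpotent (G := U) (U₀.subgroupOf U) hlt
    obtain ⟨x, hxN, hxU₀⟩ := SetLike.exists_of_lt hnc
    apply hxU₀
    rw [Subgroup.mem_subgroupOf]
    refine Subgroup.mem_inf.mpr ⟨x.2, hNU₀ ?_⟩
    rw [Subgroup.mem_normalizer_iff]
    intro y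
    constructor
    · intro hy
      have h1 := (Subgroup.mem_normalizer_iff.mp hxN ⟨y, (inf_le_left : U₀ ≤ U) hy⟩).mp
        (Subgroup.mem_subgroupOf.mpr hy)
      exact Subgroup.mem_subgroupOf.mp h1
    · intro hy
      have hyU : y ∈ U := by
        have h2 : (x : G) * y * (x : G)⁻¹ ∈ U := (inf_le_left : U₀ ≤ U) hy
        have h3 : y = (x : G)⁻¹ * ((x : G) * y * (x : G)⁻¹) * (x : G) := by group
        rw [h3]
        exact U.mul_mem (U.mul_mem (U.inv_mem x.2) h2) x.2
      have h1 := (Subgroup.mem_normalizer_iff.mp hxN ⟨y, hyU⟩).mpr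
        (Subgroup.mem_subgroupOf.mpr hy)
      exact Subgroup.mem_subgroupOf.mp h1

/-- Let G be a finite group of characteristic 2 type in which every 2-local subgroup is solvable and the centralizer of Ω₁(Z(S)) lies in N_G(S) for every Sylow 2-subgroup S; suppose O₂(G) = 1, fix a Sylow 2-subgroup S and a 2-local subgroup M containing N_G(J(S)) (J the Thompson subgroup generated by the elementary abelian 2-subgroups of largest order). Then M is strongly embedded in G (a proper subgroup of even order whose intersection with each conjugate by an element outside M has odd order) if and only if no nontrivial 2-subgroup of M lies in a 2-local subgroup of G not contained in M. -/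
theorem result {G : Type*} [Group G] [Finite G] (hL : Cfsg.IsCharacteristicTwoType G) (hN : ∀ N : Subgroup G, Cfsg.IsTwoLocal N → Group.IsSolvable ↥N)
    (hZ : ∀ S : Sylow 2 G, Subgroup.centralizer (Cfsg.omegaCenterOf (S : Subgroup G) : Set G) ≤ Subgroup.normalizer ((S : Subgroup G) : Set G)) (hO : Cfsg.pCore 2 G = ⊥) (S : Sylow 2 G) (M : Subgroup G) (hM : Cfsg.IsTwoLocal M)
    (hMJ : Subgroup.normalizer (Cfsg.thompsonSubgroupOf 2 (S : Subgroup G) : Set G) ≤ M) :
    Cfsg.IsStronglyEmbedded M ↔ Cfsg.straddlingTwoSubgroups M = ∅ := by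
  classical
  haveI : Fact (Nat.Prime 2) := ⟨Nat.prime_two⟩
  constructor
  · exact forward M
  · intro hemp
    have hnostr : ∀ T : Subgroup G, IsPGroup 2 T → T ≠ ⊥ → T ≤ M →
        Subgroup.normalizer (T : Set G) ≤ M := by
      intro T hT2 hT1 hTM
      by_contra hcon
      have : T ∈ Cfsg.straddlingTwoSubgroups M :=
        ⟨hT2, hT1, hTM, Subgroup.normalizer (T : Set G), ⟨T, hT2, hT1, rfl⟩, Subgroup.le_normalizer, hcon⟩
      rw [hemp] at this
      exact this
    obtain ⟨T₀, hT₀2, hT₀1, rfl⟩ := hM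
    -- S ≤ M
    have hSM : (S : Subgroup G) ≤ Subgroup.normalizer (T₀ : Set G) := by
      refine le_trans ?_ hMJ
      intro s hs
      rw [mem_normalizer_iff_map_conj]
      apply Cfsg.Agent.Lead.thompsonSubgroupOf_map_conj_eq
      have h1 : (Cfsg.thompsonSubgroupOf 2 (S : Subgroup G)).map (MulAut.conj s).toMonoidHom ≤
          (S : Subgroup G).map (MulAut.conj s).toMonoidHom :=
        Subgroup.map_mono (Cfsg.Agent.Lead.thompsonSubgroupOf_le 2 _)
      rwa [map_conj_eq_self_of_mem _ _ hs] at h1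
    have hloc : LocCtrl (Subgroup.normalizer (T₀ : Set G)) (S : Subgroup G) := by
      refine ⟨hSM, ?_⟩
      intro Q hQS hQ1
      exact hnostr Q (S.2.to_le hQS) hQ1 (hQS.trans hSM)
    refine ⟨?_, ?_, ?_⟩
    · intro htop
      have hn : T₀.Normal := Subgroup.normalizer_eq_top_iff.mp htop
      have : T₀ ≤ Cfsg.pCore 2 G := le_pCore hn hT₀2
      rw [hO, le_bot_iff] at this
      exact hT₀1 this
    · have h2 : 2 ∣ Nat.card T₀ := by
        obtain ⟨n, hn⟩ := IsPGroup.iff_card.mp hT₀2
        have hn0 : n ≠ 0 := by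
          intro h0
          rw [h0, pow_zero] at hn
          exact hT₀1 ((Subgroup.card_eq_one).mp hn)
        rw [hn]; exact dvd_pow_self 2 hn0
      exact even_iff_two_dvd.mpr (h2.trans (Subgroup.card_dvd_of_le Subgroup.le_normalizer))
    · intro g hg
      rw [← Nat.not_even_iff_odd, even_iff_two_dvd]
      intro h2
      obtain ⟨t, ht⟩ := exists_prime_orderOf_dvd_card' 2 h2
      apply hg
      have hD2 : IsPGroup 2 (Subgroup.zpowers (t : G)) := by
        apply IsPGroup.of_card (n := 1)
        rw [Nat.card_zpowers, Subgroup.orderOf_coe, ht, pow_one]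
      have hD1 : Subgroup.zpowers (t : G) ≠ ⊥ := by
        intro h
        rw [Subgroup.zpowers_eq_bot] at h
        have : t = 1 := Subtype.ext h
        rw [this, orderOf_one] at ht
        omega
      have htmem := Subgroup.mem_inf.mp t.2
      exact hloc.mem_of_inter g (Subgroup.zpowers (t : G))
        ((Subgroup.zpowers_le).mpr htmem.1) ((Subgroup.zpowers_le).mpr htmem.2) hD2 hD1

end Cfsg.Agent.S2947
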