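import Mathlib
import Cfsg.Statements.S3836
import Cfsg.Agent.Helper4.PCore

set_option autoImplicit false
open Cfsg

namespace Cfsg.Agent.S3836

/-- Let G be a finite group that is p-stable in the normalizer form: for every p-subgroup Q and every x ∈ N_G(Q) with [Q, x, x] = 1, the image of x in N_G(Q)/C_G(Q) lies in O_p(N_G(Q)/C_G(Q)). Then every subgroup of G is p-stable in the same sense. -/
theorem result {G : Type*} [Group G] [Finite G] {p : ℕ} [Fact p.Prime] (hst : Cfsg.IsNormalizerPStable p G) (H : Subgroup G) : Cfsg.IsNormalizerPStable p ↥H := by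
  intro P hP g hg hquad
  set P' : Subgroup G := P.map H.subtype with hP'
  have hP'p : IsPGroup p P' := hP.map H.subtype
  have hnorm : ∀ x : H, x ∈ Subgroup.normalizer (P : Set H) → (x : G) ∈ Subgroup.normalizer (P' : Set G) := by
    intro x hx
    have h1 : H.subtype x ∈ (Subgroup.normalizer (P : Set H)).map H.subtype := Subgroup.mem_map_of_mem _ hx
    exact Subgroup.le_normalizer_map H.subtype h1
  have hg' : (g : G) ∈ Subgroup.normalizer (P' : Set G) := hnorm g hg
  have hquad' : ⁅⁅P', Subgroup.zpowers (g : G)⁆, Subgroup.zpowers (g : G)⁆ = ⊥ := by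
    have hz : Subgroup.zpowers (g : G) = (Subgroup.zpowers g).map H.subtype := by
      rw [MonoidHom.map_zpowers]; rfl
    rw [hz, hP', ← Subgroup.map_commutator, ← Subgroup.map_commutator, hquad, Subgroup.map_bot]
  have hmain := hst P' hP'p (g : G) hg' hquad'
  -- the comparison homomorphism
  let φ : ↥(Subgroup.normalizer (P : Set H)) →* ↥(Subgroup.normalizer (P' : Set G)) :=
    { toFun := fun x => ⟨((x : H) : G), hnorm x x.2⟩
      map_one' := rfl
      map_mul' := fun _ _ => rfl }
  set CH := (Subgroup.centralizer (P : Set H)).subgroupOf (Subgroup.normalizer (P : Set H)) with hCH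
  set CG := (Subgroup.centralizer (P' : Set G)).subgroupOf (Subgroup.normalizer (P' : Set G)) with hCG
  have hcomap : ∀ x : ↥(Subgroup.normalizer (P : Set H)), φ x ∈ CG ↔ x ∈ CH := by
    intro x
    rw [hCG, hCH, Subgroup.mem_subgroupOf, Subgroup.mem_subgroupOf, Subgroup.mem_centralizer_iff,
      Subgroup.mem_centralizer_iff]
    constructor
    · intro h y hy
      have := h (y : G) (Subgroup.mem_map_of_mem H.subtype hy)
      apply Subtype.ext
      exact this
    · rintro h _ ⟨y, hy, rfl⟩
      have := h y hy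
      exact congrArg Subtype.val this
  have hle : CH ≤ CG.comap φ := fun x hx => (hcomap x).mpr hx
  let ι : (↥(Subgroup.normalizer (P : Set H)) ⧸ CH) →* (↥(Subgroup.normalizer (P' : Set G)) ⧸ CG) :=
    QuotientGroup.map CH CG φ hle
  have hι : Function.Injective ι := by
    rw [injective_iff_map_eq_one]
    intro q hq
    obtain ⟨x, rfl⟩ := QuotientGroup.mk_surjective q
    rw [QuotientGroup.map_mk, QuotientGroup.eq_one_iff] at hq
    rw [QuotientGroup.eq_one_iff]
    exact (hcomap x).mp hq
  have hnormal : ((Cfsg.pCore p (↥(Subgroup.normalizer (P' : Set G)) ⧸ CG)).comap ι).Normal := by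
    have := Cfsg.Agent.Helper4.pCore_normal (G := ↥(Subgroup.normalizer (P' : Set G)) ⧸ CG) (p := p)
    infer_instance
  have hpg : IsPGroup p ((Cfsg.pCore p (↥(Subgroup.normalizer (P' : Set G)) ⧸ CG)).comap ι) :=
    (Cfsg.Agent.Helper4.pCore_isPGroup).comap_of_injective ι hι
  have hfinal := Cfsg.Agent.Helper4.le_pCore _ hnormal hpg
  apply hfinal
  rw [Subgroup.mem_comap]
  exact hmain

end Cfsg.Agent.S3836
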