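import Mathlib
import Cfsg.Statements.S1363
import Cfsg.Agent.Helper2.BG1412i

set_option autoImplicit false
open Cfsg

namespace Cfsg.Agent.S1363

open Cfsg.Agent.Helper2

/-- Let G be a minimal simple group of odd order and M a maximal subgroup with standard factorisation M = K U M_σ and K ≠ 1. Then U is abelian and the normalizer of U in G is not contained in M. -/
theorem result {G : Type*} [Group G] [Finite G] (hG : Cfsg.IsMinSimpleOddOrder G)
    (M : Subgroup G) (hM : IsCoatom M) (K U : Subgroup G) (hKU : Cfsg.IsSigmaDecomposition M K U) (hK1 : K ≠ ⊥) :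
    IsMulCommutative U ∧ ¬ Subgroup.normalizer (U : Set G) ≤ M := by
    classical
    by_cases hU1 : U = ⊥
    · subst hU1
      refine ⟨⟨⟨fun a b => ?_⟩⟩, ?_⟩
      · apply Subtype.ext
        have ha : (a : G) = 1 := Subgroup.mem_bot.1 a.2
        have hb : (b : G) = 1 := Subgroup.mem_bot.1 b.2
        push_cast
        rw [ha, hb]
      · intro h
        apply hM.1
        rw [eq_top_iff]
        intro g _
        apply h
        rw [Subgroup.mem_normalizer_iff]
        intro x
        simp
    · -- a prime divisor `r` of `|U|`
      obtain ⟨r, hr', hr⟩ := Nat.exists_prime_and_dvd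
        (show Nat.card U ≠ 1 from fun h => hU1 (Subgroup.card_eq_one.mp h))
      haveI := Fact.mk hr'
      have R : Sylow r U := default
      have hcard : Nat.card ↥((R : Subgroup U).map U.subtype) = r ^ (Nat.card U).factorization r := by
        rw [Subgroup.card_map_of_injective U.subtype_injective]
        exact R.card_eq_multiplicity
      have hR1 : ((R : Subgroup U).map U.subtype : Subgroup G) ≠ ⊥ := by
        intro h
        rw [h, Subgroup.card_bot] at hcard
        have h1 : 1 ≤ (Nat.card U).factorization r :=
          (hr'.dvd_iff_one_le_factorization Nat.card_pos.ne').1 hr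
        have h2 : 1 < r ^ (Nat.card U).factorization r :=
          Nat.one_lt_pow (by omega) hr'.one_lt
        omega
      -- a maximal subgroup containing `N_G(R)`
      have hNtop : Subgroup.normalizer (((R : Subgroup U).map U.subtype : Subgroup G) : Set G) ≠ ⊤ := by
        intro h
        haveI := hG.2.1
        have hn : ((R : Subgroup U).map U.subtype : Subgroup G).Normal :=
          Subgroup.normalizer_eq_top_iff.1 h
        rcases hn.eq_bot_or_eq_top with h1 | h1
        · exact hR1 h1
        · apply hM.1
          rw [eq_top_iff, ← h1]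
          exact (Subgroup.map_subtype_le _).trans hKU.compl.1
      obtain ⟨H, hH, hNR⟩ := (eq_top_or_exists_le_coatom _).resolve_left hNtop
      obtain ⟨Ms, f⟩ := Cfsg.Agent.Helper2.BG148.exists_fam hG hM hKU.hall hK1
      have s : Cfsg.Agent.Helper2.BG1412.Setup M K U Ms H r ((R : Subgroup U).map U.subtype) :=
        ⟨hM, hKU, hK1, hU1, f.emb.coatom, f.emb.K_eq, f.emb.hall, hH, hr', Subgroup.map_subtype_le _,
          R.isPGroup'.map _, hcard, hR1, hNR⟩
      refine ⟨⟨⟨fun a b => ?_⟩⟩, ?_⟩
      · apply Subtype.ext
        push_cast
        exact s.U_comm hG a a.2 b b.2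
      · intro h
        exact s.not_normalizer_le hG (inf_le_right.trans h)

end Cfsg.Agent.S1363
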