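import Mathlib
import Cfsg.Statements.S1390
import Cfsg.Agent.Helper3.BG16T
import Cfsg.Agent.Helper1.BG151c
import Cfsg.Agent.Lead.BG15a
import Cfsg.Agent.Helper4.BG15M
import Cfsg.Agent.S1365
import Cfsg.Agent.Helper1.BG16c
import Cfsg.Agent.Helper4.BG16C
import Cfsg.Agent.S1363
-- import your own Cfsg.Agent.* helpers here

set_option autoImplicit false
open Cfsg

namespace Cfsg.Agent.S1390

open Cfsg.Agent.Helper3.BG16T

/-- the common part: from a standard factorisation `(K, U)` with `M_F = M_σ` -/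
theorem core {G : Type*} [Group G] [Finite G] (hG : Cfsg.IsMinSimpleOddOrder G)
    {M K U : Subgroup G} (hM : IsCoatom M) (hKU : Cfsg.IsSigmaDecomposition M K U)
    (hFσ : Cfsg.fittingHallOf M = Cfsg.sigmaCore M)
    (hA : Cfsg.typeA M = {a | a ∈ U ⊔ Cfsg.sigmaCore M ∧ a ≠ 1 ∧
      ∃ x ∈ Cfsg.sigmaCore M, x ≠ 1 ∧ a * x = x * a})
    (hA1 : Cfsg.typeA1 M = (↑(Cfsg.sigmaCore M) : Set G) \ {1}) :
    (∀ (p : ℕ), p.Prime → ∀ P : Sylow p U, IsMulCommutative (P : Subgroup U) ∧ Cfsg.PRankLE p 2 (P : Subgroup U)) ∧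
      (∀ X : Set G, X ⊆ (U : Set G) \ {1} → X.Nonempty → Cfsg.fittingHallOf M ⊓ Subgroup.centralizer X ≠ ⊥ →
        Subgroup.centralizer X ≤ M ∧ ∀ L : Subgroup G, IsCoatom L → Subgroup.centralizer X ≤ L → L = M) ∧
      Cfsg.IsTISubset (Cfsg.typeA M \ Cfsg.typeA1 M) := by
  refine ⟨Cfsg.Agent.Lead.BG15.sylow_U hG M hM K U hKU, ?_, ?_⟩
  · intro X hXU hXne hXc
    have h1 : Subgroup.closure X ≤ U := (Subgroup.closure_le U).2 (fun x hx => (hXU hx).1)
    have h2 : Subgroup.closure X ≠ ⊥ := by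
      obtain ⟨x, hx⟩ := hXne
      intro h
      have hx' : x ∈ Subgroup.closure X := Subgroup.subset_closure hx
      rw [h, Subgroup.mem_bot] at hx'
      exact (hXU hx).2 hx'
    have h3 : Subgroup.centralizer ((Subgroup.closure X : Subgroup G) : Set G) =
        Subgroup.centralizer X := Subgroup.centralizer_closure X
    have h4 := Cfsg.Agent.Helper1.BG151.centralizer_le_of_le_U hG hM hKU h1 h2
      (by rw [h3, ← hFσ]; exact hXc)
    rw [h3] at h4
    exact h4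
  · have hDM : U ⊔ Cfsg.sigmaCore M ≤ M :=
      sup_le hKU.compl.1 Cfsg.Agent.Lead.BG12.sigmaCore_le
    rw [typeA_diff_eq hA hA1 hDM]
    exact Cfsg.Agent.Helper1.BG151.sigmaA_diff_isTI hG hM hKU

theorem result_aux {G : Type*} [Group G] [Finite G] (hG : Cfsg.IsMinSimpleOddOrder G)
    (M : Subgroup G) (hM : IsCoatom M) (U : Subgroup G)
    (h1363 : ∀ K U : Subgroup G, Cfsg.IsSigmaDecomposition M K U → K ≠ ⊥ → U ≠ ⊥ →
      ¬ Subgroup.normalizer (U : Set G) ≤ M)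
    (hU : (Cfsg.IsOfTypeI M ∧ Cfsg.IsComplIn (Cfsg.fittingHallOf M) U M) ∨ (Cfsg.IsOfTypeII M ∧ Cfsg.IsComplIn (Cfsg.fittingHallOf M) U ⁅M, M⁆)) :
    (∀ (p : ℕ), p.Prime → ∀ P : Sylow p U, IsMulCommutative (P : Subgroup U) ∧ Cfsg.PRankLE p 2 (P : Subgroup U)) ∧
      (∀ X : Set G, X ⊆ (U : Set G) \ {1} → X.Nonempty → Cfsg.fittingHallOf M ⊓ Subgroup.centralizer X ≠ ⊥ →
        Subgroup.centralizer X ≤ M ∧ ∀ L : Subgroup G, IsCoatom L → Subgroup.centralizer X ≤ L → L = M) ∧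
      Cfsg.IsTISubset (Cfsg.typeA M \ Cfsg.typeA1 M) := by
  obtain ⟨K₀, U₀, hKU₀⟩ := Cfsg.Agent.Helper4.BG15.exists_sigmaDecomposition hG hM
  rcases hU with ⟨hI, hU⟩ | ⟨hII, hU⟩
  · obtain ⟨hK, hU₀, hFσ⟩ := isOfTypeI_imp hG hM hKU₀ hI
    have hκ : Cfsg.kappa M = ∅ := kappa_eq_empty_of_K_eq_bot (hK ▸ hKU₀)
    have hKU : Cfsg.IsSigmaDecomposition M ⊥ U := isSigmaDecomposition_bot hκ (hFσ ▸ hU)
    have hnot : ¬ (Cfsg.IsOfTypeIII M ∨ Cfsg.IsOfTypeIV M) := by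
      rintro (⟨W₁, U', W₂, hP, -⟩ | ⟨W₁, U', W₂, hP, -⟩)
      · exact K_ne_bot_of_isTypePWith hG hM hP hKU rfl
      · exact K_ne_bot_of_isTypePWith hG hM hP hKU rfl
    have hcore : Cfsg.typeCore M = Cfsg.fittingHallOf M := if_neg hnot
    apply core hG hM hKU hFσ
    · rw [U_sup_sigmaCore_eq hKU, Cfsg.typeA, if_pos hI, hFσ]
    · rw [Cfsg.typeA1, hcore, hFσ]
  · obtain ⟨hK1, hU₀1⟩ :=
      (Cfsg.Agent.Helper1.BG16.typeII_iff hG hM hKU₀ (h1363 K₀ U₀ hKU₀)).1 hII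
    have hFσ := Cfsg.Agent.Helper1.BG16.fittingHallOf_eq_sigmaCore hG hM hKU₀ hU₀1
    have hM' : ⁅M, M⁆ = U₀ ⊔ Cfsg.sigmaCore M :=
      (Cfsg.Agent.S1365.result hG M hM K₀ U₀ hKU₀ hK1).1
    have hU₀c := Cfsg.Agent.Helper1.BG16.U_compl hG hM hKU₀ hK1 hU₀1
    have hM'M : ⁅M, M⁆ ≤ M := Cfsg.Agent.Helper1.commutator_self_le M
    have hsolv : Group.IsSolvable ↥⁅M, M⁆ := by
      apply hG.2.2.2
      intro h
      exact hM.1 (top_le_iff.1 (h ▸ hM'M))
    have hc1 := Cfsg.Agent.Helper1.IsComplIn_card_mul hU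
    have hc2 := Cfsg.Agent.Helper1.IsComplIn_card_mul hU₀c
    have hcard : Nat.card U₀ = Nat.card U :=
      Nat.eq_of_mul_eq_mul_left Nat.card_pos (hc2.trans hc1.symm)
    have hcop : (Nat.card U).Coprime (U.relIndex ⁅M, M⁆) := by
      have h1 : (Nat.card (Cfsg.fittingHallOf M)).Coprime ((Cfsg.fittingHallOf M).relIndex M) := by
        rw [Cfsg.Agent.Helper1.card_fittingHallOf, Cfsg.Agent.Helper1.relIndex_fittingHallOf]
        exact Cfsg.Agent.Helper1.fittingHall_coprime M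
      have h2 := Cfsg.Agent.Helper1.relIndex_mul_card_of_le (Cfsg.Agent.Helper1.fittingHallOf_le M)
      have h3 := Cfsg.Agent.Helper1.relIndex_mul_card_of_le hU.2.1
      have h4 : U.relIndex ⁅M, M⁆ = Nat.card (Cfsg.fittingHallOf M) := by
        have : U.relIndex ⁅M, M⁆ * Nat.card U = Nat.card (Cfsg.fittingHallOf M) * Nat.card U := by
          rw [h3, hc1]
        exact Nat.eq_of_mul_eq_mul_right Nat.card_pos this
      have h5 : Nat.card U ∣ (Cfsg.fittingHallOf M).relIndex M := by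
        have h6 : Nat.card ↥⁅M, M⁆ ∣ Nat.card M := Subgroup.card_dvd_of_le hM'M
        rw [← hc1, ← h2, mul_comm] at h6
        exact Nat.dvd_of_mul_dvd_mul_right Nat.card_pos h6
      rw [h4]
      exact (Nat.Coprime.coprime_dvd_right h5 h1).symm
    obtain ⟨d, hd, hdU⟩ := Cfsg.Agent.Lead.NilHall.hall_conj ⁅M, M⁆ hsolv hU.2.1 hU₀c.2.1 hcard hcop
    have hdU' : U₀.map (MulAut.conj d).toMonoidHom = U := by
      rw [← hdU]; exact (Subgroup.pointwise_smul_def (a := MulAut.conj d) U₀).symm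
    have hKU : Cfsg.IsSigmaDecomposition M (K₀.map (MulAut.conj d).toMonoidHom) U :=
      hdU' ▸ isSigmaDecomposition_conj hKU₀ (hM'M hd)
    have hnotI : ¬ Cfsg.IsOfTypeI M := fun hI => hK1 (isOfTypeI_imp hG hM hKU₀ hI).1
    have hnot : ¬ (Cfsg.IsOfTypeIII M ∨ Cfsg.IsOfTypeIV M) := fun h => hU₀1
      ((Cfsg.Agent.Helper4.BG16.typeIII_or_IV_iff hG hM hKU₀ (h1363 K₀ U₀ hKU₀)).1 h).2.1
    have hcore : Cfsg.typeCore M = Cfsg.fittingHallOf M := if_neg hnot
    have hM'' : ⁅M, M⁆ = U ⊔ Cfsg.sigmaCore M := by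
      have hK1' : K₀.map (MulAut.conj d).toMonoidHom ≠ ⊥ := by
        intro h
        exact hK1 ((Subgroup.map_eq_bot_iff_of_injective _ (MulAut.conj d).injective).1 h)
      exact (Cfsg.Agent.S1365.result hG M hM _ U hKU hK1').1
    apply core hG hM hKU hFσ
    · rw [Cfsg.typeA, if_neg hnotI, hcore, hFσ, hM'']
    · rw [Cfsg.typeA1, hcore, hFσ]

/-- Let G be a minimal simple group of odd order, M a maximal subgroup and H = M_F; suppose M is of Type I and U is a complement to H in M, or M is of Type II and U is a complement to H in M'. Then every Sylow subgroup of U is abelian with no elementary abelian subgroup of order p ^ 3; for every nonempty set X of non-identity elements of U centralizing a non-identity element of H, C_G(X) ≤ M and M is the unique maximal subgroup containing C_G(X); and A(M) with A₁(M) removed is a TI-subset of G. -/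
theorem result {G : Type*} [Group G] [Finite G] (hG : Cfsg.IsMinSimpleOddOrder G)
    (M : Subgroup G) (hM : IsCoatom M) (U : Subgroup G)
    (hU : (Cfsg.IsOfTypeI M ∧ Cfsg.IsComplIn (Cfsg.fittingHallOf M) U M) ∨ (Cfsg.IsOfTypeII M ∧ Cfsg.IsComplIn (Cfsg.fittingHallOf M) U ⁅M, M⁆)) :
    (∀ (p : ℕ), p.Prime → ∀ P : Sylow p U, IsMulCommutative (P : Subgroup U) ∧ Cfsg.PRankLE p 2 (P : Subgroup U)) ∧
      (∀ X : Set G, X ⊆ (U : Set G) \ {1} → X.Nonempty → Cfsg.fittingHallOf M ⊓ Subgroup.centralizer X ≠ ⊥ →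
        Subgroup.centralizer X ≤ M ∧ ∀ L : Subgroup G, IsCoatom L → Subgroup.centralizer X ≤ L → L = M) ∧
      Cfsg.IsTISubset (Cfsg.typeA M \ Cfsg.typeA1 M) := by
  exact result_aux hG M hM U
    (fun K U hKU hK1 _ => (Cfsg.Agent.S1363.result hG M hM K U hKU hK1).2) hU


end Cfsg.Agent.S1390
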