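import Mathlib
import Cfsg.Statements.S0661
import Cfsg.Agent.Helper2.PConstrained5

set_option autoImplicit false
open Cfsg

namespace Cfsg.Agent.S0661

open Cfsg.Agent.Helper2

/-- If, modulo the largest normal subgroup of order prime to p, the largest normal p-subgroup contains its centralizer, then for every p-subgroup P the p'-core of N_G(P) is just O_p'(G) ∩ N_G(P). -/
theorem result {G : Type*} [Group G] [Finite G] {p : ℕ} [Fact p.Prime] (hc : Subgroup.centralizer (Cfsg.pCore p (G ⧸ Cfsg.pPrimeCore p G) : Set (G ⧸ Cfsg.pPrimeCore p G)) ≤ Cfsg.pCore p (G ⧸ Cfsg.pPrimeCore p G)) (P : Subgroup G) (hP : IsPGroup p P) : (Cfsg.pPrimeCore p ↥(Subgroup.normalizer (P : Set G))).map (Subgroup.normalizer (P : Set G)).subtype = Cfsg.pPrimeCore p G ⊓ Subgroup.normalizer (P : Set G) := by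
  set N := Subgroup.normalizer (P : Set G) with hN
  set O := Cfsg.pPrimeCore p G with hO
  set π := QuotientGroup.mk' O with hπ
  have hOc : (Nat.card O).Coprime p := Cfsg.Agent.Helper1.card_pPrimeCore_coprime p
  apply le_antisymm
  · apply le_inf _ (coreOf_le p N)
    have hchar : Cfsg.Agent.Helper5.HasCharP p (G ⧸ O) := hc
    have hN' : Cfsg.Agent.Helper5.HasCharP p ↥(N.map π) := by
      rw [hN, hπ, map_normalizer_eq_of_coprime p O hOc P hP]
      exact hasCharP_normalizer hchar _ (hP.map π)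
    have hbot := pPrimeCore_eq_bot_of_hasCharP p hN'
    set f := π.subgroupMap N with hf
    have hfs : Function.Surjective f := π.subgroupMap_surjective N
    have hE : (Cfsg.pPrimeCore p ↥N).map f ≤ Cfsg.pPrimeCore p ↥(N.map π) := by
      apply Cfsg.Agent.Helper1.le_pPrimeCore
      · exact (Cfsg.pPrimeCore_normal p ↥N).map f hfs
      · exact Nat.Coprime.coprime_dvd_left (Subgroup.card_map_dvd _ f)
          (Cfsg.Agent.Helper1.card_pPrimeCore_coprime p)
    rw [hbot, le_bot_iff] at hE
    rintro _ ⟨d, hd, rfl⟩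
    have h1 : f d ∈ (Cfsg.pPrimeCore p ↥N).map f := ⟨d, hd, rfl⟩
    rw [hE, Subgroup.mem_bot] at h1
    have h2 := congrArg Subtype.val h1
    rw [hf, MonoidHom.subgroupMap_apply_coe, Subgroup.coe_one, hπ, QuotientGroup.mk'_apply,
      QuotientGroup.eq_one_iff] at h2
    exact h2
  · intro x hx
    have h1 : O.subgroupOf N ≤ Cfsg.pPrimeCore p ↥N := by
      apply Cfsg.Agent.Helper1.le_pPrimeCore inferInstance
      rw [Cfsg.Agent.Helper1.card_subgroupOf]
      exact Nat.Coprime.coprime_dvd_left (Subgroup.card_dvd_of_le inf_le_left) hOc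
    exact ⟨⟨x, hx.2⟩, h1 (Subgroup.mem_subgroupOf.mpr hx.1), rfl⟩

end Cfsg.Agent.S0661
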