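import Mathlib
import Cfsg.Statements.S1137
import Cfsg.Agent.Helper3.SuzG
-- import your own Cfsg.Agent.* helpers here

set_option autoImplicit false
open Cfsg

namespace Cfsg.Agent.S1137
open Cfsg.Agent.Helper3.SuzA

/-- In a Suzuki 2-group `P` (a finite non-abelian 2-group with more than one involution admitting a cyclic group of automorphisms regular on its involutions) the involutions are exactly the non-identity central elements, and `Z(P)` is elementary abelian. -/
theorem result {P : Type*} [Group P] (hP : Cfsg.IsSuzukiTwoGroup P) :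
    (∀ x : P, (x ≠ 1 ∧ x * x = 1) ↔ (x ∈ Subgroup.center P ∧ x ≠ 1)) ∧
      ∀ z ∈ Subgroup.center P, z * z = 1 := by
  obtain ⟨hfin, hp, hna, htwo, K, hcyc, hreg⟩ := hP
  let _ : CommGroup K := IsCyclic.commGroup
  have hyp : Hyp K P := by
    refine ⟨hp, htwo, ?_⟩
    intro x y hx1 hx2 hy1 hy2
    obtain ⟨k, hk, _⟩ := hreg x y hx1 hx2 hy1 hy2
    exact ⟨k, hk⟩
  have h2 := center_exponent_two (K := K) (Nat.card P) P rfl hyp hna
  refine ⟨?_, h2⟩
  intro x
  constructor
  · rintro ⟨hx1, hx2⟩
    exact ⟨invol_central hyp hx2, hx1⟩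
  · rintro ⟨hxc, hx1⟩
    exact ⟨hx1, h2 x hxc⟩


end Cfsg.Agent.S1137
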