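import Cfsg.Statements.S1138
import Cfsg.Agent.Helper1.SuzHC
import Cfsg.Agent.Helper1.SuzHJ
-- import your own Cfsg.Agent.* helpers here

set_option autoImplicit false
open Cfsg

namespace Cfsg.Agent.S1138
open Cfsg.Agent.Helper3.SuzA Cfsg.Agent.Helper1.SuzH

/-- Let `P` be a Suzuki 2-group with `|Z(P)| = q`. Then every square lies in `Z(P)` and `P/Z(P)` is abelian (so elementary abelian), `|P| = q²` or `|P| = q³`, and `P` has exponent 4. -/
theorem result {P : Type*} [Group P] (hP : Cfsg.IsSuzukiTwoGroup P) :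
    (∀ x : P, x * x ∈ Subgroup.center P) ∧ (∀ x y : P, x⁻¹ * y⁻¹ * x * y ∈ Subgroup.center P) ∧
      (Nat.card P = Nat.card (Subgroup.center P) ^ 2 ∨ Nat.card P = Nat.card (Subgroup.center P) ^ 3) ∧
      Monoid.exponent P = 4 := by
  obtain ⟨hfin, hp, hna, htwo, K, hcyc, hreg⟩ := hP
  let _ : CommGroup K := IsCyclic.commGroup
  have h : SH K P := by
    refine ⟨⟨hp, htwo, ?_⟩, ?_, hna⟩
    · intro x y hx1 hx2 hy1 hy2
      obtain ⟨k, hk, _⟩ := hreg x y hx1 hx2 hy1 hy2
      exact ⟨k, hk⟩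
    · intro k x hx1 hx2 hkx
      obtain ⟨k0, _, huniq⟩ := hreg x x hx1 hx2 hx1 hx2
      have e1 := huniq k hkx
      have e2 := huniq 1 (one_smul K x)
      exact e1.trans e2.symm
  have htop : Z2 P = ⊤ := Z2_eq_top h hcyc
  have hmem : ∀ x : P, x ∈ Z2 P := fun x => by rw [htop]; exact Subgroup.mem_top x
  have hsq : ∀ x : P, x * x ∈ Subgroup.center P := fun x => Z2_sq h.cen2 (hmem x)
  have hcm : ∀ x y : P, cm x y ∈ Subgroup.center P := fun x y => hmem x y
  have hnc : ∃ x : P, x ∉ Subgroup.center P := by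
    obtain ⟨x, y, hxy⟩ := hna
    exact ⟨x, fun hx => hxy ((Subgroup.mem_center_iff.mp hx y).symm)⟩
  refine ⟨hsq, hcm, ?_, ?_⟩
  · have hnt : ∃ z ∈ Subgroup.center P, z ≠ 1 := by
      obtain ⟨x, _, _, hx1, hx2, _, _⟩ := htwo
      exact ⟨x, h.inv_cen x hx2, hx1⟩
    have htr : ∀ z z' : P, z ∈ Subgroup.center P → z' ∈ Subgroup.center P → z ≠ 1 → z' ≠ 1 →
        ∃ k : K, k • z = z' := fun z z' hz hz' hz1 hz'1 =>
      h.hyp.trans z z' hz1 (h.cen2 z hz) hz'1 (h.cen2 z' hz')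
    rcases count_main (K := K) hp hsq hcm h.cen2 h.inv_cen htr hnt with h1 | h1 | h1
    · exfalso
      obtain ⟨x, hx⟩ := hnc
      have : Subgroup.center P = ⊤ := Subgroup.eq_top_of_card_eq _ h1.symm
      rw [this] at hx
      exact hx (Subgroup.mem_top x)
    · exact Or.inl h1
    · exact Or.inr h1
  · have h4 : ∀ x : P, x ^ 4 = 1 := by
      intro x
      have : x ^ 4 = (x * x) * (x * x) := by
        rw [show (4 : ℕ) = 2 + 2 from rfl, pow_add, pow_two]
      rw [this]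
      exact h.cen2 _ (hsq x)
    have hdvd : Monoid.exponent P ∣ 2 ^ 2 := Monoid.exponent_dvd_of_forall_pow_eq_one h4
    obtain ⟨j, hj, hje⟩ := (Nat.dvd_prime_pow Nat.prime_two).mp hdvd
    have hn2 : ¬ Monoid.exponent P ∣ 2 := by
      intro hd
      obtain ⟨x, hx⟩ := hnc
      apply hx
      apply h.inv_cen
      have := Monoid.pow_exponent_eq_one x
      obtain ⟨m, hm⟩ := hd
      have h2 : x ^ 2 = 1 := by rw [hm, pow_mul, this, one_pow]
      rwa [pow_two] at h2
    interval_cases j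
    · exfalso; apply hn2; rw [hje]; norm_num
    · exfalso; apply hn2; rw [hje]; norm_num
    · rw [hje]; norm_num

end Cfsg.Agent.S1138
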