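import Mathlib
import Cfsg.Statements.S0289
import Cfsg.Agent.Helper7.HyperplaneCount

set_option autoImplicit false
open Cfsg

namespace Cfsg.Agent.S0289

open Matrix

/-- The hyperbolic quadratic form on F^(2m), m at least 1, has q^(2m-1) + q^m - q^(m-1) zeros (that is, (q^m - 1)(q^(m-1) + 1) non-zero isotropic vectors). -/
theorem result {F : Type*} [Field F] [Fintype F] {q : ℕ} (hF : Fintype.card F = q) (m : ℕ) (hm : 1 ≤ m) : Nat.card {v : Fin m ⊕ Fin m → F // Cfsg.quadFormPlus m F v = 0} = q ^ (2 * m - 1) + q ^ m - q ^ (m - 1) := by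
  classical
  let e : (Fin m ⊕ Fin m → F) ≃ (Unit × (Fin m → F)) × (Fin m → F) :=
    (Equiv.sumArrowEquivProdArrow _ _ _).trans
      (Equiv.prodCongr (Equiv.punitProd _).symm (Equiv.refl _))
  have h1 : Nat.card {v : Fin m ⊕ Fin m → F // Cfsg.quadFormPlus m F v = 0} =
      Nat.card {p : (Unit × (Fin m → F)) × (Fin m → F) // p.1.2 ⬝ᵥ p.2 = 0} := by
    apply Nat.card_congr
    refine Equiv.subtypeEquiv e ?_
    intro v
    rfl
  have h0 : Nat.card {p : (Unit × (Fin m → F)) × (Fin m → F) // p.1.2 ⬝ᵥ p.2 = 0} = _ :=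
    Cfsg.Agent.Helper7.Hyp.card_triples (F := F) (ι := Fin m) (fun _ : Unit => (0 : F))
  rw [h1, h0]
  have h2 : Nat.card {a : Unit // (0 : F) = 0} = 1 := by
    rw [Nat.card_eq_fintype_card, Fintype.card_subtype]
    simp
  rw [h2, Fintype.card_unit, Fintype.card_fin, hF, one_mul, one_mul]
  obtain ⟨k, rfl⟩ : ∃ k, m = k + 1 := ⟨m - 1, by omega⟩
  have hq : 1 ≤ q := by rw [← hF]; exact Fintype.card_pos
  have e1 : 2 * (k + 1) - 1 = 2 * k + 1 := by omega
  rw [e1, Nat.add_sub_cancel, Nat.sub_mul, one_mul]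
  have e2 : q ^ (k + 1) * q ^ k = q ^ (2 * k + 1) := by rw [← pow_add]; congr 1; omega
  rw [e2]
  have h3 : q ^ k ≤ q ^ (2 * k + 1) := Nat.pow_le_pow_right hq (by omega)
  omega

end Cfsg.Agent.S0289
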