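import Mathlib
import Cfsg.Statements.S0290
import Cfsg.Agent.Helper7.HyperplaneCount

set_option autoImplicit false
open Cfsg

namespace Cfsg.Agent.S0290

open Matrix

/-- Splitting a vector into its three parts. -/
def splitEquiv (k : ℕ) (F : Type*) :
    ((Fin k ⊕ Fin k) ⊕ Fin 2 → F) ≃ ((Fin 2 → F) × (Fin k → F)) × (Fin k → F) where
  toFun v := ((fun j => v (Sum.inr j), fun i => v (Sum.inl (Sum.inl i))),
    fun i => v (Sum.inl (Sum.inr i)))
  invFun p := Sum.elim (Sum.elim p.1.2 p.2) p.1.1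
  left_inv v := by
    ext k
    rcases k with (i | i) | j
    · rfl
    · rfl
    · rfl
  right_inv p := rfl

/-- The minus-type quadratic form on F^(2m), m at least 1, has q^(2m-1) + q^(m-1) - q^m zeros (that is, (q^m + 1)(q^(m-1) - 1) non-zero isotropic vectors). -/
theorem result {F : Type*} [Field F] [Fintype F] {q : ℕ} (hF : Fintype.card F = q) (m : ℕ) (hm : 1 ≤ m) (a b : F) (hab : ∀ z₁ z₂ : F, z₁ ^ 2 + a * z₁ * z₂ + b * z₂ ^ 2 = 0 → z₁ = 0 ∧ z₂ = 0) : Nat.card {v : (Fin (m - 1) ⊕ Fin (m - 1)) ⊕ Fin 2 → F // Cfsg.quadFormMinus (m - 1) F a b v = 0} = q ^ (2 * m - 1) + q ^ (m - 1) - q ^ m := by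
  classical
  obtain ⟨k, rfl⟩ : ∃ k, m = k + 1 := ⟨m - 1, by omega⟩
  rw [Nat.add_sub_cancel]
  have h1 : Nat.card {v : (Fin k ⊕ Fin k) ⊕ Fin 2 → F // Cfsg.quadFormMinus k F a b v = 0} =
      Nat.card {p : ((Fin 2 → F) × (Fin k → F)) × (Fin k → F) //
        p.1.2 ⬝ᵥ p.2 = -(p.1.1 0 ^ 2 + a * p.1.1 0 * p.1.1 1 + b * p.1.1 1 ^ 2)} := by
    apply Nat.card_congr
    refine Equiv.subtypeEquiv (splitEquiv k F) ?_
    intro v
    unfold Cfsg.quadFormMinus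
    change _ ↔ (∑ i, v (Sum.inl (Sum.inl i)) * v (Sum.inl (Sum.inr i))) =
      -(v (Sum.inr 0) ^ 2 + a * v (Sum.inr 0) * v (Sum.inr 1) + b * v (Sum.inr 1) ^ 2)
    constructor
    · intro h; linear_combination h
    · intro h; linear_combination h
  have h0 : Nat.card {p : ((Fin 2 → F) × (Fin k → F)) × (Fin k → F) //
        p.1.2 ⬝ᵥ p.2 = -(p.1.1 0 ^ 2 + a * p.1.1 0 * p.1.1 1 + b * p.1.1 1 ^ 2)} = _ :=
    Cfsg.Agent.Helper7.Hyp.card_triples (F := F) (ι := Fin k)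
      (fun z : Fin 2 → F => -(z 0 ^ 2 + a * z 0 * z 1 + b * z 1 ^ 2))
  rw [h1, h0]
  have h2 : Nat.card {z : Fin 2 → F // -(z 0 ^ 2 + a * z 0 * z 1 + b * z 1 ^ 2) = 0} = 1 := by
    have : ∀ z : Fin 2 → F, -(z 0 ^ 2 + a * z 0 * z 1 + b * z 1 ^ 2) = 0 ↔ z = 0 := by
      intro z
      rw [neg_eq_zero]
      constructor
      · intro h
        obtain ⟨h0, h1⟩ := hab _ _ h
        ext j
        fin_cases j
        · exact h0
        · exact h1
      · rintro rfl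
        simp
    simp_rw [this]
    rw [Nat.card_eq_fintype_card, Fintype.card_subtype_eq]
  rw [h2, Fintype.card_fin, Fintype.card_fun, Fintype.card_fin, hF, one_mul]
  have hq : 1 ≤ q := by rw [← hF]; exact Fintype.card_pos
  rcases Nat.eq_zero_or_pos k with rfl | hk
  · simp
  obtain ⟨j, rfl⟩ : ∃ j, k = j + 1 := ⟨k - 1, by omega⟩
  rw [Nat.add_sub_cancel, Nat.sub_mul, one_mul, Nat.mul_sub]
  have e1 : 2 * (j + 1 + 1) - 1 = 2 * j + 3 := by omega
  have e2 : q ^ 2 * (q ^ (j + 1) * q ^ j) = q ^ (2 * j + 3) := by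
    rw [← pow_add, ← pow_add]; congr 1; omega
  have e3 : q ^ 2 * q ^ j = q ^ (j + 1 + 1) := by rw [← pow_add]; congr 1; omega
  rw [e1, e2, e3]
  have h3 : q ^ (j + 1 + 1) ≤ q ^ (2 * j + 3) := Nat.pow_le_pow_right hq (by omega)
  omega

end Cfsg.Agent.S0290
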