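import Mathlib
import Cfsg.Statements.S0493
import Cfsg.Agent.Helper2.SimpleSmall

set_option autoImplicit false
open Cfsg

namespace Cfsg.Agent.S0493

open Cfsg.Agent.Helper2

/-- A finite simple group of order at most 100 that is not cyclic has order 60. -/
theorem result {G : Type*} [Group G] [Finite G] [IsSimpleGroup G]
    (hG : ¬ IsCyclic G) (h : Nat.card G ≤ 100) : Nat.card G = 60 := by
    by_contra hne
    obtain ⟨n, hn⟩ : ∃ n, Nat.card G = n := ⟨_, rfl⟩
    rw [hn] at h hne
    have hn1 : 1 < n := by rw [← hn]; exact Finite.one_lt_card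
    interval_cases n
    · exact hG (SimpleSmall.isCyclic_of_prime_pow 2 1 (by norm_num) (by rw [hn]; norm_num))
    · exact hG (SimpleSmall.isCyclic_of_prime_pow 3 1 (by norm_num) (by rw [hn]; norm_num))
    · exact hG (SimpleSmall.isCyclic_of_prime_pow 2 2 (by norm_num) (by rw [hn]; norm_num))
    · exact hG (SimpleSmall.isCyclic_of_prime_pow 5 1 (by norm_num) (by rw [hn]; norm_num))
    · obtain ⟨d, h1, h2, h3, h4, h5⟩ := SimpleSmall.sylow_count (G := G) 3 1 2 (by norm_num) (by rw [hn]; norm_num) (by norm_num) (by norm_num) (by norm_num)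
      have hd : d ≤ 2 := Nat.le_of_dvd (by norm_num) h1
      interval_cases d <;> revert h1 h2 h3 h4 h5 <;> decide
    · exact hG (SimpleSmall.isCyclic_of_prime_pow 7 1 (by norm_num) (by rw [hn]; norm_num))
    · exact hG (SimpleSmall.isCyclic_of_prime_pow 2 3 (by norm_num) (by rw [hn]; norm_num))
    · exact hG (SimpleSmall.isCyclic_of_prime_pow 3 2 (by norm_num) (by rw [hn]; norm_num))
    · obtain ⟨d, h1, h2, h3, h4, h5⟩ := SimpleSmall.sylow_count (G := G) 5 1 2 (by norm_num) (by rw [hn]; norm_num) (by norm_num) (by norm_num) (by norm_num)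
      have hd : d ≤ 2 := Nat.le_of_dvd (by norm_num) h1
      interval_cases d <;> revert h1 h2 h3 h4 h5 <;> decide
    · exact hG (SimpleSmall.isCyclic_of_prime_pow 11 1 (by norm_num) (by rw [hn]; norm_num))
    · obtain ⟨d, h1, h2, h3, h4, h5⟩ := SimpleSmall.sylow_count (G := G) 2 2 3 (by norm_num) (by rw [hn]; norm_num) (by norm_num) (by norm_num) (by norm_num)
      have hd : d ≤ 3 := Nat.le_of_dvd (by norm_num) h1
      interval_cases d <;> revert h1 h2 h3 h4 h5 <;> decide
    · exact hG (SimpleSmall.isCyclic_of_prime_pow 13 1 (by norm_num) (by rw [hn]; norm_num))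
    · obtain ⟨d, h1, h2, h3, h4, h5⟩ := SimpleSmall.sylow_count (G := G) 7 1 2 (by norm_num) (by rw [hn]; norm_num) (by norm_num) (by norm_num) (by norm_num)
      have hd : d ≤ 2 := Nat.le_of_dvd (by norm_num) h1
      interval_cases d <;> revert h1 h2 h3 h4 h5 <;> decide
    · obtain ⟨d, h1, h2, h3, h4, h5⟩ := SimpleSmall.sylow_count (G := G) 5 1 3 (by norm_num) (by rw [hn]; norm_num) (by norm_num) (by norm_num) (by norm_num)
      have hd : d ≤ 3 := Nat.le_of_dvd (by norm_num) h1
      interval_cases d <;> revert h1 h2 h3 h4 h5 <;> decide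
    · exact hG (SimpleSmall.isCyclic_of_prime_pow 2 4 (by norm_num) (by rw [hn]; norm_num))
    · exact hG (SimpleSmall.isCyclic_of_prime_pow 17 1 (by norm_num) (by rw [hn]; norm_num))
    · obtain ⟨d, h1, h2, h3, h4, h5⟩ := SimpleSmall.sylow_count (G := G) 3 2 2 (by norm_num) (by rw [hn]; norm_num) (by norm_num) (by norm_num) (by norm_num)
      have hd : d ≤ 2 := Nat.le_of_dvd (by norm_num) h1
      interval_cases d <;> revert h1 h2 h3 h4 h5 <;> decide
    · exact hG (SimpleSmall.isCyclic_of_prime_pow 19 1 (by norm_num) (by rw [hn]; norm_num))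
    · obtain ⟨d, h1, h2, h3, h4, h5⟩ := SimpleSmall.sylow_count (G := G) 5 1 4 (by norm_num) (by rw [hn]; norm_num) (by norm_num) (by norm_num) (by norm_num)
      have hd : d ≤ 4 := Nat.le_of_dvd (by norm_num) h1
      interval_cases d <;> revert h1 h2 h3 h4 h5 <;> decide
    · obtain ⟨d, h1, h2, h3, h4, h5⟩ := SimpleSmall.sylow_count (G := G) 7 1 3 (by norm_num) (by rw [hn]; norm_num) (by norm_num) (by norm_num) (by norm_num)
      have hd : d ≤ 3 := Nat.le_of_dvd (by norm_num) h1
      interval_cases d <;> revert h1 h2 h3 h4 h5 <;> decide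
    · obtain ⟨d, h1, h2, h3, h4, h5⟩ := SimpleSmall.sylow_count (G := G) 11 1 2 (by norm_num) (by rw [hn]; norm_num) (by norm_num) (by norm_num) (by norm_num)
      have hd : d ≤ 2 := Nat.le_of_dvd (by norm_num) h1
      interval_cases d <;> revert h1 h2 h3 h4 h5 <;> decide
    · exact hG (SimpleSmall.isCyclic_of_prime_pow 23 1 (by norm_num) (by rw [hn]; norm_num))
    · obtain ⟨d, h1, h2, h3, h4, h5⟩ := SimpleSmall.sylow_count (G := G) 2 3 3 (by norm_num) (by rw [hn]; norm_num) (by norm_num) (by norm_num) (by norm_num)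
      have hd : d ≤ 3 := Nat.le_of_dvd (by norm_num) h1
      interval_cases d <;> revert h1 h2 h3 h4 h5 <;> decide
    · exact hG (SimpleSmall.isCyclic_of_prime_pow 5 2 (by norm_num) (by rw [hn]; norm_num))
    · obtain ⟨d, h1, h2, h3, h4, h5⟩ := SimpleSmall.sylow_count (G := G) 13 1 2 (by norm_num) (by rw [hn]; norm_num) (by norm_num) (by norm_num) (by norm_num)
      have hd : d ≤ 2 := Nat.le_of_dvd (by norm_num) h1
      interval_cases d <;> revert h1 h2 h3 h4 h5 <;> decide
    · exact hG (SimpleSmall.isCyclic_of_prime_pow 3 3 (by norm_num) (by rw [hn]; norm_num))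
    · obtain ⟨d, h1, h2, h3, h4, h5⟩ := SimpleSmall.sylow_count (G := G) 7 1 4 (by norm_num) (by rw [hn]; norm_num) (by norm_num) (by norm_num) (by norm_num)
      have hd : d ≤ 4 := Nat.le_of_dvd (by norm_num) h1
      interval_cases d <;> revert h1 h2 h3 h4 h5 <;> decide
    · exact hG (SimpleSmall.isCyclic_of_prime_pow 29 1 (by norm_num) (by rw [hn]; norm_num))
    · obtain ⟨d, h1, h2, h3, h4, h5⟩ := SimpleSmall.sylow_count (G := G) 5 1 6 (by norm_num) (by rw [hn]; norm_num) (by norm_num) (by norm_num) (by norm_num)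
      have hd : d ≤ 6 := Nat.le_of_dvd (by norm_num) h1
      interval_cases d <;> revert h1 h2 h3 h4 h5 <;> decide
    · exact hG (SimpleSmall.isCyclic_of_prime_pow 31 1 (by norm_num) (by rw [hn]; norm_num))
    · exact hG (SimpleSmall.isCyclic_of_prime_pow 2 5 (by norm_num) (by rw [hn]; norm_num))
    · obtain ⟨d, h1, h2, h3, h4, h5⟩ := SimpleSmall.sylow_count (G := G) 11 1 3 (by norm_num) (by rw [hn]; norm_num) (by norm_num) (by norm_num) (by norm_num)
      have hd : d ≤ 3 := Nat.le_of_dvd (by norm_num) h1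
      interval_cases d <;> revert h1 h2 h3 h4 h5 <;> decide
    · obtain ⟨d, h1, h2, h3, h4, h5⟩ := SimpleSmall.sylow_count (G := G) 17 1 2 (by norm_num) (by rw [hn]; norm_num) (by norm_num) (by norm_num) (by norm_num)
      have hd : d ≤ 2 := Nat.le_of_dvd (by norm_num) h1
      interval_cases d <;> revert h1 h2 h3 h4 h5 <;> decide
    · obtain ⟨d, h1, h2, h3, h4, h5⟩ := SimpleSmall.sylow_count (G := G) 7 1 5 (by norm_num) (by rw [hn]; norm_num) (by norm_num) (by norm_num) (by norm_num)
      have hd : d ≤ 5 := Nat.le_of_dvd (by norm_num) h1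
      interval_cases d <;> revert h1 h2 h3 h4 h5 <;> decide
    · obtain ⟨d, h1, h2, h3, h4, h5⟩ := SimpleSmall.sylow_count (G := G) 3 2 4 (by norm_num) (by rw [hn]; norm_num) (by norm_num) (by norm_num) (by norm_num)
      have hd : d ≤ 4 := Nat.le_of_dvd (by norm_num) h1
      interval_cases d <;> revert h1 h2 h3 h4 h5 <;> decide
    · exact hG (SimpleSmall.isCyclic_of_prime_pow 37 1 (by norm_num) (by rw [hn]; norm_num))
    · obtain ⟨d, h1, h2, h3, h4, h5⟩ := SimpleSmall.sylow_count (G := G) 19 1 2 (by norm_num) (by rw [hn]; norm_num) (by norm_num) (by norm_num) (by norm_num)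
      have hd : d ≤ 2 := Nat.le_of_dvd (by norm_num) h1
      interval_cases d <;> revert h1 h2 h3 h4 h5 <;> decide
    · obtain ⟨d, h1, h2, h3, h4, h5⟩ := SimpleSmall.sylow_count (G := G) 13 1 3 (by norm_num) (by rw [hn]; norm_num) (by norm_num) (by norm_num) (by norm_num)
      have hd : d ≤ 3 := Nat.le_of_dvd (by norm_num) h1
      interval_cases d <;> revert h1 h2 h3 h4 h5 <;> decide
    · obtain ⟨d, h1, h2, h3, h4, h5⟩ := SimpleSmall.sylow_count (G := G) 5 1 8 (by norm_num) (by rw [hn]; norm_num) (by norm_num) (by norm_num) (by norm_num)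
      have hd : d ≤ 8 := Nat.le_of_dvd (by norm_num) h1
      interval_cases d <;> revert h1 h2 h3 h4 h5 <;> decide
    · exact hG (SimpleSmall.isCyclic_of_prime_pow 41 1 (by norm_num) (by rw [hn]; norm_num))
    · obtain ⟨d, h1, h2, h3, h4, h5⟩ := SimpleSmall.sylow_count (G := G) 7 1 6 (by norm_num) (by rw [hn]; norm_num) (by norm_num) (by norm_num) (by norm_num)
      have hd : d ≤ 6 := Nat.le_of_dvd (by norm_num) h1
      interval_cases d <;> revert h1 h2 h3 h4 h5 <;> decide
    · exact hG (SimpleSmall.isCyclic_of_prime_pow 43 1 (by norm_num) (by rw [hn]; norm_num))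
    · obtain ⟨d, h1, h2, h3, h4, h5⟩ := SimpleSmall.sylow_count (G := G) 11 1 4 (by norm_num) (by rw [hn]; norm_num) (by norm_num) (by norm_num) (by norm_num)
      have hd : d ≤ 4 := Nat.le_of_dvd (by norm_num) h1
      interval_cases d <;> revert h1 h2 h3 h4 h5 <;> decide
    · obtain ⟨d, h1, h2, h3, h4, h5⟩ := SimpleSmall.sylow_count (G := G) 3 2 5 (by norm_num) (by rw [hn]; norm_num) (by norm_num) (by norm_num) (by norm_num)
      have hd : d ≤ 5 := Nat.le_of_dvd (by norm_num) h1
      interval_cases d <;> revert h1 h2 h3 h4 h5 <;> decide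
    · obtain ⟨d, h1, h2, h3, h4, h5⟩ := SimpleSmall.sylow_count (G := G) 23 1 2 (by norm_num) (by rw [hn]; norm_num) (by norm_num) (by norm_num) (by norm_num)
      have hd : d ≤ 2 := Nat.le_of_dvd (by norm_num) h1
      interval_cases d <;> revert h1 h2 h3 h4 h5 <;> decide
    · exact hG (SimpleSmall.isCyclic_of_prime_pow 47 1 (by norm_num) (by rw [hn]; norm_num))
    · obtain ⟨d, h1, h2, h3, h4, h5⟩ := SimpleSmall.sylow_count (G := G) 2 4 3 (by norm_num) (by rw [hn]; norm_num) (by norm_num) (by norm_num) (by norm_num)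
      have hd : d ≤ 3 := Nat.le_of_dvd (by norm_num) h1
      interval_cases d <;> revert h1 h2 h3 h4 h5 <;> decide
    · exact hG (SimpleSmall.isCyclic_of_prime_pow 7 2 (by norm_num) (by rw [hn]; norm_num))
    · obtain ⟨d, h1, h2, h3, h4, h5⟩ := SimpleSmall.sylow_count (G := G) 5 2 2 (by norm_num) (by rw [hn]; norm_num) (by norm_num) (by norm_num) (by norm_num)
      have hd : d ≤ 2 := Nat.le_of_dvd (by norm_num) h1
      interval_cases d <;> revert h1 h2 h3 h4 h5 <;> decide
    · obtain ⟨d, h1, h2, h3, h4, h5⟩ := SimpleSmall.sylow_count (G := G) 17 1 3 (by norm_num) (by rw [hn]; norm_num) (by norm_num) (by norm_num) (by norm_num)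
      have hd : d ≤ 3 := Nat.le_of_dvd (by norm_num) h1
      interval_cases d <;> revert h1 h2 h3 h4 h5 <;> decide
    · obtain ⟨d, h1, h2, h3, h4, h5⟩ := SimpleSmall.sylow_count (G := G) 13 1 4 (by norm_num) (by rw [hn]; norm_num) (by norm_num) (by norm_num) (by norm_num)
      have hd : d ≤ 4 := Nat.le_of_dvd (by norm_num) h1
      interval_cases d <;> revert h1 h2 h3 h4 h5 <;> decide
    · exact hG (SimpleSmall.isCyclic_of_prime_pow 53 1 (by norm_num) (by rw [hn]; norm_num))
    · obtain ⟨d, h1, h2, h3, h4, h5⟩ := SimpleSmall.sylow_count (G := G) 3 3 2 (by norm_num) (by rw [hn]; norm_num) (by norm_num) (by norm_num) (by norm_num)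
      have hd : d ≤ 2 := Nat.le_of_dvd (by norm_num) h1
      interval_cases d <;> revert h1 h2 h3 h4 h5 <;> decide
    · obtain ⟨d, h1, h2, h3, h4, h5⟩ := SimpleSmall.sylow_count (G := G) 11 1 5 (by norm_num) (by rw [hn]; norm_num) (by norm_num) (by norm_num) (by norm_num)
      have hd : d ≤ 5 := Nat.le_of_dvd (by norm_num) h1
      interval_cases d <;> revert h1 h2 h3 h4 h5 <;> decide
    · obtain ⟨d, h1, h2, h3, h4, h5⟩ := SimpleSmall.sylow_count (G := G) 7 1 8 (by norm_num) (by rw [hn]; norm_num) (by norm_num) (by norm_num) (by norm_num)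
      have hd : d ≤ 8 := Nat.le_of_dvd (by norm_num) h1
      interval_cases d <;> revert h1 h2 h3 h4 h5 <;> decide
    · obtain ⟨d, h1, h2, h3, h4, h5⟩ := SimpleSmall.sylow_count (G := G) 19 1 3 (by norm_num) (by rw [hn]; norm_num) (by norm_num) (by norm_num) (by norm_num)
      have hd : d ≤ 3 := Nat.le_of_dvd (by norm_num) h1
      interval_cases d <;> revert h1 h2 h3 h4 h5 <;> decide
    · obtain ⟨d, h1, h2, h3, h4, h5⟩ := SimpleSmall.sylow_count (G := G) 29 1 2 (by norm_num) (by rw [hn]; norm_num) (by norm_num) (by norm_num) (by norm_num)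
      have hd : d ≤ 2 := Nat.le_of_dvd (by norm_num) h1
      interval_cases d <;> revert h1 h2 h3 h4 h5 <;> decide
    · exact hG (SimpleSmall.isCyclic_of_prime_pow 59 1 (by norm_num) (by rw [hn]; norm_num))
    · exact hne rfl
    · exact hG (SimpleSmall.isCyclic_of_prime_pow 61 1 (by norm_num) (by rw [hn]; norm_num))
    · obtain ⟨d, h1, h2, h3, h4, h5⟩ := SimpleSmall.sylow_count (G := G) 31 1 2 (by norm_num) (by rw [hn]; norm_num) (by norm_num) (by norm_num) (by norm_num)
      have hd : d ≤ 2 := Nat.le_of_dvd (by norm_num) h1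
      interval_cases d <;> revert h1 h2 h3 h4 h5 <;> decide
    · obtain ⟨d, h1, h2, h3, h4, h5⟩ := SimpleSmall.sylow_count (G := G) 7 1 9 (by norm_num) (by rw [hn]; norm_num) (by norm_num) (by norm_num) (by norm_num)
      have hd : d ≤ 9 := Nat.le_of_dvd (by norm_num) h1
      interval_cases d <;> revert h1 h2 h3 h4 h5 <;> decide
    · exact hG (SimpleSmall.isCyclic_of_prime_pow 2 6 (by norm_num) (by rw [hn]; norm_num))
    · obtain ⟨d, h1, h2, h3, h4, h5⟩ := SimpleSmall.sylow_count (G := G) 13 1 5 (by norm_num) (by rw [hn]; norm_num) (by norm_num) (by norm_num) (by norm_num)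
      have hd : d ≤ 5 := Nat.le_of_dvd (by norm_num) h1
      interval_cases d <;> revert h1 h2 h3 h4 h5 <;> decide
    · obtain ⟨d, h1, h2, h3, h4, h5⟩ := SimpleSmall.sylow_count (G := G) 11 1 6 (by norm_num) (by rw [hn]; norm_num) (by norm_num) (by norm_num) (by norm_num)
      have hd : d ≤ 6 := Nat.le_of_dvd (by norm_num) h1
      interval_cases d <;> revert h1 h2 h3 h4 h5 <;> decide
    · exact hG (SimpleSmall.isCyclic_of_prime_pow 67 1 (by norm_num) (by rw [hn]; norm_num))
    · obtain ⟨d, h1, h2, h3, h4, h5⟩ := SimpleSmall.sylow_count (G := G) 17 1 4 (by norm_num) (by rw [hn]; norm_num) (by norm_num) (by norm_num) (by norm_num)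
      have hd : d ≤ 4 := Nat.le_of_dvd (by norm_num) h1
      interval_cases d <;> revert h1 h2 h3 h4 h5 <;> decide
    · obtain ⟨d, h1, h2, h3, h4, h5⟩ := SimpleSmall.sylow_count (G := G) 23 1 3 (by norm_num) (by rw [hn]; norm_num) (by norm_num) (by norm_num) (by norm_num)
      have hd : d ≤ 3 := Nat.le_of_dvd (by norm_num) h1
      interval_cases d <;> revert h1 h2 h3 h4 h5 <;> decide
    · obtain ⟨d, h1, h2, h3, h4, h5⟩ := SimpleSmall.sylow_count (G := G) 7 1 10 (by norm_num) (by rw [hn]; norm_num) (by norm_num) (by norm_num) (by norm_num)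
      have hd : d ≤ 10 := Nat.le_of_dvd (by norm_num) h1
      interval_cases d <;> revert h1 h2 h3 h4 h5 <;> decide
    · exact hG (SimpleSmall.isCyclic_of_prime_pow 71 1 (by norm_num) (by rw [hn]; norm_num))
    · obtain ⟨d, h1, h2, h3, h4, h5⟩ := SimpleSmall.sylow_count (G := G) 3 2 8 (by norm_num) (by rw [hn]; norm_num) (by norm_num) (by norm_num) (by norm_num)
      have hd : d ≤ 8 := Nat.le_of_dvd (by norm_num) h1
      interval_cases d <;> revert h1 h2 h3 h4 h5 <;> decide
    · exact hG (SimpleSmall.isCyclic_of_prime_pow 73 1 (by norm_num) (by rw [hn]; norm_num))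
    · obtain ⟨d, h1, h2, h3, h4, h5⟩ := SimpleSmall.sylow_count (G := G) 37 1 2 (by norm_num) (by rw [hn]; norm_num) (by norm_num) (by norm_num) (by norm_num)
      have hd : d ≤ 2 := Nat.le_of_dvd (by norm_num) h1
      interval_cases d <;> revert h1 h2 h3 h4 h5 <;> decide
    · obtain ⟨d, h1, h2, h3, h4, h5⟩ := SimpleSmall.sylow_count (G := G) 5 2 3 (by norm_num) (by rw [hn]; norm_num) (by norm_num) (by norm_num) (by norm_num)
      have hd : d ≤ 3 := Nat.le_of_dvd (by norm_num) h1
      interval_cases d <;> revert h1 h2 h3 h4 h5 <;> decide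
    · obtain ⟨d, h1, h2, h3, h4, h5⟩ := SimpleSmall.sylow_count (G := G) 19 1 4 (by norm_num) (by rw [hn]; norm_num) (by norm_num) (by norm_num) (by norm_num)
      have hd : d ≤ 4 := Nat.le_of_dvd (by norm_num) h1
      interval_cases d <;> revert h1 h2 h3 h4 h5 <;> decide
    · obtain ⟨d, h1, h2, h3, h4, h5⟩ := SimpleSmall.sylow_count (G := G) 11 1 7 (by norm_num) (by rw [hn]; norm_num) (by norm_num) (by norm_num) (by norm_num)
      have hd : d ≤ 7 := Nat.le_of_dvd (by norm_num) h1
      interval_cases d <;> revert h1 h2 h3 h4 h5 <;> decide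
    · obtain ⟨d, h1, h2, h3, h4, h5⟩ := SimpleSmall.sylow_count (G := G) 13 1 6 (by norm_num) (by rw [hn]; norm_num) (by norm_num) (by norm_num) (by norm_num)
      have hd : d ≤ 6 := Nat.le_of_dvd (by norm_num) h1
      interval_cases d <;> revert h1 h2 h3 h4 h5 <;> decide
    · exact hG (SimpleSmall.isCyclic_of_prime_pow 79 1 (by norm_num) (by rw [hn]; norm_num))
    · obtain ⟨d, h1, h2, h3, h4, h5⟩ := SimpleSmall.sylow_count (G := G) 2 4 5 (by norm_num) (by rw [hn]; norm_num) (by norm_num) (by norm_num) (by norm_num)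
      have hd : d ≤ 5 := Nat.le_of_dvd (by norm_num) h1
      interval_cases d <;> revert h1 h2 h3 h4 h5 <;> decide
    · exact hG (SimpleSmall.isCyclic_of_prime_pow 3 4 (by norm_num) (by rw [hn]; norm_num))
    · obtain ⟨d, h1, h2, h3, h4, h5⟩ := SimpleSmall.sylow_count (G := G) 41 1 2 (by norm_num) (by rw [hn]; norm_num) (by norm_num) (by norm_num) (by norm_num)
      have hd : d ≤ 2 := Nat.le_of_dvd (by norm_num) h1
      interval_cases d <;> revert h1 h2 h3 h4 h5 <;> decide
    · exact hG (SimpleSmall.isCyclic_of_prime_pow 83 1 (by norm_num) (by rw [hn]; norm_num))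
    · obtain ⟨d, h1, h2, h3, h4, h5⟩ := SimpleSmall.sylow_count (G := G) 7 1 12 (by norm_num) (by rw [hn]; norm_num) (by norm_num) (by norm_num) (by norm_num)
      have hd : d ≤ 12 := Nat.le_of_dvd (by norm_num) h1
      interval_cases d <;> revert h1 h2 h3 h4 h5 <;> decide
    · obtain ⟨d, h1, h2, h3, h4, h5⟩ := SimpleSmall.sylow_count (G := G) 17 1 5 (by norm_num) (by rw [hn]; norm_num) (by norm_num) (by norm_num) (by norm_num)
      have hd : d ≤ 5 := Nat.le_of_dvd (by norm_num) h1
      interval_cases d <;> revert h1 h2 h3 h4 h5 <;> decide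
    · obtain ⟨d, h1, h2, h3, h4, h5⟩ := SimpleSmall.sylow_count (G := G) 43 1 2 (by norm_num) (by rw [hn]; norm_num) (by norm_num) (by norm_num) (by norm_num)
      have hd : d ≤ 2 := Nat.le_of_dvd (by norm_num) h1
      interval_cases d <;> revert h1 h2 h3 h4 h5 <;> decide
    · obtain ⟨d, h1, h2, h3, h4, h5⟩ := SimpleSmall.sylow_count (G := G) 29 1 3 (by norm_num) (by rw [hn]; norm_num) (by norm_num) (by norm_num) (by norm_num)
      have hd : d ≤ 3 := Nat.le_of_dvd (by norm_num) h1
      interval_cases d <;> revert h1 h2 h3 h4 h5 <;> decide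
    · obtain ⟨d, h1, h2, h3, h4, h5⟩ := SimpleSmall.sylow_count (G := G) 11 1 8 (by norm_num) (by rw [hn]; norm_num) (by norm_num) (by norm_num) (by norm_num)
      have hd : d ≤ 8 := Nat.le_of_dvd (by norm_num) h1
      interval_cases d <;> revert h1 h2 h3 h4 h5 <;> decide
    · exact hG (SimpleSmall.isCyclic_of_prime_pow 89 1 (by norm_num) (by rw [hn]; norm_num))
    · obtain ⟨d, h1, h2, h3, h4, h5⟩ := SimpleSmall.sylow_count (G := G) 5 1 18 (by norm_num) (by rw [hn]; norm_num) (by norm_num) (by norm_num) (by norm_num)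
      have hd : d ≤ 18 := Nat.le_of_dvd (by norm_num) h1
      interval_cases d <;> revert h1 h2 h3 h4 h5 <;> decide
    · obtain ⟨d, h1, h2, h3, h4, h5⟩ := SimpleSmall.sylow_count (G := G) 13 1 7 (by norm_num) (by rw [hn]; norm_num) (by norm_num) (by norm_num) (by norm_num)
      have hd : d ≤ 7 := Nat.le_of_dvd (by norm_num) h1
      interval_cases d <;> revert h1 h2 h3 h4 h5 <;> decide
    · obtain ⟨d, h1, h2, h3, h4, h5⟩ := SimpleSmall.sylow_count (G := G) 23 1 4 (by norm_num) (by rw [hn]; norm_num) (by norm_num) (by norm_num) (by norm_num)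
      have hd : d ≤ 4 := Nat.le_of_dvd (by norm_num) h1
      interval_cases d <;> revert h1 h2 h3 h4 h5 <;> decide
    · obtain ⟨d, h1, h2, h3, h4, h5⟩ := SimpleSmall.sylow_count (G := G) 31 1 3 (by norm_num) (by rw [hn]; norm_num) (by norm_num) (by norm_num) (by norm_num)
      have hd : d ≤ 3 := Nat.le_of_dvd (by norm_num) h1
      interval_cases d <;> revert h1 h2 h3 h4 h5 <;> decide
    · obtain ⟨d, h1, h2, h3, h4, h5⟩ := SimpleSmall.sylow_count (G := G) 47 1 2 (by norm_num) (by rw [hn]; norm_num) (by norm_num) (by norm_num) (by norm_num)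
      have hd : d ≤ 2 := Nat.le_of_dvd (by norm_num) h1
      interval_cases d <;> revert h1 h2 h3 h4 h5 <;> decide
    · obtain ⟨d, h1, h2, h3, h4, h5⟩ := SimpleSmall.sylow_count (G := G) 19 1 5 (by norm_num) (by rw [hn]; norm_num) (by norm_num) (by norm_num) (by norm_num)
      have hd : d ≤ 5 := Nat.le_of_dvd (by norm_num) h1
      interval_cases d <;> revert h1 h2 h3 h4 h5 <;> decide
    · obtain ⟨d, h1, h2, h3, h4, h5⟩ := SimpleSmall.sylow_count (G := G) 2 5 3 (by norm_num) (by rw [hn]; norm_num) (by norm_num) (by norm_num) (by norm_num)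
      have hd : d ≤ 3 := Nat.le_of_dvd (by norm_num) h1
      interval_cases d <;> revert h1 h2 h3 h4 h5 <;> decide
    · exact hG (SimpleSmall.isCyclic_of_prime_pow 97 1 (by norm_num) (by rw [hn]; norm_num))
    · obtain ⟨d, h1, h2, h3, h4, h5⟩ := SimpleSmall.sylow_count (G := G) 7 2 2 (by norm_num) (by rw [hn]; norm_num) (by norm_num) (by norm_num) (by norm_num)
      have hd : d ≤ 2 := Nat.le_of_dvd (by norm_num) h1
      interval_cases d <;> revert h1 h2 h3 h4 h5 <;> decide
    · obtain ⟨d, h1, h2, h3, h4, h5⟩ := SimpleSmall.sylow_count (G := G) 11 1 9 (by norm_num) (by rw [hn]; norm_num) (by norm_num) (by norm_num) (by norm_num)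
      have hd : d ≤ 9 := Nat.le_of_dvd (by norm_num) h1
      interval_cases d <;> revert h1 h2 h3 h4 h5 <;> decide
    · obtain ⟨d, h1, h2, h3, h4, h5⟩ := SimpleSmall.sylow_count (G := G) 5 2 4 (by norm_num) (by rw [hn]; norm_num) (by norm_num) (by norm_num) (by norm_num)
      have hd : d ≤ 4 := Nat.le_of_dvd (by norm_num) h1
      interval_cases d <;> revert h1 h2 h3 h4 h5 <;> decide

end Cfsg.Agent.S0493
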