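import Mathlib
import Cfsg.Statements.S3378
import Cfsg.Statements.S3378
import Cfsg.Agent.Helper3.SL25Pres
import Cfsg.Agent.S3377
import Cfsg.Agent.S0493
import Cfsg.Agent.S0494
import Cfsg.Agent.Helper2.SmallOrder
import Cfsg.Agent.Helper2.CyclicSylow2
import Cfsg.Agent.Helper2.SylowConj
import Cfsg.Agent.Helper2.SylowExact2
-- import your own Cfsg.Agent.* helpers here

set_option autoImplicit false
open Cfsg

namespace Cfsg.Agent.S3378
open Cfsg

universe u

/-- A nontrivial group that is not simple has a proper nontrivial normal subgroup. -/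
theorem exists_normal_of_not_simple (G : Type u) [Group G] [Nontrivial G]
    (hs : ¬ IsSimpleGroup G) : ∃ N : Subgroup G, N.Normal ∧ N ≠ ⊥ ∧ N ≠ ⊤ := by
  by_contra hcon
  push Not at hcon
  apply hs
  refine ⟨fun N hN => ?_⟩
  by_contra h
  push Not at h
  exact h.2 (hcon N hN h.1)

/-- extension of solvable by solvable -/
theorem solvable_of_normal (G : Type u) [Group G] (N : Subgroup G) [N.Normal]
    (h1 : Group.IsSolvable N) (h2 : Group.IsSolvable (G ⧸ N)) : Group.IsSolvable G :=
  (Group.isSolvable_iff_subgroup_quotient N).2 ⟨h1, h2⟩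

theorem card_lt_of_proper (G : Type u) [Group G] [Finite G] (N : Subgroup G) (h0 : N ≠ ⊥)
    (h1 : N ≠ ⊤) : Nat.card N < Nat.card G ∧ N.index < Nat.card G ∧
      Nat.card N * N.index = Nat.card G := by
  have hmul := N.card_mul_index
  have hN1 : 1 < Nat.card N := by
    rw [Subgroup.one_lt_card_iff_ne_bot]; exact h0
  have hi1 : 1 < N.index := by
    have : N.index ≠ 1 := fun h => h1 (Subgroup.index_eq_one.1 h)
    have : N.index ≠ 0 := Subgroup.index_ne_zero_of_finite
    omega
  refine ⟨?_, ?_, hmul⟩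
  · nlinarith
  · nlinarith

/-- Groups of order less than 60 are solvable. -/
theorem solvable_of_card_lt : ∀ n : ℕ, n < 60 → ∀ (G : Type u) [Group G] [Finite G],
    Nat.card G = n → Group.IsSolvable G := by
  intro n
  induction n using Nat.strong_induction_on with
  | _ n ih =>
    intro hn G _ _ hG
    rcases subsingleton_or_nontrivial G with hsub | hnt
    · infer_instance
    · by_cases hs : IsSimpleGroup G
      · by_cases hc : IsCyclic G
        · let _ : CommGroup G := IsCyclic.commGroup
          infer_instance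
        · have := Cfsg.Agent.S0493.result hc (by omega)
          omega
      · obtain ⟨N, hN, h0, h1⟩ := exists_normal_of_not_simple G hs
        obtain ⟨c1, c2, _⟩ := card_lt_of_proper G N h0 h1
        have s1 : Group.IsSolvable N := ih (Nat.card N) (by omega) (by omega) N rfl
        have s2 : Group.IsSolvable (G ⧸ N) := ih N.index (by omega) (by omega) (G ⧸ N) rfl
        exact solvable_of_normal G N s1 s2

/-- A non-solvable group of order 60 is simple. -/
theorem simple_of_card_60 (K : Type u) [Group K] [Finite K] (h : Nat.card K = 60)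
    (hns : ¬ Group.IsSolvable K) : IsSimpleGroup K := by
  have : Nontrivial K := by
    rw [← Finite.one_lt_card_iff_nontrivial, h]; norm_num
  by_contra hs
  obtain ⟨N, hN, h0, h1⟩ := exists_normal_of_not_simple K hs
  obtain ⟨c1, c2, _⟩ := card_lt_of_proper K N h0 h1
  have s1 : Group.IsSolvable N := solvable_of_card_lt (Nat.card N) (by omega) N rfl
  have s2 : Group.IsSolvable (K ⧸ N) := solvable_of_card_lt N.index (by omega) (K ⧸ N) rfl
  exact hns (solvable_of_normal K N s1 s2)

open Cfsg.Agent.Helper2 in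
/-- There is no simple group of order 120. -/
theorem not_simple_120 (G : Type u) [Group G] [Finite G] (h : Nat.card G = 120) :
    ¬ IsSimpleGroup G := by
  intro hs
  classical
  have : Fact (Nat.Prime 5) := ⟨Nat.prime_five⟩
  let P : Sylow 5 G := default
  have hPcard : Nat.card P = 5 ^ 1 :=
    SylowExact.card_sylow_of_exact_pow (m := 24) (by rw [h]; norm_num) (by norm_num) P
  have hidxP : (P : Subgroup G).index = 24 := by
    have := (P : Subgroup G).card_mul_index
    rw [hPcard, h] at this; omega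
  have hdvd : Nat.card (Sylow 5 G) ∣ 24 := hidxP ▸ Sylow.card_dvd_index P
  have hne1 : Nat.card (Sylow 5 G) ≠ 1 :=
    SmallOrder.card_sylow_ne_one P (by rw [hPcard]; norm_num) (by rw [hPcard, h]; norm_num)
  have hmod : Nat.card (Sylow 5 G) % 5 = 1 := by
    have := card_sylow_modEq_one 5 G
    rw [Nat.ModEq] at this
    simpa using this
  have h6 : Nat.card (Sylow 5 G) = 6 := by
    have hle := Nat.le_of_dvd (by norm_num) hdvd
    have hpos : 0 < Nat.card (Sylow 5 G) := Nat.card_pos
    interval_cases (Nat.card (Sylow 5 G)) <;> omega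
  have : Fintype (Sylow 5 G) := Fintype.ofFinite _
  have hnt : Nontrivial (Sylow 5 G) := by
    rw [← Finite.one_lt_card_iff_nontrivial, h6]; norm_num
  let ψ : G →* Equiv.Perm (Sylow 5 G) := MulAction.toPermHom G (Sylow 5 G)
  have hker : ψ.ker = ⊥ := by
    rcases (ψ.normal_ker).eq_bot_or_eq_top with h0 | h0
    · exact h0
    · exfalso
      obtain ⟨Q, hQ⟩ := exists_ne P
      obtain ⟨g, hg⟩ := MulAction.exists_smul_eq G P Q
      have : g ∈ ψ.ker := by rw [h0]; trivial
      rw [MonoidHom.mem_ker] at this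
      have h1 : ψ g P = P := by rw [this]; rfl
      exact hQ (hg.symm.trans h1)
  have hinj : Function.Injective ψ := (MonoidHom.ker_eq_bot_iff ψ).1 hker
  -- the image lies in the alternating group
  let s : G →* ℤˣ := (Equiv.Perm.sign).comp ψ
  have hsker : s.ker = ⊤ := by
    rcases (s.normal_ker).eq_bot_or_eq_top with h0 | h0
    · exfalso
      have hsinj : Function.Injective s := (MonoidHom.ker_eq_bot_iff s).1 h0
      have := Nat.card_le_card_of_injective s hsinj
      rw [h] at this
      have h2 : Nat.card ℤˣ = 2 := by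
        rw [Nat.card_eq_fintype_card]; rfl
      omega
    · exact h0
  have halt : ∀ g, ψ g ∈ alternatingGroup (Sylow 5 G) := by
    intro g
    rw [Equiv.Perm.mem_alternatingGroup]
    have : g ∈ s.ker := by rw [hsker]; trivial
    exact this
  let ψ' : G →* alternatingGroup (Sylow 5 G) := ψ.codRestrict _ halt
  have hinj' : Function.Injective ψ' := by
    intro a b hab
    exact hinj (congrArg Subtype.val hab)
  have hcardK : Nat.card ψ'.range = 120 := by
    rw [← h]
    exact (Nat.card_congr (MonoidHom.ofInjective hinj').toEquiv).symm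
  have hcardA : Nat.card (alternatingGroup (Sylow 5 G)) = 360 := by
    rw [nat_card_alternatingGroup, h6]; decide
  have hKtop : ψ'.range ≠ ⊤ := by
    intro htop
    rw [htop, Subgroup.card_top, hcardA] at hcardK
    omega
  have hidx : ψ'.range.index = 3 := by
    have := ψ'.range.card_mul_index
    rw [hcardK, hcardA] at this; omega
  have hsimple : IsSimpleGroup (alternatingGroup (Sylow 5 G)) :=
    alternatingGroup.isSimpleGroup (by rw [h6]; norm_num)
  have := SmallOrder.card_dvd_factorial_index ψ'.range hKtop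
  rw [hcardA, hidx] at this
  revert this
  decide

/-- The quaternion group of order 8 has a unique involution. -/
theorem q8_unique_inv : ∀ g h : QuaternionGroup 2, g * g = 1 → g ≠ 1 → h * h = 1 → h ≠ 1 → g = h := by
  decide

open Cfsg.Agent.Helper2 in
/-- In a group with quaternion Sylow 2-subgroups, two commuting involutions coincide. -/
theorem unique_involution (G : Type u) [Group G] [Finite G]
    (hQ : ∀ P : Sylow 2 G, Nonempty ((P : Subgroup G) ≃* QuaternionGroup 2))
    (a b : G) (ha : a * a = 1) (ha1 : a ≠ 1) (hb : b * b = 1) (hb1 : b ≠ 1) (hc : Commute a b) :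
    a = b := by
  have : Fact (Nat.Prime 2) := ⟨Nat.prime_two⟩
  have hpg := Cfsg.Agent.Helper2.isPGroup_closure_pair_comm ha hb hc
  obtain ⟨S, hS⟩ := hpg.exists_le_sylow
  obtain ⟨e⟩ := hQ S
  have haS : a ∈ (S : Subgroup G) := hS (Subgroup.subset_closure (by simp))
  have hbS : b ∈ (S : Subgroup G) := hS (Subgroup.subset_closure (by simp))
  have := q8_unique_inv (e ⟨a, haS⟩) (e ⟨b, hbS⟩)
    (by rw [← map_mul]; simp [ha])
    (by
      intro h
      apply ha1
      have := e.injective (h.trans (map_one e).symm)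
      exact congrArg Subtype.val this)
    (by rw [← map_mul]; simp [hb])
    (by
      intro h
      apply hb1
      have := e.injective (h.trans (map_one e).symm)
      exact congrArg Subtype.val this)
  exact congrArg Subtype.val (e.injective this)

/-- A non-cyclic group of order 4 contains two distinct commuting involutions. -/
theorem exists_two_involutions (T : Type u) [Group T] (h : Nat.card T = 4) (hc : ¬ IsCyclic T) :
    ∃ a b : T, a ≠ b ∧ a ≠ 1 ∧ b ≠ 1 ∧ a * a = 1 ∧ b * b = 1 ∧ Commute a b := by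
  have : Finite T := Nat.finite_of_card_ne_zero (by omega)
  have hsq : ∀ t : T, t * t = 1 := by
    intro t
    have hd : orderOf t ∣ 4 := h ▸ orderOf_dvd_natCard t
    have hne : orderOf t ≠ 4 := by
      intro h4
      exact hc (isCyclic_of_orderOf_eq_card t (by rw [h4, h]))
    have h2 : orderOf t ∣ 2 := by
      have : orderOf t ∣ 2 ^ 2 := by simpa using hd
      obtain ⟨j, hj, hj'⟩ := (Nat.dvd_prime_pow Nat.prime_two).1 this
      interval_cases j
      · rw [hj']; norm_num
      · rw [hj']; norm_num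
      · exact absurd hj' hne
    rw [← pow_two]
    exact orderOf_dvd_iff_pow_eq_one.1 h2
  have hnt : Nontrivial T := by
    rw [← Finite.one_lt_card_iff_nontrivial, h]; norm_num
  obtain ⟨a, ha⟩ := exists_ne (1 : T)
  have : ∃ b : T, b ≠ 1 ∧ b ≠ a := by
    by_contra hcon
    push Not at hcon
    have : Fintype T := Fintype.ofFinite T
    classical
    have hsub : (Finset.univ : Finset T) ⊆ {1, a} := by
      intro t _
      by_cases ht : t = 1
      · simp [ht]
      · simp [hcon t ht]
    have := Finset.card_le_card hsub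
    rw [Finset.card_univ, ← Nat.card_eq_fintype_card, h] at this
    have h2 : ({1, a} : Finset T).card ≤ 2 := Finset.card_le_two
    omega
  obtain ⟨b, hb1, hba⟩ := this
  refine ⟨a, b, hba.symm, ha, hb1, hsq a, hsq b, ?_⟩
  have h1 := hsq (a * b)
  -- (ab)(ab) = 1 ⇒ ab = ba
  have : a * b = b * a := by
    calc a * b = a * b * ((b * a) * (b * a)) := by rw [hsq (b * a), mul_one]
      _ = a * (b * b) * a * (b * a) := by simp only [mul_assoc]
      _ = b * a := by rw [hsq b, mul_one, hsq a, one_mul]
  exact this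

open Cfsg.Agent.Helper2 in
/-- The structure theorem: a central subgroup of order 2 with simple quotient of order 60. -/
theorem exists_Z (G : Type u) [Group G] [Finite G] (h : Nat.card G = 120)
    (hns : ¬ Group.IsSolvable G)
    (hQ : ∀ P : Sylow 2 G, Nonempty ((P : Subgroup G) ≃* QuaternionGroup 2)) :
    ∃ Z : Subgroup G, Z.Normal ∧ Nat.card Z = 2 ∧ ∀ _ : Z.Normal,
      IsSimpleGroup (G ⧸ Z) ∧ Nat.card (G ⧸ Z) = 60 := by
  have hnt : Nontrivial G := by
    rw [← Finite.one_lt_card_iff_nontrivial, h]; norm_num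
  obtain ⟨N, hN, h0, h1⟩ := exists_normal_of_not_simple G (not_simple_120 G h)
  obtain ⟨c1, c2, c3⟩ := card_lt_of_proper G N h0 h1
  have hN1 : 1 < Nat.card N := by
    rw [Subgroup.one_lt_card_iff_ne_bot]; exact h0
  have hi1 : 1 < N.index := by
    have : N.index ≠ 1 := fun h => h1 (Subgroup.index_eq_one.1 h)
    have : N.index ≠ 0 := Subgroup.index_ne_zero_of_finite
    omega
  rw [h] at c1 c2 c3
  by_cases hNs : Group.IsSolvable N
  · have hqs : ¬ Group.IsSolvable (G ⧸ N) := fun hq => hns (solvable_of_normal G N hNs hq)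
    have hi60 : ¬ N.index < 60 := fun hlt => hqs (solvable_of_card_lt N.index hlt (G ⧸ N) rfl)
    have hc2 : Nat.card N = 2 := by
      have : Nat.card N * 60 ≤ Nat.card N * N.index := Nat.mul_le_mul_left _ (by omega)
      omega
    have hi : N.index = 60 := by
      rw [hc2] at c3; omega
    refine ⟨N, hN, hc2, fun _ => ⟨?_, hi⟩⟩
    exact simple_of_card_60 (G ⧸ N) hi hqs
  · exfalso
    have hc60 : ¬ Nat.card N < 60 := fun hlt => hNs (solvable_of_card_lt _ hlt N rfl)
    have hi : N.index = 2 := by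
      have : 60 * N.index ≤ Nat.card N * N.index := Nat.mul_le_mul_right _ (by omega)
      omega
    have hc : Nat.card N = 60 := by
      rw [hi] at c3; omega
    have hsimple : IsSimpleGroup N := simple_of_card_60 N hc hNs
    have : Fact (Nat.Prime 2) := ⟨Nat.prime_two⟩
    let T : Sylow 2 N := default
    have hTcard : Nat.card T = 2 ^ 2 :=
      SylowExact.card_sylow_of_exact_pow (m := 15) (by rw [hc]; norm_num) (by norm_num) T
    by_cases hcyc : IsCyclic (T : Subgroup N)
    · obtain ⟨H, hH⟩ := Cfsg.Agent.Helper2.exists_index_two_of_cyclic_sylow_two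
        (by rw [hc]; decide) T hcyc
      have hHn : H.Normal := Subgroup.normal_of_index_eq_two hH
      exact SmallOrder.false_of_normal_index H (by rw [hH]; norm_num) (by rw [hH, hc]; norm_num)
    · obtain ⟨a, b, hab, ha1, hb1, ha, hb, hcomm⟩ :=
        exists_two_involutions (T : Subgroup N) (by rw [hTcard]; norm_num) hcyc
      apply hab
      apply Subtype.ext
      apply Subtype.ext
      apply unique_involution G hQ
      · have := congrArg (fun t : (T : Subgroup N) => ((t : N) : G)) ha
        simpa using this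
      · intro h'
        apply ha1
        apply Subtype.ext
        apply Subtype.ext
        simpa using h'
      · have := congrArg (fun t : (T : Subgroup N) => ((t : N) : G)) hb
        simpa using this
      · intro h'
        apply hb1
        apply Subtype.ext
        apply Subtype.ext
        simpa using h'
      · have := congrArg (fun t : (T : Subgroup N) => ((t : N) : G)) hcomm.eq
        simpa [Commute, SemiconjBy] using this

open Cfsg.Agent.Helper3 in
theorem main (G : Type u) [Group G] [Finite G] (h : Nat.card G = 120)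
    (hns : ¬ Group.IsSolvable G)
    (hQ : ∀ P : Sylow 2 G, Nonempty ((P : Subgroup G) ≃* QuaternionGroup 2)) :
    Nonempty (G ≃* Matrix.SpecialLinearGroup (Fin 2) (ZMod 5)) := by
  obtain ⟨Z, hZn, hZ2, hZq⟩ := exists_Z G h hns hQ
  obtain ⟨hsimple, hq60⟩ := hZq hZn
  obtain ⟨e1⟩ := Cfsg.Agent.S0494.result (G := G ⧸ Z) hq60
  obtain ⟨e2⟩ := Cfsg.Agent.S3377.result
  let e : G ⧸ Z ≃* PresentedGroup Cfsg.Agent.S3377.rels := e1.trans e2.symm
  -- relations in the presented group
  have r0 : (PresentedGroup.of (0 : Fin 2) : PresentedGroup Cfsg.Agent.S3377.rels) ^ 3 = 1 := by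
    have : PresentedGroup.mk Cfsg.Agent.S3377.rels (FreeGroup.of (0 : Fin 2) ^ 3) = 1 :=
      PresentedGroup.one_of_mem (by simp [Cfsg.Agent.S3377.rels])
    rwa [map_pow] at this
  have r1 : (PresentedGroup.of (1 : Fin 2) : PresentedGroup Cfsg.Agent.S3377.rels) ^ 5 = 1 := by
    have : PresentedGroup.mk Cfsg.Agent.S3377.rels (FreeGroup.of (1 : Fin 2) ^ 5) = 1 :=
      PresentedGroup.one_of_mem (by simp [Cfsg.Agent.S3377.rels])
    rwa [map_pow] at this
  have r2 : ((PresentedGroup.of (0 : Fin 2) : PresentedGroup Cfsg.Agent.S3377.rels) *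
      PresentedGroup.of 1) ^ 2 = 1 := by
    have : PresentedGroup.mk Cfsg.Agent.S3377.rels
        ((FreeGroup.of (0 : Fin 2) * FreeGroup.of 1) ^ 2) = 1 :=
      PresentedGroup.one_of_mem (by simp [Cfsg.Agent.S3377.rels])
    rwa [map_pow, map_mul] at this
  set xb : G ⧸ Z := e.symm (PresentedGroup.of 0) with hxb
  set yb : G ⧸ Z := e.symm (PresentedGroup.of 1) with hyb
  have hxb3 : xb ^ 3 = 1 := by rw [hxb, ← map_pow, r0, map_one]
  have hyb5 : yb ^ 5 = 1 := by rw [hyb, ← map_pow, r1, map_one]
  have hxyb : (xb * yb) ^ 2 = 1 := by rw [hxb, hyb, ← map_mul, ← map_pow, r2, map_one]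
  have hgenb : Subgroup.closure ({xb, yb} : Set (G ⧸ Z)) = ⊤ := by
    have h1 := PresentedGroup.closure_range_of Cfsg.Agent.S3377.rels
    have h2 : (Subgroup.closure (Set.range (PresentedGroup.of (rels := Cfsg.Agent.S3377.rels)))).map
        e.symm.toMonoidHom = ⊤ := by
      rw [h1, ← MonoidHom.range_eq_map, MonoidHom.range_eq_top]
      exact e.symm.surjective
    rw [MonoidHom.map_closure] at h2
    rw [← h2]
    congr 1
    ext t
    simp only [Set.mem_insert_iff, Set.mem_singleton_iff, Set.mem_image, Set.mem_range]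
    constructor
    · rintro (rfl | rfl)
      · exact ⟨_, ⟨0, rfl⟩, rfl⟩
      · exact ⟨_, ⟨1, rfl⟩, rfl⟩
    · rintro ⟨_, ⟨i, rfl⟩, rfl⟩
      fin_cases i
      · left; rfl
      · right; rfl
  have hxyb1 : xb * yb ≠ 1 := by
    intro h1
    have hx1 : xb = 1 := by
      have hxy : xb = yb⁻¹ := eq_inv_of_mul_eq_one_left h1
      have h5 : xb ^ 5 = 1 := by rw [hxy, inv_pow, hyb5, inv_one]
      calc xb = xb ^ 6 * (xb ^ 5)⁻¹ := by group
        _ = 1 := by
          have : xb ^ 6 = (xb ^ 3) ^ 2 := by rw [← pow_mul]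
          rw [this, hxb3, h5]; simp
    have hy1 : yb = 1 := by rw [hx1, one_mul] at h1; exact h1
    rw [hx1, hy1] at hgenb
    have hbot : Subgroup.closure ({1, 1} : Set (G ⧸ Z)) = ⊥ := by
      rw [Subgroup.closure_eq_bot_iff]; simp
    rw [hbot] at hgenb
    have : Nat.card (G ⧸ Z) = 1 := by
      have := Subgroup.card_bot (G := G ⧸ Z)
      rw [hgenb, Subgroup.card_top] at this
      exact this
    omega
  -- lifts
  obtain ⟨x₀, hx₀⟩ := QuotientGroup.mk_surjective xb
  obtain ⟨y₀, hy₀⟩ := QuotientGroup.mk_surjective yb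
  -- the central involution
  have hZnt : Z ≠ ⊥ := by
    rw [← Subgroup.one_lt_card_iff_ne_bot, hZ2]; norm_num
  obtain ⟨⟨z, hzZ⟩, hz1⟩ := (Subgroup.ne_bot_iff_exists_ne_one).1 hZnt
  have hz1' : z ≠ 1 := fun h' => hz1 (Subtype.ext h')
  have hZmem : ∀ g ∈ Z, g = 1 ∨ g = z := by
    intro g hg
    by_contra hcon
    push Not at hcon
    have h3 : 3 ≤ Nat.card Z := by
      classical
      have : Fintype Z := Fintype.ofFinite Z
      rw [Nat.card_eq_fintype_card]
      have hsub : ({⟨1, Z.one_mem⟩, ⟨z, hzZ⟩, ⟨g, hg⟩} : Finset Z) ⊆ Finset.univ :=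
        Finset.subset_univ _
      have hcard : ({⟨1, Z.one_mem⟩, ⟨z, hzZ⟩, ⟨g, hg⟩} : Finset Z).card = 3 := by
        rw [Finset.card_eq_three]
        refine ⟨_, _, _, ?_, ?_, ?_, rfl⟩
        · intro h'; exact hz1' (congrArg Subtype.val h').symm
        · intro h'; exact hcon.1 (congrArg Subtype.val h').symm
        · intro h'; exact hcon.2 (congrArg Subtype.val h').symm
      have := Finset.card_le_card hsub
      rw [hcard, Finset.card_univ] at this
      exact this
    omega
  have hsqZ : ∀ g ∈ Z, g * g = 1 := by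
    intro g hg
    have hd : orderOf (⟨g, hg⟩ : Z) ∣ 2 := hZ2 ▸ orderOf_dvd_natCard _
    have := orderOf_dvd_iff_pow_eq_one.1 hd
    have := congrArg Subtype.val this
    simpa [pow_two] using this
  have hzz : z * z = 1 := hsqZ z hzZ
  have hzc : ∀ g : G, g * z = z * g := by
    intro g
    have hconj : g * z * g⁻¹ ∈ Z := hZn.conj_mem z hzZ g
    rcases hZmem _ hconj with h1 | h1
    · exfalso
      apply hz1'
      calc z = g⁻¹ * (g * z * g⁻¹) * g := by group
        _ = 1 := by rw [h1]; group
    · calc g * z = (g * z * g⁻¹) * g := by group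
        _ = z * g := by rw [h1]
  have hmemZ : ∀ g : G, ((g : G ⧸ Z) = 1) → g ∈ Z := by
    intro g hg
    exact (QuotientGroup.eq_one_iff g).1 hg
  set x := x₀ ^ 4 with hxdef
  set y := y₀ ^ 6 with hydef
  have hx : ((x : G) : G ⧸ Z) = xb := by
    rw [hxdef, QuotientGroup.mk_pow, hx₀]
    calc xb ^ 4 = xb ^ 3 * xb := by rw [pow_succ]
      _ = xb := by rw [hxb3, one_mul]
  have hy : ((y : G) : G ⧸ Z) = yb := by
    rw [hydef, QuotientGroup.mk_pow, hy₀]
    calc yb ^ 6 = yb ^ 5 * yb := by rw [pow_succ]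
      _ = yb := by rw [hyb5, one_mul]
  have hx3 : x ^ 3 = 1 := by
    have h1 : x₀ ^ 3 ∈ Z := hmemZ _ (by rw [QuotientGroup.mk_pow, hx₀, hxb3])
    have h2 := hsqZ _ h1
    calc x ^ 3 = (x₀ ^ 3 * x₀ ^ 3) * (x₀ ^ 3 * x₀ ^ 3) := by rw [hxdef]; group
      _ = 1 := by rw [h2, one_mul]
  have hy5 : y ^ 5 = 1 := by
    have h1 : y₀ ^ 5 ∈ Z := hmemZ _ (by rw [QuotientGroup.mk_pow, hy₀, hyb5])
    have h2 := hsqZ _ h1
    calc y ^ 5 = (y₀ ^ 5 * y₀ ^ 5) * (y₀ ^ 5 * y₀ ^ 5) * (y₀ ^ 5 * y₀ ^ 5) := by
          rw [hydef]; group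
      _ = 1 := by rw [h2, one_mul, one_mul]
  have hxyZ : (x * y) ^ 2 ∈ Z := hmemZ _ (by
    rw [QuotientGroup.mk_pow, QuotientGroup.mk_mul, hx, hy, hxyb])
  have hxynZ : x * y ∉ Z := by
    intro hmem
    apply hxyb1
    rw [← hx, ← hy, ← QuotientGroup.mk_mul]
    exact (QuotientGroup.eq_one_iff _).2 hmem
  have hxy : (x * y) ^ 2 = z := by
    rcases hZmem _ hxyZ with h1 | h1
    · exfalso
      apply hxynZ
      have hu1 : x * y ≠ 1 := fun h' => hxynZ (h' ▸ Z.one_mem)
      have := unique_involution G hQ (x * y) z (by rw [← pow_two]; exact h1) hu1 hzz hz1'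
        (hzc (x * y))
      rw [this]; exact hzZ
    · exact h1
  -- the homomorphism from the presented group
  let f : Fin 3 → G := ![x, y, z]
  have hrels : ∀ r ∈ SL25Pres.rels, FreeGroup.lift f r = 1 := by
    intro r hr
    simp only [SL25Pres.rels, Set.mem_insert_iff, Set.mem_singleton_iff] at hr
    rcases hr with rfl | rfl | rfl | rfl | rfl | rfl
    · rw [map_pow, FreeGroup.lift_apply_of]; exact hx3
    · rw [map_pow, FreeGroup.lift_apply_of]; exact hy5
    · rw [map_pow, FreeGroup.lift_apply_of, pow_two]; exact hzz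
    · simp only [map_mul, map_inv, FreeGroup.lift_apply_of]
      change z⁻¹ * x * z * x⁻¹ = 1
      rw [mul_assoc z⁻¹, hzc x]; group
    · simp only [map_mul, map_inv, FreeGroup.lift_apply_of]
      change z⁻¹ * y * z * y⁻¹ = 1
      rw [mul_assoc z⁻¹, hzc y]; group
    · simp only [map_mul, map_pow, map_inv, FreeGroup.lift_apply_of]
      change (x * y) ^ 2 * z⁻¹ = 1
      rw [hxy, mul_inv_cancel]
  let φ : SL25Pres.P →* G := PresentedGroup.toGroup hrels
  have hφ : ∀ i, φ (PresentedGroup.of i) = f i := fun i => PresentedGroup.toGroup.of hrels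
  have hxR : x ∈ φ.range := ⟨PresentedGroup.of 0, hφ 0⟩
  have hyR : y ∈ φ.range := ⟨PresentedGroup.of 1, hφ 1⟩
  have hzR : z ∈ φ.range := ⟨PresentedGroup.of 2, hφ 2⟩
  have hZR : Z ≤ φ.range := by
    intro g hg
    rcases hZmem g hg with rfl | rfl
    · exact Subgroup.one_mem _
    · exact hzR
  have hmapR : φ.range.map (QuotientGroup.mk' Z) = ⊤ := by
    rw [eq_top_iff, ← hgenb, Subgroup.closure_le]
    rintro t (rfl | rfl)
    · exact ⟨x, hxR, hx⟩
    · exact ⟨y, hyR, hy⟩
  have hsurj : Function.Surjective φ := by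
    rw [← MonoidHom.range_eq_top, eq_top_iff]
    intro g _
    have : (QuotientGroup.mk' Z g) ∈ φ.range.map (QuotientGroup.mk' Z) := by
      rw [hmapR]; trivial
    obtain ⟨r, hr, hrg⟩ := this
    have hdiff : r⁻¹ * g ∈ Z := by
      rw [← QuotientGroup.eq]
      exact hrg
    have : g = r * (r⁻¹ * g) := by group
    rw [this]
    exact Subgroup.mul_mem _ hr (hZR hdiff)
  have hfin : Finite SL25Pres.P := Finite.of_surjective _ SL25Pres.surj
  have hcardP : Nat.card SL25Pres.P ≤ 120 := by
    have := Nat.card_le_card_of_surjective _ SL25Pres.surj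
    simpa using this
  have hbij : Function.Bijective φ :=
    hsurj.bijective_of_nat_card_le (by rw [h]; exact hcardP)
  exact ⟨(MulEquiv.ofBijective φ hbij).symm.trans SL25Pres.equiv⟩

/-- Every non-solvable group of order 120 whose Sylow 2-subgroups are quaternion of order 8 is isomorphic to SL(2,5), and SL(2,5) has the presentation ⟨x, y, z | x³ = y⁵ = z² = 1, z⁻¹xz = x, z⁻¹yz = y, (xy)² = z⟩. -/
theorem result :
    (∀ (G : Type*) [Group G] [Finite G], Nat.card G = 120 → ¬ Group.IsSolvable G →
      (∀ P : Sylow 2 G, Nonempty ((P : Subgroup G) ≃* QuaternionGroup 2)) →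
      Nonempty (G ≃* Matrix.SpecialLinearGroup (Fin 2) (ZMod 5))) ∧
    Nonempty (PresentedGroup ({FreeGroup.of (0 : Fin 3) ^ 3, FreeGroup.of (1 : Fin 3) ^ 5, FreeGroup.of (2 : Fin 3) ^ 2,
        (FreeGroup.of (2 : Fin 3))⁻¹ * FreeGroup.of 0 * FreeGroup.of 2 * (FreeGroup.of (0 : Fin 3))⁻¹,
        (FreeGroup.of (2 : Fin 3))⁻¹ * FreeGroup.of 1 * FreeGroup.of 2 * (FreeGroup.of (1 : Fin 3))⁻¹,
        (FreeGroup.of (0 : Fin 3) * FreeGroup.of 1) ^ 2 * (FreeGroup.of (2 : Fin 3))⁻¹} : Set (FreeGroup (Fin 3)))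
      ≃* Matrix.SpecialLinearGroup (Fin 2) (ZMod 5)) := by
  refine ⟨fun G _ _ h hns hQ => main G h hns hQ, ⟨Cfsg.Agent.Helper3.SL25Pres.equiv⟩⟩


end Cfsg.Agent.S3378
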