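import Mathlib
import Cfsg.Statements.S0992
import Cfsg.Agent.Helper2.SmallOrder
import Cfsg.Agent.Helper2.CyclicSylow2

set_option autoImplicit false
open Cfsg

namespace Cfsg.Agent.S0992

open Cfsg.Agent.Helper2

/-- Let G be a non-abelian finite simple group of even order not divisible by 8, and T a Sylow 2-subgroup. Then T is a Klein four-group and the centralizer of T has index 3 in the normalizer of T. -/
theorem result {G : Type*} [Group G] [Finite G] [IsSimpleGroup G] (hG : ¬ IsMulCommutative G) (h2 : Even (Nat.card G)) (h8 : ¬ 8 ∣ Nat.card G) (T : Sylow 2 G) : IsKleinFour ↥(T : Subgroup G) ∧ (Subgroup.centralizer ((T : Subgroup G) : Set G)).relIndex (Subgroup.normalizer ((T : Subgroup G) : Set G)) = 3 := by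
    classical
    have hfp : Fact (Nat.Prime 2) := ⟨Nat.prime_two⟩
    have hGpos : 0 < Nat.card G := Nat.card_pos
    have hcard_gt : 4 < Nat.card G := by
      by_contra hle
      push Not at hle
      apply hG
      obtain ⟨m, hm⟩ := h2
      have hcases : Nat.card G = 2 ∨ Nat.card G = 4 := by omega
      rcases hcases with h | h
      · have : Fact (Nat.card G).Prime := by rw [h]; exact hfp
        have hc : IsCyclic G := isCyclic_of_prime_card rfl
        exact hc.isMulCommutative
      · exact IsPGroup.isMulCommutative_of_card_eq_prime_sq (p := 2) (by rw [h]; norm_num)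
    obtain ⟨a, ha⟩ := IsPGroup.iff_card.mp T.isPGroup'
    have hTdvd : Nat.card (T : Subgroup G) ∣ Nat.card G := Subgroup.card_subgroup_dvd_card _
    have ha2 : a ≤ 2 := by
      by_contra hcon
      push Not at hcon
      apply h8
      have : (8 : ℕ) ∣ 2 ^ a := by
        have : (2 : ℕ) ^ 3 ∣ 2 ^ a := pow_dvd_pow 2 hcon
        simpa using this
      exact this.trans (ha ▸ hTdvd)
    have ha0 : a ≠ 0 := by
      rintro rfl
      rw [pow_zero] at ha
      have h1 := (T : Subgroup G).card_mul_index
      rw [ha, one_mul] at h1
      apply T.not_dvd_index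
      rw [h1]
      exact even_iff_two_dvd.mp h2
    have hncyc : ¬ IsCyclic (T : Subgroup G) := by
      intro hc
      obtain ⟨H, hH⟩ := exists_index_two_of_cyclic_sylow_two h2 T hc
      have hHn : H.Normal := Subgroup.normal_of_index_eq_two hH
      exact SmallOrder.false_of_normal_index H (by rw [hH]; norm_num) (by rw [hH]; omega)
    have ha' : a = 2 := by
      by_contra hne
      have h1 : a = 1 := by omega
      rw [h1, pow_one] at ha
      apply hncyc
      have : Fact (Nat.card (T : Subgroup G)).Prime := by rw [ha]; exact hfp
      exact isCyclic_of_prime_card rfl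
    have hT4 : Nat.card (T : Subgroup G) = 4 := by rw [ha, ha']; norm_num
    have hsq : ∀ x : (T : Subgroup G), x ^ 2 = 1 := by
      intro x
      have hdvd : orderOf x ∣ 4 := hT4 ▸ orderOf_dvd_natCard x
      have hmem : orderOf x ∈ Nat.divisors 4 := Nat.mem_divisors.mpr ⟨hdvd, by norm_num⟩
      have hd : Nat.divisors 4 = {1, 2, 4} := by decide
      rw [hd] at hmem
      simp only [Finset.mem_insert, Finset.mem_singleton] at hmem
      rcases hmem with h | h | h
      · rw [orderOf_eq_one_iff] at h
        rw [h, one_pow]
      · have := pow_orderOf_eq_one x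
        rwa [h] at this
      · exfalso
        apply hncyc
        exact isCyclic_of_orderOf_eq_card x (by rw [h, hT4])
    have hK4 : IsKleinFour (T : Subgroup G) := by
      refine ⟨hT4, ?_⟩
      have h1 : Monoid.exponent (T : Subgroup G) ∣ 2 :=
        Monoid.exponent_dvd_of_forall_pow_eq_one hsq
      rcases (Nat.dvd_prime Nat.prime_two).mp h1 with h | h
      · exfalso
        rw [Monoid.exp_eq_one_iff] at h
        have : Nat.card (T : Subgroup G) = 1 := Nat.card_eq_one_iff_unique.mpr ⟨h, ⟨1⟩⟩
        omega
      · exact h
    refine ⟨hK4, ?_⟩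
    -- the index
    set C := Subgroup.centralizer ((T : Subgroup G) : Set G) with hC
    set N := Subgroup.normalizer ((T : Subgroup G) : Set G) with hN
    have hTC : (T : Subgroup G) ≤ C := by
      intro x hx
      rw [hC, Subgroup.mem_centralizer_iff]
      intro y hy
      have := hK4.isMulCommutative.is_comm.comm ⟨y, hy⟩ ⟨x, hx⟩
      exact congrArg Subtype.val this
    have hTN : (T : Subgroup G) ≤ N := Subgroup.le_normalizer
    have h6 : C.relIndex N ∣ 6 := by
      have h1 := SmallOrder.relIndex_centralizer_normalizer_dvd_card_mulAut (T : Subgroup G)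
      have h2' := SmallOrder.card_mulAut_dvd_factorial (T : Subgroup G)
      rw [hT4] at h2'
      exact h1.trans h2'
    have hodd : ¬ 2 ∣ C.relIndex N := by
      intro hdvd
      apply T.not_dvd_index
      have h1 : C.relIndex N ∣ (T : Subgroup G).relIndex N := Subgroup.relIndex_dvd_of_le_left N hTC
      have h2' : (T : Subgroup G).relIndex N ∣ (T : Subgroup G).index :=
        Subgroup.relIndex_dvd_index_of_le hTN
      exact hdvd.trans (h1.trans h2')
    have hmem : C.relIndex N ∈ Nat.divisors 6 := Nat.mem_divisors.mpr ⟨h6, by norm_num⟩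
    have hd6 : Nat.divisors 6 = {1, 2, 3, 6} := by decide
    rw [hd6] at hmem
    simp only [Finset.mem_insert, Finset.mem_singleton] at hmem
    rcases hmem with h | h | h | h
    · exfalso
      have hle : N ≤ C := Subgroup.relIndex_eq_one.mp h
      have hcomp := MonoidHom.ker_transferSylow_isComplement' T hle
      have hKi : (MonoidHom.transferSylow T hle).ker.index = 4 := by
        rw [hcomp.symm.index_eq_card, hT4]
      exact SmallOrder.false_of_normal_index (MonoidHom.transferSylow T hle).ker
        (by rw [hKi]; norm_num) (by rw [hKi]; omega)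
    · exfalso; apply hodd; rw [h]
    · exact h
    · exfalso; apply hodd; rw [h]; norm_num

end Cfsg.Agent.S0992
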