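import Mathlib
import Cfsg.Statements.S4479
import Cfsg.Agent.Helper2.KfG

set_option autoImplicit false
open Cfsg

namespace Cfsg.Agent.S4479

open Cfsg.Agent.Helper2

/-- An order formula from the principal 2-block. Let G be a finite group of order 4·g₀ with g₀ odd having no normal 2-complement (no normal subgroup of order g₀); let P be a Sylow 2-subgroup, J an involution of P, and fix a maximal ideal M of the algebraic integers containing 2. Suppose the principal 2-block consists of the principal character and three further distinct characters χ₁, χ₂, χ₃ of degrees x₁, x₂, x₃, with χ_i(J) = ε_i = ±1. Then, writing c(J) and c(P) for the orders of the centralizers of J and of P, the order of G equals 8·α·c(J)³/c(P)² with α = x₁x₂x₃ / ((x₁ + ε₁)(x₂ + ε₂)(x₃ + ε₃)). -/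
theorem result {G : Type*} [Group G] [Finite G] (M : Ideal Cfsg.AlgInt) (hM : Cfsg.IsPModular 2 M) (g₀ : ℕ) (hg₀ : Odd g₀) (hG : Nat.card G = 4 * g₀) (hnc : ¬ ∃ N : Subgroup G, N.Normal ∧ Nat.card N = g₀) (P : Sylow 2 G) (J : G) (hJ : J ∈ (P : Subgroup G)) (hJ2 : orderOf J = 2) (χ₁ χ₂ χ₃ : Cfsg.IrrCharacter G) (ε₁ ε₂ ε₃ : ℤ) (hB : Cfsg.principalBlock M G = {χ : Cfsg.IrrCharacter G | (χ : G → ℂ) = (fun _ => 1) ∨ χ = χ₁ ∨ χ = χ₂ ∨ χ = χ₃}) (hdist : (χ₁ : G → ℂ) ≠ (fun _ => 1) ∧ (χ₂ : G → ℂ) ≠ (fun _ => 1) ∧ (χ₃ : G → ℂ) ≠ (fun _ => 1) ∧ χ₁ ≠ χ₂ ∧ χ₁ ≠ χ₃ ∧ χ₂ ≠ χ₃) (hε : (ε₁ = 1 ∨ ε₁ = -1) ∧ (ε₂ = 1 ∨ ε₂ = -1) ∧ (ε₃ = 1 ∨ ε₃ = -1)) (hval : (χ₁ : G → ℂ) J = ε₁ ∧ (χ₂ : G → ℂ) J = ε₂ ∧ (χ₃ : G → ℂ) J = ε₃) : (Nat.card G : ℚ) = 8 * (((Cfsg.charDegree (χ₁ : G → ℂ) : ℚ) * Cfsg.charDegree (χ₂ : G → ℂ) * Cfsg.charDegree (χ₃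 : G → ℂ)) / ((Cfsg.charDegree (χ₁ : G → ℂ) + ε₁) * (Cfsg.charDegree (χ₂ : G → ℂ) + ε₂) * (Cfsg.charDegree (χ₃ : G → ℂ) + ε₃))) * (Nat.card (Subgroup.centralizer ({J} : Set G)) : ℚ) ^ 3 / (Nat.card (Subgroup.centralizer ((P : Subgroup G) : Set G)) : ℚ) ^ 2 := by
    classical
    obtain ⟨hε₁, hε₂, hε₃⟩ := hε
    obtain ⟨hv₁, hv₂, hv₃⟩ := hval
    have hform := Cfsg.Agent.Helper2.Kf.order_formula_complex hM g₀ hg₀ hG hnc P J hJ hJ2 χ₁ χ₂ χ₃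
      hB hdist
    have hdeg := Cfsg.Agent.Helper2.Kf.degree_relation hM J hJ2 χ₁ χ₂ χ₃ hB hdist
    have hd1 := Cfsg.Agent.Helper6.charDegree_cast_of_isCharacter
      (Cfsg.Agent.Helper6.IsIrrCharacter.isCharacter χ₁.2)
    have hd2 := Cfsg.Agent.Helper6.charDegree_cast_of_isCharacter
      (Cfsg.Agent.Helper6.IsIrrCharacter.isCharacter χ₂.2)
    have hd3 := Cfsg.Agent.Helper6.charDegree_cast_of_isCharacter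
      (Cfsg.Agent.Helper6.IsIrrCharacter.isCharacter χ₃.2)
    have hn1 : (Cfsg.charDegree (χ₁ : G → ℂ) : ℚ) ≠ 0 := by
      have h := Cfsg.Agent.Helper6.IsIrrCharacter.apply_one_ne_zero χ₁.2
      rw [← hd1] at h
      exact_mod_cast h
    have hn2 : (Cfsg.charDegree (χ₂ : G → ℂ) : ℚ) ≠ 0 := by
      have h := Cfsg.Agent.Helper6.IsIrrCharacter.apply_one_ne_zero χ₂.2
      rw [← hd2] at h
      exact_mod_cast h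
    have hn3 : (Cfsg.charDegree (χ₃ : G → ℂ) : ℚ) ≠ 0 := by
      have h := Cfsg.Agent.Helper6.IsIrrCharacter.apply_one_ne_zero χ₃.2
      rw [← hd3] at h
      exact_mod_cast h
    rw [hv₁, hv₂, hv₃, ← hd1, ← hd2, ← hd3] at hform hdeg
    rw [map_intCast, map_intCast, map_intCast] at hdeg
    set x₁ : ℚ := (Cfsg.charDegree (χ₁ : G → ℂ) : ℚ) with hx₁
    set x₂ : ℚ := (Cfsg.charDegree (χ₂ : G → ℂ) : ℚ) with hx₂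
    set x₃ : ℚ := (Cfsg.charDegree (χ₃ : G → ℂ) : ℚ) with hx₃
    set cJ : ℚ := (Nat.card (Subgroup.centralizer ({J} : Set G)) : ℚ) with hcJ
    set cP : ℚ := (Nat.card (Subgroup.centralizer ((P : Subgroup G) : Set G)) : ℚ) with hcP
    have hformQ : (Nat.card G : ℚ) * (1 + (ε₁ : ℚ) ^ 3 / x₁ + (ε₂ : ℚ) ^ 3 / x₂ + (ε₃ : ℚ) ^ 3 / x₃) =
        8 * cJ ^ 3 / cP ^ 2 := by
      have h : (((Nat.card G : ℚ) * (1 + (ε₁ : ℚ) ^ 3 / x₁ + (ε₂ : ℚ) ^ 3 / x₂ +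
          (ε₃ : ℚ) ^ 3 / x₃) : ℚ) : ℂ) = ((8 * cJ ^ 3 / cP ^ 2 : ℚ) : ℂ) := by
        rw [hx₁, hx₂, hx₃, hcJ, hcP]
        push_cast
        exact hform
      exact_mod_cast h
    have hdegQ : 1 + x₁ * (ε₁ : ℚ) + x₂ * (ε₂ : ℚ) + x₃ * (ε₃ : ℚ) = 0 := by
      have h : ((1 + x₁ * (ε₁ : ℚ) + x₂ * (ε₂ : ℚ) + x₃ * (ε₃ : ℚ) : ℚ) : ℂ) = ((0 : ℚ) : ℂ) := by
        rw [hx₁, hx₂, hx₃]
        push_cast
        exact hdeg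
      exact_mod_cast h
    have he₁ : (ε₁ : ℚ) ^ 2 = 1 := by
      rcases hε₁ with h | h <;> rw [h] <;> norm_num
    have he₂ : (ε₂ : ℚ) ^ 2 = 1 := by
      rcases hε₂ with h | h <;> rw [h] <;> norm_num
    have he₃ : (ε₃ : ℚ) ^ 2 = 1 := by
      rcases hε₃ with h | h <;> rw [h] <;> norm_num
    have hcJ0 : cJ ≠ 0 := by
      rw [hcJ]
      exact_mod_cast (Nat.card_pos (α := Subgroup.centralizer ({J} : Set G))).ne'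
    have hcP0 : cP ≠ 0 := by
      rw [hcP]
      exact_mod_cast (Nat.card_pos (α := Subgroup.centralizer ((P : Subgroup G) : Set G))).ne'
    have hG0 : (Nat.card G : ℚ) ≠ 0 := by
      exact_mod_cast (Nat.card_pos (α := G)).ne'
    -- the key identity
    have hAS : x₁ * x₂ * x₃ * (1 + (ε₁ : ℚ) ^ 3 / x₁ + (ε₂ : ℚ) ^ 3 / x₂ + (ε₃ : ℚ) ^ 3 / x₃) =
        (x₁ + ε₁) * (x₂ + ε₂) * (x₃ + ε₃) := by
      have h1 : x₁ * x₂ * x₃ * (1 + (ε₁ : ℚ) ^ 3 / x₁ + (ε₂ : ℚ) ^ 3 / x₂ + (ε₃ : ℚ) ^ 3 / x₃) =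
          x₁ * x₂ * x₃ + (ε₁ : ℚ) ^ 3 * x₂ * x₃ + (ε₂ : ℚ) ^ 3 * x₁ * x₃ +
            (ε₃ : ℚ) ^ 3 * x₁ * x₂ := by
        field_simp
      rw [h1]
      linear_combination ((ε₁ : ℚ) * x₂ * x₃ + (ε₂ : ℚ) * ε₃ * x₁) * he₁ +
        ((ε₂ : ℚ) * x₁ * x₃ + (ε₁ : ℚ) * ε₃ * x₂) * he₂ +
        ((ε₃ : ℚ) * x₁ * x₂ + (ε₁ : ℚ) * ε₂ * x₃) * he₃ - (ε₁ : ℚ) * ε₂ * ε₃ * hdegQ
    have hR0 : 8 * cJ ^ 3 / cP ^ 2 ≠ 0 := by positivity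
    have hS0 : (1 + (ε₁ : ℚ) ^ 3 / x₁ + (ε₂ : ℚ) ^ 3 / x₂ + (ε₃ : ℚ) ^ 3 / x₃) ≠ 0 := by
      intro h
      rw [h, mul_zero] at hformQ
      exact hR0 hformQ.symm
    have hD0 : (x₁ + ε₁) * (x₂ + ε₂) * (x₃ + ε₃) ≠ 0 := by
      rw [← hAS]
      exact mul_ne_zero (mul_ne_zero (mul_ne_zero hn1 hn2) hn3) hS0
    have hS : (1 + (ε₁ : ℚ) ^ 3 / x₁ + (ε₂ : ℚ) ^ 3 / x₂ + (ε₃ : ℚ) ^ 3 / x₃) =
        (x₁ + ε₁) * (x₂ + ε₂) * (x₃ + ε₃) / (x₁ * x₂ * x₃) := by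
      rw [eq_div_iff (mul_ne_zero (mul_ne_zero hn1 hn2) hn3), ← hAS]
      ring
    rw [hS] at hformQ
    have hA0 : x₁ * x₂ * x₃ ≠ 0 := mul_ne_zero (mul_ne_zero hn1 hn2) hn3
    have hfin : (Nat.card G : ℚ) = 8 * cJ ^ 3 / cP ^ 2 *
        (x₁ * x₂ * x₃ / ((x₁ + ε₁) * (x₂ + ε₂) * (x₃ + ε₃))) := by
      rw [← hformQ]
      field_simp
      rw [div_self hD0]
    rw [hfin]
    ring

end Cfsg.Agent.S4479
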