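import Cfsg.Statements.S0690
import Cfsg.Agent.Helper6.ZasGMainC
import Cfsg.Agent.Helper3.ZasG8
import Cfsg.Agent.Helper3.ZasRepC
import Cfsg.Agent.Helper8.ZasLJ
import Cfsg.Agent.Helper5.ZasG4A
import Cfsg.Agent.S3378

set_option autoImplicit false
open Cfsg

namespace Cfsg.Agent.S0690

/-- Zassenhaus: a perfect non-trivial group of fixed-point-free automorphisms of a finite group is isomorphic to `SL(2,5)`. -/
theorem result {K : Type*} [Group K] [Finite K] (G : Subgroup (MulAut K)) (hfpf : ∀ φ ∈ G, φ ≠ 1 → ∀ k : K, φ k = k → k = 1) (hperf : commutator G = ⊤) (hne : G ≠ ⊥) : Nonempty (G ≃* Matrix.SpecialLinearGroup (Fin 2) (ZMod 5)) := by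
  have h2 := Cfsg.Agent.Helper3.ZasG.even_card_of_perfect_fpf G hfpf hperf hne
  obtain ⟨E, _, _, V, _, _, _, _, ρ, hfp, heig⟩ :=
    Cfsg.Agent.Helper3.ZasRep.exists_fpf_rep G hfpf h2
  have hZ : Cfsg.Agent.Helper6.Zas.ZData ↥G := Cfsg.Agent.Helper8.ZasL.zdata_of_fpf ρ hfp heig
  haveI hnt : Nontrivial ↥G := (Subgroup.nontrivial_iff_ne_bot G).2 hne
  have hZP := (Cfsg.Agent.Helper6.ZasGM.main_induction hZ (⊤ : Subgroup ↥G)).2
  have hperfT : ⁅(⊤ : Subgroup ↥G), (⊤ : Subgroup ↥G)⁆ = ⊤ := by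
    rw [← _root_.commutator_def]; exact hperf
  have hcard : Nat.card (⊤ : Subgroup ↥G) = 120 := by
    rcases hZP hperfT with h | h
    · exfalso
      rw [Subgroup.card_top] at h
      have := Finite.one_lt_card_iff_nontrivial.2 hnt
      omega
    · exact h
  have hns : ¬ Group.IsSolvable ↥(⊤ : Subgroup ↥G) := by
    intro hsol
    haveI : Group.IsSolvable ↥G :=
      Group.isSolvable_of_surjective (f := (Subgroup.topEquiv : ↥(⊤ : Subgroup ↥G) ≃* ↥G).toMonoidHom)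
        (Subgroup.topEquiv : ↥(⊤ : Subgroup ↥G) ≃* ↥G).surjective
    have := Group.IsSolvable.commutator_lt_top_of_nontrivial ↥G
    rw [hperf] at this
    exact lt_irrefl _ this
  obtain ⟨e⟩ := Cfsg.Agent.S3378.result.1 ↥(⊤ : Subgroup ↥G) hcard hns
    (fun P => Cfsg.Agent.Helper5.ZasG4.sylow_two_quaternion hZ ⊤ hperfT hcard P)
  exact ⟨(Subgroup.topEquiv : ↥(⊤ : Subgroup ↥G) ≃* ↥G).symm.trans e⟩

end Cfsg.Agent.S0690
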