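import Mathlib
import Cfsg.Statements.S0253
import Cfsg.Agent.Helper7.SL2Sylow
import Cfsg.Agent.Helper7.LinearCard
import Cfsg.Agent.Helper7.SLTransfer
import Cfsg.Agent.Helper7.SL25Data

set_option autoImplicit false
open Cfsg

namespace Cfsg.Agent.S0253

open Matrix Cfsg.Agent.Helper7.SL25

/-- Five is prime. -/
instance fact5 : Fact (Nat.Prime 5) := ⟨by norm_num⟩

/-- The binary tetrahedral subgroup of `SL_2(5)`. -/
def H : Subgroup G where
  carrier := {g | g.1 ∈ L}
  mul_mem' := fun {a b} ha hb => by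
    show (a * b).1 ∈ L
    rw [Matrix.SpecialLinearGroup.coe_mul]
    exact L_mul _ ha _ hb
  one_mem' := L_one
  inv_mem' := fun {a} ha => by
    show (a⁻¹).1 ∈ L
    rw [Matrix.SpecialLinearGroup.coe_inv, adj_eq]
    exact L_adj _ ha

theorem mem_H (g : G) : g ∈ H ↔ g.1 ∈ L := Iff.rfl

theorem card_H : Nat.card H = 24 := by
  have e : H ≃ {A : M2 // A ∈ L} :=
    { toFun := fun g => ⟨g.1.1, g.2⟩
      invFun := fun A => ⟨⟨A.1, by rw [Matrix.det_fin_two]; exact L_det A.1 A.2⟩, A.2⟩
      left_inv := fun g => rfl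
      right_inv := fun A => rfl }
  rw [Nat.card_congr e, Nat.card_eq_fintype_card, Fintype.card_of_subtype L.toFinset (by simp)]
  exact L_card

theorem card_G : Nat.card G = 120 := by
  show Nat.card (Matrix.SpecialLinearGroup (Fin 2) (ZMod 5)) = 120
  rw [Cfsg.Agent.Helper7.SL2.card_SL2, ZMod.card]
  norm_num

theorem index_H : H.index = 5 := by
  have h := Subgroup.card_mul_index H
  rw [card_H, card_G] at h
  omega

theorem center_le_H : Subgroup.center G ≤ H := by
  intro z hz
  rw [Matrix.SpecialLinearGroup.mem_center_iff] at hz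
  obtain ⟨r, hr, hz⟩ := hz
  rw [mem_H, ← hz]
  exact scalar_mem r (by simpa using hr)

/-- The first conjugating element. -/
def s1 : G := ⟨g1, by decide +kernel⟩
/-- The second conjugating element. -/
def s2 : G := ⟨g2, by decide +kernel⟩

theorem neg_one_mem_center (z : G) (hz : z.1 = -1) : z ∈ Subgroup.center G := by
  rw [Subgroup.mem_center_iff]
  intro g
  apply Subtype.ext
  rw [Matrix.SpecialLinearGroup.coe_mul, Matrix.SpecialLinearGroup.coe_mul, hz]
  simp

theorem core_eq : H.normalCore = Subgroup.center G := by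
  apply le_antisymm
  · intro k hk
    have h0 : k ∈ H := H.normalCore_le hk
    have h1 : s1 * k * s1⁻¹ ∈ H := hk s1
    have h2 : s2 * k * s2⁻¹ ∈ H := hk s2
    rw [mem_H] at h0 h1 h2
    rw [Matrix.SpecialLinearGroup.coe_mul, Matrix.SpecialLinearGroup.coe_mul,
      Matrix.SpecialLinearGroup.coe_inv, adj_eq] at h1 h2
    rcases core_aux k.1 h0 ⟨h1, h2⟩ with h | h
    · have : k = 1 := Subtype.ext h
      rw [this]; exact Subgroup.one_mem _
    · exact neg_one_mem_center k h
  · rw [Subgroup.normal_le_normalCore]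
    exact center_le_H

theorem main : Nonempty (ProjectiveSpecialLinearGroup (Fin 2) (ZMod 5) ≃* alternatingGroup (Fin 5)) := by
  classical
  have hX : Nat.card (G ⧸ H) = 5 := by rw [← Subgroup.index_eq_card]; exact index_H
  have : Finite (G ⧸ H) := Nat.finite_of_card_ne_zero (by rw [hX]; norm_num)
  have : Fintype (G ⧸ H) := Fintype.ofFinite _
  have hPSL : Nat.card (ProjectiveSpecialLinearGroup (Fin 2) (ZMod 5)) = 60 := by
    have h1 := Cfsg.Agent.Helper7.card_center_mul_card_PSL (F := ZMod 5) 2 (by norm_num)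
    rw [show Nat.card (Matrix.SpecialLinearGroup (Fin 2) (ZMod 5)) = 120 from card_G, ZMod.card] at h1
    have e1 : Nat.gcd 2 (5 - 1) = 2 := by decide
    rw [e1] at h1
    omega
  set φ := MulAction.toPermHom G (G ⧸ H) with hφ
  have hker : φ.ker = Subgroup.center G := by
    rw [hφ, ← Subgroup.normalCore_eq_ker]; exact core_eq
  have e0 : ProjectiveSpecialLinearGroup (Fin 2) (ZMod 5) ≃* G ⧸ φ.ker :=
    QuotientGroup.quotientMulEquivOfEq hker.symm
  have e1 : G ⧸ φ.ker ≃* φ.range := QuotientGroup.quotientKerEquivRange φ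
  have hrange_card : Nat.card φ.range = 60 := by
    rw [← hPSL]
    exact (Nat.card_congr (e0.trans e1).toEquiv).symm
  have hperm : Nat.card (Equiv.Perm (G ⧸ H)) = 120 := by
    rw [Nat.card_perm, hX]; rfl
  have hindex : φ.range.index = 2 := by
    have := Subgroup.card_mul_index φ.range
    rw [hrange_card, hperm] at this
    omega
  have halt : φ.range = alternatingGroup (G ⧸ H) :=
    Equiv.Perm.eq_alternatingGroup_of_index_eq_two hindex
  have e2 : φ.range ≃* alternatingGroup (G ⧸ H) := MulEquiv.subgroupCongr halt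
  have e3 : (G ⧸ H) ≃ Fin 5 := Finite.equivFinOfCardEq hX
  exact ⟨((e0.trans e1).trans e2).trans (Equiv.altCongrHom e3)⟩

/-- PSL_2(5) is isomorphic to A_5. -/
theorem result {F : Type*} [Field F] [Fintype F] (hF : Fintype.card F = 5) : Nonempty (Matrix.ProjectiveSpecialLinearGroup (Fin 2) F ≃* alternatingGroup (Fin 5)) := by
  have hp : Nat.Prime 5 := by norm_num
  have φ : F ≃+* ZMod 5 := (ZMod.ringEquivOfPrime F hp hF).symm
  obtain ⟨e⟩ := main
  exact ⟨(Cfsg.Agent.Helper7.SLTransfer.pslEquiv φ).trans e⟩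

end Cfsg.Agent.S0253
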