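import Cfsg.Statements.S4117
import Cfsg.Agent.Helper1.Basic
import Cfsg.Agent.Helper1.MetacyclicOmega
import Cfsg.Agent.Helper4.ZGroupActB

set_option autoImplicit false
open Cfsg

namespace Cfsg.Agent.S4117

/-- Let A be a finite group acting on the finite group G by automorphisms with the orders of A and G coprime, and suppose every Sylow subgroup of G is cyclic. Then the fixed-point subgroup C_G(A) is a Hall subgroup of G (its order is coprime to its index), the subgroup [G, A] generated by the elements g⁻¹·a(g) is cyclic and normal with [G, A] ∩ C_G(A) = 1 and [G, A]·C_G(A) = G. -/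
theorem result {G A : Type*} [Group G] [Finite G] [Group A] [Finite A]
    [MulDistribMulAction A G] (hcop : (Nat.card A).Coprime (Nat.card G))
    (hcyc : ∀ (p : ℕ) [Fact p.Prime] (P : Sylow p G), IsCyclic (P : Subgroup G)) :
    (Nat.card (MulAction.fixedPoints A G : Set G)).Coprime (Nat.card G / Nat.card (MulAction.fixedPoints A G : Set G)) ∧
    IsCyclic (Subgroup.closure {y : G | ∃ (a : A) (g : G), y = g⁻¹ * a • g}) ∧
    (Subgroup.closure {y : G | ∃ (a : A) (g : G), y = g⁻¹ * a • g}).Normal ∧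
    (Subgroup.closure {y : G | ∃ (a : A) (g : G), y = g⁻¹ * a • g} : Set G) ∩ MulAction.fixedPoints A G = {1} ∧
    Subgroup.closure {y : G | ∃ (a : A) (g : G), y = g⁻¹ * a • g} ⊔ Subgroup.closure (MulAction.fixedPoints A G) = ⊤ := by
  classical
  have hZ : IsZGroup G := ⟨fun p hp P => by
    have := Fact.mk hp
    exact hcyc p P⟩
  obtain ⟨S, hS⟩ : ∃ S : Set G, S = {y : G | ∃ (a : A) (g : G), y = g⁻¹ * a • g} := ⟨_, rfl⟩
  obtain ⟨N, hN⟩ : ∃ N : Subgroup G, N = Subgroup.closure S := ⟨_, rfl⟩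
  obtain ⟨C, hC⟩ : ∃ C : Subgroup G, C = FixedPoints.subgroup A G := ⟨_, rfl⟩
  have hCset : (MulAction.fixedPoints A G : Set G) = (C : Set G) := by rw [hC]; rfl
  have hCmem : ∀ x : G, x ∈ C ↔ ∀ a : A, a • x = x := by
    intro x; rw [hC]; exact Iff.rfl
  rw [← hS, ← hN, hCset, Subgroup.closure_eq]
  have hSmem : ∀ (a : A) (g : G), g⁻¹ * a • g ∈ S := by
    intro a g; rw [hS]; exact ⟨a, g, rfl⟩
  have hSN : ∀ (a : A) (g : G), g⁻¹ * a • g ∈ N := by
    intro a g; rw [hN]; exact Subgroup.subset_closure (hSmem a g)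
  -- the cyclic normal subgroup `K = C_G(G')`
  obtain ⟨K, hK⟩ : ∃ K : Subgroup G, K = Subgroup.centralizer ((commutator G : Subgroup G) : Set G) :=
    ⟨_, rfl⟩
  have hKcyc : IsCyclic K := by rw [hK]; exact Cfsg.Agent.Helper4.isCyclic_centralizer_commutator
  have hNK : N ≤ K := by
    rw [hN, Subgroup.closure_le]
    intro y hy
    rw [hS] at hy
    obtain ⟨a, g, rfl⟩ := hy
    rw [SetLike.mem_coe, hK]
    exact Cfsg.Agent.Helper4.commutator_action_mem_centralizer a g
  have hNcomm : ∀ x ∈ N, ∀ y ∈ N, x * y = y * x := by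
    intro x hx y hy
    let := IsCyclic.commGroup (α := K)
    exact congrArg Subtype.val (mul_comm (⟨x, hNK hx⟩ : K) ⟨y, hNK hy⟩)
  have hNcyc : IsCyclic N :=
    isCyclic_of_injective (Subgroup.inclusion hNK) (Subgroup.inclusion_injective hNK)
  -- invariance
  have hNinv : ∀ a : A, ∀ x ∈ N, a • x ∈ N := by
    intro a x hx
    rw [hN] at hx ⊢
    induction hx using Subgroup.closure_induction with
    | mem y hy =>
      rw [hS] at hy
      obtain ⟨b, g, rfl⟩ := hy
      apply Subgroup.subset_closure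
      rw [hS]
      refine ⟨a * b * a⁻¹, a • g, ?_⟩
      rw [smul_mul', smul_inv', smul_smul, smul_smul, inv_mul_cancel_right]
    | one => rw [smul_one]; exact Subgroup.one_mem _
    | mul x y _ _ hx' hy' => rw [smul_mul']; exact Subgroup.mul_mem _ hx' hy'
    | inv x _ hx' => rw [smul_inv']; exact Subgroup.inv_mem _ hx'
  -- normality
  have hNnormal : N.Normal := by
    constructor
    intro n hn x
    rw [hN] at hn ⊢
    induction hn using Subgroup.closure_induction with
    | mem y hy =>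
      rw [hS] at hy
      obtain ⟨a, g, rfl⟩ := hy
      have h1 : x * (g⁻¹ * a • g) * x⁻¹ =
          ((g * x⁻¹)⁻¹ * a • (g * x⁻¹)) * ((x⁻¹)⁻¹ * a • x⁻¹)⁻¹ := by
        rw [smul_mul', smul_inv']; group
      rw [h1]
      exact Subgroup.mul_mem _ (Subgroup.subset_closure (hSmem a _))
        (Subgroup.inv_mem _ (Subgroup.subset_closure (hSmem a _)))
    | one => simp
    | mul y z _ _ hy' hz' =>
      have h1 : x * (y * z) * x⁻¹ = (x * y * x⁻¹) * (x * z * x⁻¹) := by group
      rw [h1]; exact Subgroup.mul_mem _ hy' hz'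
    | inv y _ hy' =>
      have h1 : x * y⁻¹ * x⁻¹ = (x * y * x⁻¹)⁻¹ := by group
      rw [h1]; exact Subgroup.inv_mem _ hy'
  have hcopN : (Nat.card A).Coprime (Nat.card N) :=
    hcop.coprime_dvd_right (Subgroup.card_subgroup_dvd_card N)
  -- decomposition `G = C N`
  have hdec : ∀ g : G, ∃ c ∈ C, ∃ n ∈ N, g = c * n := by
    intro g
    obtain ⟨w, hw, hfix⟩ := Cfsg.Agent.Helper4.exists_fixed_in_coset N hNcomm hNinv hcopN g
      (fun a => hSN a g)
    exact ⟨g * w, (hCmem _).2 hfix, w⁻¹, N.inv_mem hw, by group⟩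
  have hsup : N ⊔ C = ⊤ := by
    rw [eq_top_iff]
    intro g _
    obtain ⟨c, hc, n, hn, rfl⟩ := hdec g
    exact Subgroup.mul_mem _ (Subgroup.mem_sup_right hc) (Subgroup.mem_sup_left hn)
  -- the generators are of the form `n⁻¹ a(n)` with `n ∈ N`
  have hSgen : ∀ y ∈ S, ∃ (a : A) (n : G), n ∈ N ∧ y = n⁻¹ * a • n := by
    intro y hy
    rw [hS] at hy
    obtain ⟨a, g, rfl⟩ := hy
    obtain ⟨c, hc, n, hn, rfl⟩ := hdec g
    refine ⟨a, n, hn, ?_⟩
    rw [smul_mul', (hCmem c).1 hc a]
    group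
  have hinter : ∀ z ∈ N, z ∈ C → z = 1 := by
    intro z hzN hzC
    exact Cfsg.Agent.Helper4.eq_one_of_fixed_of_generated N hNcomm hNinv hcopN S hN hSgen z hzN
      ((hCmem z).1 hzC)
  have hinf : N ⊓ C = ⊥ := by
    rw [eq_bot_iff]
    intro z hz
    rw [Subgroup.mem_bot]
    exact hinter z hz.1 hz.2
  -- cardinalities
  have hcard : Nat.card G = Nat.card C * Nat.card N := by
    have h1 := Cfsg.Agent.Helper1.card_sup_of_disjoint_normal C N (by rw [inf_comm]; exact hinf)
    rw [sup_comm, hsup, Subgroup.card_top] at h1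
    exact h1
  have hdiv : Nat.card G / Nat.card C = Nat.card N := by
    rw [hcard]
    exact Nat.mul_div_cancel_left _ Nat.card_pos
  -- Hall property
  have hHall : (Nat.card C).Coprime (Nat.card N) := by
    by_contra hnot
    obtain ⟨p, hp, hpC, hpN⟩ := Nat.Prime.not_coprime_iff_dvd.1 hnot
    have : Fact p.Prime := ⟨hp⟩
    obtain ⟨c, hc⟩ := exists_prime_orderOf_dvd_card' (G := C) p hpC
    obtain ⟨u, hu⟩ := exists_prime_orderOf_dvd_card' (G := N) p hpN
    have hcG : orderOf (c : G) = p := by rw [Subgroup.orderOf_coe]; exact hc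
    have huG : orderOf (u : G) = p := by rw [Subgroup.orderOf_coe]; exact hu
    obtain ⟨U, hU⟩ : ∃ U : Subgroup G, U = Subgroup.zpowers (u : G) := ⟨_, rfl⟩
    have hUN : U ≤ N := by rw [hU, Subgroup.zpowers_le]; exact u.2
    have hUcard : Nat.card U = p := by rw [hU, Nat.card_zpowers, huG]
    have hUp : IsPGroup p U := IsPGroup.of_card (n := 1) (by rw [hUcard, pow_one])
    have hUnormal : U.Normal := by
      constructor
      intro x hx g
      have hxN : x ∈ N := hUN hx
      have hgN : g * x * g⁻¹ ∈ N := hNnormal.conj_mem x hxN g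
      have hxp : x ^ p = 1 := by
        have h1 : (⟨x, hx⟩ : U) ^ p = 1 := by rw [← hUcard]; exact pow_card_eq_one'
        exact congrArg Subtype.val h1
      have hpow : (⟨g * x * g⁻¹, hgN⟩ : N) ^ p = 1 := by
        apply Subtype.ext
        show (g * x * g⁻¹) ^ p = 1
        rw [conj_pow, hxp]; group
      have h2 := Cfsg.Agent.Helper1.mem_of_pow_eq_one_of_card_eq_cyclic (U.subgroupOf N) p hp.pos
        (by rw [Cfsg.Agent.Helper1.card_subgroupOf_of_le hUN, hUcard]) ⟨g * x * g⁻¹, hgN⟩ hpow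
      exact Subgroup.mem_subgroupOf.1 h2
    have hcp : IsPGroup p (Subgroup.zpowers (c : G)) :=
      IsPGroup.of_card (n := 1) (by rw [Nat.card_zpowers, hcG, pow_one])
    have hsupp : IsPGroup p (U ⊔ Subgroup.zpowers (c : G) : Subgroup G) :=
      hUp.to_sup_of_normal_left hcp
    obtain ⟨P, hP⟩ := hsupp.exists_le_sylow
    have hPcyc : IsCyclic (P : Subgroup G) := hcyc p P
    have hcP : Subgroup.zpowers (c : G) ≤ P := le_sup_right.trans hP
    have huP : (u : G) ∈ (P : Subgroup G) := hP (Subgroup.mem_sup_left (by rw [hU]; exact Subgroup.mem_zpowers _))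
    have hpow : (⟨(u : G), huP⟩ : (P : Subgroup G)) ^ p = 1 := by
      apply Subtype.ext
      show (u : G) ^ p = 1
      rw [← huG]; exact pow_orderOf_eq_one _
    have h2 := Cfsg.Agent.Helper1.mem_of_pow_eq_one_of_card_eq_cyclic
      ((Subgroup.zpowers (c : G)).subgroupOf (P : Subgroup G)) p hp.pos
      (by rw [Cfsg.Agent.Helper1.card_subgroupOf_of_le hcP, Nat.card_zpowers, hcG])
      ⟨(u : G), huP⟩ hpow
    have h3 : (u : G) ∈ Subgroup.zpowers (c : G) := Subgroup.mem_subgroupOf.1 h2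
    have h4 : (u : G) ∈ C := by
      have : Subgroup.zpowers (c : G) ≤ C := by rw [Subgroup.zpowers_le]; exact c.2
      exact this h3
    have h5 : (u : G) = 1 := hinter _ u.2 h4
    rw [h5, orderOf_one] at huG
    exact hp.one_lt.ne huG
  refine ⟨?_, hNcyc, hNnormal, ?_, hsup⟩
  · have h1 : Nat.card ↥(C : Set G) = Nat.card C := rfl
    rw [h1, hdiv]
    exact hHall
  · ext z
    constructor
    · rintro ⟨hzN, hzC⟩
      exact hinter z hzN hzC
    · intro hz
      rw [Set.mem_singleton_iff] at hz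
      rw [hz]
      exact ⟨N.one_mem, C.one_mem⟩

end Cfsg.Agent.S4117
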