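import Cfsg.Statements.S0282
import Cfsg.Agent.Helper8.SUCenter
import Cfsg.Agent.Helper1.P2Q2
import Mathlib

set_option autoImplicit false
open Cfsg

namespace Cfsg.Agent.S0282

open Cfsg.Agent.Helper1

universe u

/-- groups of order 72 are solvable. -/
theorem isSolvable_of_card_72 {G : Type u} [Group G] [Finite G] (hG : Nat.card G = 72) :
    Group.IsSolvable G := by
  classical
  have h3 : Fact (Nat.Prime 3) := ⟨Nat.prime_three⟩
  obtain ⟨P⟩ : Nonempty (Sylow 3 G) := inferInstance
  have hfac : (Nat.card G).factorization 3 = 2 := by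
    rw [hG, show (72 : ℕ) = 2 ^ 3 * 3 ^ 2 by norm_num,
      Nat.factorization_mul (by norm_num) (by norm_num), Finsupp.add_apply,
      Nat.prime_two.factorization_pow, Nat.prime_three.factorization_pow]
    simp
  have hPcard : Nat.card (P : Subgroup G) = 9 := by
    rw [P.card_eq_multiplicity, hfac]; norm_num
  have hPidx : (P : Subgroup G).index = 8 := by
    have := (P : Subgroup G).card_mul_index
    rw [hPcard, hG] at this
    omega
  have hn_dvd : Nat.card (Sylow 3 G) ∣ 8 := hPidx ▸ P.card_dvd_index
  have hn_mod : Nat.card (Sylow 3 G) ≡ 1 [MOD 3] := card_sylow_modEq_one 3 G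
  have hn : Nat.card (Sylow 3 G) = 1 ∨ Nat.card (Sylow 3 G) = 4 := by
    have hd : Nat.card (Sylow 3 G) ∈ Nat.divisors 8 := Nat.mem_divisors.2 ⟨hn_dvd, by norm_num⟩
    have h8d : Nat.divisors 8 = {1, 2, 4, 8} := by decide
    rw [h8d] at hd
    simp only [Finset.mem_insert, Finset.mem_singleton] at hd
    rcases hd with h | h | h | h
    · exact Or.inl h
    · rw [h] at hn_mod; exact absurd hn_mod (by decide)
    · exact Or.inr h
    · rw [h] at hn_mod; exact absurd hn_mod (by decide)
  rcases hn with h1 | h4
  · -- normal Sylow 3-subgroup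
    have h5 := Sylow.card_eq_index_normalizer P
    rw [h1] at h5
    have hN : Subgroup.normalizer ((P : Subgroup G) : Set G) = ⊤ :=
      Subgroup.index_eq_one.1 h5.symm
    have hPn : (P : Subgroup G).Normal := Subgroup.normalizer_eq_top_iff.1 hN
    have hPs : Group.IsSolvable (P : Subgroup G) :=
      isSolvable_of_card_prime_pow Nat.prime_three (n := 2) (by rw [hPcard]; norm_num)
    have hQs : Group.IsSolvable (G ⧸ (P : Subgroup G)) := by
      apply isSolvable_of_card_prime_pow Nat.prime_two (n := 3)
      rw [← Subgroup.index_eq_card, hPidx]; norm_num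
    exact isSolvable_of_normal_of_quotient (P : Subgroup G) hPs hQs
  · set φ := MulAction.toPermHom G (Sylow 3 G) with hφ
    set K := φ.ker with hK
    have hidx : K.index ∣ 24 := by
      rw [Subgroup.index_ker φ]
      have := Subgroup.card_subgroup_dvd_card φ.range
      rw [Nat.card_perm, h4] at this
      exact this
    have hKtop : K ≠ ⊤ := by
      intro htop
      have hP : ∀ g : G, g • P = P := by
        intro g
        have hg : g ∈ K := htop ▸ Subgroup.mem_top g
        have h1 : φ g = 1 := hg
        have h2 := congrArg (fun σ : Equiv.Perm (Sylow 3 G) => σ P) h1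
        simpa [hφ] using h2
      have hN : Subgroup.normalizer ((P : Subgroup G) : Set G) = ⊤ := by
        rw [eq_top_iff]
        intro g _
        exact Sylow.smul_eq_iff_mem_normalizer.1 (hP g)
      have h5 := Sylow.card_eq_index_normalizer P
      rw [h4] at h5
      have h6 : (Subgroup.normalizer (P : Set G)).index = 1 := by
        show (Subgroup.normalizer ((P : Subgroup G) : Set G)).index = 1
        rw [hN, Subgroup.index_top]
      rw [h6] at h5
      exact absurd h5 (by norm_num)
    have hidx1 : K.index ≠ 1 := fun h => hKtop (Subgroup.index_eq_one.1 h)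
    have hcard : Nat.card K * K.index = 72 := hG ▸ K.card_mul_index
    have hQ : Group.IsSolvable (G ⧸ K) := by
      apply isSolvable_of_card_ppow_mul_prime 2 3 Nat.prime_two Nat.prime_three _ (G ⧸ K) rfl
      apply dvd_ppow_mul_prime_form Nat.prime_two Nat.prime_three (m := 3) (b := 1) le_rfl
      rw [← Subgroup.index_eq_card]
      exact hidx
    have hKs : Group.IsSolvable K := by
      have hd : K.index ∈ Nat.divisors 24 := Nat.mem_divisors.2 ⟨hidx, by norm_num⟩
      have h24d : Nat.divisors 24 = {1, 2, 3, 4, 6, 8, 12, 24} := by decide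
      rw [h24d] at hd
      simp only [Finset.mem_insert, Finset.mem_singleton] at hd
      rcases hd with h | h | h | h | h | h | h | h
      · exact absurd h hidx1
      · have hc : Nat.card K = 36 := by rw [h] at hcard; omega
        exact isSolvable_p2q2 2 3 Nat.prime_two Nat.prime_three (by rw [hc]; norm_num)
      · have hc : Nat.card K = 24 := by rw [h] at hcard; omega
        exact isSolvable_of_card_ppow_mul_prime 2 3 Nat.prime_two Nat.prime_three _ K hc
          ⟨3, 1, le_rfl, by norm_num⟩
      · have hc : Nat.card K = 18 := by rw [h] at hcard; omega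
        exact isSolvable_of_card_ppow_mul_prime 3 2 Nat.prime_three Nat.prime_two _ K hc
          ⟨2, 1, le_rfl, by norm_num⟩
      · have hc : Nat.card K = 12 := by rw [h] at hcard; omega
        exact isSolvable_of_card_ppow_mul_prime 2 3 Nat.prime_two Nat.prime_three _ K hc
          ⟨2, 1, le_rfl, by norm_num⟩
      · have hc : Nat.card K = 9 := by rw [h] at hcard; omega
        exact isSolvable_of_card_ppow_mul_prime 3 2 Nat.prime_three Nat.prime_two _ K hc
          ⟨2, 0, by omega, by norm_num⟩
      · have hc : Nat.card K = 6 := by rw [h] at hcard; omega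
        exact isSolvable_of_card_ppow_mul_prime 3 2 Nat.prime_three Nat.prime_two _ K hc
          ⟨1, 1, le_rfl, by norm_num⟩
      · have hc : Nat.card K = 3 := by rw [h] at hcard; omega
        exact isSolvable_of_card_ppow_mul_prime 3 2 Nat.prime_three Nat.prime_two _ K hc
          ⟨1, 0, by omega, by norm_num⟩
    exact isSolvable_of_normal_of_quotient K hKs hQ

/-- PSU_3(2) is a solvable group of order 72. -/
theorem result {F : Type*} [Field F] [Fintype F] (hF : Fintype.card F = 4) : Nat.card (Cfsg.PSU 3 F 2) = 72 ∧ Group.IsSolvable (Cfsg.PSU 3 F 2) := by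
  have hF' : Fintype.card F = 2 ^ 2 := by rw [hF]; norm_num
  have h1 := Cfsg.Agent.Helper8.GUOrder.card_GU hF' 3
  have h2 := Cfsg.Agent.Helper8.GUOrder.card_SU hF' (n := 3) (by norm_num)
  have h3 := Cfsg.Agent.Helper8.SUCenter.card_center hF' (n := 3) (by norm_num)
  have h4 := Subgroup.card_eq_card_quotient_mul_card_subgroup (Subgroup.center (Cfsg.SU 3 F 2))
  have h5 : Nat.card (Cfsg.GU 3 F 2) = 648 := by
    rw [h1]
    simp [Finset.prod_range_succ]
  have hcard : Nat.card (Cfsg.PSU 3 F 2) = 72 := by
    have h6 : Nat.card (Subgroup.center (Cfsg.SU 3 F 2)) = 3 := by rw [h3]; rfl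
    rw [h5] at h2
    rw [h6] at h4
    show Nat.card (Cfsg.SU 3 F 2 ⧸ Subgroup.center (Cfsg.SU 3 F 2)) = 72
    omega
  haveI : Finite (Cfsg.PSU 3 F 2) := Nat.finite_of_card_ne_zero (by rw [hcard]; norm_num)
  exact ⟨hcard, isSolvable_of_card_72 hcard⟩

end Cfsg.Agent.S0282
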