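import Mathlib
import Cfsg.Statements.S0827
import Cfsg.Agent.Helper7.SLTransfer
import Cfsg.Agent.Helper7.IsomTransfer
import Cfsg.Agent.Helper7.NormOne
import Cfsg.Agent.Helper7.U32Data
import Cfsg.Agent.Helper8.GUOrder
import Cfsg.Agent.S0282

set_option autoImplicit false
open Cfsg

namespace Cfsg.Agent.S0827

open Matrix Cfsg.Agent.Helper7.U32 Cfsg.Agent.Helper7

section transfer

variable {F K : Type*} [Field F] [Field K]

theorem hermForm_comp (φ : F ≃+* K) (n q : ℕ) (u v : Fin n → F) :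
    hermForm n K q (φ ∘ u) (φ ∘ v) = φ (hermForm n F q u v) := by
  simp [hermForm, map_sum, map_mul, map_pow]

theorem slEquiv_val (φ : F ≃+* K) (n : ℕ) (g : Matrix.SpecialLinearGroup (Fin n) F) :
    (SLTransfer.slEquiv φ g).1 = g.1.map φ := rfl

theorem mem_SU_map (φ : F ≃+* K) (n q : ℕ) (g : Matrix.SpecialLinearGroup (Fin n) F)
    (hg : g ∈ SU n F q) : SLTransfer.slEquiv φ g ∈ SU n K q := by
  intro u v
  show hermForm n K q ((SLTransfer.slEquiv φ g).1 *ᵥ u) ((SLTransfer.slEquiv φ g).1 *ᵥ v) =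
    hermForm n K q u v
  have hu : u = φ ∘ (φ.symm ∘ u) := by funext i; simp
  have hv : v = φ ∘ (φ.symm ∘ v) := by funext i; simp
  rw [slEquiv_val, hu, hv, IsomTransfer.map_mulVec_comp, IsomTransfer.map_mulVec_comp,
    hermForm_comp, hermForm_comp]
  exact congrArg φ (hg _ _)

theorem map_SU (φ : F ≃+* K) (n q : ℕ) :
    (SU n F q).map ((SLTransfer.slEquiv φ :
      Matrix.SpecialLinearGroup (Fin n) F ≃* Matrix.SpecialLinearGroup (Fin n) K) :
      Matrix.SpecialLinearGroup (Fin n) F →* Matrix.SpecialLinearGroup (Fin n) K) = SU n K q := by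
  ext g
  constructor
  · rintro ⟨h, hh, rfl⟩
    exact mem_SU_map φ n q h hh
  · intro hg
    refine ⟨(SLTransfer.slEquiv φ).symm g, ?_, by simp⟩
    have := mem_SU_map φ.symm n q g hg
    exact this

/-- The isomorphism of special unitary groups induced by a field isomorphism. -/
noncomputable def suEquiv (φ : F ≃+* K) (n q : ℕ) : SU n F q ≃* SU n K q :=
  ((SLTransfer.slEquiv φ).subgroupMap (SU n F q)).trans (MulEquiv.subgroupCongr (map_SU φ n q))

/-- The isomorphism of projective special unitary groups induced by a field isomorphism. -/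
noncomputable def psuEquiv (φ : F ≃+* K) (n q : ℕ) : PSU n F q ≃* PSU n K q :=
  SLTransfer.centerQuotEquiv (suEquiv φ n q)

end transfer


/-- The polynomial `x ^ 2 + x + 1` has no root in the field with two elements. -/
instance irr : Fact (∀ r : ZMod 2, r ^ 2 ≠ (1 : ZMod 2) + 1 * r) := ⟨by decide⟩

theorem card_K4 : Fintype.card K4 = 2 ^ 2 := by
  rw [NormOne.card_quadAlg, ZMod.card]

/-- Matrices over the field with four elements. -/
abbrev M3 := Matrix (Fin 3) (Fin 3) K4
/-- The special linear group over the field with four elements. -/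
abbrev SL3 := Matrix.SpecialLinearGroup (Fin 3) K4
/-- The special unitary group over the field with four elements. -/
abbrev G := SU 3 K4 2

/-- Encoding of a matrix as a tuple. -/
def enc (A : M3) : T9 := (A 0 0, A 0 1, A 0 2, A 1 0, A 1 1, A 1 2, A 2 0, A 2 1, A 2 2)

/-- Decoding of a tuple as a matrix. -/
def dec (t : T9) : M3 :=
  Matrix.of ![![t.1, t.2.1, t.2.2.1], ![t.2.2.2.1, t.2.2.2.2.1, t.2.2.2.2.2.1],
    ![t.2.2.2.2.2.2.1, t.2.2.2.2.2.2.2.1, t.2.2.2.2.2.2.2.2]]

theorem enc_dec (t : T9) : enc (dec t) = t := rfl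

theorem dec_enc (A : M3) : dec (enc A) = A := by
  refine Matrix.ext fun i j => ?_
  fin_cases i <;> fin_cases j <;> rfl

theorem enc_injective : Function.Injective enc := fun A B h => by
  rw [← dec_enc A, ← dec_enc B, h]

theorem dec_injective : Function.Injective dec := fun x y h => by
  rw [← enc_dec x, ← enc_dec y, h]

theorem enc_mul (A B : M3) : enc (A * B) = mulT9 (enc A) (enc B) := by
  simp [enc, mulT9, Matrix.mul_apply, Fin.sum_univ_three]

theorem enc_one : enc 1 = one9 := by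
  have h00 : (1 : M3) 0 0 = 1 := Matrix.one_apply_eq 0
  have h11 : (1 : M3) 1 1 = 1 := Matrix.one_apply_eq 1
  have h22 : (1 : M3) 2 2 = 1 := Matrix.one_apply_eq 2
  have h01 : (1 : M3) 0 1 = 0 := Matrix.one_apply_ne (by decide)
  have h02 : (1 : M3) 0 2 = 0 := Matrix.one_apply_ne (by decide)
  have h10 : (1 : M3) 1 0 = 0 := Matrix.one_apply_ne (by decide)
  have h12 : (1 : M3) 1 2 = 0 := Matrix.one_apply_ne (by decide)
  have h20 : (1 : M3) 2 0 = 0 := Matrix.one_apply_ne (by decide)
  have h21 : (1 : M3) 2 1 = 0 := Matrix.one_apply_ne (by decide)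
  show ((1 : M3) 0 0, (1 : M3) 0 1, (1 : M3) 0 2, (1 : M3) 1 0, (1 : M3) 1 1, (1 : M3) 1 2,
    (1 : M3) 2 0, (1 : M3) 2 1, (1 : M3) 2 2) = one9
  rw [h00, h01, h02, h10, h11, h12, h20, h21, h22]
  rfl

theorem enc_transpose (A : M3) : enc Aᵀ = trT9 (enc A) := rfl

theorem enc_frob (A : M3) : enc (A.map (· ^ 2)) = frobT9 (enc A) := rfl

theorem neg_K4 : ∀ x : K4, -x = x := by decide

theorem det_enc (A : M3) : A.det = detT9 (enc A) := by
  rw [Matrix.det_fin_three]
  simp only [enc, detT9, sub_eq_add_neg]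
  rw [neg_K4, neg_K4, neg_K4]
  ring

theorem mulT9_eq (x y : T9) : mulT9 x y = enc (dec x * dec y) := by
  rw [enc_mul, enc_dec, enc_dec]

theorem mulT9_assoc (x y z : T9) : mulT9 (mulT9 x y) z = mulT9 x (mulT9 y z) := by
  rw [mulT9_eq x y, mulT9_eq _ z, dec_enc, mulT9_eq y z, mulT9_eq x _, dec_enc, mul_assoc]

theorem mulT9_one (x : T9) : mulT9 x one9 = x := by
  rw [mulT9_eq, ← enc_one, dec_enc, mul_one, enc_dec]

theorem mem_G_of (A : SL3) (h : mulT9 (trT9 (enc A.1)) (frobT9 (enc A.1)) = one9) : A ∈ G := by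
  have h1 : A.1ᵀ * A.1.map (· ^ 2) = 1 := by
    apply enc_injective
    rw [enc_mul, enc_transpose, enc_frob, h, enc_one]
  intro u v
  show hermForm 3 K4 2 (A.1 *ᵥ u) (A.1 *ᵥ v) = hermForm 3 K4 2 u v
  rw [Cfsg.Agent.Helper8.GUOrder.hermForm_mulVec_mulVec card_K4, h1, Matrix.one_mulVec,
    Cfsg.Agent.Helper8.GUOrder.hermForm_eq_dot]

theorem tab_su' (x : T9) (hx : x ∈ keys) :
    detT9 x = 1 ∧ mulT9 (trT9 x) (frobT9 x) = one9 := by
  obtain ⟨e, he, rfl⟩ := List.mem_map.mp hx
  exact tab_su e he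

/-- A tuple of the table as a group element. -/
def toG (x : T9) (hx : x ∈ keys) : G :=
  ⟨⟨dec x, by rw [det_enc, enc_dec]; exact (tab_su' x hx).1⟩, by
    apply mem_G_of
    show mulT9 (trT9 (enc (dec x))) (frobT9 (enc (dec x))) = one9
    rw [enc_dec]
    exact (tab_su' x hx).2⟩

theorem toG_val (x : T9) (hx : x ∈ keys) : (toG x hx).1.1 = dec x := rfl

theorem card_G : Nat.card G = 216 := by
  have h1 := Cfsg.Agent.Helper8.GUOrder.card_GU card_K4 3
  have h2 := Cfsg.Agent.Helper8.GUOrder.card_SU card_K4 (n := 3) (by norm_num)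
  have h5 : Nat.card (Cfsg.GU 3 K4 2) = 648 := by
    rw [h1]
    simp [Finset.prod_range_succ]
  rw [h5] at h2
  show Nat.card (SU 3 K4 2) = 216
  omega

theorem mem_keys (g : G) : enc g.1.1 ∈ keys := by
  have : Finite G := Nat.finite_of_card_ne_zero (by rw [card_G]; norm_num)
  let f : {x : T9 // x ∈ keys} → G := fun x => toG x.1 x.2
  have hinj : Function.Injective f := by
    intro x y h
    apply Subtype.ext
    apply dec_injective
    have := congrArg (fun g : G => g.1.1) h
    exact this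
  have hcard : Nat.card {x : T9 // x ∈ keys} = 216 := by
    rw [Nat.card_eq_fintype_card, Fintype.card_of_subtype keys.toFinset (by simp),
      List.toFinset_card_of_nodup keys_nodup]
    exact keys_length
  have hbij : Function.Bijective f :=
    (Nat.bijective_iff_injective_and_card f).mpr ⟨hinj, by rw [hcard, card_G]⟩
  obtain ⟨x, hx⟩ := hbij.2 g
  rw [← hx]
  show enc (dec x.1) ∈ keys
  rw [enc_dec]
  exact x.2


/-- Decoding of the elements of the quaternion group. -/
def decQ (c : Nat) : QuaternionGroup 2 :=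
  if c < 4 then QuaternionGroup.a (c : ZMod 4) else QuaternionGroup.xa ((c - 4 : ℕ) : ZMod 4)

theorem decQ_mul : ∀ c < 8, ∀ d < 8, decQ (q8mul c d) = decQ c * decQ d := by decide

theorem decQ_zero : decQ 0 = 1 := by decide

theorem decQ_eq_one : ∀ c < 8, decQ c = 1 → c = 0 := by decide

theorem decQ_surj : ∀ q : QuaternionGroup 2, ∃ c < 8, decQ c = q := by decide

theorem lookup_spec (x : T9) (hx : x ∈ keys) : ∃ e ∈ tab, e.1 = x ∧ lookup x = e.2.2 := by
  unfold lookup
  cases h : tab.find? (fun e => decide (e.1 = x)) with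
  | none =>
    exfalso
    rw [List.find?_eq_none] at h
    obtain ⟨e, he, rfl⟩ := List.mem_map.mp hx
    exact h e he (by simp)
  | some e =>
    refine ⟨e, List.mem_of_find?_eq_some h, ?_, rfl⟩
    have := List.find?_some h
    simpa using this

theorem lookup_lt (x : T9) (hx : x ∈ keys) : lookup x < 8 := by
  obtain ⟨e, he, _, h2⟩ := lookup_spec x hx
  rw [h2]; exact tab_lt e he

theorem hom_gen' (x : T9) (hx : x ∈ keys) : lookup (mulT9 x gA) = q8mul (lookup x) fA ∧
    lookup (mulT9 x gB) = q8mul (lookup x) fB := by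
  obtain ⟨e, he, h1, h2⟩ := lookup_spec x hx
  rw [h2, ← h1]; exact hom_gen e he

/-- The image of a tuple in the quaternion group. -/
def lookQ (x : T9) : QuaternionGroup 2 := decQ (lookup x)

theorem one_mem_keys : one9 ∈ keys := by
  have h := mem_keys 1
  have h1 : ((1 : G).1 : SL3).1 = 1 := rfl
  rw [h1, enc_one] at h
  exact h

theorem gA_mem : gA ∈ keys := by decide +kernel
theorem gB_mem : gB ∈ keys := by decide +kernel

/-- The first generator. -/
def a1 : G := toG gA gA_mem
/-- The second generator. -/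
def b1 : G := toG gB gB_mem

theorem enc_a1 : enc a1.1.1 = gA := rfl
theorem enc_b1 : enc b1.1.1 = gB := rfl

theorem enc_mul_val (g h : G) : enc (g * h).1.1 = mulT9 (enc g.1.1) (enc h.1.1) := by
  have : (g * h).1.1 = g.1.1 * h.1.1 := rfl
  rw [this, enc_mul]

theorem lookQ_gen (x : T9) (hx : x ∈ keys) : lookQ (mulT9 x gA) = lookQ x * decQ fA ∧
    lookQ (mulT9 x gB) = lookQ x * decQ fB := by
  unfold lookQ
  rw [(hom_gen' x hx).1, (hom_gen' x hx).2, decQ_mul _ (lookup_lt x hx) fA (by decide),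
    decQ_mul _ (lookup_lt x hx) fB (by decide)]
  exact ⟨rfl, rfl⟩

/-- The multiplicativity predicate. -/
def P (y : T9) : Prop :=
  ∃ h : G, enc h.1.1 = y ∧ ∀ g : G, lookQ (enc (g * h).1.1) = lookQ (enc g.1.1) * lookQ y

theorem P_step (s : G) (fs : QuaternionGroup 2)
    (hs : ∀ x ∈ keys, lookQ (mulT9 x (enc s.1.1)) = lookQ x * fs) (y : T9) (hy : P y) :
    P (mulT9 y (enc s.1.1)) := by
  obtain ⟨h, hhy, hh⟩ := hy
  refine ⟨h * s, by rw [enc_mul_val, hhy], fun g => ?_⟩
  rw [← mul_assoc, enc_mul_val, hs _ (mem_keys (g * h)), hh g, mul_assoc,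
    hs y (hhy ▸ mem_keys h)]

theorem P_all (h : G) : P (enc h.1.1) := by
  have hmem : enc h.1.1 ∈ keys := mem_keys h
  obtain ⟨e, he, he2⟩ := List.mem_map.mp hmem
  have hW : (e.1, e.2.1) ∈ W := List.mem_map.mpr ⟨e, he, rfl⟩
  have := Chain.ok_induct mulT9 one9 gA gB P ?_ ?_ ?_ W W_ok _ hW
  · rw [← he2]; exact this
  · refine ⟨1, enc_one, fun g => ?_⟩
    rw [mul_one]
    unfold lookQ
    rw [lookup_one, decQ_zero, mul_one]
  · intro y hy
    exact P_step a1 (decQ fA) (fun x hx => (lookQ_gen x hx).1) y hy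
  · intro y hy
    exact P_step b1 (decQ fB) (fun x hx => (lookQ_gen x hx).2) y hy

theorem lookQ_mul (g h : G) :
    lookQ (enc (g * h).1.1) = lookQ (enc g.1.1) * lookQ (enc h.1.1) := by
  obtain ⟨h', hh', hP⟩ := P_all h
  have : h' = h := Subtype.ext (Subtype.ext (enc_injective hh'))
  rw [this] at hP
  exact hP g

/-- The homomorphism onto the quaternion group. -/
def psi : G →* QuaternionGroup 2 where
  toFun g := lookQ (enc g.1.1)
  map_one' := by
    show lookQ (enc (1 : M3)) = 1
    rw [enc_one]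
    unfold lookQ
    rw [lookup_one, decQ_zero]
  map_mul' g h := lookQ_mul g h

theorem psi_apply (g : G) : psi g = decQ (lookup (enc g.1.1)) := rfl

theorem psi_surjective : Function.Surjective psi := by
  intro q
  obtain ⟨c, hc, rfl⟩ := decQ_surj q
  obtain ⟨e, he, hec⟩ := tab_surj c hc
  have hk : e.1 ∈ keys := List.mem_map.mpr ⟨e, he, rfl⟩
  refine ⟨toG e.1 hk, ?_⟩
  obtain ⟨e', he', h1, h2⟩ := lookup_spec e.1 hk
  have hee : e' = e := List.inj_on_of_nodup_map keys_nodup he' he h1
  rw [psi_apply, toG_val, enc_dec, h2, hee, hec]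

theorem psi_ker (g : G) (hg : psi g = 1) : g ^ 3 = 1 := by
  rw [psi_apply] at hg
  have h0 := decQ_eq_one _ (lookup_lt _ (mem_keys g)) hg
  obtain ⟨e, he, h1, h2⟩ := lookup_spec _ (mem_keys g)
  rw [h2] at h0
  have h3 := tab_ker e he h0
  rw [h1] at h3
  apply Subtype.ext
  apply Subtype.ext
  apply enc_injective
  have : ((g ^ 3 : G).1 : SL3).1 = g.1.1 * g.1.1 * g.1.1 := by
    rw [pow_succ, pow_two]
    rfl
  rw [this, enc_mul, enc_mul, h3]
  exact enc_one.symm

theorem center_le_ker : Subgroup.center G ≤ psi.ker := by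
  intro z hz
  rw [Subgroup.mem_center_iff] at hz
  rw [MonoidHom.mem_ker, psi_apply]
  obtain ⟨e, he, h1, h2⟩ := lookup_spec _ (mem_keys z)
  have hA : mulT9 e.1 gA = mulT9 gA e.1 := by
    rw [h1, ← enc_a1, ← enc_mul_val, ← enc_mul_val, hz a1]
  have hB : mulT9 e.1 gB = mulT9 gB e.1 := by
    rw [h1, ← enc_b1, ← enc_mul_val, ← enc_mul_val, hz b1]
  rw [h2, tab_center e he hA hB, decQ_zero]

/-- The induced homomorphism on the projective group. -/
def psiBar : PSU 3 K4 2 →* QuaternionGroup 2 :=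
  QuotientGroup.lift (Subgroup.center G) psi center_le_ker

theorem psiBar_mk (g : G) : psiBar (QuotientGroup.mk g) = psi g := rfl

theorem psiBar_surjective : Function.Surjective psiBar := by
  intro q
  obtain ⟨g, hg⟩ := psi_surjective q
  exact ⟨QuotientGroup.mk g, hg⟩

theorem psiBar_ker (x : PSU 3 K4 2) (hx : psiBar x = 1) : x ^ 3 = 1 := by
  obtain ⟨g, rfl⟩ := QuotientGroup.mk_surjective x
  rw [psiBar_mk] at hx
  rw [← QuotientGroup.mk_pow, psi_ker g hx]
  rfl

/-- The final step: a surjection onto the quaternion group whose kernel has exponent three. -/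
theorem final {P : Type*} [Group P] (hP : Nat.card P = 72) (f : P →* QuaternionGroup 2)
    (hf : Function.Surjective f) (hk : ∀ x, f x = 1 → x ^ 3 = 1) :
    ∃ (N : Subgroup P) (_ : N.Normal), Nat.card N = 9 ∧ (∀ x ∈ N, x ^ 3 = 1) ∧
      Nonempty (P ⧸ N ≃* QuaternionGroup 2) := by
  refine ⟨f.ker, f.normal_ker, ?_, fun x hx => hk x hx, ⟨QuotientGroup.quotientKerEquivOfSurjective f hf⟩⟩
  have h1 := Subgroup.card_mul_index f.ker
  rw [Subgroup.index_ker, MonoidHom.range_eq_top.mpr hf, hP] at h1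
  have h2 : Nat.card (⊤ : Subgroup (QuaternionGroup 2)) = 8 := by
    rw [Subgroup.card_top, Nat.card_eq_fintype_card, QuaternionGroup.card]
  rw [h2] at h1
  omega

/-- U_3(2) ≅ 3².Q_8: PSU_3(2) (form over the field with 4 elements) has a normal subgroup N which is elementary abelian of order 9 such that the quotient by N is isomorphic to the quaternion group of order 8. -/
theorem result {F : Type*} [Field F] [Fintype F] (hF : Fintype.card F = 4) : ∃ (N : Subgroup (Cfsg.PSU 3 F 2)) (_ : N.Normal), Nat.card N = 9 ∧ (∀ x ∈ N, x ^ 3 = 1) ∧ Nonempty (Cfsg.PSU 3 F 2 ⧸ N ≃* QuaternionGroup 2) := by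
  have φ : F ≃+* K4 := FiniteField.ringEquivOfCardEq (by rw [hF, card_K4]; norm_num)
  have hcard := (Cfsg.Agent.S0282.result hF).1
  let e := psuEquiv φ 3 2
  refine final hcard (psiBar.comp e.toMonoidHom) ?_ ?_
  · exact psiBar_surjective.comp e.surjective
  · intro x hx
    have h1 : (e x) ^ 3 = 1 := psiBar_ker (e x) hx
    apply e.injective
    rw [map_pow, h1, map_one]

end Cfsg.Agent.S0827
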