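import Mathlib
import Cfsg.Statements.S3734
import Cfsg.Agent.Helper1.Coprime
import Cfsg.Agent.Helper1.SylowInt
import Cfsg.Agent.Helper1.AbelianAct
import Cfsg.Agent.Helper5.Misc
import Cfsg.Agent.Helper5.AxB
import Cfsg.Agent.Helper3.AbIrr
import Cfsg.Statements.S3734
-- import your own Cfsg.Agent.* helpers here

set_option autoImplicit false
open Cfsg

namespace Cfsg.Agent.S3734
open Cfsg

open scoped commutatorElement

universe u

variable {X : Type u} [Group X]

/-- the family of subgroups `B ≤ A` with `A / B` cyclic. -/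
def fam (A : Subgroup X) : Set (Subgroup X) :=
  {B : Subgroup X | B ≤ A ∧ ∃ a ∈ A, B ⊔ Subgroup.zpowers a = A}

/-- the subgroup generated by the `C_K(B)`. -/
def gen (A K : Subgroup X) : Subgroup X :=
  ⨆ B ∈ fam A, K ⊓ Subgroup.centralizer (B : Set X)

theorem gen_le (A K : Subgroup X) : gen A K ≤ K :=
  iSup₂_le fun _ _ => inf_le_left

theorem gen_mono (A : Subgroup X) {K L : Subgroup X} (h : K ≤ L) : gen A K ≤ gen A L :=
  iSup₂_mono fun _ _ => inf_le_inf_right _ h

theorem le_gen (A K : Subgroup X) {B : Subgroup X} (hB : B ∈ fam A) :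
    K ⊓ Subgroup.centralizer (B : Set X) ≤ gen A K :=
  le_iSup₂_of_le B hB le_rfl

theorem mem_normalizer_gen [Finite X] (A K : Subgroup X) (x : X)
    (hxK : x ∈ Subgroup.normalizer (K : Set X)) (hxA : ∀ a ∈ A, x * a = a * x) :
    x ∈ Subgroup.normalizer ((gen A K : Subgroup X) : Set X) := by
  apply Cfsg.Agent.Helper5.mem_normalizer_of_conj_mem
  have hle : (gen A K).map (MulAut.conj x).toMonoidHom ≤ gen A K := by
    unfold gen
    rw [Subgroup.map_iSup]
    apply iSup_le
    intro B
    rw [Subgroup.map_iSup]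
    apply iSup_le
    intro hB
    refine le_trans ?_ (le_iSup₂_of_le B hB le_rfl)
    rintro _ ⟨y, hy, rfl⟩
    have hyK : y ∈ K := hy.1
    have hyc : y ∈ Subgroup.centralizer (B : Set X) := hy.2
    refine Subgroup.mem_inf.mpr ⟨(Subgroup.mem_normalizer_iff.mp hxK y).mp hyK, ?_⟩
    rw [Subgroup.mem_centralizer_iff] at hyc ⊢
    intro b hb
    have hxb : x * b = b * x := hxA b (hB.1 hb)
    have hyb : b * y = y * b := hyc b hb
    simp only [MulEquiv.coe_toMonoidHom, MulAut.conj_apply]
    have hxb' : x⁻¹ * b = b * x⁻¹ := by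
      have : x⁻¹ * (x * b) * x⁻¹ = x⁻¹ * (b * x) * x⁻¹ := by rw [hxb]
      have h2 : b * x⁻¹ = x⁻¹ * b := by simpa [mul_assoc] using this
      exact h2.symm
    calc b * (x * y * x⁻¹) = (b * x) * y * x⁻¹ := by group
      _ = (x * b) * y * x⁻¹ := by rw [hxb]
      _ = x * (b * y) * x⁻¹ := by group
      _ = x * (y * b) * x⁻¹ := by rw [hyb]
      _ = x * y * (b * x⁻¹) := by group
      _ = x * y * (x⁻¹ * b) := by rw [hxb']
      _ = x * y * x⁻¹ * b := by group
  intro y hy
  exact hle ⟨y, hy, rfl⟩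

/-- The quotient step: if `K' ≤ gen K` then `K = gen K`. -/
theorem le_gen_of_commutator_le [Finite X] (A K : Subgroup X)
    (hAc : IsMulCommutative A)
    (hAK : A ≤ Subgroup.normalizer (K : Set X)) (hcop : (Nat.card A).Coprime (Nat.card K))
    (hK' : ⁅K, K⁆ ≤ gen A K) : K ≤ gen A K := by
  have hcomm : ∀ x ∈ A, ∀ y ∈ A, x * y = y * x := by
    intro x hx y hy
    exact congrArg Subtype.val (hAc.is_comm.comm ⟨x, hx⟩ ⟨y, hy⟩)
  set Y := gen A K with hY
  have hYK : Y ≤ K := gen_le A K
  have hAY : A ≤ Subgroup.normalizer (Y : Set X) := by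
    intro x hx
    exact mem_normalizer_gen A K x (hAK hx) (fun a ha => hcomm x hx a ha)
  have hKY : K ≤ Subgroup.normalizer (Y : Set X) := by
    apply Cfsg.Agent.Helper5.le_normalizer_of_conj_mem
    intro k hk y hy
    have h1 : ⁅k, y⁆ ∈ Y := hK' (Subgroup.commutator_mem_commutator hk (hYK hy))
    have h2 : k * y * k⁻¹ = ⁅k, y⁆ * y := by rw [commutatorElement_def]; group
    rw [h2]
    exact Y.mul_mem h1 hy
  have hAsolv : Group.IsSolvable A := Cfsg.Agent.Helper1.isSolvable_of_isMulCommutative A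
  -- the quotient
  set Yk : Subgroup ↥K := Y.subgroupOf K with hYk
  have hYkn : Yk.Normal := (Subgroup.normal_subgroupOf_iff_le_normalizer hYK).mpr hKY
  let instCG : CommGroup (↥K ⧸ Yk) :=
    { (QuotientGroup.Quotient.group Yk) with
      mul_comm := by
        intro x y
        refine QuotientGroup.induction_on x ?_
        intro k
        refine QuotientGroup.induction_on y ?_
        intro l
        rw [← QuotientGroup.mk_mul, ← QuotientGroup.mk_mul, QuotientGroup.eq]
        rw [hYk, Subgroup.mem_subgroupOf]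
        apply hK'
        have h1 : (((k * l)⁻¹ * (l * k) : ↥K) : X) = ⁅(l : X)⁻¹, (k : X)⁻¹⁆ := by
          rw [commutatorElement_def]
          simp only [Subgroup.coe_mul, Subgroup.coe_inv]
          group
        rw [h1]
        exact Subgroup.commutator_mem_commutator (K.inv_mem l.2) (K.inv_mem k.2) }
  -- the maps
  have hf : ∀ (e : ↥A), Yk ≤ Yk.comap (Cfsg.Agent.Helper1.conjOn A K hAK e) := by
    intro e y hy
    rw [Subgroup.mem_comap, hYk, Subgroup.mem_subgroupOf, Cfsg.Agent.Helper1.conjOn_coe]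
    exact (Subgroup.mem_normalizer_iff.mp (hAY e.2) _).mp (Subgroup.mem_subgroupOf.mp hy)
  set act : ↥A → ((↥K ⧸ Yk) →* (↥K ⧸ Yk)) := fun e =>
    QuotientGroup.map Yk Yk (Cfsg.Agent.Helper1.conjOn A K hAK e) (hf e) with hact
  by_contra hnot
  have hV : ∃ v : ↥K ⧸ Yk, v ≠ 1 := by
    obtain ⟨k, hk, hkY⟩ := Set.not_subset.mp hnot
    refine ⟨QuotientGroup.mk (⟨k, hk⟩ : ↥K), ?_⟩
    rw [Ne, QuotientGroup.eq_one_iff, hYk, Subgroup.mem_subgroupOf]
    exact hkY
  obtain ⟨B', a, hBa, v, hv1, hvfix⟩ := Cfsg.Agent.Helper3.AbIrr.exists_cyclic_quotient_fixing act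
    (by
      apply MonoidHom.ext
      intro v
      refine QuotientGroup.induction_on v ?_
      intro k
      simp only [hact, QuotientGroup.map_mk, MonoidHom.id_apply]
      congr 1
      apply Subtype.ext
      simp only [Cfsg.Agent.Helper1.conjOn_coe]
      simp)
    (by
      intro s t
      apply MonoidHom.ext
      intro v
      refine QuotientGroup.induction_on v ?_
      intro k
      simp only [hact, MonoidHom.comp_apply, QuotientGroup.map_mk]
      congr 1
      apply Subtype.ext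
      simp only [Cfsg.Agent.Helper1.conjOn_coe, Subgroup.coe_mul]
      group)
    (fun s t => hAc.is_comm.comm s t) hV
  obtain ⟨k, rfl⟩ := QuotientGroup.mk_surjective v
  set B : Subgroup X := B'.map A.subtype with hB
  have hBA : B ≤ A := Subgroup.map_subtype_le _
  have hBfam : B ∈ fam A := by
    refine ⟨hBA, (a : X), a.2, ?_⟩
    have h1 := congrArg (Subgroup.map A.subtype) hBa
    rw [Subgroup.map_sup, MonoidHom.map_zpowers, ← MonoidHom.range_eq_map, Subgroup.range_subtype] at h1
    exact h1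
  have hfix : ∀ b ∈ B, b * (k : X) * b⁻¹ * (k : X)⁻¹ ∈ Y := by
    rintro _ ⟨b, hb, rfl⟩
    have h1 := hvfix b hb
    simp only [hact, QuotientGroup.map_mk] at h1
    rw [QuotientGroup.eq, hYk, Subgroup.mem_subgroupOf] at h1
    have hk0 : ((b : X) * (k : X) * (b : X)⁻¹)⁻¹ * (k : X) ∈ Y := h1
    have hk' : (k : X)⁻¹ * ((b : X) * (k : X) * (b : X)⁻¹) ∈ Y := by
      have h0 := Y.inv_mem hk0
      have h00 : (((b : X) * (k : X) * (b : X)⁻¹)⁻¹ * (k : X))⁻¹ = (k : X)⁻¹ * ((b : X) * (k : X) * (b : X)⁻¹) := by group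
      rwa [h00] at h0
    have h2 := (Subgroup.mem_normalizer_iff.mp (hKY k.2) _).mp hk'
    have h3 : (k : X) * ((k : X)⁻¹ * ((b : X) * (k : X) * (b : X)⁻¹)) * (k : X)⁻¹ = (b : X) * (k : X) * (b : X)⁻¹ * (k : X)⁻¹ := by
      group
    rw [h3] at h2
    exact h2
  obtain ⟨c, hc, hkc⟩ := Cfsg.Agent.Helper1.coprime_fixed_coset B K
    (hBA.trans hAK) (hcop.coprime_dvd_left (Subgroup.card_dvd_of_le hBA))
    (Or.inl (Cfsg.Agent.Helper1.isSolvable_of_le hBA hAsolv)) Y hYK hKY (hBA.trans hAY)
    (k : X) k.2 hfix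
  have hcY : c ∈ Y := le_gen A K hBfam hc
  have hkY : (k : X) ∈ Y := by
    have h3 : (k : X) = c * ((k : X)⁻¹ * c)⁻¹ := by group
    rw [h3]
    exact Y.mul_mem hcY (Y.inv_mem hkc)
  apply hv1
  rw [QuotientGroup.eq_one_iff, hYk, Subgroup.mem_subgroupOf]
  exact hkY


/-- Generation by the `C_K(B)`, `A / B` cyclic. -/
theorem le_gen_all [Finite X] (A : Subgroup X) (hAc : IsMulCommutative A) :
    ∀ (n : ℕ) (K : Subgroup X), Nat.card K = n → A ≤ Subgroup.normalizer (K : Set X) →
      (Nat.card A).Coprime (Nat.card K) → K ≤ gen A K := by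
  intro n
  induction n using Nat.strong_induction_on with
  | _ n ih =>
  intro K hKn hAK hcop
  have hAsolv : Group.IsSolvable A := Cfsg.Agent.Helper1.isSolvable_of_isMulCommutative A
  by_cases hq : ∃ q : ℕ, q.Prime ∧ IsPGroup q K
  · obtain ⟨q, hqp, hKq⟩ := hq
    have : Fact q.Prime := ⟨hqp⟩
    by_cases hK1 : K = ⊥
    · rw [hK1]; exact bot_le
    have hle : ⁅K, K⁆ ≤ K :=
      Subgroup.commutator_le.mpr (fun x hx y hy => K.mul_mem (K.mul_mem (K.mul_mem hx hy) (K.inv_mem hx)) (K.inv_mem hy))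
    have hne : ⁅K, K⁆ ≠ K :=
      Cfsg.Agent.Helper5.commutator_ne_self_of_pgroups K K hKq hKq Subgroup.le_normalizer hK1
    have hcard : Nat.card ↥(⁅K, K⁆ : Subgroup X) < n := by
      by_contra hge
      rw [not_lt, ← hKn] at hge
      exact hne (Subgroup.eq_of_le_of_card_ge hle hge)
    have hAK' : A ≤ Subgroup.normalizer ((⁅K, K⁆ : Subgroup X) : Set X) :=
      fun x hx => Cfsg.Agent.Helper5.mem_normalizer_commutator K K x (hAK hx) (hAK hx)
    have h1 := ih _ hcard ⁅K, K⁆ rfl hAK' (hcop.coprime_dvd_right (Subgroup.card_dvd_of_le hle))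
    exact le_gen_of_commutator_le A K hAc hAK hcop (h1.trans (gen_mono A hle))
  · push Not at hq
    have hYK : gen A K ≤ K := gen_le A K
    have hK0 : Nat.card K ≠ 0 := Nat.card_pos.ne'
    have hY0 : Nat.card (gen A K) ≠ 0 := Nat.card_pos.ne'
    have hdvd : Nat.card K ∣ Nat.card (gen A K) := by
      rw [← Nat.factorization_prime_le_iff_dvd hK0 hY0]
      intro q hqp
      have : Fact q.Prime := ⟨hqp⟩
      obtain ⟨P, hP⟩ := Cfsg.Agent.Helper1.exists_invariant_sylow (p := q) A K hAK hcop (Or.inl hAsolv)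
      set Q := (P : Subgroup K).map K.subtype with hQ
      have hQK : Q ≤ K := Subgroup.map_subtype_le _
      have hQne : Q ≠ K := by
        intro h
        apply hq q hqp
        rw [← h]
        exact P.isPGroup'.map _
      have hcard : Nat.card Q < n := by
        by_contra hge
        rw [not_lt, ← hKn] at hge
        exact hQne (Subgroup.eq_of_le_of_card_ge hQK hge)
      have h1 := ih _ hcard Q rfl hP (hcop.coprime_dvd_right (Subgroup.card_dvd_of_le hQK))
      have h2 : Q ≤ gen A K := h1.trans (gen_mono A hQK)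
      have hQcard : Nat.card Q = q ^ (Nat.card K).factorization q := by
        rw [hQ, Cfsg.Agent.Helper1.card_map_subtype, P.card_eq_multiplicity]
      have h3 : q ^ (Nat.card K).factorization q ∣ Nat.card (gen A K) := by
        rw [← hQcard]; exact Subgroup.card_dvd_of_le h2
      exact (Nat.Prime.pow_dvd_iff_le_factorization hqp hY0).mp h3
    have := Subgroup.eq_of_le_of_card_ge hYK (Nat.le_of_dvd (Nat.pos_of_ne_zero hY0) hdvd)
    rw [this]


theorem conj_mem_centralizer (B : Subgroup X) (x y : X) (hx : ∀ b ∈ B, x * b = b * x)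
    (hy : y ∈ Subgroup.centralizer (B : Set X)) : x * y * x⁻¹ ∈ Subgroup.centralizer (B : Set X) := by
  rw [Subgroup.mem_centralizer_iff] at hy ⊢
  intro b hb
  have hxb : x * b = b * x := hx b hb
  have hyb : b * y = y * b := hy b hb
  have hxb' : x⁻¹ * b = b * x⁻¹ := by
    have : x⁻¹ * (x * b) * x⁻¹ = x⁻¹ * (b * x) * x⁻¹ := by rw [hxb]
    have h2 : b * x⁻¹ = x⁻¹ * b := by simpa [mul_assoc] using this
    exact h2.symm
  calc b * (x * y * x⁻¹) = (b * x) * y * x⁻¹ := by group
    _ = (x * b) * y * x⁻¹ := by rw [hxb]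
    _ = x * (b * y) * x⁻¹ := by group
    _ = x * (y * b) * x⁻¹ := by rw [hyb]
    _ = x * y * (b * x⁻¹) := by group
    _ = x * y * (x⁻¹ * b) := by rw [hxb']
    _ = x * y * x⁻¹ * b := by group

theorem mem_normalizer_centralizer [Finite X] (B : Subgroup X) (x : X) (hx : ∀ b ∈ B, x * b = b * x) :
    x ∈ Subgroup.normalizer ((Subgroup.centralizer (B : Set X) : Subgroup X) : Set X) := by
  apply Cfsg.Agent.Helper5.mem_normalizer_of_conj_mem
  intro y hy
  exact conj_mem_centralizer B x y hx hy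

/-- the subgroup generated by the `[C_K(B), A]`. -/
def genComm (A K : Subgroup X) : Subgroup X :=
  ⨆ B ∈ fam A, ⁅K ⊓ Subgroup.centralizer (B : Set X), A⁆

theorem mem_normalizer_genComm [Finite X] (A K : Subgroup X) (x : X)
    (hx : ∀ B ∈ fam A, x ∈ Subgroup.normalizer ((⁅K ⊓ Subgroup.centralizer (B : Set X), A⁆ : Subgroup X) : Set X)) :
    x ∈ Subgroup.normalizer ((genComm A K : Subgroup X) : Set X) := by
  apply Cfsg.Agent.Helper5.mem_normalizer_of_conj_mem
  have hle : (genComm A K).map (MulAut.conj x).toMonoidHom ≤ genComm A K := by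
    unfold genComm
    rw [Subgroup.map_iSup]
    apply iSup_le
    intro B
    rw [Subgroup.map_iSup]
    apply iSup_le
    intro hB
    refine le_trans ?_ (le_iSup₂_of_le B hB le_rfl)
    rw [(Cfsg.Agent.Helper5.mem_normalizer_iff_map_conj _ x).mp (hx B hB)]
  intro y hy
  exact hle ⟨y, hy, rfl⟩

theorem genComm_eq [Finite X] (A G : Subgroup X) (hAc : IsMulCommutative A)
    (hAG : A ≤ Subgroup.normalizer (G : Set X)) (hcop : (Nat.card A).Coprime (Nat.card G)) :
    genComm A G = ⁅G, A⁆ := by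
  have hcomm : ∀ x ∈ A, ∀ y ∈ A, x * y = y * x := by
    intro x hx y hy
    exact congrArg Subtype.val (hAc.is_comm.comm ⟨x, hx⟩ ⟨y, hy⟩)
  have hAsolv : Group.IsSolvable A := Cfsg.Agent.Helper1.isSolvable_of_isMulCommutative A
  apply le_antisymm
  · exact iSup₂_le fun B _ => Subgroup.commutator_mono inf_le_left le_rfl
  set L := genComm A G with hL
  set C := G ⊓ Subgroup.centralizer (A : Set X) with hC
  have hLG : L ≤ G := by
    refine iSup₂_le fun B _ => ?_
    refine (Subgroup.commutator_mono inf_le_left le_rfl).trans ?_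
    exact Subgroup.le_normalizer_iff_commutator_le_left.1 hAG
  -- A normalizes each C_G(B)
  have hAD : ∀ B ∈ fam A, A ≤ Subgroup.normalizer
      ((G ⊓ Subgroup.centralizer (B : Set X) : Subgroup X) : Set X) := by
    intro B hB
    apply Cfsg.Agent.Helper1.le_normalizer_inf hAG
    intro a ha
    exact mem_normalizer_centralizer B a (fun b hb => hcomm a ha b (hB.1 hb))
  -- each C_G(B) ≤ L ⊔ C
  have hD : ∀ B ∈ fam A, G ⊓ Subgroup.centralizer (B : Set X) ≤ L ⊔ C := by
    intro B hB
    have h1 := Cfsg.Agent.Helper1.coprime_commutator_sup_centralizer A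
      (G ⊓ Subgroup.centralizer (B : Set X)) (hAD B hB)
      (hcop.coprime_dvd_right (Subgroup.card_dvd_of_le inf_le_left)) (Or.inl hAsolv)
    rw [← h1]
    apply sup_le_sup
    · exact le_iSup₂_of_le B hB le_rfl
    · exact inf_le_inf_right _ inf_le_left
  have hG : G ≤ L ⊔ C := by
    have h1 := le_gen_all A hAc _ G rfl hAG hcop
    refine h1.trans ?_
    exact iSup₂_le fun B hB => hD B hB
  -- C normalizes L
  have hCL : C ≤ Subgroup.normalizer (L : Set X) := by
    intro c hc
    apply mem_normalizer_genComm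
    intro B hB
    apply Cfsg.Agent.Helper5.mem_normalizer_commutator
    · have hcG : c ∈ Subgroup.normalizer (G : Set X) := Subgroup.le_normalizer hc.1
      have hcB : c ∈ Subgroup.normalizer ((Subgroup.centralizer (B : Set X) : Subgroup X) : Set X) := by
        apply mem_normalizer_centralizer
        intro b hb
        exact ((Subgroup.mem_centralizer_iff.mp hc.2) b (hB.1 hb)).symm
      exact Cfsg.Agent.Helper1.le_normalizer_inf (A := Subgroup.zpowers c)
        (by rw [Subgroup.zpowers_le]; exact hcG) (by rw [Subgroup.zpowers_le]; exact hcB)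
        (Subgroup.mem_zpowers c)
    · exact (Subgroup.centralizer_le_normalizer (A : Set X)) hc.2
  have hAL : A ≤ Subgroup.normalizer (L : Set X) := by
    intro a ha
    apply mem_normalizer_genComm
    intro B hB
    exact Subgroup.normalizer_commutator_ge_right _ _ ha
  rw [Subgroup.commutator_le]
  intro g hg a ha
  obtain ⟨l, hl, c, hc, rfl⟩ := Cfsg.Agent.Helper1.mem_sup_of_le_normalizer hCL (hG hg)
  have hca : ⁅c, a⁆ = 1 := by
    rw [commutatorElement_eq_one_iff_mul_comm]
    exact (Subgroup.mem_centralizer_iff.1 hc.2 a ha).symm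
  rw [commutatorElement_mul_left_eq_conj_mul, hca, mul_one, mul_inv_cancel, one_mul]
  have h1 : a * l⁻¹ * a⁻¹ ∈ L := (Subgroup.mem_normalizer_iff.mp (hAL ha) l⁻¹).mp (L.inv_mem hl)
  have h2 : ⁅l, a⁆ = l * (a * l⁻¹ * a⁻¹) := by rw [commutatorElement_def]; group
  rw [h2]
  exact L.mul_mem hl h1

/-- Let A and G be subgroups of a finite group with A abelian, A normalizing G and the orders of A and G coprime. Then G is generated by the fixed-point subgroups C_G(B) of those subgroups B of A for which A/B is cyclic (that is, A = ⟨B, a⟩ for some a), and [G, A] is generated by the commutator subgroups [C_G(B), A] over the same subgroups B. -/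
theorem result {X : Type*} [Group X] [Finite X] (A G : Subgroup X) (hAab : IsMulCommutative A) (hAG : A ≤ Subgroup.normalizer (G : Set X)) (hcop : (Nat.card A).Coprime (Nat.card G)) : (⨆ B ∈ {B : Subgroup X | B ≤ A ∧ ∃ a ∈ A, B ⊔ Subgroup.zpowers a = A}, G ⊓ Subgroup.centralizer (B : Set X)) = G ∧ (⨆ B ∈ {B : Subgroup X | B ≤ A ∧ ∃ a ∈ A, B ⊔ Subgroup.zpowers a = A}, ⁅G ⊓ Subgroup.centralizer (B : Set X), A⁆) = ⁅G, A⁆ := by
  refine ⟨?_, ?_⟩
  · exact le_antisymm (gen_le A G) (le_gen_all A hAab _ G rfl hAG hcop)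
  · exact genComm_eq A G hAab hAG hcop


end Cfsg.Agent.S3734
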