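import Mathlib
import Cfsg.Statements.S0226
import Cfsg.Agent.Helper2.Invol

set_option autoImplicit false
open Cfsg

namespace Cfsg.Agent.S0226

open Cfsg.Agent.Helper2

/-- A finite group of even order has an odd number of involutions. -/
theorem result {G : Type*} [Group G] [Finite G] (heven : Even (Nat.card G)) : Odd (Nat.card {t : G // orderOf t = 2}) := by
  classical
  have := Fintype.ofFinite G
  have : Fact (Nat.Prime 2) := ⟨Nat.prime_two⟩
  let f : Function.End G := fun g => g⁻¹
  have hf : f ^ 2 ^ 1 = 1 := by
    rw [pow_one, pow_two]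
    funext g
    show (g⁻¹)⁻¹ = g
    exact inv_inv g
  have h1 := Equiv.Perm.card_fixedPoints_modEq (p := 2) (n := 1) hf
  have h2 : Nat.card {t : G // orderOf t = 2} =
      (Finset.univ.filter (fun g : G => orderOf g = 2)).card := by
    rw [Nat.card_eq_fintype_card]; exact Fintype.card_of_subtype _ (by simp)
  have h3 : Fintype.card (Function.fixedPoints f) =
      (Finset.univ.filter (fun g : G => g⁻¹ = g)).card := by
    apply Fintype.card_of_subtype
    intro g
    simp [Function.mem_fixedPoints, Function.IsFixedPt, f]
  have h4 : Finset.univ.filter (fun g : G => g⁻¹ = g) =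
      insert 1 (Finset.univ.filter (fun g : G => orderOf g = 2)) := by
    ext g
    simp only [Finset.mem_filter, Finset.mem_univ, true_and, Finset.mem_insert]
    constructor
    · intro h
      by_cases h1 : g = 1
      · left; exact h1
      · right
        apply orderOf_two_of_mul_self _ h1
        calc g * g = g⁻¹ * g := by rw [h]
          _ = 1 := inv_mul_cancel g
    · rintro (rfl | h)
      · simp
      · exact inv_eq_self_of_orderOf_two h
  have h5 : (1 : G) ∉ Finset.univ.filter (fun g : G => orderOf g = 2) := by
    simp
  rw [h3, h4, Finset.card_insert_of_notMem h5, ← h2, ← Nat.card_eq_fintype_card] at h1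
  -- h1 : Nat.card G ≡ I + 1 [MOD 2]
  have h6 : Nat.card G % 2 = 0 := Nat.even_iff.mp heven
  rw [Nat.odd_iff]
  have := h1
  unfold Nat.ModEq at this
  omega

end Cfsg.Agent.S0226
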