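import Mathlib
import Cfsg.Statements.S4065
import Cfsg.Statements.S4065
-- import your own Cfsg.Agent.* helpers here

set_option autoImplicit false
open Cfsg

namespace Cfsg.Agent.S4065
open Cfsg
universe u

theorem parallel {F : Type u} [Field F] (u1 u2 u3 w1 w2 w3 : F) (hu : u1 ≠ 0 ∨ u2 ≠ 0 ∨ u3 ≠ 0)
    (h12 : w1 * u2 = u1 * w2) (h13 : w1 * u3 = u1 * w3) (h23 : w2 * u3 = u2 * w3) :
    ∃ l : F, w1 = l * u1 ∧ w2 = l * u2 ∧ w3 = l * u3 := by
  rcases hu with h | h | h
  · refine ⟨w1 / u1, ?_, ?_, ?_⟩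
    · field_simp
    · field_simp; linear_combination -h12
    · field_simp; linear_combination -h13
  · refine ⟨w2 / u2, ?_, ?_, ?_⟩
    · field_simp; linear_combination h12
    · field_simp
    · field_simp; linear_combination -h23
  · refine ⟨w3 / u3, ?_, ?_, ?_⟩
    · field_simp; linear_combination h13
    · field_simp; linear_combination h23
    · field_simp

theorem param {F : Type u} [Field F] (X A : Matrix (Fin 2) (Fin 2) F)
    (hX : X 0 1 ≠ 0 ∨ X 0 0 - X 1 1 ≠ 0 ∨ X 1 0 ≠ 0) (hA : A * X = X * A) :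
    ∃ l : F, A 0 1 = l * X 0 1 ∧ A 0 0 - A 1 1 = l * (X 0 0 - X 1 1) ∧ A 1 0 = l * X 1 0 := by
  have a1 := congrFun (congrFun hA 0) 0
  have a2 := congrFun (congrFun hA 0) 1
  have a3 := congrFun (congrFun hA 1) 0
  simp only [Matrix.mul_apply, Fin.sum_univ_two] at a1 a2 a3
  apply parallel _ _ _ _ _ _ hX
  · linear_combination -a2
  · linear_combination a1
  · linear_combination -a3

theorem comm_of_comm_nonscalar {F : Type u} [Field F] (X A B : Matrix (Fin 2) (Fin 2) F)
    (hX : X 0 1 ≠ 0 ∨ X 0 0 - X 1 1 ≠ 0 ∨ X 1 0 ≠ 0) (hA : A * X = X * A) (hB : B * X = X * B) :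
    A * B = B * A := by
  obtain ⟨l, hl1, hl2, hl3⟩ := param X A hX hA
  obtain ⟨m, hm1, hm2, hm3⟩ := param X B hX hB
  have hA00 : A 0 0 = A 1 1 + l * (X 0 0 - X 1 1) := by linear_combination hl2
  have hB00 : B 0 0 = B 1 1 + m * (X 0 0 - X 1 1) := by linear_combination hm2
  ext i j
  fin_cases i <;> fin_cases j <;>
    simp only [Matrix.mul_apply, Fin.sum_univ_two, Fin.zero_eta, Fin.mk_one, Fin.isValue] <;>
    simp only [hA00, hB00, hl1, hl3, hm1, hm3] <;> ring

theorem sq_eq_one' {F : Type u} [Field F] [CharP F 2] (a : F) (h : a * a = 1) : a = 1 := by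
  have h2 : (a + 1) * (a + 1) = 0 := by
    have : (a + 1) * (a + 1) = a * a + (a + a) + 1 := by ring
    rw [this, h, CharTwo.add_self_eq_zero, add_zero, CharTwo.add_self_eq_zero]
  have h3 : a + 1 = 0 := by simpa using h2
  have : a = -1 := eq_neg_of_add_eq_zero_left h3
  rw [this, CharTwo.neg_eq]

section psl
variable (n : ℕ)

theorem center_eq_bot :
    Subgroup.center (Matrix.SpecialLinearGroup (Fin 2) (GaloisField 2 n)) = ⊥ := by
  rw [eq_bot_iff]
  intro A hA
  rw [Matrix.SpecialLinearGroup.mem_center_iff] at hA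
  obtain ⟨r, hr, hA⟩ := hA
  rw [Fintype.card_fin] at hr
  have hr1 : r = 1 := sq_eq_one' r (by rw [← sq]; exact hr)
  rw [Subgroup.mem_bot]
  apply Subtype.ext
  rw [← hA, hr1]; simp

theorem mk_injective : Function.Injective
    (QuotientGroup.mk' (Subgroup.center (Matrix.SpecialLinearGroup (Fin 2) (GaloisField 2 n)))) := by
  rw [← MonoidHom.ker_eq_bot_iff, QuotientGroup.ker_mk', center_eq_bot]

theorem nonscalar (X : Matrix.SpecialLinearGroup (Fin 2) (GaloisField 2 n)) (hX : X ≠ 1) :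
    X.1 0 1 ≠ 0 ∨ X.1 0 0 - X.1 1 1 ≠ 0 ∨ X.1 1 0 ≠ 0 := by
  by_contra h
  push Not at h
  obtain ⟨h1, h2, h3⟩ := h
  apply hX
  have hdet := X.2
  rw [Matrix.det_fin_two, h1, h3] at hdet
  have h00 : X.1 0 0 = X.1 1 1 := sub_eq_zero.1 h2
  have h11 : X.1 1 1 = 1 := sq_eq_one' _ (by rw [h00] at hdet; linear_combination hdet)
  apply Subtype.ext
  ext i j
  fin_cases i <;> fin_cases j <;> simp [h1, h3, h00, h11]

theorem CA (u a b : Matrix.ProjectiveSpecialLinearGroup (Fin 2) (GaloisField 2 n)) (hu : u ≠ 1)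
    (ha : a * u = u * a) (hb : b * u = u * b) : a * b = b * a := by
  obtain ⟨U, rfl⟩ := QuotientGroup.mk'_surjective _ u
  obtain ⟨A, rfl⟩ := QuotientGroup.mk'_surjective _ a
  obtain ⟨B, rfl⟩ := QuotientGroup.mk'_surjective _ b
  have hU : U ≠ 1 := by rintro rfl; exact hu (map_one _)
  rw [← map_mul, ← map_mul] at ha hb ⊢
  have hA := mk_injective n ha
  have hB := mk_injective n hb
  congr 1
  apply Subtype.ext
  have hA' : A.1 * U.1 = U.1 * A.1 := congrArg Subtype.val hA
  have hB' : B.1 * U.1 = U.1 * B.1 := congrArg Subtype.val hB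
  exact comm_of_comm_nonscalar U.1 A.1 B.1 (nonscalar n U hU) hA' hB'

end psl

theorem mem_cent {G : Type u} [Group G] {x c : G} :
    c ∈ Subgroup.centralizer ({x} : Set G) ↔ c * x = x * c := by
  rw [Subgroup.mem_centralizer_iff]
  constructor
  · intro h; exact (h x rfl).symm
  · intro h y hy
    rw [Set.mem_singleton_iff] at hy
    subst hy; exact h.symm

/-- Let F be a finite field with 2ⁿ elements, n ≥ 2. In PSL₂(F) the centralizer of every element meets each of its conjugates by elements outside its normalizer trivially. -/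
theorem result (n : ℕ) (hn : 2 ≤ n)
    (x : Matrix.ProjectiveSpecialLinearGroup (Fin 2) (GaloisField 2 n)) :
    Cfsg.IsTISubset (Subgroup.centralizer ({x} : Set (Matrix.ProjectiveSpecialLinearGroup (Fin 2) (GaloisField 2 n))) :
      Set (Matrix.ProjectiveSpecialLinearGroup (Fin 2) (GaloisField 2 n))) := by
  intro g hg y hy hgy
  by_contra hy1
  apply hg
  rw [SetLike.mem_coe, mem_cent] at hy hgy
  by_cases hx1 : x = 1
  · rw [Subgroup.mem_set_normalizer_iff]
    intro h
    simp only [SetLike.mem_coe, mem_cent, hx1, mul_one, one_mul]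
  have hy'1 : g * y * g⁻¹ ≠ 1 := by
    intro h
    apply hy1
    have : y = g⁻¹ * (g * y * g⁻¹) * g := by group
    rw [this, h]; group
  have h1 : ∀ c, c * x = x * c ↔ c * y = y * c := by
    intro c
    constructor
    · intro hc; exact CA n x c y hx1 hc hy
    · intro hc; exact CA n y c x hy1 hc hy.symm
  have h2 : ∀ c, c * x = x * c ↔ c * (g * y * g⁻¹) = (g * y * g⁻¹) * c := by
    intro c
    constructor
    · intro hc; exact CA n x c _ hx1 hc hgy
    · intro hc; exact CA n _ c x hy'1 hc hgy.symm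
  rw [Subgroup.mem_set_normalizer_iff]
  intro h
  rw [SetLike.mem_coe, SetLike.mem_coe, mem_cent, mem_cent, h1 h, h2 (g * h * g⁻¹)]
  constructor
  · intro hc
    calc g * h * g⁻¹ * (g * y * g⁻¹) = g * (h * y) * g⁻¹ := by group
      _ = g * (y * h) * g⁻¹ := by rw [hc]
      _ = _ := by group
  · intro hc
    have : h * y = g⁻¹ * (g * h * g⁻¹ * (g * y * g⁻¹)) * g := by group
    rw [this, hc]; group


end Cfsg.Agent.S4065
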