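import Mathlib
import Cfsg.Statements.S0674
import Cfsg.Agent.Helper2.BurnsidePrimeOrb

set_option autoImplicit false
open Cfsg

namespace Cfsg.Agent.S0674

open Cfsg.Agent.Helper2

/-- Let `G` be a non-solvable transitive permutation group of prime degree `p` and `K` a field of characteristic `p`. Then the heart of the permutation module is irreducible: an invariant subspace containing the constants and contained in the sum-zero functions is one or the other. -/
theorem result {α : Type*} [Fintype α] [DecidableEq α] {p : ℕ} [Fact p.Prime] (hα : Fintype.card α = p) (G : Subgroup (Equiv.Perm α)) [MulAction.IsPretransitive G α] (hG : ¬ Group.IsSolvable G) {K : Type*} [Field K] [CharP K p] (W : Subrepresentation (Cfsg.permRep K G α)) (h₁ : (Cfsg.permConstants K G α).toSubmodule ≤ W.toSubmodule) (h₂ : W.toSubmodule ≤ (Cfsg.permSumZero K G α).toSubmodule) : W = Cfsg.permConstants K G α ∨ W = Cfsg.permSumZero K G α := by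
    classical
    obtain ⟨τ, hτG, e, hτ⟩ := BurnsidePrime.exists_cycle_equiv hα G
    have hp1 : 1 < p := (Fact.out : p.Prime).one_lt
    have hWinv : ∀ g ∈ G, ∀ f ∈ W.toSubmodule, (fun x => f (g x)) ∈ W.toSubmodule := by
      intro g hg f hf
      have := W.apply_mem_toSubmodule (⟨g, hg⟩⁻¹ : G) hf
      have e1 : Cfsg.permRep K G α (⟨g, hg⟩⁻¹ : G) f = fun x => f (g x) := by
        ext x
        show f (((⟨g, hg⟩⁻¹ : G)⁻¹) • x) = f (g x)
        rw [inv_inv]; rfl
      rwa [e1] at this
    have hne : W.toSubmodule ≠ ⊥ := by
      intro h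
      have h3 : (fun _ => 1 : α → K) ∈ W.toSubmodule :=
        h₁ (Submodule.subset_span (Set.mem_singleton _))
      rw [h, Submodule.mem_bot] at h3
      have := congrFun h3 (e.symm 0)
      simp at this
    have hτ' : ∀ x, e.symm (e x + 1) = τ x := fun x => by
      rw [← hτ x, Equiv.symm_apply_apply]
    obtain ⟨j, hj, hWj⟩ := BurnsidePrime.eq_P_of_shift_invariant e W.toSubmodule
      (fun f hf => by simpa only [hτ'] using hWinv τ hτG f hf) hne
    have hinv : BurnsidePrime.InvG K e G j := by
      intro g hg f hf
      rw [← hWj] at hf ⊢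
      exact hWinv g hg f hf
    have hsz : (Cfsg.permSumZero K G α).toSubmodule = BurnsidePrime.P K e (p - 2) := by
      ext f
      rw [BurnsidePrime.mem_P_sumzero]
      rfl
    have hc : (Cfsg.permConstants K G α).toSubmodule = BurnsidePrime.P K e 0 := by
      rw [BurnsidePrime.P_zero]; rfl
    have hj2 : j ≤ p - 2 := by
      rw [hWj, hsz, BurnsidePrime.P_le_iff e hj (by omega)] at h₂
      exact h₂
    by_cases hmid : 1 ≤ j ∧ j + 3 ≤ p
    · exact absurd (BurnsidePrime.isSolvable_of_AffG e G
        (BurnsidePrime.AffG_of_InvG' e G hmid.1 hmid.2 hinv)) hG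
    · rcases (show j = 0 ∨ j = p - 2 by omega) with h | h
      · left
        apply Subrepresentation.toSubmodule_injective
        rw [hWj, hc, h]
      · right
        apply Subrepresentation.toSubmodule_injective
        rw [hWj, hsz, h]

end Cfsg.Agent.S0674
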