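import Mathlib
import Cfsg.Statements.S1013
import Cfsg.Agent.Helper2.PrimeDegSimple

set_option autoImplicit false
open Cfsg

namespace Cfsg.Agent.S1013

open Cfsg.Agent.Helper2

/-- Let G be a transitive permutation group of prime degree p having more than one Sylow p-subgroup, and suppose a Sylow p-subgroup P has prime index in its normalizer. Then G is simple. -/
theorem result {α : Type*} [Fintype α] [DecidableEq α] {p : ℕ} [Fact p.Prime] (hα : Fintype.card α = p) (G : Subgroup (Equiv.Perm α)) [MulAction.IsPretransitive ↥G α] (P : Sylow p ↥G) (hn : 1 < Nat.card (Sylow p ↥G)) (ht : (((P : Subgroup ↥G).subgroupOf (Subgroup.normalizer ((P : Subgroup ↥G) : Set ↥G))).index).Prime) : IsSimpleGroup ↥G := by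
    classical
    have hp : p.Prime := Fact.out
    have hcardα : Nat.card α = p := by rw [Nat.card_eq_fintype_card, hα]
    have hprim : MulAction.IsPreprimitive ↥G α :=
      MulAction.IsPreprimitive.of_prime_card (by rw [hcardα]; exact hp)
    obtain ⟨a⟩ : Nonempty α := Fintype.card_pos_iff.mp (by rw [hα]; exact hp.pos)
    have hA : ∀ K : Subgroup ↥G, K.Normal → K ≠ ⊥ → p ∣ Nat.card K := by
      intro K hKn hK
      have hfix : MulAction.fixedPoints K α ≠ Set.univ := by
        intro h
        apply hK
        rw [eq_bot_iff]
        intro k hk
        rw [Subgroup.mem_bot]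
        apply Subtype.ext
        apply Equiv.Perm.ext
        intro b
        have hb : b ∈ MulAction.fixedPoints K α := h ▸ Set.mem_univ b
        exact hb ⟨k, hk⟩
      have htr : MulAction.IsPretransitive K α :=
        MulAction.IsQuasiPreprimitive.isPretransitive_of_normal hfix
      have h1 := MulAction.index_stabilizer_of_transitive (G := K) (x := a)
      rw [hcardα] at h1
      rw [← h1]
      exact Subgroup.index_dvd_card _
    have hGdvd : Nat.card G ∣ p.factorial := by
      have := Subgroup.card_subgroup_dvd_card G
      rwa [Nat.card_eq_fintype_card (α := Equiv.Perm α), Fintype.card_perm, hα] at this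
    have hpG : p ∣ Nat.card G := by
      have h1 := MulAction.index_stabilizer_of_transitive (G := ↥G) (x := a)
      rw [hcardα] at h1
      rw [← h1]
      exact Subgroup.index_dvd_card _
    obtain ⟨m, hm⟩ := hpG
    have hnpm : ¬ p ∣ m := by
      intro h
      obtain ⟨j, hj⟩ := h
      rw [hm, hj] at hGdvd
      have hfac : p.factorial = p * (p - 1).factorial := by
        obtain ⟨q, rfl⟩ : ∃ q, p = q + 1 := ⟨p - 1, by have := hp.pos; omega⟩
        simp [Nat.factorial_succ]
      rw [hfac] at hGdvd
      have h1 := Nat.dvd_of_mul_dvd_mul_left hp.pos hGdvd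
      have h2 : p ∣ (p - 1).factorial := Dvd.dvd.trans ⟨j, rfl⟩ h1
      rw [hp.dvd_factorial] at h2
      have := hp.pos
      omega
    have hPcard : Nat.card P = p := SylowExact.card_sylow_of_exact hm hnpm P
    have hnt : Nontrivial ↥G := by
      rw [← Finite.one_lt_card_iff_nontrivial, hm]
      have hm0 : 0 < m := by
        rcases Nat.eq_zero_or_pos m with h | h
        · rw [h, mul_zero] at hm
          have : 0 < Nat.card G := Nat.card_pos
          omega
        · exact h
      have := hp.two_le
      nlinarith
    exact { exists_pair_ne := hnt.exists_pair_ne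
            eq_bot_or_eq_top_of_normal := fun K hK =>
              PrimeDegSimple.normal_eq_bot_or_top P hPcard hA hn ht K hK }

end Cfsg.Agent.S1013
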