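import Cfsg.Statements.S2564
import Cfsg.Agent.S2620

set_option autoImplicit false
open Cfsg

namespace Cfsg.Agent.S2564
open Cfsg.Agent.Helper8 Matrix

/-- the space -/
abbrev V (m : ℕ) := Fin m ⊕ Fin m → ZMod 2

/-- polar form of the plus form -/
def pol (m : ℕ) (u v : V m) : ZMod 2 :=
  Cfsg.quadFormPlus m (ZMod 2) (u + v) - Cfsg.quadFormPlus m (ZMod 2) u - Cfsg.quadFormPlus m (ZMod 2) v

theorem pol_eq (m : ℕ) (u v : V m) : pol m u v = u ⬝ᵥ (hypMat (ZMod 2) m *ᵥ v) :=
  S2620.polar_quadFormPlus m u v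

theorem pol_add_left (m : ℕ) (u u' v : V m) : pol m (u + u') v = pol m u v + pol m u' v := by
  rw [pol_eq, pol_eq, pol_eq, add_dotProduct]

theorem pol_add_right (m : ℕ) (u v v' : V m) : pol m u (v + v') = pol m u v + pol m u v' := by
  rw [pol_eq, pol_eq, pol_eq, Matrix.mulVec_add, dotProduct_add]

theorem pol_smul_left (m : ℕ) (c : ZMod 2) (u v : V m) : pol m (c • u) v = c * pol m u v := by
  rw [pol_eq, pol_eq, smul_dotProduct, smul_eq_mul]

theorem pol_smul_right (m : ℕ) (c : ZMod 2) (u v : V m) : pol m u (c • v) = c * pol m u v := by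
  rw [pol_eq, pol_eq, Matrix.mulVec_smul, dotProduct_smul, smul_eq_mul]

theorem pol_zero_right (m : ℕ) (u : V m) : pol m u 0 = 0 := by
  rw [pol_eq, Matrix.mulVec_zero, dotProduct_zero]

theorem pol_self (m : ℕ) (u : V m) : pol m u u = 0 := by
  unfold pol
  have h : u + u = 0 := by
    funext k
    exact CharTwo.add_self_eq_zero (u k)
  rw [h]
  have h0 : Cfsg.quadFormPlus m (ZMod 2) 0 = 0 := by simp [Cfsg.quadFormPlus]
  rw [h0, zero_sub, ← neg_add', CharTwo.add_self_eq_zero, neg_zero]

theorem hyp_mulVec_inl (m : ℕ) (t : V m) (i : Fin m) :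
    (hypMat (ZMod 2) m *ᵥ t) (Sum.inl i) = t (Sum.inr i) := by
  rw [hypMat, Matrix.fromBlocks_mulVec]
  simp

theorem hyp_mulVec_inr (m : ℕ) (t : V m) (i : Fin m) :
    (hypMat (ZMod 2) m *ᵥ t) (Sum.inr i) = t (Sum.inl i) := by
  rw [hypMat, Matrix.fromBlocks_mulVec]
  simp

theorem zmod2_eq_one_of_ne_zero (x : ZMod 2) (h : x ≠ 0) : x = 1 := by
  revert h; revert x; decide

theorem exists_pol_eq_one (m : ℕ) (t : V m) (ht : t ≠ 0) : ∃ u₀ : V m, pol m u₀ t = 1 := by
  obtain ⟨k, hk⟩ := Function.ne_iff.mp ht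
  have hk1 : t k = 1 := zmod2_eq_one_of_ne_zero _ hk
  rcases k with i | i
  · refine ⟨Pi.single (Sum.inr i) 1, ?_⟩
    rw [pol_eq, single_dotProduct, one_mul, hyp_mulVec_inr, hk1]
  · refine ⟨Pi.single (Sum.inl i) 1, ?_⟩
    rw [pol_eq, single_dotProduct, one_mul, hyp_mulVec_inl, hk1]

/-- the sign character of `ZMod 2` -/
def chi (x : ZMod 2) : ℤ := if x = 0 then 1 else -1

theorem chi_add : ∀ x y : ZMod 2, chi (x + y) = chi x * chi y := by decide

theorem chi_zero : chi 0 = 1 := by decide

theorem chi_one : chi 1 = -1 := by decide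

theorem chi_of_ne_zero (x : ZMod 2) (h : x ≠ 0) : chi x = -1 := by
  rw [zmod2_eq_one_of_ne_zero x h, chi_one]

theorem sum_chi_pol (m : ℕ) (t : V m) :
    ∑ u : V m, chi (pol m u t) = if t = 0 then (Fintype.card (V m) : ℤ) else 0 := by
  by_cases ht : t = 0
  · rw [if_pos ht, ht]
    simp [pol_zero_right, chi_zero]
  · rw [if_neg ht]
    obtain ⟨u₀, hu₀⟩ := exists_pol_eq_one m t ht
    have h1 : ∑ u : V m, chi (pol m u t) = ∑ u : V m, chi (pol m (u + u₀) t) :=
      (Equiv.sum_comp (Equiv.addRight u₀) (fun u => chi (pol m u t))).symm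
    have h2 : ∑ u : V m, chi (pol m (u + u₀) t) = - ∑ u : V m, chi (pol m u t) := by
      rw [← Finset.sum_neg_distrib]
      apply Finset.sum_congr rfl
      intro u _
      rw [pol_add_left, hu₀, chi_add, chi_one]
      ring
    linarith

/-- the character sum of a function -/
def S (m : ℕ) (q : V m → ZMod 2) : ℤ := ∑ v : V m, chi (q v)

theorem S_sq (m : ℕ) (q : V m → ZMod 2) (hq : ∀ u v, q (u + v) = q u + q v + pol m u v) :
    S m q * S m q = (Fintype.card (V m) : ℤ) := by
  have hq0 : q 0 = 0 := by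
    have := hq 0 0
    rw [add_zero, pol_zero_right, add_zero, CharTwo.add_self_eq_zero] at this
    exact this
  unfold S
  rw [Finset.sum_mul_sum]
  have h1 : ∀ u : V m, ∑ v : V m, chi (q u) * chi (q v) = ∑ t : V m, chi (q t) * chi (pol m u t) := by
    intro u
    rw [← Equiv.sum_comp (Equiv.addLeft u) (fun v => chi (q u) * chi (q v))]
    apply Finset.sum_congr rfl
    intro t _
    simp only [Equiv.coe_addLeft]
    rw [hq u t, ← chi_add, ← chi_add]
    congr 1
    have : q u + (q u + q t + pol m u t) = (q u + q u) + (q t + pol m u t) := by ring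
    rw [this, CharTwo.add_self_eq_zero, zero_add]
  rw [Finset.sum_congr rfl (fun u _ => h1 u), Finset.sum_comm]
  simp_rw [← Finset.mul_sum, sum_chi_pol]
  simp [hq0, chi_zero]

/-- On the 2m-dimensional space over the field of two elements (m ≥ 1) let f be the alternating form obtained by polarizing the plus-type form Σ xᵢyᵢ, and let q be any quadratic form polarizing to f. For a vector w, the function q + f(·, w) again polarizes to f, and it is equivalent to q under an invertible linear map (that is, has the same type) if and only if q(w) = 0. -/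
theorem result (m : ℕ) (hm : 1 ≤ m) (q : (Fin m ⊕ Fin m → ZMod 2) → ZMod 2) (hq : (∀ u v : (Fin m ⊕ Fin m → ZMod 2), q (u + v) = q u + q v + (Cfsg.quadFormPlus m (ZMod 2) (u + v) - Cfsg.quadFormPlus m (ZMod 2) u - Cfsg.quadFormPlus m (ZMod 2) v))) (w : (Fin m ⊕ Fin m → ZMod 2)) :
    (∀ u v : (Fin m ⊕ Fin m → ZMod 2), (q (u + v) + (Cfsg.quadFormPlus m (ZMod 2) (u + v + w) - Cfsg.quadFormPlus m (ZMod 2) (u + v) - Cfsg.quadFormPlus m (ZMod 2) w)) =
        (q u + (Cfsg.quadFormPlus m (ZMod 2) (u + w) - Cfsg.quadFormPlus m (ZMod 2) u - Cfsg.quadFormPlus m (ZMod 2) w)) + (q v + (Cfsg.quadFormPlus m (ZMod 2) (v + w) - Cfsg.quadFormPlus m (ZMod 2) v - Cfsg.quadFormPlus m (ZMod 2) w)) +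
        (Cfsg.quadFormPlus m (ZMod 2) (u + v) - Cfsg.quadFormPlus m (ZMod 2) u - Cfsg.quadFormPlus m (ZMod 2) v)) ∧
    ((∃ g : (Fin m ⊕ Fin m → ZMod 2) ≃ₗ[ZMod 2] (Fin m ⊕ Fin m → ZMod 2), ∀ v, q v + (Cfsg.quadFormPlus m (ZMod 2) (v + w) - Cfsg.quadFormPlus m (ZMod 2) v - Cfsg.quadFormPlus m (ZMod 2) w) = q (g v)) ↔ q w = 0) := by
  have hq' : ∀ u v : V m, q (u + v) = q u + q v + pol m u v := hq
  have hq0 : q 0 = 0 := by
    have := hq' 0 0
    rw [add_zero, pol_zero_right, add_zero, CharTwo.add_self_eq_zero] at this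
    exact this
  refine ⟨?_, ?_⟩
  · intro u v
    change q (u + v) + pol m (u + v) w = (q u + pol m u w) + (q v + pol m v w) + pol m u v
    rw [hq', pol_add_left]
    ring
  · change (∃ g : V m ≃ₗ[ZMod 2] V m, ∀ v, q v + pol m v w = q (g v)) ↔ q w = 0
    constructor
    · rintro ⟨g, hg⟩
      by_contra hw
      have hchi : chi (q w) = -1 := chi_of_ne_zero _ hw
      have h1 : S m q = ∑ v : V m, chi (q (g v)) :=
        (Equiv.sum_comp g.toEquiv (fun v => chi (q v))).symm
      have h2 : ∑ v : V m, chi (q (g v)) = chi (q w) * S m q := by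
        unfold S
        rw [Finset.mul_sum, ← Equiv.sum_comp (Equiv.addRight w) (fun v => chi (q w) * chi (q v))]
        apply Finset.sum_congr rfl
        intro v _
        simp only [Equiv.coe_addRight]
        rw [← hg v, ← chi_add, hq' v w]
        congr 1
        have : q w + (q v + q w + pol m v w) = (q w + q w) + (q v + pol m v w) := by ring
        rw [this, CharTwo.add_self_eq_zero, zero_add]
      rw [h2, hchi] at h1
      have hS0 : S m q = 0 := by linarith
      have hsq := S_sq m q hq'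
      rw [hS0, mul_zero] at hsq
      have hpos : (0 : ℤ) < (Fintype.card (V m) : ℤ) := by
        exact_mod_cast Fintype.card_pos
      linarith
    · intro hw
      let φ : V m →ₗ[ZMod 2] V m :=
        { toFun := fun v => v + pol m v w • w
          map_add' := by
            intro u v
            rw [pol_add_left, add_smul]
            abel
          map_smul' := by
            intro c v
            simp only [RingHom.id_apply]
            rw [pol_smul_left, smul_add, smul_smul] }
      have hφ : ∀ v, φ v = v + pol m v w • w := fun v => rfl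
      have hinv : Function.Involutive φ := by
        intro v
        rw [hφ, hφ, pol_add_left, pol_smul_left, pol_self, mul_zero, add_zero, add_assoc,
          ← add_smul, CharTwo.add_self_eq_zero, zero_smul, add_zero]
      refine ⟨LinearEquiv.ofInvolutive φ hinv, ?_⟩
      intro v
      rw [LinearEquiv.coe_ofInvolutive, hφ, hq', pol_smul_right]
      have hqp : q (pol m v w • w) = 0 := by
        by_cases hp : pol m v w = 0
        · rw [hp, zero_smul, hq0]
        · rw [zmod2_eq_one_of_ne_zero _ hp, one_smul, hw]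
      rw [hqp, add_zero]
      congr 1
      have : ∀ x : ZMod 2, x * x = x := by decide
      rw [this]

end Cfsg.Agent.S2564
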