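import Cfsg.Statements.S2561
import Cfsg.Agent.Helper8.QuadF2

set_option autoImplicit false
open Cfsg

namespace Cfsg.Agent.S2561
open Cfsg.Agent.S2564 Cfsg.Agent.Helper8.QuadF2

/-- transport of cardinalities along the parametrization `w ↦ qw w` -/
theorem card_param (m : ℕ) (P : (V m → ZMod 2) → Prop) (R : V m → Prop)
    (h : ∀ q, P q ↔ ∃ w, R w ∧ q = qw m w) :
    Nat.card {q // P q} = Nat.card {w // R w} := by
  symm
  apply Nat.card_congr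
  refine Equiv.ofBijective (fun w => ⟨qw m w.1, (h _).mpr ⟨w.1, w.2, rfl⟩⟩) ⟨?_, ?_⟩
  · intro w w' hww
    apply Subtype.ext
    exact qw_injective m (congrArg Subtype.val hww)
  · rintro ⟨q, hq⟩
    obtain ⟨w, hw, rfl⟩ := (h q).mp hq
    exact ⟨⟨w, hw⟩, rfl⟩

/-- polarizing to `pol` -/
def Pol (m : ℕ) (q : V m → ZMod 2) : Prop := ∀ u v, q (u + v) = q u + q v + pol m u v

/-- plus type -/
def P1 (m : ℕ) (q : V m → ZMod 2) : Prop := ∃ g : V m ≃ₗ[ZMod 2] V m, ∀ v, q v = Q0 m (g v)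

/-- minus type -/
def P2 (m : ℕ) (q : V (m + 1) → ZMod 2) : Prop :=
  ∃ g : V (m + 1) ≃ₗ[ZMod 2] V' m, ∀ v, q v = Qm m (g v)

theorem pol_iff (m : ℕ) (q : V m → ZMod 2) : Pol m q ↔ ∃ w, True ∧ q = qw m w := by
  constructor
  · intro h
    obtain ⟨w, hw⟩ := exists_qw m q h
    exact ⟨w, trivial, hw⟩
  · rintro ⟨w, -, rfl⟩
    exact hqw m w

theorem plus_iff (m : ℕ) (hm : 1 ≤ m) (w : V m) : P1 m (qw m w) ↔ Q0 m w = 0 :=
  (S2564.result m hm (Q0 m) (hQ0 m) w).2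

theorem minus_iff (m : ℕ) (w : V (m + 1)) : P2 m (qw (m + 1) w) ↔ Q0 (m + 1) w ≠ 0 := by
  constructor
  · rintro ⟨g, hg⟩ h0
    have h1 : ∑ v : V (m + 1), chi (qw (m + 1) w v) = -(2 : ℤ) ^ (m + 1) := by
      rw [← S_minus m, ← Equiv.sum_comp g.toEquiv (fun v => chi (Qm m v))]
      apply Finset.sum_congr rfl
      intro v _
      rw [hg v]
      rfl
    have h2 : ∑ v : V (m + 1), chi (qw (m + 1) w v) = (2 : ℤ) ^ (m + 1) := by
      have := S_shift (m + 1) (Q0 (m + 1)) (hQ0 (m + 1)) w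
      rw [h0, chi_zero, one_mul, S_plus] at this
      exact this
    have hpos : (0 : ℤ) < 2 ^ (m + 1) := by positivity
    linarith
  · intro hw
    have hw1 : Q0 (m + 1) w = 1 := zmod2_eq_one_of_ne_zero _ hw
    set q₀ := qw (m + 1) (w0 m) with hq₀
    have hzero : q₀ (w + w0 m) = 0 := by
      rw [hq₀]
      unfold qw
      rw [hQ0, pol_add_left, pol_self, hw1, Q0_w0, add_zero]
      have : pol (m + 1) w (w0 m) + pol (m + 1) w (w0 m) = 0 := CharTwo.add_self_eq_zero _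
      have h11 : (1 : ZMod 2) + 1 = 0 := by decide
      linear_combination this + h11
    obtain ⟨g, hg⟩ := (S2564.result (m + 1) (by omega) q₀ (hqw (m + 1) (w0 m)) (w + w0 m)).2.mpr hzero
    refine ⟨g.trans (hEquiv m), ?_⟩
    intro v
    have h3 := hg v
    change q₀ v + pol (m + 1) v (w + w0 m) = q₀ (g v) at h3
    rw [LinearEquiv.trans_apply, Qm_hEquiv, ← hq₀, ← h3, hq₀]
    unfold qw
    rw [pol_add_right]
    have : pol (m + 1) v (w0 m) + pol (m + 1) v (w0 m) = 0 := CharTwo.add_self_eq_zero _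
    linear_combination -this

theorem card_V (m : ℕ) : Nat.card (V m) = 2 ^ (2 * m) := by
  rw [Nat.card_eq_fintype_card, Fintype.card_fun, Fintype.card_sum, Fintype.card_fin, ZMod.card]
  ring_nf

theorem card_zeros_Q0 (m : ℕ) :
    Nat.card {w : V (m + 1) // Q0 (m + 1) w = 0} = 2 ^ (2 * m + 1) + 2 ^ m := by
  have h := card_zeros (m + 1) (Q0 (m + 1))
  rw [S_plus] at h
  have h2 : (2 : ℤ) * (Nat.card {w : V (m + 1) // Q0 (m + 1) w = 0} : ℤ) =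
      2 * ((2 ^ (2 * m + 1) + 2 ^ m : ℕ) : ℤ) := by
    rw [h]
    push_cast
    ring
  have h3 := mul_left_cancel₀ (two_ne_zero) h2
  exact_mod_cast h3

theorem card_nonzeros_Q0 (m : ℕ) :
    Nat.card {w : V (m + 1) // Q0 (m + 1) w ≠ 0} = 2 ^ (2 * m + 1) - 2 ^ m := by
  classical
  have h1 : Nat.card {w : V (m + 1) // Q0 (m + 1) w ≠ 0} =
      Nat.card (V (m + 1)) - Nat.card {w : V (m + 1) // Q0 (m + 1) w = 0} := by
    rw [Nat.card_eq_fintype_card, Nat.card_eq_fintype_card, Nat.card_eq_fintype_card]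
    exact Fintype.card_subtype_compl _
  rw [h1, card_V, card_zeros_Q0]
  have : 2 ^ (2 * (m + 1)) = 2 ^ (2 * m + 1) + 2 ^ (2 * m + 1) := by ring
  rw [this]
  omega

theorem main (m : ℕ) :
    Nat.card {q : V (m + 1) → ZMod 2 // Pol (m + 1) q} = 2 ^ (2 * (m + 1)) ∧
    (∀ q : V (m + 1) → ZMod 2, Pol (m + 1) q → P1 (m + 1) q ∨ P2 m q) ∧
    Nat.card {q : V (m + 1) → ZMod 2 // Pol (m + 1) q ∧ P1 (m + 1) q} =
      2 ^ (2 * (m + 1) - 1) + 2 ^ (m + 1 - 1) ∧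
    Nat.card {q : V (m + 1) → ZMod 2 // Pol (m + 1) q ∧ P2 m q} =
      2 ^ (2 * (m + 1) - 1) - 2 ^ (m + 1 - 1) := by
  have e1 : 2 * (m + 1) - 1 = 2 * m + 1 := by omega
  have e2 : m + 1 - 1 = m := by omega
  rw [e1, e2]
  refine ⟨?_, ?_, ?_, ?_⟩
  · rw [card_param (m + 1) (Pol (m + 1)) (fun _ => True) (pol_iff (m + 1))]
    rw [← card_V (m + 1)]
    exact Nat.card_congr (Equiv.subtypeUnivEquiv (fun _ => trivial))
  · intro q hq
    obtain ⟨w, -, rfl⟩ := (pol_iff (m + 1) q).mp hq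
    by_cases hw : Q0 (m + 1) w = 0
    · exact Or.inl ((plus_iff (m + 1) (by omega) w).mpr hw)
    · exact Or.inr ((minus_iff m w).mpr hw)
  · rw [card_param (m + 1) (fun q => Pol (m + 1) q ∧ P1 (m + 1) q) (fun w => Q0 (m + 1) w = 0), card_zeros_Q0]
    intro q
    constructor
    · rintro ⟨hq, hp⟩
      obtain ⟨w, -, rfl⟩ := (pol_iff (m + 1) q).mp hq
      exact ⟨w, (plus_iff (m + 1) (by omega) w).mp hp, rfl⟩
    · rintro ⟨w, hw, rfl⟩
      exact ⟨hqw (m + 1) w, (plus_iff (m + 1) (by omega) w).mpr hw⟩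
  · rw [card_param (m + 1) (fun q => Pol (m + 1) q ∧ P2 m q) (fun w => Q0 (m + 1) w ≠ 0), card_nonzeros_Q0]
    intro q
    constructor
    · rintro ⟨hq, hp⟩
      obtain ⟨w, -, rfl⟩ := (pol_iff (m + 1) q).mp hq
      exact ⟨w, (minus_iff m w).mp hp, rfl⟩
    · rintro ⟨w, hw, rfl⟩
      exact ⟨hqw (m + 1) w, (minus_iff m w).mpr hw⟩

/-- Fix the non-singular alternating form on the 2m-dimensional space over the field of two elements obtained by polarizing the plus-type form Σ xᵢyᵢ (m ≥ 1). The functions q on the space with q(u + v) = q(u) + q(v) + f(u, v) (the quadratic forms polarizing to f) number 2^(2m); each is equivalent under an invertible linear map either to the plus-type form or to the minus-type form Σ xᵢyᵢ + (z₁² + z₁z₂ + z₂²); and those of plus type number 2^(2m−1) + 2^(m−1), those of minus type 2^(2m−1) − 2^(m−1). -/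
theorem result (m : ℕ) (hm : 1 ≤ m) :
    Nat.card {q : (Fin m ⊕ Fin m → ZMod 2) → ZMod 2 // (∀ u v : (Fin m ⊕ Fin m → ZMod 2), q (u + v) = q u + q v + (Cfsg.quadFormPlus m (ZMod 2) (u + v) - Cfsg.quadFormPlus m (ZMod 2) u - Cfsg.quadFormPlus m (ZMod 2) v))} = 2 ^ (2 * m) ∧
    (∀ q : (Fin m ⊕ Fin m → ZMod 2) → ZMod 2, (∀ u v : (Fin m ⊕ Fin m → ZMod 2), q (u + v) = q u + q v + (Cfsg.quadFormPlus m (ZMod 2) (u + v) - Cfsg.quadFormPlus m (ZMod 2) u - Cfsg.quadFormPlus m (ZMod 2) v)) →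
      (∃ g : (Fin m ⊕ Fin m → ZMod 2) ≃ₗ[ZMod 2] (Fin m ⊕ Fin m → ZMod 2), ∀ v, q v = Cfsg.quadFormPlus m (ZMod 2) (g v)) ∨
      (∃ g : (Fin m ⊕ Fin m → ZMod 2) ≃ₗ[ZMod 2] ((Fin (m - 1) ⊕ Fin (m - 1)) ⊕ Fin 2 → ZMod 2), ∀ v, q v = Cfsg.quadFormMinus (m - 1) (ZMod 2) 1 1 (g v))) ∧
    Nat.card {q : (Fin m ⊕ Fin m → ZMod 2) → ZMod 2 // (∀ u v : (Fin m ⊕ Fin m → ZMod 2), q (u + v) = q u + q v + (Cfsg.quadFormPlus m (ZMod 2) (u + v) - Cfsg.quadFormPlus m (ZMod 2) u - Cfsg.quadFormPlus m (ZMod 2) v)) ∧ ∃ g : (Fin m ⊕ Fin m → ZMod 2) ≃ₗ[ZMod 2] (Fin m ⊕ Fin m → ZMod 2), ∀ v, q v = Cfsg.quadFormPlus m (ZMod 2) (g v)} = 2 ^ (2 * m - 1) + 2 ^ (m - 1) ∧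
    Nat.card {q : (Fin m ⊕ Fin m → ZMod 2) → ZMod 2 // (∀ u v : (Fin m ⊕ Fin m → ZMod 2), q (u + v) = q u + q v + (Cfsg.quadFormPlus m (ZMod 2) (u + v) - Cfsg.quadFormPlus m (ZMod 2) u - Cfsg.quadFormPlus m (ZMod 2) v)) ∧ ∃ g : (Fin m ⊕ Fin m → ZMod 2) ≃ₗ[ZMod 2] ((Fin (m - 1) ⊕ Fin (m - 1)) ⊕ Fin 2 → ZMod 2), ∀ v, q v = Cfsg.quadFormMinus (m - 1) (ZMod 2) 1 1 (g v)} = 2 ^ (2 * m - 1) - 2 ^ (m - 1) := by
  obtain ⟨m', rfl⟩ : ∃ m', m = m' + 1 := ⟨m - 1, by omega⟩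
  exact main m'

end Cfsg.Agent.S2561
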