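import Cfsg.Statements.S2562
import Cfsg.Agent.Helper8.QuadF2TS

set_option autoImplicit false
open Cfsg

namespace Cfsg.Agent.S2562
open Cfsg.Agent.S2564 Cfsg.Agent.Helper8.QuadF2 Module

/-- a totally singular subspace has dimension at most `m` -/
theorem finrank_le_of_ts (m : ℕ) (q : V m → ZMod 2)
    (hq : ∀ u v, q (u + v) = q u + q v + pol m u v) (U : Submodule (ZMod 2) (V m))
    (hU : ∀ u ∈ U, q u = 0) : finrank (ZMod 2) U ≤ m := by
  have h := card_sq_le m U q hq hU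
  rw [card_UF] at h
  have h2 : (2 : ℕ) ^ (finrank (ZMod 2) U + finrank (ZMod 2) U) ≤ 2 ^ (2 * m) := by
    rw [pow_add]
    exact_mod_cast h
  have h3 := (Nat.pow_le_pow_iff_right (by norm_num : 1 < 2)).mp h2
  omega

/-- the standard totally singular subspace of the plus form -/
theorem exists_ts_plus (m : ℕ) :
    ∃ U : Submodule (ZMod 2) (V m), (∀ u ∈ U, Q0 m u = 0) ∧ finrank (ZMod 2) U = m := by
  let f : V m →ₗ[ZMod 2] (Fin m → ZMod 2) :=
    LinearMap.funLeft (ZMod 2) (ZMod 2) (Sum.inr : Fin m → Fin m ⊕ Fin m)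
  refine ⟨LinearMap.ker f, ?_, ?_⟩
  · intro u hu
    rw [LinearMap.mem_ker] at hu
    have h1 : ∀ i, u (Sum.inr i) = 0 := fun i => congrFun hu i
    show Cfsg.quadFormPlus m (ZMod 2) u = 0
    unfold Cfsg.quadFormPlus
    apply Finset.sum_eq_zero
    intro i _
    rw [h1, mul_zero]
  · have h1 := LinearMap.finrank_range_add_finrank_ker f
    have h2 : LinearMap.range f = ⊤ :=
      LinearMap.range_eq_top.mpr (LinearMap.funLeft_surjective_of_injective _ _ _ Sum.inr_injective)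
    rw [h2, finrank_top] at h1
    simp only [Module.finrank_fintype_fun_eq_card, Fintype.card_sum, Fintype.card_fin] at h1
    omega

/-- the standard totally singular subspace of the minus form -/
theorem exists_ts_minus (m : ℕ) :
    ∃ U : Submodule (ZMod 2) (V' m), (∀ u ∈ U, Qm m u = 0) ∧ finrank (ZMod 2) U = m := by
  let j : Fin m ⊕ Fin 2 → (Fin m ⊕ Fin m) ⊕ Fin 2 :=
    Sum.elim (fun i => Sum.inl (Sum.inr i)) (fun z => Sum.inr z)
  have hj : Function.Injective j := by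
    rintro (a | a) (b | b) h <;> simp [j] at h <;> simp [h]
  let f : V' m →ₗ[ZMod 2] (Fin m ⊕ Fin 2 → ZMod 2) := LinearMap.funLeft (ZMod 2) (ZMod 2) j
  refine ⟨LinearMap.ker f, ?_, ?_⟩
  · intro u hu
    rw [LinearMap.mem_ker] at hu
    have h1 : ∀ i, u (Sum.inl (Sum.inr i)) = 0 := fun i => congrFun hu (Sum.inl i)
    have h2 : ∀ z, u (Sum.inr z) = 0 := fun z => congrFun hu (Sum.inr z)
    show Cfsg.quadFormMinus m (ZMod 2) 1 1 u = 0
    unfold Cfsg.quadFormMinus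
    rw [h2, h2]
    simp [h1]
  · have h1 := LinearMap.finrank_range_add_finrank_ker f
    have h2 : LinearMap.range f = ⊤ :=
      LinearMap.range_eq_top.mpr (LinearMap.funLeft_surjective_of_injective _ _ _ hj)
    rw [h2, finrank_top] at h1
    simp only [Module.finrank_fintype_fun_eq_card, Fintype.card_sum, Fintype.card_fin] at h1
    omega

/-- the character sum of the minus form in the coordinates of the plus form -/
theorem S_qw0 (m : ℕ) : S (m + 1) (qw (m + 1) (w0 m)) = -(2 : ℤ) ^ (m + 1) := by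
  have h := S_shift (m + 1) (Q0 (m + 1)) (hQ0 (m + 1)) (w0 m)
  rw [Q0_w0, chi_one, S_plus] at h
  unfold S qw
  rw [h]
  ring

theorem finrank_le_minus (m : ℕ) (U' : Submodule (ZMod 2) (V' m)) (hU' : ∀ u ∈ U', Qm m u = 0) :
    finrank (ZMod 2) U' ≤ m := by
  set U : Submodule (ZMod 2) (V (m + 1)) := U'.comap (hEquiv m).toLinearMap with hUdef
  have hfin : finrank (ZMod 2) U = finrank (ZMod 2) U' :=
    LinearEquiv.finrank_eq (LinearEquiv.ofSubmodule' (hEquiv m) U')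
  have hU : ∀ u ∈ U, qw (m + 1) (w0 m) u = 0 := by
    intro u hu
    rw [← Qm_hEquiv]
    exact hU' _ hu
  have hq := hqw (m + 1) (w0 m)
  have h1 := finrank_le_of_ts (m + 1) _ hq U hU
  have h2 := S_mul_card_ge (m + 1) U _ hq hU
  rw [card_UF, S_qw0] at h2
  rw [← hfin]
  by_contra hcon
  have hk : finrank (ZMod 2) U = m + 1 := by omega
  rw [hk] at h2
  have hA : (0 : ℤ) < 2 ^ (m + 1) := by positivity
  have hB : (2 : ℤ) ^ (2 * (m + 1)) = 2 ^ (m + 1) * 2 ^ (m + 1) := by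
    rw [← pow_add]
    congr 1
    omega
  push_cast at h2
  rw [hB] at h2
  nlinarith

theorem main (m : ℕ) :
    (∃ U : Submodule (ZMod 2) (V (m + 1)), (∀ u ∈ U, Q0 (m + 1) u = 0) ∧ finrank (ZMod 2) ↥U = m + 1) ∧
    (∀ U : Submodule (ZMod 2) (V (m + 1)), (∀ u ∈ U, Q0 (m + 1) u = 0) → finrank (ZMod 2) ↥U ≤ m + 1) ∧
    (∃ U : Submodule (ZMod 2) (V' m), (∀ u ∈ U, Qm m u = 0) ∧ finrank (ZMod 2) ↥U = m) ∧
    (∀ U : Submodule (ZMod 2) (V' m), (∀ u ∈ U, Qm m u = 0) → finrank (ZMod 2) ↥U ≤ m) :=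
  ⟨exists_ts_plus (m + 1), fun U hU => finrank_le_of_ts (m + 1) _ (hQ0 (m + 1)) U hU,
    exists_ts_minus m, finrank_le_minus m⟩

/-- Witt indices over the field of two elements, m ≥ 1: for the plus-type form Σ xᵢyᵢ in dimension 2m some m-dimensional subspace is totally singular and no totally singular subspace has larger dimension; for the minus-type form Σ xᵢyᵢ + (z₁² + z₁z₂ + z₂²) in dimension 2m the maximal dimension of a totally singular subspace is m − 1. -/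
theorem result (m : ℕ) (hm : 1 ≤ m) :
    (∃ U : Submodule (ZMod 2) (Fin m ⊕ Fin m → ZMod 2), (∀ u ∈ U, Cfsg.quadFormPlus m (ZMod 2) u = 0) ∧ Module.finrank (ZMod 2) ↥U = m) ∧
    (∀ U : Submodule (ZMod 2) (Fin m ⊕ Fin m → ZMod 2), (∀ u ∈ U, Cfsg.quadFormPlus m (ZMod 2) u = 0) → Module.finrank (ZMod 2) ↥U ≤ m) ∧
    (∃ U : Submodule (ZMod 2) ((Fin (m - 1) ⊕ Fin (m - 1)) ⊕ Fin 2 → ZMod 2), (∀ u ∈ U, Cfsg.quadFormMinus (m - 1) (ZMod 2) 1 1 u = 0) ∧ Module.finrank (ZMod 2) ↥U = m - 1) ∧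
    (∀ U : Submodule (ZMod 2) ((Fin (m - 1) ⊕ Fin (m - 1)) ⊕ Fin 2 → ZMod 2), (∀ u ∈ U, Cfsg.quadFormMinus (m - 1) (ZMod 2) 1 1 u = 0) → Module.finrank (ZMod 2) ↥U ≤ m - 1) := by
  obtain ⟨m', rfl⟩ : ∃ m', m = m' + 1 := ⟨m - 1, by omega⟩
  exact main m'

end Cfsg.Agent.S2562
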