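import Mathlib
import Cfsg.Statements.S0575
import Cfsg.Agent.Helper1.PGroup

set_option autoImplicit false
open Cfsg

namespace Cfsg.Agent.S0575

/-- If H is a normal subgroup of a finite group G, then the Frattini subgroup of H, viewed in G, lies in the Frattini subgroup of G. -/
theorem result {G : Type*} [Group G] [Finite G] (H : Subgroup G) [H.Normal] : (frattini ↥H).map H.subtype ≤ frattini G := by
  set Φ₀ := (frattini ↥H).map H.subtype with hΦ₀
  have hΦn : Φ₀.Normal := inferInstance
  have hΦH : Φ₀ ≤ H := Subgroup.map_subtype_le _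
  rw [Cfsg.Agent.Helper1.le_frattini_iff]
  intro M hM
  by_contra hnot
  have htop : M ⊔ Φ₀ = ⊤ := by
    apply hM.2
    exact lt_of_le_of_ne le_sup_left (fun h => hnot (h ▸ le_sup_right))
  -- every element of H is a product
  have key : (M.subgroupOf H) ⊔ frattini ↥H = ⊤ := by
    rw [eq_top_iff]
    rintro ⟨h, hh⟩ -
    have : h ∈ M ⊔ Φ₀ := htop ▸ Subgroup.mem_top h
    rw [Subgroup.mem_sup_of_normal_right] at this
    obtain ⟨m, hm, f, hf, hmf⟩ := this
    obtain ⟨f', hf', rfl⟩ := hf
    have hmH : m ∈ H := by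
      have : m = h * ((f' : G))⁻¹ := by rw [← hmf]; simp
      rw [this]; exact H.mul_mem hh (H.inv_mem f'.2)
    have : (⟨h, hh⟩ : H) = ⟨m, hmH⟩ * f' := by
      apply Subtype.ext; simpa using hmf.symm
    rw [this]
    exact Subgroup.mul_mem_sup (Subgroup.mem_subgroupOf.2 hm) hf'
  have h2 := frattini_nongenerating key
  have h3 : H ≤ M := Subgroup.subgroupOf_eq_top.1 h2
  exact hnot (hΦH.trans h3)

end Cfsg.Agent.S0575
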