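import Cfsg.Statements.S0882
import Mathlib
import Cfsg.Agent.Helper6.ZasInvB
-- import your own Cfsg.Agent.* helpers here

set_option autoImplicit false
open Cfsg

namespace Cfsg.Agent.S0882

/-- Let G be a finite simple Zassenhaus group on Ω with n = h + 1 points whose two-point stabilizer E has odd order e with 2e < h - 1. Then any two involutions of G are conjugate, and the number of involutions is e * (h + 1) if h is even and e * h if h is odd. -/
theorem result {G Ω : Type*} [Group G] [Finite G] [MulAction G Ω] [Fintype Ω] (hZ : Cfsg.IsZassenhausGroup G Ω) {a b : Ω} (hab : a ≠ b) [IsSimpleGroup G] (h e : ℕ) (hh : Fintype.card Ω = h + 1) (he : Nat.card ↥(MulAction.stabilizer G a ⊓ MulAction.stabilizer G b : Subgroup G) = e) (hodd : Odd e) (hlt : 2 * e < h - 1) : (∀ x y : G, orderOf x = 2 → orderOf y = 2 → IsConj x y) ∧ Nat.card {x : G // orderOf x = 2} = (if Even h then e * (h + 1) else e * h) := by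
  classical
  haveI : Fintype G := Fintype.ofFinite G
  have hodd' : Odd (Nat.card ↥(MulAction.stabilizer G a ⊓ MulAction.stabilizer G b : Subgroup G)) := by
    rw [he]; exact hodd
  refine ⟨fun x y hx hy => Helper6.zas_involutions_isConj hZ hab hodd' hx hy, ?_⟩
  have h1 := Helper6.zas_card_involutions_mul hZ hab hodd'
  rw [he, hh] at h1
  have h2 : Nat.card {x : G // orderOf x = 2} =
      (Finset.univ.filter (fun x : G => orderOf x = 2)).card := by
    rw [Nat.card_eq_fintype_card, Fintype.card_subtype]
  rw [h2]
  have hpos : 0 < h := by omega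
  split_ifs with hev
  · have h3 : (h + 1) % 2 = 1 := by
      obtain ⟨k, hk⟩ := hev
      omega
    rw [h3] at h1
    have h4 : h + 1 - 1 = h := by omega
    rw [h4] at h1
    have h5 : (Finset.univ.filter (fun x : G => orderOf x = 2)).card * h = (e * (h + 1)) * h := by
      rw [h1]; ring
    exact Nat.eq_of_mul_eq_mul_right hpos h5
  · have h3 : (h + 1) % 2 = 0 := by
      rw [Nat.not_even_iff_odd] at hev
      obtain ⟨k, hk⟩ := hev
      omega
    rw [h3] at h1
    have h4 : h + 1 - 1 = h := by omega
    rw [h4, Nat.sub_zero] at h1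
    have h5 : (Finset.univ.filter (fun x : G => orderOf x = 2)).card * (h + 1) =
        (e * h) * (h + 1) := by
      rw [h1]; ring
    exact Nat.eq_of_mul_eq_mul_right (Nat.succ_pos h) h5

end Cfsg.Agent.S0882
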