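import Cfsg.Statements.S0883
import Mathlib
import Cfsg.Agent.Helper6.ZasInvF
-- import your own Cfsg.Agent.* helpers here

set_option autoImplicit false
open Cfsg

namespace Cfsg.Agent.S0883

/-- Let G be a finite simple Zassenhaus group on Ω with h + 1 points whose two-point stabilizer E has odd order e with 2e < h - 1, and let H be the subgroup of the stabilizer of a consisting of the identity and the elements fixing no point other than a (given here as a subgroup of the stabilizer of order one less than the number of points whose non-identity elements fix only a; it is the Frobenius kernel of the stabilizer). If a non-identity element u of H is a product of two involutions of G, then u is an involution. -/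
theorem result {G Ω : Type*} [Group G] [Finite G] [MulAction G Ω] [Fintype Ω] (hZ : Cfsg.IsZassenhausGroup G Ω) {a b : Ω} (hab : a ≠ b) [IsSimpleGroup G] (h e : ℕ) (hh : Fintype.card Ω = h + 1) (he : Nat.card ↥(MulAction.stabilizer G a ⊓ MulAction.stabilizer G b : Subgroup G) = e) (hodd : Odd e) (hlt : 2 * e < h - 1) (H : Subgroup G) (hHa : H ≤ MulAction.stabilizer G a) (hHcard : Nat.card H + 1 = Fintype.card Ω) (hHfix : ∀ u ∈ H, u ≠ 1 → ∀ c : Ω, u • c = c → c = a) (u : G) (hu : u ∈ H) (hu1 : u ≠ 1) (x y : G) (hx : orderOf x = 2) (hy : orderOf y = 2) (hxy : x * y = u) : orderOf u = 2 := by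
  classical
  have hodd' : Odd (Nat.card ↥(MulAction.stabilizer G a ⊓ MulAction.stabilizer G b : Subgroup G)) := by
    rw [he]; exact hodd
  have hx2 : x * x = 1 := by
    rw [← pow_two, ← hx]
    exact pow_orderOf_eq_one x
  have hy2 : y * y = 1 := by
    rw [← pow_two, ← hy]
    exact pow_orderOf_eq_one y
  have hxinv : x⁻¹ = x := inv_eq_of_mul_eq_one_left hx2
  have hyinv : y⁻¹ = y := inv_eq_of_mul_eq_one_left hy2
  have huinv : u⁻¹ = y * x := by
    rw [← hxy, mul_inv_rev, hxinv, hyinv]
  have hua : u • a = a := MulAction.mem_stabilizer_iff.mp (hHa hu)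
  have hu'1 : u⁻¹ ≠ 1 := fun h => hu1 (inv_eq_one.mp h)
  -- x fixes a
  have hxa : x • a = a := by
    apply hHfix u⁻¹ (H.inv_mem hu) hu'1
    rw [huinv, mul_smul, smul_smul x x a, hx2, one_smul]
    have h1 : y • a = x • u • a := by
      rw [← hxy, smul_smul, ← mul_assoc, hx2, one_mul]
    rw [h1, hua]
  have hya : y • a = a := by
    have h1 : y • a = x • u • a := by
      rw [← hxy, smul_smul, ← mul_assoc, hx2, one_mul]
    rw [h1, hua, hxa]
  -- the degree is odd
  have hn : Fintype.card Ω % 2 = 1 := by
    by_contra hcon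
    have h0 : Fintype.card Ω % 2 = 0 := by omega
    have h1 := Helper6.zas_involution_card_fixedBy hZ hab hodd' hx
    rw [h0] at h1
    haveI : Nonempty (MulAction.fixedBy Ω x) := ⟨⟨a, hxa⟩⟩
    have := Nat.card_pos (α := MulAction.fixedBy Ω x)
    omega
  have hcomm := Helper6.zas_involutions_commute hZ hab hodd' hn hx hy hxa hya
  haveI : Fact (Nat.Prime 2) := ⟨Nat.prime_two⟩
  apply orderOf_eq_prime
  · rw [pow_two, ← hxy]
    have h1 : x * y * (x * y) = x * (y * x) * y := by group
    rw [h1, ← hcomm]
    have h2 : x * (x * y) * y = (x * x) * (y * y) := by group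
    rw [h2, hx2, hy2, one_mul]
  · exact hu1

end Cfsg.Agent.S0883
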