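import Cfsg.Statements.S0881
import Mathlib
import Cfsg.Agent.Helper6.ZasInvD
import Cfsg.Agent.Helper6.LinearExt
-- import your own Cfsg.Agent.* helpers here

set_option autoImplicit false
open Cfsg

namespace Cfsg.Agent.S0881

/-- Let G be a finite simple Zassenhaus group on Ω with n points, a ≠ b points with two-point stabilizer E of odd order less than n - 2, and let H be the subgroup of the stabilizer of a consisting of the identity and the elements fixing no point other than a (given here as a subgroup of the stabilizer of order one less than the number of points whose non-identity elements fix only a; it is the Frobenius kernel of the stabilizer). Let μ be a character of degree 1 of the stabilizer of a that is identically 1 on H but not identically 1. Then the function induced from μ to G is an irreducible character of G, and it takes the value 1 at every non-identity element of H. -/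
theorem result {G Ω : Type*} [Group G] [Fintype G] [MulAction G Ω] [Fintype Ω] (hZ : Cfsg.IsZassenhausGroup G Ω) {a b : Ω} (hab : a ≠ b) [IsSimpleGroup G] (hodd : Odd (Nat.card ↥(MulAction.stabilizer G a ⊓ MulAction.stabilizer G b : Subgroup G))) (hlt : Nat.card ↥(MulAction.stabilizer G a ⊓ MulAction.stabilizer G b : Subgroup G) < Fintype.card Ω - 2) (H : Subgroup G) (hHa : H ≤ MulAction.stabilizer G a) (hHcard : Nat.card H + 1 = Fintype.card Ω) (hHfix : ∀ u ∈ H, u ≠ 1 → ∀ c : Ω, u • c = c → c = a) (μ : MulAction.stabilizer G a → ℂ) (hμ : Cfsg.IsCharacter (MulAction.stabilizer G a) μ ∧ μ 1 = 1) (hμH : ∀ u : MulAction.stabilizer G a, (u : G) ∈ H → μ u = 1) (hμne : μ ≠ fun _ => 1) : Cfsg.IsIrrCharacter G (Cfsg.indFun (MulAction.stabilizer G a) μ) ∧ ∀ u ∈ H, u ≠ 1 → Cfsg.indFun (MulAction.stabilizer G a) μ u = 1 := by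
  classical
  obtain ⟨lam, hlam⟩ := Helper6.exists_hom_of_char_degree_one hμ.1 hμ.2
  have hlamH : ∀ u : MulAction.stabilizer G a, (u : G) ∈ H → lam u = 1 := by
    intro u hu
    have h1 := hμH u hu
    rw [hlam] at h1
    apply Units.ext
    rw [Units.val_one]
    exact h1
  have hlam1 : lam ≠ 1 := by
    intro h
    apply hμne
    rw [hlam, h]
    rfl
  rw [hlam]
  refine ⟨?_, ?_⟩
  · apply Helper6.isIrrCharacter_of_classInner_self
    · apply Helper6.isCharacter_indFun
      exact Helper6.IsIrrCharacter.isCharacter (Helper6.isIrrCharacter_of_hom lam)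
    · exact Helper6.zas_classInner_ind_linear hZ hab hodd H hHa hHcard hHfix lam hlamH hlam1
  · intro u hu hu1
    exact Helper6.zas_ind_linear_apply hZ hab hodd H hHa hHcard hHfix lam hlamH hu hu1

end Cfsg.Agent.S0881
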