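import Mathlib
import Cfsg.Statements.S0256
import Cfsg.Agent.Helper7.LinearCard
import Cfsg.Agent.Helper7.SLTransfer
import Cfsg.Agent.Helper7.PSLSimple
import Cfsg.Agent.Helper7.L42Data

set_option autoImplicit false
open Cfsg

namespace Cfsg.Agent.S0256

open Matrix Cfsg.Agent.Helper7.L42 Cfsg.Agent.Helper7

/-- Matrices of degree four over the field with two elements. -/
abbrev Mat := Matrix (Fin 4) (Fin 4) (ZMod 2)
/-- The special linear group of degree four over the field with two elements. -/
abbrev G := Matrix.SpecialLinearGroup (Fin 4) (ZMod 2)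

/-- A bit as an element of the field with two elements. -/
def zb (b : Bool) : ZMod 2 := cond b 1 0

theorem zb_xor (a b : Bool) : zb (xor a b) = zb a + zb b := by cases a <;> cases b <;> decide
theorem zb_and (a b : Bool) : zb (a && b) = zb a * zb b := by cases a <;> cases b <;> decide
theorem zb_eq_one (b : Bool) : decide (zb b = 1) = b := by cases b <;> decide

/-- A row as a function. -/
def rowFn (r : Row) : Fin 4 → ZMod 2 := ![zb r.a, zb r.b, zb r.c, zb r.d]

/-- Decoding of a matrix of bits. -/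
def dec (y : M4) : Mat := Matrix.of ![rowFn y.r0, rowFn y.r1, rowFn y.r2, rowFn y.r3]

/-- Encoding of a row. -/
def encRow (v : Fin 4 → ZMod 2) : Row := ⟨decide (v 0 = 1), decide (v 1 = 1), decide (v 2 = 1), decide (v 3 = 1)⟩

/-- Encoding of a matrix. -/
def enc (M : Mat) : M4 := ⟨encRow (M 0), encRow (M 1), encRow (M 2), encRow (M 3)⟩

theorem encRow_rowFn (r : Row) : encRow (rowFn r) = r := by
  obtain ⟨a, b, c, d⟩ := r
  show Row.mk (decide (zb a = 1)) (decide (zb b = 1)) (decide (zb c = 1)) (decide (zb d = 1)) = _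
  rw [zb_eq_one, zb_eq_one, zb_eq_one, zb_eq_one]

theorem enc_dec (y : M4) : enc (dec y) = y := by
  obtain ⟨r0, r1, r2, r3⟩ := y
  show M4.mk (encRow (rowFn r0)) (encRow (rowFn r1)) (encRow (rowFn r2)) (encRow (rowFn r3)) = _
  rw [encRow_rowFn, encRow_rowFn, encRow_rowFn, encRow_rowFn]

theorem dec_injective : Function.Injective dec := fun x y h => by
  rw [← enc_dec x, ← enc_dec y, h]

theorem rowFn_add (x y : Row) : rowFn (x.add y) = rowFn x + rowFn y := by
  ext j
  fin_cases j <;> simp [rowFn, Row.add, zb_xor]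

theorem rowFn_scale (s : Bool) (x : Row) : rowFn (Row.scale s x) = zb s • rowFn x := by
  ext j
  fin_cases j <;> simp [rowFn, Row.scale, zb_and]

theorem rowFn_mulM (x : Row) (m : M4) (j : Fin 4) : rowFn (x.mulM m) j =
    zb x.a * rowFn m.r0 j + zb x.b * rowFn m.r1 j + zb x.c * rowFn m.r2 j + zb x.d * rowFn m.r3 j := by
  rw [Row.mulM, rowFn_add, rowFn_add, rowFn_add, rowFn_scale, rowFn_scale, rowFn_scale, rowFn_scale]
  simp only [Pi.add_apply, Pi.smul_apply, smul_eq_mul]
  ring

theorem dec_apply_zero (y : M4) (j : Fin 4) : dec y 0 j = rowFn y.r0 j := rfl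
theorem dec_apply_one (y : M4) (j : Fin 4) : dec y 1 j = rowFn y.r1 j := rfl
theorem dec_apply_two (y : M4) (j : Fin 4) : dec y 2 j = rowFn y.r2 j := rfl
theorem dec_apply_three (y : M4) (j : Fin 4) : dec y 3 j = rowFn y.r3 j := rfl

theorem rowFn_zero (r : Row) : rowFn r 0 = zb r.a := rfl
theorem rowFn_one (r : Row) : rowFn r 1 = zb r.b := rfl
theorem rowFn_two (r : Row) : rowFn r 2 = zb r.c := rfl
theorem rowFn_three (r : Row) : rowFn r 3 = zb r.d := rfl

theorem dec_mul (x y : M4) : dec (x.mul y) = dec x * dec y := by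
  ext i j
  rw [Matrix.mul_apply, Fin.sum_univ_four]
  fin_cases i
  · show dec (x.mul y) 0 j = dec x 0 0 * dec y 0 j + dec x 0 1 * dec y 1 j + dec x 0 2 * dec y 2 j
      + dec x 0 3 * dec y 3 j
    simp only [dec_apply_zero, dec_apply_one, dec_apply_two, dec_apply_three, rowFn_zero, rowFn_one,
      rowFn_two, rowFn_three]
    exact rowFn_mulM _ _ _
  · show dec (x.mul y) 1 j = dec x 1 0 * dec y 0 j + dec x 1 1 * dec y 1 j + dec x 1 2 * dec y 2 j
      + dec x 1 3 * dec y 3 j
    simp only [dec_apply_zero, dec_apply_one, dec_apply_two, dec_apply_three, rowFn_zero, rowFn_one,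
      rowFn_two, rowFn_three]
    exact rowFn_mulM _ _ _
  · show dec (x.mul y) 2 j = dec x 2 0 * dec y 0 j + dec x 2 1 * dec y 1 j + dec x 2 2 * dec y 2 j
      + dec x 2 3 * dec y 3 j
    simp only [dec_apply_zero, dec_apply_one, dec_apply_two, dec_apply_three, rowFn_zero, rowFn_one,
      rowFn_two, rowFn_three]
    exact rowFn_mulM _ _ _
  · show dec (x.mul y) 3 j = dec x 3 0 * dec y 0 j + dec x 3 1 * dec y 1 j + dec x 3 2 * dec y 2 j
      + dec x 3 3 * dec y 3 j
    simp only [dec_apply_zero, dec_apply_one, dec_apply_two, dec_apply_three, rowFn_zero, rowFn_one,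
      rowFn_two, rowFn_three]
    exact rowFn_mulM _ _ _

theorem dec_one : dec L42.one = 1 := by
  ext i j
  fin_cases i <;> fin_cases j <;> rfl

theorem det_eq_one_of_mul (A B : Mat) (h : A * B = 1) : A.det = 1 := by
  have h1 : A.det * B.det = 1 := by rw [← Matrix.det_mul, h, Matrix.det_one]
  have h2 : ∀ x y : ZMod 2, x * y = 1 → x = 1 := by decide
  exact h2 _ _ h1

/-- An invertible matrix of bits as a group element. -/
def toG (y y' : M4) (h : y.mul y' = L42.one) : G :=
  ⟨dec y, det_eq_one_of_mul _ (dec y') (by rw [← dec_mul, h, dec_one])⟩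

theorem toG_val (y y' : M4) (h : y.mul y' = L42.one) : (toG y y' h).1 = dec y := rfl

theorem toG_inv (y y' : M4) (h : y.mul y' = L42.one) (h' : y'.mul y = L42.one) :
    (toG y y' h)⁻¹ = toG y' y h' := by
  apply inv_eq_of_mul_eq_one_right
  apply Subtype.ext
  rw [Matrix.SpecialLinearGroup.coe_mul, toG_val, toG_val, ← dec_mul, h, dec_one,
    Matrix.SpecialLinearGroup.coe_one]

/-- The first generator. -/
def gA : G := toG hA hA' hA_inv
/-- The second generator. -/
def gB : G := toG hB hB' hB_inv

/-- A subgroup of order `2520`. -/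
def H : Subgroup G := Subgroup.closure {gA, gB}

/-- The codes of the elements of the subgroup. -/
def keys : List Nat := tree.toList.map (fun n => n.1)

theorem keys_pairwise : keys.Pairwise (· < ·) := sortedLt_spec _ tree_sorted

theorem keys_nodup : keys.Nodup := keys_pairwise.imp (fun h => Nat.ne_of_lt h)

theorem keys_length : keys.length = 2520 := by
  rw [keys, List.length_map]; exact tree_length

theorem mem_keys_of_mem {c : Nat} (h : tree.mem c = true) : c ∈ keys := by
  obtain ⟨n, hn, rfl⟩ := Tr.mem_spec tree c h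
  exact List.mem_map.mpr ⟨n, hn, rfl⟩

theorem node_ok {n : Nat × Nat × Nat} (hn : n ∈ tree.toList) : nodeOk n.1 n.2.1 n.2.2 = true :=
  Tr.all_spec nodeOk tree tree_ok n hn

theorem code_ofCode {k : Nat} (hk : k ∈ keys) : (ofCode k).code = k := by
  obtain ⟨n, hn, rfl⟩ := List.mem_map.mp hk
  have h := node_ok hn
  rw [nodeOk, Bool.and_eq_true] at h
  exact Nat.eq_of_beq_eq_true h.1

theorem ofCode_injOn {k l : Nat} (hk : k ∈ keys) (hl : l ∈ keys) (h : ofCode k = ofCode l) : k = l := by
  rw [← code_ofCode hk, ← code_ofCode hl, h]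

theorem closed {k : Nat} (hk : k ∈ keys) :
    (mulT tabA k ∈ keys ∧ mulT tabB k ∈ keys) ∧ (mulT tabA' k ∈ keys ∧ mulT tabB' k ∈ keys) := by
  obtain ⟨n, hn, rfl⟩ := List.mem_map.mp hk
  have h := node_ok hn
  simp only [nodeOk, Bool.and_eq_true] at h
  exact ⟨⟨mem_keys_of_mem h.2.1, mem_keys_of_mem h.2.2.1⟩,
    ⟨mem_keys_of_mem h.2.2.2.1, mem_keys_of_mem h.2.2.2.2.1⟩⟩

theorem mulA (x : Nat) : ofCode (mulT tabA x) = (ofCode x).mul hA := ofCode_mulT hA tabA tabA_lt tabA_ok x
theorem mulB (x : Nat) : ofCode (mulT tabB x) = (ofCode x).mul hB := ofCode_mulT hB tabB tabB_lt tabB_ok x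
theorem mulA' (x : Nat) : ofCode (mulT tabA' x) = (ofCode x).mul hA' :=
  ofCode_mulT hA' tabA' tabA'_lt tabA'_ok x
theorem mulB' (x : Nat) : ofCode (mulT tabB' x) = (ofCode x).mul hB' :=
  ofCode_mulT hB' tabB' tabB'_lt tabB'_ok x

theorem one_mem_keys : oneCode ∈ keys := mem_keys_of_mem one_mem

/-- Every element of the subgroup has its code in the tree. -/
theorem exists_key (g : G) (hg : g ∈ H) : ∃ k ∈ keys, dec (ofCode k) = g.1 := by
  induction hg using Subgroup.closure_induction_right with
  | one => exact ⟨oneCode, one_mem_keys, by rw [ofCode_one, dec_one]; rfl⟩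
  | mul_right x hx y hy ih =>
    obtain ⟨k, hk, hkx⟩ := ih
    rcases hy with rfl | rfl
    · refine ⟨mulT tabA k, (closed hk).1.1, ?_⟩
      rw [mulA, dec_mul, hkx, Matrix.SpecialLinearGroup.coe_mul]
      rfl
    · refine ⟨mulT tabB k, (closed hk).1.2, ?_⟩
      rw [mulB, dec_mul, hkx, Matrix.SpecialLinearGroup.coe_mul]
      rfl
  | mul_inv_cancel x hx y hy ih =>
    obtain ⟨k, hk, hkx⟩ := ih
    rcases hy with rfl | rfl
    · refine ⟨mulT tabA' k, (closed hk).2.1, ?_⟩
      rw [mulA', dec_mul, hkx, Matrix.SpecialLinearGroup.coe_mul, gA, toG_inv _ _ _ hA_inv']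
      rfl
    · refine ⟨mulT tabB' k, (closed hk).2.2, ?_⟩
      rw [mulB', dec_mul, hkx, Matrix.SpecialLinearGroup.coe_mul, gB, toG_inv _ _ _ hB_inv']
      rfl

/-- Every code in the tree with a given depth is the code of an element of the subgroup. -/
theorem exists_mem_of_depth : ∀ (d : Nat) (n : Nat × Nat × Nat), n ∈ tree.toList → n.2.2 = d →
    ∃ g ∈ H, g.1 = dec (ofCode n.1) := by
  intro d
  induction d with
  | zero =>
    intro n hn hd
    have h := node_ok hn
    simp only [nodeOk, Bool.and_eq_true, Bool.or_eq_true] at h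
    rcases h.2.2.2.2.2 with h1 | h1
    · have hk : n.1 = oneCode := Nat.eq_of_beq_eq_true h1.2
      exact ⟨1, Subgroup.one_mem _, by rw [hk, ofCode_one, dec_one]; rfl⟩
    · have := h1.2.2
      rw [hd, Nat.blt_eq] at this
      exact absurd this (lt_irrefl 0)
  | succ d ih =>
    intro n hn hd
    have h := node_ok hn
    simp only [nodeOk, Bool.and_eq_true, Bool.or_eq_true] at h
    rcases h.2.2.2.2.2 with h1 | h1
    · have := Nat.eq_of_beq_eq_true h1.1
      omega
    · obtain ⟨hgen, hdep, -⟩ := h1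
      rw [hd, Nat.add_sub_cancel] at hdep
      obtain ⟨m, hm, hm1, hm2⟩ := Tr.hasDepth_spec tree _ _ hdep
      obtain ⟨g, hg, hgv⟩ := ih m hm hm2
      rw [hm1] at hgv
      rcases hgen with hgen | hgen
      · refine ⟨g * gA, Subgroup.mul_mem _ hg (Subgroup.subset_closure (by simp)), ?_⟩
        rw [← Nat.eq_of_beq_eq_true hgen, mulA, dec_mul, Matrix.SpecialLinearGroup.coe_mul, hgv]
        rfl
      · refine ⟨g * gB, Subgroup.mul_mem _ hg (Subgroup.subset_closure (by simp)), ?_⟩
        rw [← Nat.eq_of_beq_eq_true hgen, mulB, dec_mul, Matrix.SpecialLinearGroup.coe_mul, hgv]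
        rfl

theorem exists_mem {k : Nat} (hk : k ∈ keys) : ∃ g ∈ H, g.1 = dec (ofCode k) := by
  obtain ⟨n, hn, rfl⟩ := List.mem_map.mp hk
  exact exists_mem_of_depth _ n hn rfl

theorem card_H : Nat.card H = 2520 := by
  classical
  have e : H ≃ {k : Nat // k ∈ keys} :=
    { toFun := fun g => ⟨(exists_key g.1 g.2).choose, (exists_key g.1 g.2).choose_spec.1⟩
      invFun := fun k => ⟨(exists_mem k.2).choose, (exists_mem k.2).choose_spec.1⟩
      left_inv := fun g => by
        apply Subtype.ext
        apply Subtype.ext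
        have h1 := (exists_key g.1 g.2).choose_spec.2
        have h2 := (exists_mem (exists_key g.1 g.2).choose_spec.1).choose_spec.2
        exact h2.trans h1
      right_inv := fun k => by
        apply Subtype.ext
        have h2 := (exists_mem k.2).choose_spec
        have h1 := (exists_key _ h2.1).choose_spec
        apply ofCode_injOn h1.1 k.2
        apply dec_injective
        exact h1.2.trans h2.2 }
  rw [Nat.card_congr e, Nat.card_eq_fintype_card, Fintype.card_of_subtype keys.toFinset (by simp),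
    List.toFinset_card_of_nodup keys_nodup]
  exact keys_length

theorem card_G : Nat.card G = 20160 := by
  have h1 := card_units_mul_card_SL (n := Fin 4) (F := ZMod 2)
  rw [Matrix.card_GL_field, ZMod.card] at h1
  have h2 : ∏ i : Fin 4, (2 ^ 4 - 2 ^ (i : ℕ)) = 20160 := by
    rw [Fin.prod_univ_four]
    rfl
  rw [h2] at h1
  show Nat.card (Matrix.SpecialLinearGroup (Fin 4) (ZMod 2)) = 20160
  omega

theorem index_H : H.index = 8 := by
  have h := Subgroup.card_mul_index H
  rw [card_H, card_G] at h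
  omega

theorem center_eq_bot : Subgroup.center G = ⊥ := by
  have h := card_center_SL (F := ZMod 2) 4 (by norm_num)
  rw [ZMod.card] at h
  exact Subgroup.card_eq_one.mp (by rw [h]; rfl)

theorem main : Nonempty (ProjectiveSpecialLinearGroup (Fin 4) (ZMod 2) ≃* alternatingGroup (Fin 8)) := by
  classical
  have hX : Nat.card (G ⧸ H) = 8 := by rw [← Subgroup.index_eq_card]; exact index_H
  have : Finite (G ⧸ H) := Nat.finite_of_card_ne_zero (by rw [hX]; norm_num)
  have : Fintype (G ⧸ H) := Fintype.ofFinite _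
  -- the projective group is the group itself
  have e0 : ProjectiveSpecialLinearGroup (Fin 4) (ZMod 2) ≃* G :=
    (QuotientGroup.quotientMulEquivOfEq center_eq_bot).trans (QuotientGroup.quotientBot)
  have hsimple : IsSimpleGroup G := by
    have := Cfsg.Agent.Helper7.Transv.isSimpleGroup_PSL (F := ZMod 2) (n := 4) (by norm_num)
    exact e0.symm.isSimpleGroup
  set φ := MulAction.toPermHom G (G ⧸ H) with hφ
  have hker : φ.ker = ⊥ := by
    rcases (φ.normal_ker).eq_bot_or_eq_top with h | h
    · exact h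
    · exfalso
      have h1 : H.normalCore = ⊤ := by rw [Subgroup.normalCore_eq_ker]; exact h
      have h2 : H = ⊤ := top_le_iff.mp (h1 ▸ H.normalCore_le)
      have h3 := index_H
      rw [h2, Subgroup.index_top] at h3
      omega
  have e1 : G ≃* φ.range := MonoidHom.ofInjective ((MonoidHom.ker_eq_bot_iff φ).mp hker)
  have hrange_card : Nat.card φ.range = 20160 := by
    rw [← card_G]
    exact (Nat.card_congr e1.toEquiv).symm
  have hperm : Nat.card (Equiv.Perm (G ⧸ H)) = 40320 := by
    rw [Nat.card_perm, hX]; rfl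
  have hindex : φ.range.index = 2 := by
    have := Subgroup.card_mul_index φ.range
    rw [hrange_card, hperm] at this
    omega
  have halt : φ.range = alternatingGroup (G ⧸ H) :=
    Equiv.Perm.eq_alternatingGroup_of_index_eq_two hindex
  have e2 : φ.range ≃* alternatingGroup (G ⧸ H) := MulEquiv.subgroupCongr halt
  have e3 : (G ⧸ H) ≃ Fin 8 := Finite.equivFinOfCardEq hX
  exact ⟨((e0.trans e1).trans e2).trans (Equiv.altCongrHom e3)⟩

/-- PSL_4(2) is isomorphic to A_8. -/
theorem result {F : Type*} [Field F] [Fintype F] (hF : Fintype.card F = 2) : Nonempty (Matrix.ProjectiveSpecialLinearGroup (Fin 4) F ≃* alternatingGroup (Fin 8)) := by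
  have φ : F ≃+* ZMod 2 := (ZMod.ringEquivOfPrime F Nat.prime_two hF).symm
  obtain ⟨e⟩ := main
  exact ⟨(Cfsg.Agent.Helper7.SLTransfer.pslEquiv φ).trans e⟩

end Cfsg.Agent.S0256
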