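import Cfsg.Statements.S0670
import Cfsg.Agent.Helper4.SylowTransitive
import Cfsg.Agent.Helper4.PGroupFixedVector

set_option autoImplicit false
open Cfsg

namespace Cfsg.Agent.S0670

/-- In characteristic `p`, the permutation module of a transitive action of degree `p ^ f` has the line of constant functions as its only irreducible submodule: every non-zero subrepresentation contains it. -/
theorem result {G : Type*} [Group G] [Finite G] {K : Type*} [Field K] {p f : ℕ} [Fact p.Prime] [CharP K p] {Ω : Type*} [Fintype Ω] [MulAction G Ω] [MulAction.IsPretransitive G Ω] (hf : 1 ≤ f) (hcard : Fintype.card Ω = p ^ f) (W : Subrepresentation (Cfsg.permRep K G Ω)) (hW : W.toSubmodule ≠ ⊥) : (Cfsg.permConstants K G Ω).toSubmodule ≤ W.toSubmodule := by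
  classical
  obtain ⟨P⟩ : Nonempty (Sylow p G) := inferInstance
  have hcard' : Nat.card Ω = p ^ f := by rw [Nat.card_eq_fintype_card, hcard]
  haveI htr : MulAction.IsPretransitive (P : Subgroup G) Ω :=
    Cfsg.Agent.Helper4.sylow_isPretransitive_of_card_eq_prime_pow hcard' P
  let ρ : (P : Subgroup G) →* AddMonoid.End (Ω → K) :=
    { toFun := fun g => (Cfsg.permRep K G Ω (g : G)).toAddMonoidHom
      map_one' := by
        ext v x
        show (Cfsg.permRep K G Ω ((1 : (P : Subgroup G)) : G)) v x = v x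
        rw [Subgroup.coe_one, map_one]; rfl
      map_mul' := fun g h => by
        ext v x
        show (Cfsg.permRep K G Ω ((g * h : (P : Subgroup G)) : G)) v x =
          (Cfsg.permRep K G Ω (g : G)) ((Cfsg.permRep K G Ω (h : G)) v) x
        rw [Subgroup.coe_mul, map_mul]; rfl }
  have hV : ∀ v : Ω → K, p • v = 0 := by
    intro v
    rw [← Nat.cast_smul_eq_nsmul K p v, CharP.cast_eq_zero K p, zero_smul]
  have hU : ∀ g : (P : Subgroup G), ∀ u ∈ W.toSubmodule.toAddSubgroup,
      ρ g u ∈ W.toSubmodule.toAddSubgroup := by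
    intro g u hu
    exact W.apply_mem_toSubmodule (g : G) hu
  have hne : W.toSubmodule.toAddSubgroup ≠ ⊥ := by
    intro h
    apply hW
    rw [eq_bot_iff]
    intro x hx
    have : x ∈ W.toSubmodule.toAddSubgroup := hx
    rw [h, AddSubgroup.mem_bot] at this
    rw [this]; exact Submodule.zero_mem _
  obtain ⟨v, hvW, hv0, hvfix⟩ := Cfsg.Agent.Helper4.exists_fixed_ne_zero_of_pgroup
    (P.isPGroup') ρ hV W.toSubmodule.toAddSubgroup hU hne
  have hvW' : v ∈ W.toSubmodule := hvW
  -- v is constant
  have hconst : ∀ x y : Ω, v x = v y := by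
    intro x y
    obtain ⟨g, hg⟩ := MulAction.exists_smul_eq (P : Subgroup G) x y
    have h1 := congrFun (hvfix g) y
    have h2 : (ρ g v) y = v ((g : G)⁻¹ • y) := rfl
    rw [h2] at h1
    have h3 : (g : G)⁻¹ • y = x := by
      rw [inv_smul_eq_iff]; exact hg.symm
    rw [h3] at h1
    exact h1
  have hΩ : Nonempty Ω := by
    rw [← Fintype.card_pos_iff, hcard]
    exact pow_pos (Fact.out : p.Prime).pos f
  obtain ⟨x₀⟩ := hΩ
  have hc0 : v x₀ ≠ 0 := by
    intro h
    apply hv0
    funext x
    rw [hconst x x₀, h]; rfl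
  have hone : (fun _ : Ω => (1 : K)) = (v x₀)⁻¹ • v := by
    funext x
    rw [Pi.smul_apply, smul_eq_mul, hconst x x₀, inv_mul_cancel₀ hc0]
  show Submodule.span K {fun _ => (1 : K)} ≤ W.toSubmodule
  rw [Submodule.span_le, Set.singleton_subset_iff, hone]
  exact W.toSubmodule.smul_mem _ hvW'

end Cfsg.Agent.S0670
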