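import Mathlib
import Cfsg.Statements.S1185
import Cfsg.Agent.Helper2.Invol

set_option autoImplicit false
open Cfsg

namespace Cfsg.Agent.S1185

open Cfsg.Agent.Helper2

/-- an element of odd order is a power of its square -/
theorem eq_pow_sq_of_odd {G : Type*} [Group G] {k : G} {m : ℕ} (h : orderOf k = 2 * m + 1) :
    k = (k * k) ^ (m + 1) := by
  rw [← pow_two, ← pow_mul]
  have : 2 * (m + 1) = (2 * m + 1) + 1 := by ring
  rw [this, pow_succ, ← h, pow_orderOf_eq_one, one_mul]

/-- Let z be an isolated involution of the finite group G with centralizer C. Then for every g ∈ G there is exactly one element k in the coset gC that has odd order and is inverted by z. -/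
theorem result {G : Type*} [Group G] [Finite G] (z : G) (hz : Cfsg.IsIsolatedInvolution z) (g : G) : ∃! k : G, (Odd (orderOf k) ∧ z * k * z⁻¹ = k⁻¹) ∧ g⁻¹ * k ∈ Subgroup.centralizer ({z} : Set G) := by
  have hzz : z * z = 1 := mul_self_of_orderOf_two hz.1
  have hzinv : z⁻¹ = z := inv_eq_self_of_orderOf_two hz.1
  set s := g * z * g⁻¹ with hs
  have hss : s * s = 1 := conj_mul_self hzz g
  set r := s * z with hr
  obtain ⟨j, hj⟩ := odd_orderOf_mul_conj_of_isolated hz g
  have hrj : orderOf r = 2 * j + 1 := by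
    rw [← hj, hr, ← inv_mul_invol hzz hss, orderOf_inv]
  have hrpow : (z * s) ^ (2 * j + 1) = 1 := by rw [← hj]; exact pow_orderOf_eq_one _
  -- key: any k with the property has k * k = r
  have key : ∀ k : G, z * k * z⁻¹ = k⁻¹ → g⁻¹ * k ∈ Subgroup.centralizer ({z} : Set G) →
      k * k = r := by
    intro k hk1 hk2
    rw [Subgroup.mem_centralizer_singleton_iff] at hk2
    have e1 : k * z * k⁻¹ = s := by
      rw [hs]
      calc k * z * k⁻¹ = g * (g⁻¹ * k * z) * k⁻¹ := by group
        _ = g * (z * (g⁻¹ * k)) * k⁻¹ := by rw [hk2]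
        _ = g * z * g⁻¹ := by group
    have e2 : z * k⁻¹ = k * z := by
      have : z * k * z⁻¹ * z = k⁻¹ * z := by rw [hk1]
      have h3 : z * k = k⁻¹ * z := by simpa [mul_assoc] using this
      calc z * k⁻¹ = k * (k⁻¹ * z) * k⁻¹ := by group
        _ = k * (z * k) * k⁻¹ := by rw [h3]
        _ = k * z := by group
    calc k * k = k * k * (z * z) := by rw [hzz, mul_one]
      _ = k * (k * z) * z := by group
      _ = k * (z * k⁻¹) * z := by rw [e2]
      _ = (k * z * k⁻¹) * z := by group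
      _ = r := by rw [e1]
  -- existence
  have hk0a : z * r * z⁻¹ = r⁻¹ := by
    rw [hr, inv_mul_invol hss hzz, hzinv, mul_assoc, mul_assoc, hzz, mul_one]
  refine ⟨r ^ (j + 1), ⟨⟨?_, ?_⟩, ?_⟩, ?_⟩
  · have hd : orderOf (r ^ (j + 1)) ∣ orderOf r := orderOf_pow_dvd (j + 1)
    exact Odd.of_dvd_nat ⟨j, hrj⟩ hd
  · rw [← conj_pow, hk0a, inv_pow]
  · rw [Subgroup.mem_centralizer_singleton_iff]
    have e : r ^ (j + 1) * z * (r ^ (j + 1))⁻¹ = s := conj_of_pow_odd hzz hss j hrpow
    have e' : r ^ (j + 1) * z = s * r ^ (j + 1) := mul_inv_eq_iff_eq_mul.mp e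
    calc g⁻¹ * r ^ (j + 1) * z = g⁻¹ * (r ^ (j + 1) * z) := by group
      _ = g⁻¹ * (s * r ^ (j + 1)) := by rw [e']
      _ = z * (g⁻¹ * r ^ (j + 1)) := by rw [hs]; group
  · -- uniqueness
    rintro k ⟨⟨⟨m, hm⟩, hk1⟩, hk2⟩
    have hkk := key k hk1 hk2
    have hk : k = r ^ (m + 1) := by
      have := eq_pow_sq_of_odd hm
      rwa [hkk] at this
    rw [hk]
    -- r^(2(m+1)) = r and r^(2(j+1)) = r
    have hA : r ^ (2 * (m + 1)) = r ^ 1 := by
      rw [pow_one]
      have : r ^ (m + 1) * r ^ (m + 1) = r := by rw [← hk]; exact hkk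
      rw [two_mul, pow_add]; exact this
    have hB : r ^ (2 * (j + 1)) = r ^ 1 := by
      rw [pow_one]
      have : 2 * (j + 1) = (2 * j + 1) + 1 := by ring
      rw [this, pow_succ, ← hrj, pow_orderOf_eq_one, one_mul]
    rw [pow_eq_pow_iff_modEq] at hA hB ⊢
    have hcop : Nat.Coprime 2 (orderOf r) := by
      rw [hrj]
      have : Odd (2 * j + 1) := ⟨j, rfl⟩
      exact (Nat.coprime_two_left).mpr this
    have : 2 * (m + 1) ≡ 2 * (j + 1) [MOD orderOf r] := hA.trans hB.symm
    exact Nat.ModEq.cancel_left_of_coprime (by rw [Nat.coprime_comm] at hcop; exact hcop) this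

end Cfsg.Agent.S1185
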