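import Mathlib
import Cfsg.Statements.S4480
import Cfsg.Agent.Helper2.KfI
import Cfsg.Agent.Helper2.KfJ

set_option autoImplicit false
open Cfsg

namespace Cfsg.Agent.S4480

open Cfsg.Agent.Helper2

/-- Same setting as the Klein-four order formula: G of order 4·g₀ (g₀ odd) with no normal 2-complement, P a Sylow 2-subgroup, J an involution of P, M over 2, principal 2-block {1, χ₁, χ₂, χ₃} with χ_i(J) = ε_i = ±1. Suppose ε₁ε₂ε₃ = −1 and ε₃ = −1, and put q = x₃ = χ₃(1). Then there is a natural number m with 4·c(J) = m·c(P)·(q + 1), and the order of G equals (m³·c(P)/4)·(q³ − q)/2, that is 8·#G = m³·c(P)·(q³ − q). -/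
theorem result {G : Type*} [Group G] [Finite G] (M : Ideal Cfsg.AlgInt) (hM : Cfsg.IsPModular 2 M) (g₀ : ℕ) (hg₀ : Odd g₀) (hG : Nat.card G = 4 * g₀) (hnc : ¬ ∃ N : Subgroup G, N.Normal ∧ Nat.card N = g₀) (P : Sylow 2 G) (J : G) (hJ : J ∈ (P : Subgroup G)) (hJ2 : orderOf J = 2) (χ₁ χ₂ χ₃ : Cfsg.IrrCharacter G) (ε₁ ε₂ ε₃ : ℤ) (hB : Cfsg.principalBlock M G = {χ : Cfsg.IrrCharacter G | (χ : G → ℂ) = (fun _ => 1) ∨ χ = χ₁ ∨ χ = χ₂ ∨ χ = χ₃}) (hdist : (χ₁ : G → ℂ) ≠ (fun _ => 1) ∧ (χ₂ : G → ℂ) ≠ (fun _ => 1) ∧ (χ₃ : G → ℂ) ≠ (fun _ => 1) ∧ χ₁ ≠ χ₂ ∧ χ₁ ≠ χ₃ ∧ χ₂ ≠ χ₃) (hε : (ε₁ = 1 ∨ ε₁ = -1) ∧ (ε₂ = 1 ∨ ε₂ = -1) ∧ (ε₃ = 1 ∨ ε₃ = -1)) (hval : (χ₁ : G → ℂ) J = ε₁ ∧ (χ₂ : G → ℂ) J = ε₂ ∧ (χ₃ : G → ℂ) J = ε₃) (hprod : ε₁ * ε₂ * ε₃ = -1) (hε₃ : ε₃ = -1) : ∃ m : ℕ, 4 * Nat.card (Subgroup.centralizer ({J} : Set G)) = m * Nat.card (Subgroup.centralizer ((P : Subgroup G) : Set G)) * (Cfsg.charDegree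 (χ₃ : G → ℂ) + 1) ∧ 8 * Nat.card G = m ^ 3 * Nat.card (Subgroup.centralizer ((P : Subgroup G) : Set G)) * (Cfsg.charDegree (χ₃ : G → ℂ) ^ 3 - Cfsg.charDegree (χ₃ : G → ℂ)) := by
    classical
    obtain ⟨hε₁, hε₂, -⟩ := hε
    obtain ⟨hv₁, hv₂, hv₃⟩ := hval
    have hform := Cfsg.Agent.Helper2.Kf.order_formula_complex hM g₀ hg₀ hG hnc P J hJ hJ2 χ₁ χ₂ χ₃
      hB hdist
    have hdeg := Cfsg.Agent.Helper2.Kf.degree_relation hM J hJ2 χ₁ χ₂ χ₃ hB hdist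
    have hd1 := Cfsg.Agent.Helper6.charDegree_cast_of_isCharacter
      (Cfsg.Agent.Helper6.IsIrrCharacter.isCharacter χ₁.2)
    have hd2 := Cfsg.Agent.Helper6.charDegree_cast_of_isCharacter
      (Cfsg.Agent.Helper6.IsIrrCharacter.isCharacter χ₂.2)
    have hd3 := Cfsg.Agent.Helper6.charDegree_cast_of_isCharacter
      (Cfsg.Agent.Helper6.IsIrrCharacter.isCharacter χ₃.2)
    have hpos : ∀ χ : Cfsg.IrrCharacter G, 0 < Cfsg.charDegree (χ : G → ℂ) := by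
      intro χ
      have h := Cfsg.Agent.Helper6.IsIrrCharacter.apply_one_ne_zero χ.2
      rw [← Cfsg.Agent.Helper6.charDegree_cast_of_isCharacter
        (Cfsg.Agent.Helper6.IsIrrCharacter.isCharacter χ.2)] at h
      rcases Nat.eq_zero_or_pos (Cfsg.charDegree (χ : G → ℂ)) with h0 | h0
      · rw [h0] at h
        exact absurd (by simp) h
      · exact h0
    have hp1 := hpos χ₁
    have hp2 := hpos χ₂
    have hp3 := hpos χ₃
    rw [hv₁, hv₂, hv₃, ← hd1, ← hd2, ← hd3] at hdeg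
    rw [map_intCast, map_intCast, map_intCast] at hdeg
    have hdegZ : (1 : ℤ) + (Cfsg.charDegree (χ₁ : G → ℂ) : ℤ) * ε₁ +
        (Cfsg.charDegree (χ₂ : G → ℂ) : ℤ) * ε₂ + (Cfsg.charDegree (χ₃ : G → ℂ) : ℤ) * ε₃ = 0 := by
      exact_mod_cast hdeg
    have he : ε₁ = 1 ∧ ε₂ = 1 := by
      rcases hε₁ with h | h <;> rcases hε₂ with h' | h'
      · exact ⟨h, h'⟩
      · exfalso
        rw [h, h', hε₃] at hprod
        norm_num at hprod
      · exfalso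
        rw [h, h', hε₃] at hprod
        norm_num at hprod
      · exfalso
        rw [h, h', hε₃] at hdegZ
        omega
    obtain ⟨he₁, he₂⟩ := he
    have h1 : (χ₁ : G → ℂ) J = 1 := by rw [hv₁, he₁]; simp
    have h2 : (χ₂ : G → ℂ) J = 1 := by rw [hv₂, he₂]; simp
    have h3 : (χ₃ : G → ℂ) J = -1 := by rw [hv₃, hε₃]; simp
    have heq := Cfsg.Agent.Helper2.Kf.degrees_eq hM g₀ hg₀ hG hnc P J hJ2 χ₁ χ₂ χ₃ hB hdist h1 h2 h3
    rw [← hd1, ← hd2] at heq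
    have heqN : Cfsg.charDegree (χ₁ : G → ℂ) = Cfsg.charDegree (χ₂ : G → ℂ) := by
      exact_mod_cast heq
    rw [he₁, he₂, hε₃, ← heqN] at hdegZ
    have hq : Cfsg.charDegree (χ₃ : G → ℂ) = 2 * Cfsg.charDegree (χ₁ : G → ℂ) + 1 := by
      omega
    rw [h1, h2, h3, ← hd1, ← hd2, ← hd3, ← heqN, hq] at hform
    have hcJ0 : 0 < Nat.card (Subgroup.centralizer ({J} : Set G)) := Nat.card_pos
    have hcP0 : 0 < Nat.card (Subgroup.centralizer ((P : Subgroup G) : Set G)) := Nat.card_pos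
    have hdvd : Nat.card (Subgroup.centralizer ((P : Subgroup G) : Set G)) ∣
        Nat.card (Subgroup.centralizer ({J} : Set G)) := by
      apply Subgroup.card_dvd_of_le
      apply Subgroup.centralizer_le
      intro x hx
      rw [Set.mem_singleton_iff.mp hx]
      exact hJ
    have hdvd2 : Nat.card (Subgroup.centralizer ({J} : Set G)) ∣ Nat.card G :=
      Subgroup.card_subgroup_dvd_card _
    have hformN : Nat.card G * (Cfsg.charDegree (χ₁ : G → ℂ) + 1) ^ 2 *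
        Nat.card (Subgroup.centralizer ((P : Subgroup G) : Set G)) ^ 2 =
        4 * Nat.card (Subgroup.centralizer ({J} : Set G)) ^ 3 * Cfsg.charDegree (χ₁ : G → ℂ) *
          (2 * Cfsg.charDegree (χ₁ : G → ℂ) + 1) := by
      have hx0 : (Cfsg.charDegree (χ₁ : G → ℂ) : ℚ) ≠ 0 := by
        exact_mod_cast hp1.ne'
      have hq0 : (2 * (Cfsg.charDegree (χ₁ : G → ℂ) : ℚ) + 1) ≠ 0 := by positivity
      have hcP0' : (Nat.card (Subgroup.centralizer ((P : Subgroup G) : Set G)) : ℚ) ≠ 0 := by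
        exact_mod_cast hcP0.ne'
      have hformQ : (Nat.card G : ℚ) * (1 + 1 / (Cfsg.charDegree (χ₁ : G → ℂ) : ℚ) +
          1 / (Cfsg.charDegree (χ₁ : G → ℂ) : ℚ) +
          (-1) / (2 * (Cfsg.charDegree (χ₁ : G → ℂ) : ℚ) + 1)) =
          8 * (Nat.card (Subgroup.centralizer ({J} : Set G)) : ℚ) ^ 3 /
            (Nat.card (Subgroup.centralizer ((P : Subgroup G) : Set G)) : ℚ) ^ 2 := by
        have h : (((Nat.card G : ℚ) * (1 + 1 / (Cfsg.charDegree (χ₁ : G → ℂ) : ℚ) +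
          1 / (Cfsg.charDegree (χ₁ : G → ℂ) : ℚ) +
          (-1) / (2 * (Cfsg.charDegree (χ₁ : G → ℂ) : ℚ) + 1)) : ℚ) : ℂ) =
          ((8 * (Nat.card (Subgroup.centralizer ({J} : Set G)) : ℚ) ^ 3 /
            (Nat.card (Subgroup.centralizer ((P : Subgroup G) : Set G)) : ℚ) ^ 2 : ℚ) : ℂ) := by
          push_cast
          push_cast at hform
          rw [← hform]
          norm_num
        exact_mod_cast h
      have h : ((Nat.card G * (Cfsg.charDegree (χ₁ : G → ℂ) + 1) ^ 2 *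
        Nat.card (Subgroup.centralizer ((P : Subgroup G) : Set G)) ^ 2 : ℕ) : ℚ) =
        ((4 * Nat.card (Subgroup.centralizer ({J} : Set G)) ^ 3 * Cfsg.charDegree (χ₁ : G → ℂ) *
          (2 * Cfsg.charDegree (χ₁ : G → ℂ) + 1) : ℕ) : ℚ) := by
        push_cast
        field_simp at hformQ
        linear_combination hformQ / 2
      exact_mod_cast h
    exact Cfsg.Agent.Helper2.Kf.arith_final _ _ _ _ _ hp1 hcP0 hcJ0 hq hdvd hdvd2 hformN

end Cfsg.Agent.S4480
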