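import Mathlib
import Cfsg.Statements.S3448

set_option autoImplicit false
open Cfsg

namespace Cfsg.Agent.S3448

set_option maxRecDepth 100000 in
theorem a5_pow : ∀ a : alternatingGroup (Fin 5), a ^ 2 = 1 ∨ a ^ 3 = 1 ∨ a ^ 5 = 1 := by
  decide +kernel

theorem a5_order (a : alternatingGroup (Fin 5)) :
    orderOf a = 1 ∨ orderOf a = 2 ∨ orderOf a = 3 ∨ orderOf a = 5 := by
  rcases a5_pow a with h | h | h
  · have := orderOf_dvd_of_pow_eq_one h
    rcases (Nat.dvd_prime Nat.prime_two).1 this with h1 | h1 <;> simp [h1]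
  · have := orderOf_dvd_of_pow_eq_one h
    rcases (Nat.dvd_prime Nat.prime_three).1 this with h1 | h1 <;> simp [h1]
  · have := orderOf_dvd_of_pow_eq_one h
    rcases (Nat.dvd_prime Nat.prime_five).1 this with h1 | h1 <;> simp [h1]

def c2 : alternatingGroup (Fin 5) := ⟨Equiv.swap 0 1 * Equiv.swap 2 3, by rw [Equiv.Perm.mem_alternatingGroup]; decide⟩
def c3 : alternatingGroup (Fin 5) := ⟨Equiv.swap 0 1 * Equiv.swap 1 2, by rw [Equiv.Perm.mem_alternatingGroup]; decide⟩
def c5 : alternatingGroup (Fin 5) :=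
  ⟨Equiv.swap 0 1 * Equiv.swap 1 2 * Equiv.swap 2 3 * Equiv.swap 3 4,
    by rw [Equiv.Perm.mem_alternatingGroup]; decide⟩

theorem order_c2 : orderOf c2 = 2 :=
  orderOf_eq_prime (by decide) (by decide)
theorem order_c3 : orderOf c3 = 3 :=
  haveI : Fact (Nat.Prime 3) := ⟨Nat.prime_three⟩
  orderOf_eq_prime (by decide) (by decide)
theorem order_c5 : orderOf c5 = 5 :=
  haveI : Fact (Nat.Prime 5) := ⟨Nat.prime_five⟩
  orderOf_eq_prime (by decide) (by decide)

/-- The set of element orders of the direct product of two copies of the alternating group of degree 5 is {1, 2, 3, 5, 6, 10, 15}. (It is shared by the direct product of two Frobenius groups of orders 50 and 75, so this direct product is not determined by its element orders.) -/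
theorem result : Set.range (orderOf : alternatingGroup (Fin 5) × alternatingGroup (Fin 5) → ℕ) = {1, 2, 3, 5, 6, 10, 15} := by
  ext n
  simp only [Set.mem_range, Set.mem_insert_iff, Set.mem_singleton_iff]
  constructor
  · rintro ⟨⟨a, b⟩, rfl⟩
    rw [Prod.orderOf]
    rcases a5_order a with h | h | h | h <;> rcases a5_order b with h' | h' | h' | h' <;>
      simp only [h, h'] <;> decide
  · rintro (rfl | rfl | rfl | rfl | rfl | rfl | rfl)
    · exact ⟨(1, 1), by rw [Prod.orderOf]; simp⟩
    · exact ⟨(c2, 1), by rw [Prod.orderOf]; simp [order_c2]⟩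
    · exact ⟨(c3, 1), by rw [Prod.orderOf]; simp [order_c3]⟩
    · exact ⟨(c5, 1), by rw [Prod.orderOf]; simp [order_c5]⟩
    · exact ⟨(c2, c3), by rw [Prod.orderOf]; rw [order_c2, order_c3]; decide⟩
    · exact ⟨(c2, c5), by rw [Prod.orderOf]; rw [order_c2, order_c5]; decide⟩
    · exact ⟨(c3, c5), by rw [Prod.orderOf]; rw [order_c3, order_c5]; decide⟩

end Cfsg.Agent.S3448
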