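import Mathlib
import Cfsg.Statements.S0809
import Cfsg.Agent.Helper8.SL2Order4
import Cfsg.Agent.Helper7.FiniteFieldBasics

set_option autoImplicit false
open Cfsg

namespace Cfsg.Agent.S0809

open Cfsg.Agent.Helper8.SL2C Cfsg.Agent.Helper7.SL2 Cfsg.Agent.Helper8

/-- the centraliser order of an element of trace `0`. -/
theorem card_centralizer_of_tr_zero {F : Type*} [Field F] [Fintype F] (h2 : (2 : F) ≠ 0)
    {x : Matrix.SpecialLinearGroup (Fin 2) F} (ht : tr x = 0) :
    (IsSquare (-1 : F) → Nat.card (Subgroup.centralizer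
      ({x} : Set (Matrix.SpecialLinearGroup (Fin 2) F))) = Fintype.card F - 1) ∧
    (¬ IsSquare (-1 : F) → Nat.card (Subgroup.centralizer
      ({x} : Set (Matrix.SpecialLinearGroup (Fin 2) F))) = Fintype.card F + 1) := by
  rcases classify x with h | ⟨a, ha, hc⟩ | ⟨β, hc⟩ | ⟨β, hc⟩
  · have hE : Ellt (0 : F) := by rw [← ht]; exact isEll_iff_ellt.mp h
    have hns := ellt_zero_iff.mp hE
    exact ⟨fun hs => absurd hs hns, fun _ => card_centralizer_of_ell h⟩
  · have htt : tr (tor a) = 0 := by rw [← tr_eq_of_isConj hc]; exact ht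
    have hsq : IsSquare (-1 : F) := ⟨(a : F), by rw [← pow_two]; exact (tr_tor_eq_zero_iff.mp htt).symm⟩
    refine ⟨fun _ => ?_, fun hns => absurd hsq hns⟩
    rw [card_centralizer_eq_of_isConj hc, card_centralizer_tor ha]
  · exfalso
    have := tr_eq_of_isConj hc
    rw [ht, tr_up] at this
    exact h2 this.symm
  · exfalso
    have := tr_eq_of_isConj hc
    rw [ht, tr_neg, tr_up] at this
    apply h2
    linear_combination this

/-- In SL_2(q), q odd: any two subgroups of order 4 are conjugate, and the normaliser of a subgroup of order 4 has order 2(q − 1) if q ≡ 1 (mod 4) and 2(q + 1) if q ≡ 3 (mod 4); consequently all involutions of PSL_2(q) are conjugate. -/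
theorem result {F : Type*} [Field F] [Fintype F] {q : ℕ} (hF : Fintype.card F = q) (hodd : Odd q) (A : Subgroup (Matrix.SpecialLinearGroup (Fin 2) F)) (hA : Nat.card A = 4) : (∀ B : Subgroup (Matrix.SpecialLinearGroup (Fin 2) F), Nat.card B = 4 → ∃ g : Matrix.SpecialLinearGroup (Fin 2) F, B = A.map (MulAut.conj g).toMonoidHom) ∧ (q % 4 = 1 → Nat.card ↥(Subgroup.normalizer (A : Set (Matrix.SpecialLinearGroup (Fin 2) F))) = 2 * (q - 1)) ∧ (q % 4 = 3 → Nat.card ↥(Subgroup.normalizer (A : Set (Matrix.SpecialLinearGroup (Fin 2) F))) = 2 * (q + 1)) ∧ (∀ x y : Matrix.ProjectiveSpecialLinearGroup (Fin 2) F, orderOf x = 2 → orderOf y = 2 → IsConj x y) := by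
  subst hF
  have h2 : (2 : F) ≠ 0 := Cfsg.Agent.Helper7.two_ne_zero_of_odd_card hodd
  have h04 : (0 : F) ^ 2 ≠ 4 := by
    intro h
    apply h2
    have : (2 : F) * 2 = 0 := by linear_combination -h
    exact (mul_self_eq_zero.mp this)
  obtain ⟨x, hx, rfl⟩ := exists_gen_of_card_four h2 A hA
  have htx := tr_eq_zero_of_sq hx
  have hN : Nat.card (Subgroup.normalizer ((Subgroup.zpowers x :
      Subgroup (Matrix.SpecialLinearGroup (Fin 2) F)) : Set (Matrix.SpecialLinearGroup (Fin 2) F))) =
      2 * Nat.card (Subgroup.centralizer ({x} : Set (Matrix.SpecialLinearGroup (Fin 2) F))) := by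
    rw [normalizer_zpowers_eq_Cstar h2 hx, card_Cstar_of_tr_eq h2 htx]
  have hcent := card_centralizer_of_tr_zero h2 htx
  refine ⟨?_, ?_, ?_, ?_⟩
  · intro B hB
    obtain ⟨y, hy, rfl⟩ := exists_gen_of_card_four h2 B hB
    have hty := tr_eq_zero_of_sq hy
    have h4 : tr x ^ 2 ≠ 4 := by rw [htx]; exact h04
    obtain ⟨c, hc⟩ := conj_of_tr_eq h4 (hty.trans htx.symm)
    refine ⟨c, ?_⟩
    rw [MonoidHom.map_zpowers, hc]
    rfl
  · intro hq
    have hs : IsSquare (-1 : F) := by
      rw [FiniteField.isSquare_neg_one_iff]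
      omega
    rw [hN, hcent.1 hs]
  · intro hq
    have hs : ¬ IsSquare (-1 : F) := by
      rw [FiniteField.isSquare_neg_one_iff]
      omega
    rw [hN, hcent.2 hs]
  · intro X Y hX hY
    obtain ⟨X, rfl⟩ := pmk_surjective X
    obtain ⟨Y, rfl⟩ := pmk_surjective Y
    have key : ∀ Z : Matrix.SpecialLinearGroup (Fin 2) F, orderOf (pmk Z) = 2 → tr Z = 0 := by
      intro Z hZ
      have h1 : pmk Z ^ 2 = 1 := by
        have := pow_orderOf_eq_one (pmk Z)
        rwa [hZ] at this
      rw [pmk_pow, pmk_eq_one_iff, pow_two] at h1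
      rcases h1 with h1 | h1
      · exfalso
        have hne : pmk Z ≠ 1 := by
          intro h
          rw [h, orderOf_one] at hZ
          omega
        apply hne
        rw [pmk_eq_one_iff]
        exact eq_one_or_neg_one_of_sq h2 h1
      · exact tr_eq_zero_of_sq h1
    have hX0 := key X hX
    have hY0 := key Y hY
    have h4 : tr X ^ 2 ≠ 4 := by rw [hX0]; exact h04
    obtain ⟨c, hc⟩ := conj_of_tr_eq h4 (hY0.trans hX0.symm)
    apply isConj_pmk
    rw [isConj_iff]
    exact ⟨c, hc.symm⟩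

end Cfsg.Agent.S0809
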