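import Mathlib
import Cfsg.Statements.S0985
import Cfsg.Agent.Helper2.OrbitMod

set_option autoImplicit false
open Cfsg

namespace Cfsg.Agent.S0985

open Cfsg.Agent.Helper2

/-- If the number of Sylow p-subgroups of a finite group is not congruent to 1 modulo p^k, then there are two distinct Sylow p-subgroups P and R such that the index of P ∩ R in P is at most p^(k-1). -/
theorem result {G : Type*} [Group G] [Finite G] (p k : ℕ) [Fact p.Prime] (h : ¬ Nat.card (Sylow p G) ≡ 1 [MOD p ^ k]) : ∃ P R : Sylow p G, P ≠ R ∧ ((R : Subgroup G).subgroupOf (P : Subgroup G)).index ≤ p ^ (k - 1) := by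
    classical
    have hp : p.Prime := Fact.out
    by_contra hcon
    push Not at hcon
    apply h
    let P : Sylow p G := default
    apply OrbitMod.card_modEq_one_of_orbits (M := ↥(P : Subgroup G)) (p ^ k) P
    · intro g
      exact Sylow.smul_eq_iff_mem_normalizer.mpr (Subgroup.le_normalizer g.2)
    · intro R hR
      have hidx := hcon P R (Ne.symm hR)
      have h2 : MulAction.stabilizer ↥(P : Subgroup G) R = (R : Subgroup G).subgroupOf P := by
        ext x
        rw [MulAction.mem_stabilizer_iff, Subgroup.mem_subgroupOf]
        constructor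
        · intro hx
          have h3 : (x : G) ∈ Subgroup.normalizer ((R : Subgroup G) : Set G) :=
            Sylow.smul_eq_iff_mem_normalizer.mp hx
          have h4 : (x : G) ∈ (P : Subgroup G) ⊓ Subgroup.normalizer ((R : Subgroup G) : Set G) :=
            ⟨x.2, h3⟩
          have h5 := P.isPGroup'.inf_normalizer_sylow R
          have h6 : (x : G) ∈ (P : Subgroup G) ⊓ (R : Subgroup G) := h5 ▸ h4
          exact h6.2
        · intro hx
          exact Sylow.smul_eq_iff_mem_normalizer.mpr (Subgroup.le_normalizer hx)
      have h1 : Nat.card (MulAction.orbit ↥(P : Subgroup G) R) =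
          ((R : Subgroup G).subgroupOf P).index := by
        rw [← h2, MulAction.index_stabilizer, Nat.card_coe_set_eq]
      rw [h1]
      obtain ⟨a, ha⟩ := IsPGroup.iff_card.mp P.isPGroup'
      have hdvd : ((R : Subgroup G).subgroupOf P).index ∣ p ^ a := by
        rw [← ha]
        exact Subgroup.index_dvd_card _
      obtain ⟨j, _, hj⟩ := (Nat.dvd_prime_pow hp).mp hdvd
      rw [hj] at hidx ⊢
      have hlt : k - 1 < j := (Nat.pow_lt_pow_iff_right hp.one_lt).mp hidx
      exact pow_dvd_pow p (by omega)

end Cfsg.Agent.S0985
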