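import Mathlib
import Cfsg.Statements.S0989
import Cfsg.Agent.Helper2.PermPrime
import Cfsg.Agent.Helper2.NormPrime
import Cfsg.Agent.Helper2.SylowExact

set_option autoImplicit false
open Cfsg

namespace Cfsg.Agent.S0989

open Cfsg.Agent.Helper2

/-- In the symmetric group on p or p + 1 letters, p a prime, the normalizer of a Sylow p-subgroup has order p * (p - 1). -/
theorem result {α : Type*} [Fintype α] [DecidableEq α] (p : ℕ) [Fact p.Prime] (hα : Fintype.card α = p ∨ Fintype.card α = p + 1) (P : Sylow p (Equiv.Perm α)) : Nat.card ↥(Subgroup.normalizer ((P : Subgroup (Equiv.Perm α)) : Set (Equiv.Perm α))) = p * (p - 1) := by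
    have hp : p.Prime := Fact.out
    have hle : Fintype.card α ≤ p + 1 := by rcases hα with h | h <;> omega
    have hlt : Fintype.card α < 2 * p := by have := hp.two_le; omega
    have hk : ¬ p ∣ (p - 1).factorial := by
      rw [hp.dvd_factorial]; have := hp.pos; omega
    have hfac : p.factorial = p * (p - 1).factorial := (Nat.mul_factorial_pred hp.ne_zero).symm
    have hG : ∃ m, Nat.card (Equiv.Perm α) = p * m ∧ ¬ p ∣ m := by
      rw [Nat.card_perm, Nat.card_eq_fintype_card]
      rcases hα with h | h
      · exact ⟨(p - 1).factorial, by rw [h, hfac], hk⟩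
      · refine ⟨(p + 1) * (p - 1).factorial, by rw [h, Nat.factorial_succ, hfac]; ring, ?_⟩
        intro hd
        rcases (hp.dvd_mul).mp hd with h1 | h1
        · have h2 : p ∣ 1 := (Nat.dvd_add_right (dvd_refl p)).mp h1
          have := Nat.le_of_dvd one_pos h2
          have := hp.two_le; omega
        · exact hk h1
    obtain ⟨m, hGm, hpm⟩ := hG
    have hPcard : Nat.card P = p := SylowExact.card_sylow_of_exact hGm hpm P
    obtain ⟨x, hx⟩ := exists_prime_orderOf_dvd_card' p
      (show p ∣ Nat.card (P : Subgroup (Equiv.Perm α)) by rw [hPcard])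
    have hσ : orderOf (x : Equiv.Perm α) = p := by rw [Subgroup.orderOf_coe]; exact hx
    have hcent := PermPrime.card_centralizer_of_orderOf_prime hp hσ hle
    have hσ1 : (x : Equiv.Perm α) ≠ 1 := by
      intro h
      rw [h, orderOf_one] at hσ
      exact hp.one_lt.ne hσ
    have key := NormPrime.card_normalizer_of_prime_of_conj hp (P : Subgroup (Equiv.Perm α)) hPcard
      (x : Equiv.Perm α) x.2 hσ1 ?_
    · rw [key, hcent]
    · intro y hy hy1
      have hoy : orderOf y = p := by
        have h2 : orderOf (⟨y, hy⟩ : (P : Subgroup (Equiv.Perm α))) ∣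
            Nat.card (P : Subgroup (Equiv.Perm α)) := orderOf_dvd_natCard _
        rw [hPcard, ← Subgroup.orderOf_coe] at h2
        rcases (Nat.dvd_prime hp).mp h2 with h | h
        · exact absurd (orderOf_eq_one_iff.mp h) hy1
        · exact h
      have := PermPrime.isConj_of_orderOf_prime hp hσ hoy hlt
      exact isConj_iff.mp this

end Cfsg.Agent.S0989
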