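import Mathlib
import Cfsg.Statements.S0990

set_option autoImplicit false
open Cfsg

namespace Cfsg.Agent.S0990

/-- Let p be an odd prime and P a Sylow p-subgroup of the symmetric group on a finite set with at least two elements. Then P is contained in the alternating group, and twice the order of the normalizer of P inside the alternating group equals the order of the normalizer of P in the symmetric group. -/
theorem result {α : Type*} [Fintype α] [DecidableEq α] (hα : 2 ≤ Fintype.card α) (p : ℕ) [Fact p.Prime] (hp : p ≠ 2) (P : Sylow p (Equiv.Perm α)) : (P : Subgroup (Equiv.Perm α)) ≤ alternatingGroup α ∧ 2 * Nat.card ↥(Subgroup.normalizer ((((P : Subgroup (Equiv.Perm α)).subgroupOf (alternatingGroup α) : Subgroup ↥(alternatingGroup α)) : Set ↥(alternatingGroup α)))) = Nat.card ↥(Subgroup.normalizer ((P : Subgroup (Equiv.Perm α)) : Set (Equiv.Perm α))) := by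
  classical
  haveI : Nontrivial α := Fintype.one_lt_card_iff_nontrivial.mp (by omega)
  have hPA : (P : Subgroup (Equiv.Perm α)) ≤ alternatingGroup α := by
    intro g hg
    rw [Equiv.Perm.mem_alternatingGroup]
    obtain ⟨k, hk⟩ := (P.isPGroup' : IsPGroup p (P : Subgroup (Equiv.Perm α))) ⟨g, hg⟩
    have hk' : g ^ (p ^ k) = 1 := by
      have := congrArg Subtype.val hk
      simpa using this
    have h1 : (Equiv.Perm.sign g) ^ (p ^ k) = 1 := by rw [← map_pow, hk', map_one]
    rcases Int.units_eq_one_or (Equiv.Perm.sign g) with h | h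
    · exact h
    · exfalso
      rw [h] at h1
      have hodd : Odd (p ^ k) := by
        apply Odd.pow
        exact (Fact.out : p.Prime).odd_of_ne_two hp
      rw [hodd.neg_one_pow] at h1
      exact absurd h1 (by decide)
  refine ⟨hPA, ?_⟩
  set A := alternatingGroup α with hA
  set N := Subgroup.normalizer ((P : Subgroup (Equiv.Perm α)) : Set (Equiv.Perm α)) with hN
  have hnorm : Subgroup.normalizer ((((P : Subgroup (Equiv.Perm α)).subgroupOf A : Subgroup ↥A) : Set ↥A)) = N.subgroupOf A :=
    (Subgroup.subgroupOf_normalizer_eq hPA).symm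
  rw [hnorm]
  have hsup : N ⊔ A = ⊤ := Sylow.normalizer_sup_eq_top' P hPA
  have hrel : A.relIndex N = 2 := by
    have h1 : A.relIndex (N ⊔ A) = A.relIndex N := Subgroup.relIndex_sup_right N A
    rw [← h1, hsup, Subgroup.relIndex_top_right]
    exact alternatingGroup.index_eq_two
  have hc1 : Nat.card (A.subgroupOf N) * 2 = Nat.card N := by
    rw [← hrel]
    exact Subgroup.card_mul_index (A.subgroupOf N)
  have hc2 : Nat.card (A.subgroupOf N) = Nat.card (N.subgroupOf A) := by
    rw [← Subgroup.card_map_of_injective (Subgroup.subtype_injective N),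
      ← Subgroup.card_map_of_injective (Subgroup.subtype_injective A),
      Subgroup.subgroupOf_map_subtype, Subgroup.subgroupOf_map_subtype, inf_comm]
  rw [← hc1, hc2, mul_comm]

end Cfsg.Agent.S0990
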