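import Mathlib
import Cfsg.Statements.S0740
import Cfsg.Agent.Helper2.Zass

set_option autoImplicit false
open Cfsg

namespace Cfsg.Agent.S0740

open Cfsg.Agent.Helper2

/-- In a finite Zassenhaus group any two points `a ≠ b` are swapped by an involution; every such involution has exactly one fixed point when the degree is odd and 0 or 2 fixed points when the degree is even; and if the two-point stabiliser has even order, some such involution has exactly 2 fixed points. -/
theorem result {G Ω : Type*} [Group G] [Finite G] [MulAction G Ω] [Fintype Ω] (hZ : Cfsg.IsZassenhausGroup G Ω) {a b : Ω} (hab : a ≠ b) : (∃ s : G, orderOf s = 2 ∧ s • a = b ∧ s • b = a) ∧ (∀ s : G, orderOf s = 2 → s • a = b → s • b = a → (Odd (Fintype.card Ω) → Nat.card (MulAction.fixedBy Ω s) = 1) ∧ (Even (Fintype.card Ω) → Nat.card (MulAction.fixedBy Ω s) = 0 ∨ Nat.card (MulAction.fixedBy Ω s) = 2)) ∧ (Even (Fintype.card Ω) → Even (Nat.card ↥(MulAction.stabilizer G a ⊓ MulAction.stabilizer G b)) → ∃ s : G, orderOf s = 2 ∧ s • a = b ∧ s • b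 = a ∧ Nat.card (MulAction.fixedBy Ω s) = 2) := by
    classical
    obtain ⟨hfaith, h2, h3, -, -⟩ := hZ
    have h2' : ∀ {a b c d : Ω}, a ≠ b → c ≠ d → ∃ g : G, g • a = c ∧ g • b = d :=
      MulAction.is_two_pretransitive_iff.mp h2
    have hmoves : ∀ t : G, t ≠ 1 → ∃ c : Ω, t • c ≠ c := by
      intro t ht
      by_contra hcon
      push_neg at hcon
      apply ht
      apply hfaith.eq_of_smul_eq_smul
      intro c
      rw [hcon c, one_smul]
    have hne1 : ∀ s : G, orderOf s = 2 → s ≠ 1 := by
      intro s hs h; rw [h, orderOf_one] at hs; omega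
    have hsq : ∀ s : G, orderOf s = 2 → s ^ 2 = 1 := by
      intro s hs; rw [← hs]; exact pow_orderOf_eq_one s
    refine ⟨?_, ?_, ?_⟩
    · obtain ⟨g, hga, hgb⟩ := h2' hab hab.symm
      have heven := Zass.two_dvd_orderOf_of_swap g hab hga hgb
      have ht : orderOf (g ^ (orderOf g / 2)) = 2 :=
        orderOf_pow_orderOf_div (orderOf_pos g).ne' heven
      obtain ⟨c, hc⟩ := hmoves _ (hne1 _ ht)
      obtain ⟨h, h1, h2a, h2b, -, -⟩ := Zass.exists_swap_conj h2' _ ht c hc hab
      exact ⟨_, h1, h2a, h2b⟩
    · intro s hs hsa hsb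
      have hle := Zass.card_fixedBy_le_two h3 s (hne1 s hs)
      have hmod := Zass.card_fixedBy_mod_two (Ω := Ω) s (hsq s hs)
      constructor
      · intro hodd
        have := Nat.odd_iff.mp hodd
        omega
      · intro hev
        have := Nat.even_iff.mp hev
        omega
    · intro _ hev
      haveI : Fact (Nat.Prime 2) := ⟨Nat.prime_two⟩
      obtain ⟨u, hu⟩ := exists_prime_orderOf_dvd_card' 2 hev.two_dvd
      rw [← Subgroup.orderOf_coe] at hu
      have hua : (u : G) • a = a := MulAction.mem_stabilizer_iff.mp u.2.1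
      have hub : (u : G) • b = b := MulAction.mem_stabilizer_iff.mp u.2.2
      obtain ⟨c, hc⟩ := hmoves _ (hne1 _ hu)
      obtain ⟨h, h1, h2a, h2b, -, -⟩ := Zass.exists_swap_conj h2' _ hu c hc hab
      refine ⟨_, h1, h2a, h2b, ?_⟩
      apply le_antisymm (Zass.card_fixedBy_le_two h3 _ (hne1 _ h1))
      apply Zass.two_le_card_fixedBy _ (h • a) (h • b)
      · intro hh
        exact hab (MulAction.injective h hh)
      · rw [mul_smul, mul_smul, inv_smul_smul, hua]
      · rw [mul_smul, mul_smul, inv_smul_smul, hub]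

end Cfsg.Agent.S0740
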