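import Mathlib
import Cfsg.Statements.S0345
import Cfsg.Agent.Helper2.Sh3SimH
import Cfsg.Agent.Helper2.Sh3SimI
import Cfsg.Agent.S0739
import Cfsg.Agent.S0740

set_option autoImplicit false
open Cfsg

namespace Cfsg.Agent.S0345

open Cfsg.Agent.Helper2

/-- In a finite simple Zassenhaus group the stabiliser `H` of two points `a ≠ b` is cyclic, and some involution
interchanging `a` and `b` inverts every element of `H`. -/
theorem result {G Ω : Type*} [Group G] [Finite G] [MulAction G Ω] [Finite Ω]
    (hZ : Cfsg.IsZassenhausGroup G Ω) [IsSimpleGroup G]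
    {a b : Ω} (hab : a ≠ b) :
    IsCyclic ↥(MulAction.stabilizer G a ⊓ MulAction.stabilizer G b) ∧
      ∃ v : G, orderOf v = 2 ∧ v • a = b ∧ v • b = a ∧ ∀ h ∈ MulAction.stabilizer G a ⊓ MulAction.stabilizer G b, v * h * v⁻¹ = h⁻¹ := by
    classical
    haveI : Fintype Ω := Fintype.ofFinite Ω
    rcases Nat.even_or_odd (Nat.card ↥(MulAction.stabilizer G a ⊓ MulAction.stabilizer G b)) with
      heven | hodd
    · have h2e := Cfsg.Agent.Helper2.Sh3Sim.two_mul_eq_of_simple hZ hab heven
      exact Cfsg.Agent.Helper2.Sh3Sim.cyclic_and_inverted hZ hab heven (le_of_eq h2e)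
    · have hnil : ∀ q : ℕ, q.Prime →
          q ∣ Nat.card ↥(MulAction.stabilizer G a ⊓ MulAction.stabilizer G b) →
          ¬ ∃ N : Subgroup G, N.Normal ∧ N.index = q ^ (Nat.card G).factorization q := by
        rintro q hq hqe ⟨N, hN, hidx⟩
        have hqG : q ∣ Nat.card G := hqe.trans (Subgroup.card_subgroup_dvd_card _)
        rcases hN.eq_bot_or_eq_top with hbot | htop
        · rw [hbot, Subgroup.index_bot] at hidx
          haveI : Fact q.Prime := ⟨hq⟩
          have hp : IsPGroup q G := IsPGroup.of_card hidx
          haveI := hp.isNilpotent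
          have hsolv : Group.IsSolvable G := inferInstance
          have hcomm := (IsSimpleGroup.comm_iff_isSolvable).mpr hsolv
          obtain ⟨g, hg1, x, y, hxy, hgx, hgy⟩ := hZ.2.2.2.1
          apply hg1
          haveI := hZ.1
          apply hZ.1.eq_of_smul_eq_smul (α := Ω)
          intro z
          have h2t := hZ.2.1
          rw [MulAction.is_two_pretransitive_iff] at h2t
          by_cases hzx : z = x
          · rw [hzx, hgx, one_smul]
          · obtain ⟨k, hk1, -⟩ := h2t hxy hzx
            rw [← hk1, ← mul_smul, hcomm g k, mul_smul, hgx, one_smul]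
        · rw [htop, Subgroup.index_top] at hidx
          have hv : (Nat.card G).factorization q = 0 := by
            by_contra hv
            have := Nat.one_lt_pow hv hq.one_lt
            omega
          rcases (Nat.factorization_eq_zero_iff _ _).mp hv with h | h | h
          · exact h hq
          · exact h hqG
          · have : 0 < Nat.card G := Nat.card_pos
            omega
      obtain ⟨hcyc, -, hinv⟩ := Cfsg.Agent.S0739.result hZ hab hodd hnil
      obtain ⟨⟨s, hs2, hsa, hsb⟩, -, -⟩ := Cfsg.Agent.S0740.result hZ hab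
      exact ⟨hcyc, s, hs2, hsa, hsb, hinv s hsa hsb⟩

end Cfsg.Agent.S0345
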