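import Mathlib
import Cfsg.Statements.S1009
import Cfsg.Agent.Helper2.SylowConj
import Cfsg.Agent.Helper2.Signalizer1

set_option autoImplicit false
open Cfsg

namespace Cfsg.Agent.S1009

open Cfsg.Agent.Helper2

/-- Brodkey's Theorem: if a finite group has abelian Sylow p-subgroups, then there are two Sylow p-subgroups whose intersection equals the intersection of all Sylow p-subgroups. -/
theorem result {G : Type*} [Group G] [Finite G] (p : ℕ) [Fact p.Prime] (hab : ∀ P : Sylow p G, IsMulCommutative ↥(P : Subgroup G)) : ∃ P Q : Sylow p G, (P : Subgroup G) ⊓ (Q : Subgroup G) = ⨅ R : Sylow p G, (R : Subgroup G) := by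
  classical
  obtain ⟨⟨P, Q⟩, hmin⟩ := Finite.exists_min
    (fun PQ : Sylow p G × Sylow p G => Nat.card ↥((PQ.1 : Subgroup G) ⊓ (PQ.2 : Subgroup G)))
  refine ⟨P, Q, le_antisymm ?_ (le_inf (iInf_le _ P) (iInf_le _ Q))⟩
  apply le_iInf
  intro R
  set D := (P : Subgroup G) ⊓ (Q : Subgroup G) with hD
  set N := Subgroup.normalizer (D : Set G) with hN
  have hPN : (P : Subgroup G) ≤ N := by
    apply le_normalizer_of_conj_mem
    intro b hb d hd
    have := hab P
    have h1 : b * d = d * b := setLike_mul_comm (s := (P : Subgroup G)) hb hd.1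
    rw [h1, mul_inv_cancel_right]; exact hd
  have hQN : (Q : Subgroup G) ≤ N := by
    apply le_normalizer_of_conj_mem
    intro b hb d hd
    have := hab Q
    have h1 : b * d = d * b := setLike_mul_comm (s := (Q : Subgroup G)) hb hd.2
    rw [h1, mul_inv_cancel_right]; exact hd
  -- conjugate `R ⊓ N` into `P` inside `N`
  have hK : IsPGroup p ↥(((R : Subgroup G) ⊓ N).subgroupOf N) :=
    (R.2.to_le inf_le_left).comap_subtype
  obtain ⟨n, hn⟩ := exists_conj_le_sylow (P.subtype hPN) _ hK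
  set x : G := (n : G) with hx
  have hxN : x ∈ N := n.2
  have hconj : ∀ r ∈ (R : Subgroup G), r ∈ N → x * r * x⁻¹ ∈ (P : Subgroup G) := by
    intro r hr hrN
    have h1 := hn ⟨r, hrN⟩ (Subgroup.mem_subgroupOf.mpr ⟨hr, hrN⟩)
    change _ ∈ ((P.subtype hPN : Sylow p ↥N) : Subgroup ↥N) at h1
    rw [Sylow.coe_subtype, Subgroup.mem_subgroupOf] at h1
    exact h1
  have hle : ((x • R : Sylow p G) : Subgroup G) ⊓ (Q : Subgroup G) ≤ D := by
    intro y hy
    have hy1 : y ∈ ((x • R : Sylow p G) : Subgroup G) := hy.1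
    rw [mem_smul_sylow_iff] at hy1
    have hyN : y ∈ N := hQN hy.2
    have hrN : x⁻¹ * y * x ∈ N := mul_mem (mul_mem (inv_mem hxN) hyN) hxN
    have h2 := hconj _ hy1 hrN
    have h3 : x * (x⁻¹ * y * x) * x⁻¹ = y := by group
    rw [h3] at h2
    exact ⟨h2, hy.2⟩
  have hcard := hmin (x • R, Q)
  have heq : ((x • R : Sylow p G) : Subgroup G) ⊓ (Q : Subgroup G) = D :=
    Subgroup.eq_of_le_of_card_ge hle hcard
  intro d hd
  have hd' : x * d * x⁻¹ ∈ D := conj_mem_of_le_normalizer (le_refl N) x hxN d hd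
  rw [← heq] at hd'
  have h4 : x * d * x⁻¹ ∈ ((x • R : Sylow p G) : Subgroup G) := hd'.1
  rw [mem_smul_sylow_iff] at h4
  have h5 : x⁻¹ * (x * d * x⁻¹) * x = d := by group
  rw [h5] at h4
  exact h4

end Cfsg.Agent.S1009
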