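import Cfsg.Statements.S0157
import Mathlib
import Cfsg.Agent.Helper4.PermCharOrbits
import Cfsg.Agent.Helper6.OddReal
import Cfsg.Agent.Helper6.Constituent
import Cfsg.Agent.Helper6.IrrCrit
import Cfsg.Agent.Helper6.Induced
import Cfsg.Agent.Helper6.IndFun
-- import your own Cfsg.Agent.* helpers here

set_option autoImplicit false
open Cfsg

namespace Cfsg.Agent.S0157

/-- For a transitive action of a finite group on a finite set with at least two points: the action is 2-transitive if and only if the function sending g to (number of fixed points of g) − 1 is an irreducible character. -/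
theorem result {G : Type*} [Group G] [Finite G] (X : Type*) [MulAction G X] [Finite X] [MulAction.IsPretransitive G X] (hX : 2 ≤ Nat.card X) : Cfsg.IsIrrCharacter G (fun g => (Nat.card (MulAction.fixedBy X g) : ℂ) - 1) ↔ MulAction.IsMultiplyPretransitive G X 2 := by
  classical
  haveI := Fintype.ofFinite G
  have hXpos : 0 < Nat.card X := by omega
  haveI hne : Nonempty X := (Nat.card_pos_iff.mp hXpos).1
  obtain ⟨one, hone⟩ : ∃ one : G → ℂ, one = fun _ => (1 : ℂ) := ⟨_, rfl⟩
  obtain ⟨π, hπdef⟩ : ∃ π : G → ℂ, π = fun g => (Nat.card (MulAction.fixedBy X g) : ℂ) := ⟨_, rfl⟩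
  have hfun : (fun g : G => (Nat.card (MulAction.fixedBy X g) : ℂ) - 1) = π - one := by
    rw [hπdef, hone]; rfl
  rw [hfun]
  have hone_irr : Cfsg.IsIrrCharacter G one := hone ▸ Cfsg.Agent.Helper6.isIrrCharacter_one
  have hone_cf : Cfsg.IsClassFunction G one := by
    intro g h; rw [hone]
  have hπ_ind : ∀ a : X, π = Cfsg.indFun (MulAction.stabilizer G a) (fun _ => (1 : ℂ)) := by
    intro a
    rw [hπdef]; exact Cfsg.Agent.Helper6.permChar_eq_indFun X a
  have hπ_char : Cfsg.IsCharacter G π := by
    rw [hπ_ind (Classical.arbitrary X)]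
    exact Cfsg.Agent.Helper6.isCharacter_indFun _ _ Cfsg.Agent.Helper6.isCharacter_one
  have hπ_cf := Cfsg.Agent.Helper6.IsCharacter.isClassFunction hπ_char
  have h11 : Cfsg.classInner one one = 1 := Cfsg.Agent.Helper6.classInner_irr_self hone_irr
  have hπ1 : Cfsg.classInner π one = 1 := by
    haveI : Fintype (MulAction.stabilizer G (Classical.arbitrary X)) := Fintype.ofFinite _
    rw [hπ_ind (Classical.arbitrary X),
      Cfsg.Agent.Helper6.frobenius_reciprocity _ _ one hone_cf, hone]
    exact Cfsg.Agent.Helper6.classInner_irr_self Cfsg.Agent.Helper6.isIrrCharacter_one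
  have h1π : Cfsg.classInner one π = 1 := by
    rw [Cfsg.Agent.Helper6.classInner_conj_symm π one, hπ1, map_one]
  have hππ : ∀ a : X, Cfsg.classInner π π =
      (Nat.card (MulAction.orbitRel.Quotient (MulAction.stabilizer G a) X) : ℂ) := by
    intro a
    haveI : Fintype (MulAction.stabilizer G a) := Fintype.ofFinite _
    have h1 : Cfsg.classInner π π =
        Cfsg.classInner (Cfsg.indFun (MulAction.stabilizer G a) (fun _ => (1 : ℂ))) π := by
      rw [← hπ_ind a]
    rw [h1, Cfsg.Agent.Helper6.frobenius_reciprocity _ _ π hπ_cf, hπdef]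
    exact Cfsg.Agent.Helper4.classInner_one_permChar (K := MulAction.stabilizer G a) X
  have hχ_char : Cfsg.IsCharacter G (π - one) :=
    Cfsg.Agent.Helper6.sub_isCharacter_of_constituent hπ_char hone_irr
      (by rw [hπ1]; exact one_ne_zero)
  have hχχ : Cfsg.classInner (π - one) (π - one) = Cfsg.classInner π π - 1 := by
    rw [Cfsg.Agent.Helper6.classInner_sub_left, Cfsg.Agent.Helper6.classInner_sub_right,
      Cfsg.Agent.Helper6.classInner_sub_right, hπ1, h1π, h11]
    ring
  constructor
  · intro hirr
    have h1 := Cfsg.Agent.Helper6.classInner_irr_self hirr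
    rw [hχχ] at h1
    have h2 : ∀ a : X, Nat.card (MulAction.orbitRel.Quotient (MulAction.stabilizer G a) X) = 2 := by
      intro a
      have h3 : (Nat.card (MulAction.orbitRel.Quotient (MulAction.stabilizer G a) X) : ℂ) = 2 := by
        rw [← hππ a]
        linear_combination h1
      exact_mod_cast h3
    rw [MulAction.is_two_pretransitive_iff]
    intro a b c d hab hcd
    obtain ⟨g₁, hg₁⟩ := MulAction.exists_smul_eq G a c
    -- the stabilizer of c has two orbits: all points other than c are in one orbit
    have horb : ∀ u v : X, u ≠ c → v ≠ c → ∃ k : MulAction.stabilizer G c, k • u = v := by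
      intro u v hu hv
      by_contra hno
      push Not at hno
      have hthree : 2 < Nat.card (MulAction.orbitRel.Quotient (MulAction.stabilizer G c) X) := by
        haveI : Fintype (MulAction.orbitRel.Quotient (MulAction.stabilizer G c) X) :=
          Fintype.ofFinite _
        rw [Nat.card_eq_fintype_card, Fintype.two_lt_card_iff]
        refine ⟨Quotient.mk'' c, Quotient.mk'' u, Quotient.mk'' v, ?_, ?_, ?_⟩
        · intro h
          rw [Quotient.eq''] at h
          obtain ⟨k, hk⟩ := h
          have hk1 : (k : G) • u = c := hk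
          have hk2 : (k : G) • c = c := k.2
          exact hu (smul_left_cancel (k : G) (hk1.trans hk2.symm))
        · intro h
          rw [Quotient.eq''] at h
          obtain ⟨k, hk⟩ := h
          have hk1 : (k : G) • v = c := hk
          have hk2 : (k : G) • c = c := k.2
          exact hv (smul_left_cancel (k : G) (hk1.trans hk2.symm))
        · intro h
          rw [Quotient.eq''] at h
          obtain ⟨k, hk⟩ := h
          have hk1 : k • v = u := hk
          apply hno k⁻¹
          rw [← hk1, inv_smul_smul]
      rw [h2 c] at hthree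
      exact absurd hthree (lt_irrefl 2)
    have hb' : g₁ • b ≠ c := by
      intro h
      apply hab
      rw [← hg₁] at h
      exact (smul_left_cancel g₁ h).symm
    obtain ⟨k, hk⟩ := horb (g₁ • b) d hb' (Ne.symm hcd)
    refine ⟨(k : G) * g₁, ?_, ?_⟩
    · rw [mul_smul, hg₁]
      exact k.2
    · rw [mul_smul]
      exact hk
  · intro h2
    obtain ⟨a⟩ := hne
    obtain ⟨b, hb⟩ : ∃ b : X, b ≠ a := by
      by_contra hall
      push Not at hall
      have : Nat.card X ≤ 1 := by
        haveI : Subsingleton X := ⟨fun x y => by rw [hall x, hall y]⟩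
        exact Finite.card_le_one_iff_subsingleton.mpr inferInstance
      omega
    have h3 := Cfsg.Agent.Helper4.card_orbits_stabilizer_of_two_pretransitive h2 a b (Ne.symm hb)
    have h4 : Cfsg.classInner (π - one) (π - one) = 1 := by
      rw [hχχ, hππ a, h3]
      norm_num
    exact Cfsg.Agent.Helper6.isIrrCharacter_of_classInner_self hχ_char h4

end Cfsg.Agent.S0157
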