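import Mathlib
import Cfsg.Statements.S3742
import Cfsg.Statements.S3742
-- import your own Cfsg.Agent.* helpers here

set_option autoImplicit false
open Cfsg

namespace Cfsg.Agent.S3742
open Cfsg

open QuaternionGroup

/-- The quaternion group of order 8. -/
abbrev Q := QuaternionGroup 2

/-- The map `Q → Q` determined by the images `u`, `v` of the generators `a 1`, `xa 0`. -/
def lift (u v : Q) : Q → Q
  | a i => u ^ (ZMod.val i)
  | xa i => v * u ^ (ZMod.val i)

/-- The unit quaternion `(d_a + d_b)/2` for two of the four body diagonals of the cube. -/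
def qq (x y : Fin 4) : Q :=
  match x.val, y.val with
  | 0, 1 => a 1
  | 1, 0 => a 1
  | 2, 3 => a 3
  | 3, 2 => a 3
  | 0, 2 => xa 0
  | 2, 0 => xa 0
  | 1, 3 => xa 2
  | 3, 1 => xa 2
  | 0, 3 => xa 3
  | 3, 0 => xa 3
  | 1, 2 => xa 1
  | 2, 1 => xa 1
  | _, _ => 1

/-- Sign twist. -/
def tw (σ : Equiv.Perm (Fin 4)) (g : Q) : Q := if Equiv.Perm.sign σ = 1 then g else a 2 * g

/-- The automorphism attached to a permutation, as a function. -/
def L (σ : Equiv.Perm (Fin 4)) : Q → Q :=
  lift (tw σ (qq (σ 0) (σ 1))) (tw σ (qq (σ 0) (σ 2)))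

set_option maxRecDepth 100000 in
theorem L_mul : ∀ σ : Equiv.Perm (Fin 4), ∀ g h : Q, L σ (g * h) = L σ g * L σ h := by
  decide +kernel

set_option maxRecDepth 100000 in
theorem L_comp : ∀ σ τ : Equiv.Perm (Fin 4), ∀ g : Q, L (σ * τ) g = L σ (L τ g) := by
  decide +kernel

set_option maxRecDepth 100000 in
theorem L_one : ∀ g : Q, L 1 g = g := by
  decide +kernel

set_option maxRecDepth 100000 in
theorem L_inj : ∀ σ : Equiv.Perm (Fin 4), (∀ g : Q, L σ g = g) → σ = 1 := by
  decide +kernel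

/-- The automorphism attached to a permutation. -/
def autOf (σ : Equiv.Perm (Fin 4)) : MulAut Q where
  toFun := L σ
  invFun := L σ⁻¹
  left_inv g := by rw [← L_comp, inv_mul_cancel, L_one]
  right_inv g := by rw [← L_comp, mul_inv_cancel, L_one]
  map_mul' := L_mul σ

/-- The homomorphism `S₄ → Aut(Q₈)`. -/
def Psi : Equiv.Perm (Fin 4) →* MulAut Q where
  toFun := autOf
  map_one' := MulEquiv.ext fun g => L_one g
  map_mul' σ τ := MulEquiv.ext fun g => L_comp σ τ g

theorem Psi_injective : Function.Injective Psi := by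
  rw [injective_iff_map_eq_one]
  intro σ hσ
  apply L_inj
  intro g
  have := congrArg (fun φ : MulAut Q => φ g) hσ
  exact this

/-- Pairs that can be images of the generators. -/
def Vd : Finset (Q × Q) :=
  Finset.univ.filter fun p => p.1 ^ 2 ≠ 1 ∧ p.2 ^ 2 ≠ 1 ∧ p.2 ≠ p.1 ∧ p.2 ≠ p.1⁻¹

theorem card_Vd : Vd.card = 24 := by decide +kernel

theorem a_eq_pow (i : ZMod (2 * 2)) : (a i : Q) = (a 1) ^ (ZMod.val i) := by
  rw [a_one_pow, ZMod.natCast_zmod_val]

theorem xa_eq (i : ZMod (2 * 2)) : (xa i : Q) = xa 0 * (a 1) ^ (ZMod.val i) := by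
  rw [a_one_pow, ZMod.natCast_zmod_val, xa_mul_a, zero_add]

theorem aut_ext (φ ψ : MulAut Q) (h1 : φ (a 1) = ψ (a 1)) (h2 : φ (xa 0) = ψ (xa 0)) : φ = ψ := by
  apply MulEquiv.ext
  intro g
  cases g with
  | a i => rw [a_eq_pow, map_pow, map_pow, h1]
  | xa i => rw [xa_eq, map_mul, map_mul, map_pow, map_pow, h1, h2]

theorem mem_Vd (φ : MulAut Q) : (φ (a 1), φ (xa 0)) ∈ Vd := by
  simp only [Vd, Finset.mem_filter, Finset.mem_univ, true_and]
  refine ⟨?_, ?_, ?_, ?_⟩
  · rw [← map_pow, Ne, ← map_one φ, φ.injective.eq_iff]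
    decide
  · rw [← map_pow, Ne, ← map_one φ, φ.injective.eq_iff]
    decide
  · rw [Ne, φ.injective.eq_iff]
    decide
  · rw [← map_inv, Ne, φ.injective.eq_iff]
    decide

theorem card_aut_le : Nat.card (MulAut Q) ≤ 24 := by
  let f : MulAut Q → {p : Q × Q // p ∈ Vd} := fun φ => ⟨(φ (a 1), φ (xa 0)), mem_Vd φ⟩
  have hf : Function.Injective f := by
    intro φ ψ h
    have h' := congrArg Subtype.val h
    simp only [f, Prod.mk.injEq] at h'
    exact aut_ext φ ψ h'.1 h'.2
  have := Nat.card_le_card_of_injective f hf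
  have h2 : Nat.card {p : Q × Q // p ∈ Vd} = 24 := by
    rw [Nat.card_eq_fintype_card, Fintype.card_coe, card_Vd]
  rwa [h2] at this

/-- The automorphism group of the quaternion group of order 8 is isomorphic to the symmetric group of degree 4. -/
theorem result : Nonempty (MulAut (QuaternionGroup 2) ≃* Equiv.Perm (Fin 4)) := by
  have hb : Function.Bijective Psi := by
    apply Function.Injective.bijective_of_nat_card_le Psi_injective
    rw [Nat.card_perm, Nat.card_fin]
    exact card_aut_le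
  exact ⟨(MulEquiv.ofBijective Psi hb).symm⟩


end Cfsg.Agent.S3742
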