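import Mathlib
import Cfsg.Statements.S0499
import Cfsg.Agent.Helper2.OddAut
import Cfsg.Agent.Helper1.FrobPCompl

set_option autoImplicit false
open Cfsg

namespace Cfsg.Agent.S0499

open Cfsg.Agent.Helper2

/-- A non-abelian finite simple group of even order has order divisible by 12, 16 or 56. -/
theorem result {G : Type*} [Group G] [Finite G] [IsSimpleGroup G]
    (hG : ¬ IsMulCommutative G) (h2 : Even (Nat.card G)) :
    12 ∣ Nat.card G ∨ 16 ∣ Nat.card G ∨ 56 ∣ Nat.card G := by
    classical
    haveI : Fact (Nat.Prime 2) := ⟨Nat.prime_two⟩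
    have h2' : 2 ∣ Nat.card G := even_iff_two_dvd.mp h2
    -- no normal 2-complement
    have hnc : ¬ Cfsg.HasNormalPComplement 2 G := by
      rintro ⟨P, N, hN, hc⟩
      rcases hN.eq_bot_or_eq_top with h | h
      · rw [h, Subgroup.isComplement'_bot_left] at hc
        have hP : IsPGroup 2 G := by
          have := P.isPGroup'
          rw [hc] at this
          exact IsPGroup.of_equiv this Subgroup.topEquiv
        have hcn := hP.center_nontrivial
        rcases (inferInstance : (Subgroup.center G).Normal).eq_bot_or_eq_top with h0 | h0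
        · rw [h0] at hcn
          exact not_nontrivial _ hcn
        · apply hG
          refine ⟨⟨fun a b => ?_⟩⟩
          have : a ∈ Subgroup.center G := by rw [h0]; exact Subgroup.mem_top a
          exact ((Subgroup.mem_center_iff.mp this) b).symm
      · rw [h, Subgroup.isComplement'_top_left] at hc
        exact P.ne_bot_of_dvd_card h2' hc
    have hfrob : ¬ Cfsg.Agent.Helper1.PLocalCentral 2 G := fun h =>
      hnc (Cfsg.Agent.Helper1.frobenius_pcomplement h)
    unfold Cfsg.Agent.Helper1.PLocalCentral at hfrob
    push Not at hfrob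
    obtain ⟨Q, hQ, g, hg, hodd, hgc⟩ := hfrob
    by_cases h16 : 16 ∣ Nat.card G
    · right; left; exact h16
    have hQ8 : Nat.card Q ∣ 8 := by
      obtain ⟨k, hk⟩ := IsPGroup.iff_card.mp hQ
      have h1 : 2 ^ k ∣ Nat.card G := hk ▸ Subgroup.card_subgroup_dvd_card Q
      have hk3 : k ≤ 3 := by
        by_contra hk4
        push Not at hk4
        apply h16
        exact (pow_dvd_pow 2 hk4).trans h1
      rw [hk]
      exact pow_dvd_pow 2 hk3
    have hgn : orderOf g ∣ Nat.card G := orderOf_dvd_natCard g
    have hQn : Nat.card Q ∣ Nat.card G := Subgroup.card_subgroup_dvd_card Q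
    rcases Cfsg.Agent.Helper2.OddAut.odd_action_small Q hQ hQ8 g hg hgc hodd with ⟨h3, h4⟩ | ⟨h7, h8⟩
    · left
      have : Nat.Coprime 3 4 := by norm_num
      exact this.mul_dvd_of_dvd_of_dvd (h3.trans hgn) (h4.trans hQn)
    · right; right
      have : Nat.Coprime 7 8 := by norm_num
      rw [h8] at hQn
      exact this.mul_dvd_of_dvd_of_dvd (h7.trans hgn) hQn

end Cfsg.Agent.S0499
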