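import Mathlib
import Cfsg.Statements.S1302
import Cfsg.Agent.Helper2.BaerCC
import Cfsg.Agent.Helper2.PConstrained3
import Cfsg.Agent.Helper2.FratActB

set_option autoImplicit false
open Cfsg

namespace Cfsg.Agent.S1302

open Cfsg.Agent.Helper2

open Cfsg.Agent.Helper1 Cfsg.Agent.Helper5

/-- Let X be a finite p-constrained group, p an odd prime, and A an abelian p-subgroup of X containing every element of order p of C_X(A). Then every subgroup of X of order prime to p that is normalized by A lies in O_{p'}(X). -/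
theorem result {X : Type*} [Group X] [Finite X] (p : ℕ) [Fact p.Prime] (hp : p ≠ 2) (hX : Cfsg.IsPConstrained p X) (A : Subgroup X) (hA : IsMulCommutative ↥A) (hAp : IsPGroup p ↥A) (hΩ : ∀ x ∈ Subgroup.centralizer (A : Set X), orderOf x = p → x ∈ A) (Q : Subgroup X) (hQ : ¬ p ∣ Nat.card ↥Q) (hAQ : A ≤ Subgroup.normalizer (Q : Set X)) : Q ≤ Cfsg.pPrimeCore p X := by
  classical
  set O := Cfsg.pPrimeCore p X with hOdef
  have hOc : (Nat.card O).Coprime p := card_pPrimeCore_coprime p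
  set π := QuotientGroup.mk' O with hπ
  have hXb : Cfsg.IsPConstrained p (X ⧸ O) := (isPConstrained_quotient_iff p).mp hX
  have hchar : HasCharP p (X ⧸ O) :=
    FratAct.hasCharP_of_isPConstrained hXb (pPrimeCore_quotient_pPrimeCore p)
  set Qb := Cfsg.pCore p (X ⧸ O) with hQb
  have hQbp : IsPGroup p ↥Qb := isPGroup_pCore p
  set Ab := A.map π with hAb
  set Kb := Q.map π with hKb
  have hAbp : IsPGroup p ↥Ab := hAp.map π
  have hKbc : (Nat.card ↥Kb).Coprime p := by
    have h1 : Nat.card ↥Kb ∣ Nat.card ↥Q := Subgroup.card_map_dvd Q π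
    have h2 : (Nat.card ↥Q).Coprime p := ((Nat.Prime.coprime_iff_not_dvd (Fact.out)).mpr hQ).symm
    exact h2.coprime_dvd_left h1
  have hdisj : Qb ⊓ Kb = ⊥ := by
    apply Subgroup.inf_eq_bot_of_coprime
    obtain ⟨n, hn⟩ := IsPGroup.iff_card.mp hQbp
    rw [hn]
    exact (Nat.Coprime.pow_right n hKbc).symm
  set N := Subgroup.normalizer (Kb : Set (X ⧸ O)) with hN
  have hKN : Kb ≤ N := Subgroup.le_normalizer
  have hAN : Ab ≤ N := by
    rintro _ ⟨a, ha, rfl⟩
    rw [hN, Subgroup.mem_normalizer_iff]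
    intro h
    constructor
    · rintro ⟨y, hy, rfl⟩
      refine ⟨a * y * a⁻¹, (Subgroup.mem_normalizer_iff.mp (hAQ ha) y).mp hy, ?_⟩
      simp
    · intro hh
      obtain ⟨y, hy, hyh⟩ := hh
      refine ⟨a⁻¹ * y * a, ?_, ?_⟩
      · have := (Subgroup.mem_normalizer_iff.mp (hAQ (A.inv_mem ha)) y).mp hy
        rwa [inv_inv] at this
      · rw [map_mul, map_mul, hyh, map_inv]; group
  letI : MulDistribMulAction ↥N ↥Qb :=
    MulDistribMulAction.compHom ↥Qb ((MulAut.conjNormal (H := Qb)).comp N.subtype)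
  have hsmul : ∀ (h : ↥N) (x : ↥Qb), ((h • x : ↥Qb) : X ⧸ O) = (h : X ⧸ O) * x * (h : X ⧸ O)⁻¹ :=
    fun h x => rfl
  haveI hKn' : (Kb.subgroupOf N).Normal := Subgroup.normal_in_normalizer
  have hA' : IsPGroup p ↥(Ab.subgroupOf N) :=
    hAbp.of_equiv (Subgroup.subgroupOfEquivOfLe hAN).symm
  have hK' : (Nat.card ↥(Kb.subgroupOf N)).Coprime p := by
    rw [Nat.card_congr (Subgroup.subgroupOfEquivOfLe hKN).toEquiv]
    exact hKbc
  have hyp : ∀ x : ↥Qb, x ^ p = 1 → (∀ a ∈ Ab.subgroupOf N, a • x = x) →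
      ∀ k ∈ Kb.subgroupOf N, k • x = x := by
    intro x hxp hxA k hk
    by_cases hx1 : x = 1
    · rw [hx1, smul_one]
    have hxp' : (x : X ⧸ O) ^ p = 1 := by
      have := congrArg Subtype.val hxp
      rwa [Subgroup.coe_pow] at this
    have hxc : (x : X ⧸ O) ∈ Subgroup.centralizer ((Ab : Subgroup (X ⧸ O)) : Set (X ⧸ O)) := by
      rw [Subgroup.mem_centralizer_iff]
      intro ab hab
      have h1 := hxA ⟨ab, hAN hab⟩ hab
      have h2 := congrArg Subtype.val h1
      rw [hsmul] at h2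
      simp only at h2
      have h3 := congrArg (· * ab) h2
      simp only [inv_mul_cancel_right] at h3
      exact h3
    rw [hAb, hπ, ← map_centralizer_eq_of_coprime p O hOc A hAp] at hxc
    obtain ⟨c, hc, hcx⟩ := hxc
    obtain ⟨m', -, hm'⟩ := Nat.exists_mul_mod_eq_one_of_coprime hOc (Fact.out : p.Prime).one_lt
    set c' := c ^ (Nat.card ↥O * m') with hc'
    have hc'c : c' ∈ Subgroup.centralizer (A : Set X) := Subgroup.pow_mem _ hc _
    have hπc' : π c' = (x : X ⧸ O) := by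
      rw [hc', map_pow]
      change (QuotientGroup.mk' O c) ^ _ = _
      rw [hcx, pow_eq_pow_mod _ hxp', hm', pow_one]
    have hcpO : c ^ p ∈ O := by
      rw [← QuotientGroup.eq_one_iff, ← QuotientGroup.mk'_apply, map_pow, hcx, hxp']
    have hc'p : c' ^ p = 1 := by
      have : (c ^ p) ^ Nat.card ↥O = 1 := by
        have h1 := pow_card_eq_one' (G := ↥O) (x := ⟨c ^ p, hcpO⟩)
        have h2 := congrArg Subtype.val h1
        rwa [Subgroup.coe_pow] at h2
      rw [hc', ← pow_mul, mul_comm, pow_mul, pow_mul, this, one_pow]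
    have hc'1 : c' ≠ 1 := by
      intro h
      apply hx1
      apply Subtype.ext
      rw [← hπc', h, map_one]
      rfl
    have hc'A : c' ∈ A := hΩ c' hc'c (orderOf_eq_prime hc'p hc'1)
    obtain ⟨y, hy, hyk⟩ := (Subgroup.mem_subgroupOf.mp hk : (k : X ⧸ O) ∈ Kb)
    have hu : c' * y * c'⁻¹ * y⁻¹ ∈ Q :=
      Q.mul_mem ((Subgroup.mem_normalizer_iff.mp (hAQ hc'A) y).mp hy) (Q.inv_mem hy)
    have hπu : π (c' * y * c'⁻¹ * y⁻¹) ∈ Qb ⊓ Kb := by
      refine ⟨?_, ⟨_, hu, rfl⟩⟩
      rw [map_mul, map_mul, map_mul, map_inv, map_inv, hπc', mul_assoc, mul_assoc]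
      apply Qb.mul_mem x.2
      have := (inferInstance : Qb.Normal).conj_mem _ (Qb.inv_mem x.2) (π y)
      rwa [mul_assoc] at this
    rw [hdisj, Subgroup.mem_bot, map_mul, map_mul, map_mul, map_inv, map_inv, hπc', hyk] at hπu
    apply Subtype.ext
    rw [hsmul]
    have h5 : (x : X ⧸ O) * (k : X ⧸ O) = (k : X ⧸ O) * x := by
      have := congrArg (· * ((k : X ⧸ O) * x)) hπu
      simp only [one_mul, mul_assoc, inv_mul_cancel_left, inv_mul_cancel, mul_one] at this
      exact this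
    rw [← h5, mul_inv_cancel_right]
  have hmain := BaerC.key hp (Ab.subgroupOf N) (Kb.subgroupOf N) hA' hK' (Nat.card ↥Qb) ↥Qb rfl
    hQbp hyp
  have hKcen : Kb ≤ Subgroup.centralizer ((Qb : Subgroup (X ⧸ O)) : Set (X ⧸ O)) := by
    intro k hk
    rw [Subgroup.mem_centralizer_iff]
    intro x hx
    have h1 := hmain ⟨k, hKN hk⟩ hk ⟨x, hx⟩
    have h2 := congrArg Subtype.val h1
    rw [hsmul] at h2
    simp only at h2
    have h3 := congrArg (· * k) h2
    simp only [inv_mul_cancel_right] at h3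
    exact h3.symm
  have hKQ : Kb ≤ Qb := hKcen.trans hchar
  have hKbot : Kb = ⊥ := by
    rw [eq_bot_iff, ← hdisj]
    exact le_inf hKQ le_rfl
  intro y hy
  have : π y ∈ Kb := ⟨y, hy, rfl⟩
  rw [hKbot, Subgroup.mem_bot] at this
  rwa [hπ, QuotientGroup.mk'_apply, QuotientGroup.eq_one_iff] at this

end Cfsg.Agent.S1302
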