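import Mathlib
import Cfsg.Statements.S1247
import Cfsg.Agent.Helper2.FsSubD

set_option autoImplicit false
open Cfsg

namespace Cfsg.Agent.S1247

open Cfsg.Agent.Helper2

/-- Let G be a non-abelian finite simple group, A a maximal subgroup, F = F*(A) its generalized Fitting subgroup (viewed in G), and S ≤ F a subgroup subnormal in F with C_F(S) ≤ S. Let B be any subgroup of G containing S. Then (a) for every prime q not dividing |F(A)|, O_q(B) ∩ A = 1; and (b) for every prime p dividing |F(A)|, O_p(B) commutes elementwise with the subgroup of F generated by its elements of order prime to p. -/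
theorem result {G : Type*} [Group G] [Finite G] [IsSimpleGroup G] (hna : ¬ IsMulCommutative G) (A : Subgroup G) (hA : IsCoatom A) (S : Subgroup G) (hSF : S ≤ (Cfsg.generalizedFittingSubgroup ↥A).map A.subtype) (hSsn : (S.subgroupOf ((Cfsg.generalizedFittingSubgroup ↥A).map A.subtype)).IsSubnormal) (hSC : (Cfsg.generalizedFittingSubgroup ↥A).map A.subtype ⊓ Subgroup.centralizer (S : Set G) ≤ S) (B : Subgroup G) (hSB : S ≤ B) : (∀ q : ℕ, q.Prime → ¬ q ∣ Nat.card (Cfsg.fittingSubgroup ↥A) → (Cfsg.pCore q ↥B).map B.subtype ⊓ A = ⊥) ∧ (∀ p : ℕ, p.Prime → p ∣ Nat.card (Cfsg.fittingSubgroup ↥A) → ∀ x ∈ (Cfsg.pCore p ↥B).map B.subtype, ∀ y ∈ (Cfsg.pResidual p ↥(Cfsg.generalizedFittingSubgroup ↥A)).map ((Cfsg.generalizedFittingSubgroup ↥A).subtype) , x * (A.subtype y) = (A.subtype y) * x) := by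
    classical
    have hS' := Cfsg.Agent.Helper2.FsSub.subgroupOf_isSubnormal A S hSF hSsn
    have hSF' := Cfsg.Agent.Helper2.FsSub.subgroupOf_le_genFitting A S hSF
    have hSC' := Cfsg.Agent.Helper2.FsSub.subgroupOf_selfCentralizing A S hSF hSC
    constructor
    · intro q hq hqF
      haveI : Fact q.Prime := ⟨hq⟩
      set Xq := (Cfsg.pCore q ↥B).map B.subtype with hXq
      have hXp : IsPGroup q ↥Xq := (Cfsg.Agent.Helper1.pCore_isPGroup (G := ↥B) q).map B.subtype
      have hSX : S ≤ Subgroup.normalizer (Xq : Set G) :=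
        hSB.trans (Cfsg.Agent.Helper2.FsSub.le_normalizer_map_subtype B _)
      set D' := (Xq ⊓ A).subgroupOf A with hD'
      have hD'p : IsPGroup q ↥D' :=
        (hXp.to_le inf_le_left).comap_of_injective A.subtype (Subgroup.subtype_injective A)
      have hmem : ∀ d : ↥A, d ∈ D' ↔ (d : G) ∈ Xq := by
        intro d
        rw [hD', Subgroup.mem_subgroupOf, Subgroup.mem_inf]
        exact ⟨fun h => h.1, fun h => ⟨h, d.2⟩⟩
      have hSD' : S.subgroupOf A ≤ Subgroup.normalizer (D' : Set ↥A) := by
        intro s hs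
        have hsS : (s : G) ∈ S := Subgroup.mem_subgroupOf.mp hs
        rw [Subgroup.mem_normalizer_iff]
        intro d
        rw [hmem, hmem]
        have := Subgroup.mem_normalizer_iff.mp (hSX hsS) (d : G)
        simpa using this
      have hbot := Cfsg.Agent.Helper2.FsSub.eq_bot_of_not_dvd (S.subgroupOf A) hS' hSC' hSF' hqF D'
        hD'p hSD'
      rw [hD', Subgroup.subgroupOf_eq_bot, disjoint_iff, inf_assoc, inf_idem] at hbot
      exact hbot
    · intro p hp
      obtain ⟨pp, rfl⟩ : ∃ pp : Nat.Primes, (pp : ℕ) = p := ⟨⟨p, hp⟩, rfl⟩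
      intro hpF x hx y hy
      obtain ⟨hE, hV⟩ := Cfsg.Agent.Helper2.FsSub.commute_pCore_overgroup hna A hA S hSF hSsn hSC B hSB
        pp hpF x hx
      haveI : Fact (pp : ℕ).Prime := ⟨hp⟩
      set F' := Cfsg.generalizedFittingSubgroup ↥A with hF'
      set C' := (Subgroup.centralizer ({x} : Set G)).subgroupOf A with hC'
      set W := Cfsg.layer ↥A ⊔ Cfsg.Agent.Helper2.FStarQuot.fitCompl pp ↥A with hW
      have hWC : W ≤ C' := by
        apply sup_le
        · intro e he
          rw [hC', Subgroup.mem_subgroupOf, Subgroup.mem_centralizer_singleton_iff]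
          exact (hE e he).symm
        · intro v hv
          rw [hC', Subgroup.mem_subgroupOf, Subgroup.mem_centralizer_singleton_iff]
          exact (hV v hv).symm
      have hle : (Cfsg.pResidual (pp : ℕ) ↥F').map F'.subtype ≤ W := by
        rw [Subgroup.map_le_iff_le_comap]
        unfold Cfsg.pResidual
        rw [Subgroup.closure_le]
        intro g hg
        have hg' : (orderOf g).Coprime (pp : ℕ) := hg
        show (g : ↥A) ∈ W
        have hcop : (orderOf (g : ↥A)).Coprime (pp : ℕ) := by rw [Subgroup.orderOf_coe]; exact hg'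
        have hgF : (g : ↥A) ∈ ((Cfsg.layer ↥A ⊔ Cfsg.fittingSubgroup ↥A : Subgroup ↥A) : Set ↥A) := g.2
        rw [Subgroup.normal_mul] at hgF
        obtain ⟨e, he, f, hf, hef⟩ := Set.mem_mul.1 hgF
        have hf2 : f ∈ ((Cfsg.pCore (pp : ℕ) ↥A ⊔ Cfsg.Agent.Helper2.FStarQuot.fitCompl pp ↥A :
            Subgroup ↥A) : Set ↥A) := by
          have := Cfsg.Agent.Helper2.FStarQuot.pCore_sup_fitCompl (X := ↥A) pp
          rw [this]; exact hf
        rw [Subgroup.mul_normal] at hf2
        obtain ⟨u, hu, v, hv, huv⟩ := Set.mem_mul.1 hf2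
        have huF : u ∈ Cfsg.fittingSubgroup ↥A :=
          Cfsg.Agent.Helper2.FStarQuot.pCore_le_fittingSubgroup pp hu
        have h1 : e * u = u * e := Cfsg.Agent.Helper2.layer_commute_fitting he huF
        have h2 : u * v = v * u := Cfsg.Agent.Helper2.FsSub.commute_pCore_fitCompl pp hu hv
        have hg1 : (g : ↥A) = u * (e * v) := by
          rw [← hef, ← huv]
          calc e * (u * v) = (e * u) * v := by group
            _ = (u * e) * v := by rw [h1]
            _ = u * (e * v) := by group
        have hcomm : Commute u (e * v) := by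
          show u * (e * v) = (e * v) * u
          calc u * (e * v) = (u * e) * v := by group
            _ = (e * u) * v := by rw [h1]
            _ = e * (u * v) := by group
            _ = e * (v * u) := by rw [h2]
            _ = (e * v) * u := by group
        have hevW : e * v ∈ W :=
          W.mul_mem (Subgroup.mem_sup_left he) (Subgroup.mem_sup_right hv)
        set n := Nat.card (Cfsg.pCore (pp : ℕ) ↥A) with hn
        have hun : u ^ n = 1 := by
          have : (⟨u, hu⟩ : ↥(Cfsg.pCore (pp : ℕ) ↥A)) ^ n = 1 := by rw [hn]; exact pow_card_eq_one'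
          exact congrArg Subtype.val this
        have hpow : (g : ↥A) ^ n ∈ W := by
          rw [hg1, hcomm.mul_pow, hun, one_mul]
          exact W.pow_mem hevW n
        obtain ⟨k, hk⟩ := (Cfsg.Agent.Helper1.pCore_isPGroup (G := ↥A) (pp : ℕ)).exists_card_eq
        have hcopn : n.Coprime (orderOf (g : ↥A)) := by
          rw [hn, hk]
          exact (Nat.Coprime.pow_right k hcop).symm
        obtain ⟨m, hm⟩ := exists_pow_eq_self_of_coprime hcopn
        rw [← hm]
        exact W.pow_mem hpow m
      have hyC : y ∈ C' := hWC (hle hy)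
      rw [hC', Subgroup.mem_subgroupOf, Subgroup.mem_centralizer_singleton_iff] at hyC
      exact hyC.symm

end Cfsg.Agent.S1247
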