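import Mathlib
import Cfsg.Agent.S0016
import Cfsg.Statements.S3977
-- import your own Cfsg.Agent.* helpers here

set_option autoImplicit false
open Cfsg

namespace Cfsg.Agent.S3977

theorem mem_zpowers_pow {G : Type*} [Group G] [Finite G] {p s' : ℕ} (hp : p.Prime) {y h : G}
    (hy : orderOf y = p ^ (s' + 1)) (hh : h ∈ Subgroup.zpowers y) (hhp : h ^ p = 1) :
    h ∈ Subgroup.zpowers (y ^ (p ^ s')) := by
  rw [← (isOfFinOrder_of_finite y).mem_powers_iff_mem_zpowers] at hh
  obtain ⟨i, rfl⟩ := (Submonoid.mem_powers_iff _ _).mp hh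
  rw [← pow_mul] at hhp
  have h1 : p ^ (s' + 1) ∣ i * p := by rw [← hy]; exact orderOf_dvd_of_pow_eq_one hhp
  rw [pow_succ] at h1
  have h2 : p ^ s' ∣ i := Nat.dvd_of_mul_dvd_mul_right hp.pos h1
  obtain ⟨t, rfl⟩ := h2
  rw [pow_mul]
  exact Subgroup.pow_mem _ (Subgroup.mem_zpowers _) t

/-- Let `p` be a prime and `G` a group of order `p ^ m` which has exactly one subgroup of order `p ^ s`, where `1 ≤ s < m`, and where `s ≥ 2` if `p = 2`. Then `G` is cyclic. (For `p = 2` and `s = 1` the generalized quaternion groups also occur; that case is the classical criterion for a unique involution.) -/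
theorem result {G : Type*} [Group G] [Finite G] (p m s : ℕ) (hp : p.Prime) (hG : Nat.card G = p ^ m) (hs : 1 ≤ s) (hsm : s < m) (h2 : p ≠ 2 ∨ 2 ≤ s) (huniq : ∀ H K : Subgroup G, Nat.card H = p ^ s → Nat.card K = p ^ s → H = K) : IsCyclic G := by
  have : Fact p.Prime := ⟨hp⟩
  have hGp : IsPGroup p G := IsPGroup.of_card hG
  have hdvd : p ^ s ∣ Nat.card G := by rw [hG]; exact pow_dvd_pow p hsm.le
  obtain ⟨S, hS⟩ := Sylow.exists_subgroup_card_pow_prime p hdvd
  -- small subgroups lie in S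
  have hsmall : ∀ (H : Subgroup G) (j : ℕ), Nat.card H = p ^ j → j ≤ s → H ≤ S := by
    intro H j hH hj
    obtain ⟨K, hK, hHK⟩ := Sylow.exists_subgroup_card_pow_prime_le p hdvd H hH hj
    rw [huniq S K hS hK]; exact hHK
  have hStop : S ≠ ⊤ := by
    intro h
    rw [h, Subgroup.card_top, hG] at hS
    exact absurd (Nat.pow_right_injective hp.two_le hS) (by omega)
  obtain ⟨x, -, hxS⟩ := SetLike.exists_of_lt (lt_top_iff_ne_top.mpr hStop)
  obtain ⟨j, hj⟩ := IsPGroup.iff_card.mp (hGp.to_subgroup (Subgroup.zpowers x))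
  have hjs : s < j := by
    by_contra h
    exact hxS (hsmall _ j hj (not_lt.mp h) (Subgroup.mem_zpowers x))
  have hox : orderOf x = p ^ j := by rw [← hj, Nat.card_zpowers]
  -- S is cyclic, generated by y
  set y := x ^ (p ^ (j - s)) with hy
  have hoy : orderOf y = p ^ s := by
    rw [hy, orderOf_pow_of_dvd (pow_pos hp.pos _).ne' (by rw [hox]; exact pow_dvd_pow p (Nat.sub_le j s)),
      hox, Nat.pow_div (Nat.sub_le j s) hp.pos]
    congr 1; omega
  have hSy : S = Subgroup.zpowers y :=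
    huniq _ _ hS (by rw [Nat.card_zpowers, hoy])
  obtain ⟨s', rfl⟩ := Nat.exists_eq_succ_of_ne_zero (by omega : s ≠ 0)
  -- unique subgroup of order p
  have huniq1 : ∀ H K : Subgroup G, Nat.card H = p → Nat.card K = p → H = K := by
    have key : ∀ H : Subgroup G, Nat.card H = p → H = Subgroup.zpowers (y ^ (p ^ s')) := by
      intro H hH
      have hHS : H ≤ S := hsmall H 1 (by rw [hH, pow_one]) (by omega)
      apply Subgroup.eq_of_le_of_card_ge
      · intro h hh
        apply mem_zpowers_pow hp hoy (hSy ▸ hHS hh)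
        have : (⟨h, hh⟩ : H) ^ p = 1 := by rw [← hH]; exact pow_card_eq_one'
        simpa using congrArg Subtype.val this
      · rw [hH, Nat.card_zpowers, orderOf_pow_of_dvd (pow_pos hp.pos _).ne'
          (by rw [hoy]; exact pow_dvd_pow p (Nat.le_succ s')), hoy, pow_succ,
          Nat.mul_div_cancel_left _ (pow_pos hp.pos _)]
    intro H K hH hK
    rw [key H hH, key K hK]
  rcases Cfsg.Agent.S0016.result p hGp huniq1 with h | ⟨hp2, n, ⟨e⟩⟩
  · exact h
  exfalso
  have hs2 : 2 ≤ s' + 1 := h2.resolve_left (fun h => h hp2)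
  subst hp2
  have : NeZero (2 ^ n) := ⟨(pow_pos two_pos n).ne'⟩
  -- two noncommuting elements of order 4 inside the cyclic group S
  set u := e.symm (QuaternionGroup.xa 0) with hu
  set v := e.symm (QuaternionGroup.xa 1) with hv
  have hou : orderOf u = 4 := by rw [hu, MulEquiv.orderOf_eq, QuaternionGroup.orderOf_xa]
  have hov : orderOf v = 4 := by rw [hv, MulEquiv.orderOf_eq, QuaternionGroup.orderOf_xa]
  have huS : u ∈ S := hsmall (Subgroup.zpowers u) 2 (by rw [Nat.card_zpowers, hou]; norm_num) hs2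
    (Subgroup.mem_zpowers u)
  have hvS : v ∈ S := hsmall (Subgroup.zpowers v) 2 (by rw [Nat.card_zpowers, hov]; norm_num) hs2
    (Subgroup.mem_zpowers v)
  have hcomm : u * v = v * u := by
    rw [hSy] at huS hvS
    obtain ⟨a, ha⟩ := Subgroup.mem_zpowers_iff.mp huS
    obtain ⟨b, hb⟩ := Subgroup.mem_zpowers_iff.mp hvS
    rw [← hb, ← ha]
    exact (Commute.zpow_zpow_self y a b).eq
  have h3 : (QuaternionGroup.xa 0 : QuaternionGroup (2 ^ n)) * QuaternionGroup.xa 1 =
      QuaternionGroup.xa 1 * QuaternionGroup.xa 0 := by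
    have := congrArg e hcomm
    simpa [hu, hv] using this
  rw [QuaternionGroup.xa_mul_xa, QuaternionGroup.xa_mul_xa] at h3
  have h4 : ((2 ^ n : ℕ) : ZMod (2 * 2 ^ n)) + 1 - 0 = ((2 ^ n : ℕ) : ZMod (2 * 2 ^ n)) + 0 - 1 := by
    injection h3
  have h5 : ((2 : ℕ) : ZMod (2 * 2 ^ n)) = 0 := by
    have : (2 : ZMod (2 * 2 ^ n)) = 0 := by linear_combination h4
    exact_mod_cast this
  rw [ZMod.natCast_eq_zero_iff] at h5
  have h6 : 2 * 2 ^ n ≤ 2 := Nat.le_of_dvd two_pos h5
  have hn0 : n = 0 := by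
    by_contra hn
    have : 2 ≤ 2 ^ n := by
      calc 2 = 2 ^ 1 := rfl
        _ ≤ 2 ^ n := Nat.pow_le_pow_right two_pos (Nat.one_le_iff_ne_zero.mpr hn)
    omega
  subst hn0
  have hcard : Nat.card G = 4 := by
    rw [Nat.card_congr e.toEquiv, Nat.card_eq_fintype_card, QuaternionGroup.card]
    norm_num
  rw [hG] at hcard
  have hm2 : m = 2 := Nat.pow_right_injective (le_refl 2) (hcard.trans (by norm_num))
  omega

end Cfsg.Agent.S3977
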