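import Mathlib
import Cfsg.Agent.Helper5.TC2F
import Cfsg.Agent.Helper5.Fi23TCSum
import Cfsg.Statements.S1689
-- import your own Cfsg.Agent.* helpers here

set_option autoImplicit false
open Cfsg

namespace Cfsg.Agent.S1689

/-- decoding of the generators. -/
def dec : ℕ → Cfsg.Spor.Fi23.Gen
  | 0 => .a
  | 1 => .b
  | 2 => .c
  | 3 => .d
  | 4 => .e
  | 5 => .f
  | 6 => .g
  | 7 => .j
  | 8 => .h
  | _ => .i

/-- encoding of the generators. -/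
def enc : Cfsg.Spor.Fi23.Gen → ℕ
  | .a => 0
  | .b => 1
  | .c => 2
  | .d => 3
  | .e => 4
  | .f => 5
  | .g => 6
  | .j => 7
  | .h => 8
  | .i => 9

open Cfsg.Agent.Helper5.TC Cfsg.Agent.Helper5.Fi23TC Cfsg.Spor in
theorem cox_ok : coxOK D (fun x y => coxLabel Fi23.edges (dec y) (dec x)) = true := by
  decide +kernel

theorem wm_core {K : Type} [Group K] (γ : ℕ → K) (hγ : ∀ x, γ x * γ x = 1) (x : ℕ) :
    (γ x)⁻¹ = γ x := inv_eq_of_mul_eq_one_left (hγ x)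

set_option linter.unusedSimpArgs false in
set_option maxRecDepth 100000 in
open Cfsg.Agent.Helper5.TC Cfsg.Agent.Helper5.Fi23TC Cfsg.Spor in
theorem extra_match : ∀ i (hi : i < Fi23.extra.length),
    WordMatch enc (Fi23.extra[i]) (D.wlen (D.k * D.k + i)) (D.wordP (D.k * D.k + i)) := by
  intro i hi
  have hi' : i < 2 := hi
  interval_cases i
  · intro K _ γ hγ
    have e : D.k * D.k + 0 = 100 := rfl
    simp only [e, word_100, Fi23.extra, List.getElem_cons_zero, List.getElem_cons_succ]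
    simp only [Fi23.a, Fi23.b, Fi23.c, Fi23.d, Fi23.e, Fi23.f, Fi23.g, Fi23.j, Fi23.h, Fi23.i, map_mul, map_inv, map_pow,
      FreeGroup.lift_apply_of, enc, rprod, one_mul, pow_succ, pow_zero, mul_inv_rev,
      wm_core γ hγ, mul_assoc]
  · intro K _ γ hγ
    have e : D.k * D.k + 1 = 101 := rfl
    simp only [e, word_101, Fi23.extra, List.getElem_cons_zero, List.getElem_cons_succ]
    simp only [Fi23.a, Fi23.b, Fi23.c, Fi23.d, Fi23.e, Fi23.f, Fi23.g, Fi23.j, Fi23.h, Fi23.i, map_mul, map_inv, map_pow,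
      FreeGroup.lift_apply_of, enc, rprod, one_mul, pow_succ, pow_zero, mul_inv_rev,
      wm_core γ hγ, mul_assoc]

/-- the subgroup generators. -/
def subs : List (FreeGroup Cfsg.Spor.Fi23.Gen) :=
  [Cfsg.Spor.Fi23.a, Cfsg.Spor.Fi23.b, Cfsg.Spor.Fi23.c, Cfsg.Spor.Fi23.d, Cfsg.Spor.Fi23.e, Cfsg.Spor.Fi23.f, Cfsg.Spor.Fi23.g, Cfsg.Spor.Fi23.h, Cfsg.Spor.Fi23.i]

set_option linter.unusedSimpArgs false in
set_option maxRecDepth 100000 in
open Cfsg.Agent.Helper5.TC Cfsg.Agent.Helper5.Fi23TC Cfsg.Spor in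
theorem subs_match : ∀ i (hi : i < subs.length),
    WordMatch enc (subs[i]) (D.wlen (D.nrel + i)) (D.wordP (D.nrel + i)) := by
  intro i hi
  have hi' : i < 9 := hi
  interval_cases i
  · intro K _ γ hγ
    have e : D.nrel + 0 = 102 := rfl
    simp only [e, word_102, subs, List.getElem_cons_zero, List.getElem_cons_succ]
    simp only [Fi23.a, Fi23.b, Fi23.c, Fi23.d, Fi23.e, Fi23.f, Fi23.g, Fi23.j, Fi23.h, Fi23.i, map_mul, map_inv, map_pow,
      FreeGroup.lift_apply_of, enc, rprod, one_mul, pow_succ, pow_zero, mul_inv_rev,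
      wm_core γ hγ, mul_assoc]
  · intro K _ γ hγ
    have e : D.nrel + 1 = 103 := rfl
    simp only [e, word_103, subs, List.getElem_cons_zero, List.getElem_cons_succ]
    simp only [Fi23.a, Fi23.b, Fi23.c, Fi23.d, Fi23.e, Fi23.f, Fi23.g, Fi23.j, Fi23.h, Fi23.i, map_mul, map_inv, map_pow,
      FreeGroup.lift_apply_of, enc, rprod, one_mul, pow_succ, pow_zero, mul_inv_rev,
      wm_core γ hγ, mul_assoc]
  · intro K _ γ hγ
    have e : D.nrel + 2 = 104 := rfl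
    simp only [e, word_104, subs, List.getElem_cons_zero, List.getElem_cons_succ]
    simp only [Fi23.a, Fi23.b, Fi23.c, Fi23.d, Fi23.e, Fi23.f, Fi23.g, Fi23.j, Fi23.h, Fi23.i, map_mul, map_inv, map_pow,
      FreeGroup.lift_apply_of, enc, rprod, one_mul, pow_succ, pow_zero, mul_inv_rev,
      wm_core γ hγ, mul_assoc]
  · intro K _ γ hγ
    have e : D.nrel + 3 = 105 := rfl
    simp only [e, word_105, subs, List.getElem_cons_zero, List.getElem_cons_succ]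
    simp only [Fi23.a, Fi23.b, Fi23.c, Fi23.d, Fi23.e, Fi23.f, Fi23.g, Fi23.j, Fi23.h, Fi23.i, map_mul, map_inv, map_pow,
      FreeGroup.lift_apply_of, enc, rprod, one_mul, pow_succ, pow_zero, mul_inv_rev,
      wm_core γ hγ, mul_assoc]
  · intro K _ γ hγ
    have e : D.nrel + 4 = 106 := rfl
    simp only [e, word_106, subs, List.getElem_cons_zero, List.getElem_cons_succ]
    simp only [Fi23.a, Fi23.b, Fi23.c, Fi23.d, Fi23.e, Fi23.f, Fi23.g, Fi23.j, Fi23.h, Fi23.i, map_mul, map_inv, map_pow,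
      FreeGroup.lift_apply_of, enc, rprod, one_mul, pow_succ, pow_zero, mul_inv_rev,
      wm_core γ hγ, mul_assoc]
  · intro K _ γ hγ
    have e : D.nrel + 5 = 107 := rfl
    simp only [e, word_107, subs, List.getElem_cons_zero, List.getElem_cons_succ]
    simp only [Fi23.a, Fi23.b, Fi23.c, Fi23.d, Fi23.e, Fi23.f, Fi23.g, Fi23.j, Fi23.h, Fi23.i, map_mul, map_inv, map_pow,
      FreeGroup.lift_apply_of, enc, rprod, one_mul, pow_succ, pow_zero, mul_inv_rev,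
      wm_core γ hγ, mul_assoc]
  · intro K _ γ hγ
    have e : D.nrel + 6 = 108 := rfl
    simp only [e, word_108, subs, List.getElem_cons_zero, List.getElem_cons_succ]
    simp only [Fi23.a, Fi23.b, Fi23.c, Fi23.d, Fi23.e, Fi23.f, Fi23.g, Fi23.j, Fi23.h, Fi23.i, map_mul, map_inv, map_pow,
      FreeGroup.lift_apply_of, enc, rprod, one_mul, pow_succ, pow_zero, mul_inv_rev,
      wm_core γ hγ, mul_assoc]
  · intro K _ γ hγ
    have e : D.nrel + 7 = 109 := rfl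
    simp only [e, word_109, subs, List.getElem_cons_zero, List.getElem_cons_succ]
    simp only [Fi23.a, Fi23.b, Fi23.c, Fi23.d, Fi23.e, Fi23.f, Fi23.g, Fi23.j, Fi23.h, Fi23.i, map_mul, map_inv, map_pow,
      FreeGroup.lift_apply_of, enc, rprod, one_mul, pow_succ, pow_zero, mul_inv_rev,
      wm_core γ hγ, mul_assoc]
  · intro K _ γ hγ
    have e : D.nrel + 8 = 110 := rfl
    simp only [e, word_110, subs, List.getElem_cons_zero, List.getElem_cons_succ]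
    simp only [Fi23.a, Fi23.b, Fi23.c, Fi23.d, Fi23.e, Fi23.f, Fi23.g, Fi23.j, Fi23.h, Fi23.i, map_mul, map_inv, map_pow,
      FreeGroup.lift_apply_of, enc, rprod, one_mul, pow_succ, pow_zero, mul_inv_rev,
      wm_core γ hγ, mul_assoc]

theorem subs_set : ({Cfsg.Spor.Fi23.a, Cfsg.Spor.Fi23.b, Cfsg.Spor.Fi23.c, Cfsg.Spor.Fi23.d, Cfsg.Spor.Fi23.e, Cfsg.Spor.Fi23.f, Cfsg.Spor.Fi23.g, Cfsg.Spor.Fi23.h, Cfsg.Spor.Fi23.i} : Set (FreeGroup Cfsg.Spor.Fi23.Gen)) = {s | s ∈ subs} := by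
  ext s
  simp [subs]

/-- In the presented Fischer group Fi₂₃, let H be the subgroup generated by the images of a, …, i. Then H has index 31671, H has orbits of sizes 3510 and 28160 on the cosets of H other than H itself. -/
theorem result : (((Subgroup.closure ({Cfsg.Spor.Fi23.a, Cfsg.Spor.Fi23.b, Cfsg.Spor.Fi23.c, Cfsg.Spor.Fi23.d, Cfsg.Spor.Fi23.e, Cfsg.Spor.Fi23.f, Cfsg.Spor.Fi23.g, Cfsg.Spor.Fi23.h, Cfsg.Spor.Fi23.i} : Set (FreeGroup Cfsg.Spor.Fi23.Gen))).map (PresentedGroup.mk (Cfsg.Spor.coxRelators Cfsg.Spor.Fi23.edges ∪ {r | r ∈ Cfsg.Spor.Fi23.extra})))).index = 31671 ∧ ∃ q₁ q₂ : Cfsg.Spor.Fi23 ⧸ (((Subgroup.closure ({Cfsg.Spor.Fi23.a, Cfsg.Spor.Fi23.b, Cfsg.Spor.Fi23.c, Cfsg.Spor.Fi23.d, Cfsg.Spor.Fi23.e, Cfsg.Spor.Fi23.f, Cfsg.Spor.Fi23.g, Cfsg.Spor.Fi23.h, Cfsg.Spor.Fi23.i} : Set (FreeGroup Cfsg.Spor.Fi23.Gen))).map (PresentedGroup.mk (Cfsg.Spor.coxRelators Cfsg.Spor.Fi23.edges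 ∪ {r | r ∈ Cfsg.Spor.Fi23.extra})))), (MulAction.orbit (((Subgroup.closure ({Cfsg.Spor.Fi23.a, Cfsg.Spor.Fi23.b, Cfsg.Spor.Fi23.c, Cfsg.Spor.Fi23.d, Cfsg.Spor.Fi23.e, Cfsg.Spor.Fi23.f, Cfsg.Spor.Fi23.g, Cfsg.Spor.Fi23.h, Cfsg.Spor.Fi23.i} : Set (FreeGroup Cfsg.Spor.Fi23.Gen))).map (PresentedGroup.mk (Cfsg.Spor.coxRelators Cfsg.Spor.Fi23.edges ∪ {r | r ∈ Cfsg.Spor.Fi23.extra})))) q₁).ncard = 3510 ∧ (MulAction.orbit (((Subgroup.closure ({Cfsg.Spor.Fi23.a, Cfsg.Spor.Fi23.b, Cfsg.Spor.Fi23.c, Cfsg.Spor.Fi23.d, Cfsg.Spor.Fi23.e, Cfsg.Spor.Fi23.f, Cfsg.Spor.Fi23.g, Cfsg.Spor.Fi23.h, Cfsg.Spor.Fi23.i} : Set (FreeGroup Cfsg.Spor.Fi23.Gen))).map (PresentedGroup.mk (Cfsg.Spor.coxRelators Cfsg.Spor.Fi23.edges ∪ {r | r ∈ Cfsg.Spor.Fi23.extra})))) q₂).ncard = 28160 := by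
  rw [subs_set]
  obtain ⟨hidx, φ, -, horb⟩ := Cfsg.Agent.Helper5.TC.presented_index2 Cfsg.Spor.Fi23.edges
    Cfsg.Spor.Fi23.extra subs dec enc Cfsg.Agent.Helper5.Fi23TC.E (T := Cfsg.Agent.Helper5.Fi23TC.ctF)
    (by intro z; cases z <;> rfl)
    (by intro x hx; have hx' : x < 10 := hx; interval_cases x <;> rfl)
    (by intro z; cases z <;> decide)
    (by intro z; cases z <;> decide)
    rfl rfl extra_match subs_match cox_ok Cfsg.Agent.Helper5.Fi23TC.rev_ok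
    Cfsg.Agent.Helper5.Fi23TC.hE Cfsg.Agent.Helper5.Fi23TC.hA Cfsg.Agent.Helper5.Fi23TC.set_ok Cfsg.Agent.Helper5.Fi23TC.hrows (by norm_num) Cfsg.Agent.Helper5.Fi23TC.hT Cfsg.Agent.Helper5.Fi23TC.hltr Cfsg.Agent.Helper5.Fi23TC.hrelT Cfsg.Agent.Helper5.Fi23TC.hsubT Cfsg.Agent.Helper5.Fi23TC.hconn
  refine ⟨hidx, φ.symm ⟨52, by norm_num⟩, φ.symm ⟨1, by norm_num⟩, ?_, ?_⟩
  · exact (horb _ 52 3510 _ Cfsg.Agent.Helper5.Fi23TC.orb2_ok _ (by simp)).2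
  · exact (horb _ 1 28160 _ Cfsg.Agent.Helper5.Fi23TC.orb1_ok _ (by simp)).2

end Cfsg.Agent.S1689
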