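import Cfsg.Statements.S0376
import Cfsg.Agent.Helper9.Golay.M24Trans

set_option autoImplicit false
open Cfsg

namespace Cfsg.Agent.S0376

/-- A point stabiliser in the group of the length-24 code has order 10200960 = 2^7·3^2·5·7·11·23. -/
theorem result (p : Cfsg.GolayPt) : Nat.card (MulAction.stabilizer Cfsg.M24 p) = 10200960 := by
  haveI : MulAction.IsPretransitive Cfsg.M24 Cfsg.GolayPt :=
    Cfsg.Agent.Helper9.Golay.m24_isPretransitive
  have hidx := MulAction.index_stabilizer_of_transitive Cfsg.M24 p
  have hcard := Subgroup.card_mul_index (MulAction.stabilizer Cfsg.M24 p)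
  have h24 : Nat.card Cfsg.GolayPt = 24 := by
    rw [Nat.card_eq_fintype_card]; decide
  rw [hidx, Cfsg.Agent.Helper9.Golay.card_M24, h24] at hcard
  omega

end Cfsg.Agent.S0376
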