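import Cfsg.Statements.S5599
import Cfsg.Agent.Helper9.Golay.M22Out

set_option autoImplicit false
open scoped Pointwise
open Cfsg

namespace Cfsg.Agent.S5599

/-- In the automorphism group of the length-24 code, the two-point Mathieu group (permutations of the code's group fixing the extra point and the residue 0) has index 2 in the setwise stabiliser of that pair of points, and an element of the code's group interchanging the two points normalises the two-point group and induces on it, by conjugation, an automorphism that is not inner. -/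
theorem result (g : Equiv.Perm Cfsg.GolayPt) (hg : g ∈ Cfsg.M24) (h₁ : g none = some 0) (h₂ : g (some 0) = none) : Cfsg.Spor.M22.relIndex (Cfsg.M24 ⊓ MulAction.stabilizer (Equiv.Perm Cfsg.GolayPt) ({none, some 0} : Finset Cfsg.GolayPt)) = 2 ∧ (∀ x ∈ Cfsg.Spor.M22, g * x * g⁻¹ ∈ Cfsg.Spor.M22) ∧ ¬ ∃ h ∈ Cfsg.Spor.M22, ∀ x ∈ Cfsg.Spor.M22, g * x * g⁻¹ = h * x * h⁻¹ := by
  classical
  have hpair : ∀ b : Equiv.Perm GolayPt,
      b ∈ MulAction.stabilizer (Equiv.Perm GolayPt) ({none, some 0} : Finset GolayPt) ↔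
      (b none = none ∧ b (some 0) = some 0) ∨ (b none = some 0 ∧ b (some 0) = none) := by
    intro b
    rw [MulAction.mem_stabilizer_iff]
    constructor
    · intro h
      have h1 : b none ∈ ({none, some 0} : Finset GolayPt) := by
        rw [← h]; exact Finset.smul_mem_smul_finset (by simp)
      have h2 : b (some 0) ∈ ({none, some 0} : Finset GolayPt) := by
        rw [← h]; exact Finset.smul_mem_smul_finset (by simp)
      simp only [Finset.mem_insert, Finset.mem_singleton] at h1 h2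
      have hne : b none ≠ b (some 0) := fun h => by simpa using b.injective h
      rcases h1 with h1 | h1 <;> rcases h2 with h2 | h2
      · exact absurd (h1.trans h2.symm) hne
      · left; exact ⟨h1, h2⟩
      · right; exact ⟨h1, h2⟩
      · exact absurd (h1.trans h2.symm) hne
    · rintro (⟨h1, h2⟩ | ⟨h1, h2⟩)
      · rw [Finset.smul_finset_insert, Finset.smul_finset_singleton, Equiv.Perm.smul_def,
          Equiv.Perm.smul_def, h1, h2]
      · rw [Finset.smul_finset_insert, Finset.smul_finset_singleton, Equiv.Perm.smul_def,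
          Equiv.Perm.smul_def, h1, h2, Finset.pair_comm]
  have hginv1 : g⁻¹ none = some 0 := by
    rw [Equiv.Perm.inv_eq_iff_eq]; exact h₂.symm
  have hginv2 : g⁻¹ (some 0) = none := by
    rw [Equiv.Perm.inv_eq_iff_eq]; exact h₁.symm
  refine ⟨?_, ?_, ?_⟩
  · rw [Subgroup.relIndex_eq_two_iff]
    refine ⟨g, Subgroup.mem_inf.mpr ⟨hg, (hpair g).mpr (Or.inr ⟨h₁, h₂⟩)⟩, ?_⟩
    intro b hb
    obtain ⟨hbM, hbS⟩ := Subgroup.mem_inf.mp hb
    rcases (hpair b).mp hbS with ⟨hb1, hb2⟩ | ⟨hb1, hb2⟩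
    · refine Or.inr ⟨Cfsg.Agent.Helper9.Golay.mem_M22_iff.mpr ⟨hbM, hb1, hb2⟩, ?_⟩
      intro hcon
      have := (Cfsg.Agent.Helper9.Golay.mem_M22_iff.mp hcon).2.1
      rw [Equiv.Perm.mul_apply, h₁, hb2] at this
      exact absurd this (by simp)
    · refine Or.inl ⟨Cfsg.Agent.Helper9.Golay.mem_M22_iff.mpr ⟨mul_mem hbM hg, ?_, ?_⟩, ?_⟩
      · rw [Equiv.Perm.mul_apply, h₁, hb2]
      · rw [Equiv.Perm.mul_apply, h₂, hb1]
      · intro hcon
        have := (Cfsg.Agent.Helper9.Golay.mem_M22_iff.mp hcon).2.1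
        rw [hb1] at this
        exact absurd this (by simp)
  · intro x hx
    obtain ⟨hxM, hx1, hx2⟩ := Cfsg.Agent.Helper9.Golay.mem_M22_iff.mp hx
    refine Cfsg.Agent.Helper9.Golay.mem_M22_iff.mpr ⟨mul_mem (mul_mem hg hxM) (inv_mem hg), ?_, ?_⟩
    · rw [Equiv.Perm.mul_apply, Equiv.Perm.mul_apply, hginv1, hx2, h₂]
    · rw [Equiv.Perm.mul_apply, Equiv.Perm.mul_apply, hginv2, hx1, h₁]
  · rintro ⟨h, hh, hcomm⟩
    obtain ⟨hhM, hh1, hh2⟩ := Cfsg.Agent.Helper9.Golay.mem_M22_iff.mp hh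
    have hhinv1 : h⁻¹ none = none := by
      rw [Equiv.Perm.inv_eq_iff_eq]; exact hh1.symm
    have hhinv2 : h⁻¹ (some 0) = some 0 := by
      rw [Equiv.Perm.inv_eq_iff_eq]; exact hh2.symm
    refine Cfsg.Agent.Helper9.Golay.no_central_swap (h⁻¹ * g) (mul_mem (inv_mem hhM) hg) ?_ ?_ ?_
    · rw [Equiv.Perm.mul_apply, h₁, hhinv2]
    · rw [Equiv.Perm.mul_apply, h₂, hhinv1]
    · intro x hx
      have := hcomm x hx
      calc h⁻¹ * g * x = h⁻¹ * (g * x * g⁻¹) * g := by group
        _ = h⁻¹ * (h * x * h⁻¹) * g := by rw [this]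
        _ = x * (h⁻¹ * g) := by group

end Cfsg.Agent.S5599
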