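import Cfsg.Statements.S0374
import Cfsg.Agent.Helper9.Golay.M24Upper

set_option autoImplicit false
open Cfsg

namespace Cfsg.Agent.S0374

/-- The group of the length-24 code is generated by x ↦ x+1, x ↦ -1/x and the cube-twist permutation. -/
theorem result : Subgroup.closure {Equiv.optionCongr (Equiv.addRight (1 : ZMod 23)), Cfsg.projInv, Cfsg.cubeTwist} = Cfsg.M24 := by
  have hle : Subgroup.closure {Equiv.optionCongr (Equiv.addRight (1 : ZMod 23)), Cfsg.projInv,
      Cfsg.cubeTwist} ≤ Cfsg.M24 := by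
    rw [Subgroup.closure_le]
    intro g hg
    simp only [Set.mem_insert_iff, Set.mem_singleton_iff] at hg
    rcases hg with rfl | rfl | rfl
    · exact Cfsg.Agent.Helper9.Golay.stepPerm_mem 0
    · exact Cfsg.Agent.Helper9.Golay.stepPerm_mem 1
    · exact Cfsg.Agent.Helper9.Golay.stepPerm_mem 2
  apply Subgroup.eq_of_le_of_card_ge hle
  refine le_trans Cfsg.Agent.Helper9.Golay.card_M24_le ?_
  apply Cfsg.Agent.Helper9.Golay.card_ge_of_gens
  intro g
  apply Subgroup.subset_closure
  match g with
  | 0 => exact Or.inl rfl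
  | 1 => exact Or.inr (Or.inl rfl)
  | (n + 2) => exact Or.inr (Or.inr rfl)

end Cfsg.Agent.S0374
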