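import Cfsg.Statements.S3889
import Mathlib

set_option autoImplicit false
open Cfsg

namespace Cfsg.Agent.S3889

/-- A finite abelian group that is the union of a family of proper subgroups any two of which intersect trivially is elementary abelian: its exponent is a prime. -/
theorem result {G : Type*} [CommGroup G] [Finite G] (𝓑 : Set (Subgroup G)) (hprop : ∀ B ∈ 𝓑, B ≠ ⊤)
    (hcov : ∀ g : G, ∃ B ∈ 𝓑, g ∈ B) (hdisj : ∀ B ∈ 𝓑, ∀ C ∈ 𝓑, B ≠ C → B ⊓ C = ⊥) :
    (Monoid.exponent G).Prime := by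
  -- Step 1
  have step1 : ∀ B ∈ 𝓑, ∀ x ∈ B, ∀ y : G, y ∉ B → orderOf x ∣ orderOf y := by
    intro B hB x hx y hy
    have hxy : x * y ∉ B := fun h => hy (by
      have := B.mul_mem (B.inv_mem hx) h
      simpa using this)
    obtain ⟨C, hC, hxyC⟩ := hcov (x * y)
    have hBC : B ≠ C := fun h => hxy (h ▸ hxyC)
    have h1 : (x * y) ^ orderOf y = x ^ orderOf y := by
      rw [mul_pow, pow_orderOf_eq_one, mul_one]
    have h2 : x ^ orderOf y ∈ B ⊓ C := by
      refine ⟨B.pow_mem hx _, ?_⟩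
      rw [← h1]; exact C.pow_mem hxyC _
    rw [hdisj B hB C hC hBC, Subgroup.mem_bot] at h2
    exact orderOf_dvd_of_pow_eq_one h2
  -- existence of an element outside a member
  have hout : ∀ B ∈ 𝓑, ∃ w : G, w ∉ B := by
    intro B hB
    by_contra h
    push_neg at h
    exact hprop B hB (Subgroup.eq_top_iff' B |>.mpr h)
  -- Step 2: x ∈ B, x ≠ 1, w ∉ B ⟹ same order
  have step2 : ∀ B ∈ 𝓑, ∀ x ∈ B, x ≠ 1 → ∀ w : G, w ∉ B → orderOf x = orderOf w := by
    intro B hB x hx hx1 w hw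
    apply Nat.dvd_antisymm (step1 B hB x hx w hw)
    obtain ⟨C, hC, hwC⟩ := hcov w
    have hBC : B ≠ C := fun h => hw (h ▸ hwC)
    have hxC : x ∉ C := by
      intro hxC
      have : x ∈ B ⊓ C := ⟨hx, hxC⟩
      rw [hdisj B hB C hC hBC, Subgroup.mem_bot] at this
      exact hx1 this
    exact step1 C hC w hwC x hxC
  have step3 : ∀ x y : G, x ≠ 1 → y ≠ 1 → orderOf x = orderOf y := by
    intro x y hx1 hy1
    obtain ⟨B, hB, hxB⟩ := hcov x
    by_cases hyB : y ∈ B
    · obtain ⟨w, hw⟩ := hout B hB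
      rw [step2 B hB x hxB hx1 w hw, step2 B hB y hyB hy1 w hw]
    · exact step2 B hB x hxB hx1 y hyB
  -- G is nontrivial
  obtain ⟨B₀, hB₀, _⟩ := hcov 1
  obtain ⟨w, hw⟩ := hout B₀ hB₀
  have hw1 : w ≠ 1 := fun h => hw (h ▸ B₀.one_mem)
  haveI : Nontrivial G := ⟨⟨w, 1, hw1⟩⟩
  set m := orderOf w with hm
  have hm1 : m ≠ 1 := fun h => hw1 (orderOf_eq_one_iff.mp h)
  have hmpos : 0 < m := orderOf_pos w
  -- m is prime
  have hmprime : m.Prime := by
    set q := m.minFac with hq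
    have hqprime : q.Prime := Nat.minFac_prime hm1
    have hqdvd : q ∣ m := Nat.minFac_dvd m
    obtain ⟨d, hd⟩ := hqdvd
    have hdpos : 0 < d := by
      rcases Nat.eq_zero_or_pos d with h | h
      · rw [h, mul_zero] at hd; omega
      · exact h
    have hdd : d ∣ orderOf w := ⟨q, by rw [← hm, hd, mul_comm]⟩
    have hord : orderOf (w ^ d) = q := by
      rw [orderOf_pow_of_dvd hdpos.ne' hdd, ← hm, hd]
      exact Nat.mul_div_cancel _ hdpos
    have hwd1 : w ^ d ≠ 1 := by
      intro h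
      rw [h, orderOf_one] at hord
      exact hqprime.one_lt.ne hord
    have := step3 (w ^ d) w hwd1 hw1
    rw [hord] at this
    rw [hm, ← this]
    exact hqprime
  have : Monoid.exponent G = m := by
    rw [Monoid.exponent_eq_prime_iff hmprime]
    intro g hg
    exact step3 g w hg hw1
  rw [this]
  exact hmprime

end Cfsg.Agent.S3889
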