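import Mathlib
import Cfsg.Statements.S4058
import Cfsg.Agent.Helper6.TwoGroupInv3
import Cfsg.Agent.Helper1.PGroup
-- import your own Cfsg.Agent.* helpers here

set_option autoImplicit false
open Cfsg

namespace Cfsg.Agent.S4058
open Cfsg
universe u

open Cfsg.Agent.Helper6

/-- Sums of invariant integer functions over a finite set with a group action: divisibility can be
checked orbit by orbit. -/
theorem dvd_sum_of_orbit {Λ X : Type*} [Group Λ] [MulAction Λ X] [Fintype X] (f : X → ℤ) (m : ℤ)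
    (hinv : ∀ (l : Λ) (x : X), f (l • x) = f x)
    (h : ∀ x : X, m ∣ (Nat.card (MulAction.orbit Λ x) : ℤ) * f x) : m ∣ ∑ x, f x := by
  classical
  haveI : Fintype (MulAction.orbitRel.Quotient Λ X) := Fintype.ofFinite _
  rw [← Finset.sum_fiberwise (Finset.univ : Finset X)
    (fun x => (Quotient.mk'' x : MulAction.orbitRel.Quotient Λ X)) f]
  apply Finset.dvd_sum
  intro q _
  induction q using Quotient.inductionOn' with | _ x₀ => ?_
  have hmem : ∀ a : X, (Quotient.mk'' a : MulAction.orbitRel.Quotient Λ X) = Quotient.mk'' x₀ ↔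
      a ∈ MulAction.orbit Λ x₀ := by
    intro a
    rw [Quotient.eq'']
    exact MulAction.orbitRel_apply
  have hsum : ∑ a ∈ (Finset.univ : Finset X) with
      (Quotient.mk'' a : MulAction.orbitRel.Quotient Λ X) = Quotient.mk'' x₀, f a =
      ∑ a ∈ (Finset.univ : Finset X) with
      (Quotient.mk'' a : MulAction.orbitRel.Quotient Λ X) = Quotient.mk'' x₀, f x₀ := by
    apply Finset.sum_congr rfl
    intro a ha
    rw [Finset.mem_filter] at ha
    obtain ⟨l, rfl⟩ := (hmem a).mp ha.2
    exact hinv l x₀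
  rw [hsum, Finset.sum_const, nsmul_eq_mul]
  have hcard : ((Finset.univ : Finset X).filter (fun a =>
      (Quotient.mk'' a : MulAction.orbitRel.Quotient Λ X) = Quotient.mk'' x₀)).card =
      Nat.card (MulAction.orbit Λ x₀) := by
    rw [Nat.card_eq_fintype_card, Fintype.card_subtype]
    congr 1
    ext a
    simp only [Finset.mem_filter, Finset.mem_univ, true_and]
    exact hmem a
  rw [hcard]
  exact h x₀

variable {G : Type u} [Group G]

/-- An irreducible character vanishing off a subgroup forces index at most the degree squared. -/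
theorem index_le_sq_of_vanish [Fintype G] {χ : G → ℂ} (hχ : Cfsg.IsIrrCharacter G χ) (d : ℕ)
    (hd : χ 1 = d) (N : Subgroup G) (hvan : ∀ g, g ∉ N → χ g = 0) : N.index ≤ d ^ 2 := by
  classical
  have hsum := sum_norm_sq_irr hχ
  have hle : ∀ g : G, ‖χ g‖ ^ 2 ≤ if g ∈ N then ((d : ℝ) ^ 2) else 0 := by
    intro g
    by_cases hg : g ∈ N
    · rw [if_pos hg]
      have h1 := IsCharacter.norm_le (IsIrrCharacter.isCharacter hχ) g
      rw [hd] at h1
      have h3 : ‖χ g‖ ≤ d := by simpa using h1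
      have h0 : 0 ≤ ‖χ g‖ := norm_nonneg _
      nlinarith
    · rw [if_neg hg, hvan g hg]
      simp
  have h3 : (Nat.card G : ℝ) ≤ (d : ℝ) ^ 2 * (Nat.card N : ℝ) := by
    rw [← hsum]
    calc ∑ g : G, ‖χ g‖ ^ 2 ≤ ∑ g : G, (if g ∈ N then ((d : ℝ) ^ 2) else 0) :=
          Finset.sum_le_sum (fun g _ => hle g)
      _ = (d : ℝ) ^ 2 * (Nat.card N : ℝ) := by
          rw [Finset.sum_ite, Finset.sum_const_zero, add_zero, Finset.sum_const, nsmul_eq_mul,
            Nat.card_eq_fintype_card, Fintype.card_subtype, mul_comm]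
  have h4 : Nat.card G ≤ d ^ 2 * Nat.card N := by exact_mod_cast h3
  rw [← Subgroup.card_mul_index N] at h4
  have hpos : 0 < Nat.card N := Nat.card_pos
  nlinarith

/-- The linear characters of order at most two. -/
def realLin (G : Type u) [Group G] : Subgroup (G →* ℂˣ) where
  carrier := {l | l * l = 1}
  mul_mem' := by
    intro a b ha hb
    change a * a = 1 at ha
    change b * b = 1 at hb
    change a * b * (a * b) = 1
    apply MonoidHom.ext
    intro g
    have h1 := DFunLike.congr_fun ha g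
    have h2 := DFunLike.congr_fun hb g
    simp only [MonoidHom.mul_apply, MonoidHom.one_apply] at h1 h2 ⊢
    calc a g * b g * (a g * b g) = (a g * a g) * (b g * b g) := by
          rw [mul_mul_mul_comm]
      _ = 1 := by rw [h1, h2, one_mul]
  one_mem' := one_mul 1
  inv_mem' := by
    intro a ha
    change a * a = 1 at ha
    change a⁻¹ * a⁻¹ = 1
    apply MonoidHom.ext
    intro g
    have h1 := DFunLike.congr_fun ha g
    simp only [MonoidHom.mul_apply, MonoidHom.one_apply, MonoidHom.inv_apply] at h1 ⊢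
    rw [← mul_inv, h1, inv_one]

theorem mem_realLin (l : G →* ℂˣ) : l ∈ realLin G ↔ l * l = 1 := Iff.rfl

theorem isPGroup_realLin : IsPGroup 2 (realLin G) := by
  intro g
  refine ⟨1, ?_⟩
  apply Subtype.ext
  rw [pow_one, pow_two, Subgroup.coe_mul, Subgroup.coe_one]
  exact g.2

theorem card_frattini_quot_le [Finite G] (hG : IsPGroup 2 G) :
    Nat.card (G ⧸ frattini G) ≤ Nat.card (realLin G) := by
  haveI : Fact (Nat.Prime 2) := ⟨Nat.prime_two⟩
  haveI : Finite (G →* ℂˣ) := finite_hom_units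
  have hcomm : ∀ a b : G ⧸ frattini G, a * b = b * a := by
    intro a b
    induction a using QuotientGroup.induction_on with | _ a => ?_
    induction b using QuotientGroup.induction_on with | _ b => ?_
    rw [← QuotientGroup.mk_mul, ← QuotientGroup.mk_mul, QuotientGroup.eq]
    have h1 : (a * b)⁻¹ * (b * a) = b⁻¹ * a⁻¹ * b⁻¹⁻¹ * a⁻¹⁻¹ := by group
    rw [h1]
    apply Cfsg.Agent.Helper1.IsPGroup.commutator_le_frattini hG
    rw [commutator_def, ← commutatorElement_def]
    exact Subgroup.commutator_mem_commutator (Subgroup.mem_top _) (Subgroup.mem_top _)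
  have hbot : commutator (G ⧸ frattini G) = ⊥ := by
    rw [commutator_def, Subgroup.commutator_eq_bot_iff_le_centralizer]
    intro a _
    rw [Subgroup.mem_centralizer_iff]
    intro b _
    exact hcomm b a
  have h1 : Nat.card ((G ⧸ frattini G) →* ℂˣ) = Nat.card (G ⧸ frattini G) := by
    rw [card_hom_units, hbot, Subgroup.index_bot]
  rw [← h1]
  let Φ : ((G ⧸ frattini G) →* ℂˣ) → realLin G := fun μ =>
    ⟨μ.comp (QuotientGroup.mk' (frattini G)), by
      rw [mem_realLin]
      ext g
      rw [MonoidHom.mul_apply, MonoidHom.comp_apply, ← map_mul, QuotientGroup.mk'_apply,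
        ← QuotientGroup.mk_mul]
      have h2 : g * g ∈ frattini G := by
        rw [← pow_two]
        exact Cfsg.Agent.Helper1.IsPGroup.pow_mem_frattini hG g
      rw [(QuotientGroup.eq_one_iff _).mpr h2, map_one, MonoidHom.one_apply]⟩
  apply Nat.card_le_card_of_injective Φ
  intro μ ν h
  have h2 : μ.comp (QuotientGroup.mk' (frattini G)) = ν.comp (QuotientGroup.mk' (frattini G)) :=
    congrArg Subtype.val h
  apply MonoidHom.ext
  intro q
  induction q using QuotientGroup.induction_on with | _ g => ?_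
  exact DFunLike.congr_fun h2 g

theorem arith {k a s i n : ℕ} (hn : 2 * k + 1 ≤ n) (hsi : s + i = n) (hs : s ≤ 2 * a) :
    k + 1 ≤ i + a := by omega

/-- Let G be a finite 2-group with #(G/Φ(G)) ≥ 2^(2k+1). Then the number of elements x of G with x² = 1 is divisible by 2^(k+1). -/
theorem result {G : Type*} [Group G] [Finite G] (hG : IsPGroup 2 G) (k : ℕ)
    (hgen : 2 ^ (2 * k + 1) ≤ Nat.card (G ⧸ frattini G)) :
    2 ^ (k + 1) ∣ Nat.card {x : G // x ^ 2 = 1} := by
  classical
  haveI : Fact (Nat.Prime 2) := ⟨Nat.prime_two⟩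
  haveI := Fintype.ofFinite G
  haveI : Finite (Cfsg.IrrCharacter G) := irr_finite
  haveI : Fintype (Cfsg.IrrCharacter G) := Fintype.ofFinite _
  haveI : Finite (G →* ℂˣ) := finite_hom_units
  letI := linAction G
  have hsmul_apply : ∀ (l : G →* ℂˣ) (χ : Cfsg.IrrCharacter G) (g : G),
      ((l • χ : Cfsg.IrrCharacter G) : G → ℂ) g = (χ : G → ℂ) g * ((l g : ℂˣ) : ℂ) :=
    fun l χ g => rfl
  -- the integer contributions
  have hpt : ∀ χ : Cfsg.IrrCharacter G, ∃ c : ℤ, ∃ a : ℕ,
      fsIndFun (χ : G → ℂ) * (χ : G → ℂ) 1 = (c : ℂ) ∧ (χ : G → ℂ) 1 = ((2 ^ a : ℕ) : ℂ) ∧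
      (c = 0 ∨ c = 2 ^ a ∨ c = -2 ^ a) := by
    intro χ
    obtain ⟨a, ha⟩ := irr_degree_two_pow hG χ
    have ha' : (χ : G → ℂ) 1 = ((2 ^ a : ℕ) : ℂ) := by rw [ha]; push_cast; rfl
    rcases irr_fs_cases χ with ⟨-, h1 | h1⟩ | ⟨-, h0⟩
    · exact ⟨2 ^ a, a, by rw [h1, ha, one_mul]; push_cast; rfl, ha', Or.inr (Or.inl rfl)⟩
    · exact ⟨-2 ^ a, a, by rw [h1, ha]; push_cast; ring, ha', Or.inr (Or.inr rfl)⟩
    · exact ⟨0, a, by rw [h0, zero_mul, Int.cast_zero], ha', Or.inl rfl⟩
  choose c a hc1 ha hc2 using hpt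
  set T : Finset G := Finset.univ.filter (fun s : G => s * s = 1) with hT
  have hsum := card_sq_eq_one_eq_sum (G := G)
  simp_rw [hc1] at hsum
  have hsumZ : (T.card : ℤ) = ∑ χ : Cfsg.IrrCharacter G, c χ := by
    have : ((T.card : ℤ) : ℂ) = ((∑ χ : Cfsg.IrrCharacter G, c χ : ℤ) : ℂ) := by
      push_cast
      exact hsum
    exact_mod_cast this
  have hTcard : Nat.card {x : G // x ^ 2 = 1} = T.card := by
    rw [Nat.card_eq_fintype_card, Fintype.card_subtype, hT]
    congr 1
    ext x
    simp only [Finset.mem_filter, Finset.mem_univ, true_and, pow_two]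
  -- invariance
  have hinv : ∀ (l : realLin G) (χ : Cfsg.IrrCharacter G), c (l • χ) = c χ := by
    intro l χ
    have hl : (l : G →* ℂˣ) * (l : G →* ℂˣ) = 1 := l.2
    have h1 : ((c (l • χ) : ℤ) : ℂ) = ((c χ : ℤ) : ℂ) := by
      rw [← hc1, ← hc1]
      have h2 : ((l • χ : Cfsg.IrrCharacter G) : G → ℂ) 1 = (χ : G → ℂ) 1 := by
        change (((l : G →* ℂˣ) • χ : Cfsg.IrrCharacter G) : G → ℂ) 1 = _
        rw [hsmul_apply, map_one, Units.val_one, mul_one]
      have h3 : fsIndFun ((l • χ : Cfsg.IrrCharacter G) : G → ℂ) = fsIndFun (χ : G → ℂ) := by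
        unfold fsIndFun
        congr 1
        apply Finset.sum_congr rfl
        intro s _
        change (((l : G →* ℂˣ) • χ : Cfsg.IrrCharacter G) : G → ℂ) (s * s) = _
        rw [hsmul_apply]
        have h4 : (l : G →* ℂˣ) (s * s) = 1 := by
          have := congrArg (fun φ : G →* ℂˣ => φ s) hl
          simpa using this
        rw [h4, Units.val_one, mul_one]
      rw [h2, h3]
    exact_mod_cast h1
  -- the order of the acting group
  obtain ⟨n, hn⟩ := IsPGroup.iff_card.mp (isPGroup_realLin (G := G))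
  have hn2 : 2 * k + 1 ≤ n := by
    have h1 : 2 ^ (2 * k + 1) ≤ 2 ^ n := by
      rw [← hn]
      exact hgen.trans (card_frattini_quot_le hG)
    exact (Nat.pow_le_pow_iff_right (by norm_num)).mp h1
  -- divisibility orbit by orbit
  have hdiv : ∀ χ : Cfsg.IrrCharacter G,
      ((2 ^ (k + 1) : ℕ) : ℤ) ∣ (Nat.card (MulAction.orbit (realLin G) χ) : ℤ) * c χ := by
    intro χ
    rcases hc2 χ with h0 | hc
    · rw [h0, mul_zero]; exact dvd_zero _
    set S := MulAction.stabilizer (realLin G) χ with hS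
    have hSo : Nat.card S * Nat.card (MulAction.orbit (realLin G) χ) = 2 ^ n := by
      rw [← hn, ← Subgroup.card_mul_index S, MulAction.index_stabilizer, Nat.card_coe_set_eq]
    set K : Subgroup G := ⨅ l : S, ((l : realLin G) : G →* ℂˣ).ker with hK
    haveI hKn : K.Normal := by
      rw [hK]
      exact Subgroup.normal_iInf_normal (fun l => inferInstance)
    have hvan : ∀ g, g ∉ K → (χ : G → ℂ) g = 0 := by
      intro g hg
      rw [hK, Subgroup.mem_iInf] at hg
      push Not at hg
      obtain ⟨l, hl⟩ := hg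
      have hfix : ((l : realLin G) : G →* ℂˣ) • χ = χ := MulAction.mem_stabilizer_iff.mp l.2
      exact vanish_of_linAction_fixed _ χ hfix g (fun h => hl (MonoidHom.mem_ker.mpr h))
    have hidx : K.index ≤ (2 ^ a χ) ^ 2 := index_le_sq_of_vanish χ.2 (2 ^ a χ) (ha χ) K hvan
    have hSle : Nat.card S ≤ Nat.card (trivOn K) := by
      have hmemK : ∀ l : S, ((l : realLin G) : G →* ℂˣ) ∈ trivOn K := by
        intro l m hm
        rw [hK, Subgroup.mem_iInf] at hm
        exact MonoidHom.mem_ker.mp (hm l)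
      apply Nat.card_le_card_of_injective (fun l : S => (⟨_, hmemK l⟩ : trivOn K))
      intro l l' h
      simp only [Subtype.mk.injEq] at h
      exact Subtype.ext (Subtype.ext h)
    have hSle2 : Nat.card S ≤ (2 ^ a χ) ^ 2 := by
      have hdvd := card_trivOn_dvd_index K
      have hidx0 : K.index ≠ 0 := Subgroup.index_ne_zero_of_finite
      exact hSle.trans ((Nat.le_of_dvd (Nat.pos_of_ne_zero hidx0) hdvd).trans hidx)
    obtain ⟨s, hs⟩ := IsPGroup.iff_card.mp ((isPGroup_realLin (G := G)).to_subgroup S)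
    have hodvd : Nat.card (MulAction.orbit (realLin G) χ) ∣ 2 ^ n := Dvd.intro_left _ hSo
    obtain ⟨i, -, hi⟩ := (Nat.dvd_prime_pow Nat.prime_two).mp hodvd
    rw [hs, hi, ← pow_add] at hSo
    have hsi : s + i = n := Nat.pow_right_injective (le_refl 2) hSo
    have hs2 : s ≤ 2 * a χ := by
      rw [hs, ← pow_mul] at hSle2
      have := (Nat.pow_le_pow_iff_right (by norm_num : 1 < 2)).mp hSle2
      omega
    have hfin : k + 1 ≤ i + a χ := arith hn2 hsi hs2
    rw [hi]
    have hd : ((2 ^ (k + 1) : ℕ) : ℤ) ∣ ((2 ^ i : ℕ) : ℤ) * 2 ^ a χ := by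
      push_cast
      rw [← pow_add]
      exact pow_dvd_pow 2 hfin
    rcases hc with hc | hc
    · rw [hc]; exact hd
    · rw [hc, mul_neg]; exact (dvd_neg).mpr hd
  have hfinal := dvd_sum_of_orbit (Λ := realLin G) c ((2 ^ (k + 1) : ℕ) : ℤ) hinv hdiv
  rw [← hsumZ] at hfinal
  rw [hTcard]
  exact_mod_cast hfinal


end Cfsg.Agent.S4058
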