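import Mathlib
import Cfsg.Statements.S3738
import Cfsg.Agent.Helper1.PGroup
import Cfsg.Agent.Helper1.Class2
import Cfsg.Agent.Helper1.Coprime
import Cfsg.Agent.Helper1.FrattiniAct
import Cfsg.Agent.Helper3.PRankNum
import Cfsg.Agent.S3736
import Cfsg.Agent.S4054
-- import your own Cfsg.Agent.* helpers here

set_option autoImplicit false
open Cfsg

namespace Cfsg.Agent.S3738
open Cfsg
universe u

open Cfsg.Agent.Helper3.PRankNum
open scoped commutatorElement Pointwise

section free
/-- A free action of a finite group on a finite set: the group order divides the size of the set. -/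
theorem card_dvd_of_free {B S : Type*} [Group B] [Finite B] [Finite S] [MulAction B S]
    (hfree : ∀ b : B, b ≠ 1 → ∀ s : S, b • s ≠ s) : Nat.card B ∣ Nat.card S := by
  classical
  haveI := Fintype.ofFinite B
  haveI := Fintype.ofFinite S
  haveI : ∀ b : B, Fintype (MulAction.fixedBy S b) := fun b => Fintype.ofFinite _
  haveI : Fintype (Quotient (MulAction.orbitRel B S)) := Fintype.ofFinite _
  have h := MulAction.sum_card_fixedBy_eq_card_orbits_mul_card_group B S
  have h1 : ∑ b : B, Fintype.card (MulAction.fixedBy S b) = Fintype.card S := by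
    rw [Finset.sum_eq_single (1 : B)]
    · apply Fintype.card_congr
      exact (Equiv.subtypeUnivEquiv (fun s => by simp [MulAction.mem_fixedBy]))
    · intro b _ hb
      rw [Fintype.card_eq_zero_iff]
      exact ⟨fun ⟨s, hs⟩ => hfree b hb s hs⟩
    · intro h
      exact absurd (Finset.mem_univ _) h
  rw [h1] at h
  rw [Nat.card_eq_fintype_card, Nat.card_eq_fintype_card, h]
  exact Dvd.intro_left _ rfl
end free


section abstract
variable {Y : Type u} [Group Y] [Finite Y]

theorem class_le_two (hY : IsPGroup 2 Y) (hcc : commutator Y ≤ Subgroup.center Y) :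
    Group.nilpotencyClass Y ≤ 2 := by
  haveI : Fact (Nat.Prime 2) := ⟨Nat.prime_two⟩
  have := hY.isNilpotent
  rw [← Subgroup.upperCentralSeries_eq_top_iff_nilpotencyClass_le, eq_top_iff]
  intro x _
  have : x ∈ Subgroup.upperCentralSeries Y (1 + 1) := by
    rw [Subgroup.mem_upperCentralSeries_succ_iff]
    intro y
    rw [Subgroup.upperCentralSeries_one]
    apply hcc
    rw [commutator_def]
    exact Subgroup.commutator_mem_commutator (Subgroup.mem_top _) (Subgroup.mem_top _)
  exact this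

theorem pow_four_of_special (hY : IsPGroup 2 Y) (hfc : frattini Y = Subgroup.center Y)
    (hcc : commutator Y = Subgroup.center Y) (x : Y) : x ^ 4 = 1 := by
  haveI : Fact (Nat.Prime 2) := ⟨Nat.prime_two⟩
  have hle : commutator Y ≤ Cfsg.Agent.S4054.omegaCenter Y := by
    rw [commutator_eq_closure, Subgroup.closure_le]
    rintro c ⟨a, b, rfl⟩
    have hcm : ⁅a, b⁆ ∈ commutator Y := by
      rw [commutator_def]
      exact Subgroup.commutator_mem_commutator (Subgroup.mem_top _) (Subgroup.mem_top _)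
    have hcz : ⁅a, b⁆ ∈ Subgroup.center Y := hcc ▸ hcm
    refine ⟨hcz, ?_⟩
    have hc : ∀ z, Commute ⁅a, b⁆ z := fun z => (Subgroup.mem_center_iff.mp hcz z).symm
    rw [← Cfsg.Agent.Helper1.commutator_pow_left_of_central hc 2,
      commutatorElement_eq_one_iff_commute]
    have h2 : a ^ 2 ∈ Subgroup.center Y := by
      rw [← hfc]
      exact Cfsg.Agent.Helper1.IsPGroup.pow_mem_frattini hY a
    exact (Subgroup.mem_center_iff.mp h2 b).symm
  have h2 : x ^ 2 ∈ commutator Y := by
    rw [hcc, ← hfc]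
    exact Cfsg.Agent.Helper1.IsPGroup.pow_mem_frattini hY x
  have h3 := (hle h2).2
  rw [← pow_mul] at h3
  exact h3

end abstract

theorem le_two_of_pRankAtLeast {X : Type*} {Y : Type*} [Group X] [Group Y] [Finite Y]
    (P : Subgroup X)
    (hrank : ∀ V : Subgroup X, V ≤ P → IsMulCommutative V → Cfsg.PRankLE 2 2 V)
    (f : Y →* X) (hf : Function.Injective f) (hfP : ∀ y, f y ∈ P) {k : ℕ}
    (h : PRankAtLeast 2 k Y) : k ≤ 2 := by
  obtain ⟨A', hA'c, hA'e, hk⟩ := h
  set V := A'.map f with hV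
  have hVP : V ≤ P := by
    rintro _ ⟨y, -, rfl⟩
    exact hfP y
  have hVc : IsMulCommutative V := by
    refine ⟨⟨fun ⟨a, ha⟩ ⟨b, hb⟩ => Subtype.ext ?_⟩⟩
    obtain ⟨a', ha', rfl⟩ := ha
    obtain ⟨b', hb', rfl⟩ := hb
    change f a' * f b' = f b' * f a'
    have h2 : a' * b' = b' * a' :=
      congrArg Subtype.val (mul_comm' (⟨a', ha'⟩ : A') ⟨b', hb'⟩)
    rw [← map_mul, ← map_mul, h2]
  have h1 := hrank V hVP hVc ⊤
    ⟨⟨fun ⟨a, _⟩ ⟨b, _⟩ => Subtype.ext (mul_comm' a b)⟩⟩ (by
      rintro ⟨v, hv⟩ -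
      obtain ⟨a', ha', rfl⟩ := hv
      apply Subtype.ext
      change (f a') ^ 2 = 1
      rw [← map_pow, hA'e a' ha', map_one])
  rw [Subgroup.card_top, hV, Subgroup.card_map_of_injective hf] at h1
  have h2 : 2 ^ k ≤ 2 ^ 2 := hk.trans h1
  exact (Nat.pow_le_pow_iff_right (by norm_num)).mp h2

theorem pRank_le_two {X : Type*} {Y : Type*} [Group X] [Group Y] [Finite Y]
    (P : Subgroup X)
    (hrank : ∀ V : Subgroup X, V ≤ P → IsMulCommutative V → Cfsg.PRankLE 2 2 V)
    (f : Y →* X) (hf : Function.Injective f) (hfP : ∀ y, f y ∈ P) : Cfsg.pRank 2 Y ≤ 2 :=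
  csSup_le ⟨0, pRankAtLeast_zero⟩ (fun _ hk => le_two_of_pRankAtLeast P hrank f hf hfP hk)


theorem cube_mem_zpowers_of_ne_one {X : Type u} [Group X] [Finite X] (c : X) (hc : orderOf c = 9)
    (b : X) (hb : b ∈ Subgroup.zpowers c) (hb1 : b ≠ 1) : c ^ 3 ∈ Subgroup.zpowers b := by
  rw [← mem_powers_iff_mem_zpowers, Submonoid.mem_powers_iff] at hb
  obtain ⟨m, rfl⟩ := hb
  have h9 : c ^ 9 = 1 := by rw [← hc]; exact pow_orderOf_eq_one c
  have hmod : c ^ (m % 9) = c ^ m := by rw [← hc]; exact pow_mod_orderOf c m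
  have hi : m % 9 < 9 := Nat.mod_lt _ (by norm_num)
  have hi0 : m % 9 ≠ 0 := by
    intro h0
    apply hb1
    rw [← hmod, h0, pow_zero]
  rw [← hmod]
  have key : ∀ i j q : ℕ, i * j = 9 * q + 3 → c ^ 3 ∈ Subgroup.zpowers (c ^ i) := by
    intro i j q hij
    refine Subgroup.mem_zpowers_iff.mpr ⟨(j : ℤ), ?_⟩
    rw [zpow_natCast, ← pow_mul, hij, pow_add, pow_mul, h9, one_pow, one_mul]
  generalize m % 9 = i at hi hi0 ⊢
  interval_cases i
  · exact absurd rfl hi0
  · exact key 1 3 0 (by norm_num)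
  · exact key 2 6 1 (by norm_num)
  · exact key 3 1 0 (by norm_num)
  · exact key 4 3 1 (by norm_num)
  · exact key 5 6 3 (by norm_num)
  · exact key 6 2 1 (by norm_num)
  · exact key 7 3 2 (by norm_num)
  · exact key 8 6 5 (by norm_num)

theorem nine_dvd_imp {n' l' : ℕ} (h : 9 ∣ 2 ^ l' * (2 ^ n' - 1)) (hn : n' ≠ 0) : 6 ≤ n' := by
  have hcop : Nat.Coprime 9 (2 ^ l') := by
    apply Nat.Coprime.pow_right
    norm_num
  have h2 : 9 ∣ 2 ^ n' - 1 := hcop.dvd_of_dvd_mul_left h
  by_contra hlt
  push Not at hlt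
  interval_cases n' <;> omega

theorem core {X : Type u} [Group X] [Finite X] (c : X) (hc : orderOf c = 9) (P : Subgroup X)
    (hP : IsPGroup 2 P) (hcP : c ∈ Subgroup.normalizer (P : Set X))
    (hfaith : c ^ 3 ∉ Subgroup.centralizer (P : Set X))
    (hrank : ∀ V : Subgroup X, V ≤ P → IsMulCommutative V → Cfsg.PRankLE 2 2 V) : False := by
  classical
  haveI : Fact (Nat.Prime 2) := ⟨Nat.prime_two⟩
  set a := c ^ 3 with ha
  have hao : orderOf a = 3 := by
    rw [ha, orderOf_pow_of_dvd (by norm_num) (by rw [hc]; norm_num), hc]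
  set B := Subgroup.zpowers c with hB
  set A := Subgroup.zpowers a with hA
  have hAB : A ≤ B := by
    rw [hA, Subgroup.zpowers_le]
    exact Subgroup.pow_mem _ (Subgroup.mem_zpowers c) 3
  have hBcent : B ≤ Subgroup.centralizer (A : Set X) := by
    rw [hB, Subgroup.zpowers_le, Subgroup.mem_centralizer_iff]
    intro z hz
    obtain ⟨k, rfl⟩ := Subgroup.mem_zpowers_iff.mp hz
    exact (((Commute.refl c).pow_left 3).zpow_left k).eq
  have hAn : B ≤ Subgroup.normalizer (A : Set X) :=
    hBcent.trans (Subgroup.centralizer_le_normalizer _)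
  have hAcard : Nat.card A = 3 := by rw [hA, Nat.card_zpowers, hao]
  have hBcard : Nat.card B = 9 := by rw [hB, Nat.card_zpowers, hc]
  have hAp : (Nat.card A).Coprime 2 := by rw [hAcard]; norm_num
  set 𝓕 : Set (Subgroup X) :=
    {U | U ≤ P ∧ c ∈ Subgroup.normalizer (U : Set X) ∧ ⁅U, A⁆ ≠ ⊥} with h𝓕
  have hPF : P ∈ 𝓕 := by
    refine ⟨le_rfl, hcP, ?_⟩
    intro h
    rw [Subgroup.commutator_eq_bot_iff_le_centralizer] at h
    apply hfaith
    rw [Subgroup.mem_centralizer_iff]
    intro x hx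
    have := Subgroup.mem_centralizer_iff.mp (h hx) a (Subgroup.mem_zpowers a)
    exact this.symm
  obtain ⟨R, hR⟩ := Set.Finite.exists_minimal (Set.toFinite 𝓕) ⟨P, hPF⟩
  obtain ⟨hRP, hcR, hRA⟩ := hR.1
  have hRp : IsPGroup 2 R := hP.to_le hRP
  have hBR : B ≤ Subgroup.normalizer (R : Set X) := by
    rw [hB, Subgroup.zpowers_le]; exact hcR
  have hmin : ∀ U : Subgroup X, U < R → B ≤ Subgroup.normalizer (U : Set X) → ⁅U, A⁆ = ⊥ := by
    intro U hU hBU
    by_contra hne
    have : U ∈ 𝓕 := ⟨hU.le.trans hRP, hBU (Subgroup.mem_zpowers c), hne⟩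
    exact (not_le_of_gt hU) (hR.2 this hU.le)
  obtain ⟨h1, h2, h3, -⟩ := Cfsg.Agent.S3736.result (p := 2) B A R hRp hBR hAB hAn hAp hRA hmin
  set Φ := (frattini ↥R).map R.subtype with hΦ
  have hΦR : Φ ≤ R := Subgroup.map_subtype_le _
  have hBΦ : B ≤ Subgroup.normalizer (Φ : Set X) :=
    hBR.trans (Cfsg.Agent.Helper1.le_normalizer_map_of_characteristic R (frattini ↥R))
  -- C_R(A) ≤ Φ
  set CRA := R ⊓ Subgroup.centralizer (A : Set X) with hCRA
  have hBCA : B ≤ Subgroup.normalizer ((Subgroup.centralizer (A : Set X) : Subgroup X) : Set X) :=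
    hBcent.trans Subgroup.le_normalizer
  have hBCRA : B ≤ Subgroup.normalizer (CRA : Set X) :=
    Cfsg.Agent.Helper1.le_normalizer_inf hBR hBCA
  have hCRAΦ : CRA ≤ Φ := by
    set U := Φ ⊔ CRA with hU
    have hUR : U ≤ R := sup_le hΦR inf_le_left
    have hBU : B ≤ Subgroup.normalizer (U : Set X) := by
      intro b hb
      apply Cfsg.Agent.Helper1.mem_normalizer_of_conj_smul_eq
      rw [hU, Subgroup.smul_sup,
        Cfsg.Agent.Helper1.conj_smul_eq_of_mem_normalizer (hBΦ hb),
        Cfsg.Agent.Helper1.conj_smul_eq_of_mem_normalizer (hBCRA hb)]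
    rcases h3 U le_sup_left hUR hBU with h | h
    · rw [← h]; exact le_sup_right
    · exfalso
      -- nongenerators
      have h4 : CRA.subgroupOf R ⊔ frattini ↥R = ⊤ := by
        have h5 : (frattini ↥R) = Φ.subgroupOf R := by
          rw [hΦ, Subgroup.subgroupOf, Subgroup.comap_map_eq_self_of_injective
            (Subgroup.subtype_injective R)]
        rw [h5, ← Subgroup.subgroupOf_sup inf_le_left hΦR, sup_comm, ← hU, h]
        exact Subgroup.subgroupOf_self R
      have h6 := frattini_nongenerating h4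
      rw [Subgroup.subgroupOf_eq_top] at h6
      apply hRA
      rw [Subgroup.commutator_eq_bot_iff_le_centralizer]
      exact h6.trans inf_le_right
  -- the free action of B on R \ Φ
  set S : Set X := (R : Set X) \ (Φ : Set X) with hS
  have hact : ∀ (b : B) (s : S), (b : X) * (s : X) * (b : X)⁻¹ ∈ S := by
    intro b s
    obtain ⟨hsR, hsΦ⟩ := s.2
    refine ⟨?_, ?_⟩
    · exact (Subgroup.mem_normalizer_iff.mp (hBR b.2) _).mp hsR
    · intro h
      exact hsΦ ((Subgroup.mem_normalizer_iff.mp (hBΦ b.2) _).mpr h)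
  letI actS : MulAction B S :=
    { smul := fun b s => ⟨(b : X) * (s : X) * (b : X)⁻¹, hact b s⟩
      one_smul := fun s => Subtype.ext (by
        change ((1 : B) : X) * (s : X) * ((1 : B) : X)⁻¹ = s
        simp)
      mul_smul := fun b b' s => Subtype.ext (by
        change ((b * b' : B) : X) * (s : X) * ((b * b' : B) : X)⁻¹ =
          (b : X) * ((b' : X) * (s : X) * (b' : X)⁻¹) * (b : X)⁻¹
        rw [Subgroup.coe_mul]
        group) }
  have hsmul : ∀ (b : B) (s : S), ((b • s : S) : X) = (b : X) * (s : X) * (b : X)⁻¹ :=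
    fun b s => rfl
  have hfree : ∀ b : B, b ≠ 1 → ∀ s : S, b • s ≠ s := by
    intro b hb1 s hbs
    have h4 : (b : X) * (s : X) * (b : X)⁻¹ = (s : X) := by
      rw [← hsmul, hbs]
    have hcomm : Commute (b : X) (s : X) := by
      have : (b : X) * (s : X) = (s : X) * (b : X) := by
        calc (b : X) * (s : X) = ((b : X) * (s : X) * (b : X)⁻¹) * (b : X) := by group
          _ = (s : X) * (b : X) := by rw [h4]
      exact this
    have hb1' : (b : X) ≠ 1 := fun h => hb1 (Subtype.ext h)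
    have hab : a ∈ Subgroup.zpowers (b : X) := cube_mem_zpowers_of_ne_one c hc b b.2 hb1'
    obtain ⟨k, hk⟩ := Subgroup.mem_zpowers_iff.mp hab
    have hacomm : Commute a (s : X) := by
      rw [← hk]; exact hcomm.zpow_left k
    have hsC : (s : X) ∈ CRA := by
      refine ⟨s.2.1, ?_⟩
      change (s : X) ∈ Subgroup.centralizer (A : Set X)
      rw [Subgroup.mem_centralizer_iff]
      intro x hx
      obtain ⟨j, rfl⟩ := Subgroup.mem_zpowers_iff.mp hx
      exact (hacomm.zpow_left j).eq
    exact s.2.2 (hCRAΦ hsC)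
  have h9S : 9 ∣ Nat.card S := by
    rw [← hBcard]
    exact card_dvd_of_free hfree
  -- sizes
  obtain ⟨r, hr⟩ := IsPGroup.iff_card.mp hRp
  obtain ⟨l', hl'⟩ := IsPGroup.iff_card.mp (hRp.to_le hΦR)
  have hΦcard : Nat.card (frattini ↥R) = 2 ^ l' := by
    rw [← hl', hΦ, Subgroup.card_map_of_injective (Subgroup.subtype_injective R)]
  obtain ⟨n', hn'⟩ := IsPGroup.iff_card.mp (hRp.to_quotient (frattini ↥R))
  have hrn : r = n' + l' := by
    have h4 := Subgroup.card_eq_card_quotient_mul_card_subgroup (frattini ↥R)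
    rw [hr, hn', hΦcard, ← pow_add] at h4
    exact Nat.pow_right_injective (le_refl 2) h4
  have hScard : Nat.card S = 2 ^ l' * (2 ^ n' - 1) := by
    rw [Nat.card_coe_set_eq, hS, Set.ncard_sdiff (by exact_mod_cast hΦR)]
    have e1 : (R : Set X).ncard = 2 ^ r := by
      rw [← hr]; exact (Nat.card_coe_set_eq _).symm
    have e2 : (Φ : Set X).ncard = 2 ^ l' := by
      rw [← hl']; exact (Nat.card_coe_set_eq _).symm
    rw [e1, e2, hrn, pow_add, Nat.mul_sub, mul_one, mul_comm]
  have hn'0 : n' ≠ 0 := by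
    intro h0
    rw [h0, pow_zero] at hn'
    have htop : frattini ↥R = ⊤ := by
      have : (frattini ↥R).index = 1 := by rw [Subgroup.index_eq_card]; exact hn'
      exact Subgroup.index_eq_one.mp this
    have h4 : (⊥ : Subgroup ↥R) ⊔ frattini ↥R = ⊤ := by rw [htop, bot_sup_eq]
    have h5 := frattini_nongenerating h4
    apply hRA
    have hRbot : R = ⊥ := by
      rw [eq_bot_iff]
      intro x hx
      have : (⟨x, hx⟩ : ↥R) ∈ (⊥ : Subgroup ↥R) := by rw [h5]; exact Subgroup.mem_top _
      rw [Subgroup.mem_bot] at this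
      exact Subgroup.mem_bot.mpr (congrArg Subtype.val this)
    rw [hRbot]
    exact Subgroup.commutator_bot_left A
  have hn6 : 6 ≤ n' := nine_dvd_imp (hScard ▸ h9S) hn'0
  -- class and exponent of R
  have hcc : commutator ↥R ≤ Subgroup.center ↥R := by
    rcases h2 with ⟨hRc, -⟩ | ⟨-, -, hcc⟩
    · intro z _
      rw [Subgroup.mem_center_iff]
      intro g
      exact mul_comm' g z
    · rw [hcc]
  have hexp4 : ∀ x : ↥R, x ^ 4 = 1 := by
    rcases h2 with ⟨-, hRe⟩ | ⟨-, hfc, hcc'⟩
    · intro x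
      apply Subtype.ext
      have := hRe x x.2
      rw [Subgroup.coe_pow, Subgroup.coe_one]
      calc (x : X) ^ 4 = ((x : X) ^ 2) ^ 2 := by rw [← pow_mul]
        _ = 1 := by rw [this, one_pow]
    · exact pow_four_of_special hRp hfc hcc'
  have hS4054 := Cfsg.Agent.S4054.result (P := ↥R) hRp (class_le_two hRp hcc)
    (Monoid.exponent_dvd_of_forall_pow_eq_one hexp4)
  have hrR : Cfsg.pRank 2 ↥R ≤ 2 :=
    pRank_le_two P hrank R.subtype (Subgroup.subtype_injective R) (fun y => hRP y.2)
  have hrΦ : Cfsg.pRank 2 ↥(frattini ↥R) ≤ 2 :=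
    pRank_le_two P hrank (R.subtype.comp (frattini ↥R).subtype)
      ((Subgroup.subtype_injective R).comp (Subgroup.subtype_injective _))
      (fun y => hRP (y : ↥R).2)
  have hrq : Cfsg.pRank 2 (↥R ⧸ frattini ↥R) = n' := by
    apply pRank_eq_of_card (le_refl 2) _ _ hn'
    · intro x y
      induction x using QuotientGroup.induction_on with | _ x => ?_
      induction y using QuotientGroup.induction_on with | _ y => ?_
      rw [← QuotientGroup.mk_mul, ← QuotientGroup.mk_mul, QuotientGroup.eq]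
      have e1 : (x * y)⁻¹ * (y * x) = y⁻¹ * x⁻¹ * y⁻¹⁻¹ * x⁻¹⁻¹ := by group
      rw [e1]
      apply Cfsg.Agent.Helper1.IsPGroup.commutator_le_frattini hRp
      rw [commutator_def, ← commutatorElement_def]
      exact Subgroup.commutator_mem_commutator (Subgroup.mem_top _) (Subgroup.mem_top _)
    · intro x
      induction x using QuotientGroup.induction_on with | _ x => ?_
      rw [← QuotientGroup.mk_pow, QuotientGroup.eq_one_iff]
      exact Cfsg.Agent.Helper1.IsPGroup.pow_mem_frattini hRp x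
  rw [hrq] at hS4054
  generalize Cfsg.pRank 2 ↥(frattini ↥R) = l at hS4054 hrΦ
  generalize Cfsg.pRank 2 ↥R = m at hS4054 hrR
  interval_cases l
  · simp only [zero_add, Nat.div_one, add_zero] at hS4054
    omega
  · have : 3 ≤ n' / (1 + 1) := by
      rw [Nat.le_div_iff_mul_le (by norm_num)]; omega
    omega
  · have : 2 ≤ n' / (2 + 1) := by
      rw [Nat.le_div_iff_mul_le (by norm_num)]; omega
    omega

/-- Let d be a non-identity 3-element of a finite group and P a 2-subgroup normalized by d on which ⟨d⟩ acts faithfully (no non-identity power of d centralizes P) and without non-identity fixed points (C_P(d) = 1). If every abelian subgroup of P has 2-rank at most 2, then d has order 3. -/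
theorem result {X : Type*} [Group X] [Finite X] (d : X) (n : ℕ) (hn : 1 ≤ n) (hd : orderOf d = 3 ^ n) (P : Subgroup X) (hP : IsPGroup 2 P) (hdP : d ∈ Subgroup.normalizer (P : Set X)) (hfaith : Subgroup.zpowers d ⊓ Subgroup.centralizer (P : Set X) = ⊥) (hfpf : P ⊓ Subgroup.centralizer {d} = ⊥) (hrank : ∀ V : Subgroup X, V ≤ P → IsMulCommutative V → Cfsg.PRankLE 2 2 V) : orderOf d = 3 := by
  by_contra hne
  have hn2 : 2 ≤ n := by
    by_contra hlt
    have : n = 1 := by omega
    rw [this, pow_one] at hd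
    exact hne hd
  set c := d ^ (3 ^ (n - 2)) with hc
  have hco : orderOf c = 9 := by
    have hdvd : 3 ^ (n - 2) ∣ orderOf d := by
      rw [hd]; exact pow_dvd_pow 3 (by omega)
    rw [hc, orderOf_pow_of_dvd (by positivity) hdvd, hd]
    have e : 3 ^ n = 3 ^ (n - 2) * 9 := by
      have : n = (n - 2) + 2 := by omega
      calc 3 ^ n = 3 ^ ((n - 2) + 2) := by rw [← this]
        _ = 3 ^ (n - 2) * 9 := by rw [pow_add]; norm_num
    rw [e, Nat.mul_div_cancel_left _ (by positivity)]
  have hcP : c ∈ Subgroup.normalizer (P : Set X) := Subgroup.pow_mem _ hdP _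
  apply core c hco P hP hcP _ hrank
  intro hcent
  have hmem : c ^ 3 ∈ Subgroup.zpowers d ⊓ Subgroup.centralizer (P : Set X) :=
    ⟨Subgroup.pow_mem _ (Subgroup.pow_mem _ (Subgroup.mem_zpowers d) _) _, hcent⟩
  rw [hfaith, Subgroup.mem_bot] at hmem
  have h3 : orderOf c ∣ 3 := orderOf_dvd_of_pow_eq_one hmem
  rw [hco] at h3
  omega


end Cfsg.Agent.S3738
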