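import Mathlib
import Cfsg.Statements.S3995
import Cfsg.Agent.S3993
import Cfsg.Agent.S0016
import Cfsg.Agent.Helper1.NormalPCompl
import Cfsg.Statements.S3995
-- import your own Cfsg.Agent.* helpers here

set_option autoImplicit false
open Cfsg

namespace Cfsg.Agent.S3995
open Cfsg
universe u

section count

variable (G : Type u) [Group G] [Finite G]

/-- number of elements of order `k` -/
noncomputable def s (k : ℕ) : ℕ := Nat.card {g : G // orderOf g = k}

omit [Finite G] in
theorem s_one : s G 1 = 1 := by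
  unfold s
  rw [Nat.card_eq_one_iff_unique]
  refine ⟨⟨fun a b => ?_⟩, ⟨⟨1, orderOf_one⟩⟩⟩
  apply Subtype.ext
  rw [orderOf_eq_one_iff.1 a.2, orderOf_eq_one_iff.1 b.2]

variable {G}

theorem s_pos (g : G) : 0 < s G (orderOf g) := by
  unfold s
  have : Nonempty {x : G // orderOf x = orderOf g} := ⟨⟨g, rfl⟩⟩
  exact Nat.card_pos

omit [Finite G] in
theorem s_eq_zero {k : ℕ} (hk : ∀ g : G, orderOf g ≠ k) : s G k = 0 := by
  unfold s
  have : IsEmpty {x : G // orderOf x = k} := ⟨fun x => hk x.1 x.2⟩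
  exact Nat.card_of_isEmpty

theorem totient_dvd_s (k : ℕ) : Nat.totient k ∣ s G k := by
  unfold s
  apply Cfsg.Agent.S3993.totient_dvd_card_of_closed (fun x : G => orderOf x = k) k
  · intro x x' hx hxx'
    show orderOf x' = k
    rw [← hx, ← Nat.card_zpowers, hxx', Nat.card_zpowers]
  · intro x hx
    rw [hx]

theorem card_pow_eq_sum (m : ℕ) (D : Finset ℕ) (hD : ∀ d : ℕ, d ∣ m ↔ d ∈ D) :
    Nat.card {g : G // g ^ m = 1} = ∑ d ∈ D, s G d := by
  classical
  have : Fintype G := Fintype.ofFinite _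
  rw [Nat.card_eq_fintype_card, Fintype.card_subtype]
  rw [Finset.card_eq_sum_card_fiberwise (f := fun g : G => orderOf g) (t := D)
    (fun g hg => by
      rw [Finset.mem_coe, Finset.mem_filter] at hg
      exact (hD _).1 (orderOf_dvd_of_pow_eq_one hg.2))]
  apply Finset.sum_congr rfl
  intro d hd
  unfold s
  rw [Nat.card_eq_fintype_card, Fintype.card_subtype]
  congr 1
  ext g
  simp only [Finset.mem_filter, Finset.mem_univ, true_and]
  constructor
  · exact fun h => h.2
  · intro h
    refine ⟨?_, h⟩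
    rw [← orderOf_dvd_iff_pow_eq_one, h]
    exact (hD d).2 hd

theorem frob (m : ℕ) (hm : m ∣ Nat.card G) (D : Finset ℕ) (hD : ∀ d : ℕ, d ∣ m ↔ d ∈ D) :
    m ∣ ∑ d ∈ D, s G d := by
  rw [← card_pow_eq_sum m D hD]
  exact Cfsg.Agent.S3993.result m hm

theorem frob_p (p : ℕ) (hp : p.Prime) (h : p ∣ Nat.card G) : p ∣ 1 + s G p := by
  have h1 := frob (G := G) p h {1, p} (by
    intro d
    rw [Nat.dvd_prime hp]
    simp)
  rw [Finset.sum_pair hp.one_lt.ne, s_one] at h1
  exact h1

theorem frob_p2 (p : ℕ) (hp : p.Prime) (h : p ^ 2 ∣ Nat.card G) :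
    p ^ 2 ∣ 1 + s G p + s G (p ^ 2) := by
  have h1 := frob (G := G) (p ^ 2) h {1, p, p ^ 2} (by
    intro d
    rw [Nat.dvd_prime_pow hp]
    constructor
    · rintro ⟨i, hi, rfl⟩
      interval_cases i <;> simp
    · intro hd
      simp only [Finset.mem_insert, Finset.mem_singleton] at hd
      rcases hd with rfl | rfl | rfl
      · exact ⟨0, by omega, by simp⟩
      · exact ⟨1, by omega, by simp⟩
      · exact ⟨2, le_refl _, rfl⟩)
  have hp1 := hp.one_lt
  have e1 : (1 : ℕ) ∉ ({p, p ^ 2} : Finset ℕ) := by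
    simp only [Finset.mem_insert, Finset.mem_singleton, not_or]
    refine ⟨by omega, ?_⟩
    intro h2
    have : 1 < p ^ 2 := Nat.one_lt_pow (by norm_num) hp1
    omega
  have e2 : p ∉ ({p ^ 2} : Finset ℕ) := by
    simp only [Finset.mem_singleton]
    intro h2
    have : p ^ 1 < p ^ 2 := Nat.pow_lt_pow_right hp1 (by norm_num)
    rw [pow_one] at this
    omega
  rw [Finset.sum_insert e1, Finset.sum_insert e2, Finset.sum_singleton, s_one] at h1
  rw [add_assoc]
  exact h1

theorem frob_pq (p q : ℕ) (hp : p.Prime) (hq : q.Prime) (hne : p ≠ q) (h : p * q ∣ Nat.card G) :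
    p * q ∣ 1 + s G p + s G q + s G (p * q) := by
  have h1 := frob (G := G) (p * q) h {1, p, q, p * q} (by
    intro d
    rw [Nat.dvd_mul]
    simp only [Finset.mem_insert, Finset.mem_singleton]
    constructor
    · rintro ⟨a, b, ha, hb, rfl⟩
      rcases (Nat.dvd_prime hp).1 ha with rfl | rfl <;> rcases (Nat.dvd_prime hq).1 hb with rfl | rfl
      · left; simp
      · right; right; left; simp
      · right; left; simp
      · right; right; right; rfl
    · rintro (rfl | rfl | rfl | rfl)
      · exact ⟨1, 1, one_dvd _, one_dvd _, rfl⟩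
      · exact ⟨d, 1, dvd_refl _, one_dvd _, by simp⟩
      · exact ⟨1, d, one_dvd _, dvd_refl _, by simp⟩
      · exact ⟨p, q, dvd_refl _, dvd_refl _, rfl⟩)
  have hp1 := hp.one_lt
  have hq1 := hq.one_lt
  have hpq1 : p < p * q := by nlinarith
  have hpq2 : q < p * q := by nlinarith
  have e1 : (1 : ℕ) ∉ ({p, q, p * q} : Finset ℕ) := by
    simp only [Finset.mem_insert, Finset.mem_singleton, not_or]
    refine ⟨by omega, by omega, by omega⟩
  have e2 : p ∉ ({q, p * q} : Finset ℕ) := by
    simp only [Finset.mem_insert, Finset.mem_singleton, not_or]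
    exact ⟨hne, by omega⟩
  have e3 : q ∉ ({p * q} : Finset ℕ) := by
    simp only [Finset.mem_singleton]; omega
  rw [Finset.sum_insert e1, Finset.sum_insert e2, Finset.sum_insert e3, Finset.sum_singleton,
    s_one] at h1
  rw [add_assoc, add_assoc]
  exact h1

theorem frob_4 (h : 4 ∣ Nat.card G) : 4 ∣ 1 + s G 2 + s G 4 := by
  have h1 := frob (G := G) 4 h (Nat.divisors 4) (by
    intro d
    rw [Nat.mem_divisors]
    simp)
  have e : Nat.divisors 4 = {1, 2, 4} := by decide
  rw [e, Finset.sum_insert (by decide), Finset.sum_insert (by decide), Finset.sum_singleton,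
    s_one] at h1
  rw [add_assoc]
  exact h1

theorem frob_8 (h : 8 ∣ Nat.card G) : 8 ∣ 1 + s G 2 + s G 4 + s G 8 := by
  have h1 := frob (G := G) 8 h (Nat.divisors 8) (by
    intro d
    rw [Nat.mem_divisors]
    simp)
  have e : Nat.divisors 8 = {1, 2, 4, 8} := by decide
  rw [e, Finset.sum_insert (by decide), Finset.sum_insert (by decide),
    Finset.sum_insert (by decide), Finset.sum_singleton, s_one] at h1
  rw [add_assoc, add_assoc]
  exact h1

theorem frob_4p (p : ℕ) (hp : p.Prime) (hp2 : p ≠ 2) (h : 4 * p ∣ Nat.card G) :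
    4 * p ∣ 1 + s G 2 + s G 4 + s G p + s G (2 * p) + s G (4 * p) := by
  have hp3 : 3 ≤ p := by have := hp.two_le; omega
  have hp4 : p ≠ 4 := by rintro rfl; norm_num at hp
  have e4 : ∀ a : ℕ, a ∣ 4 ↔ a = 1 ∨ a = 2 ∨ a = 4 := by
    intro a
    constructor
    · intro ha
      have := Nat.le_of_dvd (by norm_num) ha
      interval_cases a <;> simp_all
    · rintro (rfl | rfl | rfl) <;> norm_num
  have h1 := frob (G := G) (4 * p) h {1, 2, 4, p, 2 * p, 4 * p} (by
    intro d
    rw [Nat.dvd_mul]
    simp only [Finset.mem_insert, Finset.mem_singleton]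
    constructor
    · rintro ⟨a, b, ha, hb, rfl⟩
      rcases (e4 a).1 ha with rfl | rfl | rfl <;> rcases (Nat.dvd_prime hp).1 hb with rfl | rfl
      · left; simp
      · right; right; right; left; simp
      · right; left; simp
      · right; right; right; right; left; rfl
      · right; right; left; simp
      · right; right; right; right; right; rfl
    · rintro (rfl | rfl | rfl | rfl | rfl | rfl)
      · exact ⟨1, 1, one_dvd _, one_dvd _, rfl⟩
      · exact ⟨2, 1, by norm_num, one_dvd _, rfl⟩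
      · exact ⟨4, 1, dvd_refl _, one_dvd _, rfl⟩
      · exact ⟨1, d, one_dvd _, dvd_refl _, by simp⟩
      · exact ⟨2, p, by norm_num, dvd_refl _, rfl⟩
      · exact ⟨4, p, dvd_refl _, dvd_refl _, rfl⟩)
  have e1 : (1 : ℕ) ∉ ({2, 4, p, 2 * p, 4 * p} : Finset ℕ) := by
    simp only [Finset.mem_insert, Finset.mem_singleton]; omega
  have e2 : (2 : ℕ) ∉ ({4, p, 2 * p, 4 * p} : Finset ℕ) := by
    simp only [Finset.mem_insert, Finset.mem_singleton]; omega
  have e3 : (4 : ℕ) ∉ ({p, 2 * p, 4 * p} : Finset ℕ) := by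
    simp only [Finset.mem_insert, Finset.mem_singleton]; omega
  have e5 : p ∉ ({2 * p, 4 * p} : Finset ℕ) := by
    simp only [Finset.mem_insert, Finset.mem_singleton]; omega
  have e6 : 2 * p ∉ ({4 * p} : Finset ℕ) := by
    simp only [Finset.mem_singleton]; omega
  rw [Finset.sum_insert e1, Finset.sum_insert e2, Finset.sum_insert e3, Finset.sum_insert e5,
    Finset.sum_insert e6, Finset.sum_singleton, s_one] at h1
  rw [add_assoc, add_assoc, add_assoc, add_assoc]
  exact h1

end count

theorem ne_one_of_orderOf {K : Type u} [Group K] {g : K} {k : ℕ} (hk : 1 < k) (hg : orderOf g = k) :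
    g ≠ 1 := by
  rintro rfl
  rw [orderOf_one] at hg
  omega

theorem odd_type (K : Type u) [Group K] [Finite K] [Nontrivial K] (n : ℕ)
    (hodd : Odd (Nat.card K)) (hs : ∀ g : K, g ≠ 1 → s K (orderOf g) = n) :
    ∃ p : ℕ, p.Prime ∧ p ≠ 2 ∧ IsPGroup p K ∧ Monoid.exponent K = p := by
  have hcard : 1 < Nat.card K := Finite.one_lt_card
  have hp : (Nat.card K).minFac.Prime := Nat.minFac_prime hcard.ne'
  have hpd : (Nat.card K).minFac ∣ Nat.card K := Nat.minFac_dvd _
  generalize (Nat.card K).minFac = p at hp hpd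
  have := Fact.mk hp
  obtain ⟨x, hx⟩ := exists_prime_orderOf_dvd_card' p hpd
  have hx1 : x ≠ 1 := ne_one_of_orderOf hp.one_lt hx
  have hsp : s K p = n := by rw [← hx]; exact hs x hx1
  have h1 : p ∣ 1 + n := hsp ▸ frob_p p hp hpd
  have hp2 : p ≠ 2 := by
    rintro h2
    rw [h2] at hpd
    exact (Nat.not_even_iff_odd.2 hodd) (even_iff_two_dvd.2 hpd)
  have hb : ∀ g : K, orderOf g ≠ p ^ 2 := by
    intro g hg
    have hd : p ^ 2 ∣ Nat.card K := hg ▸ orderOf_dvd_natCard g
    have hg1 : g ≠ 1 := ne_one_of_orderOf (Nat.one_lt_pow (by norm_num) hp.one_lt) hg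
    have hs2 : s K (p ^ 2) = n := by rw [← hg]; exact hs g hg1
    have h2 := frob_p2 (G := K) p hp hd
    rw [hsp, hs2] at h2
    have h3 : p ∣ 1 + n + n := dvd_trans (dvd_pow_self p two_ne_zero) h2
    have h4 : p ∣ n := (Nat.dvd_add_right h1).1 h3
    have h5 : p ∣ 1 := (Nat.dvd_add_left h4).1 h1
    exact hp.one_lt.ne' (Nat.dvd_one.1 h5)
  have hc : ∀ q : ℕ, q.Prime → q ∣ Nat.card K → q = p := by
    intro q hq hqd
    by_contra hne
    have := Fact.mk hq
    obtain ⟨y, hy⟩ := exists_prime_orderOf_dvd_card' q hqd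
    have hy1 : y ≠ 1 := ne_one_of_orderOf hq.one_lt hy
    have hsq : s K q = n := by rw [← hy]; exact hs y hy1
    have hcop : Nat.Coprime p q := (Nat.coprime_primes hp hq).2 (Ne.symm hne)
    have hpq : p * q ∣ Nat.card K := hcop.mul_dvd_of_dvd_of_dvd hpd hqd
    have h2 := frob_pq (G := K) p q hp hq (Ne.symm hne) hpq
    rw [hsp, hsq] at h2
    have h3 : p ∣ 1 + n + n + s K (p * q) := dvd_trans (dvd_mul_right p q) h2
    by_cases hex : ∃ g : K, orderOf g = p * q
    · obtain ⟨g, hg⟩ := hex
      have hg1 : g ≠ 1 := ne_one_of_orderOf (by nlinarith [hp.one_lt, hq.one_lt]) hg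
      have h4 : s K (p * q) = n := by rw [← hg]; exact hs g hg1
      rw [h4] at h3
      have h5 : p ∣ 2 := by
        have h6 : p ∣ 3 * (1 + n) := dvd_mul_of_dvd_right h1 3
        have h7 : 3 * (1 + n) = (1 + n + n + n) + 2 := by ring
        rw [h7] at h6
        exact (Nat.dvd_add_right h3).1 h6
      have h8 := Nat.le_of_dvd two_pos h5
      have h9 := hp.two_le
      omega
    · push Not at hex
      rw [s_eq_zero hex, add_zero] at h3
      have h4 : p ∣ 2 * (1 + n) := dvd_mul_of_dvd_right h1 2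
      have h5 : 2 * (1 + n) = (1 + n + n) + 1 := by ring
      rw [h5] at h4
      have h6 : p ∣ 1 := (Nat.dvd_add_right h3).1 h4
      exact hp.one_lt.ne' (Nat.dvd_one.1 h6)
  have hpow : Nat.card K = p ^ (Nat.card K).primeFactorsList.length :=
    Nat.eq_prime_pow_of_unique_prime_dvd (by omega) (fun {d} hd hdd => hc d hd hdd)
  have hPG : IsPGroup p K := IsPGroup.of_card hpow
  have hexp : ∀ g : K, g ^ p = 1 := by
    intro g
    obtain ⟨j, hj⟩ := (IsPGroup.iff_orderOf.1 hPG) g
    by_cases hj2 : 2 ≤ j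
    · exfalso
      apply hb (g ^ (p ^ (j - 2)))
      rw [orderOf_pow_of_dvd (pow_pos hp.pos _).ne' (by rw [hj]; exact pow_dvd_pow p (by omega)), hj,
        Nat.pow_div (by omega) hp.pos]
      congr 1; omega
    · rw [← orderOf_dvd_iff_pow_eq_one, hj]
      have : j ≤ 1 := by omega
      calc p ^ j ∣ p ^ 1 := pow_dvd_pow p this
        _ = p := pow_one p
  refine ⟨p, hp, hp2, hPG, ?_⟩
  have h2 : Monoid.exponent K ∣ p := Monoid.exponent_dvd_of_forall_pow_eq_one hexp
  rcases (Nat.dvd_prime hp).1 h2 with h3 | h3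
  · exfalso
    rw [Monoid.exp_eq_one_iff] at h3
    exact not_subsingleton K h3
  · exact h3

section cases

variable {G : Type u} [Group G] [Finite G]

theorem case_B1 (n : ℕ) (hn : n ≠ 1) (z : G) (hz : orderOf z = 2) (hs2 : s G 2 = n)
    (H4 : ∀ g : G, 3 ≤ orderOf g → 2 ∣ n) :
    ∃ p : ℕ, p.Prime ∧ IsPGroup p G ∧ 3 ≤ Nat.card G ∧ Monoid.exponent G = p := by
  have h2d : 2 ∣ Nat.card G := hz ▸ orderOf_dvd_natCard z
  have h1 : 2 ∣ 1 + n := hs2 ▸ frob_p (G := G) 2 Nat.prime_two h2d
  have hall : ∀ g : G, orderOf g ≤ 2 := by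
    intro g
    by_contra hg
    have := H4 g (by omega)
    omega
  have hsq : ∀ g : G, g ^ 2 = 1 := by
    intro g
    rw [← orderOf_dvd_iff_pow_eq_one]
    have h0 := orderOf_pos g
    have h2 := hall g
    interval_cases (orderOf g) <;> simp
  refine ⟨2, Nat.prime_two, ?_, ?_, ?_⟩
  · intro g
    exact ⟨1, by rw [pow_one]; exact hsq g⟩
  · have h3 := card_pow_eq_sum (G := G) 2 {1, 2} (by
      intro d
      rw [Nat.dvd_prime Nat.prime_two]
      simp)
    rw [Finset.sum_pair (by norm_num), s_one, hs2] at h3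
    have h4 : Nat.card {g : G // g ^ 2 = 1} = Nat.card G :=
      Nat.card_congr (Equiv.subtypeUnivEquiv hsq)
    rw [h4] at h3
    have h5 : 0 < n := by rw [← hs2, ← hz]; exact s_pos z
    omega
  · have h2 : Monoid.exponent G ∣ 2 := Monoid.exponent_dvd_of_forall_pow_eq_one hsq
    rcases (Nat.dvd_prime Nat.prime_two).1 h2 with h3 | h3
    · exfalso
      rw [Monoid.exp_eq_one_iff] at h3
      have : z = 1 := Subsingleton.elim _ _
      rw [this, orderOf_one] at hz
      omega
    · exact h3

theorem case_B2a (n : ℕ) (z : G) (hz : orderOf z = 2) (huniq : ∀ g : G, orderOf g = 2 → g = z)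
    (hzc : ∀ g : G, g * z = z * g) (H3 : ∀ g : G, 3 ≤ orderOf g → s G (orderOf g) = n)
    (hs2 : s G 2 = 1) (a : G) (ha : orderOf a = 4) :
    Nonempty (G ≃* QuaternionGroup 2) ∨ (IsCyclic G ∧ Nat.card G = 4) := by
  have hs4 : s G 4 = n := by rw [← ha]; exact H3 a (by omega)
  have h4d : 4 ∣ Nat.card G := ha ▸ orderOf_dvd_natCard a
  have hf4 : 4 ∣ 1 + 1 + n := by
    have := frob_4 (G := G) h4d
    rwa [hs2, hs4] at this
  -- G is a 2-group
  have h2grp : ∀ p : ℕ, p.Prime → p ∣ Nat.card G → p = 2 := by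
    intro p hp hpd
    by_contra hp2
    have := Fact.mk hp
    obtain ⟨x, hx⟩ := exists_prime_orderOf_dvd_card' p hpd
    have hp3 : 3 ≤ p := by have := hp.two_le; omega
    have hsp : s G p = n := by rw [← hx]; exact H3 x (by omega)
    have h1 : p ∣ 1 + n := hsp ▸ frob_p (G := G) p hp hpd
    have hcop2 : Nat.Coprime 2 p := (Nat.coprime_primes Nat.prime_two hp).2 (Ne.symm hp2)
    have hzx : orderOf (z * x) = 2 * p := by
      have hc : Commute z x := (hzc x).symm
      rw [hc.orderOf_mul_eq_mul_orderOf_of_coprime (by rw [hz, hx]; exact hcop2), hz, hx]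
    have hs2p : s G (2 * p) = n := by rw [← hzx]; exact H3 _ (by rw [hzx]; omega)
    have hcop4 : Nat.Coprime 4 p := by
      have : (4 : ℕ) = 2 ^ 2 := by norm_num
      rw [this]; exact Nat.Coprime.pow_left 2 hcop2
    have h4p : 4 * p ∣ Nat.card G := hcop4.mul_dvd_of_dvd_of_dvd h4d hpd
    have hf := frob_4p (G := G) p hp hp2 h4p
    rw [hs2, hs4, hsp, hs2p] at hf
    have h3 : p ∣ 1 + 1 + n + n + n + s G (4 * p) := dvd_trans (dvd_mul_left p 4) hf
    by_cases hex : ∃ g : G, orderOf g = 4 * p
    · obtain ⟨g, hg⟩ := hex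
      have h4 : s G (4 * p) = n := by rw [← hg]; exact H3 g (by rw [hg]; omega)
      rw [h4] at h3
      have h5 : p ∣ 2 := by
        have h6 : p ∣ 4 * (1 + n) := dvd_mul_of_dvd_right h1 4
        have h7 : 4 * (1 + n) = (1 + 1 + n + n + n + n) + 2 := by ring
        rw [h7] at h6
        exact (Nat.dvd_add_right h3).1 h6
      have h8 := Nat.le_of_dvd two_pos h5
      omega
    · push Not at hex
      rw [s_eq_zero hex, add_zero] at h3
      have h4 : p ∣ 3 * (1 + n) := dvd_mul_of_dvd_right h1 3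
      have h5 : 3 * (1 + n) = (1 + 1 + n + n + n) + 1 := by ring
      rw [h5] at h4
      have h6 : p ∣ 1 := (Nat.dvd_add_right h3).1 h4
      exact hp.one_lt.ne' (Nat.dvd_one.1 h6)
  have hcard0 : Nat.card G ≠ 0 := Nat.card_pos.ne'
  have hpow : Nat.card G = 2 ^ (Nat.card G).primeFactorsList.length :=
    Nat.eq_prime_pow_of_unique_prime_dvd hcard0 (fun {d} hd hdd => h2grp d hd hdd)
  have hPG : IsPGroup 2 G := IsPGroup.of_card hpow
  have hno8 : ∀ g : G, orderOf g ≠ 8 := by
    intro g hg
    have h8d : 8 ∣ Nat.card G := hg ▸ orderOf_dvd_natCard g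
    have hs8 : s G 8 = n := by rw [← hg]; exact H3 g (by omega)
    have := frob_8 (G := G) h8d
    rw [hs2, hs4, hs8] at this
    omega
  have hexp : ∀ g : G, g ^ 4 = 1 := by
    intro g
    obtain ⟨j, hj⟩ := (IsPGroup.iff_orderOf.1 hPG) g
    by_cases hj3 : 3 ≤ j
    · exfalso
      apply hno8 (g ^ (2 ^ (j - 3)))
      rw [orderOf_pow_of_dvd (pow_pos two_pos _).ne' (by rw [hj]; exact pow_dvd_pow 2 (by omega)), hj,
        Nat.pow_div (by omega) two_pos]
      have : j - (j - 3) = 3 := by omega
      rw [this]; norm_num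
    · rw [← orderOf_dvd_iff_pow_eq_one, hj]
      have : j ≤ 2 := by omega
      calc 2 ^ j ∣ 2 ^ 2 := pow_dvd_pow 2 this
        _ = 4 := by norm_num
  have hsub : ∀ H K : Subgroup G, Nat.card H = 2 → Nat.card K = 2 → H = K := by
    have key : ∀ H : Subgroup G, Nat.card H = 2 → H = Subgroup.zpowers z := by
      intro H hH
      have hnt : Nontrivial H := by
        rw [← Finite.one_lt_card_iff_nontrivial, hH]; norm_num
      obtain ⟨g, hg⟩ := exists_ne (1 : H)
      have hg2 : orderOf (g : G) = 2 := by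
        have h1 : orderOf g ∣ 2 := hH ▸ orderOf_dvd_natCard g
        rw [Subgroup.orderOf_coe]
        rcases (Nat.dvd_prime Nat.prime_two).1 h1 with h2 | h2
        · exact absurd (orderOf_eq_one_iff.1 h2) hg
        · exact h2
      have hgz : (g : G) = z := huniq _ hg2
      symm
      apply Subgroup.eq_of_le_of_card_ge
      · rw [Subgroup.zpowers_le, ← hgz]; exact g.2
      · rw [hH, Nat.card_zpowers, hz]
    intro H K hH hK
    rw [key H hH, key K hK]
  have := Fact.mk Nat.prime_two
  rcases Cfsg.Agent.S0016.result 2 hPG hsub with hcyc | ⟨_, k, ⟨e⟩⟩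
  · right
    refine ⟨hcyc, ?_⟩
    have h1 := IsCyclic.exponent_eq_card (α := G)
    have h2 : Monoid.exponent G ∣ 4 := Monoid.exponent_dvd_of_forall_pow_eq_one hexp
    have h3 : 4 ∣ Monoid.exponent G := ha ▸ Monoid.order_dvd_exponent a
    rw [← h1]
    exact Nat.dvd_antisymm h2 h3
  · -- quaternion of order 4 * 2^k, with an element of order 2 * 2^k
    have h1 : orderOf (e.symm (QuaternionGroup.a 1)) = 2 * 2 ^ k := by
      rw [MulEquiv.orderOf_eq, QuaternionGroup.orderOf_a_one]
    have h2 : 2 * 2 ^ k ∣ 4 := by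
      rw [← h1, orderOf_dvd_iff_pow_eq_one]; exact hexp _
    have hk : k ≤ 1 := by
      by_contra hk
      have : 2 ^ 2 ≤ 2 ^ k := Nat.pow_le_pow_right two_pos (by omega)
      have := Nat.le_of_dvd (by norm_num) h2
      omega
    interval_cases k
    · right
      have hc4 : Nat.card G = 4 := by
        rw [Nat.card_congr e.toEquiv, Nat.card_eq_fintype_card]
        have : NeZero (2 ^ 0) := ⟨by norm_num⟩
        rw [QuaternionGroup.card]; norm_num
      exact ⟨isCyclic_of_orderOf_eq_card a (by rw [ha, hc4]), hc4⟩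
    · left
      exact ⟨e⟩

theorem sylow_eq (z : G) (hz : orderOf z = 2) (huniq : ∀ g : G, orderOf g = 2 → g = z)
    (hno4 : ∀ g : G, orderOf g ≠ 4) (P : Sylow 2 G) : (P : Subgroup G) = Subgroup.zpowers z := by
  have := Fact.mk Nat.prime_two
  have h2d : 2 ∣ Nat.card G := hz ▸ orderOf_dvd_natCard z
  have hle : (P : Subgroup G) ≤ Subgroup.zpowers z := by
    intro g hg
    obtain ⟨j, hj⟩ := (IsPGroup.iff_orderOf.1 P.2) ⟨g, hg⟩
    rw [Subgroup.orderOf_mk] at hj
    by_cases hj2 : 2 ≤ j
    · exfalso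
      apply hno4 (g ^ (2 ^ (j - 2)))
      rw [orderOf_pow_of_dvd (pow_pos two_pos _).ne' (by rw [hj]; exact pow_dvd_pow 2 (by omega)), hj,
        Nat.pow_div (by omega) two_pos]
      have : j - (j - 2) = 2 := by omega
      rw [this]; norm_num
    · have hj1 : j = 0 ∨ j = 1 := by omega
      rcases hj1 with rfl | rfl
      · rw [pow_zero, orderOf_eq_one_iff] at hj
        rw [hj]; exact Subgroup.one_mem _
      · rw [pow_one] at hj
        rw [huniq g hj]; exact Subgroup.mem_zpowers z
  have hnt : Nontrivial P := by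
    rw [← Finite.one_lt_card_iff_nontrivial, P.card_eq_multiplicity]
    exact Nat.one_lt_pow (Nat.prime_two.factorization_pos_of_dvd Nat.card_pos.ne' h2d).ne'
      (by norm_num)
  obtain ⟨g, hg⟩ := exists_ne (1 : P)
  have hgz : (g : G) ∈ Subgroup.zpowers z := hle g.2
  apply le_antisymm hle
  rw [Subgroup.zpowers_le]
  -- g is a nonidentity element of zpowers z = {1, z}
  have hg2 : orderOf (g : G) = 2 := by
    have h1 : orderOf (g : G) ∣ 2 := by
      have := orderOf_dvd_natCard (⟨(g : G), hgz⟩ : Subgroup.zpowers z)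
      rw [Nat.card_zpowers, hz, Subgroup.orderOf_mk] at this
      exact this
    rcases (Nat.dvd_prime Nat.prime_two).1 h1 with h2 | h2
    · exfalso
      apply hg
      apply Subtype.ext
      exact orderOf_eq_one_iff.1 h2
    · exact h2
  rw [← huniq _ hg2]
  exact g.2

theorem case_B2b (n : ℕ) (z : G) (hz : orderOf z = 2) (huniq : ∀ g : G, orderOf g = 2 → g = z)
    (hzc : ∀ g : G, g * z = z * g) (H3 : ∀ g : G, 3 ≤ orderOf g → s G (orderOf g) = n)
    (hno4 : ∀ g : G, orderOf g ≠ 4) (g₀ : G) (hg₀ : 3 ≤ orderOf g₀) :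
    ∃ (p : ℕ) (P : Type) (_ : Group P) (_ : Finite P), p.Prime ∧ p ≠ 2 ∧ IsPGroup p P ∧
      Monoid.exponent P = p ∧ Nonempty (G ≃* Multiplicative (ZMod 2) × P) := by
  have := Fact.mk Nat.prime_two
  have hSyl := sylow_eq z hz huniq hno4
  have hcen : ∀ P : Sylow 2 G, Subgroup.normalizer ((P : Subgroup G) : Set G) ≤
      Subgroup.centralizer ((P : Subgroup G) : Set G) := by
    intro P g _
    rw [hSyl P, Subgroup.mem_centralizer_iff]
    rintro h ⟨k, rfl⟩
    exact ((Commute.zpow_left (show Commute z g from (hzc g).symm) k).eq)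
  obtain ⟨P', K, hKn, hKP⟩ :=
    Cfsg.Agent.Helper1.hasNormalPComplement_of_normalizer_le_centralizer (default : Sylow 2 G)
      (hcen _)
  rw [hSyl P'] at hKP
  have hKidx : K.index = 2 := by
    rw [hKP.symm.index_eq_card, Nat.card_zpowers, hz]
  have hcardmul : Nat.card K * 2 = Nat.card G := by
    have := hKP.card_mul_card
    rwa [Nat.card_zpowers, hz] at this
  -- K has odd order
  have hKodd : Odd (Nat.card K) := by
    rw [← Nat.not_even_iff_odd, even_iff_two_dvd]
    intro h2
    obtain ⟨x, hx⟩ := exists_prime_orderOf_dvd_card' (G := K) 2 h2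
    have hx2 : orderOf (x : G) = 2 := by rw [Subgroup.orderOf_coe]; exact hx
    have hxz : (x : G) = z := huniq _ hx2
    have hmem : z ∈ K ⊓ Subgroup.zpowers z := ⟨hxz ▸ x.2, Subgroup.mem_zpowers z⟩
    rw [hKP.disjoint.eq_bot, Subgroup.mem_bot] at hmem
    rw [hmem, orderOf_one] at hz
    omega
  have hKnt : Nontrivial K := by
    rw [← Finite.one_lt_card_iff_nontrivial]
    by_contra hlt
    have hpos : 0 < Nat.card K := Nat.card_pos
    have h1 : Nat.card K = 1 := by omega
    rw [h1] at hcardmul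
    have h2 := orderOf_dvd_natCard g₀
    rw [← hcardmul] at h2
    have := Nat.le_of_dvd (by norm_num) h2
    omega
  -- elements of odd order lie in K
  have hmemK : ∀ x : G, Odd (orderOf x) → x ∈ K := by
    intro x hx
    have h1 : x ^ 2 ∈ K := by
      have := Subgroup.pow_index_mem K x
      rwa [hKidx] at this
    obtain ⟨j, hj⟩ := hx
    have h2 : x = (x ^ 2) ^ (j + 1) := by
      rw [← pow_mul]
      have : 2 * (j + 1) = orderOf x + 1 := by omega
      rw [this, pow_succ, pow_orderOf_eq_one, one_mul]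
    rw [h2]
    exact Subgroup.pow_mem _ h1 _
  have hsK : ∀ g : K, g ≠ 1 → s K (orderOf g) = n := by
    intro g hg
    have hodd : Odd (orderOf g) := by
      have h1 : orderOf g ∣ Nat.card K := orderOf_dvd_natCard g
      exact Odd.of_dvd_nat hKodd h1
    have h3 : 3 ≤ orderOf g := by
      have h0 := orderOf_pos g
      have h1 : orderOf g ≠ 1 := fun h => hg (orderOf_eq_one_iff.1 h)
      obtain ⟨j, hj⟩ := hodd
      omega
    have h4 : s G (orderOf (g : G)) = n := H3 _ (by rw [Subgroup.orderOf_coe]; exact h3)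
    rw [Subgroup.orderOf_coe] at h4
    rw [← h4]
    unfold s
    apply Nat.card_congr
    refine ⟨fun x => ⟨x.1.1, by rw [Subgroup.orderOf_coe]; exact x.2⟩,
      fun x => ⟨⟨x.1, hmemK x.1 (by rw [x.2]; exact hodd)⟩, by
        rw [← Subgroup.orderOf_coe]; exact x.2⟩,
      fun x => rfl, fun x => rfl⟩
  obtain ⟨p, hp, hp2, hPG, hexp⟩ := odd_type K n hKodd hsK
  -- transport K to a type in universe 0
  let T : Type := {i : ℕ // i < Nat.card K}
  let e : T ≃ K := (Fin.equivSubtype.symm).trans (Finite.equivFin K).symm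
  let _ : Group T := Equiv.group e
  have eT : T ≃* K := Equiv.mulEquiv e
  have hTfin : Finite T := Finite.of_equiv _ e.symm
  refine ⟨p, T, inferInstance, hTfin, hp, hp2, hPG.of_equiv eT.symm, ?_, ?_⟩
  · rw [Monoid.exponent_eq_of_mulEquiv eT]; exact hexp
  · -- the isomorphism
    have comm : ∀ (a : Subgroup.zpowers z) (k : K),
        Commute ((Subgroup.zpowers z).subtype a) (K.subtype k) := by
      rintro ⟨_, j, rfl⟩ k
      exact (Commute.zpow_left (show Commute z (k : G) from (hzc k).symm) j)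
    let ψ := MonoidHom.noncommCoprod (Subgroup.zpowers z).subtype K.subtype comm
    have hinj : Function.Injective ψ := by
      rw [MonoidHom.noncommCoprod_injective]
      refine ⟨Subgroup.subtype_injective _, Subgroup.subtype_injective _, ?_⟩
      rw [Subgroup.range_subtype, Subgroup.range_subtype]
      exact hKP.symm.disjoint
    have hsurj : Function.Surjective ψ := by
      rw [← MonoidHom.range_eq_top, MonoidHom.noncommCoprod_range, Subgroup.range_subtype,
        Subgroup.range_subtype]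
      exact hKP.symm.sup_eq_top
    let e0 : Subgroup.zpowers z × K ≃* G := MulEquiv.ofBijective ψ ⟨hinj, hsurj⟩
    have eZ : Subgroup.zpowers z ≃* Multiplicative (ZMod 2) :=
      mulEquivOfPrimeCardEq (p := 2) (by rw [Nat.card_zpowers, hz]) (by
        rw [Nat.card_eq_fintype_card]; rfl)
    exact ⟨e0.symm.trans (MulEquiv.prodCongr eZ eT.symm)⟩

end cases

/-- Let G be a finite group such that the numbers of elements of each order that occurs in G (the numbers #{g : o(g) = m}, m ranging over the element orders of G) take exactly two values, 1 and some n ≠ 1. Then either G is a p-group of exponent p and order at least 3 for some prime p, or G is the quaternion group of order 8, or G is cyclic of order 4, or G ≅ Z₂ × P for a p-group P of exponent p with p an odd prime. -/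
theorem result {G : Type*} [Group G] [Finite G] (n : ℕ) (hn : n ≠ 1) (h : ((fun m : ℕ => Nat.card {g : G // orderOf g = m}) '' Set.range (orderOf : G → ℕ)) = {1, n}) :
    (∃ p : ℕ, p.Prime ∧ IsPGroup p G ∧ 3 ≤ Nat.card G ∧ Monoid.exponent G = p) ∨
      Nonempty (G ≃* QuaternionGroup 2) ∨ (IsCyclic G ∧ Nat.card G = 4) ∨
      (∃ (p : ℕ) (P : Type) (_ : Group P) (_ : Finite P), p.Prime ∧ p ≠ 2 ∧ IsPGroup p P ∧ Monoid.exponent P = p ∧
        Nonempty (G ≃* Multiplicative (ZMod 2) × P)) := by
  have H1 : ∀ g : G, s G (orderOf g) = 1 ∨ s G (orderOf g) = n := by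
    intro g
    have h1 : s G (orderOf g) ∈ ((fun m : ℕ => Nat.card {g : G // orderOf g = m}) ''
        Set.range (orderOf : G → ℕ)) := ⟨orderOf g, ⟨g, rfl⟩, rfl⟩
    rw [h] at h1
    simpa using h1
  have H2 : ∃ g : G, s G (orderOf g) = n := by
    have h1 : n ∈ ({1, n} : Set ℕ) := by simp
    rw [← h] at h1
    obtain ⟨m, ⟨g, rfl⟩, hm⟩ := h1
    exact ⟨g, hm⟩
  have H3 : ∀ g : G, 3 ≤ orderOf g → s G (orderOf g) = n := by
    intro g hg
    rcases H1 g with h1 | h1
    · exfalso
      have h2 := totient_dvd_s (G := G) (orderOf g)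
      rw [h1, Nat.dvd_one, Nat.totient_eq_one_iff] at h2
      omega
    · exact h1
  have H4 : ∀ g : G, 3 ≤ orderOf g → 2 ∣ n := by
    intro g hg
    have h1 := totient_dvd_s (G := G) (orderOf g)
    rw [H3 g hg] at h1
    exact dvd_trans (even_iff_two_dvd.1 (Nat.totient_even (by omega))) h1
  rcases Nat.even_or_odd (Nat.card G) with hev | hodd
  · -- even order
    have h2d : 2 ∣ Nat.card G := even_iff_two_dvd.1 hev
    have := Fact.mk Nat.prime_two
    obtain ⟨z, hz⟩ := exists_prime_orderOf_dvd_card' (G := G) 2 h2d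
    rcases H1 z with hs2 | hs2 <;> rw [hz] at hs2
    · -- unique involution
      have huniq : ∀ g : G, orderOf g = 2 → g = z := by
        intro g hg
        have hsub := (Nat.card_eq_one_iff_unique.1 hs2).1
        exact congrArg Subtype.val (hsub.elim ⟨g, hg⟩ ⟨z, hz⟩)
      have hzc : ∀ g : G, g * z = z * g := by
        intro g
        have h1 : orderOf (g * z * g⁻¹) = 2 := by
          have := MulEquiv.orderOf_eq (MulAut.conj g) z
          rw [MulAut.conj_apply] at this
          rw [this, hz]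
        have h2 := huniq _ h1
        calc g * z = (g * z * g⁻¹) * g := by group
          _ = z * g := by rw [h2]
      obtain ⟨g₀, hg₀⟩ := H2
      have hg₀3 : 3 ≤ orderOf g₀ := by
        have h0 := orderOf_pos g₀
        have h1 : orderOf g₀ ≠ 1 := by
          intro h1
          rw [h1, s_one] at hg₀
          exact hn hg₀.symm
        have h2 : orderOf g₀ ≠ 2 := by
          intro h2
          rw [h2, hs2] at hg₀
          exact hn hg₀.symm
        omega
      by_cases h4 : ∃ a : G, orderOf a = 4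
      · obtain ⟨a, ha⟩ := h4
        rcases case_B2a n z hz huniq hzc H3 hs2 a ha with h5 | h5
        · exact Or.inr (Or.inl h5)
        · exact Or.inr (Or.inr (Or.inl h5))
      · push Not at h4
        exact Or.inr (Or.inr (Or.inr (case_B2b n z hz huniq hzc H3 h4 g₀ hg₀3)))
    · exact Or.inl (case_B1 n hn z hz hs2 H4)
  · -- odd order
    left
    have hnt : Nontrivial G := by
      by_contra hnt
      rw [not_nontrivial_iff_subsingleton] at hnt
      obtain ⟨g, hg⟩ := H2
      have h1 : g = 1 := Subsingleton.elim _ _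
      rw [h1, orderOf_one, s_one] at hg
      exact hn hg.symm
    have hs : ∀ g : G, g ≠ 1 → s G (orderOf g) = n := by
      intro g hg
      apply H3
      have h0 : 0 < orderOf g := orderOf_pos g
      have h1 : orderOf g ≠ 1 := fun h => hg (orderOf_eq_one_iff.1 h)
      have h2 : orderOf g ≠ 2 := by
        intro h2
        have h3 := orderOf_dvd_natCard g
        rw [h2] at h3
        exact (Nat.not_even_iff_odd.2 hodd) (even_iff_two_dvd.2 h3)
      omega
    obtain ⟨p, hp, _, hPG, hexp⟩ := odd_type G n hodd hs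
    refine ⟨p, hp, hPG, ?_, hexp⟩
    have h1 := Finite.one_lt_card (α := G)
    obtain ⟨k, hk⟩ := hodd
    omega


end Cfsg.Agent.S3995
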