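import Mathlib
import Cfsg.Statements.S3739
import Cfsg.Agent.Helper1.Coprime
import Cfsg.Agent.Helper1.FrattiniAct
import Cfsg.Agent.Helper4.PCore
import Cfsg.Agent.Helper6.FaithfulIrr
import Cfsg.Agent.Helper3.NineAct
import Cfsg.Agent.S3738
import Cfsg.Agent.S4054
-- import your own Cfsg.Agent.* helpers here

set_option autoImplicit false
open Cfsg

namespace Cfsg.Agent.S3739
open Cfsg
universe u

variable {G : Type u} [Group G] [Finite G]

/-- Fixed points of a `p`-element acting by conjugation on a normalized subgroup, modulo `p`. -/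
theorem card_modEq_centralizer (p : ℕ) [Fact p.Prime] (x : G)
    (hx : IsPGroup p (Subgroup.zpowers x)) (U : Subgroup G)
    (hxU : x ∈ Subgroup.normalizer (U : Set G)) :
    Nat.card U ≡ Nat.card ↥(U ⊓ Subgroup.centralizer {x}) [MOD p] := by
  classical
  have hZU : Subgroup.zpowers x ≤ Subgroup.normalizer (U : Set G) := (Subgroup.zpowers_le).mpr hxU
  letI act : MulAction (Subgroup.zpowers x) U :=
    { smul := fun z u => ⟨(z : G) * (u : G) * (z : G)⁻¹,
        (Subgroup.mem_normalizer_iff.mp (hZU z.2) _).mp u.2⟩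
      one_smul := fun u => Subtype.ext (by
        change ((1 : Subgroup.zpowers x) : G) * (u : G) * ((1 : Subgroup.zpowers x) : G)⁻¹ = u
        simp)
      mul_smul := fun b b' u => Subtype.ext (by
        change ((b * b' : Subgroup.zpowers x) : G) * (u : G) * ((b * b' : Subgroup.zpowers x) : G)⁻¹ =
          (b : G) * ((b' : G) * (u : G) * (b' : G)⁻¹) * (b : G)⁻¹
        rw [Subgroup.coe_mul]
        group) }
  have hsmul : ∀ (z : Subgroup.zpowers x) (u : U), ((z • u : U) : G) = (z : G) * (u : G) * (z : G)⁻¹ :=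
    fun z u => rfl
  have h1 := hx.card_modEq_card_fixedPoints U
  have h2 : Nat.card (MulAction.fixedPoints (Subgroup.zpowers x) U) =
      Nat.card ↥(U ⊓ Subgroup.centralizer {x}) := by
    apply Nat.card_congr
    refine
      { toFun := fun u => ⟨(u : U), (u : U).2, ?_⟩
        invFun := fun v => ⟨⟨(v : G), v.2.1⟩, ?_⟩
        left_inv := fun u => rfl
        right_inv := fun v => rfl }
    · change ((u : U) : G) ∈ Subgroup.centralizer {x}
      rw [Subgroup.mem_centralizer_singleton_iff]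
      have h3 := u.2 ⟨x, Subgroup.mem_zpowers x⟩
      have h4 : x * ((u : U) : G) * x⁻¹ = ((u : U) : G) := by
        have := congrArg (fun t : U => (t : G)) h3
        exact this
      calc ((u : U) : G) * x = (x * ((u : U) : G) * x⁻¹) * x := by rw [h4]
        _ = x * ((u : U) : G) := by group
    · intro z
      apply Subtype.ext
      rw [hsmul]
      obtain ⟨k, hk⟩ := Subgroup.mem_zpowers_iff.mp z.2
      have hc : Commute x (v : G) := by
        have := Subgroup.mem_centralizer_singleton_iff.mp v.2.2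
        exact this.symm
      have hc2 : Commute (z : G) (v : G) := by rw [← hk]; exact hc.zpow_left k
      change (z : G) * (v : G) * (z : G)⁻¹ = (v : G)
      rw [hc2.eq, mul_inv_cancel_right]
  rw [← h2]
  exact h1

/-- An involution commuting with an elementary abelian `2`-group but outside it gives a bigger one. -/
theorem ea_extend (W : Subgroup G) (hW : Cfsg.IsElementaryAbelian 2 W) (u : G) (hu2 : u ^ 2 = 1)
    (huW : u ∉ W) (hcomm : ∀ w ∈ W, u * w = w * u) :
    ∃ E : Subgroup G, Cfsg.IsElementaryAbelian 2 E ∧ Nat.card W < Nat.card E := by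
  obtain ⟨hWc, hWe⟩ := hW
  have hzc : Subgroup.zpowers u ≤ Subgroup.centralizer (W : Set G) := by
    rw [Subgroup.zpowers_le, Subgroup.mem_centralizer_iff]
    intro w hw
    exact (hcomm w hw).symm
  refine ⟨W ⊔ Subgroup.zpowers u, ⟨⟨⟨fun ⟨a, ha⟩ ⟨b, hb⟩ => Subtype.ext ?_⟩⟩, ?_⟩, ?_⟩
  · obtain ⟨a1, ha1, a2, ha2, rfl⟩ := Cfsg.Agent.S4054.mem_sup_of_le_centralizer hzc ha
    obtain ⟨b1, hb1, b2, hb2, rfl⟩ := Cfsg.Agent.S4054.mem_sup_of_le_centralizer hzc hb
    have c1 : a1 * b1 = b1 * a1 := congrArg Subtype.val (mul_comm' (⟨a1, ha1⟩ : W) ⟨b1, hb1⟩)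
    have c2 : ∀ w ∈ W, ∀ z ∈ Subgroup.zpowers u, z * w = w * z := by
      intro w hw z hz
      exact (Subgroup.mem_centralizer_iff.mp (hzc hz) w hw).symm
    have c3 : a2 * b2 = b2 * a2 := by
      obtain ⟨i, rfl⟩ := Subgroup.mem_zpowers_iff.mp ha2
      obtain ⟨j, rfl⟩ := Subgroup.mem_zpowers_iff.mp hb2
      exact ((Commute.refl u).zpow_zpow i j).eq
    change a1 * a2 * (b1 * b2) = b1 * b2 * (a1 * a2)
    calc a1 * a2 * (b1 * b2) = a1 * (a2 * b1) * b2 := by group
      _ = a1 * (b1 * a2) * b2 := by rw [c2 b1 hb1 a2 ha2]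
      _ = (a1 * b1) * (a2 * b2) := by group
      _ = (b1 * a1) * (b2 * a2) := by rw [c1, c3]
      _ = b1 * (a1 * b2) * a2 := by group
      _ = b1 * (b2 * a1) * a2 := by rw [← c2 a1 ha1 b2 hb2]
      _ = b1 * b2 * (a1 * a2) := by group
  · intro g hg
    obtain ⟨a1, ha1, a2, ha2, rfl⟩ := Cfsg.Agent.S4054.mem_sup_of_le_centralizer hzc hg
    have c : Commute a1 a2 := (Subgroup.mem_centralizer_iff.mp (hzc ha2) a1 ha1)
    rw [c.mul_pow, hWe a1 ha1, one_mul]
    rcases Cfsg.Agent.S4054.zpowers_of_sq hu2 ha2 with h | h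
    · rw [h, one_pow]
    · rw [h, hu2]
  · have hle : W ≤ W ⊔ Subgroup.zpowers u := le_sup_left
    rcases (Subgroup.card_le_of_le hle).lt_or_eq with h | h
    · exact h
    · exfalso
      have := Subgroup.eq_of_le_of_card_ge hle h.ge
      apply huW
      rw [this]
      exact (le_sup_right : Subgroup.zpowers u ≤ _) (Subgroup.mem_zpowers u)

theorem zpowers_of_cube {y : G} (hy : y ^ 3 = 1) {z : G} (hz : z ∈ Subgroup.zpowers y) :
    z = 1 ∨ z = y ∨ z = y ^ 2 := by
  obtain ⟨k, rfl⟩ := Subgroup.mem_zpowers_iff.mp hz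
  have hk : k = 3 * (k / 3) + k % 3 := (Int.mul_ediv_add_emod k 3).symm
  have h3 : y ^ (3 : ℤ) = 1 := by
    have : y ^ ((3 : ℕ) : ℤ) = 1 := by rw [zpow_natCast]; exact hy
    exact this
  have hlt : k % 3 < 3 := Int.emod_lt_of_pos k (by norm_num)
  have hge : 0 ≤ k % 3 := Int.emod_nonneg k (by norm_num)
  have hred : y ^ k = y ^ (k % 3) := by
    conv_lhs => rw [hk, zpow_add, zpow_mul, h3, one_zpow, one_mul]
  rw [hred]
  generalize k % 3 = r at hlt hge
  interval_cases r
  · left; simp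
  · right; left; simp
  · right; right
    have : y ^ (2 : ℤ) = y ^ 2 := by
      have : y ^ ((2 : ℕ) : ℤ) = y ^ 2 := zpow_natCast y 2
      exact this
    exact this

/-- a power of prime order -/
theorem exists_pow_orderOf_eq_prime (p : ℕ) [hp : Fact p.Prime] (x : G) (hx1 : x ≠ 1)
    (hx : IsPGroup p (Subgroup.zpowers x)) : ∃ k : ℕ, orderOf (x ^ k) = p := by
  obtain ⟨m, hm⟩ := IsPGroup.iff_card.mp hx
  rw [Nat.card_zpowers] at hm
  have hm1 : 1 ≤ m := by
    by_contra h0
    have : m = 0 := by omega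
    rw [this, pow_zero, orderOf_eq_one_iff] at hm
    exact hx1 hm
  refine ⟨p ^ (m - 1), ?_⟩
  have hdvd : p ^ (m - 1) ∣ orderOf x := by
    rw [hm]; exact pow_dvd_pow p (by omega)
  rw [orderOf_pow_of_dvd (pow_pos hp.out.pos _).ne' hdvd, hm]
  have e : p ^ m = p ^ (m - 1) * p := by
    have : m = (m - 1) + 1 := by omega
    calc p ^ m = p ^ ((m - 1) + 1) := by rw [← this]
      _ = p ^ (m - 1) * p := pow_succ p (m - 1)
  rw [e, Nat.mul_div_cancel_left _ (pow_pos hp.out.pos _)]


theorem card_of_dvd_four_modEq {m : ℕ} (h4 : m ∣ 4) (h3 : m ≡ 1 [MOD 3]) : m = 1 ∨ m = 4 := by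
  have hle : m ≤ 4 := Nat.le_of_dvd (by norm_num) h4
  have hpos : 0 < m := Nat.pos_of_dvd_of_pos h4 (by norm_num)
  unfold Nat.ModEq at h3
  interval_cases m <;> simp_all


theorem card_two_of_four {m : ℕ} (h4 : m ∣ 4) (h2 : 4 ≡ m [MOD 2]) (hne : m ≠ 4) : m = 2 := by
  have hle : m ≤ 4 := Nat.le_of_dvd (by norm_num) h4
  have hpos : 0 < m := Nat.pos_of_dvd_of_pos h4 (by norm_num)
  unfold Nat.ModEq at h2
  interval_cases m <;> simp_all

theorem card_two_of_two {m : ℕ} (h2 : m ∣ 2) (h3 : 2 ≡ m [MOD 3]) : m = 2 := by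
  have hle : m ≤ 2 := Nat.le_of_dvd (by norm_num) h2
  have hpos : 0 < m := Nat.pos_of_dvd_of_pos h2 (by norm_num)
  unfold Nat.ModEq at h3
  interval_cases m <;> simp_all

/-- an element of order six whose involution is "maximal" has its `3`-part fixing a point of `W`. -/
theorem exists_fixed_of_six (W : Subgroup G) [hWn : W.Normal] (hWcard : Nat.card W = 4)
    (s t : G) (hso : orderOf s = 3) (hto : orderOf t = 2) (hst : Commute s t)
    (hmaxt : (∀ w ∈ W, t * w = w * t) → t ∈ W) :
    ∃ w ∈ W, w ≠ 1 ∧ w ∈ Subgroup.centralizer {s} := by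
  classical
  haveI : Fact (Nat.Prime 2) := ⟨Nat.prime_two⟩
  haveI : Fact (Nat.Prime 3) := ⟨Nat.prime_three⟩
  have ht1 : t ≠ 1 := by
    intro h; rw [h, orderOf_one] at hto; omega
  have hs3p : IsPGroup 3 (Subgroup.zpowers s) := by
    apply IsPGroup.of_card (n := 1)
    rw [Nat.card_zpowers, hso, pow_one]
  have ht2p : IsPGroup 2 (Subgroup.zpowers t) := by
    apply IsPGroup.of_card (n := 1)
    rw [Nat.card_zpowers, hto, pow_one]
  have hnormW : ∀ x : G, x ∈ Subgroup.normalizer (W : Set G) := by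
    intro x
    rw [Subgroup.normalizer_eq_top_iff.mpr hWn]; exact Subgroup.mem_top _
  by_cases htW : t ∈ W
  · refine ⟨t, htW, ht1, ?_⟩
    rw [Subgroup.mem_centralizer_singleton_iff]
    exact hst.eq.symm
  · have h1 := card_modEq_centralizer 2 t ht2p W (hnormW t)
    rw [hWcard] at h1
    set C₂ := W ⊓ Subgroup.centralizer {t} with hC₂
    have hdvd : Nat.card C₂ ∣ 4 := by
      rw [← hWcard]; exact Subgroup.card_dvd_of_le inf_le_left
    have hC₂card : Nat.card C₂ = 2 := by
      refine card_two_of_four hdvd h1 ?_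
      intro h4
      have hCW : C₂ = W :=
        Subgroup.eq_of_le_of_card_ge (inf_le_left : C₂ ≤ W) (by rw [h4, hWcard])
      apply htW
      apply hmaxt
      intro w hw
      have hwC : w ∈ C₂ := by rw [hCW]; exact hw
      exact (Subgroup.mem_centralizer_singleton_iff.mp hwC.2).symm
    have hsC₂ : s ∈ Subgroup.normalizer (C₂ : Set G) := by
      have h2 : Subgroup.zpowers s ≤ Subgroup.normalizer (W : Set G) :=
        (Subgroup.zpowers_le).mpr (hnormW s)
      have h3 : Subgroup.zpowers s ≤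
          Subgroup.normalizer ((Subgroup.centralizer {t} : Subgroup G) : Set G) := by
        refine le_trans ?_ Subgroup.le_normalizer
        rw [Subgroup.zpowers_le, Subgroup.mem_centralizer_singleton_iff]
        exact hst.eq
      exact Cfsg.Agent.Helper1.le_normalizer_inf h2 h3 (Subgroup.mem_zpowers s)
    have h4 := card_modEq_centralizer 3 s hs3p C₂ hsC₂
    rw [hC₂card] at h4
    have hdvd2 : Nat.card ↥(C₂ ⊓ Subgroup.centralizer {s}) ∣ 2 := by
      rw [← hC₂card]; exact Subgroup.card_dvd_of_le inf_le_left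
    have hcard2 : Nat.card ↥(C₂ ⊓ Subgroup.centralizer {s}) = 2 := card_two_of_two hdvd2 h4
    have hnt : (C₂ ⊓ Subgroup.centralizer {s}) ≠ ⊥ := by
      intro h0
      rw [h0, Subgroup.card_bot] at hcard2
      omega
    obtain ⟨w, hw, hw1⟩ : ∃ w ∈ C₂ ⊓ Subgroup.centralizer {s}, w ≠ 1 := by
      by_contra hall
      push Not at hall
      apply hnt
      rw [eq_bot_iff]
      intro z hz
      exact Subgroup.mem_bot.mpr (hall z hz)
    exact ⟨w, hw.1.1, hw1, hw.2⟩

theorem final (Q W : Subgroup G) [hQn : Q.Normal] [hWn : W.Normal] (hQp : IsPGroup 2 Q)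
    (hchar : Subgroup.centralizer (Q : Set G) ≤ Q) (hW1 : W ≠ ⊥)
    (d : G) (hd1 : d ≠ 1) (hd3 : d ^ 3 = 1) (hfpf : W ⊓ Subgroup.centralizer {d} = ⊥)
    (s : G) (hso : orderOf s = 3) (hsW : W ≤ Subgroup.centralizer {s})
    (hcentW : ∀ x : G, IsPGroup 3 (Subgroup.zpowers x) →
      (W ⊓ Subgroup.centralizer {x} = ⊥ ∨ W ≤ Subgroup.centralizer {x}))
    (hfpfQ : ∀ x : G, W ⊓ Subgroup.centralizer {x} = ⊥ → Q ⊓ Subgroup.centralizer {x} = ⊥)
    (hrankQ : ∀ V : Subgroup G, V ≤ Q → IsMulCommutative V → Cfsg.PRankLE 2 2 V) : False := by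
  classical
  haveI : Fact (Nat.Prime 2) := ⟨Nat.prime_two⟩
  haveI : Fact (Nat.Prime 3) := ⟨Nat.prime_three⟩
  set K := Subgroup.centralizer (W : Set G) with hK
  haveI hKn : K.Normal := Subgroup.normal_centralizer
  have hKmem : ∀ x : G, x ∈ K ↔ W ≤ Subgroup.centralizer {x} := by
    intro x
    rw [hK, Subgroup.mem_centralizer_iff]
    constructor
    · intro h w hw
      rw [Subgroup.mem_centralizer_singleton_iff]
      exact h w hw
    · intro h w hw
      exact Subgroup.mem_centralizer_singleton_iff.mp (h hw)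
  have hdK : d ∉ K := by
    intro h
    rw [hKmem] at h
    apply hW1
    rw [eq_bot_iff, ← hfpf]
    exact le_inf le_rfl h
  have hd_of : ∀ z ∈ Subgroup.zpowers d, z ≠ 1 → z ∈ K → False := by
    intro z hz hz1 hzK
    rcases zpowers_of_cube hd3 hz with h | h | h
    · exact hz1 h
    · rw [h] at hzK; exact hdK hzK
    · apply hdK
      have e : d = (d ^ 2) ^ 2 := by
        have : (d ^ 2) ^ 2 = d ^ 3 * d := by group
        rw [this, hd3, one_mul]
      rw [e, ← h]; exact K.pow_mem hzK 2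
  have hdo : orderOf d = 3 := by
    have h1 : orderOf d ∣ 3 := orderOf_dvd_of_pow_eq_one hd3
    rcases (Nat.dvd_prime Nat.prime_three).mp h1 with h | h
    · exact absurd (orderOf_eq_one_iff.mp h) hd1
    · exact h
  have hd : IsPGroup 3 (Subgroup.zpowers d) := by
    apply IsPGroup.of_card (n := 1)
    rw [Nat.card_zpowers, hdo, pow_one]
  have hs3p : IsPGroup 3 (Subgroup.zpowers s) := by
    apply IsPGroup.of_card (n := 1)
    rw [Nat.card_zpowers, hso, pow_one]
  have hs1 : s ≠ 1 := by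
    intro h; rw [h, orderOf_one] at hso; omega
  have hsK : s ∈ K := (hKmem s).mpr hsW
  obtain ⟨P₃, hP₃⟩ := hd.exists_le_sylow
  obtain ⟨P', hP'⟩ := hs3p.exists_le_sylow
  obtain ⟨g, hg⟩ := MulAction.exists_smul_eq G P' P₃
  set s' := g * s * g⁻¹ with hs'
  have hs'P : s' ∈ (P₃ : Subgroup G) := by
    rw [← hg, Sylow.smul_def, Sylow.pointwise_smul_def]
    have h1 := Subgroup.smul_mem_pointwise_smul s (MulAut.conj g) (P' : Subgroup G)
      (hP' (Subgroup.mem_zpowers s))
    rw [MulAut.smul_def, MulAut.conj_apply] at h1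
    exact h1
  have hs'K : s' ∈ K := hKn.conj_mem s hsK g
  have hs'1 : s' ≠ 1 := by
    intro h
    apply hs1
    rw [hs'] at h
    exact conj_eq_one_iff.mp h
  have hN : K.subgroupOf (P₃ : Subgroup G) ≠ ⊥ := by
    intro h0
    have : (⟨s', hs'P⟩ : (P₃ : Subgroup G)) ∈ K.subgroupOf (P₃ : Subgroup G) :=
      Subgroup.mem_subgroupOf.mpr hs'K
    rw [h0, Subgroup.mem_bot] at this
    exact hs'1 (congrArg Subtype.val this)
  have hP₃p : IsPGroup 3 (↥(P₃ : Subgroup G)) := P₃.isPGroup'
  obtain ⟨b, hbN, hbc, hb1⟩ :=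
    Cfsg.Agent.Helper6.exists_mem_center_of_normal_ne_bot 3 hP₃p (K.subgroupOf (P₃ : Subgroup G)) hN
  have hbK : (b : G) ∈ K := Subgroup.mem_subgroupOf.mp hbN
  have hbd : Commute (b : G) d := by
    have := Subgroup.mem_center_iff.mp hbc ⟨d, hP₃ (Subgroup.mem_zpowers d)⟩
    have h2 := congrArg Subtype.val this
    exact h2.symm
  have hb1' : (b : G) ≠ 1 := fun h => hb1 (Subtype.ext h)
  have hbp : IsPGroup 3 (Subgroup.zpowers (b : G)) :=
    P₃.isPGroup'.to_le ((Subgroup.zpowers_le).mpr b.2)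
  obtain ⟨k, hk⟩ := exists_pow_orderOf_eq_prime 3 (b : G) hb1' hbp
  set y := (b : G) ^ k with hy
  have hyK : y ∈ K := K.pow_mem hbK k
  have hyd : Commute y d := hbd.pow_left k
  have hy3 : y ^ 3 = 1 := by rw [← hk]; exact pow_orderOf_eq_one y
  have hy1 : y ≠ 1 := by
    intro h; rw [h, orderOf_one] at hk; omega
  set D := Subgroup.zpowers d with hD
  set A := Subgroup.zpowers y with hA
  have hAK : A ≤ K := (Subgroup.zpowers_le).mpr hyK
  have hAD : A ≤ Subgroup.centralizer (D : Set G) := by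
    rw [hA, Subgroup.zpowers_le, Subgroup.mem_centralizer_iff]
    intro z hz
    obtain ⟨i, rfl⟩ := Subgroup.mem_zpowers_iff.mp hz
    exact (hyd.symm.zpow_left i).eq
  have hdisj : A ⊓ D = ⊥ := by
    rw [eq_bot_iff]
    intro z hz
    rw [Subgroup.mem_bot]
    by_contra hz1
    exact hd_of z hz.2 hz1 (hAK hz.1)
  set B := D ⊔ A with hB
  have hBcard : Nat.card B = 9 := by
    have h1 := Cfsg.Agent.Helper1.card_sup_of_le_normalizer (N := D) (A := A)
      (hAD.trans (Subgroup.centralizer_le_normalizer _)) hdisj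
    rw [h1, hA, hD, Nat.card_zpowers, Nat.card_zpowers, hk, hdo]
  have huv : ∀ u ∈ D, ∀ v ∈ A, u * v = v * u := by
    intro u hu v hv
    exact (Subgroup.mem_centralizer_iff.mp (hAD hv) u hu)
  have hDD : ∀ u ∈ D, ∀ u' ∈ D, u * u' = u' * u := by
    intro u hu u' hu'
    obtain ⟨i, rfl⟩ := Subgroup.mem_zpowers_iff.mp hu
    obtain ⟨j, rfl⟩ := Subgroup.mem_zpowers_iff.mp hu'
    exact ((Commute.refl d).zpow_zpow i j).eq
  have hAA : ∀ v ∈ A, ∀ v' ∈ A, v * v' = v' * v := by
    intro u hu u' hu'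
    obtain ⟨i, rfl⟩ := Subgroup.mem_zpowers_iff.mp hu
    obtain ⟨j, rfl⟩ := Subgroup.mem_zpowers_iff.mp hu'
    exact ((Commute.refl y).zpow_zpow i j).eq
  have hBab : ∀ b ∈ B, ∀ b' ∈ B, b * b' = b' * b := by
    intro b hb b' hb'
    obtain ⟨u, hu, v, hv, rfl⟩ := Cfsg.Agent.S4054.mem_sup_of_le_centralizer hAD hb
    obtain ⟨u', hu', v', hv', rfl⟩ := Cfsg.Agent.S4054.mem_sup_of_le_centralizer hAD hb'
    calc u * v * (u' * v') = u * (v * u') * v' := by group
      _ = u * (u' * v) * v' := by rw [huv u' hu' v hv]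
      _ = (u * u') * (v * v') := by group
      _ = (u' * u) * (v' * v) := by rw [hDD u hu u' hu', hAA v hv v' hv']
      _ = u' * (u * v') * v := by group
      _ = u' * (v' * u) * v := by rw [huv u hu v' hv']
      _ = u' * v' * (u * v) := by group
  have hAcard : Nat.card A = 3 := by rw [hA, Nat.card_zpowers, hk]
  have hfaith : ¬ A ≤ Subgroup.centralizer (Q : Set G) := by
    intro h
    have hyQ : y ∈ Q := hchar (h (Subgroup.mem_zpowers y))
    have hyp : IsPGroup 3 A := IsPGroup.of_card (n := 1) (by rw [hAcard, pow_one])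
    have h0 := disjoint_iff.mp (IsPGroup.disjoint_of_ne 3 2 (by norm_num) A Q hyp hQp)
    have hy' : y ∈ A ⊓ Q := ⟨Subgroup.mem_zpowers y, hyQ⟩
    rw [h0, Subgroup.mem_bot] at hy'
    exact hy1 hy'
  have hBQ : B ≤ Subgroup.normalizer (Q : Set G) := by
    rw [Subgroup.normalizer_eq_top_iff.mpr hQn]; exact le_top
  have hfree : ∀ b ∈ B, b ≠ 1 → ∀ x ∈ Q, b * x * b⁻¹ = x →
      x ∈ Subgroup.centralizer (A : Set G) := by
    intro b hb hb1 x hx hbx
    have hbx' : b * x = x * b := by
      calc b * x = (b * x * b⁻¹) * b := by group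
        _ = x * b := by rw [hbx]
    obtain ⟨u, hu, v, hv, rfl⟩ := Cfsg.Agent.S4054.mem_sup_of_le_centralizer hAD hb
    by_cases hu1 : u = 1
    · rw [hu1, one_mul] at hbx' hb1
      have hyv : y ∈ Subgroup.zpowers v := by
        rcases zpowers_of_cube hy3 hv with h | h | h
        · exact absurd h hb1
        · rw [h]; exact Subgroup.mem_zpowers y
        · have e : y = (y ^ 2) ^ 2 := by
            have : (y ^ 2) ^ 2 = y ^ 3 * y := by group
            rw [this, hy3, one_mul]
          rw [e, ← h]; exact Subgroup.pow_mem _ (Subgroup.mem_zpowers v) 2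
      rw [Subgroup.mem_centralizer_iff]
      intro z hz
      have hzv : z ∈ Subgroup.zpowers v := (Subgroup.zpowers_le.mpr hyv) hz
      obtain ⟨i, rfl⟩ := Subgroup.mem_zpowers_iff.mp hzv
      have hc : Commute v x := hbx'
      exact (hc.zpow_left i).eq
    · have hbK : u * v ∉ K := by
        intro h
        have : u ∈ K := by
          have h2 : u = (u * v) * v⁻¹ := by group
          rw [h2]; exact K.mul_mem h (K.inv_mem (hAK hv))
        exact hd_of u hu hu1 this
      have hb3 : (u * v) ^ 3 = 1 := by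
        have hc : Commute u v := huv u hu v hv
        rw [hc.mul_pow]
        have hu3 : u ^ 3 = 1 := by
          obtain ⟨i, rfl⟩ := Subgroup.mem_zpowers_iff.mp hu
          rw [← zpow_natCast, ← zpow_mul, mul_comm, zpow_mul, zpow_natCast, hd3, one_zpow]
        have hv3 : v ^ 3 = 1 := by
          obtain ⟨i, rfl⟩ := Subgroup.mem_zpowers_iff.mp hv
          rw [← zpow_natCast, ← zpow_mul, mul_comm, zpow_mul, zpow_natCast, hy3, one_zpow]
        rw [hu3, hv3, one_mul]
      have hbp : IsPGroup 3 (Subgroup.zpowers (u * v)) := by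
        have h1 : orderOf (u * v) ∣ 3 := orderOf_dvd_of_pow_eq_one hb3
        rcases (Nat.dvd_prime Nat.prime_three).mp h1 with h | h
        · exact absurd (orderOf_eq_one_iff.mp h) hb1
        · apply IsPGroup.of_card (n := 1); rw [Nat.card_zpowers, h, pow_one]
      rcases hcentW (u * v) hbp with h | h
      · have h2 := hfpfQ (u * v) h
        have hx' : x ∈ Q ⊓ Subgroup.centralizer {u * v} :=
          Subgroup.mem_inf.mpr ⟨hx, Subgroup.mem_centralizer_singleton_iff.mpr hbx'.symm⟩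
        rw [h2, Subgroup.mem_bot] at hx'
        rw [hx']; exact Subgroup.one_mem _
      · exact absurd ((hKmem _).mpr h) hbK
  exact Cfsg.Agent.Helper3.NineAct.coreGen B A Q hBcard hBab le_sup_right hAcard hQp hBQ hfaith
    hfree hrankQ


set_option maxHeartbeats 1600000 in
/-- Let G be a finite group with C_G(O₂(G)) ≤ O₂(G) containing an element of order 6, and let d be a non-identity 3-element of G normalizing a nontrivial elementary abelian 2-subgroup W with C_W(d) = 1. Then G has an elementary abelian subgroup of order 8. -/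
theorem result {G : Type*} [Group G] [Finite G] (hchar : Subgroup.centralizer (Cfsg.pCore 2 G : Set G) ≤ Cfsg.pCore 2 G) (hsix : ∃ g : G, orderOf g = 6) (d : G) (hd1 : d ≠ 1) (hd : IsPGroup 3 ↥(Subgroup.zpowers d)) (W : Subgroup G) (hW : Cfsg.IsElementaryAbelian 2 W) (hW1 : W ≠ ⊥) (hdW : d ∈ Subgroup.normalizer (W : Set G)) (hfpf : W ⊓ Subgroup.centralizer {d} = ⊥) : ∃ E : Subgroup G, Cfsg.IsElementaryAbelian 2 E ∧ Nat.card E = 8 := by
  classical
  haveI : Fact (Nat.Prime 2) := ⟨Nat.prime_two⟩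
  haveI : Fact (Nat.Prime 3) := ⟨Nat.prime_three⟩
  by_contra hno
  -- (0) elementary abelian 2-subgroups are small
  have hsmall : ∀ E : Subgroup G, Cfsg.IsElementaryAbelian 2 E → Nat.card E ≤ 4 := by
    intro E hE
    have hEp : IsPGroup 2 E := by
      intro g
      refine ⟨1, ?_⟩
      apply Subtype.ext
      rw [pow_one, Subgroup.coe_pow, Subgroup.coe_one]
      exact hE.2 g g.2
    obtain ⟨k, hk⟩ := IsPGroup.iff_card.mp hEp
    by_contra hgt
    push Not at hgt
    have hk3 : 3 ≤ k := by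
      by_contra hlt
      push Not at hlt
      have : 2 ^ k ≤ 2 ^ 2 := Nat.pow_le_pow_right (by norm_num) (by omega)
      omega
    have hdvd : 2 ^ 3 ∣ Nat.card E := by rw [hk]; exact pow_dvd_pow 2 hk3
    obtain ⟨K, hK⟩ := Sylow.exists_subgroup_card_pow_prime 2 hdvd
    apply hno
    refine ⟨K.map E.subtype, ⟨⟨⟨fun ⟨a, ha⟩ ⟨b, hb⟩ => Subtype.ext ?_⟩⟩, ?_⟩, ?_⟩
    · obtain ⟨a', -, rfl⟩ := ha
      obtain ⟨b', -, rfl⟩ := hb
      have hEc := hE.1
      have := congrArg Subtype.val (mul_comm' a' b')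
      exact this
    · rintro _ ⟨a', -, rfl⟩
      exact hE.2 a' a'.2
    · rw [Subgroup.card_map_of_injective (Subgroup.subtype_injective E), hK]
      norm_num
  -- maximality of elementary abelian groups of order 4
  have hmax : ∀ E : Subgroup G, Cfsg.IsElementaryAbelian 2 E → Nat.card E = 4 →
      ∀ u : G, u ^ 2 = 1 → (∀ w ∈ E, u * w = w * u) → u ∈ E := by
    intro E hE hE4 u hu2 hcomm
    by_contra huE
    obtain ⟨E', hE', hlt⟩ := ea_extend E hE u hu2 huE hcomm
    have := hsmall E' hE'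
    omega
  set Q := Cfsg.pCore 2 G with hQ
  haveI hQn : Q.Normal := Cfsg.Agent.Helper4.pCore_normal
  have hQp : IsPGroup 2 Q := Cfsg.Agent.Helper4.pCore_isPGroup
  have hWp : IsPGroup 2 W := by
    intro g
    refine ⟨1, ?_⟩
    apply Subtype.ext
    rw [pow_one, Subgroup.coe_pow, Subgroup.coe_one]
    exact hW.2 g g.2
  -- (B) |W| = 4
  have hWcard : Nat.card W = 4 := by
    have h1 := card_modEq_centralizer 3 d hd W hdW
    rw [hfpf, Subgroup.card_bot] at h1
    obtain ⟨k, hk⟩ := IsPGroup.iff_card.mp hWp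
    have hle := hsmall W hW
    have hk2 : k ≤ 2 := by
      by_contra hlt
      push Not at hlt
      have : 2 ^ 3 ≤ 2 ^ k := Nat.pow_le_pow_right (by norm_num) hlt
      omega
    have hdvd : Nat.card W ∣ 4 := by
      rw [hk]; exact pow_dvd_pow 2 hk2
    rcases card_of_dvd_four_modEq hdvd h1 with h | h
    · exact absurd (Subgroup.card_eq_one.mp h) hW1
    · exact h
  -- d-invariant subgroups of W
  have hdirr : ∀ U : Subgroup G, U ≤ W → d ∈ Subgroup.normalizer (U : Set G) → U = ⊥ ∨ U = W := by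
    intro U hUW hdU
    have h1 := card_modEq_centralizer 3 d hd U hdU
    have h2 : U ⊓ Subgroup.centralizer {d} = ⊥ := by
      rw [eq_bot_iff, ← hfpf]
      exact inf_le_inf_right _ hUW
    rw [h2, Subgroup.card_bot] at h1
    have hdvd : Nat.card U ∣ 4 := by
      rw [← hWcard]; exact Subgroup.card_dvd_of_le hUW
    rcases card_of_dvd_four_modEq hdvd h1 with h | h
    · left; exact Subgroup.card_eq_one.mp h
    · right
      exact Subgroup.eq_of_le_of_card_ge hUW (by rw [h, hWcard])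
  -- Q is nontrivial
  obtain ⟨g6, hg6⟩ := hsix
  have hQ1 : Q ≠ ⊥ := by
    intro h
    have h1 : (⊤ : Subgroup G) ≤ ⊥ := by
      have h2 := hchar
      rw [h, Subgroup.coe_bot, Subgroup.centralizer_eq_top_iff_subset.mpr (by simp)] at h2
      exact h2
    have h3 : g6 ∈ (⊥ : Subgroup G) := h1 (Subgroup.mem_top _)
    rw [Subgroup.mem_bot] at h3
    rw [h3, orderOf_one] at hg6
    omega
  set ZQ : Subgroup G := (Subgroup.center ↥Q).map Q.subtype with hZQ
  have hZQQ : ZQ ≤ Q := Subgroup.map_subtype_le _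
  have hZQc : ∀ z ∈ ZQ, ∀ q ∈ Q, q * z = z * q := by
    rintro _ ⟨z', hz', rfl⟩ q hq
    have := Subgroup.mem_center_iff.mp hz' ⟨q, hq⟩
    exact congrArg Subtype.val this
  haveI hZQn : ZQ.Normal := by
    rw [← Subgroup.normalizer_eq_top_iff]
    have h1 := Cfsg.Agent.Helper1.le_normalizer_map_of_characteristic Q (Subgroup.center ↥Q)
    rw [Subgroup.normalizer_eq_top_iff.mpr hQn] at h1
    exact top_le_iff.mp h1
  have hZQ1 : ZQ ≠ ⊥ := by
    haveI : Nontrivial ↥Q := (Subgroup.nontrivial_iff_ne_bot Q).mpr hQ1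
    have hcnt : Nontrivial (Subgroup.center ↥Q) := hQp.center_nontrivial
    obtain ⟨⟨z, hz⟩, hz1⟩ := exists_ne (1 : Subgroup.center ↥Q)
    intro h
    have : (z : G) ∈ ZQ := ⟨z, hz, rfl⟩
    rw [h, Subgroup.mem_bot] at this
    apply hz1
    apply Subtype.ext
    apply Subtype.ext
    exact this
  -- an element of order two from a nontrivial element of Q
  have hinvol : ∀ z ∈ Q, z ≠ 1 → ∃ k : ℕ, orderOf (z ^ k) = 2 := by
    intro z hz hz1
    exact exists_pow_orderOf_eq_prime 2 z hz1 (hQp.to_le ((Subgroup.zpowers_le).mpr hz))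
  -- (C) W ≤ Q
  have hWQ : W ≤ Q := by
    have hdU : d ∈ Subgroup.normalizer ((W ⊓ Q : Subgroup G) : Set G) := by
      have h1 : Subgroup.zpowers d ≤ Subgroup.normalizer (W : Set G) := (Subgroup.zpowers_le).mpr hdW
      have h2 : Subgroup.zpowers d ≤ Subgroup.normalizer (Q : Set G) := by
        rw [Subgroup.normalizer_eq_top_iff.mpr hQn]; exact le_top
      exact Cfsg.Agent.Helper1.le_normalizer_inf h1 h2 (Subgroup.mem_zpowers d)
    rcases hdirr (W ⊓ Q) inf_le_left hdU with h | h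
    · exfalso
      set T := W ⊔ Q with hT
      have hTp : IsPGroup 2 T := IsPGroup.to_sup_of_normal_right hWp hQp
      have hQT : Q ≤ T := le_sup_right
      have hWT : W ≤ T := le_sup_left
      have hN : ZQ.subgroupOf T ≠ ⊥ := by
        intro h0
        rw [Subgroup.subgroupOf_eq_bot] at h0
        apply hZQ1
        rw [eq_bot_iff]
        intro z hz
        have : z ∈ ZQ ⊓ T := ⟨hz, hQT (hZQQ hz)⟩
        exact (disjoint_iff_inf_le.mp h0) this
      obtain ⟨b, hbN, hbc, hb1⟩ :=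
        Cfsg.Agent.Helper6.exists_mem_center_of_normal_ne_bot 2 hTp (ZQ.subgroupOf T) hN
      have hzZQ : (b : G) ∈ ZQ := Subgroup.mem_subgroupOf.mp hbN
      have hz1 : (b : G) ≠ 1 := fun h => hb1 (Subtype.ext h)
      have hzW : ∀ w ∈ W, (b : G) * w = w * (b : G) := by
        intro w hw
        have := Subgroup.mem_center_iff.mp hbc ⟨w, hWT hw⟩
        exact (congrArg Subtype.val this).symm
      obtain ⟨k, hk⟩ := hinvol (b : G) (hZQQ hzZQ) hz1
      set u := (b : G) ^ k with hu
      have hu2 : u ^ 2 = 1 := by rw [← hk]; exact pow_orderOf_eq_one u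
      have hu1 : u ≠ 1 := by
        intro h1
        rw [h1, orderOf_one] at hk
        omega
      have huW : ∀ w ∈ W, u * w = w * u := by
        intro w hw
        have hc : Commute (b : G) w := hzW w hw
        exact (hc.pow_left k).eq
      have huWmem : u ∈ W := hmax W hW hWcard u hu2 huW
      have huQ : u ∈ Q := Q.pow_mem (hZQQ hzZQ) k
      have : u ∈ W ⊓ Q := ⟨huWmem, huQ⟩
      rw [h, Subgroup.mem_bot] at this
      exact hu1 this
    · rw [← h]; exact inf_le_right
  -- (D) W ≤ Z(Q)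
  have hWZ : W ≤ ZQ := by
    let Z₁ : Subgroup G :=
      { carrier := {z | z ∈ ZQ ∧ z ^ 2 = 1}
        mul_mem' := by
          rintro a b ⟨ha, ha2⟩ ⟨hb, hb2⟩
          refine ⟨ZQ.mul_mem ha hb, ?_⟩
          have hc : Commute a b := (hZQc b hb a (hZQQ ha))
          rw [hc.mul_pow, ha2, hb2, one_mul]
        one_mem' := ⟨ZQ.one_mem, one_pow 2⟩
        inv_mem' := by
          rintro a ⟨ha, ha2⟩
          exact ⟨ZQ.inv_mem ha, by rw [inv_pow, ha2, inv_one]⟩ }
    have hZ₁mem : ∀ z : G, z ∈ Z₁ ↔ z ∈ ZQ ∧ z ^ 2 = 1 := fun z => Iff.rfl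
    have hZ₁W : Z₁ ≤ W := by
      intro z hz
      obtain ⟨hzZ, hz2⟩ := (hZ₁mem z).mp hz
      exact hmax W hW hWcard z hz2 (fun w hw => (hZQc z hzZ w (hWQ hw)).symm)
    have hZ₁1 : Z₁ ≠ ⊥ := by
      obtain ⟨z, hz, hz1⟩ : ∃ z ∈ ZQ, z ≠ 1 := by
        by_contra hall
        push Not at hall
        apply hZQ1
        rw [eq_bot_iff]
        intro z hz
        exact Subgroup.mem_bot.mpr (hall z hz)
      obtain ⟨k, hk⟩ := hinvol z (hZQQ hz) hz1
      intro h0
      have : z ^ k ∈ Z₁ := by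
        rw [hZ₁mem]
        exact ⟨ZQ.pow_mem hz k, by rw [← hk]; exact pow_orderOf_eq_one _⟩
      rw [h0, Subgroup.mem_bot] at this
      rw [this, orderOf_one] at hk
      omega
    have hdZ₁ : d ∈ Subgroup.normalizer (Z₁ : Set G) := by
      rw [Subgroup.mem_normalizer_iff]
      intro h
      rw [hZ₁mem, hZ₁mem]
      constructor
      · rintro ⟨h1, h2⟩
        refine ⟨hZQn.conj_mem h h1 d, ?_⟩
        rw [conj_pow, h2, mul_one, mul_inv_cancel]
      · rintro ⟨h1, h2⟩
        have e : h = d⁻¹ * (d * h * d⁻¹) * d⁻¹⁻¹ := by group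
        refine ⟨?_, ?_⟩
        · rw [e]; exact hZQn.conj_mem _ h1 d⁻¹
        · rw [conj_pow] at h2
          have : h ^ 2 = d⁻¹ * (d * h ^ 2 * d⁻¹) * d := by group
          rw [this, h2]; group
    rcases hdirr Z₁ hZ₁W hdZ₁ with h | h
    · exact absurd h hZ₁1
    · intro w hw
      have : w ∈ Z₁ := by rw [h]; exact hw
      exact ((hZ₁mem w).mp this).1
  have hWcent : ∀ w ∈ W, ∀ q ∈ Q, q * w = w * q := fun w hw q hq => hZQc w (hWZ hw) q hq
  have hinvQ : ∀ u ∈ Q, u ^ 2 = 1 → u ∈ W := fun u hu hu2 =>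
    hmax W hW hWcard u hu2 (fun w hw => hWcent w hw u hu)
  haveI hWn : W.Normal := by
    refine ⟨fun w hw g => ?_⟩
    apply hinvQ _ (hQn.conj_mem w (hWQ hw) g)
    rw [conj_pow, hW.2 w hw, mul_one, mul_inv_cancel]
  -- (E) elements acting without fixed points on W act without fixed points on Q
  have hfpfQ : ∀ x : G, W ⊓ Subgroup.centralizer {x} = ⊥ → Q ⊓ Subgroup.centralizer {x} = ⊥ := by
    intro x hx
    by_contra hne
    obtain ⟨z, hz, hz1⟩ : ∃ z ∈ Q ⊓ Subgroup.centralizer {x}, z ≠ 1 := by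
      by_contra hall
      push Not at hall
      apply hne
      rw [eq_bot_iff]
      intro z hz
      exact Subgroup.mem_bot.mpr (hall z hz)
    obtain ⟨k, hk⟩ := hinvol z hz.1 hz1
    have hu2 : (z ^ k) ^ 2 = 1 := by rw [← hk]; exact pow_orderOf_eq_one _
    have huW : z ^ k ∈ W := hinvQ _ (Q.pow_mem hz.1 k) hu2
    have huC : z ^ k ∈ Subgroup.centralizer {x} := Subgroup.pow_mem _ hz.2 k
    have : z ^ k ∈ W ⊓ Subgroup.centralizer {x} := ⟨huW, huC⟩
    rw [hx, Subgroup.mem_bot] at this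
    rw [this, orderOf_one] at hk
    omega
  -- the rank hypothesis
  have hrankQ : ∀ V : Subgroup G, V ≤ Q → IsMulCommutative V → Cfsg.PRankLE 2 2 V := by
    intro V _ _ A' hA'c hA'e
    have h1 := hsmall (A'.map V.subtype) ⟨⟨⟨fun ⟨a, ha⟩ ⟨b, hb⟩ => Subtype.ext ?_⟩⟩, ?_⟩
    · rw [Subgroup.card_map_of_injective (Subgroup.subtype_injective V)] at h1
      exact h1
    · obtain ⟨a', ha', rfl⟩ := ha
      obtain ⟨b', hb', rfl⟩ := hb
      have h5 := congrArg (fun x : A' => ((x : V) : G)) (mul_comm' (⟨a', ha'⟩ : A') ⟨b', hb'⟩)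
      exact h5
    · rintro _ ⟨a', ha', rfl⟩
      have := hA'e a' ha'
      have h2 := congrArg Subtype.val this
      simpa using h2
  -- (F) d has order 3
  have hdQ : d ∈ Subgroup.normalizer (Q : Set G) := by
    rw [Subgroup.normalizer_eq_top_iff.mpr hQn]; exact Subgroup.mem_top _
  have hdisj3 : ∀ H : Subgroup G, IsPGroup 3 H → H ⊓ Q = ⊥ := by
    intro H hH
    exact disjoint_iff.mp (IsPGroup.disjoint_of_ne 3 2 (by norm_num) H Q hH hQp)
  have hdo : orderOf d = 3 := by
    obtain ⟨n, hn⟩ := IsPGroup.iff_card.mp hd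
    rw [Nat.card_zpowers] at hn
    have hn1 : 1 ≤ n := by
      by_contra h0
      have : n = 0 := by omega
      rw [this, pow_zero, orderOf_eq_one_iff] at hn
      exact hd1 hn
    refine Cfsg.Agent.S3738.result d n hn1 hn Q hQp hdQ ?_ (hfpfQ d hfpf) hrankQ
    rw [eq_bot_iff, ← hdisj3 _ hd]
    exact inf_le_inf_left _ hchar
  have hd3 : d ^ 3 = 1 := by rw [← hdo]; exact pow_orderOf_eq_one d
  -- (G) the element of order 3 from the element of order 6 centralizes W
  set t := g6 ^ 3 with ht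
  set s := g6 ^ 2 with hs
  have hto : orderOf t = 2 := by
    rw [ht, orderOf_pow_of_dvd (by norm_num) (by rw [hg6]; norm_num), hg6]
  have hso : orderOf s = 3 := by
    rw [hs, orderOf_pow_of_dvd (by norm_num) (by rw [hg6]; norm_num), hg6]
  have hst : Commute s t := (Commute.refl g6).pow_pow 2 3
  have ht2 : t ^ 2 = 1 := by rw [← hto]; exact pow_orderOf_eq_one t
  have ht1 : t ≠ 1 := by
    intro h; rw [h, orderOf_one] at hto; omega
  have hs1 : s ≠ 1 := by
    intro h; rw [h, orderOf_one] at hso; omega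
  have hs3p : IsPGroup 3 (Subgroup.zpowers s) := by
    apply IsPGroup.of_card (n := 1)
    rw [Nat.card_zpowers, hso, pow_one]
  have ht2p : IsPGroup 2 (Subgroup.zpowers t) := by
    apply IsPGroup.of_card (n := 1)
    rw [Nat.card_zpowers, hto, pow_one]
  have hnormW : ∀ x : G, x ∈ Subgroup.normalizer (W : Set G) := by
    intro x
    rw [Subgroup.normalizer_eq_top_iff.mpr hWn]; exact Subgroup.mem_top _
  -- a 3-element with a nontrivial fixed point on W centralizes W
  have hcentW : ∀ x : G, IsPGroup 3 (Subgroup.zpowers x) →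
      (W ⊓ Subgroup.centralizer {x} = ⊥ ∨ W ≤ Subgroup.centralizer {x}) := by
    intro x hx
    have h1 := card_modEq_centralizer 3 x hx W (hnormW x)
    have hdvd : Nat.card ↥(W ⊓ Subgroup.centralizer {x}) ∣ 4 := by
      rw [← hWcard]; exact Subgroup.card_dvd_of_le inf_le_left
    rw [hWcard] at h1
    rcases card_of_dvd_four_modEq hdvd (h1.symm.trans (by decide)) with h | h
    · left; exact Subgroup.card_eq_one.mp h
    · right
      have := Subgroup.eq_of_le_of_card_ge (inf_le_left : W ⊓ Subgroup.centralizer {x} ≤ W)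
        (by rw [h, hWcard])
      rw [← this]; exact inf_le_right
  have hsW : W ≤ Subgroup.centralizer {s} := by
    obtain ⟨w, hwW, hw1, hwC⟩ := exists_fixed_of_six W hWcard s t hso hto hst
      (fun hc => hmax W hW hWcard t ht2 hc)
    rcases hcentW s hs3p with h | h
    · exfalso
      have : w ∈ W ⊓ Subgroup.centralizer {s} := ⟨hwW, hwC⟩
      rw [h, Subgroup.mem_bot] at this
      exact hw1 this
    · exact h
  exact final Q W hQp hchar hW1 d hd1 hd3 hfpf s hso hsW hcentW hfpfQ hrankQ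


end Cfsg.Agent.S3739
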