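import Mathlib
import Cfsg.Statements.S0287
import Cfsg.Agent.Helper8.OrthEven
import Cfsg.Agent.Helper8.StdForms
import Cfsg.Agent.S0289

set_option autoImplicit false
open Cfsg

namespace Cfsg.Agent.S0287

open Cfsg.Agent.Helper8.OrthOrder Cfsg.Agent.Helper8.OrthEven Cfsg.Agent.Helper8.StdForms

/-- |GO^+_{2m}(q)| = 2 q^(m(m-1)) (q^m - 1) prod_{i=1}^{m-1} (q^(2i) - 1), m at least 1, all q. -/
theorem result {F : Type*} [Field F] [Fintype F] {q : ℕ} (hF : Fintype.card F = q) (m : ℕ) (hm : 1 ≤ m) : Nat.card (Cfsg.isometryGroup F (Cfsg.quadFormPlus m F)) = 2 * q ^ (m * (m - 1)) * (q ^ m - 1) * ∏ i ∈ Finset.range (m - 1), (q ^ (2 * (i + 1)) - 1) := by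
  obtain ⟨k, rfl⟩ : ∃ k, m = k + 1 := ⟨m - 1, by omega⟩
  have hq : 2 ≤ q := hF ▸ two_le_card (F := F)
  have hν : Nat.card {v : Fin (k + 1) ⊕ Fin (k + 1) → F // plusForm F (k + 1) v = 0}
      = q ^ (2 * (k + 1) - 1) + q ^ (k + 1) - q ^ (k + 1 - 1) := by
    rw [← Cfsg.Agent.S0289.result hF (k + 1) hm]
    apply Nat.card_congr
    apply Equiv.subtypeEquivRight
    intro v
    rw [plusForm_apply]
  rw [card_isometryGroup (plusForm F (k + 1)) (Cfsg.quadFormPlus (k + 1) F) (plusForm_apply F (k + 1)),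
    card_Isom_plus k (plusForm F (k + 1)) (plusForm_nondeg F (k + 1)) (finrank_plus F (k + 1)), hF]
  · simp only [Nat.add_sub_cancel]
  · rw [hν, hF]
    have e1 : 2 * (k + 1) - 1 = 2 * k + 1 := by omega
    have e2 : k + 1 - 1 = k := by omega
    rw [e1, e2]
    have : q ^ k ≤ q ^ (k + 1) := Nat.pow_le_pow_right (by omega) (by omega)
    omega

end Cfsg.Agent.S0287
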