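import Mathlib
import Cfsg.Statements.S0228
import Cfsg.Agent.Helper2.FixCoset
import Cfsg.Agent.Helper2.SmallOrder
import Cfsg.Agent.Helper2.SylowExact
import Cfsg.Agent.Helper2.SylowExact2

set_option autoImplicit false
open Cfsg

namespace Cfsg.Agent.S0228

open Cfsg.Agent.Helper2

/-- A group of order 12 in which no involution is central is isomorphic to the alternating group on four letters. -/
theorem result {G : Type*} [Group G] [Finite G] (hG : Nat.card G = 12) (hz : ∀ z : G, orderOf z = 2 → z ∉ Subgroup.center G) : Nonempty (G ≃* alternatingGroup (Fin 4)) := by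
    have hfp : Fact (Nat.Prime 3) := ⟨by norm_num⟩
    have hfp2 : Fact (Nat.Prime 2) := ⟨by norm_num⟩
    let P : Sylow 3 G := default
    have hPcard : Nat.card P = 3 :=
      SylowExact.card_sylow_of_exact (m := 4) (by rw [hG]) (by norm_num) P
    have hNS := SmallOrder.card_normalizer_mul_card_sylow P
    rw [hG] at hNS
    -- n_3 = 4
    have hn3 : Nat.card (Sylow 3 G) = 4 := by
      have hidx : (P : Subgroup G).index = 4 := by
        have h1 := (P : Subgroup G).card_mul_index
        rw [hPcard, hG] at h1; omega
      have hdvd : Nat.card (Sylow 3 G) ∣ 4 := hidx ▸ Sylow.card_dvd_index P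
      have hmod : Nat.card (Sylow 3 G) % 3 = 1 % 3 := card_sylow_modEq_one 3 G
      have hmem : Nat.card (Sylow 3 G) ∈ Nat.divisors 4 := Nat.mem_divisors.mpr ⟨hdvd, by norm_num⟩
      have hdiv : Nat.divisors 4 = {1, 2, 4} := by decide
      rw [hdiv] at hmem
      simp only [Finset.mem_insert, Finset.mem_singleton] at hmem
      rcases hmem with h1 | h1 | h1
      · exfalso
        rw [h1, mul_one] at hNS
        have hfp' : Fact (Nat.card (P : Subgroup G)).Prime := by rw [hPcard]; exact hfp
        have hPc : IsCyclic (P : Subgroup G) := isCyclic_of_prime_card rfl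
        have hrel := SmallOrder.relIndex_centralizer_normalizer_dvd (P : Subgroup G) hPc
        rw [hPcard] at hrel
        have ht : Nat.totient 3 = 2 := by decide
        rw [ht] at hrel
        have hCN : Subgroup.centralizer ((P : Subgroup G) : Set G) ≤
            Subgroup.normalizer ((P : Subgroup G) : Set G) := Subgroup.centralizer_le_normalizer _
        have hmul := Subgroup.relIndex_mul_relIndex _ _ _
          (bot_le (a := Subgroup.centralizer ((P : Subgroup G) : Set G))) hCN
        rw [Subgroup.relIndex_bot_left, Subgroup.relIndex_bot_left, hNS] at hmul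
        have h2C : 2 ∣ Nat.card (Subgroup.centralizer ((P : Subgroup G) : Set G)) := by
          have hle := Nat.le_of_dvd (by norm_num) hrel
          have hpos : 0 < (Subgroup.centralizer ((P : Subgroup G) : Set G)).relIndex
              (Subgroup.normalizer ((P : Subgroup G) : Set G)) := by
            rcases Nat.eq_zero_or_pos ((Subgroup.centralizer ((P : Subgroup G) : Set G)).relIndex
              (Subgroup.normalizer ((P : Subgroup G) : Set G))) with h0 | h0
            · rw [h0, mul_zero] at hmul; omega
            · exact h0
          have : (Subgroup.centralizer ((P : Subgroup G) : Set G)).relIndex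
              (Subgroup.normalizer ((P : Subgroup G) : Set G)) = 1 ∨
              (Subgroup.centralizer ((P : Subgroup G) : Set G)).relIndex
              (Subgroup.normalizer ((P : Subgroup G) : Set G)) = 2 := by omega
          rcases this with h3 | h3 <;> rw [h3] at hmul <;> omega
        obtain ⟨z, hzz⟩ := exists_prime_orderOf_dvd_card' 2 h2C
        have hzo : orderOf (z : G) = 2 := by rw [Subgroup.orderOf_coe]; exact hzz
        -- a Sylow 2-subgroup containing z
        obtain ⟨Q, hQ⟩ := (FixCoset.isPGroup_zpowers_of_orderOf (z : G) hzo).exists_le_sylow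
        have hzQ : (z : G) ∈ (Q : Subgroup G) := hQ (Subgroup.mem_zpowers _)
        have hQcard : Nat.card Q = 2 ^ 2 :=
          SylowExact.card_sylow_of_exact_pow (m := 3) (by rw [hG]; norm_num) (by norm_num) Q
        have hQab : IsMulCommutative (Q : Subgroup G) :=
          IsPGroup.isMulCommutative_of_card_eq_prime_sq hQcard
        have htop : (P : Subgroup G) ⊔ (Q : Subgroup G) = ⊤ := by
          rw [← Subgroup.card_eq_iff_eq_top, hG]
          have h3 : 3 ∣ Nat.card ((P : Subgroup G) ⊔ (Q : Subgroup G) : Subgroup G) := by
            have := Subgroup.card_dvd_of_le (le_sup_left : (P : Subgroup G) ≤ (P : Subgroup G) ⊔ Q)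
            rwa [hPcard] at this
          have h4 : 4 ∣ Nat.card ((P : Subgroup G) ⊔ (Q : Subgroup G) : Subgroup G) := by
            have := Subgroup.card_dvd_of_le (le_sup_right : (Q : Subgroup G) ≤ (P : Subgroup G) ⊔ Q)
            rwa [hQcard] at this
          have h12 : 3 * 4 ∣ Nat.card ((P : Subgroup G) ⊔ (Q : Subgroup G) : Subgroup G) :=
            Nat.Coprime.mul_dvd_of_dvd_of_dvd (by decide) h3 h4
          have hd : Nat.card ((P : Subgroup G) ⊔ (Q : Subgroup G) : Subgroup G) ∣ 12 := by
            rw [← hG]; exact Subgroup.card_subgroup_dvd_card _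
          exact Nat.dvd_antisymm hd h12
        apply hz (z : G) hzo
        rw [Subgroup.mem_center_iff]
        intro g
        have hg : g ∈ (P : Subgroup G) ⊔ (Q : Subgroup G) := by rw [htop]; trivial
        have hle : (P : Subgroup G) ⊔ (Q : Subgroup G) ≤ Subgroup.centralizer {(z : G)} := by
          apply sup_le
          · intro y hy
            rw [Subgroup.mem_centralizer_iff]
            intro w hw
            rw [Set.mem_singleton_iff] at hw
            rw [hw]
            exact (Subgroup.mem_centralizer_iff.mp z.2 y hy).symm
          · intro y hy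
            rw [Subgroup.mem_centralizer_iff]
            intro w hw
            rw [Set.mem_singleton_iff] at hw
            rw [hw]
            have := hQab.is_comm.comm (⟨(z : G), hzQ⟩ : (Q : Subgroup G)) ⟨y, hy⟩
            exact congrArg Subtype.val this
        have := Subgroup.mem_centralizer_iff.mp (hle hg) (z : G) rfl
        exact this.symm
      · rw [h1] at hmod; omega
      · exact h1
    -- the action on Sylow 3-subgroups
    set φ := MulAction.toPermHom G (Sylow 3 G) with hφ
    have hKN : ∀ k ∈ φ.ker, ∀ Q : Sylow 3 G, k ∈ Subgroup.normalizer ((Q : Subgroup G) : Set G) := by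
      intro k hk Q
      rw [MonoidHom.mem_ker] at hk
      have h1 : φ k Q = Q := by rw [hk]; rfl
      exact Sylow.smul_eq_iff_mem_normalizer.mp h1
    have hK3 : ∀ y ∈ φ.ker, orderOf y ≠ 3 := by
      intro y hy hyo
      have hall : ∀ Q : Sylow 3 G, (Q : Subgroup G) = Subgroup.zpowers y := by
        intro Q
        have hyQ := FixCoset.mem_sylow_of_mem_normalizer Q y
          (FixCoset.isPGroup_zpowers_of_orderOf y hyo) (hKN y hy Q)
        have hQcard : Nat.card Q = 3 :=
          SylowExact.card_sylow_of_exact (m := 4) (by rw [hG]) (by norm_num) Q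
        symm
        apply Subgroup.eq_of_le_of_card_ge (Subgroup.zpowers_le.mpr hyQ)
        rw [Nat.card_zpowers, hyo, hQcard]
      have hsub : Subsingleton (Sylow 3 G) := ⟨fun Q1 Q2 => Sylow.ext ((hall Q1).trans (hall Q2).symm)⟩
      have : Nat.card (Sylow 3 G) ≤ 1 := Finite.card_le_one_iff_subsingleton.mpr hsub
      omega
    have hN3 : Nat.card (Subgroup.normalizer ((P : Subgroup G) : Set G)) = 3 := by
      rw [hn3] at hNS; omega
    have hKd3 : Nat.card φ.ker ∣ 3 := by
      have := Subgroup.card_dvd_of_le (fun k hk => hKN k hk P)
      rwa [hN3] at this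
    have hK1 : Nat.card φ.ker = 1 := by
      rcases (Nat.dvd_prime Nat.prime_three).mp hKd3 with h1 | h2
      · exact h1
      · exfalso
        obtain ⟨y, hy⟩ := exists_prime_orderOf_dvd_card' 3 (show 3 ∣ Nat.card φ.ker by rw [h2])
        exact hK3 (y : G) y.2 (by rw [Subgroup.orderOf_coe]; exact hy)
    have hKbot : φ.ker = ⊥ := Subgroup.card_eq_one.mp hK1
    have hinj : Function.Injective φ := (MonoidHom.ker_eq_bot_iff φ).mp hKbot
    set ψ : G →* Equiv.Perm (Fin 4) :=
      (Equiv.permCongrHom (Finite.equivFinOfCardEq hn3)).toMonoidHom.comp φ with hψ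
    have hψinj : Function.Injective ψ := by
      intro a b hab
      apply hinj
      exact (Equiv.permCongrHom (Finite.equivFinOfCardEq hn3)).injective hab
    have hrange : ψ.range = alternatingGroup (Fin 4) := by
      apply Equiv.Perm.eq_alternatingGroup_of_index_eq_two
      have h1 := ψ.range.card_mul_index
      have h2 : Nat.card ψ.range = 12 := by
        rw [← hG]
        exact (Nat.card_congr (MonoidHom.ofInjective hψinj).toEquiv).symm
      have h3 : Nat.card (Equiv.Perm (Fin 4)) = 24 := by
        rw [Nat.card_perm]; simp; rfl
      rw [h2, h3] at h1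
      omega
    exact ⟨(MonoidHom.ofInjective hψinj).trans (MulEquiv.subgroupCongr hrange)⟩

end Cfsg.Agent.S0228
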