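import Cfsg.Statements.S0246
import Cfsg.Agent.Helper7.SympTransitive

set_option autoImplicit false
open Cfsg

namespace Cfsg.Agent.S0246

open Matrix Cfsg.Agent.Helper7.Symp

/-- `-1` in the symplectic group. -/
def negOne (m : ℕ) (F : Type*) [Field F] : Matrix.symplecticGroup (Fin m) F :=
  ⟨-1, SymplecticGroup.neg_mem (one_mem _)⟩

theorem negOne_mem_center (m : ℕ) (F : Type*) [Field F] :
    negOne m F ∈ Subgroup.center (Matrix.symplecticGroup (Fin m) F) := by
  rw [Subgroup.mem_center_iff]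
  intro g
  apply Subtype.ext
  change (g : Matrix (Fin m ⊕ Fin m) (Fin m ⊕ Fin m) F) * (-1) =
    (-1) * (g : Matrix (Fin m ⊕ Fin m) (Fin m ⊕ Fin m) F)
  rw [mul_neg, neg_mul, mul_one, one_mul]

/-- A central element maps every vector to a multiple of itself. -/
theorem central_collinear {F : Type*} [Field F] {m : ℕ}
    (z : Matrix.symplecticGroup (Fin m) F) (hz : z ∈ Subgroup.center (Matrix.symplecticGroup (Fin m) F))
    (w : Fin m ⊕ Fin m → F) :
    ∃ a : F, (z : Matrix (Fin m ⊕ Fin m) (Fin m ⊕ Fin m) F) *ᵥ w = a • w := by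
  by_cases hw : w = 0
  · subst hw
    exact ⟨0, by rw [mulVec_zero, smul_zero]⟩
  obtain ⟨x, hx⟩ := exists_sympForm_ne_zero hw
  rw [Subgroup.mem_center_iff] at hz
  have h1 := congrArg (fun g : Matrix.symplecticGroup (Fin m) F =>
    (g : Matrix (Fin m ⊕ Fin m) (Fin m ⊕ Fin m) F) *ᵥ x) (hz (T w 1))
  rw [coe_mul_mulVec, coe_mul_mulVec, T_mulVec, T_mulVec, mulVec_add, mulVec_smul, one_mul,
    one_mul] at h1
  have h2 := add_left_cancel h1
  have hx' : sympForm m F x w ≠ 0 := by
    rw [sympForm_swap]; exact neg_ne_zero.mpr hx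
  refine ⟨(sympForm m F x w)⁻¹ * sympForm m F ((z : Matrix (Fin m ⊕ Fin m) (Fin m ⊕ Fin m) F) *ᵥ x) w, ?_⟩
  rw [mul_smul, h2, smul_smul, inv_mul_cancel₀ hx', one_smul]

theorem central_eq {F : Type*} [Field F] {m : ℕ} (hm : 1 ≤ m)
    (z : Matrix.symplecticGroup (Fin m) F) (hz : z ∈ Subgroup.center (Matrix.symplecticGroup (Fin m) F)) :
    z = 1 ∨ z = negOne m F := by
  obtain ⟨a, ha⟩ := LinearMap.exists_eq_smul_id_of_forall_notLinearIndependent
    (f := Matrix.mulVecLin (z : Matrix (Fin m ⊕ Fin m) (Fin m ⊕ Fin m) F)) (by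
      intro v
      obtain ⟨a, ha⟩ := central_collinear z hz v
      rw [Matrix.mulVecLin_apply, ha]
      intro hli
      have := LinearIndependent.pair_iff.mp hli a (-1) (by simp)
      simp at this)
  have hzv : ∀ v, (z : Matrix (Fin m ⊕ Fin m) (Fin m ⊕ Fin m) F) *ᵥ v = a • v := by
    intro v
    have := congrArg (fun f : (Fin m ⊕ Fin m → F) →ₗ[F] (Fin m ⊕ Fin m → F) => f v) ha
    simpa using this
  -- a hyperbolic pair
  have i0 : Fin m := ⟨0, hm⟩
  obtain ⟨y, hy⟩ := exists_sympForm_ne_zero (m := m) (F := F) (u := Pi.single (Sum.inl i0) 1) (by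
    intro h
    have := congrFun h (Sum.inl i0)
    simp at this)
  have h1 := sympForm_mulVec z (Pi.single (Sum.inl i0) 1) y
  rw [hzv, hzv, sympForm_smul_left, sympForm_smul_right, ← mul_assoc] at h1
  have h2 : a * a = 1 := by
    have := mul_right_cancel₀ hy (h1.trans (one_mul _).symm)
    exact this
  have h3 : a = 1 ∨ a = -1 := mul_self_eq_one_iff.mp h2
  have hzmat : (z : Matrix (Fin m ⊕ Fin m) (Fin m ⊕ Fin m) F) = a • 1 := by
    apply Matrix.toLin'.injective
    apply LinearMap.ext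
    intro v
    rw [Matrix.toLin'_apply, hzv, Matrix.toLin'_apply, smul_mulVec, one_mulVec]
  rcases h3 with rfl | rfl
  · left
    apply Subtype.ext
    rw [hzmat, one_smul]; rfl
  · right
    apply Subtype.ext
    rw [hzmat, neg_smul, one_smul]; rfl

theorem center_eq {F : Type*} [Field F] {m : ℕ} (hm : 1 ≤ m) :
    (Subgroup.center (Matrix.symplecticGroup (Fin m) F) : Set (Matrix.symplecticGroup (Fin m) F)) =
      {1, negOne m F} := by
  ext z
  constructor
  · intro hz
    rcases central_eq hm z hz with h | h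
    · left; exact h
    · right; exact h
  · rintro (h | h)
    · rw [h]; exact one_mem _
    · rw [Set.mem_singleton_iff] at h
      rw [h]; exact negOne_mem_center m F

/-- The centre of Sp_{2m}(q), m at least 1, is {1, -1}: it has order gcd(2, q-1). -/
theorem result {F : Type*} [Field F] [Fintype F] {q : ℕ} (hF : Fintype.card F = q) (m : ℕ) (hm : 1 ≤ m) : Nat.card (Subgroup.center (Matrix.symplecticGroup (Fin m) F)) = Nat.gcd 2 (q - 1) := by
  have hcard : Nat.card (Subgroup.center (Matrix.symplecticGroup (Fin m) F)) =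
      (Subgroup.center (Matrix.symplecticGroup (Fin m) F) :
        Set (Matrix.symplecticGroup (Fin m) F)).ncard := Nat.card_coe_set_eq _
  rw [hcard, center_eq hm]
  have hq1 : 1 < q := by rw [← hF]; exact Fintype.one_lt_card
  by_cases h2 : ringChar F = 2
  · have hq : q % 2 = 0 := by rw [← hF]; exact FiniteField.even_card_iff_char_two.mp h2
    have hneg : negOne m F = 1 := by
      apply Subtype.ext
      change (-1 : Matrix (Fin m ⊕ Fin m) (Fin m ⊕ Fin m) F) = 1
      have : (-1 : F) = 1 := neg_one_eq_one_iff.mpr h2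
      rw [← one_smul F (1 : Matrix (Fin m ⊕ Fin m) (Fin m ⊕ Fin m) F), ← neg_smul, this]
    rw [hneg, Set.pair_eq_singleton, Set.ncard_singleton]
    have : (q - 1) % 2 = 1 := by omega
    rw [Nat.gcd_rec, this]; rfl
  · have hq : q % 2 = 1 := by rw [← hF]; exact FiniteField.odd_card_of_char_ne_two h2
    have hneg : (1 : Matrix.symplecticGroup (Fin m) F) ≠ negOne m F := by
      intro h
      have h' := congrArg (fun g : Matrix.symplecticGroup (Fin m) F =>
        (g : Matrix (Fin m ⊕ Fin m) (Fin m ⊕ Fin m) F) (Sum.inl ⟨0, hm⟩) (Sum.inl ⟨0, hm⟩)) h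
      change (1 : Matrix (Fin m ⊕ Fin m) (Fin m ⊕ Fin m) F) (Sum.inl ⟨0, hm⟩) (Sum.inl ⟨0, hm⟩) =
        (-1 : Matrix (Fin m ⊕ Fin m) (Fin m ⊕ Fin m) F) (Sum.inl ⟨0, hm⟩) (Sum.inl ⟨0, hm⟩) at h'
      rw [Matrix.neg_apply, Matrix.one_apply_eq] at h'
      exact h2 (neg_one_eq_one_iff.mp h'.symm)
    rw [Set.ncard_pair hneg]
    have : (q - 1) % 2 = 0 := by omega
    rw [Nat.gcd_rec, this]; rfl

end Cfsg.Agent.S0246
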