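import Mathlib
import Cfsg.Statements.S3897
-- import your own Cfsg.Agent.* helpers here

set_option autoImplicit false
open Cfsg

namespace Cfsg.Agent.S3897

universe u

variable {G : Type u} [Group G]

/-- the conjugation action of the normalizer of `P` on `P` -/
@[reducible] def conjActN (P : Subgroup G) : MulAction (Subgroup.normalizer (P : Set G)) P where
  smul n x := ⟨(n : G) * x * (n : G)⁻¹, (Subgroup.mem_normalizer_iff.1 n.2 x).1 x.2⟩
  one_smul x := Subtype.ext (by
    change ((1 : Subgroup.normalizer (P : Set G)) : G) * x *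
      ((1 : Subgroup.normalizer (P : Set G)) : G)⁻¹ = x
    simp)
  mul_smul a b x := Subtype.ext (by
    change ((a * b : Subgroup.normalizer (P : Set G)) : G) * x *
      ((a * b : Subgroup.normalizer (P : Set G)) : G)⁻¹ = (a : G) * ((b : G) * x * (b : G)⁻¹) * (a : G)⁻¹
    simp [mul_assoc])

theorem isPElt_of_mem_sylow {p : ℕ} [hp : Fact p.Prime] (P : Sylow p G) (x : G)
    (hx : x ∈ (P : Subgroup G)) :
    ∀ y ∈ (ConjClasses.mk x).carrier, ∃ k : ℕ, orderOf y = p ^ k := by
  intro y hy
  rw [ConjClasses.mem_carrier_iff_mk_eq] at hy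
  obtain ⟨c, hc⟩ := isConj_iff.1 (ConjClasses.mk_eq_mk_iff_isConj.1 hy)
  obtain ⟨k, hk⟩ := (IsPGroup.iff_orderOf.1 P.isPGroup') ⟨x, hx⟩
  rw [Subgroup.orderOf_mk] at hk
  refine ⟨k, ?_⟩
  rw [← hk, ← hc]
  have := (MulAut.conj c).orderOf_eq y
  rw [MulAut.conj_apply] at this
  exact this.symm

/-- every class of `p`-elements meets `P` -/
theorem exists_mem_sylow [Finite G] {p : ℕ} [hp : Fact p.Prime] (P : Sylow p G)
    (c : ConjClasses G) (hc : ∀ x ∈ c.carrier, ∃ k : ℕ, orderOf x = p ^ k) :
    ∃ x ∈ (P : Subgroup G), ConjClasses.mk x = c := by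
  obtain ⟨g, rfl⟩ := ConjClasses.mk_surjective c
  obtain ⟨k, hk⟩ := hc g ConjClasses.mem_carrier_mk
  have hZ : IsPGroup p (Subgroup.zpowers g) := by
    apply IsPGroup.of_card (n := k)
    rw [Nat.card_zpowers, hk]
  obtain ⟨Q, hQ⟩ := hZ.exists_le_sylow
  obtain ⟨h, hh⟩ := MulAction.exists_smul_eq G Q P
  refine ⟨h * g * h⁻¹, ?_, ?_⟩
  · rw [← hh, Sylow.smul_def, Sylow.pointwise_smul_def]
    rw [Subgroup.mem_pointwise_smul_iff_inv_smul_mem]
    have h1 : (MulAut.conj h)⁻¹ • (h * g * h⁻¹) = g := by
      rw [← map_inv, MulAut.smul_def, MulAut.conj_apply]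
      group
    rw [h1]
    exact hQ (Subgroup.mem_zpowers g)
  · rw [ConjClasses.mk_eq_mk_iff_isConj, isConj_iff]
    exact ⟨h⁻¹, by group⟩

theorem two_p_mul_card_le [Finite G] {p : ℕ} [hp : Fact p.Prime] (P : Sylow p G)
    (hNC : ¬ Subgroup.normalizer ((P : Subgroup G) : Set G) ≤
      Subgroup.centralizer ((P : Subgroup G) : Set G)) :
    2 * p * Nat.card {c : ConjClasses G // ∀ x ∈ c.carrier, ∃ k : ℕ, orderOf x = p ^ k} ≤
      (p + 1) * Nat.card (P : Subgroup G) := by
  classical
  letI := conjActN (P : Subgroup G)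
  haveI : Fintype (Subgroup.normalizer ((P : Subgroup G) : Set G)) := Fintype.ofFinite _
  have hsmul : ∀ (n : Subgroup.normalizer ((P : Subgroup G) : Set G)) (x : (P : Subgroup G)),
      ((n • x : (P : Subgroup G)) : G) = (n : G) * x * (n : G)⁻¹ := fun n x => rfl
  -- Step A: the classes of `p`-elements are images of the orbits
  have hA : Nat.card {c : ConjClasses G // ∀ x ∈ c.carrier, ∃ k : ℕ, orderOf x = p ^ k} ≤
      Nat.card (MulAction.orbitRel.Quotient (Subgroup.normalizer ((P : Subgroup G) : Set G))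
        (P : Subgroup G)) := by
    apply Nat.card_le_card_of_surjective
      (Quotient.lift (fun x : (P : Subgroup G) =>
        (⟨ConjClasses.mk (x : G), isPElt_of_mem_sylow P x x.2⟩ :
          {c : ConjClasses G // ∀ x ∈ c.carrier, ∃ k : ℕ, orderOf x = p ^ k})) ?_)
    · rintro ⟨c, hc⟩
      obtain ⟨x, hx, hxc⟩ := exists_mem_sylow P c hc
      refine ⟨Quotient.mk'' ⟨x, hx⟩, ?_⟩
      exact Subtype.ext hxc
    · intro a b hab
      obtain ⟨n, hn⟩ := hab
      apply Subtype.ext
      change ConjClasses.mk (a : G) = ConjClasses.mk (b : G)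
      rw [ConjClasses.mk_eq_mk_iff_isConj, isConj_iff]
      refine ⟨(n : G)⁻¹, ?_⟩
      have h1 : (a : G) = (n : G) * b * (n : G)⁻¹ := by
        rw [← hsmul]; exact congrArg Subtype.val hn.symm
      rw [h1]; group
  -- Step B: Burnside's lemma
  have hB : ∑ n : Subgroup.normalizer ((P : Subgroup G) : Set G),
      Nat.card (MulAction.fixedBy (P : Subgroup G) n) =
      Nat.card (MulAction.orbitRel.Quotient (Subgroup.normalizer ((P : Subgroup G) : Set G))
        (P : Subgroup G)) * Nat.card (Subgroup.normalizer ((P : Subgroup G) : Set G)) := by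
    rw [← Nat.card_sigma, ← Nat.card_prod]
    exact Nat.card_congr (MulAction.sigmaFixedByEquivOrbitsProdGroup _ _)
  -- Step C: bounding the fixed points
  have hC : ∀ n : Subgroup.normalizer ((P : Subgroup G) : Set G),
      p * Nat.card (MulAction.fixedBy (P : Subgroup G) n) ≤
        (if (n : G) ∈ Subgroup.centralizer ((P : Subgroup G) : Set G) then p else 1) *
          Nat.card (P : Subgroup G) := by
    intro n
    split_ifs with h
    · exact Nat.mul_le_mul_left p (Finite.card_subtype_le _)
    · rw [one_mul]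
      obtain ⟨F, hF⟩ : ∃ F : Subgroup (P : Subgroup G),
          F = (Subgroup.centralizer ({(n : G)} : Set G)).subgroupOf (P : Subgroup G) := ⟨_, rfl⟩
      have hmem : ∀ x : (P : Subgroup G), x ∈ MulAction.fixedBy (P : Subgroup G) n ↔ x ∈ F := by
        intro x
        rw [MulAction.mem_fixedBy, hF, Subgroup.mem_subgroupOf, Subgroup.mem_centralizer_iff]
        constructor
        · intro hx y hy
          rw [Set.mem_singleton_iff] at hy
          rw [hy]
          have h1 := congrArg Subtype.val hx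
          rw [hsmul] at h1
          calc (n : G) * x = ((n : G) * x * (n : G)⁻¹) * n := by group
            _ = x * n := by rw [h1]
        · intro hx
          apply Subtype.ext
          rw [hsmul, hx (n : G) rfl]
          group
      have hcard : Nat.card (MulAction.fixedBy (P : Subgroup G) n) = Nat.card F :=
        Nat.card_congr (Equiv.subtypeEquivRight hmem)
      rw [hcard]
      have hFtop : F ≠ ⊤ := by
        intro htop
        apply h
        rw [Subgroup.mem_centralizer_iff]
        intro y hy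
        have h1 : (⟨y, hy⟩ : (P : Subgroup G)) ∈ F := by rw [htop]; trivial
        rw [hF, Subgroup.mem_subgroupOf, Subgroup.mem_centralizer_iff] at h1
        exact (h1 (n : G) rfl).symm
      have hidx : p ≤ F.index := by
        obtain ⟨a, ha⟩ := IsPGroup.iff_card.1 P.isPGroup'
        have h1 : F.index ∣ p ^ a := ha ▸ Subgroup.index_dvd_card F
        obtain ⟨j, -, hj⟩ := (Nat.dvd_prime_pow hp.out).1 h1
        have hj0 : j ≠ 0 := by
          rintro rfl
          rw [pow_zero] at hj
          exact hFtop (Subgroup.index_eq_one.1 hj)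
        rw [hj]
        calc p = p ^ 1 := (pow_one p).symm
          _ ≤ p ^ j := Nat.pow_le_pow_right hp.out.pos (Nat.one_le_iff_ne_zero.2 hj0)
      calc p * Nat.card F ≤ F.index * Nat.card F := Nat.mul_le_mul_right _ hidx
        _ = Nat.card (P : Subgroup G) := F.index_mul_card
  -- Step D: evaluating the sum
  obtain ⟨D, hD⟩ : ∃ D : Subgroup (Subgroup.normalizer ((P : Subgroup G) : Set G)),
      D = (Subgroup.centralizer ((P : Subgroup G) : Set G)).subgroupOf _ := ⟨_, rfl⟩
  have hDmem : ∀ n : Subgroup.normalizer ((P : Subgroup G) : Set G),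
      n ∈ D ↔ (n : G) ∈ Subgroup.centralizer ((P : Subgroup G) : Set G) := by
    intro n; rw [hD, Subgroup.mem_subgroupOf]
  have hDtop : D ≠ ⊤ := by
    intro htop
    apply hNC
    intro g hg
    have h1 : (⟨g, hg⟩ : Subgroup.normalizer ((P : Subgroup G) : Set G)) ∈ D := by
      rw [htop]; trivial
    exact (hDmem _).1 h1
  have hDidx : 2 ≤ D.index := by
    have h0 : D.index ≠ 0 := Subgroup.index_ne_zero_of_finite
    have h1 : D.index ≠ 1 := fun h => hDtop (Subgroup.index_eq_one.1 h)
    omega
  obtain ⟨c, hc⟩ : ∃ c : ℕ, c = (Finset.univ.filter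
    (fun n : Subgroup.normalizer ((P : Subgroup G) : Set G) =>
      (n : G) ∈ Subgroup.centralizer ((P : Subgroup G) : Set G))).card := ⟨_, rfl⟩
  obtain ⟨c', hc'⟩ : ∃ c' : ℕ, c' = (Finset.univ.filter
    (fun n : Subgroup.normalizer ((P : Subgroup G) : Set G) =>
      ¬ (n : G) ∈ Subgroup.centralizer ((P : Subgroup G) : Set G))).card := ⟨_, rfl⟩
  have hcc' : c + c' = Nat.card (Subgroup.normalizer ((P : Subgroup G) : Set G)) := by
    rw [hc, hc', Finset.card_filter_add_card_filter_not, Finset.card_univ,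
      Nat.card_eq_fintype_card]
  have hcD : c = Nat.card D := by
    rw [Nat.card_eq_fintype_card, hc]
    symm
    apply Fintype.card_of_subtype
    intro n
    rw [Finset.mem_filter]
    simp [hDmem]
  have h2c : 2 * c ≤ Nat.card (Subgroup.normalizer ((P : Subgroup G) : Set G)) := by
    rw [hcD, ← D.index_mul_card]
    exact Nat.mul_le_mul_right _ hDidx
  have hsum : ∑ n : Subgroup.normalizer ((P : Subgroup G) : Set G),
      (if (n : G) ∈ Subgroup.centralizer ((P : Subgroup G) : Set G) then p else 1) *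
        Nat.card (P : Subgroup G) = (c * p + c') * Nat.card (P : Subgroup G) := by
    rw [← Finset.sum_mul, Finset.sum_ite, Finset.sum_const, Finset.sum_const, smul_eq_mul,
      smul_eq_mul, mul_one, ← hc, ← hc']
  have hmain : p * (Nat.card (MulAction.orbitRel.Quotient
      (Subgroup.normalizer ((P : Subgroup G) : Set G)) (P : Subgroup G)) *
        Nat.card (Subgroup.normalizer ((P : Subgroup G) : Set G))) ≤
      (c * p + c') * Nat.card (P : Subgroup G) := by
    rw [← hB, Finset.mul_sum, ← hsum]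
    exact Finset.sum_le_sum (fun n _ => hC n)
  -- arithmetic
  obtain ⟨ω, hω⟩ : ∃ ω : ℕ, ω = Nat.card (MulAction.orbitRel.Quotient
      (Subgroup.normalizer ((P : Subgroup G) : Set G)) (P : Subgroup G)) := ⟨_, rfl⟩
  obtain ⟨M, hM⟩ : ∃ M : ℕ, M = Nat.card (Subgroup.normalizer ((P : Subgroup G) : Set G)) :=
    ⟨_, rfl⟩
  obtain ⟨a, ha⟩ : ∃ a : ℕ, a = Nat.card (P : Subgroup G) := ⟨_, rfl⟩
  rw [← hω, ← hM, ← ha] at hmain
  rw [← hM] at hcc' h2c
  rw [← hω] at hA
  rw [← ha]
  have hMpos : 0 < M := by rw [hM]; exact Nat.card_pos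
  have hcle : c ≤ c' := by omega
  obtain ⟨q, rfl⟩ : ∃ q : ℕ, p = q + 1 := ⟨p - 1, (Nat.succ_pred_eq_of_pos hp.out.pos).symm⟩
  have key : (2 * (q + 1) * ω) * M ≤ ((q + 1 + 1) * a) * M := by
    have h1 := Nat.mul_le_mul_left (q * a) hcle
    subst hcc'
    nlinarith [h1, hmain]
  have h3 : 2 * (q + 1) * ω ≤ (q + 1 + 1) * a := Nat.le_of_mul_le_mul_right key hMpos
  calc 2 * (q + 1) * Nat.card {c : ConjClasses G // ∀ x ∈ c.carrier, ∃ k : ℕ, orderOf x = (q + 1) ^ k}
      ≤ 2 * (q + 1) * ω := Nat.mul_le_mul_left _ hA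
    _ ≤ _ := h3

/-- Let p be an odd prime and G a finite group with Sylow p-subgroup P, and write k_p(G) for the number of conjugacy classes of G consisting of p-elements (elements of p-power order, the identity included). Then k_p(G) > (p + 1)|P|/(2p) if and only if G has a normal p-complement and P is abelian. -/
theorem result {G : Type*} [Group G] [Finite G] {p : ℕ} [Fact p.Prime] (hp : p ≠ 2) (P : Sylow p G) :
    (p + 1) * Nat.card ↥(P : Subgroup G) < 2 * p * Nat.card {c : ConjClasses G // ∀ x ∈ c.carrier, ∃ k : ℕ, orderOf x = p ^ k} ↔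
      Cfsg.HasNormalPComplement p G ∧ IsMulCommutative ↥(P : Subgroup G) := by
  have hp' : Fact p.Prime := inferInstance
  constructor
  · intro hlt
    have hNC : Subgroup.normalizer ((P : Subgroup G) : Set G) ≤
        Subgroup.centralizer ((P : Subgroup G) : Set G) := by
      by_contra hNC
      exact absurd (two_p_mul_card_le P hNC) (not_le.2 hlt)
    refine ⟨⟨P, _, inferInstance, MonoidHom.ker_transferSylow_isComplement' P hNC⟩, ?_⟩
    refine ⟨⟨fun a b => ?_⟩⟩
    apply Subtype.ext
    have h1 := hNC (Subgroup.le_normalizer a.2)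
    rw [Subgroup.mem_centralizer_iff] at h1
    exact (h1 b b.2).symm
  · rintro ⟨⟨P', K, hKn, hK⟩, hcomm⟩
    -- `K` is also a complement of `P`
    have hcardP : Nat.card (P : Subgroup G) = Nat.card (P' : Subgroup G) := by
      rw [Sylow.card_eq_multiplicity, Sylow.card_eq_multiplicity]
    have hKP : K.IsComplement' (P : Subgroup G) := by
      apply Subgroup.isComplement'_of_coprime
      · rw [hcardP]; exact hK.card_mul_card
      · obtain ⟨a, ha⟩ := IsPGroup.iff_card.1 P.isPGroup'
        rw [ha]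
        apply Nat.Coprime.pow_right
        rw [Nat.coprime_comm, Nat.Prime.coprime_iff_not_dvd hp'.out]
        have h1 : (P' : Subgroup G).index = Nat.card K := hK.index_eq_card
        rw [← h1]
        exact P'.not_dvd_index
    have hinj : Function.Injective (fun x : (P : Subgroup G) =>
        (⟨ConjClasses.mk (x : G), isPElt_of_mem_sylow P x x.2⟩ :
          {c : ConjClasses G // ∀ x ∈ c.carrier, ∃ k : ℕ, orderOf x = p ^ k})) := by
      intro x y hxy
      have h1 : ConjClasses.mk (x : G) = ConjClasses.mk (y : G) := congrArg Subtype.val hxy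
      obtain ⟨g, hg⟩ := isConj_iff.1 (ConjClasses.mk_eq_mk_iff_isConj.1 h1)
      obtain ⟨⟨k, z⟩, hkz, -⟩ := hKP.existsUnique g
      have hkz' : (k : G) * (z : G) = g := hkz
      have hzx : (z : G) * x * (z : G)⁻¹ = x := by
        have h2 : z * x = x * z := hcomm.is_comm.comm z x
        have h3 := congrArg Subtype.val h2
        rw [Subgroup.coe_mul, Subgroup.coe_mul] at h3
        rw [h3]; group
      have hy : (y : G) = (k : G) * x * (k : G)⁻¹ := by
        rw [← hg, ← hkz']
        calc (k : G) * z * x * ((k : G) * z)⁻¹ = (k : G) * ((z : G) * x * (z : G)⁻¹) * (k : G)⁻¹ := by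
              group
          _ = _ := by rw [hzx]
      have h4 : (y : G) * (x : G)⁻¹ ∈ K := by
        rw [hy]
        have h5 : (x : G) * (k : G)⁻¹ * (x : G)⁻¹ ∈ K := hKn.conj_mem _ (K.inv_mem k.2) x
        have h6 := K.mul_mem k.2 h5
        have h7 : (k : G) * ((x : G) * (k : G)⁻¹ * (x : G)⁻¹) = (k : G) * x * (k : G)⁻¹ * (x : G)⁻¹ := by
          group
        rwa [h7] at h6
      have h5 : (y : G) * (x : G)⁻¹ ∈ (P : Subgroup G) :=
        (P : Subgroup G).mul_mem y.2 ((P : Subgroup G).inv_mem x.2)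
      have h6 := Subgroup.disjoint_def.1 hKP.disjoint h4 h5
      apply Subtype.ext
      exact (mul_inv_eq_one.1 h6).symm
    have hle : Nat.card (P : Subgroup G) ≤
        Nat.card {c : ConjClasses G // ∀ x ∈ c.carrier, ∃ k : ℕ, orderOf x = p ^ k} :=
      Nat.card_le_card_of_injective _ hinj
    have hpos : 0 < Nat.card (P : Subgroup G) := Nat.card_pos
    have hp2 : 2 ≤ p := hp'.out.two_le
    calc (p + 1) * Nat.card (P : Subgroup G) < 2 * p * Nat.card (P : Subgroup G) := by
          apply Nat.mul_lt_mul_of_pos_right _ hpos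
          omega
      _ ≤ _ := Nat.mul_le_mul_left _ hle


end Cfsg.Agent.S3897
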