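-- Statement S5886 (row 5886): the normaliser of an extension field of prime degree is maximal in the
-- general and special linear groups.
import Cfsg.Statements.S5886
import Cfsg.Agent.Helper7.ExtFO

set_option autoImplicit false
open Cfsg

namespace Cfsg.Agent.S5886

/-- Let F be a finite field, n a positive integer and r a prime that divides n with r < n. Let K be a subalgebra of the algebra of n × n matrices over F which is a field of degree r over F (commutative, every non-zero element invertible, of dimension r over F; it contains the scalars). Then the normaliser N of K in GL_n(F) — the invertible F-linear maps that are semilinear over the field K, a group of type ΓL_{n/r}(F_{q^r}) for |F| = q — is a maximal subgroup of GL_n(F), and N ∩ SL_n(F) is a maximal subgroup of SL_n(F). No lower bound on n is assumed. -/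
theorem result {F : Type*} [Field F]
    [Fintype F] (n r : ℕ) (hr : r.Prime) (hrn : r ∣ n) (hlt : r < n) (K : Subalgebra F (Matrix (Fin n) (Fin n) F))
    (hK : Cfsg.Geo.IsFieldSubalgebra r K) :
    IsCoatom (Cfsg.Geo.subalgebraNormalizer K) ∧
      Cfsg.Geo.IsMaximalIn (Cfsg.Geo.specialLinear (Fin n) F)
        (Cfsg.Geo.subalgebraNormalizer K ⊓ Cfsg.Geo.specialLinear (Fin n) F) := by
  obtain ⟨v, φ, h, hτ⟩ := Cfsg.Agent.Helper7.ExtF.exists_tau_notMem hr hlt K hK
  have hτSL : Cfsg.Agent.Helper7.TGL.tau v φ h ∈ Cfsg.Geo.specialLinear (Fin n) F :=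
    Cfsg.Agent.Helper7.TGL.tau_mem_specialLinear v φ h
  refine ⟨⟨?_, ?_⟩, ⟨?_, ?_⟩⟩
  · -- the normaliser is proper
    intro htop
    apply hτ
    rw [htop]
    trivial
  · -- every strictly larger subgroup is everything
    intro M hM
    have hNM : Cfsg.Geo.subalgebraNormalizer K ≤ M := le_of_lt hM
    have hMN : ¬ M ≤ Cfsg.Geo.subalgebraNormalizer K := not_le_of_gt hM
    have hSL := Cfsg.Agent.Helper7.ExtF.sl_le_of_not_le hr hlt K hK M
      (le_trans inf_le_left hNM) hMN
    rw [eq_top_iff]
    intro x _
    obtain ⟨y, hyN, hy⟩ := Cfsg.Agent.Helper7.ExtF.exists_det_eq hr hlt K hK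
      (Matrix.GeneralLinearGroup.det x)
    have hxy : x * y⁻¹ ∈ Cfsg.Geo.specialLinear (Fin n) F := by
      unfold Cfsg.Geo.specialLinear
      rw [MonoidHom.mem_ker, map_mul, map_inv]
      have : Matrix.GeneralLinearGroup.det y = Matrix.GeneralLinearGroup.det x := Units.ext hy
      rw [this, mul_inv_cancel]
    have : x = (x * y⁻¹) * y := by rw [inv_mul_cancel_right]
    rw [this]
    exact M.mul_mem (hSL hxy) (hNM hyN)
  · -- the intersection is a proper subgroup of the special linear group
    refine lt_of_le_of_ne inf_le_right ?_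
    intro heq
    apply hτ
    have : Cfsg.Agent.Helper7.TGL.tau v φ h ∈
        Cfsg.Geo.subalgebraNormalizer K ⊓ Cfsg.Geo.specialLinear (Fin n) F := by
      rw [heq]; exact hτSL
    exact this.1
  · -- maximality in the special linear group
    intro M hM1 hM2
    by_cases hMN : M ≤ Cfsg.Geo.subalgebraNormalizer K
    · left
      exact le_antisymm (le_inf hMN hM2) hM1
    · right
      exact le_antisymm hM2 (Cfsg.Agent.Helper7.ExtF.sl_le_of_not_le hr hlt K hK M hM1 hMN)

end Cfsg.Agent.S5886
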