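import Cfsg.Statements.S1610
import Cfsg.Agent.Helper7.F4Mat

set_option autoImplicit false
open Cfsg

namespace Cfsg.Agent.S1610

open Cfsg.Agent.Helper7.F4Mat

/-- The Frobenius map of the concrete field, as a ring isomorphism. -/
def frob : F4 ≃+* F4 where
  toFun a := a * a
  invFun a := a * a
  left_inv := by decide
  right_inv := by decide
  map_mul' := by decide
  map_add' := by decide

theorem roots : ∀ a : F4, a ^ 2 + a + 1 = 0 → a = F4.w ∨ a = F4.v := by decide

theorem exists_iso (F : Type*) [Field F] [Fintype F] (hF : Fintype.card F = 4) (ω : F)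
    (hω : ω ^ 2 + ω + 1 = 0) : ∃ e : F ≃+* F4, e ω = F4.w := by
  have e₀ : F ≃+* F4 := FiniteField.ringEquivOfCardEq (by rw [hF]; rfl)
  have h : (e₀ ω) ^ 2 + e₀ ω + 1 = 0 := by
    rw [← map_pow, ← map_add, ← map_one e₀, ← map_add, hω, map_zero]
  rcases roots _ h with h1 | h1
  · exact ⟨e₀, h1⟩
  · refine ⟨e₀.trans frob, ?_⟩
    rw [RingEquiv.trans_apply, h1]
    rfl

/-- The generators of the hexacode. -/
def gen {F : Type*} [Field F] (ω : F) : Fin 3 → Fin 6 → F :=
  ![![ω, ω ^ 2, ω ^ 2, ω, ω ^ 2, ω], ![ω ^ 2, ω, ω, ω ^ 2, ω ^ 2, ω],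
    ![ω ^ 2, ω, ω ^ 2, ω, ω, ω ^ 2]]

/-- The word with given coefficients. -/
def encH {F : Type*} [Field F] (ω : F) (t : Fin 3 → F) : Fin 6 → F :=
  t 0 • gen ω 0 + t 1 • gen ω 1 + t 2 • gen ω 2

theorem mem_hexacode {F : Type*} [Field F] (ω : F) (x : Fin 6 → F) :
    x ∈ hexacode F ω ↔ ∃ t : Fin 3 → F, x = encH ω t := by
  rw [hexacode, Submodule.mem_span_triple]
  constructor
  · rintro ⟨a, b, c, rfl⟩
    exact ⟨![a, b, c], rfl⟩
  · rintro ⟨t, rfl⟩
    exact ⟨t 0, t 1, t 2, rfl⟩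

/-- The weight of a word. -/
def wt {F : Type*} [Field F] [DecidableEq F] (x : Fin 6 → F) : ℕ :=
  (Finset.univ.filter fun i => x i ≠ 0).card

theorem map_gen {F : Type*} [Field F] (e : F ≃+* F4) (ω : F) (j : Fin 3) (i : Fin 6) :
    e (gen ω j i) = gen (e ω) j i := by
  fin_cases j <;> fin_cases i <;> simp [gen, map_pow]

theorem map_encH {F : Type*} [Field F] (e : F ≃+* F4) (ω : F) (t : Fin 3 → F) (i : Fin 6) :
    e (encH ω t i) = encH (e ω) (fun j => e (t j)) i := by
  simp only [encH, Pi.add_apply, Pi.smul_apply, smul_eq_mul, map_add, map_mul, map_gen]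

theorem wt_encH {F : Type*} [Field F] [DecidableEq F] (e : F ≃+* F4) (ω : F) (t : Fin 3 → F) :
    wt (encH ω t) = wt (encH (e ω) (fun j => e (t j))) := by
  unfold wt
  congr 1
  ext i
  simp only [Finset.mem_filter, Finset.mem_univ, true_and, ← map_encH e ω t i, ne_eq,
    EmbeddingLike.map_eq_zero_iff]

set_option maxRecDepth 100000 in
theorem inj4' : ∀ s t : Fin 3 → F4, encH F4.w s = encH F4.w t → s = t := by
  decide +kernel

theorem inj4 : Function.Injective (encH F4.w) := fun s t h => inj4' s t h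

theorem weights4 : ∀ t : Fin 3 → F4, encH F4.w t ≠ 0 → wt (encH F4.w t) = 4 ∨ wt (encH F4.w t) = 6 := by
  decide

theorem cnt4 : (Finset.univ.filter fun t : Fin 3 → F4 => wt (encH F4.w t) = 4).card = 45 := by
  decide

theorem cnt6 : (Finset.univ.filter fun t : Fin 3 → F4 => wt (encH F4.w t) = 6).card = 18 := by
  decide

/-- The hexacode has 64 words, minimum weight 4, and weight distribution 0^1 4^45 6^18. -/
theorem result (F : Type*) [Field F] [Fintype F] [DecidableEq F] (hF : Fintype.card F = 4) (ω : F) (hω : ω ^ 2 + ω + 1 = 0) : Nat.card ↥(Cfsg.hexacode F ω) = 64 ∧ (∀ x ∈ Cfsg.hexacode F ω, x ≠ 0 → (Finset.univ.filter fun i => x i ≠ 0).card = 4 ∨ (Finset.univ.filter fun i => x i ≠ 0).card = 6) ∧ {x : Fin 6 → F | x ∈ Cfsg.hexacode F ω ∧ (Finset.univ.filter fun i => x i ≠ 0).card = 4}.ncard = 45 ∧ {x : Fin 6 → F | x ∈ Cfsg.hexacode F ω ∧ (Finset.univ.filter fun i => x i ≠ 0).card = 6}.ncard = 18 := by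
  obtain ⟨e, he⟩ := exists_iso F hF ω hω
  -- the parametrization of the code by the concrete coefficient vectors
  let Ψ : (Fin 3 → F4) → (Fin 6 → F) := fun t => encH ω (fun j => e.symm (t j))
  have hΨ : ∀ t i, e (Ψ t i) = encH F4.w t i := by
    intro t i
    rw [map_encH, he]
    simp
  have hΨinj : Function.Injective Ψ := by
    intro s t h
    apply inj4
    funext i
    rw [← hΨ, ← hΨ, h]
  have hmem : ∀ x, x ∈ hexacode F ω ↔ ∃ t, x = Ψ t := by
    intro x
    rw [mem_hexacode]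
    constructor
    · rintro ⟨t, rfl⟩
      refine ⟨fun j => e (t j), ?_⟩
      simp [Ψ]
    · rintro ⟨t, rfl⟩
      exact ⟨_, rfl⟩
  have hwt : ∀ t, wt (Ψ t) = wt (encH F4.w t) := by
    intro t
    rw [wt_encH e, he]
    simp
  have hset : ∀ k : ℕ, {x : Fin 6 → F | x ∈ hexacode F ω ∧ wt x = k}.ncard =
      (Finset.univ.filter fun t : Fin 3 → F4 => wt (encH F4.w t) = k).card := by
    intro k
    have h : {x : Fin 6 → F | x ∈ hexacode F ω ∧ wt x = k} =
        Ψ '' ((Finset.univ.filter fun t : Fin 3 → F4 => wt (encH F4.w t) = k) :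
          Finset (Fin 3 → F4)) := by
      ext x
      simp only [Set.mem_ofPred_eq, Set.mem_image, Finset.coe_filter, Finset.mem_univ, true_and]
      constructor
      · rintro ⟨hx, hk⟩
        obtain ⟨t, rfl⟩ := (hmem x).1 hx
        exact ⟨t, by rw [← hwt, hk], rfl⟩
      · rintro ⟨t, hk, rfl⟩
        exact ⟨(hmem _).2 ⟨t, rfl⟩, by rw [hwt, hk]⟩
    rw [h, Set.ncard_image_of_injective _ hΨinj, Set.ncard_coe_finset]
  refine ⟨?_, ?_, ?_, ?_⟩
  · have hr : ((hexacode F ω : Submodule F (Fin 6 → F)) : Set (Fin 6 → F)) = Set.range Ψ := by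
      ext x
      rw [SetLike.mem_coe, hmem, Set.mem_range]
      constructor
      · rintro ⟨t, rfl⟩
        exact ⟨t, rfl⟩
      · rintro ⟨t, rfl⟩
        exact ⟨t, rfl⟩
    have h1 : Nat.card ↥(hexacode F ω) = Nat.card (Set.range Ψ) := by
      rw [← hr]
      rfl
    rw [h1, Nat.card_range_of_injective hΨinj, Nat.card_fun]
    simp [F4.card]
  · intro x hx hx0
    obtain ⟨t, rfl⟩ := (hmem x).1 hx
    have h0 : encH F4.w t ≠ 0 := by
      intro h
      apply hx0
      funext i
      have := hΨ t i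
      rw [h] at this
      simpa using this
    have := weights4 t h0
    rw [← hwt] at this
    exact this
  · exact (hset 4).trans cnt4
  · exact (hset 6).trans cnt6

end Cfsg.Agent.S1610
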