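import Cfsg.Statements.S1611
import Cfsg.Agent.S1610

set_option autoImplicit false
open Cfsg

namespace Cfsg.Agent.S1611

open Cfsg.Agent.Helper7.F4Mat Cfsg.Agent.S1610 Equiv

section generic

variable {F : Type*} [Field F]

/-- The monomial map preserves the hexacode. -/
def Valid (ω : F) (σ : Perm (Fin 6)) (c : Fin 6 → Fˣ) : Prop :=
  ∀ x ∈ hexacode F ω, monomialMap σ c x ∈ hexacode F ω

theorem monomialMap_apply (σ : Perm (Fin 6)) (c : Fin 6 → Fˣ) (x : Fin 6 → F) (i : Fin 6) :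
    monomialMap σ c x i = (c i : F) * x (σ.symm i) := rfl

theorem monomialMap_add (σ : Perm (Fin 6)) (c : Fin 6 → Fˣ) (x y : Fin 6 → F) :
    monomialMap σ c (x + y) = monomialMap σ c x + monomialMap σ c y := by
  funext i
  simp only [monomialMap_apply, Pi.add_apply, mul_add]

theorem monomialMap_smul (σ : Perm (Fin 6)) (c : Fin 6 → Fˣ) (a : F) (x : Fin 6 → F) :
    monomialMap σ c (a • x) = a • monomialMap σ c x := by
  funext i
  simp only [monomialMap_apply, Pi.smul_apply, smul_eq_mul]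
  ring

theorem monomialMap_comp (σ τ : Perm (Fin 6)) (c d : Fin 6 → Fˣ) (x : Fin 6 → F) :
    monomialMap σ c (monomialMap τ d x) =
      monomialMap (σ * τ) (fun i => c i * d (σ.symm i)) x := by
  funext i
  simp only [monomialMap_apply, Units.val_mul, mul_assoc]
  rfl

theorem monomialMap_one (x : Fin 6 → F) :
    monomialMap (1 : Perm (Fin 6)) (fun _ => (1 : Fˣ)) x = x := by
  funext i
  simp only [monomialMap_apply, Units.val_one, one_mul]
  rfl

theorem monomialMap_inv (σ : Perm (Fin 6)) (c : Fin 6 → Fˣ) (x : Fin 6 → F) :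
    monomialMap σ⁻¹ (fun i => (c (σ i))⁻¹) (monomialMap σ c x) = x := by
  funext i
  simp only [monomialMap_apply]
  have h1 : (σ⁻¹ : Perm (Fin 6)).symm i = σ i := rfl
  rw [h1, Equiv.symm_apply_apply, ← mul_assoc, ← Units.val_mul, inv_mul_cancel, Units.val_one,
    one_mul]

theorem gen_mem (ω : F) (j : Fin 3) : gen ω j ∈ hexacode F ω := by
  rw [mem_hexacode]
  refine ⟨Pi.single j 1, ?_⟩
  fin_cases j <;> simp [encH]

theorem valid_iff_gen (ω : F) (σ : Perm (Fin 6)) (c : Fin 6 → Fˣ) :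
    Valid ω σ c ↔ ∀ j : Fin 3, monomialMap σ c (gen ω j) ∈ hexacode F ω := by
  constructor
  · intro h j
    exact h _ (gen_mem ω j)
  · intro h x hx
    obtain ⟨t, rfl⟩ := (mem_hexacode ω x).1 hx
    unfold encH
    rw [monomialMap_add, monomialMap_add, monomialMap_smul, monomialMap_smul, monomialMap_smul]
    exact Submodule.add_mem _ (Submodule.add_mem _ (Submodule.smul_mem _ _ (h 0))
      (Submodule.smul_mem _ _ (h 1))) (Submodule.smul_mem _ _ (h 2))

theorem valid_one (ω : F) : Valid ω 1 (fun _ => (1 : Fˣ)) := by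
  intro x hx
  rwa [monomialMap_one]

theorem valid_mul {ω : F} {σ τ : Perm (Fin 6)} {c d : Fin 6 → Fˣ} (hc : Valid ω σ c)
    (hd : Valid ω τ d) : Valid ω (σ * τ) (fun i => c i * d (σ.symm i)) := by
  intro x hx
  rw [← monomialMap_comp]
  exact hc _ (hd x hx)

theorem valid_inv [Finite F] {ω : F} {σ : Perm (Fin 6)} {c : Fin 6 → Fˣ} (hc : Valid ω σ c) :
    Valid ω σ⁻¹ (fun i => (c (σ i))⁻¹) := by
  let f : ↥(hexacode F ω) → ↥(hexacode F ω) := fun x => ⟨monomialMap σ c x, hc x x.2⟩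
  have hinj : Function.Injective f := by
    intro x y hxy
    have h1 : monomialMap σ c (x : Fin 6 → F) = monomialMap σ c (y : Fin 6 → F) :=
      congrArg Subtype.val hxy
    apply Subtype.ext
    rw [← monomialMap_inv σ c x, h1, monomialMap_inv]
  have hsurj : Function.Surjective f := Finite.injective_iff_surjective.1 hinj
  intro y hy
  obtain ⟨x, hx⟩ := hsurj ⟨y, hy⟩
  have h1 : monomialMap σ c (x : Fin 6 → F) = y := congrArg Subtype.val hx
  rw [← h1, monomialMap_inv]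
  exact x.2

theorem valid_smul {ω : F} {σ : Perm (Fin 6)} {c : Fin 6 → Fˣ} (hc : Valid ω σ c) (u : Fˣ) :
    Valid ω σ (fun i => u * c i) := by
  intro x hx
  have h1 : monomialMap σ (fun i => u * c i) x = (u : F) • monomialMap σ c x := by
    funext i
    simp only [monomialMap_apply, Units.val_mul, Pi.smul_apply, smul_eq_mul, mul_assoc]
  rw [h1]
  exact Submodule.smul_mem _ _ (hc x hx)

theorem valid_ratio [Finite F] {ω : F} {σ : Perm (Fin 6)} {c c' : Fin 6 → Fˣ} (hc : Valid ω σ c)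
    (hc' : Valid ω σ c') : Valid ω 1 (fun i => c' i * (c i)⁻¹) := by
  have h := valid_mul hc' (valid_inv hc)
  rw [mul_inv_cancel] at h
  have h2 : (fun i => c' i * (c (σ (σ.symm i)))⁻¹) = fun i => c' i * (c i)⁻¹ := by
    funext i
    rw [Equiv.apply_symm_apply]
  rwa [h2] at h

/-- The permutation parts of the monomial automorphisms. -/
def V [Finite F] (ω : F) : Subgroup (Perm (Fin 6)) where
  carrier := {σ | ∃ c, Valid ω σ c}
  one_mem' := ⟨_, valid_one ω⟩
  mul_mem' := by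
    rintro σ τ ⟨c, hc⟩ ⟨d, hd⟩
    exact ⟨_, valid_mul hc hd⟩
  inv_mem' := by
    rintro σ ⟨c, hc⟩
    exact ⟨_, valid_inv hc⟩

theorem mem_V [Finite F] (ω : F) (σ : Perm (Fin 6)) : σ ∈ V ω ↔ ∃ c, Valid ω σ c := Iff.rfl

theorem V_eq [Finite F] (ω : F)
    (H3a : ∀ a b c : Fin 6, a ≠ b → a ≠ c → b ≠ c → swap a b * swap b c ∈ V ω)
    (H3b : swap (0 : Fin 6) 1 ∉ V ω) : V ω = alternatingGroup (Fin 6) := by
  have hle : alternatingGroup (Fin 6) ≤ V ω := by
    rw [← Equiv.Perm.closure_three_cycles_eq_alternating, Subgroup.closure_le]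
    intro g hg
    have hg3 : g.IsThreeCycle := hg
    have hne : g.support.Nonempty := by
      rw [← Finset.card_pos, hg3.card_support]
      norm_num
    obtain ⟨a, ha⟩ := hne
    have h1 := hg3.eq_swap_mul_swap_iff_mem_support.2 ha
    have h2 := hg3.nodup_iff_mem_support.2 ha
    simp only [List.nodup_cons, List.mem_cons, List.not_mem_nil, or_false, not_or,
      List.nodup_nil, and_true, not_false_eq_true] at h2
    rw [SetLike.mem_coe, h1]
    exact H3a _ _ _ h2.1.1 h2.1.2 h2.2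
  apply le_antisymm _ hle
  intro σ hσ
  by_contra hodd
  rw [Equiv.Perm.mem_alternatingGroup] at hodd
  have hs : Equiv.Perm.sign σ = -1 := (Int.units_eq_one_or _).resolve_left hodd
  have h1 : swap (0 : Fin 6) 1 * σ⁻¹ ∈ alternatingGroup (Fin 6) := by
    rw [Equiv.Perm.mem_alternatingGroup, map_mul, map_inv, hs, Equiv.Perm.sign_swap (by decide)]
    decide
  have h2 : swap (0 : Fin 6) 1 = swap (0 : Fin 6) 1 * σ⁻¹ * σ := by
    rw [inv_mul_cancel_right]
  apply H3b
  rw [h2]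
  exact (V ω).mul_mem (hle h1) hσ

/-- The monomial automorphisms as permutation part and scalar. -/
noncomputable def validEquiv [Finite F] (ω : F)
    (H2 : ∀ c : Fin 6 → Fˣ, Valid ω 1 c → ∀ i j, c i = c j) :
    {f : Perm (Fin 6) × (Fin 6 → Fˣ) // Valid ω f.1 f.2} ≃ ↥(V ω) × Fˣ where
  toFun f := (⟨f.1.1, ⟨f.1.2, f.2⟩⟩,
    f.1.2 0 * (Classical.choose (show f.1.1 ∈ V ω from ⟨f.1.2, f.2⟩) 0)⁻¹)
  invFun p := ⟨(p.1.1, fun i => p.2 * Classical.choose p.1.2 i),
    valid_smul (Classical.choose_spec p.1.2) p.2⟩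
  left_inv := by
    rintro ⟨⟨σ, c⟩, hc⟩
    apply Subtype.ext
    refine Prod.ext rfl ?_
    funext i
    have hmem : σ ∈ V ω := ⟨c, hc⟩
    have h1 := H2 _ (valid_ratio (Classical.choose_spec hmem) hc) i 0
    change c 0 * (Classical.choose hmem 0)⁻¹ * Classical.choose hmem i = c i
    rw [← h1, inv_mul_cancel_right]
  right_inv := by
    rintro ⟨⟨σ, hσ⟩, u⟩
    refine Prod.ext rfl ?_
    change u * Classical.choose hσ 0 * (Classical.choose hσ 0)⁻¹ = u
    rw [mul_inv_cancel_right]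

theorem card_valid [Fintype F] (ω : F) (hF : Fintype.card F = 4)
    (H2 : ∀ c : Fin 6 → Fˣ, Valid ω 1 c → ∀ i j, c i = c j)
    (H3a : ∀ a b c : Fin 6, a ≠ b → a ≠ c → b ≠ c → swap a b * swap b c ∈ V ω)
    (H3b : swap (0 : Fin 6) 1 ∉ V ω) :
    Nat.card {f : Perm (Fin 6) × (Fin 6 → Fˣ) // Valid ω f.1 f.2} = 1080 := by
  rw [Nat.card_congr (validEquiv ω H2), Nat.card_prod, V_eq ω H3a H3b, nat_card_alternatingGroup,
    Nat.card_units, Nat.card_eq_fintype_card, Nat.card_eq_fintype_card, hF, Fintype.card_fin]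
  rfl

end generic

section transfer

variable {F F' : Type*} [Field F] [Field F']

theorem map_gen' (e : F ≃+* F') (ω : F) (j : Fin 3) (i : Fin 6) :
    e (gen ω j i) = gen (e ω) j i := by
  fin_cases j <;> fin_cases i <;> simp [gen, map_pow]

theorem map_encH' (e : F ≃+* F') (ω : F) (t : Fin 3 → F) (i : Fin 6) :
    e (encH ω t i) = encH (e ω) (fun j => e (t j)) i := by
  simp only [encH, Pi.add_apply, Pi.smul_apply, smul_eq_mul, map_add, map_mul, map_gen']

theorem mem_map (e : F ≃+* F') (ω : F) (x : Fin 6 → F) (hx : x ∈ hexacode F ω) :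
    (fun i => e (x i)) ∈ hexacode F' (e ω) := by
  obtain ⟨t, rfl⟩ := (mem_hexacode ω x).1 hx
  rw [mem_hexacode]
  exact ⟨fun j => e (t j), funext fun i => map_encH' e ω t i⟩

theorem valid_map (e : F ≃+* F') (ω : F) {σ : Perm (Fin 6)} {c : Fin 6 → Fˣ}
    (h : Valid ω σ c) : Valid (e ω) σ (fun i => Units.map (e : F →* F') (c i)) := by
  intro x' hx'
  have hx : (fun i => e.symm (x' i)) ∈ hexacode F ω := by
    have := mem_map e.symm (e ω) x' hx'
    rwa [e.symm_apply_apply] at this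
  have h1 := mem_map e ω _ (h _ hx)
  convert h1 using 1
  funext i
  simp [monomialMap_apply]

theorem mem_V_map [Finite F] [Finite F'] (e : F ≃+* F') (ω : F) {σ : Perm (Fin 6)}
    (h : σ ∈ V ω) : σ ∈ V (e ω) := by
  obtain ⟨c, hc⟩ := h
  exact ⟨_, valid_map e ω hc⟩

end transfer

section concrete

/-- The nonzero elements of the concrete field. -/
def uv : Fin 3 → F4 := ![F4.o, F4.w, F4.v]

/-- Decoding from the first three coordinates. -/
def dec (x : Fin 6 → F4) : Fin 3 → F4 :=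
  ![F4.w * x 0 + F4.v * x 1, F4.v * x 0 + F4.v * x 1 + x 2, x 1 + x 2]

/-- Membership test for the concrete hexacode. -/
def inCode (x : Fin 6 → F4) : Prop := x = encH F4.w (dec x)

instance : DecidablePred inCode := fun x => inferInstanceAs (Decidable (x = encH F4.w (dec x)))

theorem dec_enc : ∀ t : Fin 3 → F4, dec (encH F4.w t) = t := by decide

theorem inCode_iff (x : Fin 6 → F4) : x ∈ hexacode F4 F4.w ↔ inCode x := by
  rw [mem_hexacode]
  constructor
  · rintro ⟨t, rfl⟩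
    unfold inCode
    rw [dec_enc]
  · intro h
    exact ⟨_, h⟩

/-- The image of a generator. -/
def img (s : Fin 6 → Fin 6) (k : Fin 6 → Fin 3) (j : Fin 3) : Fin 6 → F4 :=
  fun i => uv (k i) * gen F4.w j (s i)

/-- The concrete validity test. -/
def validK (s : Fin 6 → Fin 6) (k : Fin 6 → Fin 3) : Prop := ∀ j : Fin 3, inCode (img s k j)

instance (s : Fin 6 → Fin 6) (k : Fin 6 → Fin 3) : Decidable (validK s k) :=
  inferInstanceAs (Decidable (∀ j : Fin 3, inCode (img s k j)))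

theorem valid_iff_validK (σ : Perm (Fin 6)) (c : Fin 6 → F4ˣ) (k : Fin 6 → Fin 3)
    (hk : ∀ i, (c i : F4) = uv (k i)) : Valid F4.w σ c ↔ validK (fun i => σ.symm i) k := by
  rw [valid_iff_gen]
  unfold validK
  refine forall_congr' fun j => ?_
  rw [inCode_iff]
  have : monomialMap σ c (gen F4.w j) = img (fun i => σ.symm i) k j := by
    funext i
    rw [monomialMap_apply, hk]
    rfl
  rw [this]

theorem exists_uv (u : F4ˣ) : ∃ k : Fin 3, (u : F4) = uv k := by
  have h0 := u.ne_zero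
  rcases hu : (u : F4) with _ | _ | _ | _
  · exact absurd hu h0
  · exact ⟨0, rfl⟩
  · exact ⟨1, rfl⟩
  · exact ⟨2, rfl⟩

theorem exists_k (c : Fin 6 → F4ˣ) : ∃ k : Fin 6 → Fin 3, ∀ i, (c i : F4) = uv (k i) := by
  choose k hk using fun i => exists_uv (c i)
  exact ⟨k, hk⟩

/-- The units with given index. -/
def uu (k : Fin 3) : F4ˣ := Units.mk0 (uv k) (by fin_cases k <;> decide)

set_option maxRecDepth 100000 in
theorem scalar_K : ∀ k : Fin 6 → Fin 3, validK (fun i => i) k → ∀ i j : Fin 6, k i = k j := by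
  decide +kernel

set_option maxRecDepth 100000 in
theorem swap_K : ∀ k : Fin 6 → Fin 3, ¬ validK (fun i => (swap (0 : Fin 6) 1).symm i) k := by
  decide +kernel

/-- Packed table of coefficient vectors for the three-cycles. -/
def tblN : List ℕ := [0, 0, 0, 0, 0, 0, 0, 0, 405, 567, 45, 63, 0, 567, 0, 405, 420, 426, 0, 405, 567, 0, 624, 600, 0, 63, 132, 210, 0, 45, 0, 45, 552, 312, 63, 0, 0, 0, 567, 405, 63, 45, 0, 0, 0, 0, 0, 0, 405, 0, 0, 567, 312, 210, 567, 0, 405, 0, 552, 132, 45, 0, 600, 426, 0, 63, 63, 0, 624, 420, 45, 0, 0, 405, 0, 567, 132, 552, 567, 0, 0, 405, 600, 624, 0, 0, 0, 0, 0, 0, 405, 567, 0, 0, 366, 723, 420, 312, 0, 723, 0, 366, 426, 210, 0, 366, 723, 0, 0, 567, 405, 0, 210, 312, 405, 0, 567, 0, 426, 420, 567, 405, 0, 0, 723, 366, 0, 0, 0, 0, 0, 0, 624, 552, 366, 0, 0, 723, 600, 132, 723, 0, 366, 0, 0, 45, 420, 624, 0, 63, 63, 0, 312, 552, 0, 45, 132, 600, 0, 366, 0, 723, 210, 426, 723, 0, 0, 366, 0, 0, 0, 0, 0, 0, 45, 63,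 366, 723, 0, 0, 0, 63, 426, 600, 45, 0, 45, 0, 210, 132, 63, 0, 552, 624, 0, 723, 366, 0, 312, 420, 366, 0, 723, 0, 63, 45, 723, 366, 0, 0, 0, 0, 0, 0, 0, 0]

/-- The coefficient vector for the three-cycle `a → b → c → a`. -/
def tbl (a b c : Fin 6) (i : Fin 6) : Fin 3 :=
  Fin.ofNat 3 (tblN.getD (36 * a.val + 6 * b.val + c.val) 0 / 3 ^ i.val % 3)

set_option maxRecDepth 100000 in
theorem cycle_K : ∀ a b c : Fin 6, a ≠ b → a ≠ c → b ≠ c →
    validK (fun i => (swap a b * swap b c).symm i) (tbl a b c) := by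
  decide +kernel

theorem H2_F4 : ∀ c : Fin 6 → F4ˣ, Valid F4.w 1 c → ∀ i j, c i = c j := by
  intro c hc i j
  obtain ⟨k, hk⟩ := exists_k c
  have h := (valid_iff_validK 1 c k hk).1 hc
  have h2 := scalar_K k h i j
  apply Units.ext
  rw [hk, hk, h2]

theorem H3a_F4 : ∀ a b c : Fin 6, a ≠ b → a ≠ c → b ≠ c → swap a b * swap b c ∈ V F4.w := by
  intro a b c hab hac hbc
  refine ⟨fun i => uu (tbl a b c i), ?_⟩
  rw [valid_iff_validK _ _ (tbl a b c) (fun i => rfl)]
  exact cycle_K a b c hab hac hbc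

theorem H3b_F4 : swap (0 : Fin 6) 1 ∉ V F4.w := by
  rintro ⟨c, hc⟩
  obtain ⟨k, hk⟩ := exists_k c
  exact swap_K k ((valid_iff_validK _ c k hk).1 hc)

end concrete

end Cfsg.Agent.S1611

namespace Cfsg.Agent.S1611

open Cfsg.Agent.Helper7.F4Mat Cfsg.Agent.S1610 Equiv in
/-- The monomial automorphism group of the hexacode has order 1080: its diagonal part is the scalars and its permutation parts form the alternating group of degree 6. -/
theorem result (F : Type*) [Field F] [Fintype F] [DecidableEq F] (hF : Fintype.card F = 4) (ω : F) (hω : ω ^ 2 + ω + 1 = 0) : Nat.card {f : Equiv.Perm (Fin 6) × (Fin 6 → Fˣ) // (∀ x ∈ Cfsg.hexacode F ω, Cfsg.monomialMap f.1 f.2 x ∈ Cfsg.hexacode F ω)} = 1080 ∧ (∀ c : Fin 6 → Fˣ, (∀ x ∈ Cfsg.hexacode F ω, Cfsg.monomialMap 1 c x ∈ Cfsg.hexacode F ω) → ∀ i j, c i = c j) ∧ {σ : Equiv.Perm (Fin 6) | ∃ c : Fin 6 → Fˣ, (∀ x ∈ Cfsg.hexacode F ω, Cfsg.monomialMap σ c x ∈ Cfsg.hexacode F ω)} = (alternatingGroup (Fin 6)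 : Set (Equiv.Perm (Fin 6))) := by
  obtain ⟨e, he⟩ := exists_iso F hF ω hω
  have he' : e.symm F4.w = ω := by rw [← he, e.symm_apply_apply]
  have H2 : ∀ c : Fin 6 → Fˣ, Valid ω 1 c → ∀ i j, c i = c j := by
    intro c hc i j
    have h1 := valid_map e ω hc
    rw [he] at h1
    exact Units.map_injective (f := (e : F →* F4)) e.injective (H2_F4 _ h1 i j)
  have H3a : ∀ a b c : Fin 6, a ≠ b → a ≠ c → b ≠ c → swap a b * swap b c ∈ V ω := by
    intro a b c hab hac hbc
    have := mem_V_map e.symm F4.w (H3a_F4 a b c hab hac hbc)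
    rwa [he'] at this
  have H3b : swap (0 : Fin 6) 1 ∉ V ω := by
    intro h
    have := mem_V_map e ω h
    rw [he] at this
    exact H3b_F4 this
  refine ⟨card_valid ω hF H2 H3a H3b, H2, ?_⟩
  rw [← V_eq ω H3a H3b]
  rfl

end Cfsg.Agent.S1611
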