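import Cfsg.Statements.S5421
import Cfsg.Agent.Helper9.LargeExtra2

set_option autoImplicit false
open Cfsg
open scoped commutatorElement

namespace Cfsg.Agent.S5421

/-- Let Q be an extraspecial 2-subgroup of the finite group G whose centralizer in G is its centre Z and which is normal in the centralizer of Z. If some involution b of Q outside Z has Z inside the largest normal 2-subgroup of the centralizer of b, then Q is a large extraspecial 2-subgroup of G. -/
theorem result {G : Type*} [Group G] [Finite G] (Q : Subgroup G) (hL1 : Cfsg.IsExtraspecial 2 ↥Q) (hL2 : Subgroup.centralizer (Q : Set G) = ((Subgroup.center ↥Q).map Q.subtype)) (hL3 : Subgroup.centralizer (((Subgroup.center ↥Q).map Q.subtype) : Set G) ≤ Subgroup.normalizer (Q : Set G)) (b : G) (hbQ : b ∈ Q) (hbZ : b ∉ ((Subgroup.center ↥Q).map Q.subtype)) (hb : orderOf b = 2) (hZ : ((Subgroup.center ↥Q).map Q.subtype) ≤ (Cfsg.pCore 2 ↥(Subgroup.centralizer ({b} : Set G))).map (Subgroup.centralizer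 ({b} : Set G)).subtype) : Cfsg.IsLargeExtraspecial Q := by
  have : Fact (Nat.Prime 2) := ⟨Nat.prime_two⟩
  refine ⟨hL1, hL2, hL3, ?_⟩
  intro K hK hQK
  have hQ2 : IsPGroup 2 ↥Q := Cfsg.Agent.Helper9.isPGroup_of_isExtraspecial Q hL1
  have hbb : b * b = 1 := by
    have := pow_orderOf_eq_one b
    rw [hb, pow_two] at this
    exact this
  have hZQ : ((Subgroup.center ↥Q).map Q.subtype) ≤ Q := by
    rintro _ ⟨y, _, rfl⟩
    exact y.2
  -- elements of Z commute with elements of Q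
  have hZcomm : ∀ z ∈ ((Subgroup.center ↥Q).map Q.subtype), ∀ q ∈ Q, q * z = z * q := by
    rintro _ ⟨y, hy, rfl⟩ q hq
    have := Subgroup.mem_center_iff.mp hy ⟨q, hq⟩
    exact congrArg Subtype.val this
  -- Step A
  have hKb : K ⊓ Subgroup.centralizer ({b} : Set G)
      ≤ Subgroup.centralizer (((Subgroup.center ↥Q).map Q.subtype) : Set G) := by
    apply Cfsg.Agent.Helper9.le_centralizer_of_le_two_group _
      ((Cfsg.pCore 2 ↥(Subgroup.centralizer ({b} : Set G))).map
        (Subgroup.centralizer ({b} : Set G)).subtype) _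
      (hK.of_dvd_nat (Subgroup.card_dvd_of_le inf_le_left))
      (IsPGroup.map Cfsg.Agent.Helper9.pCore_isPGroup _) hZ
    · intro z hz
      have hzQ : z ∈ Q := hZQ hz
      have hzN : z ∈ Subgroup.normalizer (K : Set G) := hQK hzQ
      have hzb : z * b = b * z := (hZcomm z hz b hbQ).symm
      rw [Subgroup.mem_normalizer_iff]
      intro x
      rw [Subgroup.mem_inf, Subgroup.mem_inf, Subgroup.mem_centralizer_singleton_iff,
        Subgroup.mem_centralizer_singleton_iff]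
      have hzb' : z⁻¹ * b = b * z⁻¹ := by
        have : z⁻¹ * (z * b) * z⁻¹ = z⁻¹ * (b * z) * z⁻¹ := by rw [hzb]
        simpa [mul_assoc] using this.symm
      constructor
      · rintro ⟨hxK, hxb⟩
        refine ⟨(Subgroup.mem_normalizer_iff.mp hzN x).mp hxK, ?_⟩
        calc z * x * z⁻¹ * b = z * x * (z⁻¹ * b) := by group
          _ = z * (x * b) * z⁻¹ := by rw [hzb']; group
          _ = (z * b) * x * z⁻¹ := by rw [hxb]; group
          _ = b * (z * x * z⁻¹) := by rw [hzb]; group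
      · rintro ⟨hxK, hxb⟩
        refine ⟨(Subgroup.mem_normalizer_iff.mp hzN x).mpr hxK, ?_⟩
        calc x * b = z⁻¹ * (z * x * z⁻¹) * (z * b) := by group
          _ = z⁻¹ * ((z * x * z⁻¹) * b) * z := by rw [hzb]; group
          _ = (z⁻¹ * b) * (z * x * z⁻¹) * z := by rw [hxb]; group
          _ = b * x := by rw [hzb']; group
    · intro k hk
      have hkb : k ∈ Subgroup.centralizer ({b} : Set G) := hk.2
      have hnorm : (Cfsg.pCore 2 ↥(Subgroup.centralizer ({b} : Set G))).Normal :=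
        Cfsg.Agent.Helper9.pCore_normal
      rw [Subgroup.mem_normalizer_iff]
      intro x
      constructor
      · rintro ⟨y, hy, rfl⟩
        refine ⟨⟨k, hkb⟩ * y * ⟨k, hkb⟩⁻¹, hnorm.conj_mem y hy _, ?_⟩
        simp
      · rintro ⟨y, hy, hyx⟩
        refine ⟨⟨k, hkb⟩⁻¹ * y * ⟨k, hkb⟩, ?_, ?_⟩
        · have := hnorm.conj_mem y hy (⟨k, hkb⟩⁻¹)
          simpa using this
        · have hyx' : (y : G) = k * x * k⁻¹ := hyx
          simp only [Subgroup.subtype_apply, Subgroup.coe_mul, Subgroup.coe_inv, hyx']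
          group
  -- Step B
  have hfixb := Cfsg.Agent.Helper9.centralizer_inter_eq_bot Q hL1 hL2 hL3 K hK hQK b hbQ hKb
  -- Step C
  have hbnc : ∃ q ∈ Q, q * b ≠ b * q := by
    by_contra hcon
    push Not at hcon
    apply hbZ
    refine ⟨⟨b, hbQ⟩, Subgroup.mem_center_iff.mpr ?_, rfl⟩
    intro g
    exact Subtype.ext (hcon g g.2)
  obtain ⟨q₀, hq₀, hq₀b⟩ := hbnc
  set c : G := q₀ * b * q₀⁻¹ * b⁻¹ with hc
  have hcZ : c ∈ ((Subgroup.center ↥Q).map Q.subtype) := by
    have h1 : ⁅(⟨q₀, hq₀⟩ : Q), (⟨b, hbQ⟩ : Q)⁆ ∈ Subgroup.center Q := by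
      have h2 : ⁅(⟨q₀, hq₀⟩ : Q), (⟨b, hbQ⟩ : Q)⁆ ∈ commutator Q :=
        Subgroup.commutator_mem_commutator (Subgroup.mem_top _) (Subgroup.mem_top _)
      rw [hL1.1.2.2] at h2
      exact h2
    refine ⟨_, h1, ?_⟩
    simp [commutatorElement_def, hc]
  have hc1 : c ≠ 1 := by
    intro h
    apply hq₀b
    have : q₀ * b * q₀⁻¹ * b⁻¹ * (b * q₀) = b * q₀ := by rw [← hc, h, one_mul]
    rw [← this]; group
  set b' : G := q₀ * b * q₀⁻¹ with hb'
  have hb'Q : b' ∈ Q := Q.mul_mem (Q.mul_mem hq₀ hbQ) (Q.inv_mem hq₀)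
  have hb'b' : b' * b' = 1 := by
    calc b' * b' = q₀ * (b * b) * q₀⁻¹ := by rw [hb']; group
      _ = 1 := by rw [hbb]; group
  have hq₀N : q₀ ∈ Subgroup.normalizer (K : Set G) := hQK hq₀
  have hfixb' : ∀ k ∈ K, k * b' = b' * k → k = 1 := by
    intro k hk hkb'
    have h1 : q₀⁻¹ * k * q₀ ∈ K := by
      have := (Subgroup.mem_normalizer_iff.mp hq₀N (q₀⁻¹ * k * q₀)).mpr
      apply this
      have e : q₀ * (q₀⁻¹ * k * q₀) * q₀⁻¹ = k := by group
      rw [e]; exact hk
    have h2 : (q₀⁻¹ * k * q₀) * b = b * (q₀⁻¹ * k * q₀) := by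
      calc (q₀⁻¹ * k * q₀) * b = q₀⁻¹ * (k * (q₀ * b * q₀⁻¹)) * q₀ := by group
        _ = q₀⁻¹ * ((q₀ * b * q₀⁻¹) * k) * q₀ := by rw [← hb', hkb']
        _ = b * (q₀⁻¹ * k * q₀) := by group
    have h3 := hfixb _ h1 h2
    have : k = q₀ * (q₀⁻¹ * k * q₀) * q₀⁻¹ := by group
    rw [this, h3]; group
  -- Step D
  have hinvb := Cfsg.Agent.Helper9.fpf_invol_inverts K b hbb (hQK hbQ)
    (fun k hk h => hfixb k hk h.symm)
  have hinvb' := Cfsg.Agent.Helper9.fpf_invol_inverts K b' hb'b' (hQK hb'Q)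
    (fun k hk h => hfixb' k hk h.symm)
  -- Step E
  have hcb : c = b' * b⁻¹ := by rw [hc, hb']
  have hcK : ∀ k ∈ K, c * k = k * c := by
    intro k hk
    have h1 : b * k * b⁻¹ = k⁻¹ := hinvb k hk
    have h2 : b' * k⁻¹ * b'⁻¹ = k⁻¹⁻¹ := hinvb' k⁻¹ (K.inv_mem hk)
    have hbinv : b⁻¹ = b := inv_eq_of_mul_eq_one_left hbb
    have h1' : b⁻¹ * k * b = k⁻¹ := by
      have := h1
      rw [hbinv] at this ⊢
      exact this
    have h3 : c * k * c⁻¹ = k := by
      calc c * k * c⁻¹ = b' * (b⁻¹ * k * b) * b'⁻¹ := by rw [hcb]; group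
        _ = k := by rw [h1', h2, inv_inv]
    calc c * k = c * k * c⁻¹ * c := by group
      _ = k * c := by rw [h3]
  have hcard : Nat.card (Subgroup.center ↥Q) = 2 := hL1.2
  have hZ2 : ∀ z ∈ ((Subgroup.center ↥Q).map Q.subtype), z = 1 ∨ z = c := by
    rintro _ ⟨y, hy, rfl⟩
    obtain ⟨yc, hyc, hycc⟩ := hcZ
    obtain ⟨w, _, hw2⟩ := (Nat.card_eq_two_iff' (1 : Subgroup.center ↥Q)).mp hcard
    by_cases hy1 : y = 1
    · left; rw [hy1]; simp
    · right
      have e1 : (⟨y, hy⟩ : Subgroup.center ↥Q) = w := hw2 _ (by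
        intro h; apply hy1; exact congrArg Subtype.val h)
      have e2 : (⟨yc, hyc⟩ : Subgroup.center ↥Q) = w := hw2 _ (by
        intro h; apply hc1
        have h' : yc = 1 := congrArg Subtype.val h
        rw [← hycc, h']; simp)
      have : y = yc := congrArg Subtype.val (e1.trans e2.symm)
      rw [← hycc, this]
  apply Cfsg.Agent.Helper9.eq_bot_of_le_centralizer_center Q hL1 hL2 hL3 K hK hQK
  intro k hk
  rw [Subgroup.mem_centralizer_iff]
  intro z hz
  rcases hZ2 z hz with h | h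
  · rw [h]; simp
  · rw [h]; exact hcK k hk

end Cfsg.Agent.S5421
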