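import Cfsg.Statements.S1078
import Cfsg.Agent.Helper7.StO
import Cfsg.Agent.Helper7.ChevT21
import Cfsg.Agent.Helper7.ChevT17

set_option autoImplicit false
open Cfsg

namespace Cfsg.Agent.S1078

open Cfsg.Agent.Helper7 Cfsg.Agent.Helper7.Chev Cfsg.Agent.Helper7.St in
/-- For G₂, F₄, E₈ the presented group has trivial centre (the universal and adjoint groups coincide). -/
theorem result {K : Type*} [Field K] (D : Cfsg.Lie.ChevalleyDatum) (hD : D ∈ [Cfsg.Lie.chevG2, Cfsg.Lie.chevF4, Cfsg.Lie.chevE8]) :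
    Subgroup.center (D.SteinbergGroup K) = ⊥ := by
  simp only [List.mem_cons, List.not_mem_nil, or_false] at hD
  rcases hD with rfl | rfl | rfl
  · exact steinberg_center_trivial (by simp) rfl CoxeterMatrix.G₂ CoxG2.hm T21_G2 T38_G2 T17_G2
      (by decide)
  · exact steinberg_center_trivial (by simp) rfl CoxeterMatrix.F₄ CoxF4.hm T21_F4 T38_F4 T17_F4
      (by decide)
  · exact steinberg_center_trivial (by simp) rfl CoxeterMatrix.E₈ CoxE8.hm T21_E8 T38_E8 T17_E8
      (by decide)

end Cfsg.Agent.S1078
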