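import Cfsg.Statements.S2103
import Cfsg.Agent.Helper7.SqH
import Cfsg.Agent.S1078

set_option autoImplicit false
open Cfsg

namespace Cfsg.Agent.S2103

open Cfsg.Lie Cfsg.Agent.Helper7 Cfsg.Agent.Helper7.Chev Cfsg.Agent.Helper7.St in
/-- The presented group of type F₄ over a finite field maps isomorphically onto the Chevalley group. -/
theorem exists_iso {F : Type*} [Field F] [Fintype F] :
    ∃ θ : chevF4.SteinbergCover F →* ↥(chevF4.group F), Function.Surjective θ ∧ Function.Injective θ := by
  have hD : chevF4 ∈ [chevG2, chevB2, chevD4, chevF4, chevE6, chevE7, chevE8] := by simp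
  have hG := good3_of_mem chevF4 hD
  have hkill : ∀ g ∈ chevF4.steinbergRelsAB F, liftX hG.toGood1 g = 1 :=
    fun g hg => liftX_relsAB hG hg
  refine ⟨toChev hG (chevF4.steinbergRelsAB F) hkill, toChev_surjective hG _ hkill, ?_⟩
  rw [injective_iff_map_eq_one]
  intro x hx
  have hc := (toChev_ker_mem hD (chevF4.steinbergRelsAB F) (le_refl _) hkill hx).2
  -- the centre of the presented group is trivial
  obtain ⟨e, _⟩ := cover_equiv (K := F) hD
  have hez : e x ∈ Subgroup.center (chevF4.SteinbergGroup F) := by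
    rw [Subgroup.mem_center_iff] at hc ⊢
    intro g
    obtain ⟨y, rfl⟩ := e.surjective g
    rw [← map_mul, ← map_mul, hc y]
  rw [Cfsg.Agent.S1078.result chevF4 (by simp), Subgroup.mem_bot] at hez
  exact (MulEquiv.map_eq_one_iff e).mp hez

/-- Schur multipliers of the Chevalley groups of type F₄: over a field with q ≥ 3 elements the Schur multiplier of F₄(q) is trivial (here the Schur multiplier is described through stem extensions, as in the definitions); the case q = 2 is exceptional. -/
theorem result {F : Type*} [Field F] [Fintype F] (hF : 3 ≤ Fintype.card F) : Cfsg.HasCyclicSchurMultiplier ↥(Cfsg.Lie.chevF4.group F) 1 := by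
  have hD : Cfsg.Lie.chevF4 ∈ [Cfsg.Lie.chevD4, Cfsg.Lie.chevF4] := by simp
  obtain ⟨θ, hθs, hθi⟩ := exists_iso (F := F)
  have : Finite (Cfsg.Lie.chevF4.SteinbergCover F) := Finite.of_injective θ hθi
  refine Cfsg.Agent.Helper7.Sq.schur_one_of_iso θ hθs hθi
    (Cfsg.Agent.Helper7.Sq.cover_perfect_DF hD) ?_
  intro Γ _ σ hσs hσc
  obtain ⟨τ, hτ, _⟩ := Cfsg.Agent.Helper7.Sq.lift_unique_DF hD hF σ hσs hσc θ
  exact ⟨τ, hτ⟩

end Cfsg.Agent.S2103
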