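import Cfsg.Statements.S0362
-- import your own Cfsg.Agent.* helpers here

set_option autoImplicit false
open Cfsg

namespace Cfsg.Agent.S0362

theorem qr_dot : ∀ s t : ZMod 23, ∑ i, qrWord s i * qrWord t i = 0 := by decide +kernel

theorem qr_dot_one : ∀ s : ZMod 23, ∑ i, qrWord s i * (1 : GolayPt → ZMod 2) i = 0 := by
  decide +kernel

theorem one_dot_one : ∑ i, (1 : GolayPt → ZMod 2) i * (1 : GolayPt → ZMod 2) i = 0 := by
  decide +kernel

/-- The length-24 code is self-orthogonal: the dot product over ZMod 2 of any two of its words vanishes (with dimension 12 this makes it self-dual). -/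
theorem result (v w : Cfsg.GolayPt → ZMod 2) (hv : v ∈ Cfsg.golayCode) (hw : w ∈ Cfsg.golayCode) : ∑ i, v i * w i = 0 := by
  unfold Cfsg.golayCode at hv hw
  induction hv, hw using Submodule.span_induction₂ with
  | mem_mem x y hx hy =>
    rcases hx with ⟨s, rfl⟩ | hx
    · rcases hy with ⟨t, rfl⟩ | hy
      · exact qr_dot s t
      · rw [Set.mem_singleton_iff] at hy
        subst hy
        exact qr_dot_one s
    · rw [Set.mem_singleton_iff] at hx
      subst hx
      rcases hy with ⟨t, rfl⟩ | hy
      · have := qr_dot_one t
        simp only [mul_comm] at this ⊢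
        exact this
      · rw [Set.mem_singleton_iff] at hy
        subst hy
        exact one_dot_one
  | zero_left y hy => simp
  | zero_right x hx => simp
  | add_left x y z hx hy hz h1 h2 =>
    simp only [Pi.add_apply, add_mul, Finset.sum_add_distrib, h1, h2, add_zero]
  | add_right x y z hx hy hz h1 h2 =>
    simp only [Pi.add_apply, mul_add, Finset.sum_add_distrib, h1, h2, add_zero]
  | smul_left r x y hx hy h =>
    simp only [Pi.smul_apply, smul_eq_mul, mul_assoc, ← Finset.mul_sum, h, mul_zero]
  | smul_right r x y hx hy h =>
    have : ∀ i, x i * (r • y) i = r * (x i * y i) := by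
      intro i; simp only [Pi.smul_apply, smul_eq_mul]; ring
    simp only [this, ← Finset.mul_sum, h, mul_zero]

end Cfsg.Agent.S0362
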