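import Mathlib
import Cfsg.Statements.S0288
import Cfsg.Agent.Helper8.OrthAniso
import Cfsg.Agent.Helper8.StdForms
import Cfsg.Agent.S0290

set_option autoImplicit false
open Cfsg

namespace Cfsg.Agent.S0288

open Cfsg.Agent.Helper8.OrthOrder Cfsg.Agent.Helper8.OrthEven Cfsg.Agent.Helper8.OrthAniso
  Cfsg.Agent.Helper8.StdForms

theorem aux {F : Type*} [Field F] [Fintype F] {q : ℕ} (hF : Fintype.card F = q) (k : ℕ) (a b : F)
    (hab : ∀ z₁ z₂ : F, z₁ ^ 2 + a * z₁ * z₂ + b * z₂ ^ 2 = 0 → z₁ = 0 ∧ z₂ = 0) :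
    Nat.card (Cfsg.isometryGroup F (Cfsg.quadFormMinus k F a b))
      = 2 * q ^ ((k + 1) * k) * (q ^ (k + 1) + 1)
        * ∏ i ∈ Finset.range k, (q ^ (2 * (i + 1)) - 1) := by
  have hq : 2 ≤ q := hF ▸ two_le_card (F := F)
  have h0 := Cfsg.Agent.S0290.result hF (k + 1) (by omega) a b hab
  change Nat.card {v : (Fin k ⊕ Fin k) ⊕ Fin 2 → F // Cfsg.quadFormMinus k F a b v = 0}
    = q ^ (2 * (k + 1) - 1) + q ^ k - q ^ (k + 1) at h0
  have hν : Nat.card {v : (Fin k ⊕ Fin k) ⊕ Fin 2 → F // minusForm F k a b v = 0}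
      = q ^ (2 * (k + 1) - 1) + q ^ k - q ^ (k + 1) := by
    rw [← h0]
    apply Nat.card_congr
    apply Equiv.subtypeEquivRight
    intro v
    rw [minusForm_apply]
  rw [card_isometryGroup (minusForm F k a b) (Cfsg.quadFormMinus k F a b)
    (minusForm_apply F k a b)]
  rw [card_Isom_minus k (minusForm F k a b) (minusForm_nondeg F k hab)
    (by rw [finrank_minus F k]; ring), hF]
  rw [hν, hF]
  have e1 : 2 * (k + 1) - 1 = 2 * k + 1 := by omega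
  rw [e1]
  have : q ^ (k + 1) ≤ q ^ (2 * k + 1) := Nat.pow_le_pow_right (by omega) (by omega)
  omega

/-- |GO^-_{2m}(q)| = 2 q^(m(m-1)) (q^m + 1) prod_{i=1}^{m-1} (q^(2i) - 1), m at least 1, all q; the form is quadFormMinus (m-1) with an anisotropic binary part. -/
theorem result {F : Type*} [Field F] [Fintype F] {q : ℕ} (hF : Fintype.card F = q) (m : ℕ) (hm : 1 ≤ m) (a b : F) (hab : ∀ z₁ z₂ : F, z₁ ^ 2 + a * z₁ * z₂ + b * z₂ ^ 2 = 0 → z₁ = 0 ∧ z₂ = 0) : Nat.card (Cfsg.isometryGroup F (Cfsg.quadFormMinus (m - 1) F a b)) = 2 * q ^ (m * (m - 1)) * (q ^ m + 1) * ∏ i ∈ Finset.range (m - 1), (q ^ (2 * (i + 1)) - 1) := by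
  obtain ⟨k, rfl⟩ : ∃ k, m = k + 1 := ⟨m - 1, by omega⟩
  exact aux hF k a b hab

end Cfsg.Agent.S0288
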