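import Mathlib
import Cfsg.Statements.S0276
import Cfsg.Agent.S0243

set_option autoImplicit false
open Cfsg

namespace Cfsg.Agent.S0276

open Matrix

/-- Cayley–Hamilton for a `2 × 2` matrix of determinant one. -/
theorem cayley_two {F : Type*} [Field F] (A : Matrix (Fin 2) (Fin 2) F) (hdet : A.det = 1) :
    A * A = (A 0 0 + A 1 1) • A - 1 := by
  rw [Matrix.det_fin_two] at hdet
  ext i j
  fin_cases i <;> fin_cases j <;>
    simp [Matrix.mul_apply, Fin.sum_univ_two]
  · linear_combination (-1 : F) * hdet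
  · ring
  · ring
  · linear_combination (-1 : F) * hdet

/-- If `2` is not a square, a `2 × 2` matrix of determinant one whose fourth power is `± 1`
squares to `± 1`. -/
theorem sq_eq_of_pow_four {F : Type*} [Field F] (h2 : ¬ IsSquare (2 : F))
    (A : Matrix (Fin 2) (Fin 2) F) (hdet : A.det = 1) (r : F) (hr : r = 1 ∨ r = -1)
    (h4 : A * A * (A * A) = r • (1 : Matrix (Fin 2) (Fin 2) F)) :
    A * A = 1 ∨ A * A = -1 := by
  obtain ⟨t, ht⟩ : ∃ t : F, t = A 0 0 + A 1 1 := ⟨_, rfl⟩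
  have hCH : A * A = t • A - 1 := by rw [ht]; exact cayley_two A hdet
  have ht2 : t ^ 2 - 2 ≠ 0 := by
    intro h
    apply h2
    exact ⟨t, by linear_combination -h⟩
  have hexp : A * A * (A * A) = (t ^ 3 - 2 * t) • A + (1 - t ^ 2) • (1 : Matrix (Fin 2) (Fin 2) F) := by
    have e1 : (t • A - 1) * (t • A - 1) = (t ^ 2) • (A * A) - (2 * t) • A + 1 := by
      rw [sub_mul, mul_sub, mul_sub, smul_mul_assoc, mul_smul_comm, smul_smul, mul_one, one_mul,
        one_mul]
      module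
    rw [hCH, e1, hCH]
    module
  rw [hexp] at h4
  have hdet2 : (A * A).det = 1 := by rw [Matrix.det_mul, hdet, mul_one]
  rcases hr with rfl | rfl
  · -- `r = 1`
    have h5 : (t * (t ^ 2 - 2)) • A = (t ^ 2) • (1 : Matrix (Fin 2) (Fin 2) F) := by
      have : (t * (t ^ 2 - 2)) • A = ((t ^ 3 - 2 * t) • A + (1 - t ^ 2) • (1 : Matrix (Fin 2) (Fin 2) F))
          - (1 - t ^ 2) • (1 : Matrix (Fin 2) (Fin 2) F) := by module
      rw [this, h4]
      module
    by_cases ht0 : t = 0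
    · right
      rw [hCH, ht0, zero_smul, zero_sub]
    · left
      have h6 : A = (t / (t ^ 2 - 2)) • (1 : Matrix (Fin 2) (Fin 2) F) := by
        have : A = (t * (t ^ 2 - 2))⁻¹ • ((t * (t ^ 2 - 2)) • A) := by
          rw [smul_smul, inv_mul_cancel₀ (mul_ne_zero ht0 ht2), one_smul]
        rw [this, h5, smul_smul]
        congr 1
        field_simp
      obtain ⟨l, hl⟩ : ∃ l : F, l = t / (t ^ 2 - 2) := ⟨_, rfl⟩
      rw [← hl] at h6
      have hl2 : l * l = 1 := by
        have := hdet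
        rw [h6, Matrix.det_smul, Matrix.det_one, Fintype.card_fin, mul_one] at this
        rw [← this]; ring
      rw [h6, smul_mul_assoc, mul_smul_comm, smul_smul, hl2, one_smul, one_mul]
  · -- `r = -1` is impossible
    exfalso
    have h5 : (t ^ 2 - 2) • (t • A - 1) = 0 := by
      have : (t ^ 2 - 2) • (t • A - 1) = ((t ^ 3 - 2 * t) • A + (1 - t ^ 2) • (1 : Matrix (Fin 2) (Fin 2) F))
          - (-1 : F) • (1 : Matrix (Fin 2) (Fin 2) F) := by module
      rw [this, h4, sub_self]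
    rw [← hCH] at h5
    have h6 : A * A = 0 := by
      have := congrArg (fun M => (t ^ 2 - 2)⁻¹ • M) h5
      simpa [smul_smul, inv_mul_cancel₀ ht2] using this
    rw [h6, Matrix.det_zero] at hdet2
    exact zero_ne_one hdet2

theorem coe_pow_four {F : Type*} [Field F] (g : Matrix.SpecialLinearGroup (Fin 2) F) :
    ((g ^ 4 : Matrix.SpecialLinearGroup (Fin 2) F) : Matrix (Fin 2) (Fin 2) F) =
      (g : Matrix (Fin 2) (Fin 2) F) * g * (g * g) := by
  have : g ^ 4 = g * g * (g * g) := by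
    rw [show (4 : ℕ) = 2 + 2 from rfl, pow_add, pow_two]
  rw [this]
  rfl

theorem coe_pow_two {F : Type*} [Field F] (g : Matrix.SpecialLinearGroup (Fin 2) F) :
    ((g ^ 2 : Matrix.SpecialLinearGroup (Fin 2) F) : Matrix (Fin 2) (Fin 2) F) =
      (g : Matrix (Fin 2) (Fin 2) F) * g := by
  rw [pow_two]
  rfl

/-- In `PSL₂(F)` with `2` a non-square, `x ^ 4 = 1` implies `x ^ 2 = 1`. -/
theorem sq_eq_one_of_pow_four {F : Type*} [Field F] (h2 : ¬ IsSquare (2 : F))
    (x : Matrix.ProjectiveSpecialLinearGroup (Fin 2) F) (hx : x ^ 4 = 1) : x ^ 2 = 1 := by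
  obtain ⟨g, rfl⟩ := QuotientGroup.mk_surjective x
  rw [← QuotientGroup.mk_pow, QuotientGroup.eq_one_iff,
    Matrix.SpecialLinearGroup.mem_center_iff] at hx ⊢
  obtain ⟨r, hr, hrg⟩ := hx
  have hr' : r = 1 ∨ r = -1 := by
    rw [Fintype.card_fin, pow_two] at hr
    exact mul_self_eq_one_iff.mp hr
  have h4 : (g : Matrix (Fin 2) (Fin 2) F) * g * (g * g) = r • 1 := by
    rw [← coe_pow_four, ← hrg]
    ext i j
    simp [Matrix.scalar_apply, Matrix.diagonal_apply, Matrix.one_apply]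
  rcases sq_eq_of_pow_four h2 (g : Matrix (Fin 2) (Fin 2) F) g.det_coe r hr' h4 with h | h
  · refine ⟨1, by simp, ?_⟩
    rw [coe_pow_two, h]
    simp
  · refine ⟨-1, by simp, ?_⟩
    rw [coe_pow_two, h]
    ext i j
    simp only [Matrix.scalar_apply, Matrix.diagonal_apply, Matrix.neg_apply, Matrix.one_apply]
    split_ifs <;> simp

/-- The order of `PSL₂(q)` for `q ≡ 3, 5 (mod 8)` is four times an odd number. -/
theorem card_PSL2 {F : Type*} [Field F] [Fintype F]
    (hq : Fintype.card F % 8 = 3 ∨ Fintype.card F % 8 = 5) :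
    ∃ m : ℕ, Odd m ∧ Nat.card (Matrix.ProjectiveSpecialLinearGroup (Fin 2) F) = 4 * m := by
  have hcard := Cfsg.Agent.S0243.result (F := F) rfl 2 le_rfl
  rw [Fin.prod_univ_two] at hcard
  simp only [Fin.val_zero, pow_zero, Fin.val_one, pow_one] at hcard
  obtain ⟨q, hqq⟩ : ∃ q, q = Fintype.card F := ⟨_, rfl⟩
  rw [← hqq] at hcard hq
  obtain ⟨N, hN⟩ : ∃ N, N = Nat.card (Matrix.ProjectiveSpecialLinearGroup (Fin 2) F) := ⟨_, rfl⟩
  rw [← hN] at hcard ⊢
  rcases hq with h | h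
  · obtain ⟨k, rfl⟩ : ∃ k, q = 8 * k + 3 := ⟨q / 8, by omega⟩
    have e1 : (8 * k + 3) ^ 2 - 1 = (8 * k + 2) * (8 * k + 4) := by
      apply Nat.sub_eq_of_eq_add; ring
    have e2 : (8 * k + 3) ^ 2 - (8 * k + 3) = (8 * k + 3) * (8 * k + 2) := by
      apply Nat.sub_eq_of_eq_add; ring
    have e3 : 8 * k + 3 - 1 = 8 * k + 2 := by omega
    have e4 : Nat.gcd 2 (8 * k + 2) = 2 := Nat.gcd_eq_left ⟨4 * k + 1, by ring⟩
    rw [e1, e2, e3, e4] at hcard
    refine ⟨(2 * k + 1) * (8 * k + 3) * (4 * k + 1), ?_, ?_⟩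
    · refine Odd.mul (Odd.mul ⟨k, rfl⟩ ⟨4 * k + 1, by ring⟩) ⟨2 * k, by ring⟩
    · have hpos : 0 < 2 * (8 * k + 2) := by omega
      apply Nat.eq_of_mul_eq_mul_left hpos
      rw [mul_assoc 2 _ N, hcard]
      ring
  · obtain ⟨k, rfl⟩ : ∃ k, q = 8 * k + 5 := ⟨q / 8, by omega⟩
    have e1 : (8 * k + 5) ^ 2 - 1 = (8 * k + 4) * (8 * k + 6) := by
      apply Nat.sub_eq_of_eq_add; ring
    have e2 : (8 * k + 5) ^ 2 - (8 * k + 5) = (8 * k + 5) * (8 * k + 4) := by
      apply Nat.sub_eq_of_eq_add; ring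
    have e3 : 8 * k + 5 - 1 = 8 * k + 4 := by omega
    have e4 : Nat.gcd 2 (8 * k + 4) = 2 := Nat.gcd_eq_left ⟨4 * k + 2, by ring⟩
    rw [e1, e2, e3, e4] at hcard
    refine ⟨(4 * k + 3) * (8 * k + 5) * (2 * k + 1), ?_, ?_⟩
    · refine Odd.mul (Odd.mul ⟨2 * k + 1, by ring⟩ ⟨4 * k + 2, by ring⟩) ⟨k, rfl⟩
    · have hpos : 0 < 2 * (8 * k + 4) := by omega
      apply Nat.eq_of_mul_eq_mul_left hpos
      rw [mul_assoc 2 _ N, hcard]
      ring

/-- For q = 3 or 5 mod 8 the Sylow 2-subgroups of PSL_2(q) are elementary abelian of order 4. -/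
theorem result {F : Type*} [Field F] [Fintype F] {q : ℕ} (hF : Fintype.card F = q) (hq : q % 8 = 3 ∨ q % 8 = 5) (P : Sylow 2 (Matrix.ProjectiveSpecialLinearGroup (Fin 2) F)) : IsKleinFour (P : Subgroup (Matrix.ProjectiveSpecialLinearGroup (Fin 2) F)) := by
  subst hF
  have h2 : ¬ IsSquare (2 : F) := by
    rw [FiniteField.isSquare_two_iff]
    intro h
    rcases hq with h3 | h5
    · exact h.1 h3
    · exact h.2 h5
  obtain ⟨m, hm, hN⟩ := card_PSL2 hq
  have hP : Nat.card (P : Subgroup (Matrix.ProjectiveSpecialLinearGroup (Fin 2) F)) = 4 := by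
    have h4 : 2 ^ 2 ∣ Nat.card (P : Subgroup (Matrix.ProjectiveSpecialLinearGroup (Fin 2) F)) := by
      apply Sylow.pow_dvd_card_of_pow_dvd_card
      rw [hN]
      exact Dvd.intro _ rfl
    obtain ⟨n, hn⟩ := IsPGroup.exists_card_eq P.isPGroup'
    have hdvd : Nat.card (P : Subgroup (Matrix.ProjectiveSpecialLinearGroup (Fin 2) F)) ∣ 4 * m := by
      rw [← hN]
      exact Subgroup.card_subgroup_dvd_card _
    rw [hn] at hdvd
    have hcop : Nat.Coprime (2 ^ n) m := by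
      apply Nat.Coprime.pow_left
      rw [Nat.coprime_two_left]
      exact hm
    have := hcop.dvd_of_dvd_mul_right hdvd
    rw [← hn] at this
    exact Nat.dvd_antisymm this h4
  have hexp : ∀ x : (P : Subgroup (Matrix.ProjectiveSpecialLinearGroup (Fin 2) F)), x ^ 2 = 1 := by
    intro x
    have h4 : x ^ 4 = 1 := by rw [← hP]; exact pow_card_eq_one'
    apply Subtype.ext
    have := sq_eq_one_of_pow_four h2 (x : Matrix.ProjectiveSpecialLinearGroup (Fin 2) F)
      (by simpa using congrArg Subtype.val h4)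
    simpa using this
  refine ⟨hP, ?_⟩
  have hd : Monoid.exponent (P : Subgroup (Matrix.ProjectiveSpecialLinearGroup (Fin 2) F)) ∣ 2 :=
    Monoid.exponent_dvd_of_forall_pow_eq_one hexp
  rcases (Nat.dvd_prime Nat.prime_two).mp hd with h1 | h
  · rw [Monoid.exp_eq_one_iff] at h1
    have := Nat.card_eq_one_iff_unique.mpr ⟨h1, ⟨1⟩⟩
    omega
  · exact h

end Cfsg.Agent.S0276
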