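import Cfsg.Statements.S0387
import Cfsg.Agent.Helper9.Golay.M12Trans
import Cfsg.Agent.S0382

set_option autoImplicit false
open scoped Pointwise
open Cfsg

namespace Cfsg.Agent.S0387

/-- The stabiliser of a dodecad and a point on it has order 7920 = 2^4·3^2·5·11. -/
theorem result (d : Finset Cfsg.GolayPt) (hd : d ∈ Cfsg.dodecads) (p : Cfsg.GolayPt) (hp : p ∈ d) : Nat.card ↥(MulAction.stabilizer Cfsg.M24 d ⊓ MulAction.stabilizer Cfsg.M24 p) = 7920 := by
  have hos := Cfsg.Agent.Helper9.Golay.card_eq_orbit_mul (MulAction.stabilizer Cfsg.M24 d) p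
  rw [Cfsg.Agent.S0382.result d hd] at hos
  have horb : MulAction.orbit (MulAction.stabilizer Cfsg.M24 d) p = (d : Set Cfsg.GolayPt) := by
    ext a
    constructor
    · rintro ⟨g, rfl⟩
      have hg : (g : Cfsg.M24) • d = d := g.2
      have : (g : Cfsg.M24) • p ∈ (g : Cfsg.M24) • d := Finset.smul_mem_smul_finset hp
      rw [hg] at this
      exact this
    · intro ha
      obtain ⟨g, hg, hgd, hga⟩ := Cfsg.Agent.Helper9.Golay.dodecad_trans_pt hd hp ha
      exact ⟨⟨⟨g, hg⟩, hgd⟩, hga⟩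
  rw [horb, Set.ncard_coe_finset, hd.2] at hos
  omega

end Cfsg.Agent.S0387
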