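import Cfsg.Statements.S0384
import Cfsg.Agent.Helper9.Golay.M12Trans
import Cfsg.Agent.S0382

set_option autoImplicit false
open scoped Pointwise
open Cfsg

namespace Cfsg.Agent.S0384

/-- A dodecad stabiliser is sharply 5-transitive on the dodecad. -/
theorem result (d : Finset Cfsg.GolayPt) (hd : d ∈ Cfsg.dodecads) (x y : Fin 5 ↪ Cfsg.GolayPt) (hx : ∀ i, x i ∈ d) (hy : ∀ i, y i ∈ d) : ∃! g : MulAction.stabilizer Cfsg.M24 d, ∀ i, ((g : Cfsg.M24) : Equiv.Perm Cfsg.GolayPt) (x i) = y i := by
  classical
  -- the type of injective 5-tuples in `d`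
  let E := {z : Fin 5 ↪ Cfsg.GolayPt // ∀ i, z i ∈ d}
  have hE : Nat.card E = 95040 := by
    have e : E ≃ (Fin 5 ↪ ↥d) :=
      { toFun := fun z => ⟨fun i => ⟨z.1 i, z.2 i⟩, fun i j h => z.1.injective (Subtype.ext_iff.mp h)⟩
        invFun := fun w => ⟨w.trans (Function.Embedding.subtype _), fun i => (w i).2⟩
        left_inv := fun z => by
          apply Subtype.ext
          apply Function.Embedding.ext
          intro i
          rfl
        right_inv := fun w => by
          apply Function.Embedding.ext
          intro i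
          rfl }
    rw [Nat.card_congr e, Nat.card_eq_fintype_card, Fintype.card_embedding_eq, Fintype.card_coe,
      hd.2, Fintype.card_fin]
    decide
  have hG : Nat.card (MulAction.stabilizer Cfsg.M24 d) = 95040 := Cfsg.Agent.S0382.result d hd
  -- the map from the stabilizer to the tuples
  let φ : MulAction.stabilizer Cfsg.M24 d → E := fun g =>
    ⟨x.trans (Equiv.toEmbedding ((g : Cfsg.M24) : Equiv.Perm Cfsg.GolayPt)), fun i => by
      have hg : (g : Cfsg.M24) • d = d := g.2
      have : (g : Cfsg.M24) • (x i) ∈ (g : Cfsg.M24) • d := Finset.smul_mem_smul_finset (hx i)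
      rw [hg] at this
      exact this⟩
  have hsurj : Function.Surjective φ := by
    intro z
    obtain ⟨g, hg, hgd, hgx⟩ := Cfsg.Agent.Helper9.Golay.dodecad_five_trans hd x z.1 hx z.2
    refine ⟨⟨⟨g, hg⟩, hgd⟩, ?_⟩
    apply Subtype.ext
    apply Function.Embedding.ext
    intro i
    exact hgx i
  have hbij : Function.Bijective φ :=
    hsurj.bijective_of_nat_card_le (by rw [hG, hE])
  obtain ⟨g, hg⟩ := hsurj ⟨y, hy⟩
  refine ⟨g, ?_, ?_⟩
  · intro i
    have := congrArg (fun z : E => z.1 i) hg
    exact this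
  · intro g' hg'
    apply hbij.1
    rw [hg]
    apply Subtype.ext
    apply Function.Embedding.ext
    intro i
    exact hg' i

end Cfsg.Agent.S0384
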