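import Cfsg.Statements.S4219
import Cfsg.Agent.Helper4.SylowConjIn

set_option autoImplicit false
open Cfsg

namespace Cfsg.Agent.S4219

/-- Let a finite group `G` act `t`-fold transitively on a finite set, let `H` be the stabilizer of `t` distinct points and `P` a Sylow `p`-subgroup of `H`. Then the normalizer of `P` in `G` is `t`-fold transitive on the fixed points of `P`: any `t` distinct fixed points of `P` can be carried to any other `t` distinct fixed points of `P` by an element normalizing `P`. -/
theorem result {G : Type*} [Group G] [Finite G] {α : Type*} [Fintype α] [MulAction G α] {t : ℕ} (hG : MulAction.IsMultiplyPretransitive G α t) (x : Fin t ↪ α) {p : ℕ} [Fact p.Prime] (P : Sylow p (MulAction.stabilizer G x)) (a b : Fin t ↪ α) (ha : ∀ i, a i ∈ MulAction.fixedPoints ((P : Subgroup (MulAction.stabilizer G x)).map (MulAction.stabilizer G x).subtype) α) (hb : ∀ i, b i ∈ MulAction.fixedPoints ((P : Subgroup (MulAction.stabilizer G x)).map (MulAction.stabilizer G x).subtype) α) : ∃ g ∈ Subgroup.normalizer ((((P : Subgroup (MulAction.stabilizer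 G x)).map (MulAction.stabilizer G x).subtype) : Subgroup G) : Set G), g • a = b := by
  classical
  obtain ⟨Q, hQ⟩ : ∃ Q : Subgroup G, Q = (P : Subgroup (MulAction.stabilizer G x)).map
      (MulAction.stabilizer G x).subtype := ⟨_, rfl⟩
  rw [← hQ] at ha hb ⊢
  have hQa : Q ≤ MulAction.stabilizer G a := by
    intro g hg
    rw [MulAction.mem_stabilizer_iff]
    ext i
    rw [Function.Embedding.smul_apply]
    exact (ha i) ⟨g, hg⟩
  have hQb : Q ≤ MulAction.stabilizer G b := by
    intro g hg
    rw [MulAction.mem_stabilizer_iff]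
    ext i
    rw [Function.Embedding.smul_apply]
    exact (hb i) ⟨g, hg⟩
  have := hG
  obtain ⟨g₀, hg₀⟩ := MulAction.exists_smul_eq G a b
  obtain ⟨k, hk⟩ := MulAction.exists_smul_eq G x b
  have hcard : Nat.card (MulAction.stabilizer G b) = Nat.card (MulAction.stabilizer G x) := by
    rw [← hk, MulAction.stabilizer_smul_eq_stabilizer_map_conj]
    exact Subgroup.card_map_of_injective (MulAut.conj k).injective
  have hQcard : Nat.card Q = p ^ (Nat.card (MulAction.stabilizer G b)).factorization p := by
    rw [hcard, hQ, Subgroup.card_map_of_injective (MulAction.stabilizer G x).subtype_injective]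
    exact P.card_eq_multiplicity
  set Q' : Subgroup G := Q.map (MulAut.conj g₀).toMonoidHom with hQ'
  have hQ'b : Q' ≤ MulAction.stabilizer G b := by
    rintro _ ⟨y, hy, rfl⟩
    rw [MulAction.mem_stabilizer_iff]
    have hya : y • a = a := hQa hy
    change (g₀ * y * g₀⁻¹) • b = b
    rw [← hg₀, ← mul_smul, inv_mul_cancel_right, mul_smul, hya]
  have hQ'card : Nat.card Q' = p ^ (Nat.card (MulAction.stabilizer G b)).factorization p := by
    rw [hQ', Subgroup.card_map_of_injective (MulAut.conj g₀).injective]
    exact hQcard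
  obtain ⟨h, hhb, hh⟩ := Cfsg.Agent.Helper4.exists_conj_of_card_eq_ppart
    (MulAction.stabilizer G b) Q' Q hQ'b hQb hQ'card hQcard
  refine ⟨h * g₀, ?_, ?_⟩
  · apply Subgroup.mem_normalizer_fintype
    intro y hy
    change h * g₀ * y * (h * g₀)⁻¹ ∈ Q
    rw [hh]
    refine ⟨y, hy, ?_⟩
    change g₀ * y * g₀⁻¹ = _
    group
  · rw [mul_smul, hg₀]
    exact hhb

end Cfsg.Agent.S4219
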