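import Mathlib
import Cfsg.Statements.S1012
import Cfsg.Agent.Helper2.FixCoset
import Cfsg.Agent.Helper2.SmallOrder
import Cfsg.Agent.Helper2.SylowExact

set_option autoImplicit false
open Cfsg

namespace Cfsg.Agent.S1012

open Cfsg.Agent.Helper2

/-- A group of order 24 containing no element of order 6 is isomorphic to the symmetric group of degree 4. -/
theorem result {G : Type*} [Group G] [Finite G] (h : Nat.card G = 24) (h6 : ∀ g : G, orderOf g ≠ 6) : Nonempty (G ≃* Equiv.Perm (Fin 4)) := by
    have hfp : Fact (Nat.Prime 3) := ⟨by norm_num⟩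
    have hfp2 : Fact (Nat.Prime 2) := ⟨by norm_num⟩
    have hno : ∀ z x : G, orderOf z = 2 → orderOf x = 3 → Commute z x → False := by
      intro z x hz hx hc
      have := hc.orderOf_mul_eq_mul_orderOf_of_coprime (by rw [hz, hx]; decide)
      rw [hz, hx] at this
      exact h6 _ this
    let P : Sylow 3 G := default
    have hPcard : Nat.card P = 3 :=
      SylowExact.card_sylow_of_exact (m := 8) (by rw [h]) (by norm_num) P
    obtain ⟨x, hx⟩ := exists_prime_orderOf_dvd_card' 3
      (show 3 ∣ Nat.card (P : Subgroup G) by rw [hPcard])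
    have hxo : orderOf (x : G) = 3 := by rw [Subgroup.orderOf_coe]; exact hx
    have hNS := SmallOrder.card_normalizer_mul_card_sylow P
    rw [h] at hNS
    -- n_3 = 4
    have hn3 : Nat.card (Sylow 3 G) = 4 := by
      have hidx : (P : Subgroup G).index = 8 := by
        have h1 := (P : Subgroup G).card_mul_index
        rw [hPcard, h] at h1; omega
      have hdvd : Nat.card (Sylow 3 G) ∣ 8 := hidx ▸ Sylow.card_dvd_index P
      have hmod : Nat.card (Sylow 3 G) % 3 = 1 % 3 := card_sylow_modEq_one 3 G
      have hmem : Nat.card (Sylow 3 G) ∈ Nat.divisors 8 := Nat.mem_divisors.mpr ⟨hdvd, by norm_num⟩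
      have hdiv : Nat.divisors 8 = {1, 2, 4, 8} := by decide
      rw [hdiv] at hmem
      simp only [Finset.mem_insert, Finset.mem_singleton] at hmem
      rcases hmem with h1 | h1 | h1 | h1
      · exfalso
        rw [h1, mul_one] at hNS
        have hfp' : Fact (Nat.card (P : Subgroup G)).Prime := by rw [hPcard]; exact hfp
        have hPc : IsCyclic (P : Subgroup G) := isCyclic_of_prime_card rfl
        have hrel := SmallOrder.relIndex_centralizer_normalizer_dvd (P : Subgroup G) hPc
        rw [hPcard] at hrel
        have ht : Nat.totient 3 = 2 := by decide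
        rw [ht] at hrel
        have hCN : Subgroup.centralizer ((P : Subgroup G) : Set G) ≤
            Subgroup.normalizer ((P : Subgroup G) : Set G) := Subgroup.centralizer_le_normalizer _
        have hmul := Subgroup.relIndex_mul_relIndex _ _ _
          (bot_le (a := Subgroup.centralizer ((P : Subgroup G) : Set G))) hCN
        rw [Subgroup.relIndex_bot_left, Subgroup.relIndex_bot_left, hNS] at hmul
        have h2C : 2 ∣ Nat.card (Subgroup.centralizer ((P : Subgroup G) : Set G)) := by
          have hle := Nat.le_of_dvd (by norm_num) hrel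
          have hpos : 0 < (Subgroup.centralizer ((P : Subgroup G) : Set G)).relIndex
              (Subgroup.normalizer ((P : Subgroup G) : Set G)) := by
            rcases Nat.eq_zero_or_pos ((Subgroup.centralizer ((P : Subgroup G) : Set G)).relIndex
              (Subgroup.normalizer ((P : Subgroup G) : Set G))) with h0 | h0
            · rw [h0, mul_zero] at hmul; omega
            · exact h0
          have : (Subgroup.centralizer ((P : Subgroup G) : Set G)).relIndex
              (Subgroup.normalizer ((P : Subgroup G) : Set G)) = 1 ∨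
              (Subgroup.centralizer ((P : Subgroup G) : Set G)).relIndex
              (Subgroup.normalizer ((P : Subgroup G) : Set G)) = 2 := by omega
          rcases this with h3 | h3 <;> rw [h3] at hmul <;> omega
        obtain ⟨z, hz⟩ := exists_prime_orderOf_dvd_card' 2 h2C
        have hzo : orderOf (z : G) = 2 := by rw [Subgroup.orderOf_coe]; exact hz
        apply hno (z : G) (x : G) hzo hxo
        exact (Subgroup.mem_centralizer_iff.mp z.2 (x : G) x.2).symm
      · rw [h1] at hmod; omega
      · exact h1
      · rw [h1] at hmod; omega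
    -- the action on Sylow 3-subgroups
    set φ := MulAction.toPermHom G (Sylow 3 G) with hφ
    have hKN : ∀ k ∈ φ.ker, ∀ Q : Sylow 3 G, k ∈ Subgroup.normalizer ((Q : Subgroup G) : Set G) := by
      intro k hk Q
      rw [MonoidHom.mem_ker] at hk
      have h1 : φ k Q = Q := by rw [hk]; rfl
      exact Sylow.smul_eq_iff_mem_normalizer.mp h1
    -- no element of order 3 in the kernel
    have hK3 : ∀ y ∈ φ.ker, orderOf y ≠ 3 := by
      intro y hy hyo
      have hall : ∀ Q : Sylow 3 G, (Q : Subgroup G) = Subgroup.zpowers y := by
        intro Q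
        have hyQ := FixCoset.mem_sylow_of_mem_normalizer Q y
          (FixCoset.isPGroup_zpowers_of_orderOf y hyo) (hKN y hy Q)
        have hQcard : Nat.card Q = 3 :=
          SylowExact.card_sylow_of_exact (m := 8) (by rw [h]) (by norm_num) Q
        symm
        apply Subgroup.eq_of_le_of_card_ge (Subgroup.zpowers_le.mpr hyQ)
        rw [Nat.card_zpowers, hyo, hQcard]
      have hsub : Subsingleton (Sylow 3 G) := ⟨fun Q1 Q2 => Sylow.ext ((hall Q1).trans (hall Q2).symm)⟩
      have : Nat.card (Sylow 3 G) ≤ 1 := Finite.card_le_one_iff_subsingleton.mpr hsub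
      omega
    have hN6 : Nat.card (Subgroup.normalizer ((P : Subgroup G) : Set G)) = 6 := by
      rw [hn3] at hNS; omega
    have hKd6 : Nat.card φ.ker ∣ 6 := by
      rw [← hN6]
      exact Subgroup.card_dvd_of_le (fun k hk => hKN k hk P)
    have hK3' : ¬ 3 ∣ Nat.card φ.ker := by
      intro hd
      obtain ⟨y, hy⟩ := exists_prime_orderOf_dvd_card' 3 hd
      exact hK3 (y : G) y.2 (by rw [Subgroup.orderOf_coe]; exact hy)
    have hKd2 : Nat.card φ.ker ∣ 2 := by
      have hc : Nat.Coprime (Nat.card φ.ker) 3 :=
        (Nat.Coprime.symm ((Nat.Prime.coprime_iff_not_dvd (by norm_num)).mpr hK3'))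
      exact Nat.Coprime.dvd_of_dvd_mul_right hc (show Nat.card φ.ker ∣ 2 * 3 from hKd6)
    have hK1 : Nat.card φ.ker = 1 := by
      rcases (Nat.dvd_prime Nat.prime_two).mp hKd2 with h1 | h2
      · exact h1
      · exfalso
        obtain ⟨z, hz⟩ := exists_prime_orderOf_dvd_card' 2 (show 2 ∣ Nat.card φ.ker by rw [h2])
        have hzo : orderOf (z : G) = 2 := by rw [Subgroup.orderOf_coe]; exact hz
        have hz1 : z ≠ 1 := by
          intro h1; rw [h1, orderOf_one] at hz; omega
        obtain ⟨w, hw, huniq⟩ := (Nat.card_eq_two_iff' (1 : φ.ker)).mp h2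
        have hcent : ∀ g : G, g * (z : G) * g⁻¹ = (z : G) := by
          intro g
          have hmem : g * (z : G) * g⁻¹ ∈ φ.ker := (MonoidHom.normal_ker φ).conj_mem _ z.2 g
          have hne : (⟨g * (z : G) * g⁻¹, hmem⟩ : φ.ker) ≠ 1 := by
            intro h1
            apply hz1
            have h3 : g * (z : G) * g⁻¹ = 1 := congrArg Subtype.val h1
            have h4 : (z : G) = g⁻¹ * (g * (z : G) * g⁻¹) * g := by group
            rw [h3] at h4
            apply Subtype.ext
            rw [h4]; simp
          have e1 := huniq _ hne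
          have e2 := huniq z hz1
          have := e1.trans e2.symm
          exact congrArg Subtype.val this
        apply hno (z : G) (x : G) hzo hxo
        have := hcent (x : G)
        show (z : G) * (x : G) = (x : G) * (z : G)
        calc (z : G) * (x : G) = ((x : G) * (z : G) * (x : G)⁻¹) * (x : G) := by rw [this]
          _ = (x : G) * (z : G) := by group
    have hKbot : φ.ker = ⊥ := Subgroup.card_eq_one.mp hK1
    have hinj : Function.Injective φ := (MonoidHom.ker_eq_bot_iff φ).mp hKbot
    have hbij : Function.Bijective φ := by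
      rw [Nat.bijective_iff_injective_and_card]
      refine ⟨hinj, ?_⟩
      rw [Nat.card_perm, hn3, h]; rfl
    exact ⟨(MulEquiv.ofBijective φ hbij).trans (Equiv.permCongrHom (Finite.equivFinOfCardEq hn3))⟩

end Cfsg.Agent.S1012
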