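import Mathlib
import Cfsg.Statements.S5356
import Cfsg.Agent.Helper3.TTE
-- import your own Cfsg.Agent.* helpers here

set_option autoImplicit false
open Cfsg

namespace Cfsg.Agent.S5356

open Cfsg.Agent.Helper3.TT

theorem commute_conj_iff {G : Type*} [Group G] (g x y : G) :
    Commute (g * x * g⁻¹) (g * y * g⁻¹) ↔ Commute x y := by
  constructor
  · intro h
    have h1 := h.eq
    show x * y = y * x
    calc x * y = g⁻¹ * ((g * x * g⁻¹) * (g * y * g⁻¹)) * g := by group
      _ = g⁻¹ * ((g * y * g⁻¹) * (g * x * g⁻¹)) * g := by rw [h1]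
      _ = y * x := by group
  · intro h
    have h1 := h.eq
    show g * x * g⁻¹ * (g * y * g⁻¹) = g * y * g⁻¹ * (g * x * g⁻¹)
    calc g * x * g⁻¹ * (g * y * g⁻¹) = g * (x * y) * g⁻¹ := by group
      _ = g * (y * x) * g⁻¹ := by rw [h1]
      _ = g * y * g⁻¹ * (g * x * g⁻¹) := by group

/-- Let D be a conjugacy class of 3-transpositions generating the finite group G, with at least two members, and d a member of D such that every member of D commuting with d commutes with exactly the same members of D as d. Then there is a Sylow 3-subgroup P of G normalized by d such that G is generated by d, P and the largest normal 2-subgroup of G. -/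
theorem result {G : Type*} [Group G] [Finite G] {D : Set G} (hD : Cfsg.IsThreeTranspositionClass D) (hD2 : ∃ a ∈ D, ∃ b ∈ D, a ≠ b) {d : G} (hd : d ∈ D) (hV : {y : G | y ∈ D ∧ Commute d y} = {v : G | v ∈ D ∧ ∀ e ∈ D, Commute v e ↔ Commute d e}) : ∃ P : Sylow 3 G, d ∈ Subgroup.normalizer (P : Set G) ∧ Subgroup.zpowers d ⊔ (P : Subgroup G) ⊔ Cfsg.pCore 2 G = ⊤ := by
  obtain ⟨htt, ⟨d0, hd0, hDeq⟩, hgen⟩ := hD
  -- every member of `D` is a conjugate of `d`
  have hconjd : ∀ a ∈ D, ∃ g : G, a = g * d * g⁻¹ := by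
    intro a ha
    rw [hDeq] at ha hd
    have ha' : IsConj d0 a := ha
    have hd' : IsConj d0 d := hd
    obtain ⟨g, hg⟩ := isConj_iff.mp (hd'.symm.trans ha')
    exact ⟨g, hg.symm⟩
  have hconj : ∀ g : G, ∀ a ∈ D, g * a * g⁻¹ ∈ D := by
    intro g a ha
    rw [hDeq] at ha ⊢
    have ha' : IsConj d0 a := ha
    show IsConj d0 (g * a * g⁻¹)
    exact ha'.trans (isConj_iff.mpr ⟨g, rfl⟩)
  have heqv : ∀ a ∈ D, ∀ b ∈ D, Commute a b → ∀ e ∈ D, (Commute b e ↔ Commute a e) := by
    intro a ha b hb hab e he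
    obtain ⟨g, rfl⟩ := hconjd a ha
    -- conjugate back by g⁻¹
    have hb' : g⁻¹ * b * g ∈ D := by
      have := hconj g⁻¹ b hb
      rwa [inv_inv] at this
    have he' : g⁻¹ * e * g ∈ D := by
      have := hconj g⁻¹ e he
      rwa [inv_inv] at this
    have hbe : b = g * (g⁻¹ * b * g) * g⁻¹ := by group
    have hee : e = g * (g⁻¹ * e * g) * g⁻¹ := by group
    have h1 : Commute d (g⁻¹ * b * g) := by
      rw [hbe] at hab
      exact (commute_conj_iff g d _).mp hab
    have h2 : g⁻¹ * b * g ∈ {v : G | v ∈ D ∧ ∀ e ∈ D, Commute v e ↔ Commute d e} := by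
      rw [← hV]; exact ⟨hb', h1⟩
    have h3 := h2.2 _ he'
    rw [hbe, hee, commute_conj_iff, commute_conj_iff]
    have : g * (g⁻¹ * (g * (g⁻¹ * e * g) * g⁻¹) * g) * g⁻¹ = g * (g⁻¹ * e * g) * g⁻¹ := by group
    simpa using h3
  have H : Hyp D := ⟨htt, hconj, hgen, heqv⟩
  exact main H hd hconjd


end Cfsg.Agent.S5356
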