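import Mathlib
import Cfsg.Statements.S3276
import Cfsg.Agent.Helper2.Invol
import Cfsg.Agent.S0208
import Cfsg.Agent.S0209

set_option autoImplicit false
open Cfsg

namespace Cfsg.Agent.S3276

open Cfsg.Agent.Helper2

/-- Let x and y be commuting, non-conjugate involutions of a finite group G, and suppose that for every involution u commuting with x, each conjugate of y that commutes with u also commutes with y. Then the normal closure of y is a proper, normal, elementary abelian 2-subgroup of G; and if y is the only involution of that normal closure commuting with x, it has order at most 4. -/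
theorem result {G : Type*} [Group G] [Finite G] (x y : G) (hx : orderOf x = 2) (hy : orderOf y = 2)
    (hxy : Commute x y) (hnc : ¬ IsConj x y)
    (hstar : ∀ u : G, orderOf u = 2 → Commute u x → ∀ g : G, Commute (g * y * g⁻¹) u → Commute (g * y * g⁻¹) y) :
    Subgroup.normalClosure ({y} : Set G) ≠ ⊤ ∧ Cfsg.IsElementaryAbelian 2 (Subgroup.normalClosure ({y} : Set G)) ∧
      ((∀ u ∈ Subgroup.normalClosure ({y} : Set G), orderOf u = 2 → Commute u x → u = y) →
        Nat.card ↥(Subgroup.normalClosure ({y} : Set G)) ≤ 4) := by
    classical
    have hxx := mul_self_of_orderOf_two hx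
    have hyy := mul_self_of_orderOf_two hy
    have hx1 := ne_one_of_orderOf_two hx
    -- Step 1
    have h1 : ∀ g : G, Commute (g * y * g⁻¹) y := by
      intro g
      have hy'o : orderOf (g * y * g⁻¹) = 2 := by
        have : g * y * g⁻¹ = MulAut.conj g y := by simp
        rw [this, MulEquiv.orderOf_eq]; exact hy
      by_cases hodd : Odd (orderOf (x * (g * y * g⁻¹)))
      · exfalso
        obtain ⟨d, _, hd⟩ := Cfsg.Agent.S0208.result x (g * y * g⁻¹) hx hy'o hodd
        apply hnc
        rw [isConj_iff]
        refine ⟨g⁻¹ * d, ?_⟩
        calc g⁻¹ * d * x * (g⁻¹ * d)⁻¹ = g⁻¹ * (d * x * d⁻¹) * g := by group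
          _ = g⁻¹ * (g * y * g⁻¹) * g := by rw [hd]
          _ = y := by group
      · have heven : Even (orderOf (x * (g * y * g⁻¹))) := Nat.not_odd_iff_even.mp hodd
        obtain ⟨hu, hux, huy⟩ := Cfsg.Agent.S0209.result x (g * y * g⁻¹) hx hy'o heven
        exact hstar _ hu hux g huy.symm
    -- Step 2
    have h2 : ∀ a b : G, Commute (a * y * a⁻¹) (b * y * b⁻¹) := by
      intro a b
      have h := (h1 (a⁻¹ * b)).symm
      have h' := h.conj a
      have e : a * (a⁻¹ * b * y * (a⁻¹ * b)⁻¹) * a⁻¹ = b * y * b⁻¹ := by group
      rwa [e] at h'
    set N := Subgroup.normalClosure ({y} : Set G) with hN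
    have hgen : ∀ c ∈ Group.conjugatesOfSet ({y} : Set G), ∃ a : G, c = a * y * a⁻¹ := by
      intro c hc
      rw [Group.mem_conjugatesOfSet_iff] at hc
      obtain ⟨b, hb, hbc⟩ := hc
      rw [Set.mem_singleton_iff] at hb
      subst hb
      rw [isConj_iff] at hbc
      obtain ⟨a, ha⟩ := hbc
      exact ⟨a, ha.symm⟩
    -- commutativity
    have hc1 : ∀ c ∈ Group.conjugatesOfSet ({y} : Set G), ∀ n ∈ N, c * n = n * c := by
      intro c hc n hn
      obtain ⟨a, rfl⟩ := hgen c hc
      induction hn using Subgroup.closure_induction with
      | mem z hz =>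
        obtain ⟨b, rfl⟩ := hgen z hz
        exact h2 a b
      | one => rw [mul_one, one_mul]
      | mul z w _ _ ihz ihw => rw [← mul_assoc, ihz, mul_assoc, ihw, ← mul_assoc]
      | inv z _ ih =>
        have : Commute (a * y * a⁻¹) z := ih
        exact this.inv_right
    have hc2 : ∀ m ∈ N, ∀ n ∈ N, m * n = n * m := by
      intro m hm n hn
      induction hm using Subgroup.closure_induction with
      | mem z hz => exact hc1 z hz n hn
      | one => rw [mul_one, one_mul]
      | mul z w _ _ ihz ihw => rw [mul_assoc, ihw, ← mul_assoc, ihz, mul_assoc]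
      | inv z _ ih =>
        have : Commute z n := ih
        exact this.inv_left
    have hexp : ∀ n ∈ N, n ^ 2 = 1 := by
      intro n hn
      induction hn using Subgroup.closure_induction with
      | mem z hz =>
        obtain ⟨a, rfl⟩ := hgen z hz
        rw [pow_two]
        calc a * y * a⁻¹ * (a * y * a⁻¹) = a * (y * y) * a⁻¹ := by group
          _ = 1 := by rw [hyy]; group
      | one => exact one_pow 2
      | mul z w hz hw ihz ihw =>
        have hcomm : Commute z w := hc2 z hz w hw
        rw [hcomm.mul_pow, ihz, ihw, one_mul]
      | inv z _ ih => rw [inv_pow, ih, inv_one]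
    have hyN : y ∈ N := Subgroup.subset_normalClosure (Set.mem_singleton y)
    refine ⟨?_, ⟨⟨⟨fun a b => Subtype.ext (hc2 a.1 a.2 b.1 b.2)⟩⟩, hexp⟩, ?_⟩
    · -- proper
      intro htop
      have hall : ∀ a b : G, a * b = b * a := fun a b =>
        hc2 a (htop ▸ Subgroup.mem_top a) b (htop ▸ Subgroup.mem_top b)
      have hcs : Group.conjugatesOfSet ({y} : Set G) = {y} := by
        ext c
        constructor
        · intro hc
          obtain ⟨a, rfl⟩ := hgen c hc
          rw [Set.mem_singleton_iff, hall a y, mul_assoc, mul_inv_cancel, mul_one]
        · intro hc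
          rw [Set.mem_singleton_iff] at hc
          subst hc
          exact Group.subset_conjugatesOfSet (Set.mem_singleton _)
      have hxN : x ∈ Subgroup.closure ({y} : Set G) := by
        have : x ∈ N := htop ▸ Subgroup.mem_top x
        rw [hN, Subgroup.normalClosure, hcs] at this
        exact this
      rw [Subgroup.mem_closure_singleton] at hxN
      obtain ⟨k, hk⟩ := hxN
      have hk2 : y ^ (k % ((orderOf y : ℕ) : ℤ)) = y ^ k := zpow_mod_orderOf y k
      rw [hy] at hk2
      have hxy' : x = y := by
        rcases Int.emod_two_eq_zero_or_one k with h0 | h0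
        · rw [show ((2 : ℕ) : ℤ) = 2 from rfl, h0, zpow_zero] at hk2
          exact absurd (hk ▸ hk2.symm) hx1
        · rw [show ((2 : ℕ) : ℤ) = 2 from rfl, h0, zpow_one] at hk2
          rw [← hk, ← hk2]
      exact hnc (hxy' ▸ IsConj.refl x)
    · -- order at most 4
      intro huniq
      have hNn : N.Normal := Subgroup.normalClosure_normal
      have hinvN : ∀ n ∈ N, n⁻¹ = n := by
        intro n hn
        have := hexp n hn
        rw [pow_two] at this
        exact inv_eq_of_mul_eq_one_left this
      have hxinv : x⁻¹ = x := inv_eq_self_of_orderOf_two hx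
      let φ : ↥N →* ↥N :=
        { toFun := fun n => ⟨(n : G) * (x * n * x⁻¹), mul_mem n.2 (hNn.conj_mem n.1 n.2 x)⟩
          map_one' := by
            apply Subtype.ext
            show (1 : G) * (x * 1 * x⁻¹) = 1
            group
          map_mul' := by
            intro a b
            apply Subtype.ext
            show (a : G) * b * (x * (a * b) * x⁻¹) = (a : G) * (x * a * x⁻¹) * (b * (x * b * x⁻¹))
            have hcomm : (b : G) * (x * a * x⁻¹) = (x * a * x⁻¹) * b :=
              hc2 _ b.2 _ (hNn.conj_mem a.1 a.2 x)
            calc (a : G) * b * (x * (a * b) * x⁻¹) = a * (b * (x * a * x⁻¹)) * (x * b * x⁻¹) := by group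
              _ = a * ((x * a * x⁻¹) * b) * (x * b * x⁻¹) := by rw [hcomm]
              _ = _ := by group }
      let C : Subgroup ↥N :=
        { carrier := {u | Commute (u : G) x}
          mul_mem' := fun {a b} ha hb => by
            show Commute ((a : G) * b) x
            exact Commute.mul_left ha hb
          one_mem' := Commute.one_left x
          inv_mem' := fun {a} ha => by
            show Commute ((a : G)⁻¹) x
            exact Commute.inv_left ha }
      have hCle : Nat.card C ≤ 2 := by
        have hC12 : ∀ u : C, (u : ↥N) = 1 ∨ ((u : ↥N) : G) = y := by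
          intro u
          by_cases h1' : (u : ↥N) = 1
          · exact Or.inl h1'
          · right
            have hu1 : ((u : ↥N) : G) ≠ 1 := fun h => h1' (Subtype.ext h)
            have huu : ((u : ↥N) : G) * ((u : ↥N) : G) = 1 := by
              rw [← pow_two]; exact hexp _ (u : ↥N).2
            exact huniq _ (u : ↥N).2 (orderOf_two_of_mul_self huu hu1) u.2
        let f : C → Bool := fun u => decide ((u : ↥N) = 1)
        have hf : Function.Injective f := by
          intro u v huv
          apply Subtype.ext
          by_cases hu : (u : ↥N) = 1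
          · have : decide ((v : ↥N) = 1) = true := by
              have h' : decide ((u : ↥N) = 1) = true := decide_eq_true hu
              exact (show decide ((u : ↥N) = 1) = decide ((v : ↥N) = 1) from huv) ▸ h'
            rw [hu, of_decide_eq_true this]
          · have hv : ¬ (v : ↥N) = 1 := by
              intro hv
              have h' : decide ((v : ↥N) = 1) = true := decide_eq_true hv
              have : decide ((u : ↥N) = 1) = true :=
                (show decide ((u : ↥N) = 1) = decide ((v : ↥N) = 1) from huv).symm ▸ h'
              exact hu (of_decide_eq_true this)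
            have hu' := (hC12 u).resolve_left hu
            have hv' := (hC12 v).resolve_left hv
            exact Subtype.ext (hu'.trans hv'.symm)
        have := Nat.card_le_card_of_injective f hf
        have hb : Nat.card Bool = 2 := by rw [Nat.card_eq_fintype_card, Fintype.card_bool]
        rwa [hb] at this
      have hker : φ.ker ≤ C := by
        intro n hn
        rw [MonoidHom.mem_ker] at hn
        have h' : (n : G) * (x * n * x⁻¹) = 1 := congrArg Subtype.val hn
        have h'' : x * n * x⁻¹ = (n : G) := by
          have : x * n * x⁻¹ = (n : G)⁻¹ := (inv_eq_of_mul_eq_one_right h').symm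
          rw [this, hinvN _ n.2]
        show Commute (n : G) x
        have : x * n = n * x := by
          calc x * n = x * n * x⁻¹ * x := by group
            _ = n * x := by rw [h'']
        exact this.symm
      have hrange : φ.range ≤ C := by
        rintro _ ⟨n, rfl⟩
        show Commute ((n : G) * (x * n * x⁻¹)) x
        have hcomm : (n : G) * (x * n * x⁻¹) = (x * n * x⁻¹) * n :=
          hc2 _ n.2 _ (hNn.conj_mem n.1 n.2 x)
        show (n : G) * (x * n * x⁻¹) * x = x * ((n : G) * (x * n * x⁻¹))
        have e1 : (n : G) * (x * n * x⁻¹) * x = n * x * n := by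
          rw [hxinv]
          calc (n : G) * (x * n * x) * x = n * x * n * (x * x) := by group
            _ = n * x * n := by rw [hxx, mul_one]
        have e2 : x * ((x * n * x⁻¹) * n) = n * x * n := by
          rw [hxinv]
          calc x * ((x * n * x) * n) = (x * x) * n * x * n := by group
            _ = n * x * n := by rw [hxx, one_mul]
        rw [e1, hcomm, e2]
      have hcard : Nat.card ↥N = Nat.card φ.ker * Nat.card φ.range := by
        rw [← Subgroup.index_ker, Subgroup.card_mul_index]
      rw [hcard]
      calc Nat.card φ.ker * Nat.card φ.range ≤ 2 * 2 :=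
            Nat.mul_le_mul ((Subgroup.card_le_of_le hker).trans hCle)
              ((Subgroup.card_le_of_le hrange).trans hCle)
        _ = 4 := by norm_num

end Cfsg.Agent.S3276
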