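import Cfsg.Statements.S1564
import Cfsg.Agent.Helper9.Coatom
import Cfsg.Agent.Helper9.Golay.Triads

set_option autoImplicit false
open scoped Pointwise
open Cfsg

namespace Cfsg.Agent.S1564

/-- The stabiliser of a set of three points (setwise) is a maximal proper subgroup of the group of the length-24 code. -/
theorem result (s : Finset Cfsg.GolayPt) (hs : s.card = 3) : IsCoatom (MulAction.stabilizer Cfsg.M24 s) := by
  classical
  have horb : MulAction.orbit Cfsg.M24 s = {t | t.card = 3} := by
    rw [Cfsg.Agent.Helper9.Golay.orbit_M24_eq s (by omega), hs]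
  have hle : ∀ y : Finset Cfsg.GolayPt, (s ∩ y).card ≤ 3 := by
    intro y
    have := Finset.card_le_card (Finset.inter_subset_left : s ∩ y ⊆ s)
    omega
  apply Cfsg.Agent.Helper9.isCoatom_stabilizer_of_suborbits' s
    (fun y => if (s ∩ y).card = 0 then (if (∃ o ∈ Cfsg.octads, s ∪ y ⊆ o) then 0 else 4)
      else (s ∩ y).card)
    ({0, 1, 2, 4} : Finset ℕ)
    (fun v => if v = 0 then 210 else if v = 1 then 630 else if v = 2 then 63 else 1120)
  · decide
  · intro y hy z hz hc
    rw [horb] at hy hz
    have hy' : y.card = 3 := hy
    have hz' : z.card = 3 := hz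
    have hyl := hle y
    have hzl := hle z
    have hc : (if (s ∩ y).card = 0 then (if (∃ o ∈ Cfsg.octads, s ∪ y ⊆ o) then 0 else 4)
      else (s ∩ y).card) = (if (s ∩ z).card = 0 then
        (if (∃ o ∈ Cfsg.octads, s ∪ z ⊆ o) then 0 else 4) else (s ∩ z).card) := hc
    by_cases h0 : (s ∩ y).card = 0
    · have h0z : (s ∩ z).card = 0 := by
        by_contra hne
        rw [if_pos h0, if_neg hne] at hc
        split_ifs at hc <;> omega
      rw [if_pos h0, if_pos h0z] at hc
      have hd : Disjoint s y := by
        rw [Finset.disjoint_iff_inter_eq_empty, ← Finset.card_eq_zero]; exact h0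
      have hd' : Disjoint s z := by
        rw [Finset.disjoint_iff_inter_eq_empty, ← Finset.card_eq_zero]; exact h0z
      have hiff : (∃ o ∈ Cfsg.octads, s ∪ y ⊆ o) ↔ (∃ o ∈ Cfsg.octads, s ∪ z ⊆ o) := by
        constructor
        · intro h
          by_contra h'
          rw [if_pos h, if_neg h'] at hc
          omega
        · intro h
          by_contra h'
          rw [if_neg h', if_pos h] at hc
          omega
      obtain ⟨g, hg, hgs, hgy⟩ :=
        Cfsg.Agent.Helper9.Golay.triads_trans s y z hs hy' hz' hd hd' hiff
      exact ⟨⟨g, hg⟩, hgs, hgy⟩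
    · have h0z : (s ∩ z).card ≠ 0 := by
        intro hz0
        rw [if_neg h0, if_pos hz0] at hc
        split_ifs at hc <;> omega
      rw [if_neg h0, if_neg h0z] at hc
      obtain ⟨g, hg, hgs, hgy⟩ := Cfsg.Agent.Helper9.Golay.m24_map_pair s y z
        (by
          have := Finset.card_union_add_card_inter s y
          omega) (by rw [hy', hz']) hc
      exact ⟨⟨g, hg⟩, hgs, hgy⟩
  · intro y hy hne
    rw [horb] at hy
    have hy' : y.card = 3 := hy
    have h1 := hle y
    have h2 : (s ∩ y).card ≠ 3 := by
      intro h
      have e1 : s ∩ y = s := Finset.eq_of_subset_of_card_le Finset.inter_subset_left (by omega)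
      have e2 : s ∩ y = y := Finset.eq_of_subset_of_card_le Finset.inter_subset_right (by omega)
      exact hne (e2.symm.trans e1)
    simp only [Finset.mem_insert, Finset.mem_singleton]
    split_ifs <;> omega
  · simp only [Finset.inter_self, hs]
    rw [if_neg (by norm_num)]
    decide
  · intro v hv
    rw [horb]
    simp only [Finset.mem_insert, Finset.mem_singleton] at hv
    have hdisj : ∀ y : Finset Cfsg.GolayPt, (s ∩ y).card = 0 ↔ Disjoint s y := by
      intro y
      rw [Finset.disjoint_iff_inter_eq_empty, Finset.card_eq_zero]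
    rcases hv with rfl | rfl | rfl | rfl
    · rw [← Cfsg.Agent.Helper9.Golay.ncard_triads_in s hs]
      congr 1
      ext y
      simp only [Set.mem_ofPred_eq]
      constructor
      · rintro ⟨hy, hc⟩
        have hyl := hle y
        by_cases h0 : (s ∩ y).card = 0
        · rw [if_pos h0] at hc
          refine ⟨hy, (hdisj y).mp h0, ?_⟩
          by_contra h'
          rw [if_neg h'] at hc
          omega
        · rw [if_neg h0] at hc
          exact absurd hc h0
      · rintro ⟨hy, hd, ho⟩
        refine ⟨hy, ?_⟩
        rw [if_pos ((hdisj y).mpr hd), if_pos ho]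
    · have h := Cfsg.Agent.Helper9.Golay.ncard_inter_eq s 3 1 (by omega)
      rw [hs] at h
      rw [show (if (1:ℕ) = 0 then 210 else if (1:ℕ) = 1 then 630 else if (1:ℕ) = 2 then 63 else 1120) = Nat.choose 3 1 * (24 - 3).choose (3 - 1) by decide, ← h]
      congr 1
      ext y
      simp only [Set.mem_ofPred_eq]
      apply and_congr Iff.rfl
      constructor
      · intro hc
        by_cases h0 : (s ∩ y).card = 0
        · rw [if_pos h0] at hc
          split_ifs at hc <;> omega
        · rw [if_neg h0] at hc
          exact hc
      · intro hc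
        rw [if_neg (by omega)]
        exact hc
    · have h := Cfsg.Agent.Helper9.Golay.ncard_inter_eq s 3 2 (by omega)
      rw [hs] at h
      rw [show (if (2:ℕ) = 0 then 210 else if (2:ℕ) = 1 then 630 else if (2:ℕ) = 2 then 63 else 1120) = Nat.choose 3 2 * (24 - 3).choose (3 - 2) by decide, ← h]
      congr 1
      ext y
      simp only [Set.mem_ofPred_eq]
      apply and_congr Iff.rfl
      constructor
      · intro hc
        by_cases h0 : (s ∩ y).card = 0
        · rw [if_pos h0] at hc
          split_ifs at hc <;> omega
        · rw [if_neg h0] at hc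
          exact hc
      · intro hc
        rw [if_neg (by omega)]
        exact hc
    · rw [show (if (4:ℕ) = 0 then 210 else if (4:ℕ) = 1 then 630 else if (4:ℕ) = 2 then 63 else 1120) = 1120 by decide, ← Cfsg.Agent.Helper9.Golay.ncard_triads_out s hs]
      congr 1
      ext y
      simp only [Set.mem_ofPred_eq]
      constructor
      · rintro ⟨hy, hc⟩
        have hyl := hle y
        by_cases h0 : (s ∩ y).card = 0
        · rw [if_pos h0] at hc
          refine ⟨hy, (hdisj y).mp h0, ?_⟩
          intro h'
          rw [if_pos h'] at hc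
          omega
        · rw [if_neg h0] at hc
          omega
      · rintro ⟨hy, hd, ho⟩
        refine ⟨hy, ?_⟩
        rw [if_pos ((hdisj y).mpr hd), if_neg ho]
  · decide

end Cfsg.Agent.S1564
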