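import Mathlib
import Cfsg.Statements.S0291
import Cfsg.Agent.Helper7.HyperplaneCount

set_option autoImplicit false
open Cfsg

namespace Cfsg.Agent.S0291

open Matrix

/-- Splitting a vector into its three parts. -/
def splitEquiv (m : ℕ) (F : Type*) :
    (Unit ⊕ (Fin m ⊕ Fin m) → F) ≃ (F × (Fin m → F)) × (Fin m → F) where
  toFun v := ((v (Sum.inl ()), fun i => v (Sum.inr (Sum.inl i))), fun i => v (Sum.inr (Sum.inr i)))
  invFun p := Sum.elim (fun _ => p.1.1) (Sum.elim p.1.2 p.2)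
  left_inv v := by
    ext k
    rcases k with u | i | i
    · rfl
    · rfl
    · rfl
  right_inv p := rfl

/-- For q odd, the form x_0^2 + sum_{i<m} x_i y_i on F^(2m+1) has exactly q^(2m) zeros. -/
theorem result {F : Type*} [Field F] [Fintype F] {q : ℕ} (hF : Fintype.card F = q) (hodd : Odd q) (m : ℕ) : Nat.card {v : Unit ⊕ (Fin m ⊕ Fin m) → F // Cfsg.quadFormOdd m F v = 0} = q ^ (2 * m) := by
  classical
  have h1 : Nat.card {v : Unit ⊕ (Fin m ⊕ Fin m) → F // Cfsg.quadFormOdd m F v = 0} =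
      Nat.card {p : (F × (Fin m → F)) × (Fin m → F) // p.1.2 ⬝ᵥ p.2 = -(p.1.1 ^ 2)} := by
    apply Nat.card_congr
    refine Equiv.subtypeEquiv (splitEquiv m F) ?_
    intro v
    unfold Cfsg.quadFormOdd
    change _ ↔ (∑ i, v (Sum.inr (Sum.inl i)) * v (Sum.inr (Sum.inr i))) = -(v (Sum.inl ()) ^ 2)
    constructor
    · intro h; linear_combination h
    · intro h; linear_combination h
  have h0 : Nat.card {p : (F × (Fin m → F)) × (Fin m → F) // p.1.2 ⬝ᵥ p.2 = -(p.1.1 ^ 2)} = _ :=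
    Cfsg.Agent.Helper7.Hyp.card_triples (F := F) (ι := Fin m) (fun x : F => -(x ^ 2))
  rw [h1, h0]
  have h2 : Nat.card {a : F // -(a ^ 2) = 0} = 1 := by
    have : ∀ a : F, -(a ^ 2) = 0 ↔ a = 0 := by
      intro a
      rw [neg_eq_zero, pow_eq_zero_iff (two_ne_zero)]
    simp_rw [this]
    rw [Nat.card_eq_fintype_card, Fintype.card_subtype_eq]
  rw [h2, Fintype.card_fin, hF, one_mul]
  have hq : 1 ≤ q := by rw [← hF]; exact Fintype.card_pos
  rcases Nat.eq_zero_or_pos m with rfl | hm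
  · simp
  obtain ⟨k, rfl⟩ : ∃ k, m = k + 1 := ⟨m - 1, by omega⟩
  rw [Nat.add_sub_cancel, Nat.sub_mul, one_mul, Nat.mul_sub]
  have e2 : q * (q ^ (k + 1) * q ^ k) = q ^ (2 * (k + 1)) := by
    rw [← pow_add, ← pow_succ']; congr 1; omega
  have e3 : q * q ^ k = q ^ (k + 1) := by rw [← pow_succ']
  rw [e2, e3]
  have h3 : q ^ (k + 1) ≤ q ^ (2 * (k + 1)) := Nat.pow_le_pow_right hq (by omega)
  omega

end Cfsg.Agent.S0291
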