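import Mathlib
import Cfsg.Statements.S0286
import Cfsg.Agent.Helper8.OrthOrder
import Cfsg.Agent.Helper8.StdForms
import Cfsg.Agent.S0291

set_option autoImplicit false
open Cfsg

namespace Cfsg.Agent.S0286

open Cfsg.Agent.Helper8.OrthOrder Cfsg.Agent.Helper8.StdForms

/-- |GO_{2m+1}(q)| = 2 q^(m^2) prod_{i=1}^{m} (q^(2i) - 1) for q odd. -/
theorem result {F : Type*} [Field F] [Fintype F] {q : ℕ} (hF : Fintype.card F = q) (hodd : Odd q) (m : ℕ) : Nat.card (Cfsg.isometryGroup F (Cfsg.quadFormOdd m F)) = 2 * q ^ (m ^ 2) * ∏ i ∈ Finset.range m, (q ^ (2 * (i + 1)) - 1) := by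
  have h2 : (2 : F) ≠ 0 := by
    intro h
    have hc : ringChar F = 2 := by
      haveI : CharP F 2 := CharTwo.of_one_ne_zero_of_two_eq_zero one_ne_zero h
      exact ringChar.eq F 2
    have : Even q := by
      rw [← hF]
      exact Nat.even_iff.mpr ((FiniteField.even_card_iff_char_two (F := F)).mp hc)
    exact (Nat.not_even_iff_odd.mpr hodd) this
  rw [card_isometryGroup (oddForm F m) (Cfsg.quadFormOdd m F) (oddForm_apply F m),
    card_Isom_odd h2 m (oddForm F m) (oddForm_nondeg F m h2) (finrank_odd F m), hF]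
  rw [hF, ← Cfsg.Agent.S0291.result hF hodd m]
  apply Nat.card_congr
  apply Equiv.subtypeEquivRight
  intro v
  rw [oddForm_apply]

end Cfsg.Agent.S0286
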