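import Mathlib
import Cfsg.Statements.S0292
import Cfsg.Agent.Helper8.StdForms
import Cfsg.Agent.Helper8.OmegaCenterMat
import Cfsg.Agent.Helper8.OmegaStd
import Cfsg.Agent.S0286

set_option autoImplicit false
open Cfsg

namespace Cfsg.Agent.S0292

open Module Cfsg.Agent.Helper8.StdForms Cfsg.Agent.Helper8.OmegaCenter
  Cfsg.Agent.Helper8.OmegaOdd Cfsg.Agent.Helper8.OmegaStd

/-- 2 |PΩ_{2m+1}(q)| = q^(m^2) prod_{i=1}^{m} (q^(2i) - 1), for q odd and m at least 3 (type B_m). -/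
theorem result {F : Type*} [Field F] [Fintype F] {q : ℕ} (hF : Fintype.card F = q) (hodd : Odd q) (m : ℕ) (hm : 3 ≤ m) : 2 * Nat.card (Cfsg.POmega F (Cfsg.quadFormOdd m F)) = q ^ (m ^ 2) * ∏ i ∈ Finset.range m, (q ^ (2 * (i + 1)) - 1) := by
  classical
  have hQeq : Cfsg.quadFormOdd m F = ⇑(oddForm F m) :=
    funext (fun v => (oddForm_apply F m v).symm)
  have h2 : (2 : F) ≠ 0 := two_ne_zero_of_odd (by rw [hF]; exact hodd)
  have hO := Cfsg.Agent.S0286.result hF hodd m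
  rw [hQeq] at hO ⊢
  have hQ := oddForm_nondeg F m h2
  have hcard : Fintype.card (Unit ⊕ (Fin m ⊕ Fin m)) = 2 * m + 1 := by
    simp only [Fintype.card_sum, Fintype.card_unique, Fintype.card_fin]
    ring
  obtain ⟨e, he⟩ := exists_nonsquare h2
  have hidx := (commutator_eq (oddForm F m) h2 hQ (by rw [hcard]; omega) he).1
  have hcen := center_omega_eq_bot (oddForm F m) h2 hQ (by rw [hcard]; omega)
    (by rw [hcard]; exact ⟨m, rfl⟩)
  have h1 : Nat.card (Cfsg.POmega F ⇑(oddForm F m))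
      = (Subgroup.center ↥(Cfsg.Omega F ⇑(oddForm F m))).index := rfl
  have hcen' : Subgroup.center ↥(Cfsg.Omega F ⇑(oddForm F m)) = ⊥ := hcen
  rw [h1, hcen', Subgroup.index_bot]
  have h3 := Subgroup.card_mul_index (Cfsg.Omega F ⇑(oddForm F m))
  have hidx' : (Cfsg.Omega F ⇑(oddForm F m)).index = 4 := hidx
  rw [hidx', hO] at h3
  have h4 : 2 * q ^ m ^ 2 * ∏ i ∈ Finset.range m, (q ^ (2 * (i + 1)) - 1)
      = 2 * (q ^ m ^ 2 * ∏ i ∈ Finset.range m, (q ^ (2 * (i + 1)) - 1)) := by ring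
  rw [h4] at h3
  omega

end Cfsg.Agent.S0292
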