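import Mathlib
import Cfsg.Statements.S0684
import Cfsg.Agent.Helper3.AbIrr
import Cfsg.Agent.Helper1.Frobenius
import Cfsg.Statements.S0684
-- import your own Cfsg.Agent.* helpers here

set_option autoImplicit false
open Cfsg

namespace Cfsg.Agent.S0684
open Cfsg

universe u

section
variable {p : ℕ} [Fact p.Prime] {V : Type u} [AddCommGroup V] [Module (ZMod p) V] [Finite V]
  (H : Subgroup (V ≃ₗ[ZMod p] V))

/-- `A`-invariance of a submodule. -/
def Inv (A : Subgroup H) (W : Submodule (ZMod p) V) : Prop :=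
  ∀ a ∈ A, ∀ v ∈ W, ((a : H) : V ≃ₗ[ZMod p] V) v ∈ W

/-- the restricted action on an invariant submodule, multiplicatively -/
def actOn (A : Subgroup H) (W : Submodule (ZMod p) V) (hW : Inv H A W) (a : ↥A) :
    Multiplicative ↥W →* Multiplicative ↥W :=
  AddMonoidHom.toMultiplicative
    { toFun := fun w => ⟨((a : H) : V ≃ₗ[ZMod p] V) (w : V), hW a.1 a.2 w w.2⟩
      map_zero' := by apply Subtype.ext; simp
      map_add' := by intro x y; apply Subtype.ext; simp }

theorem actOn_apply (A : Subgroup H) (W : Submodule (ZMod p) V) (hW : Inv H A W) (a : ↥A)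
    (w : ↥W) : ((Multiplicative.toAdd (actOn H A W hW a (Multiplicative.ofAdd w)) : ↥W) : V) =
      ((a : H) : V ≃ₗ[ZMod p] V) (w : V) := rfl

/-- cyclicity from a minimal invariant submodule -/
theorem isCyclic_of_minimal (hfpf : ∀ h : H, ∀ v : V, v ≠ 0 → ((h : V ≃ₗ[ZMod p] V) v = v) → h = 1)
    (A : Subgroup H) (hAc : IsMulCommutative A)
    (W : Submodule (ZMod p) V) (hW0 : W ≠ ⊥) (hW : Inv H A W)
    (hmin : ∀ W' : Submodule (ZMod p) V, W' ≤ W → Inv H A W' → W' = ⊥ ∨ W' = W) :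
    IsCyclic A := by
  classical
  have hfinE : Finite (V ≃ₗ[ZMod p] V) := DFunLike.finite _
  obtain ⟨w0, hw0W, hw0⟩ := (Submodule.ne_bot_iff W).mp hW0
  have key := Cfsg.Agent.Helper3.AbIrr.exists_generator_of_irreducible (actOn H A W hW)
    (by
      apply MonoidHom.ext
      intro w
      apply Multiplicative.toAdd.injective
      apply Subtype.ext
      rw [← ofAdd_toAdd w, actOn_apply]
      simp)
    (by
      intro a b
      apply MonoidHom.ext
      intro w
      apply Multiplicative.toAdd.injective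
      apply Subtype.ext
      rw [← ofAdd_toAdd w, actOn_apply, MonoidHom.comp_apply]
      rw [← ofAdd_toAdd (actOn H A W hW b (Multiplicative.ofAdd (Multiplicative.toAdd w))), actOn_apply,
        actOn_apply]
      simp)
    (fun a b => hAc.is_comm.comm a b)
    ⟨Multiplicative.ofAdd ⟨w0, hw0W⟩, by
      intro h
      apply hw0
      have := congrArg (fun z => ((Multiplicative.toAdd z : ↥W) : V)) h
      simpa using this⟩
    (by
      intro U hU
      -- the corresponding submodule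
      let W' : Submodule (ZMod p) V :=
        { carrier := {v | ∃ h : v ∈ W, Multiplicative.ofAdd (⟨v, h⟩ : ↥W) ∈ U}
          add_mem' := by
            rintro x y ⟨hx, hxU⟩ ⟨hy, hyU⟩
            refine ⟨W.add_mem hx hy, ?_⟩
            have := U.mul_mem hxU hyU
            exact this
          zero_mem' := ⟨W.zero_mem, U.one_mem⟩
          smul_mem' := by
            rintro c x ⟨hx, hxU⟩
            refine ⟨W.smul_mem c hx, ?_⟩
            have h1 : c • x = c.val • x := by
              rw [← Nat.cast_smul_eq_nsmul (ZMod p), ZMod.natCast_zmod_val]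
            have h2 := U.pow_mem hxU c.val
            have h3 : (Multiplicative.ofAdd (⟨x, hx⟩ : ↥W)) ^ c.val =
                Multiplicative.ofAdd (⟨c • x, W.smul_mem c hx⟩ : ↥W) := by
              rw [← ofAdd_nsmul]
              congr 1
              apply Subtype.ext
              simp [h1]
            rw [← h3]
            exact h2 }
      have hW'mem : ∀ v, v ∈ W' ↔ ∃ h : v ∈ W, Multiplicative.ofAdd (⟨v, h⟩ : ↥W) ∈ U := fun v => Iff.rfl
      have hW'le : W' ≤ W := fun v hv => hv.1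
      have hW'inv : Inv H A W' := by
        intro a ha v hv
        obtain ⟨hvW, hvU⟩ := hv
        refine ⟨hW a ha v hvW, ?_⟩
        exact hU ⟨a, ha⟩ _ hvU
      rcases hmin W' hW'le hW'inv with h | h
      · left
        rw [eq_bot_iff]
        intro u hu
        have h1 : ((Multiplicative.toAdd u : ↥W) : V) ∈ W' := ⟨(Multiplicative.toAdd u).2, hu⟩
        rw [h, Submodule.mem_bot] at h1
        rw [Subgroup.mem_bot]
        apply Multiplicative.toAdd.injective
        apply Subtype.ext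
        exact h1
      · right
        rw [eq_top_iff]
        intro u _
        have h1 : ((Multiplicative.toAdd u : ↥W) : V) ∈ W' := by
          rw [h]; exact (Multiplicative.toAdd u).2
        obtain ⟨_, h2⟩ := h1
        exact h2)
  obtain ⟨a0, ha0⟩ := key
  refine ⟨⟨a0, fun x => ?_⟩⟩
  obtain ⟨k, hk⟩ := ha0 x
  refine ⟨k, ?_⟩
  -- faithful
  have h1 := congrArg (fun φ : Multiplicative ↥W →* Multiplicative ↥W =>
    ((Multiplicative.toAdd (φ (Multiplicative.ofAdd ⟨w0, hw0W⟩)) : ↥W) : V)) hk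
  simp only [actOn_apply] at h1
  -- x w0 = a0^k w0
  have h2 : (((a0 ^ k : ↥A) : H)⁻¹ * ((x : ↥A) : H) : H) = 1 := by
    apply hfpf _ w0 hw0
    have : (((((a0 ^ k : ↥A) : H)⁻¹ * ((x : ↥A) : H) : H) : V ≃ₗ[ZMod p] V)) w0 =
        ((((a0 ^ k : ↥A) : H)⁻¹ : H) : V ≃ₗ[ZMod p] V) ((((x : ↥A) : H) : V ≃ₗ[ZMod p] V) w0) := rfl
    rw [this, h1]
    have h3 : ((((a0 ^ k : ↥A) : H)⁻¹ : H) : V ≃ₗ[ZMod p] V) ((((a0 ^ k : ↥A) : H) : V ≃ₗ[ZMod p] V) w0) =
        (((((a0 ^ k : ↥A) : H)⁻¹ * ((a0 ^ k : ↥A) : H) : H)) : V ≃ₗ[ZMod p] V) w0 := rfl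
    rw [h3, inv_mul_cancel]
    rfl
  have h4 : ((a0 ^ k : ↥A) : H) = ((x : ↥A) : H) := by
    rw [inv_mul_eq_one] at h2
    exact h2
  exact Subtype.ext h4


theorem card_ne_zero_subtype (M : Type u) [AddGroup M] [Finite M] :
    Nat.card {m : M // m ≠ 0} = Nat.card M - 1 := by
  classical
  have := Fintype.ofFinite M
  rw [Nat.card_eq_fintype_card, Nat.card_eq_fintype_card,
    Fintype.card_subtype_compl (fun m : M => m = 0)]
  simp

end

/-- Point stabiliser of a sharply doubly transitive group not of semilinear type: a maximal normal abelian subgroup `A` of a linear group `H` that is regular on non-zero vectors and has no irreducible cyclic normal subgroup is cyclic and reducible, and the order of `A` divides `p ^ k - 1` for `k` the dimension of a minimal `A`-invariant subspace. -/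
theorem result {p : ℕ} [Fact p.Prime] {V : Type*} [AddCommGroup V] [Module (ZMod p) V] [Finite V] (H : Subgroup (V ≃ₗ[ZMod p] V)) (hreg : ∀ v w : V, v ≠ 0 → w ≠ 0 → ∃! h : H, (h : V ≃ₗ[ZMod p] V) v = w) (hI : ∀ A : Subgroup H, A.Normal → IsCyclic A → ∃ W : Submodule (ZMod p) V, W ≠ ⊥ ∧ W ≠ ⊤ ∧ ∀ a ∈ A, ∀ v ∈ W, ((a : H) : V ≃ₗ[ZMod p] V) v ∈ W) (A : Subgroup H) (hAn : A.Normal) (hAc : IsMulCommutative A) (hAmax : ∀ B : Subgroup H, B.Normal → IsMulCommutative B → A ≤ B → B = A) : IsCyclic A ∧ ∃ W : Submodule (ZMod p) V, W ≠ ⊥ ∧ W ≠ ⊤ ∧ (∀ a ∈ A, ∀ v ∈ W, ((a : H) : V ≃ₗ[ZMod p] V) v ∈ W) ∧ (∀ W' : Submodule (ZMod p) V, W' ≤ W → (∀ a ∈ A, ∀ v ∈ W', ((a : H) : V ≃ₗ[ZMod p] V) v ∈ W') → W' = ⊥ ∨ W' = W) ∧ Nat.card A ∣ p ^ Module.finrank (ZMod p) W - 1 := by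
  classical
  have hfinE : Finite (V ≃ₗ[ZMod p] V) := DFunLike.finite _
  have hfpf : ∀ h : H, ∀ v : V, v ≠ 0 → ((h : V ≃ₗ[ZMod p] V) v = v) → h = 1 := by
    intro h v hv hhv
    obtain ⟨h0, _, huniq⟩ := hreg v v hv hv
    rw [huniq h hhv, huniq 1 (by simp)]
  obtain ⟨Wb, hWb0, hWbT, _⟩ := hI ⊥ inferInstance inferInstance
  let 𝒮 : Set (Submodule (ZMod p) V) := {W | W ≠ ⊥ ∧ Inv H A W}
  have hfin : 𝒮.Finite := Set.toFinite _
  have htop : (⊤ : Submodule (ZMod p) V) ∈ 𝒮 := by
    refine ⟨fun h => hWb0 ?_, fun _ _ _ _ => Submodule.mem_top⟩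
    rw [eq_bot_iff, ← h]; exact le_top
  obtain ⟨W1, _, hW1min⟩ := hfin.exists_le_minimal htop
  have hminconv : ∀ W : Submodule (ZMod p) V, Minimal (· ∈ 𝒮) W →
      ∀ W' : Submodule (ZMod p) V, W' ≤ W → Inv H A W' → W' = ⊥ ∨ W' = W := by
    intro W hmin W' hle hinv
    by_cases hb : W' = ⊥
    · exact Or.inl hb
    · exact Or.inr (le_antisymm hle (hmin.2 ⟨hb, hinv⟩ hle))
  have hcyc : IsCyclic A :=
    isCyclic_of_minimal H hfpf A hAc W1 hW1min.1.1 hW1min.1.2 (hminconv W1 hW1min)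
  obtain ⟨W0, hW00, hW0T, hW0inv⟩ := hI A hAn hcyc
  have hW0S : W0 ∈ 𝒮 := ⟨hW00, hW0inv⟩
  obtain ⟨W, hWle, hWmin⟩ := hfin.exists_le_minimal hW0S
  have hWinv : Inv H A W := hWmin.1.2
  refine ⟨hcyc, W, hWmin.1.1, ?_, hWinv, hminconv W hWmin, ?_⟩
  · intro h; apply hW0T; rw [eq_top_iff, ← h]; exact hWle
  · let inst : MulAction ↥A {w : ↥W // w ≠ 0} :=
      { smul := fun a w => ⟨⟨((a : H) : V ≃ₗ[ZMod p] V) ((w : ↥W) : V), hWinv a.1 a.2 _ (w : ↥W).2⟩, by
            intro h
            apply w.2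
            have h1 : ((a : H) : V ≃ₗ[ZMod p] V) ((w : ↥W) : V) = 0 := congrArg Subtype.val h
            rw [LinearEquiv.map_eq_zero_iff] at h1
            exact Subtype.ext h1⟩
        one_smul := by
          intro w
          apply Subtype.ext
          apply Subtype.ext
          rfl
        mul_smul := by
          intro a b w
          apply Subtype.ext
          apply Subtype.ext
          rfl }
    have hsmul : ∀ (a : ↥A) (w : {w : ↥W // w ≠ 0}), (((a • w : {w : ↥W // w ≠ 0}) : ↥W) : V) =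
        ((a : H) : V ≃ₗ[ZMod p] V) ((w : ↥W) : V) := fun a w => rfl
    have hfree : ∀ x : {w : ↥W // w ≠ 0}, MulAction.stabilizer ↥A x = ⊥ := by
      intro x
      rw [eq_bot_iff]
      intro a ha
      rw [MulAction.mem_stabilizer_iff] at ha
      have h1 := hsmul a x
      rw [ha] at h1
      have hx0 : ((x : ↥W) : V) ≠ 0 := by
        intro h
        exact x.2 (Subtype.ext h)
      have h2 := hfpf a.1 _ hx0 h1.symm
      rw [Subgroup.mem_bot]
      exact Subtype.ext h2
    have hdvd := Cfsg.Agent.Helper1.card_dvd_of_free ↥A {w : ↥W // w ≠ 0} hfree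
    rw [card_ne_zero_subtype, Module.natCard_eq_pow_finrank (K := ZMod p) (V := ↥W), Nat.card_zmod] at hdvd
    exact hdvd


end Cfsg.Agent.S0684
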