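import Cfsg.Statements.S4455
import Mathlib
import Cfsg.Agent.Helper6.PResidualChars2
-- import your own Cfsg.Agent.* helpers here

set_option autoImplicit false
open Cfsg

namespace Cfsg.Agent.S4455

/-- Fix a prime p and a finite group G. Let s be the sum of χ(1)² over the irreducible characters χ of G whose degree is not divisible by p and whose determinantal order o(χ) is not divisible by p. Then the order of O^p(G), the subgroup generated by the elements of order prime to p, is congruent to s modulo p. -/
theorem result {G : Type*} [Group G] [Finite G] (p : ℕ) (hp : p.Prime) : (Nat.card (Cfsg.pResidual p G) : ℤ) ≡ (∑ᶠ χ ∈ {χ : Cfsg.IrrCharacter G | ¬ p ∣ Cfsg.charDegree (χ : G → ℂ) ∧ ¬ p ∣ Cfsg.detOrder (χ : G → ℂ)}, (Cfsg.charDegree (χ : G → ℂ) : ℤ) ^ 2) [ZMOD p] := by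
  classical
  haveI : Fact p.Prime := ⟨hp⟩
  haveI : (Cfsg.pResidual p G).Characteristic := Helper5.pResidual_characteristic p
  haveI : (Cfsg.pResidual p G).Normal := inferInstance
  have hidx := Helper5.index_pResidual (G := G) p
  rw [Helper6.finsum_sq_restrict_eq p (Cfsg.pResidual p G) hidx
    (fun θ hθ => Helper6.not_dvd_detOrder_pResidual p θ hθ)]
  exact Helper6.card_modEq_sum_sq_invariant p (Cfsg.pResidual p G) hidx

end Cfsg.Agent.S4455
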