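import Cfsg.Statements.S4456
import Mathlib
import Cfsg.Agent.S4455
import Cfsg.Agent.Helper6.LinearCoprime
import Cfsg.Agent.Helper6.PResidualChars
-- import your own Cfsg.Agent.* helpers here

set_option autoImplicit false
open Cfsg

namespace Cfsg.Agent.S4456

/-- Let p be a prime and G a finite group such that p divides the degree of every irreducible character of G of degree greater than one. Then G has a normal p-complement: a normal subgroup of order prime to p whose index is a power of p. -/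
theorem result {G : Type*} [Group G] [Finite G] (p : ℕ) (hp : p.Prime) (hdeg : ∀ χ : Cfsg.IrrCharacter G, Cfsg.charDegree (χ : G → ℂ) ≠ 1 → p ∣ Cfsg.charDegree (χ : G → ℂ)) : ∃ N : Subgroup G, N.Normal ∧ (Nat.card N).Coprime p ∧ ∃ k : ℕ, N.index = p ^ k := by
  classical
  haveI : Fact p.Prime := ⟨hp⟩
  haveI : (Cfsg.pResidual p G).Characteristic := Helper5.pResidual_characteristic p
  haveI : (Cfsg.pResidual p G).Normal := inferInstance
  haveI : Finite (Cfsg.IrrCharacter G) := Helper6.irr_finite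
  haveI : Fintype (Cfsg.IrrCharacter G) := Fintype.ofFinite _
  refine ⟨Cfsg.pResidual p G, inferInstance, ?_, Helper5.index_pResidual (G := G) p⟩
  have hmain := Cfsg.Agent.S4455.result (G := G) p hp
  have hset : {χ : Cfsg.IrrCharacter G | ¬ p ∣ Cfsg.charDegree (χ : G → ℂ) ∧
      ¬ p ∣ Cfsg.detOrder (χ : G → ℂ)} =
      {χ : Cfsg.IrrCharacter G | (χ : G → ℂ) 1 = 1 ∧ ¬ p ∣ Cfsg.detOrder (χ : G → ℂ)} := by
    ext χ
    have hχc := Helper6.IsIrrCharacter.isCharacter χ.2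
    have hcast := Helper6.charDegree_cast_of_isCharacter hχc
    simp only [Set.mem_ofPred_eq]
    constructor
    · rintro ⟨h1, h2⟩
      refine ⟨?_, h2⟩
      have : Cfsg.charDegree (χ : G → ℂ) = 1 := by
        by_contra hne
        exact h1 (hdeg χ hne)
      rw [← hcast, this, Nat.cast_one]
    · rintro ⟨h1, h2⟩
      refine ⟨?_, h2⟩
      have : Cfsg.charDegree (χ : G → ℂ) = 1 := by
        have h3 : (Cfsg.charDegree (χ : G → ℂ) : ℂ) = ((1 : ℕ) : ℂ) := by
          rw [hcast, h1, Nat.cast_one]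
        exact_mod_cast h3
      rw [this]
      exact hp.one_lt.ne' ∘ Nat.dvd_one.mp
  have hsum : ∑ᶠ χ ∈ {χ : Cfsg.IrrCharacter G | ¬ p ∣ Cfsg.charDegree (χ : G → ℂ) ∧
      ¬ p ∣ Cfsg.detOrder (χ : G → ℂ)}, (Cfsg.charDegree (χ : G → ℂ) : ℤ) ^ 2 =
      (Nat.card {χ : Cfsg.IrrCharacter G // (χ : G → ℂ) 1 = 1 ∧
        ¬ p ∣ Cfsg.detOrder (χ : G → ℂ)} : ℤ) := by
    rw [hset]
    have hone : ∀ χ ∈ {χ : Cfsg.IrrCharacter G | (χ : G → ℂ) 1 = 1 ∧
        ¬ p ∣ Cfsg.detOrder (χ : G → ℂ)}, (Cfsg.charDegree (χ : G → ℂ) : ℤ) ^ 2 = 1 := by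
      rintro χ ⟨h1, _⟩
      have hχc := Helper6.IsIrrCharacter.isCharacter χ.2
      have hcast := Helper6.charDegree_cast_of_isCharacter hχc
      have : Cfsg.charDegree (χ : G → ℂ) = 1 := by
        have h3 : (Cfsg.charDegree (χ : G → ℂ) : ℂ) = ((1 : ℕ) : ℂ) := by
          rw [hcast, h1, Nat.cast_one]
        exact_mod_cast h3
      rw [this]
      norm_num
    rw [finsum_mem_congr rfl hone]
    have hfin : {χ : Cfsg.IrrCharacter G | (χ : G → ℂ) 1 = 1 ∧
        ¬ p ∣ Cfsg.detOrder (χ : G → ℂ)}.Finite := Set.toFinite _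
    rw [finsum_mem_eq_finite_toFinset_sum _ hfin, Finset.sum_const, nsmul_eq_mul, mul_one]
    congr 1
    rw [← Set.ncard_eq_toFinset_card _ hfin]
    rfl
  rw [hsum] at hmain
  have hnd := Helper6.not_dvd_card_linear_coprime_det (G := G) p
  rw [Nat.coprime_comm, Nat.Prime.coprime_iff_not_dvd hp]
  intro hdvd
  apply hnd
  have h1 : ((p : ℕ) : ℤ) ∣ (Nat.card (Cfsg.pResidual p G) : ℤ) := by exact_mod_cast hdvd
  have h2 : ((p : ℕ) : ℤ) ∣ (Nat.card {χ : Cfsg.IrrCharacter G // (χ : G → ℂ) 1 = 1 ∧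
        ¬ p ∣ Cfsg.detOrder (χ : G → ℂ)} : ℤ) :=
    (Int.ModEq.dvd_iff hmain).mp h1
  exact_mod_cast h2

end Cfsg.Agent.S4456
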