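import Cfsg.Statements.S0900
import Mathlib
import Cfsg.Agent.Helper6.FullyRamified
-- import your own Cfsg.Agent.* helpers here

set_option autoImplicit false
open Cfsg

namespace Cfsg.Agent.S0900

/-- Let N be a normal subgroup of the finite group G, χ an irreducible character of G and ϑ an irreducible character of N having nonzero inner product with the restriction of χ. Consider: (a) the restriction of χ to N is e • ϑ for a natural number e with e ^ 2 equal to the index of N; (b) χ vanishes outside N and ϑ is invariant under conjugation by G; (c) ϑ is invariant and every irreducible character of G having nonzero inner product with the function induced from ϑ equals χ. Then (a) ↔ (b) and (a) ↔ (c). -/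
theorem result {G : Type*} [Group G] [Fintype G] (N : Subgroup G) [hN : N.Normal] [Fintype N] (χ : G → ℂ) (hχ : Cfsg.IsIrrCharacter G χ) (ϑ : N → ℂ) (hϑ : Cfsg.IsIrrCharacter N ϑ) (hcon : Cfsg.classInner (fun n : N => χ n) ϑ ≠ 0) : ((∃ e : ℕ, (fun n : N => χ n) = (e : ℂ) • ϑ ∧ e ^ 2 = N.index) ↔ ((∀ g : G, g ∉ N → χ g = 0) ∧ ∀ (g : G) (n : N), ϑ ⟨g * n * g⁻¹, hN.conj_mem (n : G) n.2 g⟩ = ϑ n)) ∧ ((∃ e : ℕ, (fun n : N => χ n) = (e : ℂ) • ϑ ∧ e ^ 2 = N.index) ↔ (∀ (g : G) (n : N), ϑ ⟨g * n * g⁻¹, hN.conj_mem (n : G) n.2 g⟩ = ϑ n ∧ ∀ ψ : G → ℂ, Cfsg.IsIrrCharacter G ψ → Cfsg.classInner (Cfsg.indFun N ϑ) ψ ≠ 0 → ψ = χ)) := by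
  classical
  haveI : Finite (Cfsg.IrrCharacter G) := Cfsg.Agent.Helper6.irr_finite
  haveI : Fintype (Cfsg.IrrCharacter G) := Fintype.ofFinite _
  have hχchar := Cfsg.Agent.Helper6.IsIrrCharacter.isCharacter hχ
  have hχcf := Cfsg.Agent.Helper6.IsCharacter.isClassFunction hχchar
  have hinv_iff : (∀ (g : G) (n : N), ϑ ⟨g * n * g⁻¹, hN.conj_mem (n : G) n.2 g⟩ = ϑ n) ↔
      ∀ g : G, Cfsg.Agent.Helper6.conjFun N ϑ g = ϑ :=
    ⟨fun h g => funext (h g), fun h g n => congrFun (h g) n⟩
  obtain ⟨e₀, he₀⟩ := Cfsg.Agent.Helper6.classInner_char_char_nat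
    (Cfsg.Agent.Helper6.IsCharacter.restrict N hχchar)
    (Cfsg.Agent.Helper6.IsIrrCharacter.isCharacter hϑ)
  have he₀0 : (e₀ : ℂ) ≠ 0 := by rw [← he₀]; exact hcon
  -- consequences of χ_N = e • ϑ
  have ha_e : ∀ e : ℕ, (fun n : N => χ n) = (e : ℂ) • ϑ → e = e₀ := by
    intro e h
    have h1 : Cfsg.classInner (fun n : N => χ n) ϑ = e := by
      rw [h, Cfsg.Agent.Helper6.classInner_smul_left, Cfsg.Agent.Helper6.classInner_irr_self hϑ,
        mul_one]
    rw [he₀] at h1
    exact_mod_cast h1.symm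
  have ha_inv : ∀ e : ℕ, (fun n : N => χ n) = (e : ℂ) • ϑ →
      ∀ g : G, Cfsg.Agent.Helper6.conjFun N ϑ g = ϑ := by
    intro e h g
    have hee := ha_e e h
    have h2 := Cfsg.Agent.Helper6.conjFun_restrict N χ hχcf g
    rw [h] at h2
    funext n
    have h3 := congrFun h2 n
    unfold Cfsg.Agent.Helper6.conjFun at h3 ⊢
    simp only [Pi.smul_apply, smul_eq_mul] at h3
    rw [hee] at h3
    exact mul_left_cancel₀ he₀0 h3
  have hF2 : (∀ g : G, Cfsg.Agent.Helper6.conjFun N ϑ g = ϑ) →
      (fun n : N => χ n) = (e₀ : ℂ) • ϑ := by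
    intro hi
    rw [← he₀]
    exact Cfsg.Agent.Helper6.restrict_eq_smul_of_invariant N χ hχ ϑ hϑ hcon hi
  have hnorm : ∀ e : ℕ, (fun n : N => χ n) = (e : ℂ) • ϑ →
      Cfsg.classInner (fun n : N => χ n) (fun n : N => χ n) = ((e ^ 2 : ℕ) : ℂ) := by
    intro e h
    rw [h, Cfsg.Agent.Helper6.classInner_smul_left, Cfsg.Agent.Helper6.classInner_smul_right,
      Cfsg.Agent.Helper6.classInner_irr_self hϑ, Complex.conj_natCast]
    push_cast
    ring
  have hvan := Cfsg.Agent.Helper6.vanish_off_iff_classInner_restrict N χ hχ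
  -- inner products of the induced function, under invariance
  have hindind : (∀ g : G, Cfsg.Agent.Helper6.conjFun N ϑ g = ϑ) →
      Cfsg.classInner (Cfsg.indFun N ϑ) (Cfsg.indFun N ϑ) = (N.index : ℂ) := by
    intro hi
    rw [Cfsg.Agent.Helper6.frobenius_reciprocity N ϑ _
      (Cfsg.Agent.Helper6.indFun_isClassFunction N ϑ),
      Cfsg.Agent.Helper6.indFun_restrict_of_invariant N ϑ hi,
      Cfsg.Agent.Helper6.classInner_smul_right, Cfsg.Agent.Helper6.classInner_irr_self hϑ,
      Complex.conj_natCast, mul_one]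
  have hindχ : (fun n : N => χ n) = (e₀ : ℂ) • ϑ →
      Cfsg.classInner (Cfsg.indFun N ϑ) χ = (e₀ : ℂ) := by
    intro h
    rw [Cfsg.Agent.Helper6.frobenius_reciprocity N ϑ χ hχcf, h,
      Cfsg.Agent.Helper6.classInner_smul_right, Cfsg.Agent.Helper6.classInner_irr_self hϑ,
      Complex.conj_natCast, mul_one]
  constructor
  · constructor
    · rintro ⟨e, he, hsq⟩
      refine ⟨hvan.mpr ?_, hinv_iff.mpr (ha_inv e he)⟩
      rw [hnorm e he, hsq]
    · rintro ⟨hv, hi⟩
      have hi' := hinv_iff.mp hi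
      refine ⟨e₀, hF2 hi', ?_⟩
      have := hvan.mp hv
      rw [hnorm e₀ (hF2 hi')] at this
      exact_mod_cast this
  · constructor
    · rintro ⟨e, he, hsq⟩
      have hi' := ha_inv e he
      have hee := ha_e e he
      subst hee
      have h1 := hindind hi'
      have h2 := hindχ he
      have h3 : Cfsg.classInner χ (Cfsg.indFun N ϑ) = (e : ℂ) := by
        rw [Cfsg.Agent.Helper6.classInner_conj_symm, h2, Complex.conj_natCast]
      have hzero : Cfsg.classInner (Cfsg.indFun N ϑ - (e : ℂ) • χ)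
          (Cfsg.indFun N ϑ - (e : ℂ) • χ) = 0 := by
        rw [Cfsg.Agent.Helper6.classInner_sub_left, Cfsg.Agent.Helper6.classInner_sub_right,
          Cfsg.Agent.Helper6.classInner_sub_right, Cfsg.Agent.Helper6.classInner_smul_left,
          Cfsg.Agent.Helper6.classInner_smul_left, Cfsg.Agent.Helper6.classInner_smul_right,
          Cfsg.Agent.Helper6.classInner_smul_right, h1, h2, h3,
          Cfsg.Agent.Helper6.classInner_irr_self hχ, Complex.conj_natCast, ← hsq]
        push_cast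
        ring
      have heq : Cfsg.indFun N ϑ = (e : ℂ) • χ :=
        sub_eq_zero.mp (Cfsg.Agent.Helper6.classInner_self_eq_zero hzero)
      intro g n
      refine ⟨hinv_iff.mpr hi' g n, ?_⟩
      intro ψ hψ hne
      by_contra hψχ
      apply hne
      rw [heq, Cfsg.Agent.Helper6.classInner_smul_left,
        Cfsg.Agent.Helper6.classInner_irr_ne hχ hψ (fun h => hψχ h.symm), mul_zero]
    · intro hc
      have hi : ∀ (g : G) (n : N), ϑ ⟨g * n * g⁻¹, hN.conj_mem (n : G) n.2 g⟩ = ϑ n :=
        fun g n => (hc g n).1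
      have hB := (hc 1 1).2
      have hi' := hinv_iff.mp hi
      have he := hF2 hi'
      refine ⟨e₀, he, ?_⟩
      have h1 := hindind hi'
      have h2 := hindχ he
      have h3 : Cfsg.classInner χ (Cfsg.indFun N ϑ) = (e₀ : ℂ) := by
        rw [Cfsg.Agent.Helper6.classInner_conj_symm, h2, Complex.conj_natCast]
      rw [Cfsg.Agent.Helper6.classInner_self_expansion _
        (Cfsg.Agent.Helper6.indFun_isClassFunction N ϑ)] at h1
      rw [Finset.sum_eq_single (⟨χ, hχ⟩ : Cfsg.IrrCharacter G)] at h1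
      · simp only at h1
        rw [h2, h3] at h1
        have : ((e₀ ^ 2 : ℕ) : ℂ) = (N.index : ℂ) := by
          rw [← h1]
          push_cast
          ring
        exact_mod_cast this
      · intro ψ _ hψ
        have : Cfsg.classInner (Cfsg.indFun N ϑ) (ψ : G → ℂ) = 0 := by
          by_contra hne
          exact hψ (Subtype.ext (hB ψ.1 ψ.2 hne))
        rw [this, zero_mul]
      · intro h
        exact absurd (Finset.mem_univ _) h

end Cfsg.Agent.S0900
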