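import Cfsg.Statements.S1500
import Mathlib
import Cfsg.Agent.Helper6.DadeIso
-- import your own Cfsg.Agent.* helpers here

set_option autoImplicit false
open Cfsg

namespace Cfsg.Agent.S1500

/-- Under the Dade hypothesis for (A, L, H), let α be a class function of L vanishing outside A. Then (i) for every class function β of L vanishing outside A, the inner product over G of the Dade images of α and β equals the inner product of α and β over L; and (ii) for every class function χ of G and every function ψ on L whose value at each a ∈ A is the average of χ over the coset a·H(a), the inner product over G of the Dade image of α with χ equals the inner product over L of α with ψ. -/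
theorem result {G : Type*} [Group G] [Fintype G] (A : Set G) (L : Subgroup G) [Fintype L] (H : G → Subgroup G) (hD : Cfsg.DadeHypothesis A L H) (α : L → ℂ) (hα : Cfsg.IsClassFunction L α) (hαA : ∀ x : L, (x : G) ∉ A → α x = 0) : (∀ β : L → ℂ, Cfsg.IsClassFunction L β → (∀ x : L, (x : G) ∉ A → β x = 0) → Cfsg.classInner (Cfsg.dadeIsometry A L H α) (Cfsg.dadeIsometry A L H β) = Cfsg.classInner α β) ∧ (∀ (χ : G → ℂ) (ψ : L → ℂ), Cfsg.IsClassFunction G χ → (∀ a : L, (a : G) ∈ A → ψ a = (Nat.card (H a) : ℂ)⁻¹ * ∑ᶠ u ∈ (H a : Set G), χ (a * u)) → Cfsg.classInner (Cfsg.dadeIsometry A L H α) χ = Cfsg.classInner α ψ) := by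
  classical
  have hG0 : (Nat.card L : ℂ) ≠ 0 := Nat.cast_ne_zero.mpr Nat.card_pos.ne'
  constructor
  · intro β hβ hβA
    rw [Helper6.dade_inner_formula A L H hD α hα hαA _
      (Helper6.dadeIsometry_isClassFunction A L H hD β hβ)]
    rw [Helper6.classInner_def, Helper6.classInner_def]
    congr 1
    apply Finset.sum_congr rfl
    intro a _
    by_cases ha : (a : G) ∈ A
    · congr 2
      have h1 : ∀ u : G, (if u ∈ H a then Cfsg.dadeIsometry A L H β ((a : G) * u) else 0) =
          if u ∈ H a then β a else 0 := by
        intro u
        by_cases hu : u ∈ H a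
        · rw [if_pos hu, if_pos hu]
          exact Helper6.dadeIsometry_apply_of_conj A L H hD β hβ ((a : G) * u) a ha u hu 1
            (by group)
        · rw [if_neg hu, if_neg hu]
      rw [Finset.sum_congr rfl (fun u _ => h1 u), ← Finset.sum_filter, Finset.sum_const,
        nsmul_eq_mul]
      have hcard : (Finset.univ.filter (fun u : G => u ∈ H a)).card = Nat.card (H a) := by
        rw [Nat.card_eq_fintype_card, Fintype.card_subtype]
      rw [hcard, ← mul_assoc, inv_mul_cancel₀, one_mul]
      exact Nat.cast_ne_zero.mpr Nat.card_pos.ne'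
    · rw [hαA a ha, zero_mul, zero_mul]
  · intro χ ψ hχ hψ
    rw [Helper6.dade_inner_formula A L H hD α hα hαA χ hχ]
    rw [Helper6.classInner_def, Helper6.classInner_def]
    congr 1
    apply Finset.sum_congr rfl
    intro a _
    by_cases ha : (a : G) ∈ A
    · rw [hψ a ha, Helper6.finsum_mem_eq_sum_ite]
      rfl
    · rw [hαA a ha, zero_mul, zero_mul]

end Cfsg.Agent.S1500
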