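import Cfsg.Statements.S4444
import Mathlib
import Cfsg.Agent.Helper6.GlaubS
-- import your own Cfsg.Agent.* helpers here

set_option autoImplicit false
open Cfsg

namespace Cfsg.Agent.S4444

/-- The Glauberman correspondence for a p-group of operators. Inside a finite group Γ let S normalise G with the orders of G and S coprime, S a p-group, and let C = G ⊓ C(S) be the fixed points. Call an irreducible character χ of G S-invariant when χ(s g s⁻¹) = χ(g) for s ∈ S, g ∈ G. Then: (i) for every S-invariant χ there is exactly one irreducible character β of C whose multiplicity [χ_C, β] in the restriction of χ is not divisible by p; (ii) that multiplicity is ≡ 1 or ≡ −1 (mod p); (iii) distinct S-invariant χ give distinct β; (iv) every irreducible character of C arises in this way. So χ ↦ β is a bijection from the S-invariant irreducible characters of G onto the irreducible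 characters of C. -/
theorem result {Γ : Type*} [Group Γ] [Fintype Γ] (G S : Subgroup Γ) [Fintype G] (hnorm : ∀ s ∈ S, ∀ g ∈ G, s * g * s⁻¹ ∈ G) (hcop : (Nat.card G).Coprime (Nat.card S)) (p : ℕ) (hp : p.Prime) (hS : IsPGroup p S) (C : Subgroup Γ) [Fintype C] (hC : C = G ⊓ Subgroup.centralizer (S : Set Γ)) (hCG : C ≤ G) : (∀ χ : Cfsg.IrrCharacter G, (∀ s ∈ S, ∀ g g' : G, (g' : Γ) = s * g * s⁻¹ → (χ : G → ℂ) g' = (χ : G → ℂ) g) → ∃! β : Cfsg.IrrCharacter C, ∃ m : ℕ, Cfsg.classInner (fun c : C => (χ : G → ℂ) ⟨c, hCG c.2⟩) (β : C → ℂ) = (m : ℂ) ∧ ¬ p ∣ m) ∧ (∀ χ : Cfsg.IrrCharacter G, (∀ s ∈ S, ∀ g g' : G, (g' : Γ) = s * g * s⁻¹ → (χ : G → ℂ) g' = (χ : G → ℂ) g) → ∀ β : Cfsg.IrrCharacter C, ∀ m : ℕ, Cfsg.classInner (fun c : C => (χ : G → ℂ) ⟨c, hCG c.2⟩) (β : C → ℂ) = (m : ℂ) → ¬ p ∣ m → ((m : ℤ) ≡ 1 [ZMOD p] ∨ (m : ℤ) ≡ -1 [ZMOD p])) ∧ (∀ χ χ' : Cfsg.IrrCharacter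 G, (∀ s ∈ S, ∀ g g' : G, (g' : Γ) = s * g * s⁻¹ → (χ : G → ℂ) g' = (χ : G → ℂ) g) → (∀ s ∈ S, ∀ g g' : G, (g' : Γ) = s * g * s⁻¹ → (χ' : G → ℂ) g' = (χ' : G → ℂ) g) → ∀ β : Cfsg.IrrCharacter C, ∀ m m' : ℕ, Cfsg.classInner (fun c : C => (χ : G → ℂ) ⟨c, hCG c.2⟩) (β : C → ℂ) = (m : ℂ) → ¬ p ∣ m → Cfsg.classInner (fun c : C => (χ' : G → ℂ) ⟨c, hCG c.2⟩) (β : C → ℂ) = (m' : ℂ) → ¬ p ∣ m' → χ = χ') ∧ (∀ β : Cfsg.IrrCharacter C, ∃ χ : Cfsg.IrrCharacter G, (∀ s ∈ S, ∀ g g' : G, (g' : Γ) = s * g * s⁻¹ → (χ : G → ℂ) g' = (χ : G → ℂ) g) ∧ ∃ m : ℕ, Cfsg.classInner (fun c : C => (χ : G → ℂ) ⟨c, hCG c.2⟩) (β : C → ℂ) = (m : ℂ) ∧ ¬ p ∣ m) := by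
  haveI : Fact p.Prime := ⟨hp⟩
  have St := Helper6.glaubStatement_conj G S hnorm hcop p hS C hC hCG
  have hfun : ∀ χ : G → ℂ, (fun c : C => χ ⟨c, hCG c.2⟩) = χ ∘ (Subgroup.inclusion hCG) := by
    intro χ
    funext c
    rfl
  have hinvOf : ∀ χ : G → ℂ,
      (∀ s ∈ S, ∀ g g' : G, (g' : Γ) = s * g * s⁻¹ → χ g' = χ g) →
      Helper6.InvUnder (((Helper6.conjHomOn G S hnorm).range : Subgroup (MulAut G)) :
        Set (MulAut G)) χ :=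
    fun χ h => (Helper6.invUnder_conj_iff G S hnorm χ).mpr h
  refine ⟨?_, ?_, ?_, ?_⟩
  · intro χ hinv
    obtain ⟨β₀, ⟨m, hm, hpm⟩, hoth⟩ := St.1 χ χ.2 (hinvOf χ hinv)
    refine ⟨β₀, ⟨m, ?_, Helper6.not_dvd_of_modEq_pm hp hpm⟩, ?_⟩
    · rw [hfun]
      exact hm
    · rintro β ⟨m', hm', hnd'⟩
      apply Helper6.glaubRel_unique (Subgroup.inclusion hCG) β₀ hoth β
      refine ⟨m', ?_, hnd'⟩
      rw [← hfun]
      exact hm'
  · intro χ hinv β m hm hnd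
    obtain ⟨β₀, ⟨m₀, hm₀, hpm⟩, hoth⟩ := St.1 χ χ.2 (hinvOf χ hinv)
    rw [hfun] at hm
    have e1 : β = β₀ := Helper6.glaubRel_unique (Subgroup.inclusion hCG) β₀ hoth β ⟨m, hm, hnd⟩
    subst e1
    have : m = m₀ := by
      have := hm.symm.trans hm₀
      exact_mod_cast this
    rw [this]
    exact hpm
  · intro χ χ' hinv hinv' β m m' hm hnd hm' hnd'
    rw [hfun] at hm hm'
    apply Subtype.ext
    exact St.2.1 χ χ' χ.2 (hinvOf χ hinv) χ'.2 (hinvOf χ' hinv') β ⟨m, hm, hnd⟩ ⟨m', hm', hnd'⟩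
  · intro β
    obtain ⟨χ, hχ, hinv, m, hm, hnd⟩ := St.2.2 β
    refine ⟨⟨χ, hχ⟩, (Helper6.invUnder_conj_iff G S hnorm χ).mp hinv, m, ?_, hnd⟩
    rw [hfun]
    exact hm

end Cfsg.Agent.S4444
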