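import Cfsg.Statements.S4430
import Mathlib
import Cfsg.Agent.Helper6.InducedPart
-- import your own Cfsg.Agent.* helpers here

set_option autoImplicit false
open Cfsg

namespace Cfsg.Agent.S4430

/-- Let H be a subgroup of the finite group G, b a block of H whose induced block B₀ in G is defined (relative to a maximal ideal M of the algebraic integers containing p), and ξ ∈ b. For a block B of G let n_B be the value at 1 of the B-part of the induced character ξ^G (a natural number: the sum over χ ∈ B of the multiplicity of χ in ξ^G times χ(1)). Then for B = B₀ the exact power of p dividing n_B equals the exact power of p dividing ξ^G(1), while for every other block B either n_B = 0 or n_B is divisible by a strictly higher power of p than ξ^G(1). -/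
theorem result {G : Type*} [Group G] [Fintype G] (p : ℕ) [Fact p.Prime] (M : Ideal Cfsg.AlgInt) (hM : Cfsg.IsPModular p M) (H : Subgroup G) [Fintype H] (b : Set (Cfsg.IrrCharacter H)) (B₀ : Set (Cfsg.IrrCharacter G)) (hind : Cfsg.IsInducedBlock M H b B₀) (ξ : Cfsg.IrrCharacter H) (hξ : ξ ∈ b) : (∃ n : ℕ, Cfsg.blockPart B₀ (Cfsg.indFun H (ξ : H → ℂ)) 1 = (n : ℂ) ∧ n ≠ 0 ∧ n.factorization p = (Cfsg.charDegree (Cfsg.indFun H (ξ : H → ℂ))).factorization p) ∧ ∀ B : Set (Cfsg.IrrCharacter G), Cfsg.IsPBlock M B → B ≠ B₀ → ∃ n : ℕ, Cfsg.blockPart B (Cfsg.indFun H (ξ : H → ℂ)) 1 = (n : ℂ) ∧ (n = 0 ∨ (Cfsg.charDegree (Cfsg.indFun H (ξ : H → ℂ))).factorization p < n.factorization p) := by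
  classical
  haveI : Finite (Cfsg.IrrCharacter G) := Helper6.irr_finite
  haveI : Fintype (Cfsg.IrrCharacter G) := Fintype.ofFinite _
  obtain ⟨φ, hφdef⟩ : ∃ φ : G → ℂ, φ = Cfsg.indFun H (ξ : H → ℂ) := ⟨_, rfl⟩
  rw [← hφdef]
  have hφchar : Cfsg.IsCharacter G φ := by
    rw [hφdef]
    exact Helper6.isCharacter_indFun H _ (Helper6.IsIrrCharacter.isCharacter ξ.2)
  have hφcf : Cfsg.IsClassFunction G φ := by
    rw [hφdef]
    exact Helper6.indFun_isClassFunction H _
  have hm : (Cfsg.charDegree φ : ℂ) = φ 1 := Helper6.charDegree_cast_of_isCharacter hφchar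
  have hξ1 : (ξ : H → ℂ) 1 ≠ 0 := Helper6.IsIrrCharacter.apply_one_ne_zero ξ.2
  have hB₀ := hind.2.1
  obtain ⟨χ₀, hχ₀def⟩ := hB₀
  have hχ₀ : χ₀ ∈ B₀ := by rw [hχ₀def]; exact Helper6.mem_blockOf_self hM.2.1 χ₀
  have hcong : ∀ g, Cfsg.MemLocalIdeal M
      (Cfsg.centralChar φ g - Cfsg.centralChar (χ₀ : G → ℂ) g) := by
    intro g
    have h1 := hind.2.2 ξ hξ χ₀ hχ₀ g
    rw [Helper6.inducedCentralChar_eq_sum, ← Helper6.centralChar_indFun H _ hξ1 g, ← hφdef] at h1
    exact h1
  have hm0 : Cfsg.charDegree φ ≠ 0 := by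
    intro h0
    have h1 := hcong 1
    -- `centralChar φ 1 = 0` would make the central character of `χ₀` at `1` vanish mod `M`
    have hφ1 : φ 1 = 0 := by rw [← hm, h0, Nat.cast_zero]
    have e1 : Cfsg.centralChar φ 1 = 0 := by
      unfold Cfsg.centralChar
      rw [hφ1, div_zero]
    have e2 : Cfsg.centralChar (χ₀ : G → ℂ) 1 = 1 := by
      unfold Cfsg.centralChar
      have : Subgroup.centralizer ({(1 : G)} : Set G) = ⊤ := by
        ext x
        simp [Subgroup.mem_centralizer_singleton_iff]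
      rw [this, Subgroup.index_top, Nat.cast_one, one_mul,
        div_self (Helper6.IsIrrCharacter.apply_one_ne_zero χ₀.2)]
    rw [e1, e2, zero_sub] at h1
    have := Helper6.MemLocalIdeal.neg h1
    rw [neg_neg] at this
    exact Helper6.not_memLocalIdeal_one this
  -- the block parts are natural numbers
  have ha : ∀ χ : Cfsg.IrrCharacter G, ∃ a : ℕ, Cfsg.classInner φ (χ : G → ℂ) = a := fun χ =>
    Helper6.classInner_char_char_nat hφchar (Helper6.IsIrrCharacter.isCharacter χ.2)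
  choose a ha using ha
  have hd : ∀ χ : Cfsg.IrrCharacter G, (Cfsg.charDegree (χ : G → ℂ) : ℂ) = (χ : G → ℂ) 1 :=
    fun χ => Helper6.charDegree_cast_of_isCharacter (Helper6.IsIrrCharacter.isCharacter χ.2)
  have hnat : ∀ B : Set (Cfsg.IrrCharacter G), Cfsg.blockPart B φ 1 =
      ((∑ χ : Cfsg.IrrCharacter G, if χ ∈ B then a χ * Cfsg.charDegree (χ : G → ℂ) else 0 : ℕ) :
        ℂ) := by
    intro B
    rw [Helper6.blockPart_apply, Helper6.finsum_mem_eq_sum_ite]
    push_cast
    apply Finset.sum_congr rfl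
    intro χ _
    by_cases hχ : χ ∈ B
    · rw [if_pos hχ, if_pos hχ, ha χ, hd χ]
    · rw [if_neg hχ, if_neg hχ]
  have key : ∀ B : Set (Cfsg.IrrCharacter G), Cfsg.IsPBlock M B → Cfsg.MemLocalIdeal M
      (((∑ χ : Cfsg.IrrCharacter G, if χ ∈ B then a χ * Cfsg.charDegree (χ : G → ℂ) else 0 : ℕ) :
        ℂ) / (Cfsg.charDegree φ : ℂ) - if χ₀ ∈ B then 1 else 0) := by
    intro B hB
    have h1 := Helper6.sum_blockCoeff_mul_classFunction hM.2.1 B hB φ hφcf χ₀ hcong
    rw [← Helper6.blockPart_one_eq_sum, hnat B, ← hm] at h1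
    exact h1
  constructor
  · refine ⟨_, hnat B₀, ?_⟩
    have h1 := key B₀ ⟨χ₀, hχ₀def⟩
    rw [if_pos hχ₀] at h1
    exact Helper6.factorization_eq_of_memLocalIdeal_div_sub_one hM _ _ hm0 h1
  · intro B hB hne
    refine ⟨_, hnat B, ?_⟩
    have hχ₀B : χ₀ ∉ B := by
      intro hmem
      apply hne
      obtain ⟨χB, hχB⟩ := hB
      rw [hχB, hχ₀def]
      rw [hχB] at hmem
      exact Helper6.blockOf_eq_of_sameBlock hM.2.1 hmem
    have h1 := key B hB
    rw [if_neg hχ₀B, sub_zero] at h1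
    exact Helper6.factorization_lt_of_memLocalIdeal_div hM _ _ hm0 h1

end Cfsg.Agent.S4430
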