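import Mathlib
import Cfsg.Statements.S3899
import Cfsg.Agent.Helper3.PiClasses
-- import your own Cfsg.Agent.* helpers here

set_option autoImplicit false
open Cfsg

namespace Cfsg.Agent.S3899

open Cfsg.Agent.Helper3.PiCl

universe u

/-- assembling the normal `π`-complement and the abelian Hall `π`-subgroup -/
theorem assemble {G : Type u} [Group G] [Finite G] (π : Finset ℕ) (hπ : ∀ r ∈ π, r.Prime)
    (h : ∀ r ∈ π, ∃ K : Subgroup G, K.Normal ∧ ∃ R : Sylow r G, K.IsComplement' (R : Subgroup G) ∧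
      IsMulCommutative (R : Subgroup G)) :
    (∃ N : Subgroup G, N.Normal ∧ (∀ r : ℕ, r.Prime → r ∣ Nat.card ↥N → r ∉ π) ∧
      ∀ r : ℕ, r.Prime → r ∣ N.index → r ∈ π) ∧
    ∃ H : Subgroup G, Cfsg.IsPiHall (↑π : Set ℕ) H ∧ IsMulCommutative ↥H := by
  classical
  choose! K hK using h
  obtain ⟨N, hN⟩ : ∃ N : Subgroup G, N = ⨅ r ∈ π, K r := ⟨_, rfl⟩
  have hNle : ∀ r ∈ π, N ≤ K r := by
    intro r hr
    rw [hN]
    exact iInf₂_le r hr
  have hNn : N.Normal := by
    rw [hN]
    apply Subgroup.normal_iInf_normal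
    intro r
    apply Subgroup.normal_iInf_normal
    intro hr
    exact (hK r hr).1
  have hKcard : ∀ r (hr : r ∈ π), ¬ r ∣ Nat.card (K r) := by
    intro r hr
    haveI : Fact r.Prime := ⟨hπ r hr⟩
    obtain ⟨-, R, hR, -⟩ := hK r hr
    have h1 : (R : Subgroup G).index = Nat.card (K r) := hR.index_eq_card
    rw [← h1]
    exact R.not_dvd_index
  have hKidx : ∀ r (hr : r ∈ π), ∃ e : ℕ, (K r).index = r ^ e := by
    intro r hr
    haveI : Fact r.Prime := ⟨hπ r hr⟩
    obtain ⟨-, R, hR, -⟩ := hK r hr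
    have h1 : (K r).index = Nat.card (R : Subgroup G) := hR.symm.index_eq_card
    rw [h1]
    exact IsPGroup.iff_card.1 R.isPGroup'
  have hKcomm : ∀ r (hr : r ∈ π), ∀ g h : G, g * h * g⁻¹ * h⁻¹ ∈ K r := by
    intro r hr g h
    obtain ⟨hKn, R, hR, hRc⟩ := hK r hr
    haveI := hKn
    obtain ⟨⟨k₁, a⟩, hka, -⟩ := hR.existsUnique g
    obtain ⟨⟨k₂, b⟩, hkb, -⟩ := hR.existsUnique h
    have hka' : (k₁ : G) * (a : G) = g := hka
    have hkb' : (k₂ : G) * (b : G) = h := hkb
    rw [← QuotientGroup.eq_one_iff]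
    have hg : (QuotientGroup.mk g : G ⧸ K r) = QuotientGroup.mk (a : G) := by
      rw [← hka', QuotientGroup.mk_mul, (QuotientGroup.eq_one_iff (k₁ : G)).2 k₁.2, one_mul]
    have hh : (QuotientGroup.mk h : G ⧸ K r) = QuotientGroup.mk (b : G) := by
      rw [← hkb', QuotientGroup.mk_mul, (QuotientGroup.eq_one_iff (k₂ : G)).2 k₂.2, one_mul]
    rw [QuotientGroup.mk_mul, QuotientGroup.mk_mul, QuotientGroup.mk_mul, QuotientGroup.mk_inv,
      QuotientGroup.mk_inv, hg, hh, ← QuotientGroup.mk_inv, ← QuotientGroup.mk_inv,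
      ← QuotientGroup.mk_mul, ← QuotientGroup.mk_mul, ← QuotientGroup.mk_mul]
    have hab : (a : G) * b = b * a := by
      have h2 : a * b = b * a := hRc.is_comm.comm a b
      have h3 := congrArg Subtype.val h2
      simpa using h3
    have : (a : G) * b * (a : G)⁻¹ * (b : G)⁻¹ = 1 := by
      rw [hab]; group
    rw [this]
    rfl
  have hNcard : ∀ r : ℕ, r.Prime → r ∣ Nat.card ↥N → r ∉ π := by
    intro r hr hrd hrπ
    exact hKcard r hrπ (hrd.trans (Subgroup.card_dvd_of_le (hNle r hrπ)))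
  have hNidx : ∀ q : ℕ, q.Prime → q ∣ N.index → q ∈ π := by
    intro q hq hqd
    by_contra hqπ
    haveI : Fact q.Prime := ⟨hq⟩
    obtain ⟨Q⟩ := (inferInstance : Nonempty (Sylow q G))
    have hQN : (Q : Subgroup G) ≤ N := by
      intro x hx
      rw [hN, Subgroup.mem_iInf]
      intro r
      rw [Subgroup.mem_iInf]
      intro hr
      obtain ⟨hKn, -⟩ := hK r hr
      haveI := hKn
      obtain ⟨e, he⟩ := hKidx r hr
      rw [← QuotientGroup.eq_one_iff, ← orderOf_eq_one_iff]
      obtain ⟨j, hj⟩ := (IsPGroup.iff_orderOf.1 Q.isPGroup') ⟨x, hx⟩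
      rw [Subgroup.orderOf_mk] at hj
      have h1 : orderOf (QuotientGroup.mk x : G ⧸ K r) ∣ q ^ j := by
        rw [← hj]
        exact orderOf_map_dvd (QuotientGroup.mk' (K r)) x
      have h2 : orderOf (QuotientGroup.mk x : G ⧸ K r) ∣ r ^ e := by
        rw [← he]
        exact orderOf_dvd_natCard _
      have hqr : q ≠ r := fun hqr => hqπ (hqr ▸ hr)
      have hcop : Nat.Coprime (q ^ j) (r ^ e) :=
        Nat.Coprime.pow _ _ ((Nat.coprime_primes hq (hπ r hr)).2 hqr)
      exact Nat.eq_one_of_dvd_coprimes hcop h1 h2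
    have h1 : N.index ∣ (Q : Subgroup G).index := Subgroup.index_dvd_of_le hQN
    exact Q.not_dvd_index (hqd.trans h1)
  refine ⟨⟨N, hNn, hNcard, hNidx⟩, ?_⟩
  have hcop : (Nat.card N).Coprime N.index := by
    apply Nat.Coprime.symm
    apply Nat.coprime_of_dvd
    intro q hq hq1 hq2
    exact hNcard q hq hq2 (hNidx q hq hq1)
  obtain ⟨H, hH⟩ := Subgroup.exists_right_complement'_of_coprime hcop
  refine ⟨H, ⟨?_, ?_⟩, ?_⟩
  · intro q hq hqd
    have h1 : N.index = Nat.card H := hH.symm.index_eq_card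
    rw [← h1] at hqd
    exact hNidx q hq hqd
  · intro q hq hqπ hqd
    have h1 : H.index = Nat.card N := hH.index_eq_card
    rw [h1] at hqd
    exact hNcard q hq hqd hqπ
  · refine ⟨⟨fun a b => ?_⟩⟩
    apply Subtype.ext
    have h1 : (a : G) * b * (a : G)⁻¹ * (b : G)⁻¹ ∈ N := by
      rw [hN, Subgroup.mem_iInf]
      intro r
      rw [Subgroup.mem_iInf]
      intro hr
      exact hKcomm r hr a b
    have h2 : (a : G) * b * (a : G)⁻¹ * (b : G)⁻¹ ∈ H :=
      H.mul_mem (H.mul_mem (H.mul_mem a.2 b.2) (H.inv_mem a.2)) (H.inv_mem b.2)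
    have h3 := Subgroup.disjoint_def.1 hH.disjoint h1 h2
    rw [Subgroup.coe_mul, Subgroup.coe_mul]
    calc (a : G) * b = ((a : G) * b * (a : G)⁻¹ * (b : G)⁻¹) * (b * a) := by group
      _ = b * a := by rw [h3, one_mul]

/-- Let π be a finite non-empty set of odd primes with smallest member p and G a finite group. Write k_π(G) for the number of conjugacy classes of G consisting of π-elements (elements all of whose order's prime divisors lie in π) and |G|_π for the π-part of the order of G. If k_π(G) > (p + 1)|G|_π/(2p), then G has a normal π-complement (a normal subgroup of order prime to π whose index is a π-number) and an abelian Hall π-subgroup. -/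
theorem result {G : Type*} [Group G] [Finite G] (π : Finset ℕ) (hπ : ∀ r ∈ π, r.Prime) (h2 : 2 ∉ π) (p : ℕ) (hp : p ∈ π)
    (hmin : ∀ r ∈ π, p ≤ r) (hk : (p + 1) * π.prod (fun r => r ^ (Nat.card G).factorization r) < 2 * p * Nat.card {c : ConjClasses G // ∀ x ∈ c.carrier, ∀ r : ℕ, r.Prime → r ∣ orderOf x → r ∈ π}) :
    (∃ N : Subgroup G, N.Normal ∧ (∀ r : ℕ, r.Prime → r ∣ Nat.card ↥N → r ∉ π) ∧ ∀ r : ℕ, r.Prime → r ∣ N.index → r ∈ π) ∧ ∃ H : Subgroup G, Cfsg.IsPiHall (↑π : Set ℕ) H ∧ IsMulCommutative ↥H := by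
  classical
  apply assemble π hπ
  intro r hr
  have hrp := hπ r hr
  haveI : Fact r.Prime := ⟨hrp⟩
  have hr2 : r ≠ 2 := fun h => h2 (h ▸ hr)
  have hpp := hπ p hp
  obtain ⟨R⟩ := (inferInstance : Nonempty (Sylow r G))
  have h1 := kPi_le_mul (G := G) π hπ hr
  have hk' : (p + 1) * π.prod (fun q => q ^ (Nat.card G).factorization q) < 2 * p * kPi π G := hk
  rw [← Finset.mul_prod_erase π _ hr] at hk'
  obtain ⟨E, hE⟩ : ∃ E : ℕ, E = (π.erase r).prod (fun q => q ^ (Nat.card G).factorization q) :=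
    ⟨_, rfl⟩
  rw [← hE] at hk' h1
  have hEpos : 0 < E := by
    rw [hE]
    apply Finset.prod_pos
    intro q hq
    exact pow_pos (hπ q (Finset.mem_of_mem_erase hq)).pos _
  have h3 : (p + 1) * r ^ (Nat.card G).factorization r < 2 * p * kPi {r} G := by
    have h4 : (p + 1) * r ^ (Nat.card G).factorization r * E < 2 * p * kPi {r} G * E := by
      calc (p + 1) * r ^ (Nat.card G).factorization r * E
          = (p + 1) * (r ^ (Nat.card G).factorization r * E) := by ring
        _ < 2 * p * kPi π G := hk'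
        _ ≤ 2 * p * (kPi {r} G * E) := Nat.mul_le_mul_left _ h1
        _ = 2 * p * kPi {r} G * E := by ring
    exact Nat.lt_of_mul_lt_mul_right h4
  have hcard : ∀ R' : Sylow r G, Nat.card (R' : Subgroup G) = r ^ (Nat.card G).factorization r :=
    fun R' => Sylow.card_eq_multiplicity R'
  have h5 : ∀ R' : Sylow r G, (r + 1) * Nat.card (R' : Subgroup G) <
      2 * r * Nat.card {c : ConjClasses G // ∀ x ∈ c.carrier, ∃ k : ℕ, orderOf x = r ^ k} := by
    intro R'
    rw [hcard R', ← kPi_singleton_eq hrp]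
    have hpr : p ≤ r := hmin r hr
    have h6 : p * ((r + 1) * r ^ (Nat.card G).factorization r) <
        p * (2 * r * kPi {r} G) := by
      have h7 := Nat.mul_le_mul_right (r ^ (Nat.card G).factorization r) hpr
      nlinarith [h3, h7, hrp.pos]
    exact Nat.lt_of_mul_lt_mul_left h6
  obtain ⟨⟨P', K, hKn, hK⟩, -⟩ := (Cfsg.Agent.S3897.result hr2 R).1 (h5 R)
  obtain ⟨-, hcomm⟩ := (Cfsg.Agent.S3897.result hr2 P').1 (h5 P')
  exact ⟨K, hKn, P', hK, hcomm⟩


end Cfsg.Agent.S3899
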