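import Cfsg.Statements.S4452
import Mathlib
import Cfsg.Agent.Helper6.CopB
import Cfsg.Agent.Helper6.CopC
import Cfsg.Agent.Helper6.CopD
import Cfsg.Agent.Helper6.GlaubZ
-- import your own Cfsg.Agent.* helpers here

set_option autoImplicit false
open Cfsg

namespace Cfsg.Agent.S4452

/-- Let the finite group G be the product of a normal subgroup K and a solvable subgroup H of coprime orders, and let N = N_G(H). Then the number of irreducible characters of G of degree coprime to the order of H equals the number of irreducible characters of N of degree coprime to the order of H. (The two sets are in fact in a canonical bijection; only the equality of their sizes is stated here.) -/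
theorem result {G : Type*} [Group G] [Finite G] (K H : Subgroup G) [K.Normal] (hKH : K ⊔ H = ⊤) (hcop : (Nat.card K).Coprime (Nat.card H)) (hsolv : Group.IsSolvable H) : Nat.card {χ : Cfsg.IrrCharacter G // (Cfsg.charDegree (χ : G → ℂ)).Coprime (Nat.card H)} = Nat.card {η : Cfsg.IrrCharacter (Subgroup.normalizer (H : Set G)) // (Cfsg.charDegree (η : Subgroup.normalizer (H : Set G) → ℂ)).Coprime (Nat.card H)} := by
  classical
  haveI := Fintype.ofFinite G
  haveI hKn : K.Normal := inferInstance
  have hint : K ⊓ H = ⊥ := (Subgroup.disjoint_of_coprime_natCard hcop).eq_bot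
  have hidx : K.index = Nat.card H := Helper6.index_eq_card_of_complement K H hint hKH
  have hdecG : ∀ x : G, ∃ k ∈ K, ∃ h : H, x = k * (h : G) := by
    intro x
    have hx : x ∈ (↑(K ⊔ H) : Set G) := by rw [hKH]; trivial
    rw [Subgroup.normal_mul] at hx
    obtain ⟨k, hk, h, hh, rfl⟩ := Set.mem_mul.mp hx
    exact ⟨k, hk, ⟨h, hh⟩, rfl⟩
  -- the left hand side
  have hL := Helper6.card_irr_coprime_degree K (by rw [hidx]; exact hcop)
  rw [hidx] at hL
  have hLlin : Nat.card {μ : G →* ℂˣ // ∀ k ∈ K, μ k = 1} = Nat.card (H →* ℂˣ) := by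
    apply Helper6.card_hom_trivial_on_eq K H.subtype
    · intro h hh
      have : (h : G) ∈ K ⊓ H := Subgroup.mem_inf.mpr ⟨hh, h.2⟩
      rw [hint, Subgroup.mem_bot] at this
      exact Subtype.ext this
    · exact hdecG
  -- invariant characters of `K`
  have hA : Group.IsSolvable (Helper6.conjActHom K H).range :=
    Group.isSolvable_of_surjective (Helper6.conjActHom K H).rangeRestrict_surjective
  have hcopA : (Nat.card K).Coprime (Nat.card (Helper6.conjActHom K H).range) :=
    Nat.Coprime.coprime_dvd_right (Subgroup.card_range_dvd _) hcop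
  haveI : Fintype K := Fintype.ofFinite K
  have hInv : Nat.card {θ : Cfsg.IrrCharacter K // ∀ (g : G) (n : K),
      (θ : K → ℂ) ⟨g * n * g⁻¹, hKn.conj_mem (n : G) n.2 g⟩ = (θ : K → ℂ) n} =
      Nat.card {θ : Cfsg.IrrCharacter K //
        Helper6.InvUnder (((Helper6.conjActHom K H).range : Subgroup (MulAut K)) : Set (MulAut K))
          (θ : K → ℂ)} := by
    apply Nat.card_congr
    apply Equiv.subtypeEquivRight
    intro θ
    constructor
    · rintro h a ⟨s, rfl⟩ k
      have := h (s : G) k
      rw [← this]
      congr 1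
    · intro h g n
      obtain ⟨k, hk, s, rfl⟩ := hdecG g
      have h1 := h (Helper6.conjActHom K H s) ⟨s, rfl⟩ n
      have hcf := Helper6.IsCharacter.isClassFunction (Helper6.IsIrrCharacter.isCharacter θ.2)
      have h2 := hcf (Helper6.conjActHom K H s n) ⟨k, hk⟩
      rw [← h1, ← h2]
      apply congrArg
      apply Subtype.ext
      simp only [Subgroup.coe_mul, Subgroup.coe_inv, Helper6.conjActHom_apply]
      group
  rw [hInv, Helper6.card_invariant_irr_eq_card_irr_fixedSub _ _ rfl hA hcopA,
    Helper6.card_irr_congr (Helper6.fixedSubNormalizerEquiv K H hint), hLlin] at hL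
  -- the right hand side
  have hHN : H ≤ Subgroup.normalizer (H : Set G) := Subgroup.le_normalizer
  have hidx' : (K.subgroupOf (Subgroup.normalizer (H : Set G))).index = Nat.card H := by
    change K.relIndex (Subgroup.normalizer (H : Set G)) = Nat.card H
    have h1 : K.relIndex (Subgroup.normalizer (H : Set G) ⊔ K) =
        K.relIndex (Subgroup.normalizer (H : Set G)) := Subgroup.relIndex_sup_right _ K
    have h2 : Subgroup.normalizer (H : Set G) ⊔ K = ⊤ := by
      rw [eq_top_iff, ← hKH, sup_comm]
      exact sup_le_sup_right hHN K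
    rw [h2, Subgroup.relIndex_top_right, hidx] at h1
    exact h1.symm
  have hcop' : (Nat.card (K.subgroupOf (Subgroup.normalizer (H : Set G)))).Coprime
      (K.subgroupOf (Subgroup.normalizer (H : Set G))).index := by
    rw [hidx']
    exact Nat.Coprime.coprime_dvd_left
      (Subgroup.card_dvd_of_injective _ (Helper6.subgroupOfHom_injective K _)) hcop
  have hR := Helper6.card_irr_coprime_degree (K.subgroupOf (Subgroup.normalizer (H : Set G))) hcop'
  rw [hidx'] at hR
  have hdecN : ∀ x : Subgroup.normalizer (H : Set G),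
      ∃ k ∈ K.subgroupOf (Subgroup.normalizer (H : Set G)), ∃ h : H,
        x = k * Subgroup.inclusion hHN h := by
    intro x
    obtain ⟨k, hk, h, hx⟩ := hdecG x
    have hkN : k ∈ Subgroup.normalizer (H : Set G) := by
      have : k = x * (h : G)⁻¹ := by rw [hx]; group
      rw [this]
      exact Subgroup.mul_mem _ x.2 (Subgroup.inv_mem _ (hHN h.2))
    refine ⟨⟨k, hkN⟩, Subgroup.mem_subgroupOf.mpr hk, h, ?_⟩
    apply Subtype.ext
    rw [Subgroup.coe_mul, hx]
    rfl
  have hRlin : Nat.card {μ : Subgroup.normalizer (H : Set G) →* ℂˣ //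
      ∀ k ∈ K.subgroupOf (Subgroup.normalizer (H : Set G)), μ k = 1} = Nat.card (H →* ℂˣ) := by
    apply Helper6.card_hom_trivial_on_eq (K.subgroupOf (Subgroup.normalizer (H : Set G)))
      (Subgroup.inclusion hHN)
    · intro h hh
      rw [Subgroup.mem_subgroupOf] at hh
      have : (h : G) ∈ K ⊓ H := Subgroup.mem_inf.mpr ⟨hh, h.2⟩
      rw [hint, Subgroup.mem_bot] at this
      exact Subtype.ext this
    · exact hdecN
  have hRinv : Nat.card {θ : Cfsg.IrrCharacter (K.subgroupOf (Subgroup.normalizer (H : Set G))) //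
      ∀ (g : Subgroup.normalizer (H : Set G)) (n : K.subgroupOf (Subgroup.normalizer (H : Set G))),
      (θ : K.subgroupOf (Subgroup.normalizer (H : Set G)) → ℂ)
        ⟨g * n * g⁻¹, Subgroup.Normal.conj_mem inferInstance (n : Subgroup.normalizer (H : Set G))
          n.2 g⟩ = (θ : K.subgroupOf (Subgroup.normalizer (H : Set G)) → ℂ) n} =
      Nat.card (Cfsg.IrrCharacter (K.subgroupOf (Subgroup.normalizer (H : Set G)))) := by
    apply Nat.card_congr
    apply Equiv.subtypeUnivEquiv
    intro θ g n
    obtain ⟨k, hk, s, rfl⟩ := hdecN g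
    have hcf := Helper6.IsCharacter.isClassFunction (Helper6.IsIrrCharacter.isCharacter θ.2)
    have h2 := hcf n ⟨k, hk⟩
    rw [← h2]
    apply congrArg
    apply Subtype.ext
    apply Subtype.ext
    have hcomm := Helper6.commute_of_mem_normalizer K H hint ((n : Subgroup.normalizer (H : Set G)) : G)
      (Subgroup.mem_subgroupOf.mp n.2) (n : Subgroup.normalizer (H : Set G)).2 (s : G) s.2
    simp only [Subgroup.coe_mul, Subgroup.coe_inv, Subgroup.coe_inclusion, mul_inv_rev]
    calc (k : G) * (s : G) * ((n : Subgroup.normalizer (H : Set G)) : G) * ((s : G)⁻¹ * (k : G)⁻¹)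
        = (k : G) * ((s : G) * ((n : Subgroup.normalizer (H : Set G)) : G) * (s : G)⁻¹) * (k : G)⁻¹ := by
          group
      _ = (k : G) * ((n : Subgroup.normalizer (H : Set G)) : G) * (k : G)⁻¹ := by rw [hcomm]
  rw [hRinv, hRlin] at hR
  rw [hL, hR]

end Cfsg.Agent.S4452
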