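import Mathlib
import Cfsg.Agent.Helper5.LargeSub
import Cfsg.Agent.Helper5.PIrreducible
import Cfsg.Agent.Helper5.PGroupCenter
import Cfsg.Agent.Helper5.StrongEmb
import Cfsg.Agent.S2844
import Cfsg.Agent.S2840
import Cfsg.Statements.S2843
-- import your own Cfsg.Agent.* helpers here

set_option autoImplicit false
open Cfsg Cfsg.Agent.Helper5
open scoped commutatorElement

namespace Cfsg.Agent.S2843

/-- Let Q be a nontrivial large p-subgroup of the finite group H, Q ≤ L ≤ H, and Y a nontrivial p-subgroup of H normalized by L. Let L° be the weak closure of Q in L (generated by the conjugates of Q inside L). Then L° equals the weak closure of Q in L·C_H(Y), and [L°, C_H(Y)] ≤ O_p(L°); in particular C_H(Y) normalizes L°. -/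
theorem result {H : Type*} [Group H] [Finite H] {p : ℕ} [Fact p.Prime] (Q : Subgroup H) (hQp : IsPGroup p ↥Q) (hQ1 : Q ≠ ⊥) (hL : Cfsg.IsLarge Q) (L : Subgroup H) (hQL : Q ≤ L) (Y : Subgroup H) (hYp : IsPGroup p ↥Y) (hY1 : Y ≠ ⊥) (hLY : L ≤ Subgroup.normalizer ((Y : Subgroup H) : Set H)) : Cfsg.weakClosure Q L = Cfsg.weakClosure Q (L ⊔ Subgroup.centralizer ((Y : Subgroup H) : Set H)) ∧ ⁅Cfsg.weakClosure Q L, Subgroup.centralizer ((Y : Subgroup H) : Set H)⁆ ≤ (Cfsg.pCoreOf p (Cfsg.weakClosure Q L)) ∧ Subgroup.centralizer ((Y : Subgroup H) : Set H) ≤ Subgroup.normalizer (((Cfsg.weakClosure Q L) : Subgroup H) : Set H) := by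
  have hwc := Cfsg.Agent.S2844.large_weaklyClosed Q hQp hQ1 hL
  set C := Subgroup.centralizer (Y : Set H) with hC
  have hQNY : Q ≤ Subgroup.normalizer (Y : Set H) := hQL.trans hLY
  have hCNQ : C ≤ Subgroup.normalizer (Q : Set H) := by
    have hT : IsPGroup p ↥(Q ⊔ Y : Subgroup H) := IsPGroup.to_sup_of_normal_right' hQp hYp hQNY
    obtain ⟨x, hxY, hxo, hxc⟩ := exists_orderOf_eq_prime_central (Q ⊔ Y) Y hT le_sup_right hY1
      (sup_le hQNY Subgroup.le_normalizer)
    set U := Y ⊓ Subgroup.centralizer (Q : Set H) with hU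
    have hxU : x ∈ U := ⟨hxY, by
      show x ∈ Subgroup.centralizer (Q : Set H)
      rw [Subgroup.mem_centralizer_iff]
      intro q hq
      exact hxc q (le_sup_left (a := Q) (b := Y) hq)⟩
    have hU1 : U ≠ ⊥ := by
      intro h
      rw [h, Subgroup.mem_bot] at hxU
      rw [hxU, orderOf_one] at hxo
      exact (Fact.out : p.Prime).one_lt.ne hxo
    have h1 := hL.2 U inf_le_right hU1
    exact ((Subgroup.centralizer_le (inf_le_left : U ≤ Y)).trans
      (Subgroup.centralizer_le_normalizer _)).trans h1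
  have hLC : ∀ l ∈ L, ∀ c ∈ C, l * c * l⁻¹ ∈ C := fun l hl c hc =>
    conj_mem_centralizer_of_mem_normalizer Y l (hLY hl) c hc
  have hCNQl : ∀ l ∈ L, C ≤ Subgroup.normalizer
      ((Q.map (MulAut.conj l).toMonoidHom : Subgroup H) : Set H) := by
    intro l hl c hc
    rw [normalizer_map_conj, mem_map_conj_iff]
    apply hCNQ
    have := hLC l⁻¹ (L.inv_mem hl) c hc
    simpa using this
  have hLo : Cfsg.weakClosure Q L = ⨆ k : ↥L, Q.map (MulAut.conj (k : H)).toMonoidHom :=
    (Cfsg.Agent.S2840.result Q hQp hQ1 hwc L hQL _ rfl).1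
  set Lo := Cfsg.weakClosure Q L with hLodef
  have hQlL : ∀ l : ↥L, Q.map (MulAut.conj (l : H)).toMonoidHom ≤ L := by
    intro l
    rw [map_conj_le_iff]
    intro x hx
    exact L.mul_mem (L.mul_mem l.2 (hQL hx)) (L.inv_mem l.2)
  have hLoL : Lo ≤ L := by rw [hLo]; exact iSup_le hQlL
  have hc : C ≤ Subgroup.normalizer (Lo : Set H) := by
    intro c hcC
    rw [mem_normalizer_iff_map_conj, hLo, Subgroup.map_iSup]
    congr 1
    funext l
    exact (mem_normalizer_iff_map_conj _ c).mp (hCNQl l l.2 hcC)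
  have hLNLo : L ≤ Subgroup.normalizer (Lo : Set H) := by
    apply le_normalizer_of_conj_mem
    intro m hm x hx
    have h1 : Lo.map (MulAut.conj m).toMonoidHom ≤ Lo := by
      rw [hLo, Subgroup.map_iSup]
      apply iSup_le
      intro l
      rw [map_conj_map_conj]
      exact le_iSup (fun k : ↥L => Q.map (MulAut.conj (k : H)).toMonoidHom) (⟨m, hm⟩ * l)
    exact h1 (conj_mem_map_conj Lo m x hx)
  have hQLo : Q ≤ Lo := by
    rw [hLo]
    have h1 := le_iSup (fun k : ↥L => Q.map (MulAut.conj (k : H)).toMonoidHom) 1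
    have h0 : Q.map (MulAut.conj (((1 : ↥L) : H) : H)).toMonoidHom = Q := by
      rw [Subgroup.coe_one, map_conj_one]
    exact le_of_eq_of_le h0.symm h1
  have ha : Lo = Cfsg.weakClosure Q (L ⊔ C) := by
    apply le_antisymm
    · rw [hLodef]
      unfold Cfsg.weakClosure
      apply iSup_le
      rintro ⟨g, hg⟩
      exact le_iSup (fun g : {g : H // Q.map (MulAut.conj g).toMonoidHom ≤ L ⊔ C} =>
        Q.map (MulAut.conj (g : H)).toMonoidHom) ⟨g, hg.trans le_sup_left⟩
    · rw [(Cfsg.Agent.S2840.result Q hQp hQ1 hwc (L ⊔ C) (hQL.trans le_sup_left) _ rfl).1]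
      apply iSup_le
      intro k
      have hk : (k : H) ∈ Subgroup.normalizer (Lo : Set H) := (sup_le hLNLo hc) k.2
      rw [← (mem_normalizer_iff_map_conj Lo k).mp hk]
      exact Subgroup.map_mono hQLo
  refine ⟨ha, ?_, hc⟩
  -- (b)
  set F : ↥L → Subgroup H := fun l => Q.map (MulAut.conj (l : H)).toMonoidHom ⊓ C with hF
  set R := ⨆ l : ↥L, F l with hR
  have hRp : IsPGroup p ↥R := by
    apply iSup_isPGroup_of_le_normalizer C F (fun l => inf_le_right) _ (fun l => (hQp.map _).to_le inf_le_left)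
    intro l
    apply le_normalizer_of_conj_mem
    rintro c hcC x ⟨hx1, hx2⟩
    refine ⟨?_, C.mul_mem (C.mul_mem hcC hx2) (C.inv_mem hcC)⟩
    exact (Subgroup.mem_normalizer_iff.mp (hCNQl l l.2 hcC) x).mp hx1
  have hLNR : L ≤ Subgroup.normalizer (R : Set H) := by
    apply le_normalizer_of_conj_mem
    intro m hm x hx
    have h1 : R.map (MulAut.conj m).toMonoidHom ≤ R := by
      rw [hR, Subgroup.map_iSup]
      apply iSup_le
      intro l
      refine le_trans ?_ (le_iSup F (⟨m, hm⟩ * l))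
      rw [map_conj_le_iff]
      rintro y ⟨hy1, hy2⟩
      refine ⟨?_, hLC m hm y hy2⟩
      show m * y * m⁻¹ ∈ Q.map (MulAut.conj ((⟨m, hm⟩ * l : ↥L) : H)).toMonoidHom
      rw [Subgroup.coe_mul, ← map_conj_map_conj]
      exact conj_mem_map_conj _ m y hy1
    exact h1 (conj_mem_map_conj R m x hx)
  have hQlM : ∀ l : ↥L, Q.map (MulAut.conj (l : H)).toMonoidHom ≤ commGuard C R := by
    intro l y hy
    rw [mem_commGuard]
    refine ⟨hLNR (hQlL l hy), fun c hcC => ?_⟩
    apply le_iSup F l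
    refine ⟨?_, ?_⟩
    · have h1 := (Subgroup.mem_normalizer_iff.mp (hCNQl l l.2 hcC) y⁻¹).mp (inv_mem hy)
      have h2 : y * c * y⁻¹ * c⁻¹ = y * (c * y⁻¹ * c⁻¹) := by group
      rw [h2]
      exact mul_mem hy h1
    · have h2 := hLC y (hQlL l hy) c hcC
      exact C.mul_mem h2 (C.inv_mem hcC)
  have hLoM : Lo ≤ commGuard C R := by rw [hLo]; exact iSup_le hQlM
  have hDR : ⁅Lo, C⁆ ≤ R := by
    rw [Subgroup.commutator_le]
    intro x hx c hcC
    rw [commutatorElement_def]
    exact ((mem_commGuard C R x).mp (hLoM hx)).2 c hcC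
  have hDLo : ⁅Lo, C⁆ ≤ Lo := by
    rw [Subgroup.commutator_le]
    intro x hx c hcC
    rw [commutatorElement_def]
    have h1 := (Subgroup.mem_normalizer_iff.mp (hc hcC) x⁻¹).mp (inv_mem hx)
    have h2 : x * c * x⁻¹ * c⁻¹ = x * (c * x⁻¹ * c⁻¹) := by group
    rw [h2]
    exact mul_mem hx h1
  set D := ⁅Lo, C⁆ with hD
  have hDn : (D.subgroupOf Lo).Normal := by
    constructor
    intro n hn g
    rw [Subgroup.mem_subgroupOf] at hn ⊢
    have := conj_mem_commutator_left Lo C g g.2 n hn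
    simpa using this
  have hDp : IsPGroup p ↥(D.subgroupOf Lo) := (hRp.to_le hDR).comap_subtype
  have h5 := le_pCore hDn hDp
  intro d hd
  unfold Cfsg.pCoreOf
  exact ⟨⟨d, hDLo hd⟩, h5 (Subgroup.mem_subgroupOf.mpr hd), rfl⟩

end Cfsg.Agent.S2843
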