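import Cfsg.Statements.S4449
import Mathlib
import Cfsg.Agent.Helper6.GlaubS
import Cfsg.Agent.Helper6.GlaubAC
import Cfsg.Agent.Helper6.BrauerPerm2
import Cfsg.Agent.Helper6.Constituent
-- import your own Cfsg.Agent.* helpers here

set_option autoImplicit false
open Cfsg

namespace Cfsg.Agent.S4449

/-- Inside a finite group Γ let the solvable subgroup S normalise G with the orders of G and S coprime, and let N be a normal subgroup of G normalised by S. Then for every S-invariant irreducible character ϑ of N, the induced character ϑ^G has an S-invariant irreducible constituent. -/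
theorem result {Γ : Type*} [Group Γ] [Fintype Γ] (G S N : Subgroup Γ) [Fintype G] [Fintype N] (hnorm : ∀ s ∈ S, ∀ g ∈ G, s * g * s⁻¹ ∈ G) (hNG : N ≤ G) (hNnormal : ∀ g ∈ G, ∀ n ∈ N, g * n * g⁻¹ ∈ N) (hNS : ∀ s ∈ S, ∀ n ∈ N, s * n * s⁻¹ ∈ N) (hcop : (Nat.card G).Coprime (Nat.card S)) (hsolv : Group.IsSolvable S) (θ : Cfsg.IrrCharacter N) (hinv : (∀ s ∈ S, ∀ g g' : N, (g' : Γ) = s * g * s⁻¹ → (θ : N → ℂ) g' = (θ : N → ℂ) g)) : ∃ χ : Cfsg.IrrCharacter G, Cfsg.classInner (fun n : N => (χ : G → ℂ) ⟨n, hNG n.2⟩) (θ : N → ℂ) ≠ 0 ∧ (∀ s ∈ S, ∀ g g' : G, (g' : Γ) = s * g * s⁻¹ → (χ : G → ℂ) g' = (χ : G → ℂ) g) := by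
  classical
  haveI : (N.subgroupOf G).Normal := by
    constructor
    intro n hn g
    rw [Subgroup.mem_subgroupOf] at hn ⊢
    exact hNnormal g.1 g.2 n.1 hn
  haveI : Fintype (N.subgroupOf G) := Fintype.ofFinite _
  have hst : ∀ a ∈ (Helper6.conjHomOn G S hnorm).range, ∀ g ∈ N.subgroupOf G,
      a g ∈ N.subgroupOf G := by
    rintro a ⟨s, rfl⟩ g hg
    rw [Subgroup.mem_subgroupOf] at hg ⊢
    rw [Helper6.conjHomOn_apply]
    exact hNS s.1 s.2 g.1 hg
  have hA : Group.IsSolvable (Helper6.conjHomOn G S hnorm).range :=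
    Group.isSolvable_of_surjective (Helper6.conjHomOn G S hnorm).rangeRestrict_surjective
  have hcop' : (Nat.card G).Coprime (Nat.card (Helper6.conjHomOn G S hnorm).range) :=
    Nat.Coprime.coprime_dvd_right (Subgroup.card_range_dvd _) hcop
  have hθ' : Cfsg.IsIrrCharacter (N.subgroupOf G)
      ((θ : N → ℂ) ∘ (Subgroup.subgroupOfEquivOfLe hNG)) :=
    Helper6.IsIrrCharacter.comp_mulEquiv (Subgroup.subgroupOfEquivOfLe hNG) θ.2
  have hinv' : ∀ (a : (Helper6.conjHomOn G S hnorm).range) (n : N.subgroupOf G),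
      ((⟨_, hθ'⟩ : Cfsg.IrrCharacter (N.subgroupOf G)) : N.subgroupOf G → ℂ)
        (Helper6.restrictHom (Helper6.conjHomOn G S hnorm).range (N.subgroupOf G) hst a n) =
      ((⟨_, hθ'⟩ : Cfsg.IrrCharacter (N.subgroupOf G)) : N.subgroupOf G → ℂ) n := by
    rintro ⟨a, s, rfl⟩ n
    change (θ : N → ℂ) (Subgroup.subgroupOfEquivOfLe hNG _) =
      (θ : N → ℂ) (Subgroup.subgroupOfEquivOfLe hNG n)
    apply hinv s.1 s.2
    rw [Subgroup.subgroupOfEquivOfLe_apply_coe, Subgroup.subgroupOfEquivOfLe_apply_coe,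
      Helper6.restrictHom_apply]
    exact Helper6.conjHomOn_apply G S hnorm s n.1
  obtain ⟨χ, hχ, hχinv, hχθ⟩ := Helper6.exists_invariant_over
    (Nat.card (Helper6.conjHomOn G S hnorm).range) (Helper6.conjHomOn G S hnorm).range rfl hA hcop'
    (N.subgroupOf G) hst ⟨_, hθ'⟩ hinv'
  refine ⟨⟨χ, hχ⟩, ?_, (Helper6.invUnder_conj_iff G S hnorm χ).mp hχinv⟩
  intro h0
  apply hχθ
  rw [← h0]
  have h1 := Helper6.classInner_comp_equiv' (Subgroup.subgroupOfEquivOfLe hNG).toEquiv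
    (fun n : N => χ ⟨n, hNG n.2⟩) (θ : N → ℂ)
  rw [← h1]
  congr 1

end Cfsg.Agent.S4449
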