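import Cfsg.Statements.S0857
import Mathlib
import Cfsg.Agent.Helper6.ChiefRestrict
-- import your own Cfsg.Agent.* helpers here

set_option autoImplicit false
open Cfsg

namespace Cfsg.Agent.S0857

/-- Let L < K be normal subgroups of the finite group G with no normal subgroup of G strictly between them and with K / L abelian (the commutator subgroup of K lies in L). Let ϑ be an irreducible character of K invariant under conjugation by G. Then the restriction of ϑ to L is irreducible; or it equals e times an irreducible character of L with e ^ 2 equal to the index of L in K; or it is the sum of a family of pairwise distinct irreducible characters of L indexed by a set whose size is the index of L in K. -/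
theorem result {G : Type*} [Group G] [Fintype G] (K L : Subgroup G) [hK : K.Normal] [L.Normal] (hLK : L < K) (hchief : ∀ M : Subgroup G, M.Normal → L ≤ M → M ≤ K → M = L ∨ M = K) (hab : ⁅K, K⁆ ≤ L) (ϑ : K → ℂ) (hϑ : Cfsg.IsIrrCharacter K ϑ) (hinv : ∀ (g : G) (n : K), ϑ ⟨g * n * g⁻¹, hK.conj_mem (n : G) n.2 g⟩ = ϑ n) : Cfsg.IsIrrCharacter L (fun x : L => ϑ ⟨(x : G), hLK.le x.2⟩) ∨ (∃ (φ : L → ℂ) (e : ℕ), Cfsg.IsIrrCharacter L φ ∧ (fun x : L => ϑ ⟨(x : G), hLK.le x.2⟩) = (e : ℂ) • φ ∧ e ^ 2 = L.relIndex K) ∨ (∃ F : Finset (L → ℂ), (∀ φ ∈ F, Cfsg.IsIrrCharacter L φ) ∧ F.card = L.relIndex K ∧ (fun x : L => ϑ ⟨(x : G), hLK.le x.2⟩) = ∑ φ ∈ F, φ) := by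
  classical
  haveI : Fintype K := Fintype.ofFinite K
  haveI : Fintype (L.subgroupOf K) := Fintype.ofFinite _
  have hLK' : L ≤ K := hLK.le
  let A : Set (K ≃* K) := {α | ∃ g : G, α = MulAut.conjNormal g}
  have hAN : ∀ α ∈ A, ∀ n ∈ L.subgroupOf K, α n ∈ L.subgroupOf K := by
    rintro α ⟨g, rfl⟩ n hn
    rw [Subgroup.mem_subgroupOf] at hn ⊢
    rw [MulAut.conjNormal_apply]
    exact ‹L.Normal›.conj_mem _ hn g
  have hchief' : ∀ M : Subgroup K, L.subgroupOf K ≤ M → (∀ α ∈ A, ∀ m ∈ M, α m ∈ M) →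
      M = L.subgroupOf K ∨ M = ⊤ := by
    intro M hNM hMA
    have hmem : ∀ x : K, x ∈ M ↔ (x : G) ∈ M.map K.subtype := by
      intro x
      constructor
      · intro hx
        exact Subgroup.mem_map.mpr ⟨x, hx, rfl⟩
      · intro hx
        obtain ⟨y, hy, hyx⟩ := Subgroup.mem_map.mp hx
        have : y = x := Subtype.ext hyx
        rw [← this]
        exact hy
    have hnorm : (M.map K.subtype).Normal := by
      refine ⟨fun x hx g => ?_⟩
      obtain ⟨m, hm, rfl⟩ := Subgroup.mem_map.mp hx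
      have := hMA (MulAut.conjNormal g) ⟨g, rfl⟩ m hm
      rw [hmem, MulAut.conjNormal_apply] at this
      exact this
    have hLM : L ≤ M.map K.subtype := by
      intro x hx
      have hxK : x ∈ K := hLK' hx
      have : (⟨x, hxK⟩ : K) ∈ M := hNM (Subgroup.mem_subgroupOf.mpr hx)
      exact (hmem ⟨x, hxK⟩).mp this
    have hMK : M.map K.subtype ≤ K := by
      intro x hx
      obtain ⟨m, -, rfl⟩ := Subgroup.mem_map.mp hx
      exact m.2
    rcases hchief (M.map K.subtype) hnorm hLM hMK with h | h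
    · left
      ext x
      rw [hmem, h, Subgroup.mem_subgroupOf]
    · right
      ext x
      rw [hmem, h]
      simp
  have hab' : ∀ x y : K, x * y * x⁻¹ * y⁻¹ ∈ L.subgroupOf K := by
    intro x y
    rw [Subgroup.mem_subgroupOf]
    apply hab
    have h := Subgroup.commutator_mem_commutator x.2 y.2
    rw [commutatorElement_def] at h
    have h2 : ((x * y * x⁻¹ * y⁻¹ : K) : G) = (x : G) * (y : G) * (x : G)⁻¹ * (y : G)⁻¹ := by
      simp
    rw [h2]
    exact h
  have hinv' : ∀ α ∈ A, ∀ x, ϑ (α x) = ϑ x := by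
    rintro α ⟨g, rfl⟩ x
    have h1 : MulAut.conjNormal g x = ⟨g * x * g⁻¹, hK.conj_mem (x : G) x.2 g⟩ := by
      apply Subtype.ext
      rw [MulAut.conjNormal_apply]
    rw [h1]
    exact hinv g x
  have key := Helper6.chief_restrict (L.subgroupOf K) A hAN hchief' hab' ϑ hϑ hinv'
  let e : L.subgroupOf K ≃* L := Subgroup.subgroupOfEquivOfLe hLK'
  have hres : (fun x : L => ϑ ⟨(x : G), hLK.le x.2⟩) =
      (fun n : L.subgroupOf K => ϑ n) ∘ e.symm := by
    ext x
    rfl
  have hcompinj : Function.Injective (fun φ : (L.subgroupOf K) → ℂ => φ ∘ e.symm) := by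
    intro a b hab
    ext n
    have := congrFun hab (e n)
    simpa using this
  rcases key with h | ⟨φ, m, hφ, hm, hm2⟩ | ⟨F, hF, hFcard, hFsum⟩
  · left
    rw [hres]
    exact Helper6.IsIrrCharacter.comp_mulEquiv e.symm h
  · right; left
    refine ⟨φ ∘ e.symm, m, Helper6.IsIrrCharacter.comp_mulEquiv e.symm hφ, ?_, hm2⟩
    rw [hres, hm]
    rfl
  · right; right
    refine ⟨F.image (fun φ => φ ∘ e.symm), ?_, ?_, ?_⟩
    · intro φ hφ
      obtain ⟨ψ, hψ, rfl⟩ := Finset.mem_image.mp hφ
      exact Helper6.IsIrrCharacter.comp_mulEquiv e.symm (hF ψ hψ)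
    · rw [Finset.card_image_of_injective _ hcompinj]
      exact hFcard
    · rw [hres, hFsum, Finset.sum_image (fun a _ b _ h => hcompinj h)]
      ext x
      simp [Finset.sum_apply]

end Cfsg.Agent.S0857
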