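import Mathlib
import Cfsg.Agent.Helper5.PIrreducible
import Cfsg.Statements.S2827
-- import your own Cfsg.Agent.* helpers here

set_option autoImplicit false
open Cfsg Cfsg.Agent.Helper5
open scoped commutatorElement

namespace Cfsg.Agent.S2827

/-- Let H be a finite p-irreducible group (not p-closed, and O^p(H) lies in every normal subgroup that is not p-closed) and T a Sylow p-subgroup. Then H is generated by the conjugates of T and H = H'·T; O^p(H) ≤ H'; and for every normal subgroup Y of T not contained in O_p(H), O^p(H) = [O^p(H), Y] and O^p(H) is contained in the normal closure of Y in H. -/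
theorem result {H : Type*} [Group H] [Finite H] {p : ℕ} [Fact p.Prime] (hH : Cfsg.IsPIrreducible p H) (T : Sylow p H) : Subgroup.normalClosure ((T : Subgroup H) : Set H) = ⊤ ∧ commutator H ⊔ (T : Subgroup H) = ⊤ ∧ Cfsg.pResidual p H ≤ commutator H ∧ ∀ Y : Subgroup H, Y ≤ (T : Subgroup H) → (T : Subgroup H) ≤ Subgroup.normalizer (Y : Set H) → ¬ Y ≤ Cfsg.pCore p H → ⁅Cfsg.pResidual p H, Y⁆ = Cfsg.pResidual p H ∧ Cfsg.pResidual p H ≤ Subgroup.normalClosure (Y : Set H) := by
  obtain ⟨hnc, hirr⟩ := hH
  set R := Cfsg.pResidual p H with hRdef
  have hRT : R ⊔ (T : Subgroup H) = ⊤ := pResidual_sup_sylow T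
  have hRc : R.Characteristic := pResidual_characteristic (G := H) p
  have hRn : R.Normal := inferInstance
  -- part 1
  have h1 : Subgroup.normalClosure ((T : Subgroup H) : Set H) = ⊤ := by
    set N := Subgroup.normalClosure ((T : Subgroup H) : Set H) with hN
    have hTN : (T : Subgroup H) ≤ N := Subgroup.le_normalClosure
    have hNnc : ¬ Cfsg.IsPClosed p ↥N := by
      intro hcl
      exact hnc (isPClosed_of_sylow_le_pCore T (le_pCore_of_le_pClosed_normal N hcl T T.2 hTN))
    have hRN : R ≤ N := hirr N inferInstance hNnc
    rw [eq_top_iff, ← hRT]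
    exact sup_le hRN hTN
  -- part 2
  have h2 : commutator H ⊔ (T : Subgroup H) = ⊤ := by
    have hn : (commutator H ⊔ (T : Subgroup H)).Normal := by
      constructor
      intro x hx g
      have : g * x * g⁻¹ = ⁅g, x⁆ * x := by rw [commutatorElement_def]; group
      rw [this]
      refine mul_mem (le_sup_left (a := commutator H) ?_) hx
      rw [commutator_def]
      exact Subgroup.commutator_mem_commutator (Subgroup.mem_top g) (Subgroup.mem_top x)
    rw [eq_top_iff, ← h1]
    exact Subgroup.normalClosure_le_normal (SetLike.coe_subset_coe.mpr le_sup_right)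
  -- part 3
  have h3 : R ≤ commutator H := by
    apply pResidual_le_of_le_sup (commutator H) T T.2
    rw [h2]; exact le_top
  refine ⟨h1, h2, h3, ?_⟩
  intro Y hYT hTY hYO
  have hYp : IsPGroup p ↥Y := T.2.to_le hYT
  have h4b : R ≤ Subgroup.normalClosure (Y : Set H) := by
    apply hirr _ inferInstance
    intro hcl
    exact hYO (le_pCore_of_le_pClosed_normal _ hcl Y hYp Subgroup.le_normalClosure)
  refine ⟨?_, h4b⟩
  set K : Subgroup H := ⁅R, Y⁆ with hK
  have hKR : K ≤ R := Subgroup.commutator_le_left R Y
  have hKn : K.Normal := by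
    apply normal_of_sup_eq_top K R T hRT
    · intro r hr k hk; exact conj_mem_commutator_left R Y r hr k hk
    · intro t ht k hk
      have : K.map (MulAut.conj t).toMonoidHom = K := by
        rw [hK, Subgroup.map_commutator]
        have e1 : R.map (MulAut.conj t).toMonoidHom = R :=
          (mem_normalizer_iff_map_conj R t).mp (by rw [Subgroup.normalizer_eq_top]; trivial)
        have e2 : Y.map (MulAut.conj t).toMonoidHom = Y := (mem_normalizer_iff_map_conj Y t).mp (hTY ht)
        rw [e1, e2]
      rw [← this]
      exact conj_mem_map_conj K t k hk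
  have hMn : (K ⊔ Y).Normal := by
    apply normal_of_sup_eq_top (K ⊔ Y) R T hRT
    · intro r hr x hx
      have hle : K ⊔ Y ≤ (K ⊔ Y).comap (MulAut.conj r).toMonoidHom := by
        apply sup_le
        · intro k hk
          rw [Subgroup.mem_comap]
          exact le_sup_left (a := K) (by simpa using hKn.conj_mem k hk r)
        · intro y hy
          rw [Subgroup.mem_comap]
          have : (MulAut.conj r).toMonoidHom y = ⁅r, y⁆ * y := by simp [commutatorElement_def]
          rw [this]
          exact mul_mem (le_sup_left (a := K) (Subgroup.commutator_mem_commutator hr hy)) (le_sup_right (a := K) hy)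
      simpa using hle hx
    · intro t ht x hx
      have hle : K ⊔ Y ≤ (K ⊔ Y).comap (MulAut.conj t).toMonoidHom := by
        apply sup_le
        · intro k hk
          rw [Subgroup.mem_comap]
          exact le_sup_left (a := K) (by simpa using hKn.conj_mem k hk t)
        · intro y hy
          rw [Subgroup.mem_comap]
          have := (Subgroup.mem_normalizer_iff.mp (hTY ht) y).mp hy
          exact le_sup_right (a := K) (by simpa using this)
      simpa using hle hx
  have hRM : R ≤ K ⊔ Y := h4b.trans (Subgroup.normalClosure_le_normal (SetLike.coe_subset_coe.mpr le_sup_right))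
  have hRK : R ≤ K := pResidual_le_of_le_sup K Y hYp hRM
  exact le_antisymm hKR hRK

end Cfsg.Agent.S2827
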