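import Mathlib
import Cfsg.Agent.Helper5.Cores
import Cfsg.Statements.S2829
-- import your own Cfsg.Agent.* helpers here

set_option autoImplicit false
open Cfsg

namespace Cfsg.Agent.S2829

open scoped commutatorElement

/-- Every strongly p-irreducible finite group is p-irreducible. -/
theorem result {H : Type*} [Group H] [Finite H] {p : ℕ} [Fact p.Prime] (hH : Cfsg.IsStronglyPIrreducible p H) : Cfsg.IsPIrreducible p H := by
  refine ⟨hH.1, fun N hN hNc => hH.2 N hN ?_⟩
  intro hle
  apply hNc
  intro P
  have hDn : ((Cfsg.pCore p H).subgroupOf N).Normal := inferInstance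
  have hDp : IsPGroup p ((Cfsg.pCore p H).subgroupOf N) :=
    (Cfsg.Agent.Helper5.isPGroup_pCore p).comap_subtype
  have hDP : (Cfsg.pCore p H).subgroupOf N ≤ P := hDp.le_sylow_of_normal P
  constructor
  intro x hx n
  have hcomm : n * x * n⁻¹ * x⁻¹ ∈ (Cfsg.pCore p H).subgroupOf N := by
    rw [Subgroup.mem_subgroupOf]
    apply hle
    have : ((n * x * n⁻¹ * x⁻¹ : N) : H) = ⁅(n : H), (x : H)⁆ := by
      simp [commutatorElement_def]
    rw [this]
    exact Subgroup.commutator_mem_commutator n.2 (Subgroup.mem_top _)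
  have := (P : Subgroup N).mul_mem (hDP hcomm) hx
  simpa using this

end Cfsg.Agent.S2829
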