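import Cfsg.Statements.S1056
import Cfsg.Agent.Helper7.ChevGood3
import Cfsg.Agent.Helper7.ChevT5
import Cfsg.Agent.Helper7.ChevT6
import Cfsg.Agent.Helper7.ChevT7
import Cfsg.Agent.Helper7.ChevT9
import Cfsg.Agent.Helper7.ChevT11
import Cfsg.Agent.Helper7.ChevT13
import Cfsg.Agent.Helper7.ChevW0All

set_option autoImplicit false
open Cfsg

namespace Cfsg.Agent.S1056

/-- B₂(F) is simple for every field `F` other than the field with two elements. -/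
theorem result {F : Type*} [Field F] (hF : ∃ a : F, a ≠ 0 ∧ a ≠ 1) : IsSimpleGroup ↥(Cfsg.Lie.chevB2.group F) ∧ ¬ IsMulCommutative ↥(Cfsg.Lie.chevB2.group F) := by
  exact Cfsg.Agent.Helper7.Chev.isSimpleGroup_of_perfect Cfsg.Agent.Helper7.Chev.good3_B2.toGood2 Cfsg.Agent.Helper7.Chev.T0_B2 Cfsg.Agent.Helper7.Chev.good3_B2.t3
      Cfsg.Agent.Helper7.Chev.good3_B2.t4 Cfsg.Agent.Helper7.Chev.T5_B2 Cfsg.Agent.Helper7.Chev.T6_B2 Cfsg.Agent.Helper7.Chev.T8_B2 Cfsg.Agent.Helper7.Chev.T9_B2 Cfsg.Agent.Helper7.Chev.T13_B2 Cfsg.Agent.Helper7.Chev.W0_B2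
      (Cfsg.Agent.Helper7.Chev.perfect_of_T12 Cfsg.Agent.Helper7.Chev.good3_B2.toGood2
        (fun r s hr hs hsr hsn => Cfsg.Agent.Helper7.Chev.good3_B2.comm hr hs hsr hsn) Cfsg.Agent.Helper7.Chev.T12_B2 hF)

end Cfsg.Agent.S1056
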