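import Cfsg.Statements.S1059
import Cfsg.Agent.Helper7.ChevGood3
import Cfsg.Agent.Helper7.ChevT5
import Cfsg.Agent.Helper7.ChevT6
import Cfsg.Agent.Helper7.ChevT7
import Cfsg.Agent.Helper7.ChevT9
import Cfsg.Agent.Helper7.ChevT17
import Cfsg.Agent.Helper7.ChevOrder
import Cfsg.Agent.Helper7.ChevWG2All

set_option autoImplicit false
open Cfsg

namespace Cfsg.Agent.S1059

open Cfsg.Agent.Helper7.Chev in
theorem result {F : Type*} [Field F] [Fintype F] {q : ℕ} (hq : Fintype.card F = q) : Nat.card ↥(Cfsg.Lie.chevG2.group F) = q ^ 6 * (q ^ 2 - 1) * (q ^ 6 - 1) := by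
  have hD : Cfsg.Lie.chevG2 ∈ [Cfsg.Lie.chevG2, Cfsg.Lie.chevB2, Cfsg.Lie.chevD4, Cfsg.Lie.chevF4, Cfsg.Lie.chevE6, Cfsg.Lie.chevE7, Cfsg.Lie.chevE8] := by simp
  have hG := good3_G2
  have hT := T0_of_mem _ hD
  have h5 := T5_of_mem _ hD
  have h6 := T6_of_mem _ hD
  have h7 := T7_of_mem _ hD
  have h8 := T8_of_mem _ hD
  have h9 := T9_of_mem _ hD
  have hcard := card_group_of_cert (F := F) hG.toGood2 hT hG.t3 hG.t4 h5 h6 h7 T7n_G2 h8 h9 wCert_G2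
    wCount_G2
  have hH := card_diagonal_mul (F := F) good1_G2 T17_G2
  subst hq
  have hq1 : 1 ≤ Fintype.card F := Fintype.card_pos
  set q := Fintype.card F with hqdef
  have hH' : (List.map (fun i => (q - 1).gcd (t17d_G2 i)) (List.range 2)).prod *
      Nat.card ↥(Cfsg.Lie.chevG2.diagonalSubgroup F) = (q - 1) ^ 2 := hH
  simp [List.range_succ, t17d_G2] at hH'
  have hcard' : Nat.card ↥(Cfsg.Lie.chevG2.group F) =
      q ^ 6 * Nat.card ↥(Cfsg.Lie.chevG2.diagonalSubgroup F) *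
        (List.map (fun k => wC_G2.getD k 0 * q ^ k) (List.range 7)).sum := hcard
  rw [hcard', hH']
  have hsum : (List.map (fun k => wC_G2.getD k 0 * q ^ k) (List.range 7)).sum =
      (1 * q ^ 0 + (2 * q ^ 1 + (2 * q ^ 2 + (2 * q ^ 3 + (2 * q ^ 4 + (2 * q ^ 5 + (1 * q ^ 6 + 0))))))) := rfl
  rw [hsum]
  have hp : ∀ k : ℕ, 1 ≤ q ^ k := fun k => Nat.one_le_pow _ _ hq1
  zify [hq1, hp 2, hp 4, hp 6, hp 8, hp 12]
  ring

end Cfsg.Agent.S1059
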