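import Mathlib
import Cfsg.Statements.S0831
import Cfsg.Agent.Helper8.StdForms
import Cfsg.Agent.Helper8.MaxSingular

set_option autoImplicit false
open Cfsg

namespace Cfsg.Agent.S0831

open Module Cfsg.Agent.Helper8.StdForms Cfsg.Agent.Helper8.MaxSingular

/-- the kernel of `funLeft f` for an injective `f : Fin m → Fin m ⊕ Fin m` has dimension `m`. -/
theorem finrank_ker_funLeft {F : Type*} [Field F] (m : ℕ) (f : Fin m → Fin m ⊕ Fin m)
    (hf : Function.Injective f) :
    finrank F ↥(LinearMap.ker (LinearMap.funLeft F F f)) = m := by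
  have h1 := LinearMap.finrank_range_add_finrank_ker (LinearMap.funLeft F F f)
  have h2 : LinearMap.range (LinearMap.funLeft F F f) = ⊤ :=
    LinearMap.range_eq_top.2 (LinearMap.funLeft_surjective_of_injective F F f hf)
  rw [h2, finrank_top, finrank_plus, Module.finrank_fintype_fun_eq_card, Fintype.card_fin] at h1
  omega

theorem isMTS_inr {F : Type*} [Field F] (m : ℕ) :
    IsMTS (plusForm F m) m (LinearMap.ker (LinearMap.funLeft F F (Sum.inr : Fin m → Fin m ⊕ Fin m))) := by
  refine ⟨finrank_ker_funLeft m _ Sum.inr_injective, ?_⟩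
  intro w hw
  rw [plusForm_apply]
  unfold quadFormPlus
  apply Finset.sum_eq_zero
  intro i _
  have : w (Sum.inr i) = 0 := congrFun (LinearMap.mem_ker.1 hw) i
  rw [this, mul_zero]

theorem isMTS_inl {F : Type*} [Field F] (m : ℕ) :
    IsMTS (plusForm F m) m (LinearMap.ker (LinearMap.funLeft F F (Sum.inl : Fin m → Fin m ⊕ Fin m))) := by
  refine ⟨finrank_ker_funLeft m _ Sum.inl_injective, ?_⟩
  intro w hw
  rw [plusForm_apply]
  unfold quadFormPlus
  apply Finset.sum_eq_zero
  intro i _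
  have : w (Sum.inl i) = 0 := congrFun (LinearMap.mem_ker.1 hw) i
  rw [this, zero_mul]

theorem ker_inr_ne_ker_inl {F : Type*} [Field F] (m : ℕ) (hm : 1 ≤ m) :
    LinearMap.ker (LinearMap.funLeft F F (Sum.inr : Fin m → Fin m ⊕ Fin m)) ≠
      LinearMap.ker (LinearMap.funLeft F F (Sum.inl : Fin m → Fin m ⊕ Fin m)) := by
  classical
  intro h
  have h1 : (Pi.single (Sum.inl (⟨0, hm⟩ : Fin m)) (1 : F) : Fin m ⊕ Fin m → F) ∈
      LinearMap.ker (LinearMap.funLeft F F (Sum.inr : Fin m → Fin m ⊕ Fin m)) := by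
    rw [LinearMap.mem_ker]
    funext i
    simp [LinearMap.funLeft_apply]
  rw [h, LinearMap.mem_ker] at h1
  have := congrFun h1 ⟨0, hm⟩
  simp [LinearMap.funLeft_apply] at this

theorem isMTS_iff {F : Type*} [Field F] (m : ℕ) (U : Submodule F (Fin m ⊕ Fin m → F)) :
    (Module.finrank F U = m ∧ ∀ w ∈ U, Cfsg.quadFormPlus m F w = 0) ↔ IsMTS (plusForm F m) m U := by
  unfold IsMTS
  simp only [plusForm_apply]

/-- The two families of maximal totally singular subspaces of the hyperbolic quadric: for the form Σ x_i y_i on F^(2m), m ≥ 1, and m-dimensional subspaces U, W, X on which it vanishes, the parities of m − dim(U ∩ W), m − dim(W ∩ X) and m − dim(U ∩ X) sum to an even number (so 'even codimension of the intersection' is an equivalence relation), and there exist two such subspaces meeting in codimension 1 (so there are exactly two classes). -/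
theorem result {F : Type*} [Field F] (m : ℕ) (hm : 1 ≤ m) : (∀ U W X : Submodule F (Fin m ⊕ Fin m → F), (Module.finrank F U = m ∧ ∀ w ∈ U, Cfsg.quadFormPlus m F w = 0) → (Module.finrank F W = m ∧ ∀ w ∈ W, Cfsg.quadFormPlus m F w = 0) → (Module.finrank F X = m ∧ ∀ w ∈ X, Cfsg.quadFormPlus m F w = 0) → Even ((m - Module.finrank F ↥(U ⊓ W)) + (m - Module.finrank F ↥(W ⊓ X)) + (m - Module.finrank F ↥(U ⊓ X)))) ∧ ∃ U W : Submodule F (Fin m ⊕ Fin m → F), (Module.finrank F U = m ∧ ∀ w ∈ U, Cfsg.quadFormPlus m F w = 0) ∧ (Module.finrank F W = m ∧ ∀ w ∈ W, Cfsg.quadFormPlus m F w = 0) ∧ Module.finrank F ↥(U ⊓ W) + 1 = m := by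
  refine ⟨?_, ?_⟩
  · intro U W X hU hW hX
    rw [isMTS_iff] at hU hW hX
    exact parity (plusForm_nondeg F m) (finrank_plus F m) hU hW hX
  · obtain ⟨W₁, hW₁, hd, -⟩ := exists_adjacent (plusForm_nondeg F m) (finrank_plus F m)
      (isMTS_inr (F := F) m) (isMTS_inl (F := F) m) (ker_inr_ne_ker_inl m hm)
    refine ⟨_, W₁, (isMTS_iff m _).2 (isMTS_inr (F := F) m), (isMTS_iff m _).2 hW₁, hd⟩

end Cfsg.Agent.S0831
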