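import Mathlib
import Cfsg.Statements.S2629
import Cfsg.Agent.Helper8.StdForms
import Cfsg.Agent.Helper8.MaxSingularRefl
import Cfsg.Agent.Helper8.ReflMatrix
import Cfsg.Agent.S0831

set_option autoImplicit false
open Cfsg

namespace Cfsg.Agent.S2629

open Module Cfsg.Agent.Helper8.StdForms Cfsg.Agent.Helper8.MaxSingular
  Cfsg.Agent.Helper8.Reflections Cfsg.Agent.Helper8.ReflMatrix Cfsg.Agent.Helper8.OrthOrder

theorem mulVecLin_prod_reflElt {F : Type*} [Field F] {ι : Type} [Fintype ι] [DecidableEq ι]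
    (Q : QuadraticForm F (ι → F)) (l : List (ι → F)) :
    Matrix.mulVecLin ((((l.map (reflElt Q)).prod : ↥(Cfsg.isometryGroup F ⇑Q)) : GL ι F) : Matrix ι ι F)
      = (((l.map (refl Q)).prod : (ι → F) ≃ₗ[F] (ι → F)) : (ι → F) →ₗ[F] (ι → F)) := by
  induction l with
  | nil =>
    apply LinearMap.ext
    intro x
    simp
  | cons z t ih =>
    apply LinearMap.ext
    intro x
    rw [List.map_cons, List.prod_cons, List.map_cons, List.prod_cons, Subgroup.coe_mul,
      Units.val_mul, Matrix.mulVecLin_apply, ← Matrix.mulVec_mulVec, reflElt_val,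
      reflectionMatrix_mulVec, ← Matrix.mulVecLin_apply, ih]
    rfl

/-- For the hyperbolic form Σ x_i y_i on F^(2m) over a finite field of odd order (m ≥ 1), an isometry g preserves the class of the maximal totally singular subspace U₀ = {y = 0} (that is, m − dim(U₀ ∩ gU₀) is even) if and only if det g = 1: the stabiliser of each of the two classes of maximal totally singular subspaces is SO. -/
theorem result {F : Type*} [Field F] [Fintype F] (h2 : (2 : F) ≠ 0) {m : ℕ} (hm : 1 ≤ m) (g : ↥(Cfsg.isometryGroup F (Cfsg.quadFormPlus m F))) : Even (m - Module.finrank F ↥(LinearMap.ker (LinearMap.funLeft F F (Sum.inr : Fin m → Fin m ⊕ Fin m)) ⊓ (LinearMap.ker (LinearMap.funLeft F F (Sum.inr : Fin m → Fin m ⊕ Fin m))).map (Matrix.mulVecLin ((g : Matrix.GeneralLinearGroup (Fin m ⊕ Fin m) F) : Matrix (Fin m ⊕ Fin m) (Fin m ⊕ Fin m) F)))) ↔ ((g : Matrix.GeneralLinearGroup (Fin m ⊕ Fin m) F) : Matrix (Fin m ⊕ Fin m) (Fin m ⊕ Fin m) F).det = 1 := by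
  classical
  have hQeq : Cfsg.quadFormPlus m F = ⇑(plusForm F m) :=
    funext (fun v => (plusForm_apply F m v).symm)
  revert g
  rw [hQeq]
  intro g
  obtain ⟨l, hl, rfl⟩ := exists_list_reflElt (plusForm F m) h2 (plusForm_nondeg F m) g
  rw [det_prod_reflElt _ l hl, mulVecLin_prod_reflElt]
  have hne : (-1 : F) ≠ 1 := by
    intro h
    apply h2
    have : (2 : F) = 1 - (-1) := by norm_num
    rw [this, h, sub_self]
  rw [neg_one_pow_eq_one_iff_even hne]
  have := parity_prod_refl (plusForm_nondeg F m) (finrank_plus F m) l hl _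
    (Cfsg.Agent.S0831.isMTS_inr (F := F) m)
  rw [Nat.even_iff, Nat.even_iff, this]

end Cfsg.Agent.S2629
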