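import Mathlib
import Cfsg.Statements.S1122
import Cfsg.Agent.Helper7.RankOneSetup2

set_option autoImplicit false
open Cfsg

namespace Cfsg.Agent.S1122

open Cfsg.Agent.Helper7.ROS MulAction

variable {G Ω : Type*} [Group G] [MulAction G Ω] {a : Ω} {t : G} {Q : Subgroup G}

theorem conj_sq {G : Type*} [Group G] {x : G} (hx : x * x = 1) (g : G) :
    (g * x * g⁻¹) * (g * x * g⁻¹) = 1 := by
  calc (g * x * g⁻¹) * (g * x * g⁻¹) = g * (x * x) * g⁻¹ := by group
    _ = 1 := by rw [hx]; group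

theorem conj_ne_one {G : Type*} [Group G] {x : G} (hx : x ≠ 1) (g : G) : g * x * g⁻¹ ≠ 1 := by
  intro e
  apply hx
  have := congrArg (fun z => g⁻¹ * z * g) e
  simpa [mul_assoc] using this

theorem tconj_sq (hS : IsRankOneSetup G Ω a t Q) {x : G} (hx : x * x = 1) :
    (t * x * t) * (t * x * t) = 1 := by
  have := conj_sq hx t
  rwa [t_inv hS] at this

theorem tconj_ne_one (hS : IsRankOneSetup G Ω a t Q) {x : G} (hx : x ≠ 1) : t * x * t ≠ 1 := by
  have := conj_ne_one hx t
  rwa [t_inv hS] at this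

theorem tconj_tconj (hS : IsRankOneSetup G Ω a t Q) (x : G) : t * (t * x * t) * t = x := by
  calc t * (t * x * t) * t = (t * t) * x * (t * t) := by group
    _ = x := by rw [hS.mul_self]; group

/-- For `k` inverted by `t`, the element `t k` has square one. -/
theorem tk_sq (hS : IsRankOneSetup G Ω a t Q) {k : G} (hk : t * k * t⁻¹ = k⁻¹) :
    (t * k) * (t * k) = 1 := by
  rw [t_inv hS] at hk
  calc (t * k) * (t * k) = (t * k * t) * k := by group
    _ = 1 := by rw [hk, inv_mul_cancel]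

variable [Finite G]

/-- The relation between `K` and the involutions of `G_a`. -/
def Rel (t : G) (Q : Subgroup G) (k s : G) : Prop := ∃ g ∈ Q, t * s * t = g * (t * k) * g⁻¹

theorem rel_exists_left (hS : IsRankOneSetup G Ω a t Q) {k : G}
    (hk : k ∈ invertedBy (stabilizer G a ⊓ stabilizer G (t • a)) t) :
    ∃ s ∈ involutionsIn (stabilizer G a : Set G), Rel t Q k s := by
  obtain ⟨hkD, hkt⟩ := hk
  have hu := tk_sq hS hkt
  have hka : k • a = a := mem_stabilizer_iff.mp hkD.1
  have hua : (t * k) • a = t • a := by rw [mul_smul, hka]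
  have hu1 : t * k ≠ 1 := by
    intro e
    rw [e, one_smul] at hua
    exact b_ne_a hS hua.symm
  obtain ⟨c, hc, _⟩ := existsUnique_fixed_of_involution hS hu hu1
  have hca : c ≠ a := by
    rintro rfl
    rw [hc] at hua
    exact b_ne_a hS hua.symm
  obtain ⟨x, hx, hxb⟩ := exists_Q_smul_b hS hca
  -- g = x⁻¹ maps c to b
  have hgc : x⁻¹ • c = t • a := by rw [← hxb, smul_smul, inv_mul_cancel, one_smul]
  set s₁ := x⁻¹ * (t * k) * x⁻¹⁻¹ with hs₁
  have hs₁sq : s₁ * s₁ = 1 := conj_sq hu _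
  have hs₁1 : s₁ ≠ 1 := conj_ne_one hu1 _
  have hs₁b : s₁ • (t • a) = t • a := by
    rw [hs₁, inv_inv, mul_smul, mul_smul, hxb, hc, hgc]
  refine ⟨t * s₁ * t, ⟨?_, tconj_ne_one hS hs₁1, tconj_sq hS hs₁sq⟩, x⁻¹, Q.inv_mem hx, ?_⟩
  · change t * s₁ * t ∈ stabilizer G a
    rw [mem_stabilizer_iff, mul_smul, mul_smul, hs₁b, t_smul_t_smul hS]
  · rw [tconj_tconj hS]

theorem rel_exists_right (hS : IsRankOneSetup G Ω a t Q) {s : G}
    (hs : s ∈ involutionsIn (stabilizer G a : Set G)) :
    ∃ k ∈ invertedBy (stabilizer G a ⊓ stabilizer G (t • a)) t, Rel t Q k s := by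
  obtain ⟨hsa, hs1, hss⟩ := hs
  change s ∈ stabilizer G a at hsa
  have hsa' : s • a = a := mem_stabilizer_iff.mp hsa
  set s₁ := t * s * t with hs₁
  have hs₁sq : s₁ * s₁ = 1 := tconj_sq hS hss
  have hs₁1 : s₁ ≠ 1 := tconj_ne_one hS hs1
  have hs₁b : s₁ • (t • a) = t • a := by
    rw [hs₁, mul_smul, mul_smul, t_smul_t_smul hS, hsa']
  obtain ⟨c₁, _, huniq⟩ := existsUnique_fixed_of_involution hS hs₁sq hs₁1
  have hc' : s₁ • a ≠ a := by
    intro h
    exact b_ne_a hS ((huniq _ hs₁b).trans (huniq _ h).symm)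
  obtain ⟨x, hx, hxb⟩ := exists_Q_smul_b hS hc'
  set u := x⁻¹ * s₁ * x with hu
  have hxa : x • a = a := Q_smul_a hS hx
  have hxa' : x⁻¹ • a = a := Q_smul_a hS (Q.inv_mem hx)
  have hua : u • a = t • a := by
    rw [hu, mul_smul, mul_smul, hxa, ← hxb, smul_smul, inv_mul_cancel, one_smul]
  have hub : u • (t • a) = a := by
    rw [hu, mul_smul, mul_smul, hxb, smul_smul s₁ s₁, hs₁sq, one_smul, hxa']
  have husq : u * u = 1 := by
    have := conj_sq hs₁sq x⁻¹
    rwa [inv_inv] at this
  refine ⟨t * u, ⟨⟨?_, ?_⟩, ?_⟩, x, hx, ?_⟩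
  · change t * u ∈ stabilizer G a
    rw [mem_stabilizer_iff, mul_smul, hua, t_smul_t_smul hS]
  · change t * u ∈ stabilizer G (t • a)
    rw [mem_stabilizer_iff, mul_smul, hub]
  · rw [t_inv hS, mul_inv_rev, t_inv hS, inv_of_sq husq]
    calc t * (t * u) * t = (t * t) * u * t := by group
      _ = u * t := by rw [hS.mul_self, one_mul]
  · have : t * (t * u) = u := by rw [← mul_assoc, hS.mul_self, one_mul]
    rw [this, hu]
    have e : x * (x⁻¹ * s₁ * x) * x⁻¹ = s₁ := by group
    rw [e]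

theorem rel_unique_right (hS : IsRankOneSetup G Ω a t Q) {k s s' : G}
    (hk : k ∈ invertedBy (stabilizer G a ⊓ stabilizer G (t • a)) t)
    (hs : s ∈ involutionsIn (stabilizer G a : Set G))
    (hs' : s' ∈ involutionsIn (stabilizer G a : Set G))
    (h : Rel t Q k s) (h' : Rel t Q k s') : s = s' := by
  obtain ⟨g, hg, e⟩ := h
  obtain ⟨g', hg', e'⟩ := h'
  obtain ⟨hkD, hkt⟩ := hk
  have hu := tk_sq hS hkt
  have hka : k • a = a := mem_stabilizer_iff.mp hkD.1
  have hua : (t * k) • a = t • a := by rw [mul_smul, hka]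
  have hu1 : t * k ≠ 1 := by
    intro e
    rw [e, one_smul] at hua
    exact b_ne_a hS hua.symm
  obtain ⟨c, hc, _⟩ := existsUnique_fixed_of_involution hS hu hu1
  have hca : c ≠ a := by
    rintro rfl
    rw [hc] at hua
    exact b_ne_a hS hua.symm
  -- `g c = b = g' c`
  have key : ∀ {s g : G}, s ∈ involutionsIn (stabilizer G a : Set G) → g ∈ Q →
      t * s * t = g * (t * k) * g⁻¹ → g • c = t • a := by
    intro s g hs hg e
    obtain ⟨hsa, hs1, hss⟩ := hs
    have hsa' : s • a = a := mem_stabilizer_iff.mp hsa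
    have h1 : (t * s * t) • (t • a) = t • a := by
      rw [mul_smul, mul_smul, t_smul_t_smul hS, hsa']
    have h2 : (g * (t * k) * g⁻¹) • (g • c) = g • c := by
      rw [smul_smul, mul_assoc, mul_assoc, inv_mul_cancel, mul_one, mul_smul, hc]
    rw [← e] at h2
    obtain ⟨c₁, _, huniq⟩ := existsUnique_fixed_of_involution hS (tconj_sq hS hss)
      (tconj_ne_one hS hs1)
    exact (huniq _ h2).trans (huniq _ h1).symm
  have hgg : g = g' := Q_eq_of_smul_eq hS hg hg' hca (by rw [key hs hg e, key hs' hg' e'])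
  subst hgg
  have : t * s * t = t * s' * t := by rw [e, e']
  calc s = t * (t * s * t) * t := (tconj_tconj hS s).symm
    _ = t * (t * s' * t) * t := by rw [this]
    _ = s' := tconj_tconj hS s'

omit [Finite G] in
theorem rel_unique_left (hS : IsRankOneSetup G Ω a t Q) {k k' s : G}
    (hk : k ∈ invertedBy (stabilizer G a ⊓ stabilizer G (t • a)) t)
    (hk' : k' ∈ invertedBy (stabilizer G a ⊓ stabilizer G (t • a)) t)
    (h : Rel t Q k s) (h' : Rel t Q k' s) : k = k' := by
  obtain ⟨g, hg, e⟩ := h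
  obtain ⟨g', hg', e'⟩ := h'
  have key : ∀ {k g : G}, k ∈ invertedBy (stabilizer G a ⊓ stabilizer G (t • a)) t → g ∈ Q →
      t * s * t = g * (t * k) * g⁻¹ → (t * s * t) • a = g • t • a := by
    intro k g hk hg e
    have hka : k • a = a := mem_stabilizer_iff.mp hk.1.1
    rw [e, mul_smul, mul_smul, Q_smul_a hS (Q.inv_mem hg), mul_smul, hka]
  have hgg : g = g' :=
    Q_eq_of_smul_eq hS hg hg' (b_ne_a hS) (by rw [← key hk hg e, ← key hk' hg' e'])
  subst hgg
  have h1 : g * (t * k) * g⁻¹ = g * (t * k') * g⁻¹ := by rw [← e, ← e']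
  have h2 : t * k = t * k' := by
    have := congrArg (fun z => g⁻¹ * z * g) h1
    simpa [mul_assoc] using this
  exact mul_left_cancel h2

/-- In the rank-one set-up (`G` finite and doubly transitive on `Ω`, `t` an involution moving `a`, `Q` normal in `G_a` with `G_a = Q D`, `Q ⊓ D = 1` for the two-point stabiliser `D = G_a ⊓ G_{t • a}`, `|Q|` even, `|D|` odd), with `K` the set of elements of `D` inverted by `t`: `|K|` is the number of involutions of `G_a`, and for each involution `s` of `G_a` the `K`-conjugates of `s` are all the involutions of `G_a`. -/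
theorem result {G Ω : Type*} [Group G] [Finite G] [MulAction G Ω] {a : Ω} {t : G} {Q : Subgroup G}
    (hS : Cfsg.IsRankOneSetup G Ω a t Q) :
    Nat.card (Cfsg.invertedBy (MulAction.stabilizer G a ⊓ MulAction.stabilizer G (t • a)) t) = Nat.card (Cfsg.involutionsIn (MulAction.stabilizer G a : Set G)) ∧
      ∀ s ∈ Cfsg.involutionsIn (MulAction.stabilizer G a : Set G), ∀ s' ∈ Cfsg.involutionsIn (MulAction.stabilizer G a : Set G),
        ∃ k ∈ Cfsg.invertedBy (MulAction.stabilizer G a ⊓ MulAction.stabilizer G (t • a)) t, k⁻¹ * s * k = s' := by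
  constructor
  · -- the bijection
    have hchoice : ∀ k : invertedBy (stabilizer G a ⊓ stabilizer G (t • a)) t,
        ∃ s : involutionsIn (stabilizer G a : Set G), Rel t Q (k : G) (s : G) := by
      rintro ⟨k, hk⟩
      obtain ⟨s, hs, h⟩ := rel_exists_left hS hk
      exact ⟨⟨s, hs⟩, h⟩
    choose f hf using hchoice
    apply Nat.card_congr
    refine Equiv.ofBijective f ⟨?_, ?_⟩
    · intro k k' e
      apply Subtype.ext
      have h1 := hf k
      have h2 := hf k'
      rw [e] at h1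
      exact rel_unique_left hS k.2 k'.2 h1 h2
    · rintro ⟨s, hs⟩
      obtain ⟨k, hk, h⟩ := rel_exists_right hS hs
      refine ⟨⟨k, hk⟩, ?_⟩
      apply Subtype.ext
      exact rel_unique_right hS hk (f ⟨k, hk⟩).2 hs (hf ⟨k, hk⟩) h
  · intro s hs s' hs'
    obtain ⟨hsa, hs1, hss⟩ := hs
    obtain ⟨hsa', hs1', hss'⟩ := hs'
    change s ∈ stabilizer G a at hsa
    change s' ∈ stabilizer G a at hsa'
    have hsa₀ : s • a = a := mem_stabilizer_iff.mp hsa
    have hsa₀' : s' • a = a := mem_stabilizer_iff.mp hsa'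
    set s₁ := t * s * t with hs₁
    have hs₁sq : s₁ * s₁ = 1 := tconj_sq hS hss
    have hs₁1 : s₁ ≠ 1 := tconj_ne_one hS hs1
    have hs₁b : s₁ • (t • a) = t • a := by
      rw [hs₁, mul_smul, mul_smul, t_smul_t_smul hS, hsa₀]
    obtain ⟨w, hww, hw⟩ := exists_conj_of_odd hs₁sq hss'
      (odd_orderOf_mul hS hs₁sq hs₁1 hss' hs1' hs₁b hsa₀' (b_ne_a hS))
    have hwinv : w⁻¹ = w := inv_of_sq hww
    -- `w` swaps `a` and `b`
    have hwb : w • (t • a) = a := by
      have h1 : s' • (w • t • a) = w • t • a := by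
        rw [← hw, smul_smul, mul_assoc, inv_mul_cancel, mul_one, mul_smul, hs₁b]
      obtain ⟨c, _, huniq⟩ := existsUnique_fixed_of_involution hS hss' hs1'
      exact (huniq _ h1).trans (huniq _ hsa₀').symm
    have hwa : w • a = t • a := by
      have h1 : w • w • t • a = w • a := congrArg (fun z => w • z) hwb
      rw [smul_smul w w, hww, one_smul] at h1
      exact h1.symm
    refine ⟨t * w, ⟨⟨?_, ?_⟩, ?_⟩, ?_⟩
    · change t * w ∈ stabilizer G a
      rw [mem_stabilizer_iff, mul_smul, hwa, t_smul_t_smul hS]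
    · change t * w ∈ stabilizer G (t • a)
      rw [mem_stabilizer_iff, mul_smul, hwb]
    · rw [t_inv hS, mul_inv_rev, t_inv hS, hwinv]
      calc t * (t * w) * t = (t * t) * w * t := by group
        _ = w * t := by rw [hS.mul_self, one_mul]
    · rw [mul_inv_rev, t_inv hS, hwinv, ← hw, hwinv, hs₁]; group

end Cfsg.Agent.S1122
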