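import Mathlib
import Cfsg.Statements.S1128
import Cfsg.Agent.Helper7.RankOneSetup3

set_option autoImplicit false
open Cfsg

namespace Cfsg.Agent.S1128

open Cfsg.Agent.Helper7.ROS MulAction

variable {G Ω : Type*} [Group G] [Finite G] [MulAction G Ω] {a : Ω} {t : G} {Q : Subgroup G}

omit [Finite G] in
/-- In a group of odd order no non-identity element is conjugate to its inverse: if `d x d⁻¹ = x⁻¹`
and `d` has odd order then `x * x = 1`. -/
theorem sq_eq_one_of_conj_inv {d x : G} (hd : Odd (orderOf d)) (h : d * x * d⁻¹ = x⁻¹) :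
    x * x = 1 := by
  -- `d ^ n` conjugates `x` to `x` or `x⁻¹` according to parity
  have hpow : ∀ n : ℕ, d ^ n * x * (d ^ n)⁻¹ = if Even n then x else x⁻¹ := by
    intro n
    induction n with
    | zero => simp
    | succ n ih =>
      have e : d ^ (n + 1) * x * (d ^ (n + 1))⁻¹ = d * (d ^ n * x * (d ^ n)⁻¹) * d⁻¹ := by
        rw [pow_succ']; group
      rw [e, ih]
      by_cases hn : Even n
      · have : ¬ Even (n + 1) := by
          rw [Nat.not_even_iff_odd]; exact hn.add_one
        rw [if_pos hn, if_neg this, h]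
      · have : Even (n + 1) := by
          rw [Nat.not_even_iff_odd] at hn; exact hn.add_one
        rw [if_neg hn, if_pos this]
        have := congrArg (fun z => z⁻¹) h
        simp only [mul_inv_rev, inv_inv] at this
        rw [← mul_assoc] at this
        exact this
  have h1 := hpow (orderOf d)
  rw [pow_orderOf_eq_one, if_neg (Nat.not_even_iff_odd.mpr hd)] at h1
  simp only [one_mul, inv_one, mul_one] at h1
  calc x * x = x * x⁻¹ := by rw [← h1]
    _ = 1 := mul_inv_cancel x

/-- In the rank-one set-up (`G` finite and doubly transitive on `Ω`, `t` an involution moving `a`, `Q` normal in `G_a` with `G_a = Q D`, `Q ⊓ D = 1` for the two-point stabiliser `D = G_a ⊓ G_{t • a}`, `|Q|` even, `|D|` odd), with the action faithful and `G` containing two distinct commuting involutions: every non-identity element of `D` inverted by `t` acts fixed-point-freely on `Q`. -/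
theorem result {G Ω : Type*} [Group G] [Finite G] [MulAction G Ω] [FaithfulSMul G Ω] {a : Ω} {t : G} {Q : Subgroup G}
    (hS : Cfsg.IsRankOneSetup G Ω a t Q)
    (h2 : ∃ x y : G, x ≠ 1 ∧ y ≠ 1 ∧ x ≠ y ∧ x * x = 1 ∧ y * y = 1 ∧ x * y = y * x)
    (x : G) (hx : x ∈ Cfsg.invertedBy (MulAction.stabilizer G a ⊓ MulAction.stabilizer G (t • a)) t) (hx1 : x ≠ 1) :
    Q ⊓ Subgroup.centralizer {x} = ⊥ := by
  rw [eq_bot_iff]
  intro q hq
  rw [Subgroup.mem_bot]
  by_contra hq1
  obtain ⟨hqQ, hqx⟩ := hq
  have hqx' : x * q = q * x := by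
    change q ∈ Subgroup.centralizer {x} at hqx
    rw [Subgroup.mem_centralizer_iff] at hqx
    exact hqx x rfl
  obtain ⟨hxD, hxt⟩ := hx
  have hxa : x • a = a := mem_stabilizer_iff.mp hxD.1
  have hxb : x • t • a = t • a := mem_stabilizer_iff.mp hxD.2
  have hX : ({x} : Set G) ⊆
      ((stabilizer G a ⊓ stabilizer G (t • a) : Subgroup G) : Set G) := by
    rintro _ rfl
    exact hxD
  have hqb_a : q • t • a ≠ a := by
    intro h
    have h1 : q • t • a = q • a := h.trans (Q_smul_a hS hqQ).symm
    exact b_ne_a hS (MulAction.injective q h1)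
  have hqb_b : q • t • a ≠ t • a := by
    intro h
    have h1 : q • t • a = (1 : G) • t • a := by rw [one_smul]; exact h
    exact hq1 (Q_eq_of_smul_eq hS hqQ Q.one_mem (b_ne_a hS) h1)
  have h3 : ∃ b c d : Ω, b ≠ c ∧ b ≠ d ∧ c ≠ d ∧
      ∀ y ∈ ({x} : Set G), y • b = b ∧ y • c = c ∧ y • d = d := by
    refine ⟨a, t • a, q • t • a, (b_ne_a hS).symm, hqb_a.symm, hqb_b.symm, ?_⟩
    rintro _ rfl
    refine ⟨hxa, hxb, ?_⟩
    rw [smul_smul, hqx', mul_smul, hxb]
  obtain ⟨u, huC, hu, hu1, hu2⟩ := exists_cent_involution hS hX h3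
  rw [Subgroup.mem_centralizer_iff] at huC
  have hux : x * u = u * x := huC x rfl
  have huinv : u⁻¹ = u := inv_eq_of_mul_eq_one_left hu
  have htu : t * u ∈ stabilizer G a ⊓ stabilizer G (t • a) := by
    constructor
    · change t * u ∈ stabilizer G a
      rw [mem_stabilizer_iff, mul_smul, hu1, t_smul_t_smul hS]
    · change t * u ∈ stabilizer G (t • a)
      rw [mem_stabilizer_iff, mul_smul, hu2]
  have hconj : (t * u) * x * (t * u)⁻¹ = x⁻¹ := by
    rw [← hxt, mul_inv_rev, huinv]
    calc t * u * x * (u * t⁻¹) = t * (u * x) * u * t⁻¹ := by group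
      _ = t * (x * u) * u * t⁻¹ := by rw [hux]
      _ = t * x * (u * u) * t⁻¹ := by group
      _ = t * x * t⁻¹ := by rw [hu, mul_one]
  have hxx := sq_eq_one_of_conj_inv (odd_orderOf_of_mem_D hS htu) hconj
  exact hx1 (D_sq_eq_one hS hxD hxx)

end Cfsg.Agent.S1128
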