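import Cfsg.Statements.S5647
import Cfsg.Agent.Helper7.SpMaxG
import Cfsg.Agent.S5645

set_option autoImplicit false
open Cfsg

namespace Cfsg.Agent.S5647

open Matrix Cfsg.Agent.Helper7.Symp Cfsg.Agent.Helper7.SpMax Cfsg.Agent.S5645

theorem toLin'_eq_lin {F : Type*} [Field F] {m : ℕ} (A : Matrix.symplecticGroup (Fin m) F) :
    Matrix.toLin' (A : Matrix (Fin m ⊕ Fin m) (Fin m ⊕ Fin m) F) = (lin A).toLinearMap := by
  apply LinearMap.ext
  intro x
  rw [Matrix.toLin'_apply]
  rfl

theorem toGL_mem_dstab {F : Type*} [Field F] {m t : ℕ} (D : Fin t → Submodule F (Fin m ⊕ Fin m → F))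
    (A : Matrix.symplecticGroup (Fin m) F) :
    toGL m F A ∈ Cfsg.Geo.decompositionStabilizer D ↔
      ∃ σ : Equiv.Perm (Fin t), ∀ i, (D i).map (lin A).toLinearMap = D (σ i) := by
  rw [← toLin'_eq_lin]
  exact Iff.rfl

/-- For a finite field F with q elements and m ≥ 7, let D be a decomposition of F^(2m) into t ≥ 2 pairwise orthogonal subspaces of equal dimension k on each of which the standard alternating form is non-degenerate, spanning F^(2m). Unless k = 2 and q = 2, the elements of Sp_2m(F) permuting the members of D form a maximal subgroup of Sp_2m(F). -/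
theorem result {F : Type*} [Field F] [Fintype F] (m : ℕ) (hm : 7 ≤ m) {t : ℕ} (k : ℕ) (D : Fin t → Submodule F (Fin m ⊕ Fin m → F)) (hD : Cfsg.Geo.IsNondegenerateMDecomposition (Cfsg.sympForm m F) k D) (hex : ¬ (k = 2 ∧ Fintype.card F = 2)) : Cfsg.Geo.IsMaximalIn (Cfsg.spGL m F) (Cfsg.Geo.decompositionStabilizer D ⊓ Cfsg.spGL m F) := by
  have hOD : ODecomp D :=
    ⟨fun i w hw hw0 => (hD.nondegenerate i w hw hw0).2, hD.orthogonal, hD.decomp.iSup_eq_top⟩
  have hk := hD.decomp.finrank_eq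
  have hk0 := hD.decomp.pos
  have ht := hD.decomp.two_le
  -- the two descriptions of the stabiliser
  have hstab_of : ∀ A : Matrix.symplecticGroup (Fin m) F,
      (∃ σ : Equiv.Perm (Fin t), ∀ i, ∀ x ∈ D i,
        (A : Matrix (Fin m ⊕ Fin m) (Fin m ⊕ Fin m) F) *ᵥ x ∈ D (σ i)) →
      toGL m F A ∈ Cfsg.Geo.decompositionStabilizer D := by
    rintro A ⟨σ, hσ⟩
    rw [toGL_mem_dstab]
    exact ⟨σ, fun i => map_eq_of_maps hk A (hσ i)⟩
  have hof_stab : ∀ A : Matrix.symplecticGroup (Fin m) F,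
      toGL m F A ∈ Cfsg.Geo.decompositionStabilizer D → ∀ i, ∀ x ∈ D i,
        ∃ j, (A : Matrix (Fin m ⊕ Fin m) (Fin m ⊕ Fin m) F) *ᵥ x ∈ D j := by
    intro A hA i x hx
    rw [toGL_mem_dstab] at hA
    obtain ⟨σ, hσ⟩ := hA
    refine ⟨σ i, ?_⟩
    rw [← hσ i]
    exact Submodule.mem_map_of_mem hx
  refine ⟨lt_of_le_not_ge inf_le_right ?_, ?_⟩
  · -- properness
    intro hle
    obtain ⟨A, hA⟩ := exists_not_perm hOD hk0 hk (i := ⟨0, by omega⟩) (j := ⟨1, by omega⟩)
      (by intro h; simpa using congrArg Fin.val h)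
    exact hA (hof_stab A (hle (toGL_mem A)).1 _)
  · intro M hPM hMG
    have key := decomp_or_top hOD hk
      (fun j d hd hd0 => exists_perp_in_member hex (hOD.nd j) (hk j) hd hd0)
      (M.comap (toGL m F)) (by
        intro A hA
        rw [Subgroup.mem_comap]
        exact hPM ⟨hstab_of A hA, toGL_mem A⟩)
    rcases key with h | h
    · left
      apply le_antisymm _ hPM
      intro g hg
      obtain ⟨A, rfl⟩ := exists_toGL_eq (hMG hg)
      exact ⟨hstab_of A (perm_of_maps hOD hk0 hk A (h A (Subgroup.mem_comap.mpr hg))), hMG hg⟩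
    · right
      apply le_antisymm hMG
      intro g hg
      obtain ⟨A, rfl⟩ := exists_toGL_eq hg
      have : A ∈ M.comap (toGL m F) := by rw [h]; exact Subgroup.mem_top A
      exact this

end Cfsg.Agent.S5647
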