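import Mathlib
import Cfsg.Statements.S0760

set_option autoImplicit false
open Cfsg

namespace Cfsg.Agent.S0760

open QuadraticMap Module

variable {F V : Type*} [Field F] [AddCommGroup V] [Module F V] [FiniteDimensional F V]

omit [FiniteDimensional F V] in
/-- On a totally singular subspace the polar form vanishes. -/
theorem polar_eq_zero_of_singular (Q : QuadraticForm F V) {W : Submodule F V}
    (h : ∀ w ∈ W, Q w = 0) {x y : V} (hx : x ∈ W) (hy : y ∈ W) : polar Q x y = 0 := by
  unfold polar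
  rw [h _ (W.add_mem hx hy), h _ hx, h _ hy]; simp

/-- The exchange step: a totally singular subspace cannot be larger than a maximal one. -/
theorem finrank_le_of_maximal (Q : QuadraticForm F V)
    (hQ : (QuadraticMap.polarBilin Q).Nondegenerate) (W₁ W₂ : Submodule F V)
    (h₁ : ∀ w ∈ W₁, Q w = 0) (h₂ : ∀ w ∈ W₂, Q w = 0)
    (hmax₁ : ∀ W : Submodule F V, W₁ ≤ W → (∀ w ∈ W, Q w = 0) → W = W₁) :
    finrank F W₂ ≤ finrank F W₁ := by
  by_contra hlt
  push Not at hlt
  set B : LinearMap.BilinForm F V := QuadraticMap.polarBilin Q with hBdef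
  have hBapp : ∀ x y, B x y = polar Q x y := fun x y => polarBilin_apply_apply Q x y
  set U := W₁ ⊓ W₂ with hU
  -- a complement of `U` inside `W₂`
  obtain ⟨C₀, hC₀⟩ := Submodule.exists_isCompl U
  set C := C₀ ⊓ W₂ with hC
  have hUC : U ⊓ C = ⊥ := by
    rw [eq_bot_iff]
    calc U ⊓ C ≤ U ⊓ C₀ := inf_le_inf_left _ inf_le_left
      _ = ⊥ := hC₀.inf_eq_bot
  have hUW₂ : U ≤ W₂ := inf_le_right
  have hsup : U ⊔ C = W₂ := by
    rw [hC, ← sup_inf_assoc_of_le C₀ hUW₂, hC₀.sup_eq_top, top_inf_eq]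
  have hdimC : finrank F U + finrank F C = finrank F W₂ := by
    have := Submodule.finrank_sup_add_finrank_inf_eq U C
    rw [hsup, hUC, finrank_bot, add_zero] at this
    exact this.symm
  -- everything lies in the orthogonal of `U`
  have hC_le : C ≤ B.orthogonal U := by
    intro c hc
    rw [LinearMap.BilinForm.mem_orthogonal_iff]
    intro n hn
    rw [hBapp]
    exact polar_eq_zero_of_singular Q h₂ (hUW₂ hn) hc.2
  have hW₁orth_le : B.orthogonal W₁ ≤ B.orthogonal U :=
    LinearMap.BilinForm.orthogonal_le inf_le_left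
  have hdim1 : finrank F (B.orthogonal W₁) = finrank F V - finrank F W₁ :=
    LinearMap.BilinForm.finrank_orthogonal hQ W₁
  have hdim2 : finrank F (B.orthogonal U) = finrank F V - finrank F U :=
    LinearMap.BilinForm.finrank_orthogonal hQ U
  have hW₁V : finrank F W₁ ≤ finrank F V := Submodule.finrank_le W₁
  have hUW₁ : finrank F U ≤ finrank F W₁ := Submodule.finrank_mono inf_le_left
  have hsum := Submodule.finrank_sup_add_finrank_inf_eq C (B.orthogonal W₁)
  have hsuple : finrank F ↥(C ⊔ B.orthogonal W₁) ≤ finrank F (B.orthogonal U) :=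
    Submodule.finrank_mono (sup_le hC_le hW₁orth_le)
  have hpos : 0 < finrank F ↥(C ⊓ B.orthogonal W₁) := by omega
  -- a non-zero vector of `C ⊓ W₁^⊥`
  have hne : (C ⊓ B.orthogonal W₁) ≠ ⊥ := by
    intro h
    rw [h, finrank_bot] at hpos
    exact lt_irrefl _ hpos
  obtain ⟨w, hw, hw0⟩ := Submodule.exists_mem_ne_zero_of_ne_bot hne
  have hwC : w ∈ C := hw.1
  have hwW₂ : w ∈ W₂ := hwC.2
  have hworth : ∀ n ∈ W₁, polar Q n w = 0 := by
    intro n hn
    have := (LinearMap.BilinForm.mem_orthogonal_iff.mp hw.2) n hn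
    rwa [hBapp] at this
  have hwW₁ : w ∉ W₁ := by
    intro hmem
    have : w ∈ U ⊓ C := ⟨⟨hmem, hwW₂⟩, hwC⟩
    rw [hUC, Submodule.mem_bot] at this
    exact hw0 this
  -- enlarge `W₁`
  have hbig : ∀ z ∈ W₁ ⊔ Submodule.span F {w}, Q z = 0 := by
    intro z hz
    rw [Submodule.mem_sup] at hz
    obtain ⟨x, hx, y, hy, rfl⟩ := hz
    rw [Submodule.mem_span_singleton] at hy
    obtain ⟨c, rfl⟩ := hy
    rw [QuadraticMap.map_add (⇑Q), QuadraticMap.map_smul, h₁ x hx, h₂ w hwW₂, polar_smul_right,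
      hworth x hx]
    simp
  have := hmax₁ _ le_sup_left hbig
  apply hwW₁
  rw [← this]
  exact Submodule.mem_sup_right (Submodule.mem_span_singleton_self w)

/-- Witt index is well defined: if Q is a quadratic form on a finite-dimensional space V over a finite field with non-degenerate polar form, and W₁, W₂ are subspaces on which Q vanishes that are maximal with this property, then W₁ and W₂ have the same dimension, and twice this dimension is at most dim V. -/
theorem result {F V : Type*} [Field F] [Finite F] [AddCommGroup V] [Module F V] [FiniteDimensional F V] (Q : QuadraticForm F V) (hQ : (QuadraticMap.polarBilin Q).Nondegenerate) (W₁ W₂ : Submodule F V) (h₁ : ∀ w ∈ W₁, Q w = 0) (h₂ : ∀ w ∈ W₂, Q w = 0) (hmax₁ : ∀ W : Submodule F V, W₁ ≤ W → (∀ w ∈ W, Q w = 0) → W = W₁) (hmax₂ : ∀ W : Submodule F V, W₂ ≤ W → (∀ w ∈ W, Q w = 0) → W = W₂) : Module.finrank F W₁ = Module.finrank F W₂ ∧ 2 * Module.finrank F W₁ ≤ Module.finrank F V := by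
  refine ⟨le_antisymm (finrank_le_of_maximal Q hQ W₂ W₁ h₂ h₁ hmax₂)
    (finrank_le_of_maximal Q hQ W₁ W₂ h₁ h₂ hmax₁), ?_⟩
  have hle : W₁ ≤ LinearMap.BilinForm.orthogonal (QuadraticMap.polarBilin Q) W₁ := by
    intro x hx
    rw [LinearMap.BilinForm.mem_orthogonal_iff]
    intro n hn
    rw [polarBilin_apply_apply]
    exact polar_eq_zero_of_singular Q h₁ hn hx
  have h1 := Submodule.finrank_mono hle
  rw [LinearMap.BilinForm.finrank_orthogonal hQ W₁] at h1
  have h2 : finrank F W₁ ≤ finrank F V := Submodule.finrank_le W₁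
  omega

end Cfsg.Agent.S0760
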