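import Cfsg.Statements.S2402
import Cfsg.Agent.Helper8.SLGen

set_option autoImplicit false
open Cfsg

namespace Cfsg.Agent.S2402

variable {K : Type*} [Field K]

/-- Every element of a finite field is a sum of two squares. -/
theorem exists_sq_add_sq [Fintype K] (x : K) : ∃ a b : K, a ^ 2 + b ^ 2 = x := by
  classical
  rcases Nat.even_or_odd (Fintype.card K) with he | ho
  · have hchar : ringChar K = 2 := FiniteField.even_card_iff_char_two.mpr (Nat.even_iff.mp he)
    obtain ⟨s, hs⟩ := FiniteField.isSquare_of_char_two hchar x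
    exact ⟨s, 0, by rw [hs]; ring⟩
  · have h := FiniteField.exists_root_sum_quadratic (R := K)
      (f := Polynomial.X ^ 2) (g := Polynomial.X ^ 2 - Polynomial.C x)
      (Polynomial.degree_X_pow 2) (Polynomial.degree_X_pow_sub_C (by norm_num) x)
      (Nat.odd_iff.mp ho)
    obtain ⟨a, b, hab⟩ := h
    refine ⟨a, b, ?_⟩
    simp only [Polynomial.eval_pow, Polynomial.eval_X, Polynomial.eval_sub, Polynomial.eval_C] at hab
    linear_combination hab

/-- Conjugating a transvection by a diagonal matrix. -/
theorem diag_conj {ι : Type*} [Fintype ι] [DecidableEq ι] (A : Matrix.SpecialLinearGroup ι K) (a : ι → K)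
    (hA : (A : Matrix ι ι K) = Matrix.diagonal a) {i j : ι} (hij : i ≠ j) (c c' : K)
    (hc : a i * c = c' * a j) :
    A * Matrix.SpecialLinearGroup.transvection hij c = Matrix.SpecialLinearGroup.transvection hij c' * A := by
  apply Subtype.ext
  rw [Matrix.SpecialLinearGroup.coe_mul, Matrix.SpecialLinearGroup.coe_mul,
    Matrix.SpecialLinearGroup.transvection_coe, Matrix.SpecialLinearGroup.transvection_coe, hA]
  ext p q
  rw [Matrix.diagonal_mul, Matrix.mul_diagonal, Matrix.add_apply, Matrix.add_apply,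
    Matrix.single_apply, Matrix.single_apply, Matrix.one_apply]
  by_cases hpq : p = q
  · subst hpq
    have : ¬ (i = p ∧ j = p) := fun h => hij (h.1.trans h.2.symm)
    simp [this, mul_comm]
  · by_cases hip : i = p ∧ j = q
    · obtain ⟨rfl, rfl⟩ := hip
      simp [hpq, hc]
    · simp [hpq, hip]

/-- Explicit two-element generation of `PSL_{n+1}(K)` for a finite field `K` with more than three elements: let `k` generate the multiplicative group of `K`, `h = diag(k, k⁻¹, 1, …, 1)`, `x = 1 + E₁₂` (the elementary transvection) and `w` the monomial matrix with entries `1` in positions `(i, i+1)` and `(−1)^n` in position `(n+1, 1)`. Then `h` and `x·w` generate `SL_{n+1}(K)` modulo its centre: the subgroup they generate together with the centre is everything. -/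
theorem result {K : Type*} [Field K] [Fintype K] (hK : 3 < Fintype.card K) (n : ℕ) (hn : 1 ≤ n)
    (k : Kˣ) (hk : ∀ u : Kˣ, u ∈ Subgroup.zpowers k)
    (h x w : Matrix.SpecialLinearGroup (Fin (n + 1)) K)
    (hh : (h : Matrix (Fin (n + 1)) (Fin (n + 1)) K) =
      Matrix.diagonal (fun i => if i.val = 0 then (k : K) else if i.val = 1 then ((k⁻¹ : Kˣ) : K) else 1))
    (hx : (x : Matrix (Fin (n + 1)) (Fin (n + 1)) K) = Matrix.transvection (0 : Fin (n + 1)) (1 : Fin (n + 1)) 1)
    (hw : (w : Matrix (Fin (n + 1)) (Fin (n + 1)) K) =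
      Matrix.of (fun i j => if j.val = i.val + 1 then 1 else if i.val = n ∧ j.val = 0 then (-1) ^ n else 0)) :
    Subgroup.closure ({h, x * w} : Set (Matrix.SpecialLinearGroup (Fin (n + 1)) K)) ⊔
      Subgroup.center (Matrix.SpecialLinearGroup (Fin (n + 1)) K) = ⊤ := by
  classical
  set H := Subgroup.closure ({h, x * w} : Set (Matrix.SpecialLinearGroup (Fin (n + 1)) K)) with hH
  have hhH : h ∈ H := Subgroup.subset_closure (by simp)
  have hgH : x * w ∈ H := Subgroup.subset_closure (by simp)
  have h01 : (0 : Fin (n + 1)) ≠ 1 := by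
    intro h
    have := congrArg Fin.val h
    rw [Fin.val_zero, Fin.val_one'] at this
    have h2 : 1 % (n + 1) = 1 := Nat.mod_eq_of_lt (by omega)
    omega
  have hx' : x = Matrix.SpecialLinearGroup.transvection h01 1 := by
    apply Subtype.ext
    rw [hx, Matrix.SpecialLinearGroup.transvection_coe, Matrix.transvection]
  -- facts on k
  have hk0 : (k : K) ≠ 0 := k.ne_zero
  have hkinv : ((k⁻¹ : Kˣ) : K) = (k : K)⁻¹ := by simp
  have hk2 : (k : K) ^ 2 ≠ 1 := by
    intro h2
    have hk2' : k ^ 2 = 1 := Units.ext (by simpa using h2)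
    have hord : orderOf k ∣ 2 := orderOf_dvd_of_pow_eq_one hk2'
    have htop : Subgroup.zpowers k = ⊤ := (Subgroup.eq_top_iff' _).mpr hk
    have hcard : Nat.card (Subgroup.zpowers k) = Nat.card Kˣ := by rw [htop, Subgroup.card_top]
    rw [Nat.card_zpowers, Nat.card_eq_fintype_card, Fintype.card_units] at hcard
    have := Nat.le_of_dvd (by norm_num) hord
    omega
  have hk1 : (k : K) ≠ 1 := by
    intro h1
    apply hk2
    rw [h1, one_pow]
  set hd : Fin (n + 1) → K := fun i => if i.val = 0 then (k : K) else if i.val = 1 then ((k⁻¹ : Kˣ) : K) else 1 with hhd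
  have hW : ∀ p q, (w : Matrix (Fin (n + 1)) (Fin (n + 1)) K) p q = if q = p + 1 then Helper8.SLGen.eps n p else 0 := by
    intro p q
    rw [hw, Matrix.of_apply, Helper8.SLGen.w_entry]
  -- D = w h w⁻¹ is diagonal
  set D := w * h * w⁻¹ with hDdef
  have hD : (D : Matrix (Fin (n + 1)) (Fin (n + 1)) K) = Matrix.diagonal (fun p => hd (p + 1)) := by
    have h1 : D * w = w * h := by rw [hDdef]; group
    have h1' : (D : Matrix (Fin (n + 1)) (Fin (n + 1)) K) * (w : Matrix (Fin (n + 1)) (Fin (n + 1)) K)
        = (w : Matrix (Fin (n + 1)) (Fin (n + 1)) K) * (h : Matrix (Fin (n + 1)) (Fin (n + 1)) K) := by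
      rw [← Matrix.SpecialLinearGroup.coe_mul, ← Matrix.SpecialLinearGroup.coe_mul, h1]
    have h2 : Matrix.diagonal (fun p => hd (p + 1)) * (w : Matrix (Fin (n + 1)) (Fin (n + 1)) K)
        = (w : Matrix (Fin (n + 1)) (Fin (n + 1)) K) * (h : Matrix (Fin (n + 1)) (Fin (n + 1)) K) := by
      rw [hh]
      ext p q
      rw [Matrix.diagonal_mul, Matrix.mul_diagonal, hW]
      by_cases hq : q = p + 1
      · subst hq
        simp [mul_comm]
      · simp [hq]
    have h3 : (w : Matrix (Fin (n + 1)) (Fin (n + 1)) K) * ((w⁻¹ : Matrix.SpecialLinearGroup (Fin (n + 1)) K) : Matrix (Fin (n + 1)) (Fin (n + 1)) K) = 1 := by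
      rw [← Matrix.SpecialLinearGroup.coe_mul, mul_inv_cancel, Matrix.SpecialLinearGroup.coe_one]
    calc (D : Matrix (Fin (n + 1)) (Fin (n + 1)) K)
        = (D : Matrix (Fin (n + 1)) (Fin (n + 1)) K) * ((w : Matrix (Fin (n + 1)) (Fin (n + 1)) K) * ((w⁻¹ : Matrix.SpecialLinearGroup (Fin (n + 1)) K) : Matrix (Fin (n + 1)) (Fin (n + 1)) K)) := by rw [h3, mul_one]
      _ = Matrix.diagonal (fun p => hd (p + 1)) * ((w : Matrix (Fin (n + 1)) (Fin (n + 1)) K) * ((w⁻¹ : Matrix.SpecialLinearGroup (Fin (n + 1)) K) : Matrix (Fin (n + 1)) (Fin (n + 1)) K)) := by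
        rw [← mul_assoc, h1', ← h2, mul_assoc]
      _ = _ := by rw [h3, mul_one]
  -- the values d0 and d1
  have hd0 : hd (0 + 1) = (k : K)⁻¹ := by
    have : ((0 : Fin (n + 1)) + 1).val = 1 := by
      rw [zero_add, Fin.val_one']
      exact Nat.mod_eq_of_lt (by omega)
    simp only [hhd, this]
    simp
  have hd1 : hd (1 + 1) = (k : K) ∨ hd (1 + 1) = 1 := by
    by_cases hn1 : n = 1
    · left
      subst hn1
      simp [hhd]
    · right
      have : ((1 : Fin (n + 1)) + 1).val = 2 := by
        rw [Fin.val_add, Fin.val_one']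
        have : 1 % (n + 1) = 1 := Nat.mod_eq_of_lt (by omega)
        rw [this]
        exact Nat.mod_eq_of_lt (by omega)
      simp only [hhd, this]
      simp
  have hd1ne : hd (1 + 1) ≠ 0 := by
    rcases hd1 with h | h <;> rw [h]
    · exact hk0
    · exact one_ne_zero
  have hd01 : hd (0 + 1) ≠ hd (1 + 1) := by
    rw [hd0]
    rcases hd1 with h | h <;> rw [h]
    · intro h'
      apply hk2
      field_simp at h'
      exact h'.symm
    · intro h'
      apply hk1
      exact inv_eq_one.mp h'
  -- y = g h g⁻¹ = T(cc) D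
  set cc : K := 1 - hd (0 + 1) / hd (1 + 1) with hcc
  have hcc0 : cc ≠ 0 := by
    rw [hcc]
    intro h'
    apply hd01
    field_simp at h'
    linear_combination -h'
  have hy : (x * w) * h * (x * w)⁻¹ = Matrix.SpecialLinearGroup.transvection h01 cc * D := by
    have e1 : (x * w) * h * (x * w)⁻¹ = x * D * x⁻¹ := by rw [hDdef]; group
    have e2 : D * Matrix.SpecialLinearGroup.transvection h01 (-1)
        = Matrix.SpecialLinearGroup.transvection h01 (- (hd (0 + 1) / hd (1 + 1))) * D := by
      apply diag_conj D _ hD h01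
      field_simp
    rw [e1, hx', Matrix.SpecialLinearGroup.transvection_inv, mul_assoc, e2, ← mul_assoc,
      ← Matrix.SpecialLinearGroup.transvection_add, hcc, sub_eq_add_neg]
  have hyH : Matrix.SpecialLinearGroup.transvection h01 cc * D ∈ H := by
    rw [← hy]
    exact H.mul_mem (H.mul_mem hgH hhH) (H.inv_mem hgH)
  -- h and D commute
  have hDh : D * h = h * D := by
    apply Subtype.ext
    change (D : Matrix (Fin (n + 1)) (Fin (n + 1)) K) * (h : Matrix (Fin (n + 1)) (Fin (n + 1)) K)
      = (h : Matrix (Fin (n + 1)) (Fin (n + 1)) K) * (D : Matrix (Fin (n + 1)) (Fin (n + 1)) K)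
    rw [hD, hh, Matrix.diagonal_mul_diagonal, Matrix.diagonal_mul_diagonal]
    congr 1
    funext p
    exact mul_comm _ _
  -- conjugation by h
  have hconjh : ∀ c : K, h * Matrix.SpecialLinearGroup.transvection h01 c
      = Matrix.SpecialLinearGroup.transvection h01 ((k : K) ^ 2 * c) * h := by
    intro c
    apply diag_conj h _ hh h01
    have : ((1 : Fin (n + 1))).val = 1 := by
      rw [Fin.val_one']
      exact Nat.mod_eq_of_lt (by omega)
    simp only [hhd, Fin.val_zero, if_true, this]
    simp
    field_simp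
  -- z = [h, y] = T((k² - 1) cc)
  set a : K := ((k : K) ^ 2 - 1) * cc with ha
  have ha0 : a ≠ 0 := mul_ne_zero (sub_ne_zero.mpr hk2) hcc0
  have hz : Matrix.SpecialLinearGroup.transvection h01 a ∈ H := by
    have e : Matrix.SpecialLinearGroup.transvection h01 a
        = h * (Matrix.SpecialLinearGroup.transvection h01 cc * D) * h⁻¹ *
          (Matrix.SpecialLinearGroup.transvection h01 cc * D)⁻¹ := by
      have e1 : h * (Matrix.SpecialLinearGroup.transvection h01 cc * D) * h⁻¹
          = Matrix.SpecialLinearGroup.transvection h01 ((k : K) ^ 2 * cc) * D := by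
        rw [← mul_assoc, hconjh, mul_assoc, mul_assoc, ← mul_assoc h D, ← hDh, mul_assoc,
          mul_inv_cancel, mul_one]
      rw [e1, _root_.mul_inv_rev, mul_assoc, ← mul_assoc D, mul_inv_cancel, one_mul,
        Matrix.SpecialLinearGroup.transvection_inv, ← Matrix.SpecialLinearGroup.transvection_add]
      congr 1
      rw [ha]
      ring
    rw [e]
    exact H.mul_mem (H.mul_mem (H.mul_mem hhH hyH) (H.inv_mem hhH)) (H.inv_mem hyH)
  -- T(k^(2m) a) ∈ H
  have hpow : ∀ m : ℕ, Matrix.SpecialLinearGroup.transvection h01 (((k : K) ^ m) ^ 2 * a) ∈ H := by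
    intro m
    induction m with
    | zero => simpa using hz
    | succ m ih =>
      have e : Matrix.SpecialLinearGroup.transvection h01 (((k : K) ^ (m + 1)) ^ 2 * a)
          = h * Matrix.SpecialLinearGroup.transvection h01 (((k : K) ^ m) ^ 2 * a) * h⁻¹ := by
        rw [hconjh, mul_assoc, mul_inv_cancel, mul_one]
        congr 1
        ring
      rw [e]
      exact H.mul_mem (H.mul_mem hhH ih) (H.inv_mem hhH)
  have hsq : ∀ s : K, Matrix.SpecialLinearGroup.transvection h01 (s ^ 2 * a) ∈ H := by
    intro s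
    by_cases hs : s = 0
    · rw [hs]
      simp only [ne_eq, OfNat.ofNat_ne_zero, not_false_eq_true, zero_pow, zero_mul,
        Matrix.SpecialLinearGroup.transvection_coeff_zero]
      exact H.one_mem
    · have hu := hk (Units.mk0 s hs)
      rw [← mem_powers_iff_mem_zpowers] at hu
      obtain ⟨m, hm⟩ := hu
      have : s = (k : K) ^ m := by
        have := congrArg (fun u : Kˣ => (u : K)) hm
        simpa using this.symm
      rw [this]
      exact hpow m
  have hT : ∀ c : K, Matrix.SpecialLinearGroup.transvection h01 c ∈ H := by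
    intro c
    obtain ⟨s, t, hst⟩ := exists_sq_add_sq (c / a)
    have : c = s ^ 2 * a + t ^ 2 * a := by
      rw [← add_mul, hst]
      field_simp
    rw [this, Matrix.SpecialLinearGroup.transvection_add]
    exact H.mul_mem (hsq s) (hsq t)
  have hxH : x ∈ H := by rw [hx']; exact hT 1
  have hwH : w ∈ H := by
    have : w = x⁻¹ * (x * w) := by group
    rw [this]
    exact H.mul_mem (H.inv_mem hxH) hgH
  rw [Helper8.SLGen.eq_top_of_mem n hn H w hw hwH h01 hT, top_sup_eq]

end Cfsg.Agent.S2402
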