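import Cfsg.Statements.S2621
import Cfsg.Agent.S2620
import Cfsg.Agent.Helper8.FieldTwo

set_option autoImplicit false
open Cfsg

namespace Cfsg.Agent.S2621
open Cfsg.Agent.Helper8 Matrix

/-- Gram matrix of the minus-type form in the standard basis. -/
def minusMat (F : Type*) [Field F] (m : ℕ) (a c : F) :
    Matrix ((Fin m ⊕ Fin m) ⊕ Fin 2) ((Fin m ⊕ Fin m) ⊕ Fin 2) F :=
  Matrix.fromBlocks (hypMat F m) (0 : Matrix (Fin m ⊕ Fin m) (Fin 2) F)
    (0 : Matrix (Fin 2) (Fin m ⊕ Fin m) F) (!![2, a; a, 2 * c] : Matrix (Fin 2) (Fin 2) F)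

theorem polar_quadFormMinus {F : Type*} [Field F] (m : ℕ) (a c : F)
    (u v : (Fin m ⊕ Fin m) ⊕ Fin 2 → F) :
    QuadraticMap.polar (Cfsg.quadFormMinus m F a c) u v = u ⬝ᵥ (minusMat F m a c *ᵥ v) := by
  rw [QuadraticMap.polar, minusMat, Matrix.fromBlocks_mulVec, hypMat, Matrix.fromBlocks_mulVec]
  simp only [Cfsg.quadFormMinus, dotProduct, Fintype.sum_sum_type, Sum.elim_inl, Sum.elim_inr,
    Matrix.zero_mulVec, Matrix.one_mulVec, zero_add, add_zero, Pi.add_apply, Function.comp_apply,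
    Fin.sum_univ_two, Matrix.mulVec, Matrix.of_apply, Matrix.cons_val_zero, Matrix.cons_val_one,
    Matrix.cons_val', Matrix.cons_val_fin_one]
  have h : ∀ (s1 s2 s3 : Fin m → F) (x1 x2 x3 : F),
      (∑ i, s1 i + x1) - (∑ i, s2 i + x2) - (∑ i, s3 i + x3)
      = ∑ i, (s1 i - s2 i - s3 i) + (x1 - x2 - x3) := by
    intro s1 s2 s3 x1 x2 x3
    rw [Finset.sum_sub_distrib, Finset.sum_sub_distrib]
    ring
  rw [h, ← Finset.sum_add_distrib]
  have h2 : ∀ (A B C : F), A = B → A + C = B + C := fun A B C h => by rw [h]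
  rw [add_assoc]
  congr 1
  · apply Finset.sum_congr rfl
    intro i _
    ring
  · ring

theorem det_minusMat {F : Type*} [Field F] (m : ℕ) (a c : F) :
    (minusMat F m a c).det = (-1) ^ m * (4 * c - a ^ 2) := by
  rw [minusMat, Matrix.det_fromBlocks_zero₁₂, det_hypMat, Matrix.det_fin_two_of]
  ring

theorem isSquare_mul_nonsquare {F : Type*} [Field F] [Fintype F] (x δ : F) (hx : x ≠ 0)
    (hδ : ¬ IsSquare δ) : IsSquare (x * δ) ↔ ¬ IsSquare x := by
  classical
  have hδ0 : δ ≠ 0 := by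
    rintro rfl
    exact hδ IsSquare.zero
  rw [← quadraticChar_one_iff_isSquare (mul_ne_zero hx hδ0), map_mul,
    quadraticChar_neg_one_iff_not_isSquare.mpr hδ, ← quadraticChar_neg_one_iff_not_isSquare]
  constructor
  · intro h; linarith
  · intro h; linarith

/-- Discriminant of an elliptic quadratic form Σ_(i<m−1) x_i y_i + z₁² + a z₁z₂ + c z₂² (binary part anisotropic) in dimension 2m over a field with q elements, q odd, m ≥ 1: the determinant of the Gram matrix of its polar form in any basis is a square if and only if m(q − 1)/2 is odd (equivalently q^m ≡ 3 (mod 4)). -/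
theorem result {F : Type*} [Field F] [Fintype F] {q : ℕ} (hF : Fintype.card F = q) (hq : Odd q) {m : ℕ} (hm : 1 ≤ m) (a c : F) (hac : ∀ z₁ z₂ : F, z₁ ^ 2 + a * z₁ * z₂ + c * z₂ ^ 2 = 0 → z₁ = 0 ∧ z₂ = 0) {ι : Type*} [Fintype ι] [DecidableEq ι] (b : Module.Basis ι F ((Fin (m - 1) ⊕ Fin (m - 1)) ⊕ Fin 2 → F)) : IsSquare (Matrix.of (fun i j : ι => QuadraticMap.polar (Cfsg.quadFormMinus (m - 1) F a c) (b i) (b j))).det ↔ ¬ Even (m * (q - 1) / 2) := by
  have hne : (-1 : F) ≠ 1 := neg_one_ne_one_of_odd_card (hF ▸ hq)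
  have h2 : (2 : F) ≠ 0 := by
    intro h
    apply hne
    have : (1 : F) + 1 = 0 := by rw [← h]; norm_num
    exact neg_eq_of_add_eq_zero_left this
  -- the discriminant of the binary part is a non-square
  have hδ : ¬ IsSquare (a ^ 2 - 4 * c) := by
    rintro ⟨d, hd⟩
    have := hac ((d - a) / 2) 1 (by
      field_simp
      linear_combination hd.symm)
    exact one_ne_zero this.2
  obtain ⟨d, hd, hdet⟩ := gram_det (minusMat F (m - 1) a c)
    (fun u v => QuadraticMap.polar (Cfsg.quadFormMinus (m - 1) F a c) u v)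
    (polar_quadFormMinus (m - 1) a c) b
  rw [hdet, S2620.isSquare_sq_mul d _ hd, det_minusMat]
  have : (-1 : F) ^ (m - 1) * (4 * c - a ^ 2) = (-1) ^ m * (a ^ 2 - 4 * c) := by
    have : m = (m - 1) + 1 := by omega
    nth_rewrite 2 [this]
    rw [pow_succ]
    ring
  rw [this, isSquare_mul_nonsquare _ _ (pow_ne_zero _ (neg_ne_zero.mpr one_ne_zero)) hδ,
    S2620.isSquare_neg_one_pow, hF, S2620.even_iff m q hq]

end Cfsg.Agent.S2621
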