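import Mathlib
import Cfsg.Statements.S0791
import Cfsg.Agent.Helper8.OmegaStd2
import Cfsg.Agent.S2621

set_option autoImplicit false
open Cfsg

namespace Cfsg.Agent.S0791

open Cfsg.Agent.Helper8.QuadForm Cfsg.Agent.Helper8.OmegaDiag Cfsg.Agent.Helper8.OmegaStd
  Cfsg.Agent.Helper8.OmegaStd2 Cfsg.Agent.Helper8.StdForms

theorem aux {F : Type*} [Field F] [Fintype F] {q : ℕ} (hF : Fintype.card F = q) (hodd : Odd q)
    (k : ℕ) (a b : F)
    (hab : ∀ z₁ z₂ : F, z₁ ^ 2 + a * z₁ * z₂ + b * z₂ ^ 2 = 0 → z₁ = 0 ∧ z₂ = 0) :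
    (∃ g : ↥(Cfsg.isometryGroup F ⇑(minusForm F k a b)),
      g ∈ commutator ↥(Cfsg.isometryGroup F ⇑(minusForm F k a b)) ∧
      ((g : GL ((Fin k ⊕ Fin k) ⊕ Fin 2) F) : Matrix ((Fin k ⊕ Fin k) ⊕ Fin 2)
        ((Fin k ⊕ Fin k) ⊕ Fin 2) F) = -1) ↔ q ^ (k + 1) % 4 = 3 := by
  classical
  have h2 : (2 : F) ≠ 0 := two_ne_zero_of_odd (by rw [hF]; exact hodd)
  obtain ⟨Q, hQdef⟩ : ∃ Q, Q = minusForm F k a b := ⟨_, rfl⟩
  rw [← hQdef]
  obtain ⟨e, he⟩ : ∃ e : Fin k → ((Fin k ⊕ Fin k) ⊕ Fin 2 → F),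
    e = fun j => Pi.single (Sum.inl (Sum.inl j)) 1 := ⟨_, rfl⟩
  obtain ⟨f, hf⟩ : ∃ f : Fin k → ((Fin k ⊕ Fin k) ⊕ Fin 2 → F),
    f = fun j => Pi.single (Sum.inl (Sum.inr j)) 1 := ⟨_, rfl⟩
  have hhyp : IsHyp Q e f := by rw [hQdef, he, hf]; exact minus_isHyp F k a b
  obtain ⟨u₁, hu₁⟩ : ∃ u₁ : (Fin k ⊕ Fin k) ⊕ Fin 2 → F, u₁ = Pi.single (Sum.inr 0) 1 := ⟨_, rfl⟩
  obtain ⟨u₂, hu₂⟩ : ∃ u₂ : (Fin k ⊕ Fin k) ⊕ Fin 2 → F,
    u₂ = Pi.single (Sum.inr 0) (-a) + Pi.single (Sum.inr 1) 2 := ⟨_, rfl⟩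
  -- coordinates of `u₁`, `u₂`
  have hu₁l : ∀ j, u₁ (Sum.inl j) = 0 := by intro j; rw [hu₁]; simp
  have hu₂l : ∀ j, u₂ (Sum.inl j) = 0 := by intro j; rw [hu₂]; simp
  have hu₁0 : u₁ (Sum.inr 0) = 1 := by rw [hu₁]; simp
  have hu₁1 : u₁ (Sum.inr 1) = 0 := by rw [hu₁]; simp
  have hu₂0 : u₂ (Sum.inr 0) = -a := by rw [hu₂]; simp
  have hu₂1 : u₂ (Sum.inr 1) = 2 := by rw [hu₂]; simp
  have hpolar : ∀ u v : (Fin k ⊕ Fin k) ⊕ Fin 2 → F, QuadraticMap.polar Q u v =
      (∑ i : Fin k, u (Sum.inl (Sum.inl i)) * v (Sum.inl (Sum.inr i))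
        + ∑ i : Fin k, v (Sum.inl (Sum.inl i)) * u (Sum.inl (Sum.inr i)))
      + (2 * u (Sum.inr 0) * v (Sum.inr 0)
        + a * (u (Sum.inr 0) * v (Sum.inr 1) + v (Sum.inr 0) * u (Sum.inr 1))
        + 2 * b * u (Sum.inr 1) * v (Sum.inr 1)) := by
    intro u v
    rw [hQdef]
    exact polar_minusForm F k a b u v
  have hQu₁ : Q u₁ = 1 := by
    rw [hQdef, minusForm_apply]
    unfold Cfsg.quadFormMinus
    simp only [hu₁l, hu₁0, hu₁1]
    simp
  have hQu₂ : Q u₂ = 4 * b - a ^ 2 := by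
    rw [hQdef, minusForm_apply]
    unfold Cfsg.quadFormMinus
    simp only [hu₂l, hu₂0, hu₂1]
    simp
    ring
  -- the discriminant of the binary part is a nonsquare
  have hδ : ¬ IsSquare (a ^ 2 - 4 * b) := by
    rintro ⟨d, hd⟩
    have := hab ((d - a) / 2) 1 (by
      field_simp
      linear_combination hd.symm)
    exact one_ne_zero this.2
  have hδ0 : 4 * b - a ^ 2 ≠ 0 := by
    intro h
    apply hδ
    have : a ^ 2 - 4 * b = 0 := by linear_combination -h
    rw [this]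
    exact IsSquare.zero
  obtain ⟨l, hl⟩ : ∃ l, l = hypVecs e f (List.finRange k) ++ [u₁, u₂] := ⟨_, rfl⟩
  have hperp_e : ∀ j x, QuadraticMap.polar Q (e j) x = x (Sum.inl (Sum.inr j)) := by
    intro j x
    rw [hQdef, he]
    exact minus_polar_e F k a b j x
  have hperp_f : ∀ j x, QuadraticMap.polar Q (f j) x = x (Sum.inl (Sum.inl j)) := by
    intro j x
    rw [hQdef, hf]
    exact minus_polar_f F k a b j x
  have hpw : l.Pairwise (fun u w => QuadraticMap.polar Q u w = 0) := by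
    rw [hl, List.pairwise_append]
    refine ⟨hypVecs_pairwise Q hhyp _ (List.nodup_finRange k), ?_, ?_⟩
    · rw [List.pairwise_cons]
      refine ⟨?_, List.pairwise_singleton _ _⟩
      intro w hw
      rw [List.mem_singleton] at hw
      rw [hw, hpolar]
      simp only [hu₁l, hu₂l, hu₁0, hu₁1, hu₂0, hu₂1]
      simp
      ring
    · intro v hv w hw
      obtain ⟨j, -, hv⟩ := (mem_hypVecs e f _ v).mp hv
      have hw' : ∀ i, w (Sum.inl i) = 0 := by
        intro i
        rcases List.mem_cons.mp hw with rfl | hw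
        · exact hu₁l i
        · rw [List.mem_singleton] at hw
          rw [hw]
          exact hu₂l i
      rcases hv with rfl | rfl
      · rw [QuadraticMap.polar_add_left, hperp_e, hperp_f, hw', hw', add_zero]
      · rw [QuadraticMap.polar_sub_left, hperp_e, hperp_f, hw', hw', sub_zero]
  have hlne : ∀ z ∈ l, Q z ≠ 0 := by
    intro z hz
    rw [hl, List.mem_append] at hz
    rcases hz with hz | hz
    · exact hypVecs_ne_zero Q hhyp _ z hz
    · rcases List.mem_cons.mp hz with rfl | hz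
      · rw [hQu₁]
        exact one_ne_zero
      · rw [List.mem_singleton] at hz
        rw [hz, hQu₂]
        exact hδ0
  have hcard : 2 ≤ Fintype.card ((Fin k ⊕ Fin k) ⊕ Fin 2) := by
    simp only [Fintype.card_sum, Fintype.card_fin]
    omega
  have hnd : (QuadraticMap.polarBilin Q).Nondegenerate := by
    rw [hQdef]
    exact minusForm_nondeg F k hab
  rw [exists_mem_iff Q h2 hnd hcard l hpw hlne (-1)]
  · -- arithmetic
    have hlen : l.length = 2 * (k + 1) := by
      rw [hl, List.length_append, length_hypVecs, List.length_finRange]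
      simp
      ring
    have hprod : (l.map (fun v => Q v)).prod = (-1) ^ (k + 1) * (a ^ 2 - 4 * b) := by
      rw [hl, List.map_append, List.prod_append, prod_hypVecs Q hhyp, List.length_finRange]
      simp only [List.map_cons, List.map_nil, List.prod_cons, List.prod_nil, hQu₁, hQu₂]
      rw [pow_succ]
      ring
    rw [hlen, hprod, Cfsg.Agent.S2621.isSquare_mul_nonsquare _ _
      (pow_ne_zero _ (neg_ne_zero.mpr one_ne_zero)) hδ, isSquare_neg_one_pow_iff hF hodd]
    have hoddpow : Odd (q ^ (k + 1)) := hodd.pow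
    obtain ⟨r, hr⟩ := hoddpow
    constructor
    · rintro ⟨-, h⟩
      omega
    · intro h
      exact ⟨even_two_mul _, by omega⟩
  · intro v _
    rw [Matrix.neg_mulVec, Matrix.one_mulVec]
  · intro x hx
    have hx0 : x = 0 := by
      have hxl : ∀ i, x (Sum.inl i) = 0 := by
        intro i
        have hmem : ∀ j, e j + f j ∈ l ∧ e j - f j ∈ l := by
          intro j
          rw [hl]
          constructor
          · exact List.mem_append_left _ ((mem_hypVecs e f _ _).mpr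
              ⟨j, List.mem_finRange j, Or.inl rfl⟩)
          · exact List.mem_append_left _ ((mem_hypVecs e f _ _).mpr
              ⟨j, List.mem_finRange j, Or.inr rfl⟩)
        rcases i with j | j
        · have h1 := hx _ (hmem j).1
          have h3 := hx _ (hmem j).2
          rw [QuadraticMap.polar_add_left, hperp_e, hperp_f] at h1
          rw [QuadraticMap.polar_sub_left, hperp_e, hperp_f] at h3
          have : (2 : F) * x (Sum.inl (Sum.inl j)) = 0 := by linear_combination h1 - h3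
          exact (mul_eq_zero.mp this).resolve_left h2
        · have h1 := hx _ (hmem j).1
          have h3 := hx _ (hmem j).2
          rw [QuadraticMap.polar_add_left, hperp_e, hperp_f] at h1
          rw [QuadraticMap.polar_sub_left, hperp_e, hperp_f] at h3
          have : (2 : F) * x (Sum.inl (Sum.inr j)) = 0 := by linear_combination h1 + h3
          exact (mul_eq_zero.mp this).resolve_left h2
      have h1 := hx u₁ (by rw [hl]; simp)
      have h3 := hx u₂ (by rw [hl]; simp)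
      rw [hpolar] at h1 h3
      simp only [hu₁l, hu₂l, hu₁0, hu₁1, hu₂0, hu₂1, hxl] at h1 h3
      simp at h1 h3
      have hx1 : x (Sum.inr 1) = 0 := by
        have : (4 * b - a ^ 2) * x (Sum.inr 1) = 0 := by linear_combination h3
        exact (mul_eq_zero.mp this).resolve_left hδ0
      have hx0' : x (Sum.inr 0) = 0 := by
        rw [hx1] at h1
        have : (2 : F) * x (Sum.inr 0) = 0 := by linear_combination h1
        exact (mul_eq_zero.mp this).resolve_left h2
      funext i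
      rcases i with i | i
      · exact hxl i
      · fin_cases i
        · exact hx0'
        · exact hx1
    rw [hx0, Matrix.mulVec_zero]

/-- −1 ∈ Ω⁻_2m(q) iff q^m ≡ −1 (mod 4), for q odd and m ≥ 1; for the minus-type form quadFormMinus (m−1) with anisotropic binary part. -/
theorem result {F : Type*} [Field F] [Fintype F] {q : ℕ} (hF : Fintype.card F = q) (hodd : Odd q) (m : ℕ) (hm : 1 ≤ m) (a b : F) (hab : ∀ z₁ z₂ : F, z₁ ^ 2 + a * z₁ * z₂ + b * z₂ ^ 2 = 0 → z₁ = 0 ∧ z₂ = 0) : (∃ g : ↥(Cfsg.isometryGroup F (Cfsg.quadFormMinus (m - 1) F a b)), g ∈ Cfsg.Omega F (Cfsg.quadFormMinus (m - 1) F a b) ∧ ((g : Matrix.GeneralLinearGroup ((Fin (m - 1) ⊕ Fin (m - 1)) ⊕ Fin 2) F) : Matrix ((Fin (m - 1) ⊕ Fin (m - 1)) ⊕ Fin 2) ((Fin (m - 1) ⊕ Fin (m - 1)) ⊕ Fin 2) F) = -1) ↔ q ^ m % 4 = 3 := by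
  obtain ⟨k, rfl⟩ : ∃ k, m = k + 1 := ⟨m - 1, by omega⟩
  have hQeq : Cfsg.quadFormMinus (k + 1 - 1) F a b = ⇑(minusForm F k a b) :=
    funext (fun v => (minusForm_apply F k a b v).symm)
  have := aux hF hodd k a b hab
  rw [← hQeq] at this
  exact this

end Cfsg.Agent.S0791
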