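import Mathlib
import Cfsg.Statements.S2726
import Cfsg.Agent.Helper8.AutImagePsi
import Cfsg.Agent.Helper8.StdForms
import Cfsg.Agent.Helper8.OmegaStd
import Cfsg.Agent.Helper8.OmegaStd2

set_option autoImplicit false
open Cfsg

namespace Cfsg.Agent.S2726

open Module Cfsg.Agent.Helper8.StdForms Cfsg.Agent.Helper8.OmegaStd Cfsg.Agent.Helper8.OmegaStd2
  Cfsg.Agent.Helper8.AutImagePsi Cfsg.Agent.Helper8.AutImageOrth Cfsg.Agent.Helper8.OmegaDiag
  Cfsg.Agent.Helper8.QuadForm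
open scoped Matrix

/-- an anisotropic binary form over a finite field is universal. -/
theorem exists_binary_eq {F : Type*} [Field F] [Finite F] {a b : F}
    (hab : ∀ z₁ z₂ : F, z₁ ^ 2 + a * z₁ * z₂ + b * z₂ ^ 2 = 0 → z₁ = 0 ∧ z₂ = 0) (c : F) :
    ∃ z₁ z₂ : F, z₁ ^ 2 + a * z₁ * z₂ + b * z₂ ^ 2 = c := by
  let N : QuadraticForm F (F × F) :=
    QuadraticMap.linMulLin (LinearMap.fst F F F) (LinearMap.fst F F F)
      + a • QuadraticMap.linMulLin (LinearMap.fst F F F) (LinearMap.snd F F F)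
      + b • QuadraticMap.linMulLin (LinearMap.snd F F F) (LinearMap.snd F F F)
  have hN : ∀ x y : F, N (x, y) = x ^ 2 + a * x * y + b * y ^ 2 := by
    intro x y
    show x * x + a • (x * y) + b • (y * y) = _
    rw [smul_eq_mul, smul_eq_mul]
    ring
  rcases exists_repr_or_singular N (by rw [Module.finrank_prod, Module.finrank_self]) c with
    ⟨⟨x, y⟩, h⟩ | ⟨⟨x, y⟩, h0, h⟩
  · exact ⟨x, y, by rw [← hN]; exact h⟩
  · exfalso
    rw [hN] at h
    obtain ⟨hx, hy⟩ := hab x y h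
    exact h0 (by rw [hx, hy]; rfl)

/-- a similarity of the minus-type form with prescribed multiplier. -/
theorem minus_similarity {F : Type*} [Field F] [Fintype F] (m : ℕ) {a b : F}
    (hab : ∀ z₁ z₂ : F, z₁ ^ 2 + a * z₁ * z₂ + b * z₂ ^ 2 = 0 → z₁ = 0 ∧ z₂ = 0) (e : Fˣ) :
    ∃ d : GL ((Fin m ⊕ Fin m) ⊕ Fin 2) F, ∀ v, minusForm F m a b
      ((d : Matrix ((Fin m ⊕ Fin m) ⊕ Fin 2) ((Fin m ⊕ Fin m) ⊕ Fin 2) F) *ᵥ v)
      = (e : F) * minusForm F m a b v := by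
  obtain ⟨z₁, z₂, hz⟩ := exists_binary_eq hab (e : F)
  obtain ⟨w, hw⟩ : ∃ w : Fin m ⊕ Fin m → F, w = Sum.elim (fun _ => (e : F)) (fun _ => 1) := ⟨_, rfl⟩
  obtain ⟨M, hM⟩ : ∃ M : Matrix ((Fin m ⊕ Fin m) ⊕ Fin 2) ((Fin m ⊕ Fin m) ⊕ Fin 2) F,
    M = Matrix.fromBlocks (Matrix.diagonal w) 0 0 !![z₁, -(b * z₂); z₂, z₁ + a * z₂] := ⟨_, rfl⟩
  have hsim : ∀ v, minusForm F m a b (M *ᵥ v) = (e : F) * minusForm F m a b v := by
    intro v
    rw [minusForm_apply, minusForm_apply]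
    unfold Cfsg.quadFormMinus
    rw [hM, Matrix.fromBlocks_mulVec]
    simp only [Sum.elim_inl, Sum.elim_inr, Matrix.zero_mulVec, add_zero, zero_add,
      Matrix.mulVec_diagonal, Function.comp_apply]
    rw [mul_add, Finset.mul_sum]
    congr 1
    · refine Finset.sum_congr rfl (fun i _ => ?_)
      rw [hw]
      simp only [Sum.elim_inl, Sum.elim_inr]
      ring
    · simp only [Matrix.mulVec, dotProduct, Fin.sum_univ_two, Matrix.cons_val_zero,
        Matrix.cons_val_one, Matrix.of_apply, Function.comp_apply]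
      rw [← hz]
      ring
  have hdet : M.det ≠ 0 := by
    have h := det_sq (minusForm F m a b) (minusForm_nondeg F m hab) M (e : F) hsim
    intro h0
    rw [h0] at h
    exact pow_ne_zero _ (Units.ne_zero e) (by rw [← h]; ring)
  exact ⟨Matrix.GeneralLinearGroup.mkOfDetNeZero M hdet, hsim⟩

/-- the minus-type form takes a nonzero value. -/
theorem minus_ne {F : Type*} [Field F] {m : ℕ} (hm : 1 ≤ m) (a b : F) :
    ∃ v, minusForm F m a b v ≠ 0 := by
  refine ⟨(Pi.single (Sum.inl (Sum.inl ⟨0, hm⟩)) 1 : (Fin m ⊕ Fin m) ⊕ Fin 2 → F)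
    + Pi.single (Sum.inl (Sum.inr ⟨0, hm⟩)) 1, ?_⟩
  rw [Q_add_of_isHyp (minusForm F m a b) (minus_isHyp F m a b) ⟨0, hm⟩]
  exact one_ne_zero

/-- Let T = PΩ⁻_{2m+2}(F) with m ≥ 3 and |F| = q odd (form with anisotropic binary part). Inside Aut(T), the image G̃ of the conformal orthogonal group of the form modulo the image of the special orthogonal group is elementary abelian of order 4. -/
theorem result {F : Type*} [Field F] [Fintype F] (hodd : Odd (Fintype.card F)) {m : ℕ} (hm : 3 ≤ m) (a b : F) (hab : (∀ z₁ z₂ : F, z₁ ^ 2 + a * z₁ * z₂ + b * z₂ ^ 2 = 0 → z₁ = 0 ∧ z₂ = 0)) :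
    (∃ φ : ↥(Cfsg.pgoAut F (Cfsg.quadFormMinus m F a b)) →* Multiplicative (ZMod 2 × ZMod 2), Function.Surjective φ ∧ φ.ker = (Cfsg.psoAut F (Cfsg.quadFormMinus m F a b)).subgroupOf (Cfsg.pgoAut F (Cfsg.quadFormMinus m F a b))) := by
  classical
  have hQeq : Cfsg.quadFormMinus m F a b = ⇑(minusForm F m a b) :=
    funext (fun v => (minusForm_apply F m a b v).symm)
  rw [hQeq]
  have h2 : (2 : F) ≠ 0 := two_ne_zero_of_odd hodd
  have hcard : Fintype.card ((Fin m ⊕ Fin m) ⊕ Fin 2) = 2 * (m + 1) := by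
    rw [Fintype.card_sum, Fintype.card_sum, Fintype.card_fin, Fintype.card_fin]; ring
  have hne : ∃ v, minusForm F m a b v ≠ 0 := minus_ne (by omega) a b
  refine exists_klein_hom (minusForm F m a b) h2 (minusForm_nondeg F m hab) (by rw [hcard]; omega)
    hne (m + 1) hcard ?_
  obtain ⟨e, he⟩ := Cfsg.Agent.Helper8.OmegaOdd.exists_nonsquare (F := F) h2
  have he0 : e ≠ 0 := by
    rintro rfl
    exact he ⟨0, (mul_zero 0).symm⟩
  obtain ⟨d, hd⟩ := minus_similarity m hab (Units.mk0 e he0)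
  refine ⟨⟨d, ⟨Units.mk0 e he0, hd⟩⟩, ?_⟩
  rw [mult_eq_of (⇑(minusForm F m a b)) hne _ hd]
  exact he

end Cfsg.Agent.S2726
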