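import Mathlib
import Cfsg.Statements.S2630
import Cfsg.Agent.Helper8.EvenRefl
import Cfsg.Agent.S2629

set_option autoImplicit false
open Cfsg

namespace Cfsg.Agent.S2630

open Module Cfsg.Agent.Helper8.StdForms Cfsg.Agent.Helper8.MaxSingular
  Cfsg.Agent.Helper8.Reflections Cfsg.Agent.Helper8.ReflMatrix Cfsg.Agent.Helper8.OrthOrder
  Cfsg.Agent.Helper8.OmegaEven Cfsg.Agent.Helper8.EvenRefl

/-- For the hyperbolic form Σ x_i y_i on F^(2m) over a finite field of characteristic two (m ≥ 1, excluding m = 2 over the field of two elements), an isometry g preserves the class of the maximal totally singular subspace U₀ = {y = 0} (m − dim(U₀ ∩ gU₀) even) if and only if g lies in Ω (the commutator subgroup of the orthogonal group): the stabiliser of each class is Ω. -/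
theorem result {F : Type*} [Field F] [Fintype F] [CharP F 2] {m : ℕ} (hm : 1 ≤ m) (h : Fintype.card F ≠ 2 ∨ m ≠ 2) (g : ↥(Cfsg.isometryGroup F (Cfsg.quadFormPlus m F))) : Even (m - Module.finrank F ↥(LinearMap.ker (LinearMap.funLeft F F (Sum.inr : Fin m → Fin m ⊕ Fin m)) ⊓ (LinearMap.ker (LinearMap.funLeft F F (Sum.inr : Fin m → Fin m ⊕ Fin m))).map (Matrix.mulVecLin ((g : Matrix.GeneralLinearGroup (Fin m ⊕ Fin m) F) : Matrix (Fin m ⊕ Fin m) (Fin m ⊕ Fin m) F)))) ↔ g ∈ Cfsg.Omega F (Cfsg.quadFormPlus m F) := by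
  classical
  have h2 : (2 : F) = 0 := by
    have := CharP.cast_eq_zero F 2
    exact_mod_cast this
  have hQeq : Cfsg.quadFormPlus m F = ⇑(plusForm F m) :=
    funext (fun v => (plusForm_apply F m v).symm)
  revert g
  rw [hQeq]
  intro g
  have hcard : Fintype.card (Fin m ⊕ Fin m) = m + m := by
    rw [Fintype.card_sum, Fintype.card_fin]
  have hn : 2 ≤ Fintype.card (Fin m ⊕ Fin m) := by rw [hcard]; omega
  have hex : Fintype.card F ≠ 2 ∨ Fintype.card (Fin m ⊕ Fin m) ≠ 4 := by
    rcases h with h | h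
    · exact Or.inl h
    · right; rw [hcard]; omega
  have hmem := (commutator_eq (plusForm F m) h2 (plusForm_nondeg F m) hn hex).2 g
  obtain ⟨l, hl, rfl⟩ := exists_list_reflElt_all (plusForm F m) (plusForm_nondeg F m) hex g
  show _ ↔ _ ∈ commutator _
  rw [hmem, dicksonMat_prod_reflElt _ h2 _ l hl, Cfsg.Agent.S2629.mulVecLin_prod_reflElt]
  have hne : (-1 : ℤˣ) ≠ 1 := by decide
  rw [neg_one_pow_eq_one_iff_even hne]
  have := parity_prod_refl (plusForm_nondeg F m) (finrank_plus F m) l hl _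
    (Cfsg.Agent.S0831.isMTS_inr (F := F) m)
  rw [Nat.even_iff, Nat.even_iff, this]

end Cfsg.Agent.S2630
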