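import Mathlib
import Cfsg.Statements.S2722
import Cfsg.Agent.Helper8.AutImagePsi
import Cfsg.Agent.Helper8.StdForms
import Cfsg.Agent.Helper8.OmegaStd

set_option autoImplicit false
open Cfsg

namespace Cfsg.Agent.S2722

open Module Cfsg.Agent.Helper8.StdForms Cfsg.Agent.Helper8.OmegaStd
  Cfsg.Agent.Helper8.AutImagePsi Cfsg.Agent.Helper8.AutImageOrth Cfsg.Agent.Helper8.OmegaDiag
open scoped Matrix

/-- the plus-type form takes a nonzero value. -/
theorem plus_ne {F : Type*} [Field F] {m : ℕ} (hm : 1 ≤ m) : ∃ v, plusForm F m v ≠ 0 := by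
  refine ⟨(Pi.single (Sum.inl ⟨0, hm⟩) 1 : Fin m ⊕ Fin m → F) + Pi.single (Sum.inr ⟨0, hm⟩) 1, ?_⟩
  rw [Q_add_of_isHyp (plusForm F m) (plus_isHyp F m) ⟨0, hm⟩]
  exact one_ne_zero

/-- a similarity of the plus-type form with prescribed multiplier. -/
theorem plus_similarity {F : Type*} [Field F] (m : ℕ) (e : Fˣ) :
    ∃ d : GL (Fin m ⊕ Fin m) F, ∀ v, plusForm F m ((d : Matrix (Fin m ⊕ Fin m) (Fin m ⊕ Fin m) F) *ᵥ v)
      = (e : F) * plusForm F m v := by
  obtain ⟨w, hw⟩ : ∃ w : Fin m ⊕ Fin m → F, w = Sum.elim (fun _ => (e : F)) (fun _ => 1) := ⟨_, rfl⟩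
  have hdet : (Matrix.diagonal w).det ≠ 0 := by
    rw [Matrix.det_diagonal, Finset.prod_ne_zero_iff]
    intro i _
    rw [hw]
    rcases i with i | i
    · exact Units.ne_zero e
    · exact one_ne_zero
  refine ⟨Matrix.GeneralLinearGroup.mkOfDetNeZero (Matrix.diagonal w) hdet, fun v => ?_⟩
  show plusForm F m (Matrix.diagonal w *ᵥ v) = _
  rw [plusForm_apply, plusForm_apply]
  unfold Cfsg.quadFormPlus
  rw [Finset.mul_sum]
  refine Finset.sum_congr rfl (fun i _ => ?_)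
  rw [Matrix.mulVec_diagonal, Matrix.mulVec_diagonal, hw]
  simp only [Sum.elim_inl, Sum.elim_inr]
  ring

/-- Let T = PΩ⁺_{2m}(F) with m ≥ 4 and |F| = q odd. Inside Aut(T), the image G̃ of the conformal orthogonal group of the form modulo the image of the special orthogonal group is elementary abelian of order 4. -/
theorem result {F : Type*} [Field F] [Fintype F] (hodd : Odd (Fintype.card F)) {m : ℕ} (hm : 4 ≤ m) :
    (∃ φ : ↥(Cfsg.pgoAut F (Cfsg.quadFormPlus m F)) →* Multiplicative (ZMod 2 × ZMod 2), Function.Surjective φ ∧ φ.ker = (Cfsg.psoAut F (Cfsg.quadFormPlus m F)).subgroupOf (Cfsg.pgoAut F (Cfsg.quadFormPlus m F))) := by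
  classical
  have hQeq : Cfsg.quadFormPlus m F = ⇑(plusForm F m) :=
    funext (fun v => (plusForm_apply F m v).symm)
  rw [hQeq]
  have h2 : (2 : F) ≠ 0 := two_ne_zero_of_odd hodd
  have hcard : Fintype.card (Fin m ⊕ Fin m) = 2 * m := by
    rw [Fintype.card_sum, Fintype.card_fin]; ring
  have hne : ∃ v, plusForm F m v ≠ 0 := plus_ne (by omega)
  refine exists_klein_hom (plusForm F m) h2 (plusForm_nondeg F m) (by rw [hcard]; omega) hne m
    hcard ?_
  obtain ⟨e, he⟩ := Cfsg.Agent.Helper8.OmegaOdd.exists_nonsquare (F := F) h2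
  have he0 : e ≠ 0 := by
    rintro rfl
    exact he ⟨0, (mul_zero 0).symm⟩
  obtain ⟨d, hd⟩ := plus_similarity m (Units.mk0 e he0)
  refine ⟨⟨d, ⟨Units.mk0 e he0, hd⟩⟩, ?_⟩
  rw [mult_eq_of (⇑(plusForm F m)) hne _ hd]
  exact he

end Cfsg.Agent.S2722
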