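import Mathlib
import Cfsg.Statements.S2611
import Cfsg.Agent.Helper8.GLOmega2
import Cfsg.Agent.Helper8.ReflGen
import Cfsg.Agent.S0831
import Cfsg.Agent.S2630

set_option autoImplicit false
open Cfsg

namespace Cfsg.Agent.S2611

open Matrix Module Cfsg.Agent.Helper8.QuadForm Cfsg.Agent.Helper8.OrthOrder
  Cfsg.Agent.Helper8.Reflections Cfsg.Agent.Helper8.ReflMatrix Cfsg.Agent.Helper8.OmegaOdd
  Cfsg.Agent.Helper8.Adjust Cfsg.Agent.Helper8.StdForms Cfsg.Agent.Helper8.GLOmega
  Cfsg.Agent.Helper8.ReflGen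

/-- For the hyperbolic quadratic form Σ x_i y_i on F^(2m) (F finite, m ≥ 1, excluding m = 2 over the field of two elements) and an invertible m × m matrix A, the block-diagonal isometry diag(A, (A⁻¹)ᵀ), which stabilises the two maximal totally singular subspaces x = 0 and y = 0, lies in Ω⁺_2m(F) (the commutator subgroup of the orthogonal group) if and only if det A is a square in F. -/
theorem result {F : Type*} [Field F] [Fintype F] {m : ℕ} (hm : 1 ≤ m) (h : Fintype.card F ≠ 2 ∨ m ≠ 2) (A : GL (Fin m) F) : (∃ g : ↥(Cfsg.isometryGroup F (Cfsg.quadFormPlus m F)), g ∈ Cfsg.Omega F (Cfsg.quadFormPlus m F) ∧ ((g : Matrix.GeneralLinearGroup (Fin m ⊕ Fin m) F) : Matrix (Fin m ⊕ Fin m) (Fin m ⊕ Fin m) F) = Matrix.fromBlocks (A : Matrix (Fin m) (Fin m) F) 0 0 ((A : Matrix (Fin m) (Fin m) F)⁻¹).transpose) ↔ IsSquare (A : Matrix (Fin m) (Fin m) F).det := by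
  classical
  have hQeq : Cfsg.quadFormPlus m F = ⇑(plusForm F m) :=
    funext (fun v => (plusForm_apply F m v).symm)
  rw [hQeq]
  have hcard : Fintype.card (Fin m ⊕ Fin m) = m + m := by
    rw [Fintype.card_sum, Fintype.card_fin]
  have hn2 : 2 ≤ Fintype.card (Fin m ⊕ Fin m) := by rw [hcard]; omega
  have hQ := plusForm_nondeg F m
  have hL : (∃ g : ↥(Cfsg.isometryGroup F ⇑(plusForm F m)),
      g ∈ Cfsg.Omega F ⇑(plusForm F m) ∧
      ((g : Matrix.GeneralLinearGroup (Fin m ⊕ Fin m) F) :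
        Matrix (Fin m ⊕ Fin m) (Fin m ⊕ Fin m) F)
        = Matrix.fromBlocks (A : Matrix (Fin m) (Fin m) F) 0 0
          ((A : Matrix (Fin m) (Fin m) F)⁻¹).transpose) ↔
      phi A ∈ commutator ↥(Cfsg.isometryGroup F ⇑(plusForm F m)) := by
    constructor
    · rintro ⟨g, hg, hmat⟩
      have : g = phi A := Subtype.ext (Units.ext (hmat.trans (phi_val A).symm))
      rw [← this]
      exact hg
    · intro hg
      exact ⟨phi A, hg, phi_val A⟩
  rw [hL]
  by_cases h2 : (2 : F) = 0
  · -- characteristic two: everything is a square and `phi A` fixes `{y = 0}`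
    have hsq : IsSquare (A : Matrix (Fin m) (Fin m) F).det := by
      obtain ⟨b, hb⟩ := exists_sqrt_of_char_two h2 (A : Matrix (Fin m) (Fin m) F).det
      exact ⟨b, hb.symm⟩
    refine ⟨fun _ => hsq, fun _ => ?_⟩
    haveI : CharP F 2 := CharTwo.of_one_ne_zero_of_two_eq_zero one_ne_zero h2
    have key := Cfsg.Agent.S2630.result (F := F) hm h
    rw [hQeq] at key
    apply (key (phi A)).mp
    have hstab : act (plusForm F m) (phi A)
        (LinearMap.ker (LinearMap.funLeft F F (Sum.inr : Fin m → Fin m ⊕ Fin m)))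
        = LinearMap.ker (LinearMap.funLeft F F (Sum.inr : Fin m → Fin m ⊕ Fin m)) := by
      apply act_eq_of_le
      intro u hu
      rw [LinearMap.mem_ker] at hu ⊢
      have hu' : u ∘ Sum.inr = 0 := hu
      rw [phi_apply, hu', Matrix.mulVec_zero]
      rfl
    have hstab' : (LinearMap.ker (LinearMap.funLeft F F (Sum.inr : Fin m → Fin m ⊕ Fin m))).map
        (Matrix.mulVecLin ((phi A : Matrix.GeneralLinearGroup (Fin m ⊕ Fin m) F) :
          Matrix (Fin m ⊕ Fin m) (Fin m ⊕ Fin m) F))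
        = LinearMap.ker (LinearMap.funLeft F F (Sum.inr : Fin m → Fin m ⊕ Fin m)) := hstab
    rw [hstab', inf_idem, (Cfsg.Agent.S0831.isMTS_inr (F := F) m).1, Nat.sub_self]
    exact Even.zero
  · obtain ⟨e, he⟩ := exists_nonsquare (F := F) h2
    have he0 : e ≠ 0 := by
      rintro rfl
      exact he IsSquare.zero
    rw [(Cfsg.Agent.Helper8.OmegaOdd.commutator_eq (plusForm F m) h2 hQ hn2 he).2]
    have h1 := DFunLike.congr_fun (chi_phi (F := F) (m := m) h2 one_ne_zero) A
    have h3 := DFunLike.congr_fun (chi_phi (F := F) (m := m) h2 he0) A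
    rw [MonoidHom.comp_apply, MonoidHom.comp_apply] at h1 h3
    rw [h1, h3, and_self, sgn_eq_one_iff]
    rfl

end Cfsg.Agent.S2611
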