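import Mathlib
import Cfsg.Statements.S2728
import Cfsg.Agent.Helper8.AutImageD8
import Cfsg.Agent.Helper8.StdForms
import Cfsg.Agent.Helper8.OmegaStd
import Cfsg.Agent.S0791
import Cfsg.Agent.S2726

set_option autoImplicit false
open Cfsg

namespace Cfsg.Agent.S2728

open Module Cfsg.Agent.Helper8.StdForms Cfsg.Agent.Helper8.OmegaStd
  Cfsg.Agent.Helper8.AutImagePsi Cfsg.Agent.Helper8.AutImageD8

/-- Let T = PΩ⁻_{2m+2}(F) with m ≥ 3 and |F| = q odd (form with anisotropic binary part). The image G̃ of the conformal orthogonal group in Aut(T), taken modulo the inner automorphism group T, is dihedral of order 8 when m is even and q ≡ 3 (mod 4), and elementary abelian of order 4 otherwise. -/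
theorem result {F : Type*} [Field F] [Fintype F] (hodd : Odd (Fintype.card F)) {m : ℕ} (hm : 3 ≤ m) (a b : F) (hab : (∀ z₁ z₂ : F, z₁ ^ 2 + a * z₁ * z₂ + b * z₂ ^ 2 = 0 → z₁ = 0 ∧ z₂ = 0)) :
    ((Even m ∧ Fintype.card F % 4 = 3) → (∃ φ : ↥(Cfsg.pgoAut F (Cfsg.quadFormMinus m F a b)) →* DihedralGroup 4, Function.Surjective φ ∧ φ.ker = (Cfsg.Inn (Cfsg.POmega F (Cfsg.quadFormMinus m F a b))).subgroupOf (Cfsg.pgoAut F (Cfsg.quadFormMinus m F a b)))) ∧ (¬ (Even m ∧ Fintype.card F % 4 = 3) → (∃ φ : ↥(Cfsg.pgoAut F (Cfsg.quadFormMinus m F a b)) →* Multiplicative (ZMod 2 × ZMod 2), Function.Surjective φ ∧ φ.ker = (Cfsg.Inn (Cfsg.POmega F (Cfsg.quadFormMinus m F a b))).subgroupOf (Cfsg.pgoAut F (Cfsg.quadFormMinus m F a b)))) := by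
  classical
  have hiff := Cfsg.Agent.S0791.result (F := F) rfl hodd (m + 1) (by omega) a b hab
  rw [Nat.add_sub_cancel] at hiff
  have hQeq : Cfsg.quadFormMinus m F a b = ⇑(minusForm F m a b) :=
    funext (fun v => (minusForm_apply F m a b v).symm)
  rw [hQeq] at hiff ⊢
  have h2 : (2 : F) ≠ 0 := two_ne_zero_of_odd hodd
  have hcard : Fintype.card ((Fin m ⊕ Fin m) ⊕ Fin 2) = 2 * (m + 1) := by
    rw [Fintype.card_sum, Fintype.card_sum, Fintype.card_fin, Fintype.card_fin]; ring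
  have hne : ∃ v, minusForm F m a b v ≠ 0 := Cfsg.Agent.S2726.minus_ne (by omega) a b
  have hd : ∃ d : ↥(Geo.quadSimilarityGroup (F := F) ⇑(minusForm F m a b)),
      ¬ IsSquare ((mult ⇑(minusForm F m a b) hne d : Fˣ) : F) := by
    obtain ⟨e, he⟩ := Cfsg.Agent.Helper8.OmegaOdd.exists_nonsquare (F := F) h2
    have he0 : e ≠ 0 := by
      rintro rfl
      exact he ⟨0, (mul_zero 0).symm⟩
    obtain ⟨d, hd⟩ := Cfsg.Agent.S2726.minus_similarity m hab (Units.mk0 e he0)
    refine ⟨⟨d, ⟨Units.mk0 e he0, hd⟩⟩, ?_⟩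
    rw [mult_eq_of (⇑(minusForm F m a b)) hne _ hd]
    exact he
  have hpm := pow_mod_four (Fintype.card F) (m + 1) hodd
  have hqodd : Odd (Fintype.card F ^ (m + 1)) := hodd.pow
  have h13 : Fintype.card F ^ (m + 1) % 4 = 3 ↔ ¬ (Fintype.card F ^ (m + 1) % 4 = 1) := by
    obtain ⟨r, hr⟩ := hqodd
    omega
  constructor
  · rintro ⟨hme, hq3⟩
    apply exists_dihedral_hom (minusForm F m a b) h2 (minusForm_nondeg F m hab)
      (by rw [hcard]; omega) hne (m + 1) hcard hd
    rw [hiff, h13, hpm]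
    rintro (h | h)
    · exact (Nat.not_even_iff_odd.mpr hme.add_one) h
    · exact h hq3
  · intro hno
    apply exists_klein_hom_Inn (minusForm F m a b) h2 (minusForm_nondeg F m hab)
      (by rw [hcard]; omega) hne (m + 1) hcard hd
    rw [hiff, h13, hpm, not_not]
    by_contra hcon
    push Not at hcon
    apply hno
    refine ⟨?_, hcon.2⟩
    have : Odd (m + 1) := Nat.not_even_iff_odd.mp hcon.1
    obtain ⟨r, hr⟩ := this
    exact ⟨r, by omega⟩

end Cfsg.Agent.S2728
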