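import Mathlib
import Cfsg.Statements.S2613
import Cfsg.Agent.Helper8.OmegaStd

set_option autoImplicit false
open Cfsg

namespace Cfsg.Agent.S2613

open Cfsg.Agent.Helper8.OmegaDiag Cfsg.Agent.Helper8.OmegaStd Cfsg.Agent.Helper8.StdForms

/-- For the hyperbolic form Σ x_j y_j on F^(2m), F finite with q elements, q odd, and 1 ≤ i ≤ m: the involution negating the first i hyperbolic pairs (x_j, y_j ↦ −x_j, −y_j for j < i) and fixing the rest lies in Ω⁺_2m(q) (commutator subgroup of the orthogonal group) if and only if q^i ≡ 1 (mod 4); its (−1)-eigenspace is a hyperbolic 2i-space. -/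
theorem result {F : Type*} [Field F] [Fintype F] {q : ℕ} (hF : Fintype.card F = q) (hq : Odd q) {m : ℕ} (i : ℕ) (hi : 1 ≤ i) (him : i ≤ m) : (∃ g : ↥(Cfsg.isometryGroup F (Cfsg.quadFormPlus m F)), g ∈ Cfsg.Omega F (Cfsg.quadFormPlus m F) ∧ ((g : Matrix.GeneralLinearGroup (Fin m ⊕ Fin m) F) : Matrix (Fin m ⊕ Fin m) (Fin m ⊕ Fin m) F) = Matrix.diagonal (fun k : Fin m ⊕ Fin m => if (Sum.elim (fun j : Fin m => (j : ℕ)) (fun j : Fin m => (j : ℕ)) k) < i then (-1 : F) else 1)) ↔ q ^ i % 4 = 1 := by
  classical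
  have hQeq : Cfsg.quadFormPlus m F = ⇑(plusForm F m) :=
    funext (fun v => (plusForm_apply F m v).symm)
  rw [hQeq]
  have h2 : (2 : F) ≠ 0 := two_ne_zero_of_odd (by rw [hF]; exact hq)
  rw [← isSquare_neg_one_pow_iff hF hq i]
  have hlen := length_firstIdx i him
  suffices key : _ ↔ IsSquare ((-1 : F) ^ (firstIdx i him).length) by
    rw [hlen] at key
    exact key
  refine hyp_negation_mem_iff (plusForm F m) h2 (plusForm_nondeg F m)
    (by simp only [Fintype.card_sum, Fintype.card_fin]; omega) (plus_isHyp F m) (firstIdx i him)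
    (firstIdx_nodup i him) _ ?_ ?_ ?_
  · intro j hj
    rw [mem_firstIdx] at hj
    funext k
    rw [Matrix.mulVec_diagonal, Pi.neg_apply, Pi.single_apply]
    by_cases hk : k = Sum.inl j
    · subst hk
      simp [hj]
    · simp [hk]
  · intro j hj
    rw [mem_firstIdx] at hj
    funext k
    rw [Matrix.mulVec_diagonal, Pi.neg_apply, Pi.single_apply]
    by_cases hk : k = Sum.inr j
    · subst hk
      simp [hj]
    · simp [hk]
  · intro x hx
    funext k
    rw [Matrix.mulVec_diagonal]
    rcases k with k | k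
    · by_cases hk : (k : ℕ) < i
      · have := (hx k ((mem_firstIdx i him k).mpr hk)).2
        rw [plus_polar_f] at this
        simp [this]
      · simp [hk]
    · by_cases hk : (k : ℕ) < i
      · have := (hx k ((mem_firstIdx i him k).mpr hk)).1
        rw [plus_polar_e] at this
        simp [this]
      · simp [hk]

end Cfsg.Agent.S2613
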