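import Mathlib
import Cfsg.Statements.S2724
import Cfsg.Agent.Helper8.AutImageD8
import Cfsg.Agent.Helper8.StdForms
import Cfsg.Agent.Helper8.OmegaStd
import Cfsg.Agent.S0790
import Cfsg.Agent.S2722

set_option autoImplicit false
open Cfsg

namespace Cfsg.Agent.S2724

open Module Cfsg.Agent.Helper8.StdForms Cfsg.Agent.Helper8.OmegaStd
  Cfsg.Agent.Helper8.AutImagePsi Cfsg.Agent.Helper8.AutImageD8

/-- Let T = PΩ⁺_{2m}(F) with m ≥ 4 and |F| = q odd. The image G̃ of the conformal orthogonal group in Aut(T), taken modulo the inner automorphism group T, is elementary abelian of order 4 when m is odd and q ≡ 3 (mod 4), and dihedral of order 8 otherwise. -/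
theorem result {F : Type*} [Field F] [Fintype F] (hodd : Odd (Fintype.card F)) {m : ℕ} (hm : 4 ≤ m) :
    ((Odd m ∧ Fintype.card F % 4 = 3) → (∃ φ : ↥(Cfsg.pgoAut F (Cfsg.quadFormPlus m F)) →* Multiplicative (ZMod 2 × ZMod 2), Function.Surjective φ ∧ φ.ker = (Cfsg.Inn (Cfsg.POmega F (Cfsg.quadFormPlus m F))).subgroupOf (Cfsg.pgoAut F (Cfsg.quadFormPlus m F)))) ∧ (¬ (Odd m ∧ Fintype.card F % 4 = 3) → (∃ φ : ↥(Cfsg.pgoAut F (Cfsg.quadFormPlus m F)) →* DihedralGroup 4, Function.Surjective φ ∧ φ.ker = (Cfsg.Inn (Cfsg.POmega F (Cfsg.quadFormPlus m F))).subgroupOf (Cfsg.pgoAut F (Cfsg.quadFormPlus m F)))) := by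
  classical
  have hiff := Cfsg.Agent.S0790.result (F := F) rfl hodd m (by omega)
  have hQeq : Cfsg.quadFormPlus m F = ⇑(plusForm F m) :=
    funext (fun v => (plusForm_apply F m v).symm)
  rw [hQeq] at hiff ⊢
  have h2 : (2 : F) ≠ 0 := two_ne_zero_of_odd hodd
  have hcard : Fintype.card (Fin m ⊕ Fin m) = 2 * m := by
    rw [Fintype.card_sum, Fintype.card_fin]; ring
  have hne : ∃ v, plusForm F m v ≠ 0 := Cfsg.Agent.S2722.plus_ne (by omega)
  have hd : ∃ d : ↥(Geo.quadSimilarityGroup (F := F) ⇑(plusForm F m)),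
      ¬ IsSquare ((mult ⇑(plusForm F m) hne d : Fˣ) : F) := by
    obtain ⟨e, he⟩ := Cfsg.Agent.Helper8.OmegaOdd.exists_nonsquare (F := F) h2
    have he0 : e ≠ 0 := by
      rintro rfl
      exact he ⟨0, (mul_zero 0).symm⟩
    obtain ⟨d, hd⟩ := Cfsg.Agent.S2722.plus_similarity m (Units.mk0 e he0)
    refine ⟨⟨d, ⟨Units.mk0 e he0, hd⟩⟩, ?_⟩
    rw [mult_eq_of (⇑(plusForm F m)) hne _ hd]
    exact he
  have hpm := pow_mod_four (Fintype.card F) m hodd
  constructor
  · rintro ⟨hmo, hq3⟩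
    apply exists_klein_hom_Inn (plusForm F m) h2 (plusForm_nondeg F m) (by rw [hcard]; omega) hne m
      hcard hd
    rw [hiff, hpm]
    rintro (h | h)
    · exact (Nat.not_even_iff_odd.mpr hmo) h
    · exact h hq3
  · intro hno
    apply exists_dihedral_hom (plusForm F m) h2 (plusForm_nondeg F m) (by rw [hcard]; omega) hne m
      hcard hd
    rw [hiff, hpm]
    by_contra hcon
    push Not at hcon
    exact hno ⟨Nat.not_even_iff_odd.mp hcon.1, hcon.2⟩

end Cfsg.Agent.S2724
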