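import Mathlib
import Cfsg.Statements.S0255
import Cfsg.Agent.Helper7.SL2Sylow
import Cfsg.Agent.Helper7.LinearCard
import Cfsg.Agent.Helper7.SLTransfer
import Cfsg.Agent.Helper7.L27CheckA
import Cfsg.Agent.Helper7.L27CheckC

set_option autoImplicit false
open Cfsg

namespace Cfsg.Agent.S0255

open Matrix Cfsg.Agent.Helper7.L27 Cfsg.Agent.Helper7

/-- Seven is prime. -/
instance fact7 : Fact (Nat.Prime 7) := ⟨by norm_num⟩

/-- The special linear group of degree two over the field with seven elements. -/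
abbrev G1 := Matrix.SpecialLinearGroup (Fin 2) (ZMod 7)
/-- The special linear group of degree three over the field with two elements. -/
abbrev G2 := Matrix.SpecialLinearGroup (Fin 3) (ZMod 2)

/-- Encoding of a matrix as a tuple. -/
def enc2 (A : Matrix (Fin 2) (Fin 2) (ZMod 7)) : T2 := (A 0 0, A 0 1, A 1 0, A 1 1)

/-- Decoding of a tuple as a matrix. -/
def dec3 (t : T3) : Matrix (Fin 3) (Fin 3) (ZMod 2) := Matrix.of (e3 t)

/-- Encoding of a matrix as a tuple. -/
def enc3 (M : Matrix (Fin 3) (Fin 3) (ZMod 2)) : T3 :=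
  (M 0 0, M 0 1, M 0 2, M 1 0, M 1 1, M 1 2, M 2 0, M 2 1, M 2 2)

theorem enc3_dec3 (x : T3) : enc3 (dec3 x) = x := rfl

theorem dec3_injective : Function.Injective dec3 := fun x y h => by
  rw [← enc3_dec3 x, ← enc3_dec3 y, h]

theorem enc2_injective : Function.Injective enc2 := fun A B h => by
  have h00 : A 0 0 = B 0 0 := congrArg (fun t : T2 => t.1) h
  have h01 : A 0 1 = B 0 1 := congrArg (fun t : T2 => t.2.1) h
  have h10 : A 1 0 = B 1 0 := congrArg (fun t : T2 => t.2.2.1) h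
  have h11 : A 1 1 = B 1 1 := congrArg (fun t : T2 => t.2.2.2) h
  rw [Matrix.eta_fin_two A, Matrix.eta_fin_two B, h00, h01, h10, h11]

theorem enc2_mul (A B : Matrix (Fin 2) (Fin 2) (ZMod 7)) :
    enc2 (A * B) = mulT2 (enc2 A) (enc2 B) := by
  simp [enc2, mulT2, Matrix.mul_apply, Fin.sum_univ_two]

theorem enc2_one : enc2 1 = one2 := by
  have h00 : (1 : Matrix (Fin 2) (Fin 2) (ZMod 7)) 0 0 = 1 := Matrix.one_apply_eq 0
  have h11 : (1 : Matrix (Fin 2) (Fin 2) (ZMod 7)) 1 1 = 1 := Matrix.one_apply_eq 1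
  have h01 : (1 : Matrix (Fin 2) (Fin 2) (ZMod 7)) 0 1 = 0 := Matrix.one_apply_ne (by decide)
  have h10 : (1 : Matrix (Fin 2) (Fin 2) (ZMod 7)) 1 0 = 0 := Matrix.one_apply_ne (by decide)
  show ((1 : Matrix (Fin 2) (Fin 2) (ZMod 7)) 0 0, (1 : Matrix (Fin 2) (Fin 2) (ZMod 7)) 0 1,
    (1 : Matrix (Fin 2) (Fin 2) (ZMod 7)) 1 0, (1 : Matrix (Fin 2) (Fin 2) (ZMod 7)) 1 1) = one2
  rw [h00, h01, h10, h11]
  rfl

theorem enc2_neg_one : enc2 (-1) = negone2 := by
  have h00 : (1 : Matrix (Fin 2) (Fin 2) (ZMod 7)) 0 0 = 1 := Matrix.one_apply_eq 0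
  have h11 : (1 : Matrix (Fin 2) (Fin 2) (ZMod 7)) 1 1 = 1 := Matrix.one_apply_eq 1
  have h01 : (1 : Matrix (Fin 2) (Fin 2) (ZMod 7)) 0 1 = 0 := Matrix.one_apply_ne (by decide)
  have h10 : (1 : Matrix (Fin 2) (Fin 2) (ZMod 7)) 1 0 = 0 := Matrix.one_apply_ne (by decide)
  show ((-1 : Matrix (Fin 2) (Fin 2) (ZMod 7)) 0 0, (-1 : Matrix (Fin 2) (Fin 2) (ZMod 7)) 0 1,
    (-1 : Matrix (Fin 2) (Fin 2) (ZMod 7)) 1 0, (-1 : Matrix (Fin 2) (Fin 2) (ZMod 7)) 1 1) = negone2
  rw [Matrix.neg_apply, Matrix.neg_apply, Matrix.neg_apply, Matrix.neg_apply, h00, h01, h10, h11]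
  decide +kernel

theorem dec3_mul (x y : T3) : dec3 (mulT3 x y) = dec3 x * dec3 y := by
  ext i j
  fin_cases i <;> fin_cases j <;>
    simp [dec3, mulT3, Matrix.mul_apply, Fin.sum_univ_three] <;> rfl

theorem dec3_one : dec3 one3 = 1 := by
  ext i j
  fin_cases i <;> fin_cases j <;> rfl

theorem det_dec3 (x : T3) : (dec3 x).det = detT3 x := by
  rw [Matrix.det_fin_three]
  rfl

theorem mulT3_assoc (x y z : T3) : mulT3 (mulT3 x y) z = mulT3 x (mulT3 y z) := by
  apply dec3_injective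
  rw [dec3_mul, dec3_mul, dec3_mul, dec3_mul, mul_assoc]

theorem mulT3_one (x : T3) : mulT3 x one3 = x := by
  apply dec3_injective
  rw [dec3_mul, dec3_one, mul_one]

theorem lookup_spec (x : T2) (hx : x ∈ keys) : ∃ e ∈ tab, e.1 = x ∧ lookup x = e.2.2 := by
  unfold lookup
  cases h : tab.find? (fun e => decide (e.1 = x)) with
  | none =>
    exfalso
    rw [List.find?_eq_none] at h
    obtain ⟨e, he, rfl⟩ := List.mem_map.mp hx
    exact h e he (by simp)
  | some e =>
    refine ⟨e, List.mem_of_find?_eq_some h, ?_, rfl⟩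
    have := List.find?_some h
    simpa using this

theorem det_lookup (x : T2) (hx : x ∈ keys) : detT3 (lookup x) = 1 := by
  obtain ⟨e, he, _, h2⟩ := lookup_spec x hx
  rw [h2]; exact tab_det e he

theorem ker_lookup (x : T2) (hx : x ∈ keys) (h : lookup x = one3) : x = one2 ∨ x = negone2 := by
  obtain ⟨e, he, h1, h2⟩ := lookup_spec x hx
  rw [h2] at h
  rw [← h1]; exact tab_ker e he h

theorem hom_gen' (x : T2) (hx : x ∈ keys) : lookup (mulT2 x gA) = mulT3 (lookup x) fA ∧
    lookup (mulT2 x gB) = mulT3 (lookup x) fB := by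
  obtain ⟨e, he, h1, h2⟩ := lookup_spec x hx
  rw [h2, ← h1]; exact hom_gen e he

theorem mem_keys (g : G1) : enc2 g.1 ∈ keys := by
  apply complete
  have := g.2
  rwa [Matrix.det_fin_two] at this

/-- The first generator. -/
def a1 : G1 := ⟨!![1, 1; 0, 1], by decide +kernel⟩
/-- The second generator. -/
def b1 : G1 := ⟨!![1, 0; 1, 1], by decide +kernel⟩

theorem enc2_a1 : enc2 a1.1 = gA := rfl
theorem enc2_b1 : enc2 b1.1 = gB := rfl

theorem enc2_mul_val (g h : G1) : enc2 (g * h).1 = mulT2 (enc2 g.1) (enc2 h.1) := by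
  rw [Matrix.SpecialLinearGroup.coe_mul, enc2_mul]

/-- The multiplicativity predicate. -/
def P (y : T2) : Prop :=
  ∃ h : G1, enc2 h.1 = y ∧
    ∀ g : G1, lookup (enc2 (g * h).1) = mulT3 (lookup (enc2 g.1)) (lookup y)

theorem P_step (s : G1) (fs : T3)
    (hs : ∀ x ∈ keys, lookup (mulT2 x (enc2 s.1)) = mulT3 (lookup x) fs) (y : T2) (hy : P y) :
    P (mulT2 y (enc2 s.1)) := by
  obtain ⟨h, hhy, hh⟩ := hy
  refine ⟨h * s, by rw [enc2_mul_val, hhy], fun g => ?_⟩
  rw [← mul_assoc, enc2_mul_val, hs _ (mem_keys (g * h)), hh g, mulT3_assoc,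
    hs y (hhy ▸ mem_keys h)]

theorem P_all (h : G1) : P (enc2 h.1) := by
  have hmem : enc2 h.1 ∈ keys := mem_keys h
  obtain ⟨e, he, he2⟩ := List.mem_map.mp hmem
  have hW : (e.1, e.2.1) ∈ W := List.mem_map.mpr ⟨e, he, rfl⟩
  have := Chain.ok_induct mulT2 one2 gA gB P ?_ ?_ ?_ W W_ok _ hW
  · rw [← he2]; exact this
  · refine ⟨1, by rw [Matrix.SpecialLinearGroup.coe_one, enc2_one], fun g => ?_⟩
    rw [mul_one, lookup_one, mulT3_one]
  · intro y hy
    exact P_step a1 fA (fun x hx => (hom_gen' x hx).1) y hy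
  · intro y hy
    exact P_step b1 fB (fun x hx => (hom_gen' x hx).2) y hy

theorem lookup_mul (g h : G1) :
    lookup (enc2 (g * h).1) = mulT3 (lookup (enc2 g.1)) (lookup (enc2 h.1)) := by
  obtain ⟨h', hh', hP⟩ := P_all h
  have : h' = h := Subtype.ext (enc2_injective hh')
  rw [this] at hP
  exact hP g

/-- The homomorphism. -/
def Fhom : G1 →* G2 where
  toFun g := ⟨dec3 (lookup (enc2 g.1)), by rw [det_dec3]; exact det_lookup _ (mem_keys g)⟩
  map_one' := by
    apply Subtype.ext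
    show dec3 (lookup (enc2 (1 : G1).1)) = 1
    rw [Matrix.SpecialLinearGroup.coe_one, enc2_one, lookup_one, dec3_one]
  map_mul' g h := by
    apply Subtype.ext
    show dec3 (lookup (enc2 (g * h).1)) = dec3 (lookup (enc2 g.1)) * dec3 (lookup (enc2 h.1))
    rw [lookup_mul, dec3_mul]

theorem Fhom_eq_one_iff (g : G1) : Fhom g = 1 ↔ lookup (enc2 g.1) = one3 := by
  constructor
  · intro h
    have h1 : dec3 (lookup (enc2 g.1)) = 1 := congrArg Subtype.val h
    rw [← dec3_one] at h1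
    exact dec3_injective h1
  · intro h
    apply Subtype.ext
    show dec3 (lookup (enc2 g.1)) = 1
    rw [h, dec3_one]

theorem neg_one_mem_center (z : G1) (hz : z.1 = -1) : z ∈ Subgroup.center G1 := by
  rw [Subgroup.mem_center_iff]
  intro g
  apply Subtype.ext
  rw [Matrix.SpecialLinearGroup.coe_mul, Matrix.SpecialLinearGroup.coe_mul, hz]
  simp

theorem ker_eq : Fhom.ker = Subgroup.center G1 := by
  apply le_antisymm
  · intro g hg
    rw [MonoidHom.mem_ker, Fhom_eq_one_iff] at hg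
    rcases ker_lookup _ (mem_keys g) hg with h | h
    · have : g = 1 := by
        apply Subtype.ext
        apply enc2_injective
        rw [h, Matrix.SpecialLinearGroup.coe_one, enc2_one]
      rw [this]; exact Subgroup.one_mem _
    · apply neg_one_mem_center
      apply enc2_injective
      rw [h, enc2_neg_one]
  · intro z hz
    rw [Matrix.SpecialLinearGroup.mem_center_iff] at hz
    obtain ⟨r, hr, hz⟩ := hz
    rw [MonoidHom.mem_ker, Fhom_eq_one_iff, ← hz]
    have hr2 : (r - 1) * (r + 1) = 0 := by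
      have : r ^ 2 = 1 := by simpa using hr
      linear_combination this
    rcases mul_eq_zero.mp hr2 with h | h
    · have : r = 1 := by linear_combination h
      rw [this, map_one, enc2_one, lookup_one]
    · have : r = -1 := by linear_combination h
      rw [this, map_neg, map_one, enc2_neg_one, lookup_negone]

theorem card_G1 : Nat.card G1 = 336 := by
  show Nat.card (Matrix.SpecialLinearGroup (Fin 2) (ZMod 7)) = 336
  rw [Cfsg.Agent.Helper7.SL2.card_SL2, ZMod.card]
  norm_num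

theorem card_G2 : Nat.card G2 = 168 := by
  show Nat.card (Matrix.SpecialLinearGroup (Fin 3) (ZMod 2)) = 168
  have h := Cfsg.Agent.Helper7.card_units_mul_card_SL (n := Fin 3) (F := ZMod 2)
  rw [Matrix.card_GL_field, ZMod.card, Fin.prod_univ_three] at h
  simp only [Fin.val_zero, Fin.val_one, Fin.val_two] at h
  have e1 : (2 ^ 3 - 2 ^ 0) * (2 ^ 3 - 2 ^ 1) * (2 ^ 3 - 2 ^ 2) = 168 := by norm_num
  rw [e1] at h
  omega

theorem card_center_G1 : Nat.card (Subgroup.center G1) = 2 := by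
  show Nat.card (Subgroup.center (Matrix.SpecialLinearGroup (Fin 2) (ZMod 7))) = 2
  rw [Cfsg.Agent.Helper7.card_center_SL 2 (by norm_num), ZMod.card]
  rfl

theorem Fhom_surjective : Function.Surjective Fhom := by
  have : Finite G1 := Nat.finite_of_card_ne_zero (by rw [card_G1]; norm_num)
  have : Finite G2 := Nat.finite_of_card_ne_zero (by rw [card_G2]; norm_num)
  rw [← MonoidHom.range_eq_top]
  apply Subgroup.eq_top_of_card_eq
  have h1 := Subgroup.card_mul_index Fhom.ker
  rw [Subgroup.index_ker, ker_eq, card_center_G1, card_G1] at h1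
  rw [card_G2]
  omega

theorem center_G2 : Subgroup.center G2 = ⊥ := by
  have h : Nat.card (Subgroup.center G2) = 1 := by
    show Nat.card (Subgroup.center (Matrix.SpecialLinearGroup (Fin 3) (ZMod 2))) = 1
    rw [Cfsg.Agent.Helper7.card_center_SL 3 (by norm_num), ZMod.card]
    rfl
  exact Subgroup.eq_bot_of_card_eq _ h

theorem main : Nonempty (ProjectiveSpecialLinearGroup (Fin 2) (ZMod 7) ≃*
    ProjectiveSpecialLinearGroup (Fin 3) (ZMod 2)) := by
  have e0 : ProjectiveSpecialLinearGroup (Fin 2) (ZMod 7) ≃* G1 ⧸ Fhom.ker :=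
    QuotientGroup.quotientMulEquivOfEq ker_eq.symm
  have e1 : G1 ⧸ Fhom.ker ≃* G2 := QuotientGroup.quotientKerEquivOfSurjective Fhom Fhom_surjective
  have e2 : ProjectiveSpecialLinearGroup (Fin 3) (ZMod 2) ≃* G2 ⧸ (⊥ : Subgroup G2) :=
    QuotientGroup.quotientMulEquivOfEq center_G2
  have e3 : G2 ⧸ (⊥ : Subgroup G2) ≃* G2 := QuotientGroup.quotientBot
  exact ⟨(e0.trans e1).trans (e2.trans e3).symm⟩

/-- PSL_2(7) is isomorphic to PSL_3(2). -/
theorem result {F K : Type*} [Field F] [Fintype F] [Field K] [Fintype K] (hF : Fintype.card F = 7) (hK : Fintype.card K = 2) : Nonempty (Matrix.ProjectiveSpecialLinearGroup (Fin 2) F ≃* Matrix.ProjectiveSpecialLinearGroup (Fin 3) K) := by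
  have hp : Nat.Prime 7 := by norm_num
  have φ : F ≃+* ZMod 7 := (ZMod.ringEquivOfPrime F hp hF).symm
  have ψ : K ≃+* ZMod 2 := (ZMod.ringEquivOfPrime K Nat.prime_two hK).symm
  obtain ⟨e⟩ := main
  exact ⟨((SLTransfer.pslEquiv φ).trans e).trans (SLTransfer.pslEquiv ψ).symm⟩

end Cfsg.Agent.S0255
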