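import Cfsg.Statements.S0495
import Cfsg.Agent.Helper4.Ord168G
import Cfsg.Agent.S0255
import Cfsg.Agent.S0249
import Cfsg.Agent.S0243

set_option autoImplicit false
open Cfsg

namespace Cfsg.Agent.S0495

/-- A simple group of order 168 is isomorphic to the projective special linear group of dimension 2 over the field with
7 elements. -/
theorem result {G : Type*} [Group G] [Finite G] [IsSimpleGroup G]
    (h : Nat.card G = 168) {F : Type*} [Field F] [Fintype F] (hF : Fintype.card F = 7) :
    Nonempty (G ≃* Matrix.ProjectiveSpecialLinearGroup (Fin 2) F) := by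
  classical
  have hK : Fintype.card (ZMod 2) = 2 := ZMod.card 2
  obtain ⟨e0⟩ := Cfsg.Agent.S0255.result (F := F) (K := ZMod 2) hF hK
  haveI : IsSimpleGroup (Matrix.ProjectiveSpecialLinearGroup (Fin 3) (ZMod 2)) :=
    Cfsg.Agent.S0249.result 3 le_rfl
  haveI : IsSimpleGroup (Matrix.ProjectiveSpecialLinearGroup (Fin 2) F) := e0.isSimpleGroup
  have hcard : Nat.card (Matrix.ProjectiveSpecialLinearGroup (Fin 2) F) = 168 := by
    have h1 := Cfsg.Agent.S0243.result hF 2 le_rfl
    rw [Fin.prod_univ_two] at h1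
    generalize Nat.card (Matrix.ProjectiveSpecialLinearGroup (Fin 2) F) = c at h1 ⊢
    norm_num at h1
    omega
  haveI : Finite (Matrix.ProjectiveSpecialLinearGroup (Fin 2) F) :=
    Nat.finite_of_card_ne_zero (by rw [hcard]; norm_num)
  obtain ⟨e1⟩ := Cfsg.Agent.Helper4.Ord168.exists_equiv_H0 h
  obtain ⟨e2⟩ := Cfsg.Agent.Helper4.Ord168.exists_equiv_H0 hcard
  exact ⟨e1.trans e2.symm⟩

end Cfsg.Agent.S0495
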