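import Mathlib
import Cfsg.Statements.S0848
import Cfsg.Agent.Helper2.D8cC
import Cfsg.Agent.Helper2.D8cD
import Cfsg.Agent.Helper2.D8cE
import Cfsg.Agent.Helper2.BSuzL
import Cfsg.Agent.Helper6.KleinFourB

set_option autoImplicit false
open Cfsg

namespace Cfsg.Agent.S0848

open Cfsg.Agent.Helper2

/-- If a finite group equals its own commutator subgroup and contains an involution whose centralizer is isomorphic to the dihedral group of order 8, then the group has order 168 or 360. -/
theorem result {G : Type*} [Group G] [Finite G] (hperf : commutator G = ⊤) (t : G) (ht : orderOf t = 2) (e : Subgroup.centralizer ({t} : Set G) ≃* DihedralGroup 4) : Nat.card G = 168 ∨ Nat.card G = 360 := by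
    classical
    haveI : Fintype G := Fintype.ofFinite G
    obtain ⟨χ₁, χ₂, h1, h2, h3, h4, h5, h6, h7⟩ := Cfsg.Agent.Helper2.D8cC.d8_main hperf t ht e
    obtain ⟨k, hkodd, hk⟩ := Cfsg.Agent.Helper2.D8cA.card_eq t ht e
    have hcardD := Cfsg.Agent.Helper2.D8cA.card_cent t e
    have hidx : (Subgroup.centralizer ({t} : Set G)).index = k := by
      have := (Subgroup.centralizer ({t} : Set G)).card_mul_index
      rw [hcardD, hk] at this
      omega
    obtain ⟨d, hd2, -, hdpos⟩ := Cfsg.Agent.Helper6.IsIrrCharacter.degree_dvd_card h2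
    obtain ⟨c, hc⟩ := Cfsg.Agent.Helper6.char_involution_int
      (Cfsg.Agent.Helper6.IsIrrCharacter.isCharacter h2) t ht
    have hd1 : χ₁ 1 = (d : ℂ) + 1 := by rw [h5, hd2]
    have hc1 : χ₁ t = ((c - 3 : ℤ) : ℂ) := by rw [h6, hc]; push_cast; ring
    -- the bound from column orthogonality
    have h12 : χ₁ ≠ χ₂ := by
      intro h
      rw [h] at h5
      have : (0 : ℂ) = 1 := by linear_combination h5
      exact zero_ne_one this
    have hbound := Cfsg.Agent.Helper2.D8cE.col_bound t χ₁ χ₂ h1 h2 h3 h4 h12 (c - 3) c hc1 hc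
    rw [hcardD] at hbound
    have hc12 : c = 1 ∨ c = 2 := by
      have h8 : c ≤ 0 ∨ c = 1 ∨ c = 2 ∨ 3 ≤ c := by omega
      rcases h8 with h8 | h8 | h8 | h8
      · exfalso; push_cast at hbound; nlinarith
      · exact Or.inl h8
      · exact Or.inr h8
      · exfalso; push_cast at hbound; nlinarith
    -- the equation
    rw [Finset.sum_add_distrib, Finset.sum_sub_distrib] at h7
    have e1 := Cfsg.Agent.Helper2.BSuzL.sum_pairs_irr (⟨χ₁, h1⟩ : Cfsg.IrrCharacter G) t
    have e2 := Cfsg.Agent.Helper2.BSuzL.sum_pairs_irr (⟨χ₂, h2⟩ : Cfsg.IrrCharacter G) t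
    simp only at e1 e2
    rw [e1, e2, Finset.sum_const, Finset.card_product, Cfsg.Agent.Helper6.card_classFinset,
      nsmul_eq_mul, mul_one, hidx, hd1, hc1, hd2, hc] at h7
    have hk0 : (k : ℂ) ≠ 0 := by
      have : k ≠ 0 := by
        rintro rfl
        exact absurd hkodd (by decide)
      exact_mod_cast this
    have hd0 : (d : ℂ) ≠ 0 := by exact_mod_cast hdpos.ne'
    have hd10 : (d : ℂ) + 1 ≠ 0 := by
      have : (d + 1 : ℕ) ≠ 0 := by omega
      exact_mod_cast this
    have heqC : (k : ℂ) * ((d : ℂ) * (d + 1) - d * ((c : ℂ) - 3) ^ 2 + (d + 1) * (c : ℂ) ^ 2) =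
        32 * d * (d + 1) := by
      push_cast at h7
      field_simp at h7
      linear_combination h7
    have heqZ : (k : ℤ) * ((d : ℤ) * (d + 1) - d * (c - 3) ^ 2 + (d + 1) * c ^ 2) =
        32 * d * (d + 1) := by exact_mod_cast heqC
    rcases Cfsg.Agent.Helper2.D8cD.arith k d c hdpos hkodd hc12 heqZ with h | h
    · left; rw [hk, h]
    · right; rw [hk, h]

end Cfsg.Agent.S0848
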