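import Mathlib
import Cfsg.Statements.S5938
import Cfsg.Agent.Helper8.DkMaxG
import Cfsg.Agent.Lead.PSL2SubE

set_option autoImplicit false
open Cfsg

namespace Cfsg.Agent.S5938

open Cfsg.Agent.Helper8.Dk Matrix

/-- Let p be a prime with p ≡ ±1 (mod 8) and F a field with p elements. Then PSL_2(F) has a maximal subgroup isomorphic to the symmetric group S_4. -/
theorem result {F : Type*} [Field F] [Fintype F] (p : ℕ) [Fact p.Prime] (hF : Fintype.card F = p) (hp : p % 8 = 1 ∨ p % 8 = 7) : ∃ H : Subgroup (Matrix.ProjectiveSpecialLinearGroup (Fin 2) F), IsCoatom H ∧ Nonempty (H ≃* Equiv.Perm (Fin 4)) := by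
  haveI : CharP F p := charP_of_card_eq_prime hF
  have hp7 : 7 ≤ p := by
    have := (Fact.out : p.Prime).two_le
    by_contra hcon
    have hlt : p < 7 := by omega
    interval_cases p <;> omega
  have hsq : p ^ 2 % 16 = 1 := by
    rcases hp with h | h
    · obtain ⟨k, rfl⟩ : ∃ k, p = 8 * k + 1 := ⟨p / 8, by omega⟩
      have : (8 * k + 1) ^ 2 = 16 * (4 * k ^ 2 + k) + 1 := by ring
      rw [this]; omega
    · obtain ⟨k, rfl⟩ : ∃ k, p = 8 * k + 7 := ⟨p / 8, by omega⟩
      have : (8 * k + 7) ^ 2 = 16 * (4 * k ^ 2 + 7 * k + 3) + 1 := by ring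
      rw [this]; omega
  obtain ⟨H, ⟨e⟩⟩ := (Cfsg.Agent.Lead.PSL2Sub.s0803 hF).mpr hsq
  refine ⟨H, ?_, ⟨e⟩⟩
  have hc : Nat.card H = 24 := by rw [Nat.card_congr e.toEquiv, card_S4]
  have hG := card_center_mul_card_PSL2 (F := F)
  rw [hF] at hG
  have hd2 := card_center_le_two (F := F)
  have hGbig : 168 ≤ Nat.card (ProjectiveSpecialLinearGroup (Fin 2) F) := by
    have h48 : 48 ≤ p ^ 2 - 1 := by
      have : 49 ≤ p ^ 2 := by nlinarith
      omega
    have h1 : 7 * 48 ≤ p * (p ^ 2 - 1) := Nat.mul_le_mul hp7 h48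
    have h2 : Nat.card (Subgroup.center (SpecialLinearGroup (Fin 2) F)) *
        Nat.card (ProjectiveSpecialLinearGroup (Fin 2) F) ≤
        2 * Nat.card (ProjectiveSpecialLinearGroup (Fin 2) F) := Nat.mul_le_mul_right _ hd2
    omega
  apply isCoatom_of_cases p H
  · intro htop
    rw [htop, Subgroup.card_top] at hc
    omega
  · omega
  · intro M hM
    exact not_le_normalizer_of_S4 e hM
  · rw [hc]; intro h; norm_num at h
  · rw [hc]; intro _ h; exact absurd rfl h
  · rw [hc]; intro h; norm_num at h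
  · intro X _ _ K _ _ m hm2 hm _
    rw [hF] at hm
    have := (Nat.Prime.pow_eq_iff (Fact.out : p.Prime)).mp hm
    omega

end Cfsg.Agent.S5938
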