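import Mathlib
import Cfsg.Statements.S5939
import Cfsg.Agent.Helper8.DkMaxG
import Cfsg.Agent.Helper8.DkMinArith
import Cfsg.Agent.Lead.PSL2SubF

set_option autoImplicit false
open Cfsg

namespace Cfsg.Agent.S5939

open Cfsg.Agent.Helper8.Dk Matrix

/-- Let p be a prime and F a finite field of characteristic p such that either F has p elements and p ≡ ±1 (mod 10), or F has p² elements and p ≡ ±3 (mod 10). Then PSL_2(F) has a maximal subgroup isomorphic to the alternating group A_5. -/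
theorem result {F : Type*} [Field F] [Fintype F] (p : ℕ) [Fact p.Prime] [CharP F p] (h : (Fintype.card F = p ∧ (p % 10 = 1 ∨ p % 10 = 9)) ∨ (Fintype.card F = p ^ 2 ∧ (p % 10 = 3 ∨ p % 10 = 7))) : ∃ H : Subgroup (Matrix.ProjectiveSpecialLinearGroup (Fin 2) F), IsCoatom H ∧ Nonempty (H ≃* alternatingGroup (Fin 5)) := by
  have hpp : p.Prime := Fact.out
  have hp2 : 2 ≤ p := hpp.two_le
  obtain ⟨q, hqF⟩ : ∃ q, Fintype.card F = q := ⟨_, rfl⟩
  rw [hqF] at h
  have hq9 : 9 ≤ q := by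
    rcases h with ⟨rfl, h⟩ | ⟨rfl, h⟩
    · omega
    · have : 3 ≤ p := by omega
      nlinarith
  have h5 : 5 ∣ q * (q ^ 2 - 1) := by
    apply five_dvd_of_mod q (by omega)
    rcases h with ⟨rfl, h⟩ | ⟨rfl, h⟩
    · omega
    · right
      rcases h with h | h
      · obtain ⟨k, rfl⟩ : ∃ k, p = 10 * k + 3 := ⟨p / 10, by omega⟩
        have : (10 * k + 3) ^ 2 = 5 * (20 * k ^ 2 + 12 * k + 1) + 4 := by ring
        rw [this]; omega
      · obtain ⟨k, rfl⟩ : ∃ k, p = 10 * k + 7 := ⟨p / 10, by omega⟩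
        have : (10 * k + 7) ^ 2 = 5 * (20 * k ^ 2 + 28 * k + 9) + 4 := by ring
        rw [this]; omega
  obtain ⟨H, ⟨e⟩⟩ := (Cfsg.Agent.Lead.PSL2Sub.s0804 hqF).mpr h5
  refine ⟨H, ?_, ⟨e⟩⟩
  have hc : Nat.card H = 60 := by rw [Nat.card_congr e.toEquiv, card_A5]
  have hG := Cfsg.Agent.Lead.PSL2Sub.card_mul (F := F) hqF
  have hd2 : Nat.gcd 2 (q - 1) ≤ 2 := Nat.le_of_dvd (by norm_num) (Nat.gcd_dvd_left 2 _)
  have hGbig : 360 ≤ Nat.card (ProjectiveSpecialLinearGroup (Fin 2) F) := by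
    have h80 : 80 ≤ q ^ 2 - 1 := by
      have : 81 ≤ q ^ 2 := by nlinarith
      omega
    have h1 : 9 * 80 ≤ q * (q ^ 2 - 1) := Nat.mul_le_mul hq9 h80
    have h2 : Nat.gcd 2 (q - 1) * Nat.card (ProjectiveSpecialLinearGroup (Fin 2) F) ≤
        2 * Nat.card (ProjectiveSpecialLinearGroup (Fin 2) F) := Nat.mul_le_mul_right _ hd2
    omega
  apply isCoatom_of_cases p H
  · intro htop
    rw [htop, Subgroup.card_top] at hc
    omega
  · omega
  · intro M hM hle
    have hs := isSolvable_of_le_normalizer hM hle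
    apply not_isSolvable_A5
    exact Group.isSolvable_of_isSolvable_injective (f := e.symm.toMonoidHom) e.symm.injective
  · rw [hc]; intro h; norm_num at h
  · rw [hc]; intro h; norm_num at h
  · rw [hc]; intro _ h; exact absurd rfl h
  · intro X _ _ K _ _ m hm2 hm hiso
    rw [hqF] at hm
    rcases h with ⟨rfl, h⟩ | ⟨rfl, h⟩
    · have := (Nat.Prime.pow_eq_iff hpp).mp hm
      omega
    · have hK : Fintype.card K = p := pow_eq_prime_pow p 2 hpp Nat.prime_two _ m hm2 hm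
      have hXdvd : Nat.card X ∣ p * (p ^ 2 - 1) := by
        rcases hiso with ⟨⟨e'⟩⟩ | ⟨⟨e'⟩⟩
        · have h1 := Cfsg.Agent.Lead.PSL2Sub.card_mul (F := K) hK
          rw [← Nat.card_congr e'.toEquiv] at h1
          exact Dvd.intro_left _ h1
        · have h1 := Cfsg.Agent.Lead.PSL2Sub.card_PGL2 (K := K)
          rw [← Nat.card_congr e'.toEquiv, hK] at h1
          rw [h1]
      have h60 : 60 ∣ Nat.card X := hc ▸ Subgroup.card_dvd_of_le (by assumption)
      have h5' : 5 ∣ p * (p ^ 2 - 1) := Dvd.dvd.trans (by norm_num) (h60.trans hXdvd)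
      rcases Cfsg.Agent.Lead.PSL2Sub.mod_five_of_dvd h5' with h' | h' | h' <;> omega

end Cfsg.Agent.S5939
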