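import Mathlib
import Cfsg.Statements.S5940
import Cfsg.Agent.Helper8.DkMaxG
import Cfsg.Agent.Lead.PSL2SubE

set_option autoImplicit false
open Cfsg

namespace Cfsg.Agent.S5940

open Cfsg.Agent.Helper8.Dk Matrix

/-- Let p ≥ 5 be a prime with p ≡ ±3 (mod 8) and p ≢ ±1 (mod 10), and F a field with p elements. Then PSL_2(F) has a maximal subgroup isomorphic to the alternating group A_4. -/
theorem result {F : Type*} [Field F] [Fintype F] (p : ℕ) [Fact p.Prime] (hF : Fintype.card F = p) (h5 : 5 ≤ p) (h8 : p % 8 = 3 ∨ p % 8 = 5) (h10 : p % 10 ≠ 1 ∧ p % 10 ≠ 9) : ∃ H : Subgroup (Matrix.ProjectiveSpecialLinearGroup (Fin 2) F), IsCoatom H ∧ Nonempty (H ≃* alternatingGroup (Fin 4)) := by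
  haveI : CharP F p := charP_of_card_eq_prime hF
  have hpp : p.Prime := Fact.out
  have hodd : p % 2 = 1 := by
    rcases hpp.eq_two_or_odd with h | h
    · omega
    · exact h
  obtain ⟨H, ⟨e⟩⟩ := (Cfsg.Agent.Lead.PSL2Sub.s0802 (F := F) p 1 (by rw [hF, pow_one])).mpr
    (by rintro ⟨h, -⟩; omega)
  refine ⟨H, ?_, ⟨e⟩⟩
  have hc : Nat.card H = 12 := by rw [Nat.card_congr e.toEquiv, card_A4]
  have hG := Cfsg.Agent.Lead.PSL2Sub.card_mul (F := F) hF
  have hd2 : Nat.gcd 2 (p - 1) ≤ 2 := Nat.le_of_dvd (by norm_num) (Nat.gcd_dvd_left 2 _)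
  have hGbig : 60 ≤ Nat.card (ProjectiveSpecialLinearGroup (Fin 2) F) := by
    have h24 : 24 ≤ p ^ 2 - 1 := by
      have : 25 ≤ p ^ 2 := by nlinarith
      omega
    have h1 : 5 * 24 ≤ p * (p ^ 2 - 1) := Nat.mul_le_mul h5 h24
    have h2 : Nat.gcd 2 (p - 1) * Nat.card (ProjectiveSpecialLinearGroup (Fin 2) F) ≤
        2 * Nat.card (ProjectiveSpecialLinearGroup (Fin 2) F) := Nat.mul_le_mul_right _ hd2
    omega
  apply isCoatom_of_cases p H
  · intro htop
    rw [htop, Subgroup.card_top] at hc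
    omega
  · omega
  · intro M hM
    exact not_le_normalizer_of_A4 p (by omega) e hM
  · rw [hc]; intro _ h; exact absurd rfl h
  · intro _ _ hX
    have h16 := (Cfsg.Agent.Lead.PSL2Sub.s0803 hF).mp hX
    rcases h8 with h | h
    · obtain ⟨k, rfl⟩ : ∃ k, p = 8 * k + 3 := ⟨p / 8, by omega⟩
      have : (8 * k + 3) ^ 2 = 16 * (4 * k ^ 2 + 3 * k) + 9 := by ring
      rw [this] at h16; omega
    · obtain ⟨k, rfl⟩ : ∃ k, p = 8 * k + 5 := ⟨p / 8, by omega⟩
      have : (8 * k + 5) ^ 2 = 16 * (4 * k ^ 2 + 5 * k + 1) + 9 := by ring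
      rw [this] at h16; omega
  · intro _ _ hX hG60
    have h5dvd := (Cfsg.Agent.Lead.PSL2Sub.s0804 hF).mp hX
    rcases Cfsg.Agent.Lead.PSL2Sub.mod_five_of_dvd h5dvd with h | h | h
    · have : p = 5 := by
        have : 5 ∣ p := Nat.dvd_of_mod_eq_zero h
        exact ((Nat.prime_dvd_prime_iff_eq Nat.prime_five hpp).mp this).symm
      subst this
      apply hG60
      have e1 : Nat.gcd 2 (5 - 1) = 2 := by norm_num
      rw [e1] at hG
      omega
    · omega
    · omega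
  · intro X _ _ K _ _ m hm2 hm _
    rw [hF] at hm
    have := (Nat.Prime.pow_eq_iff hpp).mp hm
    omega

end Cfsg.Agent.S5940
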