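import Mathlib
import Cfsg.Statements.S5941
import Cfsg.Agent.Helper8.DkMaxH
import Cfsg.Agent.Helper8.DkMaxArith
import Cfsg.Agent.Helper8.DkOrd

set_option autoImplicit false
open Cfsg

namespace Cfsg.Agent.S5941

open Cfsg.Agent.Helper8.Dk Matrix

/-- Let K and F be finite fields of odd characteristic with #F = (#K)². Then PSL_2(F) has a maximal subgroup isomorphic to PGL_2(K). -/
theorem result {F K : Type*} [Field F] [Fintype F] [Field K] [Fintype K] (q : ℕ) (hK : Fintype.card K = q) (hF : Fintype.card F = q ^ 2) (hq : Odd q) : ∃ H : Subgroup (Matrix.ProjectiveSpecialLinearGroup (Fin 2) F), IsCoatom H ∧ Nonempty (H ≃* Matrix.ProjGenLinGroup (Fin 2) K) := by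
  subst hK
  obtain ⟨p, hpF⟩ := CharP.exists F
  haveI : Fact p.Prime := ⟨CharP.char_is_prime F p⟩
  obtain ⟨H, ⟨e⟩⟩ := (Cfsg.Agent.Lead.PSL2Sub.s0805 (F := F) (K := K) hF hq.pow 2 (by norm_num)
    rfl).2.mpr even_two
  refine ⟨H, ?_, ⟨e⟩⟩
  obtain ⟨q, hq'⟩ : ∃ q, q = Fintype.card K := ⟨_, rfl⟩
  rw [← hq'] at hq hF
  have hq1 : 2 ≤ q := hq' ▸ Fintype.one_lt_card
  have hq3 : 3 ≤ q := by
    obtain ⟨j, hj⟩ := hq
    omega
  have hc : Nat.card H = q * (q ^ 2 - 1) := by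
    rw [Nat.card_congr e.toEquiv, Cfsg.Agent.Lead.PSL2Sub.card_PGL2, ← hq']
  have h8 : 8 ≤ q ^ 2 - 1 := by
    have : 9 ≤ q ^ 2 := by nlinarith
    omega
  have hHbig : 24 ≤ Nat.card H := by
    rw [hc]
    calc 24 = 3 * 8 := by norm_num
      _ ≤ q * (q ^ 2 - 1) := Nat.mul_le_mul hq3 h8
  have hQodd : (q ^ 2) % 2 = 1 := by
    have := hq.pow (n := 2)
    exact Nat.odd_iff.mp this
  have hgcdQ : Nat.gcd 2 (q ^ 2 - 1) = 2 := by
    rcases gcd_two_cases (q ^ 2) (by nlinarith) with ⟨h, -⟩ | ⟨-, h⟩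
    · omega
    · exact h
  have hd : Nat.card (Subgroup.center (SpecialLinearGroup (Fin 2) F)) = 2 := by
    rw [card_center_SL2, hF, hgcdQ]
  have hG := Cfsg.Agent.Lead.PSL2Sub.card_mul (F := F) hF
  rw [hgcdQ] at hG
  have hqq : q ^ 2 + 1 < q * (q ^ 2 - 1) := by
    obtain ⟨j, rfl⟩ : ∃ j, q = j + 3 := ⟨q - 3, by omega⟩
    have : (j + 3) ^ 2 - 1 = j ^ 2 + 6 * j + 8 := by
      apply Nat.sub_eq_of_eq_add; ring
    rw [this]; nlinarith
  apply isCoatom_of_cases p H
  · intro htop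
    rw [htop, Subgroup.card_top] at hc
    rw [hc, sq_sub_one_eq'' (q ^ 2) (by nlinarith)] at hG
    have h1 : 2 * (q * (q ^ 2 - 1)) = (q * (q ^ 2 - 1)) * (q * (q ^ 2 + 1)) := by
      rw [hG]; ring
    have hpos : 0 < q * (q ^ 2 - 1) := by omega
    have h2 : 2 = q * (q ^ 2 + 1) := by
      apply Nat.eq_of_mul_eq_mul_left hpos
      rw [← h1]; ring
    nlinarith
  · omega
  · intro M hM hle
    have hdvd : Nat.card H ∣
        Nat.card (Subgroup.normalizer (M : Set (ProjectiveSpecialLinearGroup (Fin 2) F))) :=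
      Subgroup.card_dvd_of_le hle
    rcases mem_GM_iff.mp hM with hU | hT
    · have h1 := card_normalizer_GU hU
      rw [hd, hF] at h1
      have h2 : 2 * Nat.card H ∣ q ^ 2 * (q ^ 2 - 1) := by
        rw [← h1]; exact Nat.mul_dvd_mul_left 2 hdvd
      rw [hc] at h2
      have h3 : 2 * (q * (q ^ 2 - 1)) ∣ q * (q * (q ^ 2 - 1)) := by
        have : q ^ 2 * (q ^ 2 - 1) = q * (q * (q ^ 2 - 1)) := by ring
        rwa [this] at h2
      have hpos : 0 < q * (q ^ 2 - 1) := by omega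
      have h4 : 2 ∣ q := Nat.dvd_of_mul_dvd_mul_right hpos h3
      obtain ⟨j, hj⟩ := hq
      omega
    · have h1 := card_normalizer_GT_dvd hT
      have h2 := card_mul_mem_GT hT
      rw [hd, hF] at h2
      have hpos : 0 < 2 * Nat.card M := by
        have : 0 < Nat.card M := Nat.card_pos
        omega
      have h3 := Nat.le_of_dvd hpos (hdvd.trans h1)
      rw [hc] at h3
      omega
  · intro h _
    have := Nat.le_of_dvd (by norm_num) h
    omega
  · intro h hne _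
    have := Nat.le_of_dvd (by norm_num) h
    omega
  · intro h hne _ _
    rw [hc] at h
    by_cases hq3' : q = 3
    · subst hq3'
      norm_num at h
    · have hq5 : 5 ≤ q := by
        obtain ⟨j, hj⟩ := hq
        omega
      have h24 : 24 ≤ q ^ 2 - 1 := by
        have : 25 ≤ q ^ 2 := by nlinarith
        omega
      have : 5 * 24 ≤ q * (q ^ 2 - 1) := Nat.mul_le_mul hq5 h24
      have := Nat.le_of_dvd (by norm_num) h
      omega
  · intro X hHX hne K' _ _ m hm2 hm hiso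
    rw [hF] at hm
    obtain ⟨r₁, hr₁⟩ : ∃ r₁, r₁ = Fintype.card K' := ⟨_, rfl⟩
    rw [← hr₁] at hm
    have hr₁2 : 2 ≤ r₁ := hr₁ ▸ Fintype.one_lt_card
    have hle : r₁ ≤ q := by
      by_contra hcon
      have h1 : q < r₁ := by omega
      have h2 : q ^ 2 < r₁ ^ 2 := Nat.pow_lt_pow_left h1 (by norm_num)
      have h3 : r₁ ^ 2 ≤ r₁ ^ m := Nat.pow_le_pow_right (by omega) hm2
      omega
    have h2 := card_dvd_of_subfield_type hiso
    rw [← hr₁] at h2
    have h3 : r₁ * (r₁ ^ 2 - 1) ≤ q * (q ^ 2 - 1) :=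
      Nat.mul_le_mul hle (Nat.sub_le_sub_right (Nat.pow_le_pow_left hle 2) 1)
    have hpos : 0 < r₁ * (r₁ ^ 2 - 1) := by
      have : 4 ≤ r₁ ^ 2 := by nlinarith
      exact Nat.mul_pos (by omega) (by omega)
    have h4 := Nat.le_of_dvd hpos h2
    have h5 := Nat.le_of_dvd Nat.card_pos (Subgroup.card_dvd_of_le hHX)
    apply hne
    omega

end Cfsg.Agent.S5941
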