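import Cfsg.Statements.S2623
import Cfsg.Agent.Helper8.QuadForm
import Mathlib

set_option autoImplicit false
open Cfsg

namespace Cfsg.Agent.S2623

open Module Cfsg.Agent.Helper8.QuadForm

variable {F : Type*} [Field F]

/-- the Gram matrix of the polar form in the standard basis. -/
theorem gram_eq {n : ℕ} (Q : QuadraticForm F (Fin n → F)) :
    Matrix.of (fun i j : Fin n => QuadraticMap.polar ⇑Q (Pi.single i 1) (Pi.single j 1))
      = LinearMap.BilinForm.toMatrix' (QuadraticMap.polarBilin Q) := by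
  ext i j
  rw [LinearMap.BilinForm.toMatrix'_apply]
  rfl

/-- the discriminant computed in an orthogonal basis. -/
theorem disc_orthogonal {k : ℕ} (Q : QuadraticForm F (Fin (k + 1) → F))
    (B : Basis (Fin (k + 1)) F (Fin (k + 1) → F))
    (h1 : ∀ i j, i ≠ j → QuadraticMap.polar Q (B i) (B j) = 0)
    (h3 : ∀ i, i ≠ 0 → Q (B i) = 1) :
    ∃ p : F, p ^ 2 * (LinearMap.BilinForm.toMatrix' (QuadraticMap.polarBilin Q)).det
      = 2 ^ (k + 1) * Q (B 0) := by
  have h := LinearMap.BilinForm.toMatrix_mul_basis_toMatrix (Pi.basisFun F (Fin (k + 1))) B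
    (QuadraticMap.polarBilin Q)
  rw [LinearMap.BilinForm.toMatrix_basisFun] at h
  have hdiag : LinearMap.BilinForm.toMatrix B (QuadraticMap.polarBilin Q)
      = Matrix.diagonal (fun i => 2 * Q (B i)) := by
    ext i j
    rw [LinearMap.BilinForm.toMatrix_apply, QuadraticMap.polarBilin_apply_apply]
    by_cases hij : i = j
    · subst hij
      rw [Matrix.diagonal_apply_eq, polar_self']
    · rw [Matrix.diagonal_apply_ne _ hij, h1 i j hij]
  refine ⟨((Pi.basisFun F (Fin (k + 1))).toMatrix B).det, ?_⟩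
  have h4 := congrArg Matrix.det h
  rw [Matrix.det_mul, Matrix.det_mul, Matrix.det_transpose, hdiag, Matrix.det_diagonal,
    Finset.prod_mul_distrib, Finset.prod_const, Finset.card_univ, Fintype.card_fin,
    Fin.prod_univ_succ] at h4
  have h5 : ∏ i : Fin k, Q (B i.succ) = 1 := by
    apply Finset.prod_eq_one
    intro i _
    exact h3 _ (Fin.succ_ne_zero i)
  rw [h5, mul_one] at h4
  rw [← h4]
  ring

/-- Over a finite field of odd order, two quadratic forms on F^n with non-degenerate polar forms are isometric (related by an invertible linear change of variables) if and only if their discriminants (determinants of the Gram matrices of their polar forms) lie in the same square class. -/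
theorem result {F : Type*} [Field F] [Fintype F] (h2 : (2 : F) ≠ 0) {n : ℕ} (Q₁ Q₂ : QuadraticForm F (Fin n → F)) (h₁ : (QuadraticMap.polarBilin Q₁).Nondegenerate) (h₂ : (QuadraticMap.polarBilin Q₂).Nondegenerate) : (∃ g : (Fin n → F) ≃ₗ[F] (Fin n → F), ∀ v, Q₂ (g v) = Q₁ v) ↔ IsSquare ((Matrix.of (fun i j : Fin n => QuadraticMap.polar ⇑Q₁ (Pi.single i 1) (Pi.single j 1))).det * (Matrix.of (fun i j : Fin n => QuadraticMap.polar ⇑Q₂ (Pi.single i 1) (Pi.single j 1))).det) := by
  classical
  rw [gram_eq, gram_eq]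
  constructor
  · rintro ⟨g, hg⟩
    have hcomp : QuadraticMap.polarBilin Q₁
        = LinearMap.BilinForm.comp (QuadraticMap.polarBilin Q₂)
          (g : (Fin n → F) →ₗ[F] (Fin n → F)) (g : (Fin n → F) →ₗ[F] (Fin n → F)) := by
      apply LinearMap.ext
      intro v
      apply LinearMap.ext
      intro w
      rw [LinearMap.BilinForm.comp_apply, QuadraticMap.polarBilin_apply_apply,
        QuadraticMap.polarBilin_apply_apply]
      unfold QuadraticMap.polar
      rw [LinearEquiv.coe_coe, ← map_add, hg, hg, hg]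
    rw [hcomp, LinearMap.BilinForm.toMatrix'_comp, Matrix.det_mul, Matrix.det_mul,
      Matrix.det_transpose]
    refine ⟨(LinearMap.toMatrix' (g : (Fin n → F) →ₗ[F] (Fin n → F))).det
      * (LinearMap.BilinForm.toMatrix' (QuadraticMap.polarBilin Q₂)).det, by ring⟩
  · rintro ⟨r, hr⟩
    rcases n with _ | k
    · refine ⟨LinearEquiv.refl F _, fun v => ?_⟩
      have hv : v = 0 := Subsingleton.elim _ _
      rw [hv, LinearEquiv.refl_apply, QuadraticMap.map_zero, QuadraticMap.map_zero]
    · have hV : finrank F (Fin (k + 1) → F) = k + 1 := Module.finrank_fin_fun F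
      obtain ⟨b1, h11, h12, h13⟩ := exists_orthogonal_family h2 k Q₁ ((nondeg_iff Q₁).mp h₁) hV
      obtain ⟨b2, h21, h22, h23⟩ := exists_orthogonal_family h2 k Q₂ ((nondeg_iff Q₂).mp h₂) hV
      have hne1 : ∀ i, Q₁ (b1 i) ≠ 0 := by
        intro i
        by_cases hi : i = 0
        · subst hi; exact h12
        · rw [h13 i hi]; exact one_ne_zero
      have hne2 : ∀ i, Q₂ (b2 i) ≠ 0 := by
        intro i
        by_cases hi : i = 0
        · subst hi; exact h22
        · rw [h23 i hi]; exact one_ne_zero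
      obtain ⟨B1, hB1⟩ := exists_basis_of_orthogonal h2 Q₁ hV h11 hne1
      obtain ⟨B2, hB2⟩ := exists_basis_of_orthogonal h2 Q₂ hV h21 hne2
      obtain ⟨p1, hp1⟩ := disc_orthogonal Q₁ B1 (by rw [hB1]; exact h11) (by rw [hB1]; exact h13)
      obtain ⟨p2, hp2⟩ := disc_orthogonal Q₂ B2 (by rw [hB2]; exact h21) (by rw [hB2]; exact h23)
      rw [hB1] at hp1
      rw [hB2] at hp2
      obtain ⟨d1, hd1⟩ : ∃ d1, d1 = Q₁ (b1 0) := ⟨_, rfl⟩
      obtain ⟨d2, hd2⟩ : ∃ d2, d2 = Q₂ (b2 0) := ⟨_, rfl⟩
      rw [← hd1] at hp1 h12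
      rw [← hd2] at hp2 h22
      obtain ⟨s1, hs1⟩ : ∃ s1, s1 = (LinearMap.BilinForm.toMatrix' (QuadraticMap.polarBilin Q₁)).det :=
        ⟨_, rfl⟩
      obtain ⟨s2, hs2⟩ : ∃ s2, s2 = (LinearMap.BilinForm.toMatrix' (QuadraticMap.polarBilin Q₂)).det :=
        ⟨_, rfl⟩
      rw [← hs1] at hp1 hr
      rw [← hs2] at hp2 hr
      have h2k : (2 : F) ^ (k + 1) ≠ 0 := pow_ne_zero _ h2
      have hsq : ∃ s, d1 * d2 = s * s := by
        refine ⟨p1 * p2 * r / 2 ^ (k + 1), ?_⟩
        field_simp
        linear_combination (-(2 ^ (k + 1) * d2)) * hp1 - (p1 ^ 2 * s1) * hp2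
          + p1 ^ 2 * p2 ^ 2 * hr
      obtain ⟨s, hs⟩ := hsq
      obtain ⟨t, ht⟩ : ∃ t : Fin (k + 1) → F, t = fun i => if i = 0 then s / d2 else 1 := ⟨_, rfl⟩
      have hval : ∀ i, Q₂ (t i • b2 i) = Q₁ (b1 i) := by
        intro i
        rw [QuadraticMap.map_smul, ht]
        by_cases hi : i = 0
        · subst hi
          simp only [if_pos]
          rw [← hd1, ← hd2, smul_eq_mul]
          field_simp
          linear_combination -hs
        · simp only [if_neg hi]
          rw [h13 i hi, h23 i hi]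
          simp
      suffices key : ∃ g : (Fin (k + 1) → F) ≃ₗ[F] (Fin (k + 1) → F),
          (∀ v, Q₂ (g v) = Q₁ v) ∧ ∀ i, g (B1 i) = t i • b2 i by
        obtain ⟨g, hg, -⟩ := key
        exact ⟨g, hg⟩
      refine exists_isometry Q₁ Q₂ ((nondeg_iff Q₁).mp h₁) B1 (fun i => t i • b2 i) ?_ ?_
      · intro i
        rw [hB1]
        exact hval i
      · intro i j
        rw [hB1]
        by_cases hij : i = j
        · subst hij
          rw [polar_self', polar_self', hval]
        · rw [QuadraticMap.polar_smul_left, QuadraticMap.polar_smul_right, h11 i j hij,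
            h21 i j hij]
          simp

end Cfsg.Agent.S2623
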