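import Cfsg.Statements.S2622

set_option autoImplicit false
open Cfsg

namespace Cfsg.Agent.S2622
open Module LinearMap

universe u

theorem exists_sqrt {F : Type*} [Field F] [Finite F] [CharP F 2] (a : F) : ∃ b : F, b * b = a := by
  have h2 : ringChar F = 2 := ringChar.eq F 2
  obtain ⟨b, hb⟩ := FiniteField.isSquare_of_char_two h2 a
  exact ⟨b, hb.symm⟩

theorem two_eq_zero' {F : Type*} [Field F] [CharP F 2] : (2 : F) = 0 := by
  have := CharP.cast_eq_zero F 2
  exact_mod_cast this

/-- membership in the orthogonal complement of a line -/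
theorem mem_orth_single {F : Type*} [Field F] {V : Type*} [AddCommGroup V] [Module F V]
    (B : LinearMap.BilinForm F V) (v w : V) :
    w ∈ B.orthogonal (Submodule.span F {v}) ↔ B v w = 0 := by
  rw [LinearMap.BilinForm.mem_orthogonal_iff]
  constructor
  · intro h
    exact h v (Submodule.mem_span_singleton_self v)
  · intro h n hn
    obtain ⟨c, rfl⟩ := Submodule.mem_span_singleton.mp hn
    rw [map_smul, LinearMap.smul_apply, h, smul_zero]

/-- the induction step, given a unit vector whose orthogonal complement is not alternating -/
theorem step {F : Type*} [Field F] {V : Type u} [AddCommGroup V] [Module F V]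
    [FiniteDimensional F V] {n : ℕ}
    (ih : ∀ {W : Type u} [AddCommGroup W] [Module F W] [FiniteDimensional F W],
      finrank F W = n → ∀ (B : LinearMap.BilinForm F W), B.IsSymm → B.Nondegenerate → (∃ v : W, B v v ≠ 0) →
      ∃ b : Fin n → W, ∀ i j, B (b i) (b j) = if i = j then 1 else 0)
    (hV : finrank F V = n + 1) (B : LinearMap.BilinForm F V) (hS : B.IsSymm) (hB : B.Nondegenerate)
    (v : V) (hv : B v v = 1)
    (hw : ∃ w ∈ B.orthogonal (Submodule.span F {v}), B w w ≠ 0) :
    ∃ b : Fin (n + 1) → V, ∀ i j, B (b i) (b j) = if i = j then 1 else 0 := by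
  have hv0 : B v v ≠ 0 := by rw [hv]; exact one_ne_zero
  have hWrank : finrank F (B.orthogonal (Submodule.span F {v})) = n := by
    have h1 := Submodule.finrank_add_eq_of_isCompl
      (LinearMap.BilinForm.isCompl_span_singleton_orthogonal hv0)
    have hvne : v ≠ 0 := by
      intro h0
      rw [h0] at hv0
      simp at hv0
    rw [finrank_span_singleton hvne, hV] at h1
    omega
  set W := B.orthogonal (Submodule.span F {v}) with hW
  have hnd : (B.restrict W).Nondegenerate :=
    LinearMap.BilinForm.restrict_nondegenerate_orthogonal_spanSingleton B hB hS.isRefl hv0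
  obtain ⟨w, hwW, hww⟩ := hw
  obtain ⟨b', hb'⟩ := ih hWrank (B.restrict W) (hS.restrict W) hnd ⟨⟨w, hwW⟩, hww⟩
  refine ⟨Fin.cons v (fun i => (b' i : V)), ?_⟩
  intro i j
  refine Fin.cases ?_ (fun i => ?_) i <;> refine Fin.cases ?_ (fun j => ?_) j
  · simp [hv]
  · simp only [Fin.cons_zero, Fin.cons_succ]
    rw [if_neg (Fin.succ_ne_zero j).symm]
    exact (mem_orth_single B v _).mp (b' j).2
  · simp only [Fin.cons_zero, Fin.cons_succ]
    rw [if_neg (Fin.succ_ne_zero i), hS.eq]
    exact (mem_orth_single B v _).mp (b' i).2
  · simp only [Fin.cons_succ]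
    have := hb' i j
    rw [show (B (b' i : V)) (b' j : V) = (B.restrict W) (b' i) (b' j) from rfl, this]
    simp [Fin.succ_inj]

theorem main {F : Type*} [Field F] [Finite F] [CharP F 2] (n : ℕ) :
    ∀ {V : Type u} [AddCommGroup V] [Module F V] [FiniteDimensional F V],
      finrank F V = n → ∀ (B : LinearMap.BilinForm F V), B.IsSymm → B.Nondegenerate → (∃ v : V, B v v ≠ 0) →
      ∃ b : Fin n → V, ∀ i j, B (b i) (b j) = if i = j then 1 else 0 := by
  induction n with
  | zero =>
    intro V _ _ _ _ B _ _ _
    exact ⟨Fin.elim0, fun i => i.elim0⟩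
  | succ n ih =>
    intro V _ _ _ hV B hS hB hna
    have h2 : (2 : F) = 0 := two_eq_zero'
    -- a unit vector
    obtain ⟨v₀, hv₀⟩ := hna
    obtain ⟨c, hc⟩ := exists_sqrt (B v₀ v₀)⁻¹
    set v := c • v₀ with hvdef
    have hv : B v v = 1 := by
      simp only [hvdef, map_smul, LinearMap.smul_apply, smul_eq_mul]
      rw [← mul_assoc, hc, inv_mul_cancel₀ hv₀]
    by_cases hw : ∃ w ∈ B.orthogonal (Submodule.span F {v}), B w w ≠ 0
    · exact step (fun {W} _ _ _ => ih) hV B hS hB v hv hw
    · push Not at hw
      have hv0 : B v v ≠ 0 := by rw [hv]; exact one_ne_zero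
      have hWrank : finrank F (B.orthogonal (Submodule.span F {v})) = n := by
        have h1 := Submodule.finrank_add_eq_of_isCompl
          (LinearMap.BilinForm.isCompl_span_singleton_orthogonal hv0)
        have hvne : v ≠ 0 := by
          intro h0
          rw [h0] at hv0
          simp at hv0
        rw [finrank_span_singleton hvne, hV] at h1
        omega
      set W := B.orthogonal (Submodule.span F {v}) with hW
      rcases Nat.eq_zero_or_pos n with hn | hn
      · subst hn
        refine ⟨fun _ => v, fun i j => ?_⟩
        have hij : i = j := Fin.ext (by omega)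
        rw [hv, if_pos hij]
      · -- W is nontrivial and alternating
        have hnd : (B.restrict W).Nondegenerate :=
          LinearMap.BilinForm.restrict_nondegenerate_orthogonal_spanSingleton B hB hS.isRefl hv0
        haveI : Nontrivial W := by
          apply Module.nontrivial_of_finrank_pos (R := F)
          rw [hWrank]; exact hn
        obtain ⟨e, he⟩ := exists_ne (0 : W)
        have : ∃ f : W, B e f ≠ 0 := by
          by_contra hcon
          push Not at hcon
          apply he
          apply hnd.1 e
          intro f
          rw [LinearMap.BilinForm.restrict_apply]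
          exact hcon f
        obtain ⟨f₀, hf₀⟩ := this
        set f : V := (B e f₀)⁻¹ • (f₀ : V) with hfdef
        have hfW : f ∈ W := Submodule.smul_mem _ _ f₀.2
        have hef : B e f = 1 := by
          rw [hfdef, map_smul, smul_eq_mul, inv_mul_cancel₀ hf₀]
        have hve : B v e = 0 := (mem_orth_single B v _).mp e.2
        have hvf : B v f = 0 := (mem_orth_single B v _).mp hfW
        have hee : B e e = 0 := hw _ e.2
        have hff : B f f = 0 := hw _ hfW
        have hev : B e v = 0 := by rw [hS.eq]; exact hve
        have hfv : B f v = 0 := by rw [hS.eq]; exact hvf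
        have hv' : B (v + e) (v + e) = 1 := by
          simp only [map_add, LinearMap.add_apply, hv, hve, hev, hee, add_zero]
        refine step (fun {W} _ _ _ => ih) hV B hS hB (v + e) hv' ⟨v + f, ?_, ?_⟩
        · rw [mem_orth_single]
          simp only [map_add, LinearMap.add_apply, hv, hvf, hev, hef, add_zero]
          rw [zero_add, one_add_one_eq_two, h2]
        · simp only [map_add, LinearMap.add_apply, hv, hvf, hfv, hff, add_zero]
          exact one_ne_zero

/-- Over a finite field of characteristic two, a non-degenerate symmetric bilinear form that is not alternating (some vector v has B(v, v) ≠ 0) admits an orthonormal basis. -/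
theorem result {F V : Type*} [Field F] [Finite F] [CharP F 2] [AddCommGroup V] [Module F V] [FiniteDimensional F V] {n : ℕ} (hV : Module.finrank F V = n) (B : LinearMap.BilinForm F V) (hS : B.IsSymm) (hB : B.Nondegenerate) (hna : ∃ v : V, B v v ≠ 0) : ∃ b : Module.Basis (Fin n) F V, ∀ i j, B (b i) (b j) = if i = j then 1 else 0 := by
  rcases n with _ | n
  · exact ⟨basisOfFinrankZero hV, fun i => i.elim0⟩
  obtain ⟨b, hb⟩ := main (n + 1) hV B hS hB hna
  have hli : LinearIndependent F b := by
    rw [Fintype.linearIndependent_iff]
    intro g hg j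
    have := congrArg (fun x => B x (b j)) hg
    simp only [map_sum, map_smul, LinearMap.sum_apply, LinearMap.smul_apply, hb, smul_eq_mul,
      mul_ite, mul_one, mul_zero, Finset.sum_ite_eq', Finset.mem_univ, if_true, map_zero,
      LinearMap.zero_apply] at this
    exact this
  refine ⟨basisOfLinearIndependentOfCardEqFinrank hli (by simp [hV]), ?_⟩
  intro i j
  simp only [coe_basisOfLinearIndependentOfCardEqFinrank]
  exact hb i j

end Cfsg.Agent.S2622
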