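import Mathlib
import Cfsg.Statements.S0304
import Cfsg.Agent.Helper7.SympTransitive

set_option autoImplicit false
set_option linter.unusedSectionVars false
open Cfsg

namespace Cfsg.Agent.S0304

open Matrix Cfsg.Agent.Helper7.Symp

variable {F : Type*} [Field F] {m : ℕ}

/-- The hyperbolic part of the quadratic form. -/
def qlow (m : ℕ) (x : Fin m ⊕ Fin m → F) : F := ∑ i : Fin m, x (.inl i) * x (.inr i)

theorem quad_eq (v : Unit ⊕ (Fin m ⊕ Fin m) → F) :
    quadFormOdd m F v = v (.inl ()) ^ 2 + qlow m (v ∘ Sum.inr) := rfl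

theorem sympForm_eq (x y : Fin m ⊕ Fin m → F) :
    sympForm m F x y = ∑ i : Fin m, (x (.inr i) * y (.inl i) - x (.inl i) * y (.inr i)) := by
  unfold sympForm
  rw [dotProduct, Fintype.sum_sum_type]
  have h1 : ∀ i : Fin m, (J (Fin m) F *ᵥ y) (Sum.inl i) = - y (Sum.inr i) := by
    intro i
    simp [J, Matrix.mulVec, dotProduct, Fintype.sum_sum_type, Matrix.one_apply]
  have h2 : ∀ i : Fin m, (J (Fin m) F *ᵥ y) (Sum.inr i) = y (Sum.inl i) := by
    intro i
    simp [J, Matrix.mulVec, dotProduct, Fintype.sum_sum_type, Matrix.one_apply]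
  simp only [h1, h2]
  rw [← Finset.sum_add_distrib]
  apply Finset.sum_congr rfl
  intro i _
  ring

section char2
variable [CharP F 2]

theorem qlow_add (x y : Fin m ⊕ Fin m → F) :
    qlow m (x + y) = qlow m x + qlow m y + sympForm m F x y := by
  rw [sympForm_eq]
  unfold qlow
  rw [← Finset.sum_add_distrib, ← Finset.sum_add_distrib]
  apply Finset.sum_congr rfl
  intro i _
  simp only [Pi.add_apply]
  have h2 : (2 : F) = 0 := CharTwo.two_eq_zero
  linear_combination (x (Sum.inl i) * y (Sum.inr i)) * h2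

theorem quad_add (u v : Unit ⊕ (Fin m ⊕ Fin m) → F) :
    quadFormOdd m F (u + v) = quadFormOdd m F u + quadFormOdd m F v +
      sympForm m F (u ∘ Sum.inr) (v ∘ Sum.inr) := by
  rw [quad_eq, quad_eq, quad_eq]
  have : (u + v) ∘ Sum.inr = u ∘ Sum.inr + v ∘ Sum.inr := rfl
  rw [this, qlow_add]
  simp only [Pi.add_apply]
  have h2 : (2 : F) = 0 := CharTwo.two_eq_zero
  linear_combination (u (Sum.inl ()) * v (Sum.inl ())) * h2

end char2

/-- The top-right row of a matrix on `Unit ⊕ N`. -/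
def topV (M : Matrix (Unit ⊕ (Fin m ⊕ Fin m)) (Unit ⊕ (Fin m ⊕ Fin m)) F) : Fin m ⊕ Fin m → F :=
  fun j => M (.inl ()) (.inr j)

/-- The bottom-left column of a matrix on `Unit ⊕ N`. -/
def leftV (M : Matrix (Unit ⊕ (Fin m ⊕ Fin m)) (Unit ⊕ (Fin m ⊕ Fin m)) F) : Fin m ⊕ Fin m → F :=
  fun i => M (.inr i) (.inl ())

theorem mulVec_top (M : Matrix (Unit ⊕ (Fin m ⊕ Fin m)) (Unit ⊕ (Fin m ⊕ Fin m)) F)
    (v : Unit ⊕ (Fin m ⊕ Fin m) → F) :
    (M *ᵥ v) (.inl ()) = M (.inl ()) (.inl ()) * v (.inl ()) + topV M ⬝ᵥ (v ∘ Sum.inr) := by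
  simp [Matrix.mulVec, dotProduct, Fintype.sum_sum_type, topV]

theorem mulVec_low (M : Matrix (Unit ⊕ (Fin m ⊕ Fin m)) (Unit ⊕ (Fin m ⊕ Fin m)) F)
    (v : Unit ⊕ (Fin m ⊕ Fin m) → F) :
    (M *ᵥ v) ∘ Sum.inr = v (.inl ()) • leftV M + M.toBlocks₂₂ *ᵥ (v ∘ Sum.inr) := by
  funext i
  simp [Matrix.mulVec, dotProduct, Fintype.sum_sum_type, leftV, Matrix.toBlocks₂₂, mul_comm]

theorem mem_iff (g : Matrix.GeneralLinearGroup (Unit ⊕ (Fin m ⊕ Fin m)) F) :
    g ∈ isometryGroup F (quadFormOdd m F) ↔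
      ∀ v, quadFormOdd m F ((g : Matrix (Unit ⊕ (Fin m ⊕ Fin m)) (Unit ⊕ (Fin m ⊕ Fin m)) F) *ᵥ v) =
        quadFormOdd m F v := by
  constructor
  · intro h v; exact h v v
  · intro h u v; exact h u

section char2
variable [CharP F 2]

theorem polar_preserved {g : Matrix.GeneralLinearGroup (Unit ⊕ (Fin m ⊕ Fin m)) F}
    (hg : g ∈ isometryGroup F (quadFormOdd m F)) (u v : Unit ⊕ (Fin m ⊕ Fin m) → F) :
    sympForm m F ((g.1 *ᵥ u) ∘ Sum.inr) ((g.1 *ᵥ v) ∘ Sum.inr) =
      sympForm m F (u ∘ Sum.inr) (v ∘ Sum.inr) := by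
  rw [mem_iff] at hg
  have h1 := hg (u + v)
  rw [Matrix.mulVec_add, quad_add, quad_add, hg u, hg v] at h1
  exact add_left_cancel h1

theorem leftV_eq_zero {g : Matrix.GeneralLinearGroup (Unit ⊕ (Fin m ⊕ Fin m)) F}
    (hg : g ∈ isometryGroup F (quadFormOdd m F)) : leftV g.1 = 0 := by
  by_contra hne
  obtain ⟨y, hy⟩ := exists_sympForm_ne_zero hne
  apply hy
  have h := polar_preserved hg (Pi.single (Sum.inl ()) 1)
    (g⁻¹.1 *ᵥ (Sum.elim (fun _ : Unit => (0 : F)) y))
  have h1 : g.1 *ᵥ (g⁻¹.1 *ᵥ (Sum.elim (fun _ : Unit => (0 : F)) y)) =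
      Sum.elim (fun _ : Unit => (0 : F)) y := by
    rw [Matrix.mulVec_mulVec]
    have : g.1 * g⁻¹.1 = 1 := by
      rw [← Units.val_mul, mul_inv_cancel]; rfl
    rw [this, Matrix.one_mulVec]
  rw [h1] at h
  have h2 : (g.1 *ᵥ Pi.single (Sum.inl ()) 1) ∘ Sum.inr = leftV g.1 := by
    funext i
    simp [leftV]
  have h3 : (Pi.single (Sum.inl ()) (1 : F) : Unit ⊕ (Fin m ⊕ Fin m) → F) ∘ Sum.inr = 0 := by
    funext i
    simp
  rw [h2, h3] at h
  have h4 : (Sum.elim (fun _ : Unit => (0 : F)) y) ∘ Sum.inr = y := rfl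
  rw [h4] at h
  rw [h]
  unfold sympForm
  simp

theorem corner_eq_one {g : Matrix.GeneralLinearGroup (Unit ⊕ (Fin m ⊕ Fin m)) F}
    (hg : g ∈ isometryGroup F (quadFormOdd m F)) : g.1 (.inl ()) (.inl ()) = 1 := by
  have hl := leftV_eq_zero hg
  rw [mem_iff] at hg
  have h := hg (Pi.single (Sum.inl ()) 1)
  rw [quad_eq, quad_eq, mulVec_low, mulVec_top, hl] at h
  have h3 : (Pi.single (Sum.inl ()) (1 : F) : Unit ⊕ (Fin m ⊕ Fin m) → F) ∘ Sum.inr = 0 := by
    funext i
    simp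
  rw [h3] at h
  simp [qlow] at h
  rcases h with h | h
  · exact h
  · rw [h]; exact CharTwo.neg_eq 1

end char2

theorem mem_symp_of_preserves (D : Matrix (Fin m ⊕ Fin m) (Fin m ⊕ Fin m) F)
    (h : ∀ x y, sympForm m F (D *ᵥ x) (D *ᵥ y) = sympForm m F x y) :
    D ∈ Matrix.symplecticGroup (Fin m) F := by
  rw [SymplecticGroup.mem_iff']
  ext i j
  have h1 := h (Pi.single i 1) (Pi.single j 1)
  unfold sympForm at h1
  rw [mulVec_mulVec, ← vecMul_transpose D (Pi.single i 1), ← dotProduct_mulVec, mulVec_mulVec,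
    ← Matrix.mul_assoc] at h1
  simpa [Matrix.mulVec_single_one, single_one_dotProduct] using h1

section char2
variable [CharP F 2]

theorem block_mem_symp {g : Matrix.GeneralLinearGroup (Unit ⊕ (Fin m ⊕ Fin m)) F}
    (hg : g ∈ isometryGroup F (quadFormOdd m F)) :
    g.1.toBlocks₂₂ ∈ Matrix.symplecticGroup (Fin m) F := by
  apply mem_symp_of_preserves
  intro x y
  have h := polar_preserved hg (Sum.elim (fun _ : Unit => (0 : F)) x)
    (Sum.elim (fun _ : Unit => (0 : F)) y)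
  rw [mulVec_low, mulVec_low] at h
  simpa using h

end char2

theorem qlow_smul (c : F) (x : Fin m ⊕ Fin m → F) : qlow m (c • x) = c ^ 2 * qlow m x := by
  unfold qlow
  rw [Finset.mul_sum]
  apply Finset.sum_congr rfl
  intro i _
  simp only [Pi.smul_apply, smul_eq_mul]
  ring

theorem qlow_single (j : Fin m ⊕ Fin m) (c : F) : qlow m (Pi.single j c) = 0 := by
  unfold qlow
  apply Finset.sum_eq_zero
  intro i _
  rcases j with j | j
  · simp
  · simp

section char2
variable [CharP F 2]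

/-- The homomorphism from the odd orthogonal group to the symplectic group. -/
def Phi : ↥(isometryGroup F (quadFormOdd m F)) →* Matrix.symplecticGroup (Fin m) F where
  toFun g := ⟨g.1.1.toBlocks₂₂, block_mem_symp g.2⟩
  map_one' := by
    apply Subtype.ext
    ext i j
    show (1 : Matrix (Unit ⊕ (Fin m ⊕ Fin m)) (Unit ⊕ (Fin m ⊕ Fin m)) F) (Sum.inr i) (Sum.inr j) =
      (1 : Matrix (Fin m ⊕ Fin m) (Fin m ⊕ Fin m) F) i j
    simp [Matrix.one_apply]
  map_mul' g h := by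
    apply Subtype.ext
    ext i j
    show (g.1.1 * h.1.1) (Sum.inr i) (Sum.inr j) = (g.1.1.toBlocks₂₂ * h.1.1.toBlocks₂₂) i j
    rw [Matrix.mul_apply, Fintype.sum_sum_type, Matrix.mul_apply]
    have h0 : g.1.1 (Sum.inr i) (Sum.inl ()) = 0 := congrFun (leftV_eq_zero g.2) i
    simp [toBlocks₂₂, h0]

theorem Phi_coe (g : ↥(isometryGroup F (quadFormOdd m F))) :
    ((Phi g : Matrix.symplecticGroup (Fin m) F) : Matrix (Fin m ⊕ Fin m) (Fin m ⊕ Fin m) F) =
      g.1.1.toBlocks₂₂ := rfl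

theorem Phi_injective : Function.Injective (Phi : ↥(isometryGroup F (quadFormOdd m F)) →* _) := by
  rw [injective_iff_map_eq_one]
  intro g hg1
  have hD : g.1.1.toBlocks₂₂ = 1 := by
    rw [← Phi_coe, hg1]; rfl
  have hl := leftV_eq_zero g.2
  have hc := corner_eq_one g.2
  have ht : topV g.1.1 = 0 := by
    funext j
    have hiso := (mem_iff g.1).mp g.2 (Sum.elim (fun _ : Unit => (0 : F)) (Pi.single j 1))
    rw [quad_eq, quad_eq, mulVec_low, mulVec_top, hD] at hiso
    have e1 : (Sum.elim (fun _ : Unit => (0 : F)) (Pi.single j (1 : F))) ∘ Sum.inr = Pi.single j 1 := rfl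
    rw [e1, Matrix.one_mulVec] at hiso
    simpa [qlow_single] using hiso
  apply Subtype.ext
  apply Units.ext
  ext a b
  rcases a with ⟨⟩ | i <;> rcases b with ⟨⟩ | j
  · simpa using hc
  · have := congrFun ht j
    simpa [topV] using this
  · have := congrFun hl i
    simpa [leftV] using this
  · have := congrFun (congrFun hD i) j
    simpa [toBlocks₂₂, Matrix.one_apply] using this

end char2

section surj
variable [Fintype F] [CharP F 2]

/-- The linear functional `x ↦ √(Q(Ax) + Q(x))`. -/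
noncomputable def phiLin (A : Matrix.symplecticGroup (Fin m) F) : (Fin m ⊕ Fin m → F) →ₗ[F] F where
  toFun x := (frobeniusEquiv F 2).symm (qlow m (A.1 *ᵥ x) + qlow m x)
  map_add' x y := by
    rw [← map_add]
    congr 1
    rw [Matrix.mulVec_add, qlow_add, qlow_add, sympForm_mulVec A x y]
    have h2 : (2 : F) = 0 := CharTwo.two_eq_zero
    linear_combination (sympForm m F x y) * h2
  map_smul' c x := by
    rw [RingHom.id_apply, Matrix.mulVec_smul, qlow_smul, qlow_smul, ← mul_add, map_mul, smul_eq_mul]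
    congr 1
    have := frobeniusEquiv_symm_apply_frobenius F 2 c
    rwa [frobenius_def] at this

theorem phiLin_sq (A : Matrix.symplecticGroup (Fin m) F) (x : Fin m ⊕ Fin m → F) :
    (phiLin A x) ^ 2 = qlow m (A.1 *ᵥ x) + qlow m x :=
  frobeniusEquiv_symm_pow_p F 2 _

/-- The row vector of `phiLin`. -/
noncomputable def rowV (A : Matrix.symplecticGroup (Fin m) F) : Fin m ⊕ Fin m → F :=
  fun j => phiLin A (Pi.single j 1)

theorem rowV_dot (A : Matrix.symplecticGroup (Fin m) F) (x : Fin m ⊕ Fin m → F) :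
    rowV A ⬝ᵥ x = phiLin A x := by
  have hx : x = ∑ i, x i • (Pi.single i (1 : F) : Fin m ⊕ Fin m → F) := by
    funext j
    rw [Finset.sum_apply]
    simp [Pi.single_apply]
  conv_rhs => rw [hx]
  rw [map_sum, dotProduct]
  apply Finset.sum_congr rfl
  intro i _
  rw [map_smul, smul_eq_mul, mul_comm]
  rfl

/-- The lifted matrix. -/
noncomputable def liftM (A : Matrix.symplecticGroup (Fin m) F) :
    Matrix (Unit ⊕ (Fin m ⊕ Fin m)) (Unit ⊕ (Fin m ⊕ Fin m)) F :=
  Matrix.fromBlocks 1 (Matrix.of fun _ j => rowV A j) 0 A.1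

theorem liftM_det_ne (A : Matrix.symplecticGroup (Fin m) F) : (liftM A).det ≠ 0 := by
  unfold liftM
  rw [Matrix.det_fromBlocks_zero₂₁, Matrix.det_one, one_mul]
  exact (SymplecticGroup.symplectic_det A.2).ne_zero

theorem liftM_isometry (A : Matrix.symplecticGroup (Fin m) F) (v : Unit ⊕ (Fin m ⊕ Fin m) → F) :
    quadFormOdd m F (liftM A *ᵥ v) = quadFormOdd m F v := by
  rw [quad_eq, quad_eq, mulVec_low, mulVec_top]
  have h1 : topV (liftM A) = rowV A := rfl
  have h2 : leftV (liftM A) = 0 := rfl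
  have h3 : (liftM A).toBlocks₂₂ = A.1 := Matrix.toBlocks_fromBlocks₂₂ _ _ _ _
  have h4 : liftM A (Sum.inl ()) (Sum.inl ()) = 1 := rfl
  rw [h1, h2, h3, h4, rowV_dot, smul_zero, zero_add, one_mul, add_sq, phiLin_sq]
  have h2' : (2 : F) = 0 := CharTwo.two_eq_zero
  linear_combination (v (Sum.inl ()) * phiLin A (v ∘ Sum.inr) + qlow m (A.1 *ᵥ (v ∘ Sum.inr))) * h2'

theorem Phi_surjective : Function.Surjective (Phi : ↥(isometryGroup F (quadFormOdd m F)) →* _) := by
  intro A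
  refine ⟨⟨Matrix.GeneralLinearGroup.mkOfDetNeZero (liftM A) (liftM_det_ne A), ?_⟩, ?_⟩
  · rw [mem_iff]
    intro v
    exact liftM_isometry A v
  · apply Subtype.ext
    rw [Phi_coe]
    exact Matrix.toBlocks_fromBlocks₂₂ _ _ _ _

end surj

/-- In characteristic 2, O_{2m+1}(q) is isomorphic to Sp_{2m}(q). -/
theorem result {F : Type*} [Field F] [Fintype F] [CharP F 2] (m : ℕ) : Nonempty (Cfsg.isometryGroup F (Cfsg.quadFormOdd m F) ≃* Matrix.symplecticGroup (Fin m) F) := by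
  exact ⟨MulEquiv.ofBijective Phi ⟨Phi_injective, Phi_surjective⟩⟩

end Cfsg.Agent.S0304
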