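import Cfsg.Statements.S2353

set_option autoImplicit false
open Cfsg

namespace Cfsg.Agent.S2353

open Polynomial

section Core

variable {F : Type*} [Field F]

/-- the core degree computation -/
theorem core (a : ℕ) (ha : 1 ≤ a) (u v : F[X]) (hu : u ≠ 0) (hv : v ≠ 0)
    (h : v.natDegree ≠ u.natDegree + a) :
    (X ^ a * u + v) ≠ 0 ∧ (X ^ a * (X ^ a * u + v) + -u) ≠ 0 ∧
      (X ^ a * (X ^ a * u + v) + -u).natDegree = (X ^ a * u + v).natDegree + a := by
  have h0 : (X ^ a * u : F[X]).natDegree = u.natDegree + a := natDegree_X_pow_mul a hu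
  have h1 : (X ^ a * u + v) ≠ 0 ∧ u.natDegree ≤ (X ^ a * u + v).natDegree := by
    rcases lt_or_gt_of_ne h with hlt | hgt
    · have := natDegree_add_eq_left_of_natDegree_lt (p := X ^ a * u) (q := v) (by rw [h0]; exact hlt)
      refine ⟨ne_zero_of_natDegree_gt (n := v.natDegree) (by rw [this, h0]; exact hlt), ?_⟩
      rw [this, h0]; omega
    · have := natDegree_add_eq_right_of_natDegree_lt (p := X ^ a * u) (q := v) (by rw [h0]; exact hgt)
      refine ⟨ne_zero_of_natDegree_gt (n := u.natDegree + a) (by rw [this]; exact hgt), ?_⟩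
      rw [this]; omega
  obtain ⟨h1a, h1b⟩ := h1
  have h2 : (X ^ a * (X ^ a * u + v) : F[X]).natDegree = (X ^ a * u + v).natDegree + a :=
    natDegree_X_pow_mul a h1a
  have h3 := natDegree_add_eq_left_of_natDegree_lt (p := X ^ a * (X ^ a * u + v)) (q := -u)
    (by rw [h2, natDegree_neg]; omega)
  refine ⟨h1a, ?_, ?_⟩
  · exact ne_zero_of_natDegree_gt (n := u.natDegree) (by rw [h3, h2]; omega)
  · rw [h3, h2]

theorem bound1 (a : ℕ) (u v : F[X]) :
    (X ^ a * u + v).natDegree ≤ max u.natDegree v.natDegree + a := by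
  refine (natDegree_add_le _ _).trans ?_
  have := (natDegree_mul_le (p := (X ^ a : F[X])) (q := u)).trans
    (Nat.add_le_add_right (natDegree_X_pow_le a) _)
  omega

theorem bound2 (a : ℕ) (u v : F[X]) :
    (X ^ a * (X ^ a * u + v) + -u).natDegree ≤ max u.natDegree v.natDegree + 2 * a := by
  have h1 := bound1 a u v
  have h2 := bound1 a (X ^ a * u + v) (-u)
  rw [natDegree_neg] at h2
  omega

/-- action of a letter -/
noncomputable def actOne (x : ℕ × Bool) (p : F[X] × F[X]) : F[X] × F[X] :=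
  if x.2 then (X ^ (x.1 + 1) * (X ^ (x.1 + 1) * p.1 + p.2) + -p.1, -(X ^ (x.1 + 1) * p.1 + p.2))
  else (-(X ^ (x.1 + 1) * p.2 + p.1), X ^ (x.1 + 1) * (X ^ (x.1 + 1) * p.2 + p.1) + -p.2)

/-- action of a word -/
noncomputable def actWord (L : List (ℕ × Bool)) (p : F[X] × F[X]) : F[X] × F[X] :=
  L.foldr actOne p

/-- the state predicate -/
def St (x : ℕ × Bool) (q : F[X] × F[X]) : Prop :=
  q.1 ≠ 0 ∧ q.2 ≠ 0 ∧
    (if x.2 then q.1.natDegree = q.2.natDegree + (x.1 + 1)
      else q.2.natDegree = q.1.natDegree + (x.1 + 1))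

theorem step (x : ℕ × Bool) (q : F[X] × F[X]) (h1 : q.1 ≠ 0) (h2 : q.2 ≠ 0)
    (hne : if x.2 then q.2.natDegree ≠ q.1.natDegree + (x.1 + 1)
      else q.1.natDegree ≠ q.2.natDegree + (x.1 + 1)) : St x (actOne x q) := by
  obtain ⟨i, s⟩ := x
  cases s
  · simp only [Bool.false_eq_true, if_false] at hne
    obtain ⟨c1, c2, c3⟩ := core (i + 1) (by omega) q.2 q.1 h2 h1 hne
    refine ⟨?_, ?_, ?_⟩
    · show (actOne (i, false) q).1 ≠ 0
      simp only [actOne, Bool.false_eq_true, if_false]
      exact neg_ne_zero.mpr c1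
    · show (actOne (i, false) q).2 ≠ 0
      simp only [actOne, Bool.false_eq_true, if_false]
      exact c2
    · simp only [actOne, Bool.false_eq_true, if_false, natDegree_neg]
      exact c3
  · simp only [if_true] at hne
    obtain ⟨c1, c2, c3⟩ := core (i + 1) (by omega) q.1 q.2 h1 h2 hne
    refine ⟨?_, ?_, ?_⟩
    · show (actOne (i, true) q).1 ≠ 0
      simp only [actOne, if_true]
      exact c2
    · show (actOne (i, true) q).2 ≠ 0
      simp only [actOne, if_true]
      exact neg_ne_zero.mpr c1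
    · simp only [actOne, if_true, natDegree_neg]
      exact c3

theorem main_inv : ∀ L : List (ℕ × Bool), FreeGroup.IsReduced L → ∀ x ∈ L.head?,
    St x (actWord L ((1 : F[X]), (1 : F[X]))) := by
  intro L
  induction L with
  | nil => intro _ x hx; simp at hx
  | cons y L ih =>
    intro hred x hx
    simp only [List.head?_cons, Option.mem_def, Option.some.injEq] at hx
    subst hx
    show St y (actOne y (actWord L (1, 1)))
    cases L with
    | nil =>
      apply step
      · simp [actWord]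
      · simp [actWord]
      · simp only [actWord, List.foldr_nil, natDegree_one]
        split_ifs <;> omega
    | cons z L' =>
      rw [FreeGroup.isReduced_cons_cons] at hred
      obtain ⟨hyz, hred'⟩ := hred
      obtain ⟨s1, s2, s3⟩ := ih hred' z (by simp)
      apply step _ _ s1 s2
      obtain ⟨i, s⟩ := y
      obtain ⟨j, t⟩ := z
      simp only at hyz s3 ⊢
      cases s <;> cases t <;> simp only [Bool.false_eq_true, if_false, if_true] at s3 ⊢
      · omega
      · have : i ≠ j := fun h => by simpa using hyz h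
        omega
      · have : i ≠ j := fun h => by simpa using hyz h
        omega
      · omega

/-- the degree bound of a word -/
def bnd (L : List (ℕ × Bool)) : ℕ := (L.map (fun x => 2 * (x.1 + 1))).sum

theorem actOne_bound (x : ℕ × Bool) (p : F[X] × F[X]) :
    max (actOne x p).1.natDegree (actOne x p).2.natDegree ≤
      max p.1.natDegree p.2.natDegree + 2 * (x.1 + 1) := by
  obtain ⟨i, s⟩ := x
  cases s
  · simp only [actOne, Bool.false_eq_true, if_false, natDegree_neg]
    have h1 := bound1 (i + 1) p.2 p.1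
    have h2 := bound2 (i + 1) p.2 p.1
    rw [max_comm] at h1 h2
    omega
  · simp only [actOne, if_true, natDegree_neg]
    have h1 := bound1 (i + 1) p.1 p.2
    have h2 := bound2 (i + 1) p.1 p.2
    omega

theorem actWord_bound (L : List (ℕ × Bool)) :
    max (actWord L ((1 : F[X]), (1 : F[X]))).1.natDegree
      (actWord L ((1 : F[X]), (1 : F[X]))).2.natDegree ≤ bnd L := by
  induction L with
  | nil => simp [actWord, bnd]
  | cons x L ih =>
    have h := actOne_bound x (actWord L ((1 : F[X]), (1 : F[X])))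
    have h2 : bnd (x :: L) = 2 * (x.1 + 1) + bnd L := by simp [bnd]
    have h3 : actWord (x :: L) ((1 : F[X]), (1 : F[X])) = actOne x (actWord L (1, 1)) := rfl
    rw [h2, h3]
    omega

/-- the generator matrices -/
noncomputable def gSL (i : ℕ) : Matrix.SpecialLinearGroup (Fin 2) F[X] :=
  ⟨!![X ^ (i + 1) * X ^ (i + 1) - 1, X ^ (i + 1); -X ^ (i + 1), -1], by
    rw [Matrix.det_fin_two_of]; ring⟩

/-- the matrix of a letter -/
noncomputable def letter (x : ℕ × Bool) : Matrix.SpecialLinearGroup (Fin 2) F[X] :=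
  cond x.2 (gSL x.1) (gSL x.1)⁻¹

theorem coe_gSL (i : ℕ) : ((gSL i : Matrix.SpecialLinearGroup (Fin 2) F[X]) :
    Matrix (Fin 2) (Fin 2) F[X]) =
    !![X ^ (i + 1) * X ^ (i + 1) - 1, X ^ (i + 1); -X ^ (i + 1), -1] := rfl

theorem coe_gSL_inv (i : ℕ) : (((gSL i)⁻¹ : Matrix.SpecialLinearGroup (Fin 2) F[X]) :
    Matrix (Fin 2) (Fin 2) F[X]) =
    !![-1, -X ^ (i + 1); X ^ (i + 1), X ^ (i + 1) * X ^ (i + 1) - 1] := by
  rw [Matrix.SpecialLinearGroup.coe_inv, coe_gSL, Matrix.adjugate_fin_two_of]
  simp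

theorem mulVec_letter (x : ℕ × Bool) (p : F[X] × F[X]) :
    ((letter x : Matrix.SpecialLinearGroup (Fin 2) F[X]) : Matrix (Fin 2) (Fin 2) F[X]).mulVec
      ![p.1, p.2] = ![(actOne x p).1, (actOne x p).2] := by
  obtain ⟨i, s⟩ := x
  cases s
  · show (((gSL i)⁻¹ : Matrix.SpecialLinearGroup (Fin 2) F[X]) :
      Matrix (Fin 2) (Fin 2) F[X]).mulVec ![p.1, p.2] = _
    rw [coe_gSL_inv]
    simp only [actOne, Bool.false_eq_true, if_false]
    funext k
    fin_cases k
    · simp only [Matrix.mulVec, dotProduct, Fin.sum_univ_two, Fin.zero_eta, Matrix.of_apply,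
        Matrix.cons_val_zero, Matrix.cons_val_one, Fin.isValue, Matrix.cons_val', Matrix.cons_val_fin_one]
      ring
    · simp only [Matrix.mulVec, dotProduct, Fin.sum_univ_two, Fin.mk_one, Matrix.of_apply,
        Matrix.cons_val_zero, Matrix.cons_val_one, Fin.isValue, Matrix.cons_val', Matrix.cons_val_fin_one]
      ring
  · show ((gSL i : Matrix.SpecialLinearGroup (Fin 2) F[X]) :
      Matrix (Fin 2) (Fin 2) F[X]).mulVec ![p.1, p.2] = _
    rw [coe_gSL]
    simp only [actOne, if_true]
    funext k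
    fin_cases k
    · simp only [Matrix.mulVec, dotProduct, Fin.sum_univ_two, Fin.zero_eta, Matrix.of_apply,
        Matrix.cons_val_zero, Matrix.cons_val_one, Fin.isValue, Matrix.cons_val', Matrix.cons_val_fin_one]
      ring
    · simp only [Matrix.mulVec, dotProduct, Fin.sum_univ_two, Fin.mk_one, Matrix.of_apply,
        Matrix.cons_val_zero, Matrix.cons_val_one, Fin.isValue, Matrix.cons_val', Matrix.cons_val_fin_one]
      ring

theorem mulVec_word (L : List (ℕ × Bool)) (p : F[X] × F[X]) :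
    (((L.map letter).prod : Matrix.SpecialLinearGroup (Fin 2) F[X]) :
      Matrix (Fin 2) (Fin 2) F[X]).mulVec ![p.1, p.2] =
      ![(actWord L p).1, (actWord L p).2] := by
  induction L with
  | nil => simp [actWord]
  | cons x L ih =>
    rw [List.map_cons, List.prod_cons, Matrix.SpecialLinearGroup.coe_mul, ← Matrix.mulVec_mulVec, ih,
      mulVec_letter]
    rfl

end Core

theorem result (w : FreeGroup ℕ) (hw : w ≠ 1) :
    ∃ N : ℕ, ∀ (F : Type*) [Field F] [Fintype F], N ≤ Fintype.card F →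
      ∃ f : ℕ → Matrix.ProjectiveSpecialLinearGroup (Fin 2) F, FreeGroup.lift f w ≠ 1 := by
  refine ⟨bnd w.toWord + 1, ?_⟩
  intro F _ _ hN
  have hL : w.toWord ≠ [] := fun h => hw (FreeGroup.toWord_eq_nil_iff.mp h)
  obtain ⟨x, L', hxL⟩ := List.exists_cons_of_ne_nil hL
  have hred : FreeGroup.IsReduced w.toWord := FreeGroup.isReduced_toWord
  set q : F[X] × F[X] := actWord w.toWord ((1 : F[X]), (1 : F[X])) with hq
  have hSt : St x q := main_inv w.toWord hred x (by rw [hxL]; simp)
  have hbound := actWord_bound (F := F) w.toWord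
  rw [← hq] at hbound
  -- `u - v ≠ 0`
  have hne : q.1 - q.2 ≠ 0 := by
    intro h
    obtain ⟨_, _, h3⟩ := hSt
    rw [sub_eq_zero] at h
    rw [h] at h3
    split_ifs at h3 <;> omega
  have hdeg : (q.1 - q.2).natDegree < Fintype.card F := by
    have := natDegree_sub_le q.1 q.2
    omega
  obtain ⟨t, ht⟩ := Polynomial.exists_eval_ne_zero_of_natDegree_lt_card (q.1 - q.2) hne
    (by rw [Cardinal.mk_fintype]; exact_mod_cast hdeg)
  -- the evaluation homomorphism
  let ev : Matrix.SpecialLinearGroup (Fin 2) F[X] →* Matrix.SpecialLinearGroup (Fin 2) F :=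
    Matrix.SpecialLinearGroup.map (Polynomial.evalRingHom t)
  let π : Matrix.SpecialLinearGroup (Fin 2) F →* Matrix.ProjectiveSpecialLinearGroup (Fin 2) F :=
    QuotientGroup.mk' _
  refine ⟨fun i => π (ev (gSL i)), ?_⟩
  have hlift : FreeGroup.lift (fun i => π (ev (gSL (F := F) i))) w =
      π (ev (FreeGroup.lift (gSL (F := F)) w)) := by
    symm
    exact FreeGroup.lift_unique ((π.comp ev).comp (FreeGroup.lift (gSL (F := F)))) (fun i => by simp)
  rw [hlift]
  intro h1
  have hM : FreeGroup.lift (gSL (F := F)) w = ((w.toWord).map letter).prod := by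
    conv_lhs => rw [← FreeGroup.mk_toWord (x := w), FreeGroup.lift_mk]
    rfl
  have hcen : ev (FreeGroup.lift gSL w) ∈ Subgroup.center (Matrix.SpecialLinearGroup (Fin 2) F) :=
    (QuotientGroup.eq_one_iff _).mp h1
  rw [Matrix.SpecialLinearGroup.mem_center_iff] at hcen
  obtain ⟨r, _, hr⟩ := hcen
  have hmv := mulVec_word w.toWord ((1 : F[X]), (1 : F[X]))
  rw [← hM, ← hq] at hmv
  have e0 := RingHom.map_mulVec (Polynomial.evalRingHom t)
    ((FreeGroup.lift gSL w : Matrix.SpecialLinearGroup (Fin 2) F[X]) : Matrix (Fin 2) (Fin 2) F[X])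
    ![(1 : F[X]), 1] 0
  have e1 := RingHom.map_mulVec (Polynomial.evalRingHom t)
    ((FreeGroup.lift gSL w : Matrix.SpecialLinearGroup (Fin 2) F[X]) : Matrix (Fin 2) (Fin 2) F[X])
    ![(1 : F[X]), 1] 1
  have hcoe : ((ev (FreeGroup.lift gSL w) : Matrix.SpecialLinearGroup (Fin 2) F) :
      Matrix (Fin 2) (Fin 2) F) =
      ((FreeGroup.lift gSL w : Matrix.SpecialLinearGroup (Fin 2) F[X]) :
        Matrix (Fin 2) (Fin 2) F[X]).map (Polynomial.evalRingHom t) := rfl
  rw [hmv] at e0 e1
  rw [← hcoe, ← hr] at e0 e1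
  apply ht
  rw [eval_sub, sub_eq_zero]
  have e0' : eval t q.1 = r := by
    have : (Polynomial.evalRingHom t) q.1 = _ := e0
    rw [Polynomial.coe_evalRingHom] at this
    rw [this]
    simp [Matrix.mulVec, dotProduct, Fin.sum_univ_two]
  have e1' : eval t q.2 = r := by
    have : (Polynomial.evalRingHom t) q.2 = _ := e1
    rw [Polynomial.coe_evalRingHom] at this
    rw [this]
    simp [Matrix.mulVec, dotProduct, Fin.sum_univ_two]
  rw [e0', e1']

end Cfsg.Agent.S2353
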