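import Mathlib
import Cfsg.Statements.S0293
import Cfsg.Agent.Helper8.POmegaCard
import Cfsg.Agent.Helper8.StdForms
import Cfsg.Agent.Helper8.OmegaStd
import Cfsg.Agent.S0287
import Cfsg.Agent.S0790

set_option autoImplicit false
open Cfsg

namespace Cfsg.Agent.S0293

open Module Cfsg.Agent.Helper8.StdForms Cfsg.Agent.Helper8.OmegaStd Cfsg.Agent.Helper8.POmegaCard

/-- gcd(4, q^m - 1) |PΩ^+_{2m}(q)| = q^(m(m-1)) (q^m - 1) prod_{i=1}^{m-1} (q^(2i) - 1), m at least 4 (type D_m). -/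
theorem result {F : Type*} [Field F] [Fintype F] {q : ℕ} (hF : Fintype.card F = q) (m : ℕ) (hm : 4 ≤ m) : Nat.gcd 4 (q ^ m - 1) * Nat.card (Cfsg.POmega F (Cfsg.quadFormPlus m F)) = q ^ (m * (m - 1)) * (q ^ m - 1) * ∏ i ∈ Finset.range (m - 1), (q ^ (2 * (i + 1)) - 1) := by
  classical
  have hQeq : Cfsg.quadFormPlus m F = ⇑(plusForm F m) :=
    funext (fun v => (plusForm_apply F m v).symm)
  have hO := Cfsg.Agent.S0287.result hF m (by omega)
  rw [hQeq] at hO ⊢
  have hQ := plusForm_nondeg F m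
  have hcard : Fintype.card (Fin m ⊕ Fin m) = m + m := by
    rw [Fintype.card_sum, Fintype.card_fin]
  have hq1 : 1 < q := by rw [← hF]; exact Fintype.one_lt_card
  obtain ⟨A, hA⟩ : ∃ A, A = q ^ (m * (m - 1)) * (q ^ m - 1) *
    ∏ i ∈ Finset.range (m - 1), (q ^ (2 * (i + 1)) - 1) := ⟨_, rfl⟩
  have hO' : Nat.card ↥(Cfsg.isometryGroup F ⇑(plusForm F m)) = 2 * A := by
    rw [hO, hA]; ring
  rw [← hA]
  have hpos : 0 < q ^ m := by positivity
  by_cases hq : Odd q
  · have h2 : (2 : F) ≠ 0 := two_ne_zero_of_odd (by rw [hF]; exact hq)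
    have hiff := Cfsg.Agent.S0790.result hF hq m (by omega)
    rw [hQeq] at hiff
    obtain ⟨hc1, hc2⟩ := card_pomega_odd (plusForm F m) h2 hQ (by rw [hcard]; omega)
    have hqm : Odd (q ^ m) := hq.pow
    by_cases h4 : q ^ m % 4 = 1
    · have h5 := hc1 (hiff.mpr h4)
      have hg : Nat.gcd 4 (q ^ m - 1) = 4 := by
        rw [Nat.gcd_rec]
        have : (q ^ m - 1) % 4 = 0 := by omega
        rw [this]
        rfl
      rw [hg]
      omega
    · have h5 := hc2 (fun h => h4 (hiff.mp h))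
      have hg : Nat.gcd 4 (q ^ m - 1) = 2 := by
        rw [Nat.gcd_rec]
        have : (q ^ m - 1) % 4 = 2 := by
          obtain ⟨r, hr⟩ := hqm
          omega
        rw [this]
        rfl
      rw [hg]
      omega
  · have h2 : (2 : F) = 0 := two_eq_zero_of_even (by rw [hF]; exact hq)
    have h5 := card_pomega_even (plusForm F m) h2 hQ (by rw [hcard]; omega)
      (Or.inr (by rw [hcard]; omega))
    have heven : Even q := Nat.not_odd_iff_even.mp hq
    have h4 : q ^ m % 4 = 0 := by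
      obtain ⟨r, hr⟩ := heven
      have e1 : q ^ m = q ^ 2 * q ^ (m - 2) := by
        rw [← pow_add]
        congr 1
        omega
      have hq2 : q ^ 2 = 4 * r ^ 2 := by rw [hr]; ring
      rw [e1, hq2, mul_assoc]
      exact Nat.mul_mod_right _ _
    have hg : Nat.gcd 4 (q ^ m - 1) = 1 := by
      rw [Nat.gcd_rec]
      have : (q ^ m - 1) % 4 = 3 := by omega
      rw [this]
      rfl
    rw [hg]
    omega

end Cfsg.Agent.S0293
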