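import Cfsg.Statements.S1064
import Cfsg.Agent.Helper7.ChevGood3
import Cfsg.Agent.Helper7.ChevT5
import Cfsg.Agent.Helper7.ChevT6
import Cfsg.Agent.Helper7.ChevT7
import Cfsg.Agent.Helper7.ChevT9
import Cfsg.Agent.Helper7.ChevT17
import Cfsg.Agent.Helper7.ChevPoincare
import Cfsg.Agent.Helper7.ChevStepCert
import Cfsg.Agent.Helper7.ChevSE7s0
import Cfsg.Agent.Helper7.ChevSE7s1
import Cfsg.Agent.Helper7.ChevSE7s2
import Cfsg.Agent.Helper7.ChevSE7s3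
import Cfsg.Agent.Helper7.ChevSE7s4
import Cfsg.Agent.Helper7.ChevSE7s5
import Cfsg.Agent.Helper7.ChevSE7s6

set_option autoImplicit false
set_option maxRecDepth 100000
open Cfsg

namespace Cfsg.Agent.S1064

open Cfsg.Agent.Helper7.Chev in
/-- `gcd(2, q-1) · |E₇(q)| = q⁶³ ∏_{d ∈ {2,6,8,10,12,14,18}} (q^d - 1)`. -/
theorem result {F : Type*} [Field F] [Fintype F] {q : ℕ} (hq : Fintype.card F = q) : Nat.gcd 2 (q - 1) * Nat.card ↥(Cfsg.Lie.chevE7.group F) = q ^ 63 * (q ^ 2 - 1) * (q ^ 6 - 1) * (q ^ 8 - 1) * (q ^ 10 - 1) * (q ^ 12 - 1) * (q ^ 14 - 1) * (q ^ 18 - 1) := by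
  have hD : Cfsg.Lie.chevE7 ∈ [Cfsg.Lie.chevG2, Cfsg.Lie.chevB2, Cfsg.Lie.chevD4, Cfsg.Lie.chevF4, Cfsg.Lie.chevE6, Cfsg.Lie.chevE7, Cfsg.Lie.chevE8] := by simp
  have hG := good3_E7
  have hT := T0_of_mem _ hD
  have h5 := T5_of_mem _ hD
  have h6 := T6_of_mem _ hD
  have h7 := T7_of_mem _ hD
  have h8 := T8_of_mem _ hD
  have h9 := T9_of_mem _ hD
  have hcard := card_group_PS (F := F) hG.toGood2 hT hG.t3 hG.t4 h5 h6 h7 T7n_E7 h8 h9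
  have hH := card_diagonal_mul (F := F) good1_E7 T17_E7
  subst hq
  have hq1 : 1 ≤ Fintype.card F := Fintype.card_pos
  set q := Fintype.card F with hqdef
  have s0 := PS_step_cert hG.toGood2 hT h6 h8 h9 wRefl_E7 sCert_E7_0 sCount_E7_0 q
  have s1 := PS_step_cert hG.toGood2 hT h6 h8 h9 wRefl_E7 sCert_E7_1 sCount_E7_1 q
  have s2 := PS_step_cert hG.toGood2 hT h6 h8 h9 wRefl_E7 sCert_E7_2 sCount_E7_2 q
  have s3 := PS_step_cert hG.toGood2 hT h6 h8 h9 wRefl_E7 sCert_E7_3 sCount_E7_3 q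
  have s4 := PS_step_cert hG.toGood2 hT h6 h8 h9 wRefl_E7 sCert_E7_4 sCount_E7_4 q
  have s5 := PS_step_cert hG.toGood2 hT h6 h8 h9 wRefl_E7 sCert_E7_5 sCount_E7_5 q
  have s6 := PS_step_cert hG.toGood2 hT h6 h8 h9 wRefl_E7 sCert_E7_6 sCount_E7_6 q
  have hnil : PS Cfsg.Lie.chevE7 sJ_E7_7 q = 1 := PS_nil hG.toGood2 q
  have hJ0 : List.range Cfsg.Lie.chevE7.rank = sJ_E7_0 := by decide
  rw [hJ0, s0, s1, s2, s3, s4, s5, s6, hnil] at hcard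
  have hsum0 : (List.map (fun k => sC_E7_0.getD k 0 * q ^ k) (List.range 28)).sum =
      (1 * q ^ 0 + (1 * q ^ 1 + (1 * q ^ 2 + (1 * q ^ 3 + (1 * q ^ 4 + (2 * q ^ 5 + (2 * q ^ 6 + (2 * q ^ 7 + (2 * q ^ 8 + (3 * q ^ 9 + (3 * q ^ 10 + (3 * q ^ 11 + (3 * q ^ 12 + (3 * q ^ 13 + (3 * q ^ 14 + (3 * q ^ 15 + (3 * q ^ 16 + (3 * q ^ 17 + (3 * q ^ 18 + (2 * q ^ 19 + (2 * q ^ 20 + (2 * q ^ 21 + (2 * q ^ 22 + (1 * q ^ 23 + (1 * q ^ 24 + (1 * q ^ 25 + (1 * q ^ 26 + (1 * q ^ 27 + 0)))))))))))))))))))))))))))) := rfl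
  have hsum1 : (List.map (fun k => sC_E7_1.getD k 0 * q ^ k) (List.range 17)).sum =
      (1 * q ^ 0 + (1 * q ^ 1 + (1 * q ^ 2 + (1 * q ^ 3 + (2 * q ^ 4 + (2 * q ^ 5 + (2 * q ^ 6 + (2 * q ^ 7 + (3 * q ^ 8 + (2 * q ^ 9 + (2 * q ^ 10 + (2 * q ^ 11 + (2 * q ^ 12 + (1 * q ^ 13 + (1 * q ^ 14 + (1 * q ^ 15 + (1 * q ^ 16 + 0))))))))))))))))) := rfl
  have hsum2 : (List.map (fun k => sC_E7_2.getD k 0 * q ^ k) (List.range 9)).sum =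
      (1 * q ^ 0 + (1 * q ^ 1 + (1 * q ^ 2 + (1 * q ^ 3 + (2 * q ^ 4 + (1 * q ^ 5 + (1 * q ^ 6 + (1 * q ^ 7 + (1 * q ^ 8 + 0))))))))) := rfl
  have hsum3 : (List.map (fun k => sC_E7_3.getD k 0 * q ^ k) (List.range 7)).sum =
      (1 * q ^ 0 + (1 * q ^ 1 + (1 * q ^ 2 + (2 * q ^ 3 + (1 * q ^ 4 + (1 * q ^ 5 + (1 * q ^ 6 + 0))))))) := rfl
  have hsum4 : (List.map (fun k => sC_E7_4.getD k 0 * q ^ k) (List.range 4)).sum =
      (1 * q ^ 0 + (1 * q ^ 1 + (1 * q ^ 2 + (1 * q ^ 3 + 0)))) := rfl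
  have hsum5 : (List.map (fun k => sC_E7_5.getD k 0 * q ^ k) (List.range 3)).sum =
      (1 * q ^ 0 + (1 * q ^ 1 + (1 * q ^ 2 + 0))) := rfl
  have hsum6 : (List.map (fun k => sC_E7_6.getD k 0 * q ^ k) (List.range 2)).sum =
      (1 * q ^ 0 + (1 * q ^ 1 + 0)) := rfl
  rw [hsum0, hsum1, hsum2, hsum3, hsum4, hsum5, hsum6] at hcard
  have hH' : (List.map (fun i => (q - 1).gcd (t17d_E7 i)) (List.range 7)).prod *
      Nat.card ↥(Cfsg.Lie.chevE7.diagonalSubgroup F) = (q - 1) ^ 7 := hH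
  simp [List.range_succ, t17d_E7] at hH'
  have hN : Cfsg.Lie.chevE7.nroots / 2 = 63 := by decide
  rw [hN] at hcard
  rw [hcard, Nat.gcd_comm]
  generalize Nat.card ↥(Cfsg.Lie.chevE7.diagonalSubgroup F) = h at hH' ⊢
  generalize (q - 1).gcd 2 = g at hH' ⊢
  have e : ∀ P : ℕ, g * (q ^ 63 * h * P) = q ^ 63 * (q - 1) ^ 7 * P := by
    intro P; rw [← hH']; ring
  rw [e]
  have hp : ∀ k : ℕ, 1 ≤ q ^ k := fun k => Nat.one_le_pow _ _ hq1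
  zify [hq1, hp 2, hp 6, hp 8, hp 10, hp 12, hp 14, hp 18]
  ring

end Cfsg.Agent.S1064
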