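import Cfsg.Statements.S1065
import Cfsg.Agent.Helper7.ChevGood3
import Cfsg.Agent.Helper7.ChevT5
import Cfsg.Agent.Helper7.ChevT6
import Cfsg.Agent.Helper7.ChevT7
import Cfsg.Agent.Helper7.ChevT9
import Cfsg.Agent.Helper7.ChevT17
import Cfsg.Agent.Helper7.ChevPoincare
import Cfsg.Agent.Helper7.ChevStepCert
import Cfsg.Agent.Helper7.ChevSE8s0
import Cfsg.Agent.Helper7.ChevSE8s1
import Cfsg.Agent.Helper7.ChevSE8s2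
import Cfsg.Agent.Helper7.ChevSE8s3
import Cfsg.Agent.Helper7.ChevSE8s4
import Cfsg.Agent.Helper7.ChevSE8s5
import Cfsg.Agent.Helper7.ChevSE8s6
import Cfsg.Agent.Helper7.ChevSE8s7

set_option autoImplicit false
set_option maxRecDepth 100000
open Cfsg

namespace Cfsg.Agent.S1065

open Cfsg.Agent.Helper7.Chev in
/-- `|E₈(q)| = q¹²⁰ ∏_{d ∈ {2,8,12,14,18,20,24,30}} (q^d - 1)`. -/
theorem result {F : Type*} [Field F] [Fintype F] {q : ℕ} (hq : Fintype.card F = q) : Nat.card ↥(Cfsg.Lie.chevE8.group F) = q ^ 120 * (q ^ 2 - 1) * (q ^ 8 - 1) * (q ^ 12 - 1) * (q ^ 14 - 1) * (q ^ 18 - 1) * (q ^ 20 - 1) * (q ^ 24 - 1) * (q ^ 30 - 1) := by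
  have hD : Cfsg.Lie.chevE8 ∈ [Cfsg.Lie.chevG2, Cfsg.Lie.chevB2, Cfsg.Lie.chevD4, Cfsg.Lie.chevF4, Cfsg.Lie.chevE6, Cfsg.Lie.chevE7, Cfsg.Lie.chevE8] := by simp
  have hG := good3_E8
  have hT := T0_of_mem _ hD
  have h5 := T5_of_mem _ hD
  have h6 := T6_of_mem _ hD
  have h7 := T7_of_mem _ hD
  have h8 := T8_of_mem _ hD
  have h9 := T9_of_mem _ hD
  have hcard := card_group_PS (F := F) hG.toGood2 hT hG.t3 hG.t4 h5 h6 h7 T7n_E8 h8 h9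
  have hH := card_diagonal_mul (F := F) good1_E8 T17_E8
  subst hq
  have hq1 : 1 ≤ Fintype.card F := Fintype.card_pos
  set q := Fintype.card F with hqdef
  have s0 := PS_step_cert hG.toGood2 hT h6 h8 h9 wRefl_E8 sCert_E8_0 sCount_E8_0 q
  have s1 := PS_step_cert hG.toGood2 hT h6 h8 h9 wRefl_E8 sCert_E8_1 sCount_E8_1 q
  have s2 := PS_step_cert hG.toGood2 hT h6 h8 h9 wRefl_E8 sCert_E8_2 sCount_E8_2 q
  have s3 := PS_step_cert hG.toGood2 hT h6 h8 h9 wRefl_E8 sCert_E8_3 sCount_E8_3 q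
  have s4 := PS_step_cert hG.toGood2 hT h6 h8 h9 wRefl_E8 sCert_E8_4 sCount_E8_4 q
  have s5 := PS_step_cert hG.toGood2 hT h6 h8 h9 wRefl_E8 sCert_E8_5 sCount_E8_5 q
  have s6 := PS_step_cert hG.toGood2 hT h6 h8 h9 wRefl_E8 sCert_E8_6 sCount_E8_6 q
  have s7 := PS_step_cert hG.toGood2 hT h6 h8 h9 wRefl_E8 sCert_E8_7 sCount_E8_7 q
  have hnil : PS Cfsg.Lie.chevE8 sJ_E8_8 q = 1 := PS_nil hG.toGood2 q
  have hJ0 : List.range Cfsg.Lie.chevE8.rank = sJ_E8_0 := by decide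
  rw [hJ0, s0, s1, s2, s3, s4, s5, s6, s7, hnil] at hcard
  have hsum0 : (List.map (fun k => sC_E8_0.getD k 0 * q ^ k) (List.range 58)).sum =
      (1 * q ^ 0 + (1 * q ^ 1 + (1 * q ^ 2 + (1 * q ^ 3 + (1 * q ^ 4 + (1 * q ^ 5 + (2 * q ^ 6 + (2 * q ^ 7 + (2 * q ^ 8 + (2 * q ^ 9 + (3 * q ^ 10 + (3 * q ^ 11 + (4 * q ^ 12 + (4 * q ^ 13 + (4 * q ^ 14 + (4 * q ^ 15 + (5 * q ^ 16 + (5 * q ^ 17 + (6 * q ^ 18 + (6 * q ^ 19 + (6 * q ^ 20 + (6 * q ^ 21 + (7 * q ^ 22 + (7 * q ^ 23 + (7 * q ^ 24 + (7 * q ^ 25 + (7 * q ^ 26 + (7 * q ^ 27 + (8 * q ^ 28 + (8 * q ^ 29 + (7 * q ^ 30 + (7 * q ^ 31 + (7 * q ^ 32 + (7 * q ^ 33 + (7 * q ^ 34 + (7 * q ^ 35 + (6 * q ^ 36 + (6 * q ^ 37 + (6 * q ^ 38 + (6 * q ^ 39 + (5 * q ^ 40 + (5 * q ^ 41 + (4 * q ^ 42 + (4 * q ^ 43 + (4 * q ^ 44 + (4 * q ^ 45 + (3 * q ^ 46 + (3 * q ^ 47 + (2 * q ^ 48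 + (2 * q ^ 49 + (2 * q ^ 50 + (2 * q ^ 51 + (1 * q ^ 52 + (1 * q ^ 53 + (1 * q ^ 54 + (1 * q ^ 55 + (1 * q ^ 56 + (1 * q ^ 57 + 0)))))))))))))))))))))))))))))))))))))))))))))))))))))))))) := rfl
  have hsum1 : (List.map (fun k => sC_E8_1.getD k 0 * q ^ k) (List.range 28)).sum =
      (1 * q ^ 0 + (1 * q ^ 1 + (1 * q ^ 2 + (1 * q ^ 3 + (1 * q ^ 4 + (2 * q ^ 5 + (2 * q ^ 6 + (2 * q ^ 7 + (2 * q ^ 8 + (3 * q ^ 9 + (3 * q ^ 10 + (3 * q ^ 11 + (3 * q ^ 12 + (3 * q ^ 13 + (3 * q ^ 14 + (3 * q ^ 15 + (3 * q ^ 16 + (3 * q ^ 17 + (3 * q ^ 18 + (2 * q ^ 19 + (2 * q ^ 20 + (2 * q ^ 21 + (2 * q ^ 22 + (1 * q ^ 23 + (1 * q ^ 24 + (1 * q ^ 25 + (1 * q ^ 26 + (1 * q ^ 27 + 0)))))))))))))))))))))))))))) := rfl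
  have hsum2 : (List.map (fun k => sC_E8_2.getD k 0 * q ^ k) (List.range 17)).sum =
      (1 * q ^ 0 + (1 * q ^ 1 + (1 * q ^ 2 + (1 * q ^ 3 + (2 * q ^ 4 + (2 * q ^ 5 + (2 * q ^ 6 + (2 * q ^ 7 + (3 * q ^ 8 + (2 * q ^ 9 + (2 * q ^ 10 + (2 * q ^ 11 + (2 * q ^ 12 + (1 * q ^ 13 + (1 * q ^ 14 + (1 * q ^ 15 + (1 * q ^ 16 + 0))))))))))))))))) := rfl
  have hsum3 : (List.map (fun k => sC_E8_3.getD k 0 * q ^ k) (List.range 9)).sum =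
      (1 * q ^ 0 + (1 * q ^ 1 + (1 * q ^ 2 + (1 * q ^ 3 + (2 * q ^ 4 + (1 * q ^ 5 + (1 * q ^ 6 + (1 * q ^ 7 + (1 * q ^ 8 + 0))))))))) := rfl
  have hsum4 : (List.map (fun k => sC_E8_4.getD k 0 * q ^ k) (List.range 7)).sum =
      (1 * q ^ 0 + (1 * q ^ 1 + (1 * q ^ 2 + (2 * q ^ 3 + (1 * q ^ 4 + (1 * q ^ 5 + (1 * q ^ 6 + 0))))))) := rfl
  have hsum5 : (List.map (fun k => sC_E8_5.getD k 0 * q ^ k) (List.range 4)).sum =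
      (1 * q ^ 0 + (1 * q ^ 1 + (1 * q ^ 2 + (1 * q ^ 3 + 0)))) := rfl
  have hsum6 : (List.map (fun k => sC_E8_6.getD k 0 * q ^ k) (List.range 3)).sum =
      (1 * q ^ 0 + (1 * q ^ 1 + (1 * q ^ 2 + 0))) := rfl
  have hsum7 : (List.map (fun k => sC_E8_7.getD k 0 * q ^ k) (List.range 2)).sum =
      (1 * q ^ 0 + (1 * q ^ 1 + 0)) := rfl
  rw [hsum0, hsum1, hsum2, hsum3, hsum4, hsum5, hsum6, hsum7] at hcard
  have hH' : (List.map (fun i => (q - 1).gcd (t17d_E8 i)) (List.range 8)).prod *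
      Nat.card ↥(Cfsg.Lie.chevE8.diagonalSubgroup F) = (q - 1) ^ 8 := hH
  simp [List.range_succ, t17d_E8] at hH'
  have hN : Cfsg.Lie.chevE8.nroots / 2 = 120 := by decide
  rw [hN] at hcard
  rw [hcard, hH']
  have hp : ∀ k : ℕ, 1 ≤ q ^ k := fun k => Nat.one_le_pow _ _ hq1
  zify [hq1, hp 2, hp 8, hp 12, hp 14, hp 18, hp 20, hp 24, hp 30]
  ring

end Cfsg.Agent.S1065
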