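import Cfsg.Statements.S0435
import Cfsg.Agent.Helper2.M11_Setup
import Cfsg.Agent.Helper3.M11_C10fin
import Cfsg.Agent.Helper6.IrrBasis
import Cfsg.Agent.Helper7.M11_Table
import Cfsg.Agent.Helper8.M11_Asm

set_option autoImplicit false
open Cfsg

namespace Cfsg.Agent.S0435

/-- Involution centralisers in a simple group of order 7920 have order 48. -/
theorem result {G : Type*} [Group G] [Finite G] (hG : Cfsg.IsM11 G) (x : G) (hx : orderOf x = 2) : Nat.card (Subgroup.centralizer ({x} : Set G)) = 48 := by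
  classical
  haveI : Fintype G := Fintype.ofFinite G
  haveI : Finite (Cfsg.IrrCharacter G) := Cfsg.Agent.Helper6.irr_finite
  haveI : Fintype (Cfsg.IrrCharacter G) := Fintype.ofFinite _
  have hp11 : Fact (Nat.Prime 11) := ⟨by norm_num⟩
  have hp5 : Fact (Nat.Prime 5) := ⟨by norm_num⟩
  obtain ⟨P⟩ : Nonempty (Sylow 11 G) := inferInstance
  have hC5 : ∀ Q : Sylow 5 G,
      Subgroup.centralizer ((Q : Subgroup G) : Set G) = (Q : Subgroup G) :=
    fun Q => Cfsg.Agent.Helper2.M11.centralizer_sylow5 hG Q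
  rcases Cfsg.Agent.Helper2.M11.exists_case hG P with ⟨⟨A⟩⟩ | ⟨⟨B⟩⟩
  · exact Cfsg.Agent.Helper2.M11.card_centralizer_involution_caseA hG P A hC5 x hx
  · exfalso
    obtain ⟨q, hq⟩ := exists_prime_orderOf_dvd_card' (G := G) 5 (by rw [hG.2]; norm_num)
    obtain ⟨h1, h2⟩ := Cfsg.Agent.Helper2.M11.order5_facts hG hC5 q hq
    obtain ⟨v, _, hv01, _, hvdvd, _⟩ := Cfsg.Agent.Helper2.M11.col5 q hq h1 h2
    exact Cfsg.Agent.Helper2.M11.caseB_false B v hv01 hvdvd

end Cfsg.Agent.S0435
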