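import Mathlib
import Cfsg.Statements.S2325
import Cfsg.Agent.Helper8.SL2Parab
import Cfsg.Agent.Helper7.FiniteFieldBasics

set_option autoImplicit false
open Cfsg

namespace Cfsg.Agent.S2325

open Cfsg.Agent.Helper8.SL2C Cfsg.Agent.Helper7.SL2

variable {F : Type*} [Field F]

/-- the three parabolic representatives of trace 2. -/
def u (ν : F) : Fin 3 → Matrix.SpecialLinearGroup (Fin 2) F
  | 0 => 1
  | 1 => up 1
  | 2 => up ν

theorem u_eq_up (ν : F) (k : Fin 3) : ∃ β, u ν k = up β := by
  fin_cases k
  · exact ⟨0, up_zero.symm⟩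
  · exact ⟨1, rfl⟩
  · exact ⟨ν, rfl⟩

theorem tr_u (ν : F) (k : Fin 3) : tr (u ν k) = 2 := by
  obtain ⟨β, hβ⟩ := u_eq_up ν k
  rw [hβ, tr_up]

theorem isConj_one_iff {G : Type*} [Group G] {g : G} : IsConj 1 g ↔ g = 1 := by
  rw [isConj_iff]
  constructor
  · rintro ⟨c, rfl⟩
    group
  · rintro rfl
    exact ⟨1, by group⟩

theorem u_inj {ν : F} (hν : ¬ IsSquare ν) (k k' : Fin 3) (h : IsConj (u ν k) (u ν k')) : k = k' := by
  have hν0 : ν ≠ 0 := by
    rintro rfl
    exact hν IsSquare.zero
  fin_cases k <;> fin_cases k'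
  · rfl
  · exact absurd (isConj_one_iff.mp h) (up_ne_one one_ne_zero)
  · exact absurd (isConj_one_iff.mp h) (up_ne_one hν0)
  · exact absurd (isConj_one_iff.mp h.symm) (up_ne_one one_ne_zero)
  · rfl
  · change IsConj (up 1) (up ν) at h
    rw [isConj_up_iff_isSquare one_ne_zero hν0, one_mul] at h
    exact absurd h hν
  · exact absurd (isConj_one_iff.mp h.symm) (up_ne_one hν0)
  · change IsConj (up ν) (up 1) at h
    rw [isConj_up_iff_isSquare hν0 one_ne_zero, mul_one] at h
    exact absurd h hν
  · rfl

/-- the class representatives. -/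
def rep (ν : F) : {t : F // t ^ 2 ≠ 4} ⊕ (Fin 3 ⊕ Fin 3) → Matrix.SpecialLinearGroup (Fin 2) F
  | Sum.inl t => comp t.1
  | Sum.inr (Sum.inl k) => u ν k
  | Sum.inr (Sum.inr k) => -u ν k

theorem exists_u [Fintype F] {ν : F} (hν : ¬ IsSquare ν) {g : Matrix.SpecialLinearGroup (Fin 2) F}
    (ht : tr g = 2) : ∃ k, IsConj g (u ν k) := by
  have hν0 : ν ≠ 0 := by
    rintro rfl
    exact hν IsSquare.zero
  by_cases hg : g = 1
  · exact ⟨0, by rw [hg]; exact IsConj.refl _⟩
  · obtain ⟨β, hβ, hc⟩ := isConj_up_of_tr ht hg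
    by_cases hsq : IsSquare β
    · refine ⟨1, hc.trans ?_⟩
      change IsConj (up β) (up 1)
      rw [isConj_up_iff_isSquare hβ one_ne_zero, mul_one]
      exact hsq
    · refine ⟨2, hc.trans ?_⟩
      change IsConj (up β) (up ν)
      rw [isConj_up_iff_isSquare hβ hν0]
      exact sq_mul_of_not hβ hsq hν

theorem card_sq_ne [Fintype F] (h2 : (2 : F) ≠ 0) :
    Nat.card {t : F // t ^ 2 ≠ 4} = Fintype.card F - 2 := by
  classical
  have h1 : Nat.card {t : F // t ^ 2 = 4} = 2 := by
    rw [Nat.card_eq_two_iff]
    refine ⟨⟨2, by norm_num⟩, ⟨-2, by norm_num⟩, ?_, ?_⟩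
    · intro h
      have := congrArg Subtype.val h
      have h4 : (2 : F) * 2 = 0 := by linear_combination this
      rcases mul_eq_zero.mp h4 with h | h <;> exact h2 h
    · ext ⟨e, he⟩
      simp only [Set.mem_insert_iff, Set.mem_singleton_iff, Set.mem_univ, iff_true, Subtype.mk.injEq]
      have : (e - 2) * (e + 2) = 0 := by linear_combination he
      rcases mul_eq_zero.mp this with h | h
      · left; linear_combination h
      · right; linear_combination h
  rw [Nat.card_eq_fintype_card] at h1 ⊢
  rw [Fintype.card_subtype_compl, h1]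

/-- Over a finite field with q elements, q odd, the special linear group SL₂ has exactly q + 4 conjugacy classes. -/
theorem result {F : Type*} [Field F] [Fintype F] (hodd : Odd (Fintype.card F)) :
    Nat.card (ConjClasses (Matrix.SpecialLinearGroup (Fin 2) F)) = Fintype.card F + 4 := by
  have h2 : (2 : F) ≠ 0 := Cfsg.Agent.Helper7.two_ne_zero_of_odd_card hodd
  obtain ⟨ν, hν⟩ := exists_nonsq (F := F) h2
  have h4 : (2 : F) ≠ -2 := by
    intro h
    have h4 : (2 : F) * 2 = 0 := by linear_combination h
    rcases mul_eq_zero.mp h4 with h | h <;> exact h2 h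
  have hbij : Function.Bijective (fun i => ConjClasses.mk (rep ν i)) := by
    constructor
    · intro i j hij
      change ConjClasses.mk (rep ν i) = ConjClasses.mk (rep ν j) at hij
      rw [ConjClasses.mk_eq_mk_iff_isConj] at hij
      have htr := tr_eq_of_isConj hij
      rcases i with t | k | k <;> rcases j with t' | k' | k'
      · simp only [rep, tr_comp] at htr
        exact congrArg Sum.inl (Subtype.ext htr)
      · exfalso
        simp only [rep, tr_comp, tr_u] at htr
        exact t.2 (by rw [htr]; norm_num)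
      · exfalso
        simp only [rep, tr_comp, tr_u, tr_neg] at htr
        exact t.2 (by rw [htr]; norm_num)
      · exfalso
        simp only [rep, tr_comp, tr_u] at htr
        exact t'.2 (by rw [← htr]; norm_num)
      · simp only [rep] at hij
        rw [u_inj hν k k' hij]
      · exfalso
        simp only [rep, tr_u, tr_neg] at htr
        exact h4 htr
      · exfalso
        simp only [rep, tr_comp, tr_u, tr_neg] at htr
        exact t'.2 (by rw [← htr]; norm_num)
      · exfalso
        simp only [rep, tr_u, tr_neg] at htr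
        exact h4 htr.symm
      · simp only [rep] at hij
        rw [isConj_neg_iff] at hij
        rw [u_inj hν k k' hij]
    · intro C
      obtain ⟨g, rfl⟩ := ConjClasses.mk_surjective C
      by_cases ht : tr g ^ 2 ≠ 4
      · refine ⟨Sum.inl ⟨tr g, ht⟩, ?_⟩
        change ConjClasses.mk (comp (tr g)) = ConjClasses.mk g
        rw [ConjClasses.mk_eq_mk_iff_isConj]
        exact (isConj_comp_of_tr_sq_ne ht).symm
      · push Not at ht
        have h5 : (tr g - 2) * (tr g + 2) = 0 := by linear_combination ht
        rcases mul_eq_zero.mp h5 with h | h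
        · obtain ⟨k, hk⟩ := exists_u hν (g := g) (by linear_combination h)
          refine ⟨Sum.inr (Sum.inl k), ?_⟩
          change ConjClasses.mk (u ν k) = ConjClasses.mk g
          rw [ConjClasses.mk_eq_mk_iff_isConj]
          exact hk.symm
        · obtain ⟨k, hk⟩ := exists_u hν (g := -g) (by rw [tr_neg]; linear_combination -h)
          refine ⟨Sum.inr (Sum.inr k), ?_⟩
          change ConjClasses.mk (-u ν k) = ConjClasses.mk g
          rw [ConjClasses.mk_eq_mk_iff_isConj]
          have := isConj_neg_iff.mpr hk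
          rw [neg_neg] at this
          exact this.symm
  rw [← Nat.card_congr (Equiv.ofBijective _ hbij), Nat.card_sum, Nat.card_sum, card_sq_ne h2,
    Nat.card_eq_fintype_card (α := Fin 3), Fintype.card_fin]
  have : 3 ≤ Fintype.card F := by
    have h1 : 2 ≤ Fintype.card F := Fintype.one_lt_card
    rcases hodd with ⟨k, hk⟩
    omega
  omega

end Cfsg.Agent.S2325
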