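import Mathlib
import Cfsg.Statements.S2431
import Cfsg.Agent.Helper8.SL2SylTwo
import Cfsg.Agent.Helper7.FiniteFieldBasics

set_option autoImplicit false
open Cfsg

namespace Cfsg.Agent.S2431

open Cfsg.Agent.Helper8.SL2C Cfsg.Agent.Helper7.SL2 Cfsg.Agent.Helper8

/-- Let F be a finite field with q elements, q odd, and S a Sylow 2-subgroup of SL₂ over F. The centraliser of S is the centre of SL₂ (of order 2); S is its own normaliser when q ≡ ±1 mod 8, and has index 3 in its normaliser when q ≡ ±3 mod 8. -/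
theorem result {F : Type*} [Field F] [Fintype F] (hodd : Odd (Fintype.card F)) (S : Sylow 2 (Matrix.SpecialLinearGroup (Fin 2) F)) :
    Subgroup.centralizer ((S : Subgroup (Matrix.SpecialLinearGroup (Fin 2) F)) : Set (Matrix.SpecialLinearGroup (Fin 2) F)) = Subgroup.center (Matrix.SpecialLinearGroup (Fin 2) F) ∧
    ((Fintype.card F % 8 = 1 ∨ Fintype.card F % 8 = 7) →
      Subgroup.normalizer ((S : Subgroup (Matrix.SpecialLinearGroup (Fin 2) F)) : Set (Matrix.SpecialLinearGroup (Fin 2) F)) = (S : Subgroup (Matrix.SpecialLinearGroup (Fin 2) F))) ∧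
    ((Fintype.card F % 8 = 3 ∨ Fintype.card F % 8 = 5) →
      Nat.card (Subgroup.normalizer ((S : Subgroup (Matrix.SpecialLinearGroup (Fin 2) F)) : Set (Matrix.SpecialLinearGroup (Fin 2) F))) = 3 * Nat.card S) := by
  have h2 : (2 : F) ≠ 0 := Cfsg.Agent.Helper7.two_ne_zero_of_odd_card hodd
  have hq : 2 ≤ Fintype.card F := Fintype.one_lt_card
  have hcard := Cfsg.Agent.Helper7.SL2.card_SL2 (F := F)
  obtain ⟨j, hj⟩ := hodd
  have hmod : Fintype.card F % 4 = 1 ∨ Fintype.card F % 4 = 3 := by omega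
  rcases hmod with h4 | h4
  · obtain ⟨i, hi⟩ : ∃ i, Fintype.card F = 4 * i + 1 := ⟨Fintype.card F / 4, by omega⟩
    have hi0 : 1 ≤ i := by omega
    have e : (4 * i + 1) ^ 2 - 1 = 16 * i ^ 2 + 8 * i := by
      apply Nat.sub_eq_of_eq_add; ring
    obtain ⟨c1, c2, c3⟩ := sylow_two_of_torus h2 (D F) isCyclic_D (4 * i)
      ((4 * i + 1) * (2 * i + 1)) (by rw [card_D, hi]; omega) (Dvd.intro _ rfl)
      (Odd.mul ⟨2 * i, by ring⟩ ⟨i, by ring⟩) (by rw [hcard, hi, e]; ring)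
      (fun a ha b hb => D_comm ha hb) (fun a ha haa g hg => D_cent ha haa hg)
      (fun g hg hgD a ha => D_inv (by omega) hg hgD ha) S
    refine ⟨c1, fun h8 => c2 ?_, fun h8 => c3 ?_⟩
    · omega
    · omega
  · obtain ⟨i, hi⟩ : ∃ i, Fintype.card F = 4 * i + 3 := ⟨Fintype.card F / 4, by omega⟩
    obtain ⟨t, ht⟩ := exists_ellt (F := F)
    have e : (4 * i + 3) ^ 2 - 1 = 16 * i ^ 2 + 24 * i + 8 := by
      apply Nat.sub_eq_of_eq_add; ring
    obtain ⟨c1, c2, c3⟩ := sylow_two_of_torus h2 (Tc t) (isCyclic_Tc (ellt_sq_ne ht)) (4 * (i + 1))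
      ((4 * i + 3) * (2 * i + 1)) (by rw [card_Tc ht, hi]; ring) (Dvd.intro _ rfl)
      (Odd.mul ⟨2 * i + 1, by ring⟩ ⟨i, by ring⟩) (by rw [hcard, hi, e]; ring)
      (fun a ha b hb => Tc_comm ha hb) (fun a ha haa g hg => Tc_cent ha haa hg)
      (fun g hg hgT a ha => Tc_inv (ellt_sq_ne ht) hg hgT ha) S
    refine ⟨c1, fun h8 => c2 ?_, fun h8 => c3 ?_⟩
    · omega
    · omega

end Cfsg.Agent.S2431
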