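import Cfsg.Statements.S2403
import Cfsg.Agent.Helper7.Transvections

set_option autoImplicit false
open Cfsg

namespace Cfsg.Agent.S2403

variable {K : Type*} [Field K]

/-- The non-zero entry of `w` in row `p`. -/
def eps (n : ℕ) (p : Fin (n + 1)) : K := if p.val = n then (-1) ^ n else 1

theorem eps_ne_zero (n : ℕ) (p : Fin (n + 1)) : (eps n p : K) ≠ 0 := by
  unfold eps
  split_ifs
  · exact pow_ne_zero _ (neg_ne_zero.mpr one_ne_zero)
  · exact one_ne_zero

theorem w_entry (n : ℕ) (p q : Fin (n + 1)) :
    (if q.val = p.val + 1 then (1 : K) else if p.val = n ∧ q.val = 0 then (-1) ^ n else 0)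
      = if q = p + 1 then eps n p else 0 := by
  have hp := p.isLt
  have hq := q.isLt
  have hval : (p + 1).val = if p.val = n then 0 else p.val + 1 := by
    rw [Fin.val_add_one]
    by_cases h : p = Fin.last n
    · have : p.val = n := by rw [h]; rfl
      simp [h]
    · have : p.val ≠ n := fun h' => h (Fin.ext h')
      simp [h, this]
  by_cases hpn : p.val = n
  · rw [if_pos hpn] at hval
    have h1 : ¬ q.val = p.val + 1 := by omega
    rw [if_neg h1]
    by_cases hq0 : q.val = 0
    · have : q = p + 1 := Fin.ext (by rw [hval, hq0])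
      rw [if_pos ⟨hpn, hq0⟩, if_pos this, eps, if_pos hpn]
    · have : ¬ q = p + 1 := fun h => hq0 (by rw [h, hval])
      rw [if_neg (fun h => hq0 h.2), if_neg this]
  · rw [if_neg hpn] at hval
    by_cases hq1 : q.val = p.val + 1
    · have : q = p + 1 := Fin.ext (by rw [hval, hq1])
      rw [if_pos hq1, if_pos this, eps, if_neg hpn]
    · have : ¬ q = p + 1 := fun h => hq1 (by rw [h, hval])
      rw [if_neg hq1, if_neg (fun h => hpn h.1), if_neg this]

/-- The conjugation identity. -/
theorem conj_identity (n : ℕ) (W : Matrix (Fin (n + 1)) (Fin (n + 1)) K)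
    (hW : ∀ p q, W p q = if q = p + 1 then eps n p else 0) (i j : Fin (n + 1)) (c : K) :
    (1 + Matrix.single i j (c * eps n i)) * W = W * (1 + Matrix.single (i + 1) (j + 1) (c * eps n j)) := by
  rw [add_mul, mul_add, one_mul, mul_one]
  congr 1
  ext p q
  rw [Matrix.mul_apply, Matrix.mul_apply]
  simp only [Matrix.single_apply, hW]
  by_cases hip : i = p
  · subst hip
    by_cases hjq : j + 1 = q
    · subst hjq
      simp
      ring
    · have hjq' : ¬ q = j + 1 := fun h => hjq h.symm
      simp only [hjq, and_false, if_false, mul_zero, Finset.sum_const_zero, true_and]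
      apply Finset.sum_eq_zero
      intro x _
      by_cases hjx : j = x
      · subst hjx
        simp [hjq']
      · simp [hjx]
  · have hip' : ¬ i + 1 = p + 1 := fun h => hip (add_right_cancel h)
    simp only [hip, false_and, if_false, zero_mul, Finset.sum_const_zero]
    symm
    apply Finset.sum_eq_zero
    intro x _
    by_cases hx : x = p + 1
    · subst hx
      simp [hip']
    · simp [hx]

/-- In a field with at most three elements, every element is a natural number. -/
theorem exists_natCast [Fintype K] (hK : Fintype.card K ≤ 3) (a : K) : ∃ m : ℕ, a = (m : K) := by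
  classical
  obtain ⟨p, hp⟩ := CharP.exists K
  haveI := hp
  haveI : Fact p.Prime := ⟨CharP.char_is_prime K p⟩
  obtain ⟨k, hk⟩ := FiniteField.card K p
  have hp2 : 2 ≤ p := hk.1.two_le
  have hk1 : (k : ℕ) = 1 := by
    by_contra hne
    have hk2 : 2 ≤ (k : ℕ) := by
      have := k.pos
      omega
    have : p ^ 2 ≤ p ^ (k : ℕ) := Nat.pow_le_pow_right (by omega) hk2
    rw [← hk.2] at this
    nlinarith
  have hcard : Fintype.card K = p := by rw [hk.2, hk1, pow_one]
  have hinj : Function.Injective (ZMod.castHom (dvd_refl p) K) := RingHom.injective _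
  have hbij : Function.Bijective (ZMod.castHom (dvd_refl p) K) := by
    rw [Fintype.bijective_iff_injective_and_card]
    exact ⟨hinj, by rw [ZMod.card, hcard]⟩
  obtain ⟨z, hz⟩ := hbij.2 a
  refine ⟨z.val, ?_⟩
  rw [← hz, ZMod.castHom_apply, ZMod.natCast_val]

open Matrix.SpecialLinearGroup in
theorem transvection_pow {ι : Type*} [Fintype ι] [DecidableEq ι] {i j : ι} (hij : i ≠ j) (u : K) (m : ℕ) :
    (transvection hij u : Matrix.SpecialLinearGroup ι K) ^ m = transvection hij ((m : K) * u) := by
  induction m with
  | zero => simp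
  | succ m ih =>
    rw [pow_succ, ih, ← transvection_add]
    congr 1
    push_cast
    ring

/-- Explicit two-element generation of `PSL_{n+1}(K)` over the fields with two or three elements: with `x = 1 + E₁₂` and `w` the monomial matrix with entries `1` in positions `(i, i+1)` and `(−1)^n` in position `(n+1, 1)`, the elements `x` and `w` generate `SL_{n+1}(K)` modulo its centre. -/
theorem result {K : Type*} [Field K] [Fintype K] (hK : Fintype.card K ≤ 3) (n : ℕ) (hn : 1 ≤ n)
    (x w : Matrix.SpecialLinearGroup (Fin (n + 1)) K)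
    (hx : (x : Matrix (Fin (n + 1)) (Fin (n + 1)) K) = Matrix.transvection (0 : Fin (n + 1)) (1 : Fin (n + 1)) 1)
    (hw : (w : Matrix (Fin (n + 1)) (Fin (n + 1)) K) =
      Matrix.of (fun i j => if j.val = i.val + 1 then 1 else if i.val = n ∧ j.val = 0 then (-1) ^ n else 0)) :
    Subgroup.closure ({x, w} : Set (Matrix.SpecialLinearGroup (Fin (n + 1)) K)) ⊔
      Subgroup.center (Matrix.SpecialLinearGroup (Fin (n + 1)) K) = ⊤ := by
  classical
  haveI : Nontrivial (Fin (n + 1)) := Fin.nontrivial_iff_two_le.mpr (by omega)
  set H := Subgroup.closure ({x, w} : Set (Matrix.SpecialLinearGroup (Fin (n + 1)) K)) with hH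
  have hxH : x ∈ H := Subgroup.subset_closure (by simp)
  have hwH : w ∈ H := Subgroup.subset_closure (by simp)
  have hW : ∀ p q, (w : Matrix (Fin (n + 1)) (Fin (n + 1)) K) p q = if q = p + 1 then eps n p else 0 := by
    intro p q
    rw [hw, Matrix.of_apply, w_entry]
  -- all multiples
  have hall : ∀ (i j : Fin (n + 1)) (hij : i ≠ j) (u : K), u ≠ 0 →
      Matrix.SpecialLinearGroup.transvection hij u ∈ H → ∀ c : K, Matrix.SpecialLinearGroup.transvection hij c ∈ H := by
    intro i j hij u hu hmem c
    obtain ⟨m, hm⟩ := exists_natCast hK (c / u)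
    have : c = (m : K) * u := by
      rw [← hm]
      field_simp
    rw [this, ← transvection_pow]
    exact H.pow_mem hmem m
  -- conjugation step
  have hconj : ∀ (i j : Fin (n + 1)) (hij : i ≠ j) (hij' : i + 1 ≠ j + 1),
      (∀ c : K, Matrix.SpecialLinearGroup.transvection hij c ∈ H) →
      ∀ c : K, Matrix.SpecialLinearGroup.transvection hij' c ∈ H := by
    intro i j hij hij' h c
    have hid := conj_identity n (w : Matrix (Fin (n + 1)) (Fin (n + 1)) K) hW i j (c / eps n j)
    have hid' : Matrix.SpecialLinearGroup.transvection hij (c / eps n j * eps n i) * w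
        = w * Matrix.SpecialLinearGroup.transvection hij' c := by
      apply Subtype.ext
      rw [Matrix.SpecialLinearGroup.coe_mul, Matrix.SpecialLinearGroup.coe_mul, Matrix.SpecialLinearGroup.transvection_coe,
        Matrix.SpecialLinearGroup.transvection_coe, hid]
      congr 3
      field_simp [eps_ne_zero n j]
    have : Matrix.SpecialLinearGroup.transvection hij' c
        = w⁻¹ * (Matrix.SpecialLinearGroup.transvection hij (c / eps n j * eps n i) * w) := by
      rw [hid', inv_mul_cancel_left]
    rw [this]
    exact H.mul_mem (H.inv_mem hwH) (H.mul_mem (h _) hwH)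
  -- commutator step
  have hcomm : ∀ (i k j : Fin (n + 1)) (hik : i ≠ k) (hkj : k ≠ j) (hij : i ≠ j),
      (∀ c : K, Matrix.SpecialLinearGroup.transvection hik c ∈ H) →
      (∀ c : K, Matrix.SpecialLinearGroup.transvection hkj c ∈ H) →
      ∀ c : K, Matrix.SpecialLinearGroup.transvection hij c ∈ H := by
    intro i k j hik hkj hij h1 h2 c
    rw [← Helper7.Transv.commutator_transvection hij hik hkj c, commutatorElement_def]
    exact H.mul_mem (H.mul_mem (H.mul_mem (h1 c) (h2 1)) (H.inv_mem (h1 c))) (H.inv_mem (h2 1))
  have h01 : (0 : Fin (n + 1)) ≠ 1 := by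
    intro h
    have := congrArg Fin.val h
    rw [Fin.val_zero, Fin.val_one'] at this
    have h2 : 1 % (n + 1) = 1 := Nat.mod_eq_of_lt (by omega)
    omega
  have hone : ∀ a : Fin (n + 1), a ≠ a + 1 := by
    intro a h
    apply h01
    have : a + 0 = a + 1 := by rw [add_zero]; exact h
    exact add_left_cancel this
  -- step 1: R(a, a+1)
  have hstep1 : ∀ (a : Fin (n + 1)) (c : K), Matrix.SpecialLinearGroup.transvection (hone a) c ∈ H := by
    intro a
    induction a using Fin.induction with
    | zero =>
      have hx' : x = Matrix.SpecialLinearGroup.transvection (hone 0) 1 := by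
        apply Subtype.ext
        rw [hx, Matrix.SpecialLinearGroup.transvection_coe, Matrix.transvection, zero_add]
      apply hall _ _ _ 1 one_ne_zero
      rw [← hx']
      exact hxH
    | succ a ih =>
      have := hconj _ _ (hone a.castSucc) (hone (a.castSucc + 1)) ih
      intro c
      have h2 := this c
      convert h2 using 2 <;> rw [Fin.coeSucc_eq_succ]
  -- step 2: R(a, a+d)
  have hd_ne : ∀ (d : Fin (n + 1)), d ≠ 0 → ∀ a : Fin (n + 1), a ≠ a + d := by
    intro d hd a h
    apply hd
    have : a + 0 = a + d := by rw [add_zero]; exact h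
    exact (add_left_cancel this).symm
  have hstep2 : ∀ (d : Fin (n + 1)) (hd : d ≠ 0) (a : Fin (n + 1)) (c : K),
      Matrix.SpecialLinearGroup.transvection (hd_ne d hd a) c ∈ H := by
    intro d
    induction d using Fin.induction with
    | zero => intro hd; exact absurd rfl hd
    | succ d ih =>
      intro hd a c
      by_cases hd0 : d.castSucc = 0
      · have e : d.succ = 1 := by rw [← Fin.coeSucc_eq_succ, hd0, zero_add]
        have := hstep1 a c
        convert this using 2
        rw [e]
      · have e : a + d.succ = (a + d.castSucc) + 1 := by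
          rw [← Fin.coeSucc_eq_succ, add_assoc]
        have hne3 : a ≠ (a + d.castSucc) + 1 := by
          rw [← e]
          exact hd_ne _ hd a
        have := hcomm a (a + d.castSucc) ((a + d.castSucc) + 1)
          (hd_ne _ hd0 a) (hone _) hne3 (ih hd0 a) (hstep1 _) c
        convert this using 2
  -- all transvections
  have hTall : ∀ (i j : Fin (n + 1)) (hij : i ≠ j) (c : K), Matrix.SpecialLinearGroup.transvection hij c ∈ H := by
    intro i j hij c
    have hd0 : j - i ≠ 0 := by
      intro h
      rw [sub_eq_zero] at h
      exact hij h.symm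
    have hj : j = i + (j - i) := by abel
    have := hstep2 (j - i) hd0 i c
    convert this using 2
  have hHtop : H = ⊤ := by
    rw [eq_top_iff]
    intro M _
    exact Helper7.Transv.transvection_induction (fun M => M ∈ H) hTall (fun A B hA hB => H.mul_mem hA hB) M
  rw [hHtop, top_sup_eq]

end Cfsg.Agent.S2403
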