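import Mathlib
import Cfsg.Statements.S3810
import Cfsg.Prelude.Def_Transfer
import Cfsg.Agent.S0095
import Cfsg.Agent.Helper1.Basic
-- import your own Cfsg.Agent.* helpers here

set_option autoImplicit false
open Cfsg

namespace Cfsg.Agent.S3810
universe u
open scoped commutatorElement

/-- class 2 group with `|Q'| = p` and an abelian subgroup of index `p`: `|Q| ≤ p² |Z(Q)|`. -/
theorem card_le_of_abelian_index {Q : Type u} [Group Q] [Finite Q] (p : ℕ) [hp : Fact p.Prime]
    (hc : commutator Q ≤ Subgroup.center Q) (hcp : Nat.card (commutator Q) = p) (B : Subgroup Q)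
    (hB : ∀ a ∈ B, ∀ b ∈ B, a * b = b * a) (hBi : B.index = p) :
    Nat.card Q ≤ p ^ 2 * Nat.card (Subgroup.center Q) := by
  have hBtop : B ≠ ⊤ := by
    intro h
    rw [h, Subgroup.index_top] at hBi
    exact hp.out.one_lt.ne hBi
  obtain ⟨g, hg⟩ : ∃ g : Q, g ∉ B := by
    by_contra hcon
    push Not at hcon
    exact hBtop (eq_top_iff.2 fun x _ => hcon x)
  set φ : B →* commutator Q := (Cfsg.Agent.S0095.cHom hc g).comp B.subtype with hφ
  have hker : (φ.ker).map B.subtype ≤ Subgroup.center Q := by
    rintro _ ⟨b, hb, rfl⟩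
    replace hb : φ b = 1 := hb
    rw [hφ, MonoidHom.comp_apply, Cfsg.Agent.S0095.cHom_eq_one_iff] at hb
    set T := Subgroup.centralizer {((B.subtype b : Q))} with hT
    have hBT : B ≤ T := by
      intro a ha
      rw [hT, Subgroup.mem_centralizer_iff]
      intro h hh
      rw [Set.mem_singleton_iff] at hh
      subst hh
      exact hB _ b.2 _ ha
    have hgT : g ∈ T := by
      rw [hT, Subgroup.mem_centralizer_iff]
      intro h hh
      rw [Set.mem_singleton_iff] at hh
      subst hh
      exact hb.symm
    have h1 := Subgroup.relIndex_mul_index hBT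
    rw [hBi] at h1
    have h2 : T.index ∣ p := Dvd.intro_left _ h1
    rcases (Nat.dvd_prime hp.out).1 h2 with h3 | h3
    · rw [Subgroup.index_eq_one] at h3
      rw [Subgroup.mem_center_iff]
      intro q
      have : q ∈ T := h3 ▸ Subgroup.mem_top q
      rw [hT, Subgroup.mem_centralizer_iff] at this
      exact (this _ rfl).symm
    · rw [h3] at h1
      have h4 : B.relIndex T = 1 := by
        have hp0 : 0 < p := hp.out.pos
        exact Nat.eq_of_mul_eq_mul_right hp0 (by rw [h1, one_mul])
      rw [Subgroup.relIndex_eq_one] at h4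
      exact absurd (h4 hgT) hg
  have h1 : Nat.card φ.ker ≤ Nat.card (Subgroup.center Q) := by
    rw [← Subgroup.card_map_of_injective B.subtype_injective]
    exact Subgroup.card_le_of_le hker
  have h2 : φ.ker.index ≤ p := by
    rw [Subgroup.index_ker, ← hcp]
    exact Subgroup.card_le_card_group _
  have h3 := φ.ker.card_mul_index
  have h4 := B.card_mul_index
  rw [hBi] at h4
  calc Nat.card Q = Nat.card B * p := h4.symm
    _ = Nat.card φ.ker * φ.ker.index * p := by rw [h3]
    _ ≤ Nat.card (Subgroup.center Q) * p * p := by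
      apply Nat.mul_le_mul_right
      exact Nat.mul_le_mul h1 h2
    _ = p ^ 2 * Nat.card (Subgroup.center Q) := by ring

/-- `g ↦ ⁅g, x⁆` as a hom into the centre when all these commutators are central. -/
def zHom {S : Type u} [Group S] (x : S) (h : ∀ g : S, ⁅g, x⁆ ∈ Subgroup.center S) :
    S →* Subgroup.center S where
  toFun g := ⟨⁅g, x⁆, h g⟩
  map_one' := by
    apply Subtype.ext
    simp
  map_mul' a b := by
    apply Subtype.ext
    show ⁅a * b, x⁆ = ⁅a, x⁆ * ⁅b, x⁆
    have h1 := Subgroup.mem_center_iff.mp (h b) a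
    have h2 : ⁅a * b, x⁆ = a * ⁅b, x⁆ * x * a⁻¹ * x⁻¹ := by
      rw [commutatorElement_def, commutatorElement_def]; group
    have h3 := Subgroup.mem_center_iff.mp (h b) ⁅a, x⁆
    rw [h2, h1, h3, commutatorElement_def a x]
    group

theorem zHom_eq_one_iff {S : Type u} [Group S] (x : S) (h : ∀ g : S, ⁅g, x⁆ ∈ Subgroup.center S)
    (g : S) : zHom x h g = 1 ↔ g * x = x * g := by
  rw [← commutatorElement_eq_one_iff_mul_comm]
  constructor
  · intro h1; exact congrArg Subtype.val h1
  · intro h1; exact Subtype.ext h1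

theorem centralizer_abelian {S : Type u} [Group S] [Finite S] (p : ℕ) [hp : Fact p.Prime]
    (hcard : Nat.card S = p ^ 4) (x : S) (hx : x ∉ Subgroup.center S)
    (hbig : p ^ 3 ≤ Nat.card (Subgroup.centralizer {x})) :
    IsMulCommutative (Subgroup.centralizer {x}) ∧ (Subgroup.centralizer {x}).index = p := by
  have hS : IsPGroup p S := IsPGroup.of_card hcard
  set T := Subgroup.centralizer {x} with hT
  have hxT : x ∈ T := by
    rw [hT, Subgroup.mem_centralizer_iff]
    intro h hh
    rw [Set.mem_singleton_iff] at hh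
    subst hh; rfl
  have hTtop : T ≠ ⊤ := by
    intro h
    apply hx
    rw [Subgroup.mem_center_iff]
    intro q
    have : q ∈ T := h ▸ Subgroup.mem_top q
    rw [hT, Subgroup.mem_centralizer_iff] at this
    exact (this _ rfl).symm
  have hp1 : 1 < p := hp.out.one_lt
  obtain ⟨j, hj4, hj⟩ := (Nat.dvd_prime_pow hp.out).1 (hcard ▸ Subgroup.card_subgroup_dvd_card T)
  have hj3 : 3 ≤ j := by
    rw [hj] at hbig
    exact (Nat.pow_le_pow_iff_right hp1).1 hbig
  have hjne : j ≠ 4 := by
    intro h
    apply hTtop
    rw [← Subgroup.card_eq_iff_eq_top, hj, h, hcard]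
  have hj3' : j = 3 := by omega
  subst hj3'
  have hTi : T.index = p := by
    have := T.card_mul_index
    rw [hj, hcard] at this
    have h3 : 0 < p ^ 3 := by positivity
    exact Nat.eq_of_mul_eq_mul_left h3 (by rw [this]; ring)
  refine ⟨?_, hTi⟩
  -- centre of T is big
  have hZS : (Subgroup.center S).subgroupOf T ≤ Subgroup.center ↥T := by
    intro t ht
    rw [Subgroup.mem_subgroupOf] at ht
    rw [Subgroup.mem_center_iff]
    intro s
    apply Subtype.ext
    exact Subgroup.mem_center_iff.1 ht s
  have hxZ : (⟨x, hxT⟩ : ↥T) ∈ Subgroup.center ↥T := by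
    rw [Subgroup.mem_center_iff]
    intro s
    apply Subtype.ext
    have h' : (s : S) ∈ Subgroup.centralizer {x} := s.2
    exact ((Subgroup.mem_centralizer_iff.1 h') x rfl).symm
  have hlt : (Subgroup.center S).subgroupOf T < Subgroup.center ↥T := by
    refine lt_of_le_of_ne hZS ?_
    intro h
    apply hx
    have : (⟨x, hxT⟩ : ↥T) ∈ (Subgroup.center S).subgroupOf T := h ▸ hxZ
    exact Subgroup.mem_subgroupOf.1 this
  have hZST : Subgroup.center S ≤ T := by
    intro c hc
    rw [hT, Subgroup.mem_centralizer_iff]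
    intro h hh
    rw [Set.mem_singleton_iff] at hh
    subst hh
    exact (Subgroup.mem_center_iff.1 hc h)
  have hnt : Nontrivial S := by
    rw [← Finite.one_lt_card_iff_nontrivial, hcard]
    exact Nat.one_lt_pow (by norm_num) hp1
  have hZnt := hS.center_nontrivial
  have hcZ : p ≤ Nat.card (Subgroup.center S) := by
    obtain ⟨k, hk⟩ := IsPGroup.card_eq_or_dvd (p := p) (G := Subgroup.center S) (hS.to_subgroup _) |>.resolve_left
      (by
        intro h1
        have := Finite.one_lt_card_iff_nontrivial.2 hZnt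
        omega)
    rw [hk]
    exact Nat.le_mul_of_pos_right p (Nat.pos_of_ne_zero (by
      rintro rfl
      have : 0 < Nat.card (Subgroup.center S) := Nat.card_pos
      omega))
  have hcardlt : Nat.card ((Subgroup.center S).subgroupOf T) < Nat.card (Subgroup.center ↥T) :=
    Cfsg.Agent.Helper1.card_lt_card_of_lt hlt
  have hcsub : Nat.card ((Subgroup.center S).subgroupOf T) = Nat.card (Subgroup.center S) :=
    Nat.card_congr (Subgroup.subgroupOfEquivOfLe hZST).toEquiv
  rw [hcsub] at hcardlt
  obtain ⟨i, hi3, hi⟩ := (Nat.dvd_prime_pow hp.out).1 (hj ▸ Subgroup.card_subgroup_dvd_card (Subgroup.center ↥T))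
  have hi2 : 2 ≤ i := by
    by_contra hcon
    have hi1 : i ≤ 1 := by omega
    have : p ^ i ≤ p ^ 1 := Nat.pow_le_pow_right hp.out.pos hi1
    rw [pow_one] at this
    omega
  have hidx : (Subgroup.center ↥T).index ∣ p := by
    have h1 := (Subgroup.center ↥T).card_mul_index
    rw [hi, hj] at h1
    have h2 : p ^ 3 = p ^ i * p ^ (3 - i) := by rw [← pow_add]; congr 1; omega
    rw [h2] at h1
    have h3 : (Subgroup.center ↥T).index = p ^ (3 - i) :=
      Nat.eq_of_mul_eq_mul_left (by positivity) h1
    rw [h3]
    have : 3 - i ≤ 1 := by omega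
    exact (Nat.pow_dvd_pow p this).trans (by rw [pow_one])
  have hcyc : IsCyclic (↥T ⧸ Subgroup.center ↥T) := by
    apply isCyclic_of_card_dvd_prime (p := p)
    rw [← Subgroup.index_eq_card]; exact hidx
  exact MonoidHom.isMulCommutative_of_isCyclic_of_ker_le_center (QuotientGroup.mk' (Subgroup.center ↥T))
    (by rw [QuotientGroup.ker_mk'])

theorem exists_abelian_of_card {S : Type u} [Group S] [Finite S] (p : ℕ) [hp : Fact p.Prime]
    (hcard : Nat.card S = p ^ 4) (hna : Subgroup.center S ≠ ⊤) :
    ∃ A : Subgroup S, IsMulCommutative ↥A ∧ A.index = p := by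
  have hS : IsPGroup p S := IsPGroup.of_card hcard
  have hp1 : 1 < p := hp.out.one_lt
  suffices h : ∃ x : S, x ∉ Subgroup.center S ∧ p ^ 3 ≤ Nat.card (Subgroup.centralizer {x}) by
    obtain ⟨x, hx, hbig⟩ := h
    exact ⟨_, centralizer_abelian p hcard x hx hbig⟩
  have hZT : ∀ x : S, Subgroup.center S ≤ Subgroup.centralizer {x} := by
    intro x c hc
    rw [Subgroup.mem_centralizer_iff]
    intro h hh
    rw [Set.mem_singleton_iff] at hh
    subst hh
    exact (Subgroup.mem_center_iff.1 hc h)
  obtain ⟨k, hk4, hk⟩ := (Nat.dvd_prime_pow hp.out).1 (hcard ▸ Subgroup.card_subgroup_dvd_card (Subgroup.center S))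
  by_cases hk2 : 2 ≤ k
  · -- big centre
    obtain ⟨x, hx⟩ : ∃ x : S, x ∉ Subgroup.center S := by
      by_contra hcon
      push Not at hcon
      exact hna (eq_top_iff.2 fun x _ => hcon x)
    refine ⟨x, hx, ?_⟩
    have hlt : Subgroup.center S < Subgroup.centralizer {x} := by
      refine lt_of_le_of_ne (hZT x) ?_
      intro h
      apply hx
      rw [h, Subgroup.mem_centralizer_iff]
      intro h hh
      rw [Set.mem_singleton_iff] at hh
      subst hh; rfl
    have hcardlt : Nat.card (Subgroup.center S) < Nat.card (Subgroup.centralizer {x}) :=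
      Cfsg.Agent.Helper1.card_lt_card_of_lt hlt
    obtain ⟨j, hj4, hj⟩ := (Nat.dvd_prime_pow hp.out).1 (hcard ▸ Subgroup.card_subgroup_dvd_card (Subgroup.centralizer {x}))
    rw [hk, hj] at hcardlt
    have : k < j := (Nat.pow_lt_pow_iff_right hp1).1 hcardlt
    rw [hj]
    exact Nat.pow_le_pow_right hp.out.pos (by omega)
  · -- centre of order p
    have hnt : Nontrivial S := by
      rw [← Finite.one_lt_card_iff_nontrivial, hcard]
      exact Nat.one_lt_pow (by norm_num) hp1
    have hZnt := hS.center_nontrivial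
    have hk1 : k = 1 := by
      have h1 := Finite.one_lt_card_iff_nontrivial.2 hZnt
      rw [hk] at h1
      have : k ≠ 0 := by
        rintro rfl
        simp at h1
      omega
    subst hk1
    rw [pow_one] at hk
    -- the quotient by the centre
    have hqnt : Nontrivial (S ⧸ Subgroup.center S) := by
      rw [← Finite.one_lt_card_iff_nontrivial, ← Subgroup.index_eq_card]
      have := (Subgroup.center S).card_mul_index
      rw [hk, hcard] at this
      by_contra hcon
      have h1 : (Subgroup.center S).index ≤ 1 := by omega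
      have h2 : p ^ 4 ≤ p * 1 := by rw [← this]; exact Nat.mul_le_mul_left p h1
      have h3 : p ^ 2 ≤ p ^ 4 := Nat.pow_le_pow_right hp.out.pos (by norm_num)
      nlinarith
    have hqP : IsPGroup p (S ⧸ Subgroup.center S) := hS.to_quotient _
    have hZq := hqP.center_nontrivial
    obtain ⟨⟨c, hc⟩, hc1⟩ := exists_ne (1 : Subgroup.center (S ⧸ Subgroup.center S))
    obtain ⟨x, rfl⟩ := QuotientGroup.mk_surjective c
    have hx : x ∉ Subgroup.center S := by
      intro h
      apply hc1
      apply Subtype.ext
      exact (QuotientGroup.eq_one_iff x).2 h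
    have hcomm : ∀ g : S, ⁅g, x⁆ ∈ Subgroup.center S := by
      intro g
      rw [← QuotientGroup.eq_one_iff, commutatorElement_def]
      have := Subgroup.mem_center_iff.1 hc (g : S ⧸ Subgroup.center S)
      simp only [QuotientGroup.mk_mul, QuotientGroup.mk_inv]
      rw [this]
      group
    refine ⟨x, hx, ?_⟩
    have hker : (zHom x hcomm).ker = Subgroup.centralizer {x} := by
      ext g
      rw [MonoidHom.mem_ker, zHom_eq_one_iff, Subgroup.mem_centralizer_iff]
      constructor
      · intro h1 h hh
        rw [Set.mem_singleton_iff] at hh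
        subst hh
        exact h1.symm
      · intro h1
        exact (h1 x rfl).symm
    have h2 : (zHom x hcomm).ker.index ≤ p := by
      rw [Subgroup.index_ker, ← hk]
      exact Subgroup.card_le_card_group _
    rw [hker] at h2
    have h3 := (Subgroup.centralizer {x}).card_mul_index
    rw [hcard] at h3
    by_contra hcon
    push Not at hcon
    have hpos : 0 < p := hp.out.pos
    have : Nat.card (Subgroup.centralizer {x}) * (Subgroup.centralizer {x}).index < p ^ 3 * p := by
      calc Nat.card (Subgroup.centralizer {x}) * (Subgroup.centralizer {x}).index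
          ≤ Nat.card (Subgroup.centralizer {x}) * p := Nat.mul_le_mul_left _ h2
        _ < p ^ 3 * p := Nat.mul_lt_mul_of_pos_right hcon hpos
    rw [h3] at this
    have : p ^ 4 = p ^ 3 * p := by ring
    omega

/-- Let S be a finite p-group with an extraspecial subgroup of index p. Then S has an abelian subgroup of index p if and only if S has order p⁴. -/
theorem result {S : Type*} [Group S] [Finite S] (p : ℕ) [Fact p.Prime] (hS : IsPGroup p S) (Q : Subgroup S) (hQ : Cfsg.IsExtraspecial p ↥Q) (hQi : Q.index = p) :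
    (∃ A : Subgroup S, IsMulCommutative ↥A ∧ A.index = p) ↔ Nat.card S = p ^ 4 := by
  have hp : p.Prime := Fact.out
  have hp1 : 1 < p := hp.one_lt
  obtain ⟨n, hn1, hn⟩ := Cfsg.Agent.S0095.result hQ
  have hcardS : Nat.card S = p ^ (2 + 2 * n) := by
    rw [← Q.card_mul_index, hQi, hn]; ring
  have hcommQ : Nat.card (commutator ↥Q) = p := by rw [hQ.1.2.2, hQ.2]
  have hQna : ¬ (∀ a ∈ Q, ∀ b ∈ Q, a * b = b * a) := by
    intro h
    have : commutator ↥Q = ⊥ := by
      rw [commutator_eq_bot_iff_center_eq_top, eq_top_iff]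
      intro a _
      rw [Subgroup.mem_center_iff]
      intro b
      apply Subtype.ext
      exact h _ b.2 _ a.2
    rw [this] at hcommQ
    simp at hcommQ
    omega
  constructor
  · rintro ⟨A, hA, hAi⟩
    have hAn : A.Normal := by
      apply Subgroup.normal_of_index_eq_minFac_card
      rw [hAi, hcardS, Nat.Prime.pow_minFac hp (by omega)]
    have h1 : A.relIndex Q ∣ p := hAi ▸ Subgroup.relIndex_dvd_index_of_normal A Q
    rcases (Nat.dvd_prime hp).1 h1 with h2 | h2
    · exfalso
      rw [Subgroup.relIndex_eq_one] at h2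
      apply hQna
      intro a ha b hb
      have := mul_comm' (⟨a, h2 ha⟩ : ↥A) ⟨b, h2 hb⟩
      exact congrArg Subtype.val this
    · have h3 := card_le_of_abelian_index p hQ.1.2.2.le hcommQ (A.subgroupOf Q) (by
        intro a ha b hb
        apply Subtype.ext
        have := mul_comm' (⟨(a : S), ha⟩ : ↥A) ⟨(b : S), hb⟩
        have h' : (a : S) * (b : S) = (b : S) * (a : S) := congrArg Subtype.val this
        exact h') h2
      rw [hQ.2, hn] at h3
      have h4 : p ^ (2 * n + 1) ≤ p ^ 3 := by
        calc p ^ (2 * n + 1) ≤ p ^ 2 * p := h3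
          _ = p ^ 3 := by ring
      have h5 : 2 * n + 1 ≤ 3 := (Nat.pow_le_pow_iff_right hp1).1 h4
      have h6 : n = 1 := by omega
      rw [hcardS, h6]
  · intro hcard
    apply exists_abelian_of_card p hcard
    intro htop
    apply hQna
    intro a _ b _
    have : a ∈ Subgroup.center S := htop ▸ Subgroup.mem_top a
    exact (Subgroup.mem_center_iff.1 this b).symm

end Cfsg.Agent.S3810
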