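import Cfsg.Statements.S0496
import Cfsg.Agent.Helper2.SS496A
import Cfsg.Agent.Helper2.SS496B
import Cfsg.Agent.Helper2.SS496C
import Cfsg.Agent.Helper2.SS496D
import Cfsg.Agent.Helper2.Ord720
import Cfsg.Agent.Helper2.Ord756
import Cfsg.Agent.Helper2.Ord1008
import Cfsg.Agent.Helper2.Ord1040
import Cfsg.Agent.Helper2.Ord1080
import Cfsg.Agent.Helper8.Ord720A

set_option autoImplicit false
open Cfsg

namespace Cfsg.Agent.S0496

open Cfsg.Agent.Helper2.SimpleSmall2

/-- A non-abelian finite simple group of order at most 1092 has order 60, 168, 360, 504, 660 or 1092. -/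
theorem result {G : Type*} [Group G] [Finite G] [IsSimpleGroup G]
    (hG : ¬ IsMulCommutative G) (h : Nat.card G ≤ 1092) :
    Nat.card G = 60 ∨ Nat.card G = 168 ∨ Nat.card G = 360 ∨ Nat.card G = 504 ∨ Nat.card G = 660 ∨
      Nat.card G = 1092 := by
  by_contra hne
  push Not at hne
  obtain ⟨h60, h168, h360, h504, h660, h1092⟩ := hne
  have hn1 : 1 < Nat.card G := Finite.one_lt_card
  have h720 : Nat.card G ≠ 720 := by
    intro h'
    have h3 : Fact (Nat.Prime 3) := ⟨by norm_num⟩
    rcases ord720_sylow3 hG h' with h10 | h40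
    · exact ord720_false_of_ten h' h10
    · exact Cfsg.Agent.Helper8.Ord720.false_of_card_sylow3_eq_forty h' h40
  have h756 : Nat.card G ≠ 756 := fun h' => no_simple_756 hG h'
  have h1008 : Nat.card G ≠ 1008 := fun h' => no_simple_1008 hG h'
  have h1040 : Nat.card G ≠ 1040 := fun h' => no_simple_1040 hG h'
  have h1080 : Nat.card G ≠ 1080 := fun h' => no_simple_1080 hG h'
  rcases le_or_gt (Nat.card G) 300 with hA | hA
  · exact no_simple_rangeA hG _ rfl (by omega) hA h60 h168
  rcases le_or_gt (Nat.card G) 600 with hB | hB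
  · exact no_simple_rangeB hG _ rfl (by omega) hB h360 h504
  rcases le_or_gt (Nat.card G) 850 with hC | hC
  · exact no_simple_rangeC hG _ rfl (by omega) hC h660 h720 h756
  · exact no_simple_rangeD hG _ rfl (by omega) h h1008 h1040 h1080 h1092

end Cfsg.Agent.S0496
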