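import Cfsg.Statements.S0783
import Cfsg.Agent.Helper8.SUCenter
import Mathlib

set_option autoImplicit false
open Cfsg

namespace Cfsg.Agent.S0783

open Matrix Cfsg.Agent.Helper7.Herm Cfsg.Agent.Helper8.GUOrder Cfsg.Agent.Helper8.SUCenter

variable {K : Type*} [Field K] [Fintype K] {q : ℕ} {n : ℕ}

/-- the norm-one units. -/
abbrev mu (K : Type*) [Field K] (q : ℕ) : Subgroup Kˣ := (powMonoidHom (q + 1) : Kˣ →* Kˣ).ker

theorem card_mu (hK : Fintype.card K = q ^ 2) : Nat.card (mu K q) = q + 1 := by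
  rw [IsCyclic.card_powMonoidHom_ker, card_units_K hK, qsq_sub_one hK,
    Nat.gcd_eq_right (Dvd.intro_left _ rfl)]

/-- the determinant with values in the norm-one units. -/
def detMu (hK : Fintype.card K = q ^ 2) : GU n K q →* mu K q :=
  (detGU n K q).codRestrict (mu K q) (fun g => detGU_range_le hK ⟨g, rfl⟩)

theorem detMu_surjective (hK : Fintype.card K = q ^ 2) (hn : 1 ≤ n) :
    Function.Surjective (detMu (n := n) hK) := by
  rintro ⟨u, hu⟩
  obtain ⟨g, hg⟩ := le_detGU_range hK hn hu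
  exact ⟨g, Subtype.ext hg⟩

/-- the `n`-th powers in `mu`. -/
abbrev PP (K : Type*) [Field K] (q n : ℕ) : Subgroup (mu K q) :=
  (powMonoidHom n : mu K q →* mu K q).range

theorem card_quot (hK : Fintype.card K = q ^ 2) :
    Nat.card (mu K q ⧸ PP K q n) = Nat.gcd n (q + 1) := by
  have := IsCyclic.index_powMonoidHom_range (mu K q) n
  rw [card_mu hK] at this
  rw [Nat.gcd_comm]
  exact this

/-- the scalar as an element of `GU`. -/
def sg (ζ : K) (hζ : ζ * ζ ^ q = 1) : GU n K q := ⟨SG n ζ hζ, SG_mem ζ hζ⟩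

theorem sg_center (ζ : K) (hζ : ζ * ζ ^ q = 1) :
    sg (n := n) ζ hζ ∈ Subgroup.center (GU n K q) := by
  rw [Subgroup.mem_center_iff]
  intro g
  apply Subtype.ext
  apply Units.ext
  show ((g : GL (Fin n) K) : Matrix (Fin n) (Fin n) K) * (ζ • (1 : Matrix (Fin n) (Fin n) K)) =
    (ζ • (1 : Matrix (Fin n) (Fin n) K)) * ((g : GL (Fin n) K) : Matrix (Fin n) (Fin n) K)
  rw [Matrix.mul_smul, Matrix.smul_mul, Matrix.mul_one, Matrix.one_mul]

theorem detGU_sg (ζ : K) (hζ : ζ * ζ ^ q = 1) :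
    ((detGU n K q (sg ζ hζ) : Kˣ) : K) = ζ ^ n := by
  show (ζ • (1 : Matrix (Fin n) (Fin n) K)).det = ζ ^ n
  rw [Matrix.det_smul, Matrix.det_one, Fintype.card_fin, mul_one]

/-- central elements of `GU` are scalar. -/
theorem center_scalar (hK : Fintype.card K = q ^ 2) (hn : 1 ≤ n) (z : GU n K q)
    (hz : z ∈ Subgroup.center (GU n K q)) :
    ∃ (ζ : K) (hζ : ζ * ζ ^ q = 1), z = sg ζ hζ := by
  rw [Subgroup.mem_center_iff] at hz
  have hZ : ∀ s : SU n K q, ((z : GL (Fin n) K) : Matrix (Fin n) (Fin n) K) *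
      (s.1 : Matrix (Fin n) (Fin n) K) =
      (s.1 : Matrix (Fin n) (Fin n) K) * ((z : GL (Fin n) K) : Matrix (Fin n) (Fin n) K) := by
    intro s
    have := congrArg (fun x : GU n K q => ((x : GL (Fin n) K) : Matrix (Fin n) (Fin n) K))
      (hz ((suEquiv n K q s).1))
    exact this.symm
  obtain ⟨hoff, hdiag⟩ := scalar_of_commute hK _ hZ
  set i0 : Fin n := ⟨0, by omega⟩ with hi0
  set ζ := ((z : GL (Fin n) K) : Matrix (Fin n) (Fin n) K) i0 i0 with hζdef
  have hZeq : ((z : GL (Fin n) K) : Matrix (Fin n) (Fin n) K) =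
      ζ • (1 : Matrix (Fin n) (Fin n) K) := by
    ext a b
    rw [Matrix.smul_apply, Matrix.one_apply, smul_eq_mul]
    by_cases hab : a = b
    · rw [if_pos hab, mul_one, hab, hζdef]; exact hdiag b i0
    · rw [if_neg hab, mul_zero]; exact hoff a b hab
  have hq := two_le_q hK
  have hmap : (ζ • (1 : Matrix (Fin n) (Fin n) K)).map (· ^ q) =
      ζ ^ q • (1 : Matrix (Fin n) (Fin n) K) := by
    ext a b
    rw [Matrix.map_apply, Matrix.smul_apply, Matrix.smul_apply, Matrix.one_apply, smul_eq_mul,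
      smul_eq_mul]
    by_cases hab : a = b
    · rw [if_pos hab, mul_one, mul_one]
    · rw [if_neg hab, mul_zero, mul_zero, zero_pow (by omega)]
  have hU := (mem_GU_iff hK z.1).mp z.2
  rw [hZeq, hmap, Matrix.transpose_smul, Matrix.transpose_one, Matrix.smul_mul, Matrix.mul_smul,
    Matrix.one_mul, smul_smul] at hU
  have hζ : ζ * ζ ^ q = 1 := by
    have := congrFun (congrFun hU i0) i0
    rw [Matrix.smul_apply, Matrix.one_apply_eq, smul_eq_mul, mul_one] at this
    exact this
  refine ⟨ζ, hζ, ?_⟩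
  apply Subtype.ext
  apply Units.ext
  exact hZeq

/-- the unit of `mu` attached to a norm-one scalar. -/
def muOf (ζ : K) (hζ : ζ * ζ ^ q = 1) : mu K q :=
  ⟨Units.mk0 ζ (by rintro rfl; rw [zero_mul] at hζ; exact zero_ne_one hζ), by
    rw [MonoidHom.mem_ker, powMonoidHom_apply]
    apply Units.ext
    rw [Units.val_pow_eq_pow_val, Units.val_mk0, Units.val_one, pow_succ']
    exact hζ⟩

theorem detMu_sg (hK : Fintype.card K = q ^ 2) (ζ : K) (hζ : ζ * ζ ^ q = 1) :
    detMu (n := n) hK (sg ζ hζ) = muOf ζ hζ ^ n := by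
  apply Subtype.ext
  apply Units.ext
  show ((detGU n K q (sg ζ hζ) : Kˣ) : K) = _
  rw [detGU_sg]
  simp [muOf]

theorem mem_ker_iff (hK : Fintype.card K = q ^ 2) (hn : 1 ≤ n) (x : GU n K q) :
    detMu (n := n) hK x ∈ PP K q n ↔
      x ∈ (Matrix.GeneralLinearGroup.det : GL (Fin n) K →* Kˣ).ker.subgroupOf (GU n K q) ⊔
        Subgroup.center (GU n K q) := by
  constructor
  · rintro ⟨u, hu⟩
    rw [powMonoidHom_apply] at hu
    have hζ : ((u : Kˣ) : K) * ((u : Kˣ) : K) ^ q = 1 := by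
      have := u.2
      rw [MonoidHom.mem_ker, powMonoidHom_apply] at this
      have h2 := congrArg Units.val this
      rw [Units.val_pow_eq_pow_val, Units.val_one, pow_succ'] at h2
      exact h2
    have hu' : muOf ((u : Kˣ) : K) hζ = u := by
      apply Subtype.ext
      apply Units.ext
      rfl
    have hx : x = (x * (sg ((u : Kˣ) : K) hζ)⁻¹) * sg ((u : Kˣ) : K) hζ := by
      rw [inv_mul_cancel_right]
    rw [hx]
    refine Subgroup.mul_mem_sup ?_ (sg_center _ hζ)
    rw [Subgroup.mem_subgroupOf, MonoidHom.mem_ker]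
    have h1 : detMu (n := n) hK (x * (sg ((u : Kˣ) : K) hζ)⁻¹) = 1 := by
      rw [map_mul, map_inv, detMu_sg hK, hu', hu, mul_inv_cancel]
    have h2 := congrArg (fun y : mu K q => (y : Kˣ)) h1
    exact h2
  · intro hx
    have hle : (Matrix.GeneralLinearGroup.det : GL (Fin n) K →* Kˣ).ker.subgroupOf (GU n K q) ⊔
        Subgroup.center (GU n K q) ≤ (PP K q n).comap (detMu (n := n) hK) := by
      apply sup_le
      · intro y hy
        rw [Subgroup.mem_subgroupOf, MonoidHom.mem_ker] at hy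
        rw [Subgroup.mem_comap]
        have : detMu (n := n) hK y = 1 := by
          apply Subtype.ext
          exact hy
        rw [this]
        exact Subgroup.one_mem _
      · intro z hz
        obtain ⟨ζ, hζ, rfl⟩ := center_scalar hK hn z hz
        rw [Subgroup.mem_comap, detMu_sg hK]
        exact ⟨muOf ζ hζ, rfl⟩
    exact hle hx

/-- PGU_n(q)/PSU_n(q) is cyclic of order (n, q+1): for n ≥ 2 and |F| = q² there is a surjective homomorphism from GU_n(q) onto the cyclic group of order gcd(n, q + 1) whose kernel is generated by the determinant-one elements together with the centre. -/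
theorem result {F : Type*} [Field F] [Fintype F] {q : ℕ} (hF : Fintype.card F = q ^ 2) (n : ℕ) (hn : 2 ≤ n) : ∃ φ : ↥(Cfsg.GU n F q) →* Multiplicative (ZMod (Nat.gcd n (q + 1))), Function.Surjective φ ∧ φ.ker = (Matrix.GeneralLinearGroup.det : Matrix.GeneralLinearGroup (Fin n) F →* Fˣ).ker.subgroupOf (Cfsg.GU n F q) ⊔ Subgroup.center ↥(Cfsg.GU n F q) := by
  have hg0 : Nat.gcd n (q + 1) ≠ 0 := (Nat.gcd_pos_of_pos_right n (Nat.succ_pos q)).ne'
  haveI : NeZero (Nat.gcd n (q + 1)) := ⟨hg0⟩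
  have hcard : Nat.card (mu F q ⧸ PP F q n) =
      Nat.card (Multiplicative (ZMod (Nat.gcd n (q + 1)))) := by
    rw [card_quot hF, Nat.card_congr Multiplicative.toAdd, Nat.card_zmod]
  let e : (mu F q ⧸ PP F q n) ≃* Multiplicative (ZMod (Nat.gcd n (q + 1))) :=
    mulEquivOfCyclicCardEq hcard
  refine ⟨e.toMonoidHom.comp ((QuotientGroup.mk' (PP F q n)).comp (detMu hF)), ?_, ?_⟩
  · exact e.surjective.comp ((QuotientGroup.mk'_surjective _).comp
      (detMu_surjective hF (by omega)))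
  · ext x
    rw [MonoidHom.mem_ker, MonoidHom.comp_apply, MonoidHom.comp_apply, ← mem_ker_iff hF (by omega)]
    rw [MulEquiv.coe_toMonoidHom, MulEquiv.map_eq_one_iff, QuotientGroup.mk'_apply,
      QuotientGroup.eq_one_iff]

end Cfsg.Agent.S0783
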