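import Mathlib
import Cfsg.Statements.S5891
import Cfsg.Agent.Helper8.PgA
import Cfsg.Agent.Helper8.PgL

set_option autoImplicit false
open Cfsg

namespace Cfsg.Agent.S5891

/-- Let F be a finite field of odd order q > 3 and characteristic p, and let M be a maximal subgroup of PGL₂(F) not containing the image L of SL₂(F) (a copy of PSL₂(F) of index 2). Then one of the following holds: |M| = q(q − 1) (M is the stabiliser of a point of the projective line); q ≠ 5 and M is dihedral of order 2(q − 1); M is dihedral of order 2(q + 1); q = p ≡ ±3 (mod 8) and M ≅ S₄; or q = q₀^r for an odd prime r and M ≅ PGL₂(F₀) with |F₀| = q₀. -/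
theorem result {F : Type*} [Field F] [Fintype F]
    (hodd : Odd (Fintype.card F)) (h3 : 3 < Fintype.card F) (M : Subgroup (Matrix.ProjGenLinGroup (Fin 2) F)) (hM : IsCoatom M)
    (hML : ¬ (Matrix.ProjGenLinGroup.mk.comp Matrix.SpecialLinearGroup.toGL).range ≤ M) :
    Nat.card M = Fintype.card F * (Fintype.card F - 1) ∨
    (Fintype.card F ≠ 5 ∧ Nonempty (M ≃* DihedralGroup (Fintype.card F - 1))) ∨
    Nonempty (M ≃* DihedralGroup (Fintype.card F + 1)) ∨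
    ((Fintype.card F).Prime ∧ (Fintype.card F % 8 = 3 ∨ Fintype.card F % 8 = 5) ∧ Nonempty (M ≃* Equiv.Perm (Fin 4))) ∨
    (∃ (F₀ : Type) (_ : Field F₀) (_ : Fintype F₀) (r : ℕ), r.Prime ∧ Odd r ∧ Fintype.card F = Fintype.card F₀ ^ r ∧
        Nonempty (M ≃* Matrix.ProjGenLinGroup (Fin 2) F₀)) := by
  obtain ⟨p, hp⟩ := CharP.exists F
  have hpp : Fact p.Prime := ⟨CharP.char_is_prime F p⟩
  rw [Cfsg.Agent.Helper8.Pg.range_eq_Lsub] at hML
  have hML' : ¬ M ≤ Cfsg.Agent.Helper8.Pg.Lsub F :=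
    Cfsg.Agent.Helper8.Pg.not_le_Lsub_of_coatom hodd hM hML
  rcases Cfsg.Agent.Helper8.Pg.pgl_cases p hodd M with h1 | ⟨C, hCM, hCbot, hnorm, hpg, hcomm⟩ |
    ⟨C, hCM, hCbot, hnorm, hcop, hcyc, hdih⟩ | ⟨⟨e⟩⟩ | ⟨⟨e⟩⟩ | ⟨⟨e⟩⟩ | ⟨K, _, _, hK, ⟨e⟩⟩ |
    ⟨K, _, _, r, hr, ⟨e⟩⟩
  · -- the trivial subgroup
    exfalso
    apply hML'
    rw [Subgroup.card_eq_one.mp h1]
    exact bot_le
  · exact Or.inl (Cfsg.Agent.Helper8.Pg.local_U p hodd h3 hM hML' hCbot hnorm hpg hcomm)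
  · rcases Cfsg.Agent.Helper8.Pg.local_T p hodd h3 hM hML' hCM hnorm hcop hcyc hdih with h | h
    · exact Or.inr (Or.inl h)
    · exact Or.inr (Or.inr (Or.inl h))
  · exact absurd (Cfsg.Agent.Helper8.Pg.le_Lsub_of_sq_prod hodd e Cfsg.Agent.Helper8.Pg.a4_sq) hML'
  · rcases Cfsg.Agent.Helper8.Pg.case_S4' p hodd h3 hM hML' e with ⟨h1, h2⟩ | ⟨-, ⟨e'⟩⟩
    · exact Or.inr (Or.inr (Or.inr (Or.inl ⟨h1, h2, ⟨e⟩⟩)))
    · obtain ⟨n, -, hn⟩ := FiniteField.card F p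
      have hr : Fintype.card (ZMod p) ^ (n : ℕ) = Fintype.card F := by rw [ZMod.card, hn]
      obtain ⟨hr1, hr2⟩ := Cfsg.Agent.Helper8.Pg.case_PGL' p hodd h3 hM hML' hr e'
      exact Or.inr (Or.inr (Or.inr (Or.inr ⟨ZMod p, inferInstance, inferInstance, n, hr1, hr2,
        hr.symm, ⟨e'⟩⟩)))
  · exact absurd (Cfsg.Agent.Helper8.Pg.le_Lsub_of_sq_prod hodd e Cfsg.Agent.Helper8.Pg.a5_sq) hML'
  · exact absurd (Cfsg.Agent.Helper8.Pg.le_Lsub_of_PSL hodd hK e) hML'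
  · obtain ⟨hr1, hr2⟩ := Cfsg.Agent.Helper8.Pg.case_PGL' p hodd h3 hM hML' hr e
    exact Or.inr (Or.inr (Or.inr (Or.inr ⟨K, inferInstance, inferInstance, r, hr1, hr2,
      hr.symm, ⟨e⟩⟩)))

end Cfsg.Agent.S5891
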