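import Mathlib
import Cfsg.Statements.S5892
import Cfsg.Agent.Helper8.DsT
import Cfsg.Agent.Helper8.DkMin

set_option autoImplicit false
open Cfsg

namespace Cfsg.Agent.S5892

/-- Let F be a finite field of odd order q ≥ 5 and characteristic p, and let M be a maximal subgroup of PSL₂(F). Then one of the following holds: |M| = q(q − 1)/2 (the stabiliser of a point of the projective line); q ≥ 13 and M is dihedral of order q − 1; q ∉ {7, 9} and M is dihedral of order q + 1; q = q₀² and M ≅ PGL₂(F₀) with |F₀| = q₀; q = q₀^r for an odd prime r and M ≅ PSL₂(F₀) with |F₀| = q₀; q ≡ ±1 (mod 10) with q = p or q = p², p ≡ ±3 (mod 10), and M ≅ A₅; q = p ≡ ±3 (mod 8), q ≢ ±1 (mod 10), and M ≅ A₄; or q = p ≡ ±1 (mod 8) and M ≅ S₄. -/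
theorem result {F : Type*} [Field F] [Fintype F] (p : ℕ)
    [Fact p.Prime] [CharP F p] (hodd : Odd (Fintype.card F)) (h5 : 5 ≤ Fintype.card F)
    (M : Subgroup (Matrix.ProjectiveSpecialLinearGroup (Fin 2) F)) (hM : IsCoatom M) :
    2 * Nat.card M = Fintype.card F * (Fintype.card F - 1) ∨
    (13 ≤ Fintype.card F ∧ (∃ k : ℕ, 2 * k = Fintype.card F - 1 ∧ Nonempty (M ≃* DihedralGroup k))) ∨
    (Fintype.card F ≠ 7 ∧ Fintype.card F ≠ 9 ∧ (∃ k : ℕ, 2 * k = Fintype.card F + 1 ∧ Nonempty (M ≃* DihedralGroup k))) ∨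
    (∃ (F₀ : Type) (_ : Field F₀) (_ : Fintype F₀), Fintype.card F = Fintype.card F₀ ^ 2 ∧
        Nonempty (M ≃* Matrix.ProjGenLinGroup (Fin 2) F₀)) ∨
    (∃ (F₀ : Type) (_ : Field F₀) (_ : Fintype F₀) (r : ℕ), r.Prime ∧ Odd r ∧ Fintype.card F = Fintype.card F₀ ^ r ∧
        Nonempty (M ≃* Matrix.ProjectiveSpecialLinearGroup (Fin 2) F₀)) ∨
    ((Fintype.card F % 10 = 1 ∨ Fintype.card F % 10 = 9) ∧
        (Fintype.card F = p ∨ (Fintype.card F = p ^ 2 ∧ (p % 10 = 3 ∨ p % 10 = 7))) ∧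
        Nonempty (M ≃* alternatingGroup (Fin 5))) ∨
    (Fintype.card F = p ∧ (p % 8 = 3 ∨ p % 8 = 5) ∧ ¬ (p % 10 = 1 ∨ p % 10 = 9) ∧
        Nonempty (M ≃* alternatingGroup (Fin 4))) ∨
    (Fintype.card F = p ∧ (p % 8 = 1 ∨ p % 8 = 7) ∧ Nonempty (M ≃* Equiv.Perm (Fin 4))) := by
  have h4 : 4 ≤ Fintype.card F := by omega
  rcases Cfsg.Agent.Helper8.Dk.proper_cases p M hM.1 with h1 | ⟨M', hM', -, hle⟩ | ⟨⟨e⟩⟩ | ⟨⟨e⟩⟩ |
    ⟨⟨e⟩⟩ | ⟨K, _, _, m, hm2, hm, ⟨⟨e⟩⟩ | ⟨⟨e⟩⟩⟩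
  · -- the trivial subgroup is not maximal
    exfalso
    have hMbot : M = ⊥ := Subgroup.card_eq_one.mp h1
    have hG := Cfsg.Agent.Helper8.Ds.two_mul_card_PSL2 hodd
    have hGcard : 1 < Nat.card (Matrix.ProjectiveSpecialLinearGroup (Fin 2) F) := by
      have : 5 * 1 ≤ Fintype.card F * (Fintype.card F ^ 2 - 1) := by
        apply Nat.mul_le_mul h5
        have : 5 ^ 2 ≤ Fintype.card F ^ 2 := Nat.pow_le_pow_left h5 2
        omega
      omega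
    have : Finite (Matrix.ProjectiveSpecialLinearGroup (Fin 2) F) :=
      Nat.finite_of_card_ne_zero (by omega)
    obtain ⟨x, hx⟩ : ∃ x : Matrix.ProjectiveSpecialLinearGroup (Fin 2) F, x ≠ 1 := by
      by_contra hne
      push Not at hne
      have : Subsingleton (Matrix.ProjectiveSpecialLinearGroup (Fin 2) F) :=
        ⟨fun a b => (hne a).trans (hne b).symm⟩
      have := Nat.card_eq_one_iff_unique.mpr ⟨this, ⟨1⟩⟩
      omega
    obtain ⟨M', hM', hxM'⟩ := Cfsg.Agent.Helper8.Dk.GM_cover x hx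
    have hlt : M < M' := by
      rw [hMbot, bot_lt_iff_ne_bot]
      intro hb
      rw [hb, Subgroup.mem_bot] at hxM'
      exact hx hxM'
    have htop := hM.2 _ hlt
    have hN := Cfsg.Agent.Helper8.Dk.card_lt_of_mem_GM h4 hM'
    rw [htop] at hN
    have hN2 : Subgroup.normalizer ((⊤ : Subgroup (Matrix.ProjectiveSpecialLinearGroup (Fin 2) F)) :
        Set (Matrix.ProjectiveSpecialLinearGroup (Fin 2) F)) = ⊤ :=
      Subgroup.normalizer_eq_top_iff.mpr inferInstance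
    rw [hN2, Subgroup.card_top] at hN
    exact lt_irrefl _ hN
  · rcases Cfsg.Agent.Helper8.Ds.local_case p hodd h5 hM hM' hle with h | h | h
    · exact Or.inl h
    · exact Or.inr (Or.inl h)
    · exact Or.inr (Or.inr (Or.inl h))
  · rcases Cfsg.Agent.Helper8.Ds.case_A4 p hodd h5 hM e with h | ⟨h1, h2, h3⟩
    · exact Or.inr (Or.inr (Or.inr (Or.inr (Or.inl h))))
    · exact Or.inr (Or.inr (Or.inr (Or.inr (Or.inr (Or.inr (Or.inl ⟨h1, h2, h3, ⟨e⟩⟩))))))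
  · rcases Cfsg.Agent.Helper8.Ds.case_S4 p hodd hM e with ⟨h1, h2⟩ | h9
    · exact Or.inr (Or.inr (Or.inr (Or.inr (Or.inr (Or.inr (Or.inr ⟨h1, h2, ⟨e⟩⟩))))))
    · obtain ⟨e'⟩ := Cfsg.Agent.Helper8.Ds.S4_equiv_PGL2_three
      have : Fact (Nat.Prime 3) := ⟨Nat.prime_three⟩
      exact Or.inr (Or.inr (Or.inr (Or.inl ⟨ZMod 3, inferInstance, inferInstance,
        by rw [h9, ZMod.card]; norm_num, ⟨e.trans e'⟩⟩)))
  · rcases Cfsg.Agent.Helper8.Ds.case_A5 p hodd h5 hM e with h | ⟨h1, h2⟩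
    · exact Or.inr (Or.inr (Or.inr (Or.inr (Or.inl h))))
    · exact Or.inr (Or.inr (Or.inr (Or.inr (Or.inr (Or.inl ⟨h1, h2, ⟨e⟩⟩)))))
  · obtain ⟨h1, h2⟩ := Cfsg.Agent.Helper8.Ds.case_PSL p hodd h5 hM hm2 hm e
    exact Or.inr (Or.inr (Or.inr (Or.inr (Or.inl ⟨K, inferInstance, inferInstance, m, h1, h2,
      hm.symm, ⟨e⟩⟩))))
  · have h2 := Cfsg.Agent.Helper8.Ds.case_PGL p hodd hM hm2 hm e
    subst h2
    exact Or.inr (Or.inr (Or.inr (Or.inl ⟨K, inferInstance, inferInstance, hm.symm, ⟨e⟩⟩)))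

end Cfsg.Agent.S5892
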