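import Mathlib
import Cfsg.Statements.S3820
import Cfsg.Agent.Helper5.Basic

set_option autoImplicit false
open Cfsg

namespace Cfsg.Agent.S3820

open Cfsg.Agent.Helper5

/-- conjugating a subgroup of `J` by an element of `J` stays in `J`. -/
lemma map_conj_le_of_mem {G : Type*} [Group G] (J X : Subgroup G) (hX : X ≤ J) (a : G) (ha : a ∈ J) :
    X.map (MulAut.conj a).toMonoidHom ≤ J := by
  rw [map_conj_le_iff]
  intro x hx
  exact J.mul_mem (J.mul_mem ha (hX hx)) (J.inv_mem ha)

/-- Call a subgroup H of G pronormal if H and gHg⁻¹ are conjugate inside ⟨H, gHg⁻¹⟩ for every g ∈ G. Let S ≤ H ≤ G be subgroups of a finite group with S pronormal in G (for instance S a Sylow subgroup). Then H is pronormal in G if and only if H and gHg⁻¹ are conjugate inside ⟨H, gHg⁻¹⟩ for every g ∈ N_G(S). In particular H is pronormal whenever N_G(S) ≤ H. -/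
theorem result {G : Type*} [Group G] [Finite G] (S H : Subgroup G) (hSH : S ≤ H)
    (hS : Cfsg.IsPronormal S) :
    Cfsg.IsPronormal H ↔
      ∀ g ∈ Subgroup.normalizer (S : Set G), ∃ w ∈ H ⊔ H.map (MulAut.conj g).toMonoidHom,
        H.map (MulAut.conj g).toMonoidHom = H.map (MulAut.conj w).toMonoidHom := by
  constructor
  · intro h g _
    exact h g
  · intro h g
    obtain ⟨w, hw, hwS⟩ := hS g
    set J := H ⊔ H.map (MulAut.conj g).toMonoidHom with hJ
    have hwJ : w ∈ J := by
      have : S ⊔ S.map (MulAut.conj g).toMonoidHom ≤ J :=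
        sup_le_sup hSH (Subgroup.map_mono hSH)
      exact this hw
    set n := w⁻¹ * g with hn
    have hnS : n ∈ Subgroup.normalizer (S : Set G) := by
      rw [mem_normalizer_iff_map_conj, hn, ← map_conj_map_conj, hwS, map_conj_map_conj,
        inv_mul_cancel, map_conj_one]
    obtain ⟨w', hw', hwH⟩ := h n hnS
    have hgwn : g = w * n := by rw [hn]; group
    have hnH : H.map (MulAut.conj n).toMonoidHom ≤ J := by
      rw [hn, ← map_conj_map_conj]
      exact map_conj_le_of_mem J _ le_sup_right _ (J.inv_mem hwJ)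
    have hw'J : w' ∈ J := by
      have : H ⊔ H.map (MulAut.conj n).toMonoidHom ≤ J := sup_le le_sup_left hnH
      exact this hw'
    refine ⟨w * w', J.mul_mem hwJ hw'J, ?_⟩
    rw [← map_conj_map_conj, ← hwH, map_conj_map_conj, ← hgwn]

end Cfsg.Agent.S3820
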