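import Mathlib
import Cfsg.Statements.S5029
import Cfsg.Agent.Helper8.RootCommC

set_option autoImplicit false
open Cfsg

namespace Cfsg.Agent.S5029

/-- Let S be a set of abstract root subgroups of G, A ∈ S having a rank one partner in S, and B ∈ S with C = ⁅A, B⁆ ∈ S. Then the members of S contained in AC are the conjugates of A by elements of B together with C, they partition AC, the members of S inside AC partition AC so that A is a line partner of C, and for every non-identity a ∈ A the map b ↦ a⁻¹ b⁻¹ a b is an isomorphism from B onto C. -/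
theorem result {G : Type*} [Group G] {S : Set (Subgroup G)} (hS : Cfsg.IsRootSubgroupSet S)
    {A B : Subgroup G} (hA : ¬ Cfsg.IsIsolatedIn (Cfsg.FAdj S) S A) (hAS : A ∈ S) (hB : B ∈ S) (hC : ⁅A, B⁆ ∈ S) :
    Cfsg.membersIn S (A ⊔ ⁅A, B⁆) = (fun b : G => Cfsg.conjBy A b) '' (B : Set G) ∪ {⁅A, B⁆} ∧
    Cfsg.IsSubgroupPartition (A ⊔ ⁅A, B⁆) (Cfsg.membersIn S (A ⊔ ⁅A, B⁆)) ∧
    A ∈ Cfsg.linePartners S ⁅A, B⁆ ∧
    ∀ a ∈ A, a ≠ 1 → ∃ φ : ↥B ≃* ↥⁅A, B⁆, ∀ b : ↥B, (φ b : G) = a⁻¹ * (b : G)⁻¹ * a * b := by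
  open Cfsg.Agent.Helper7.R1 Cfsg.Agent.Helper7.Root Cfsg.Agent.Helper8.RootComm in
  obtain ⟨P, hPS, hP⟩ := exists_partner hA hAS
  have h : RootCommutatorCase S A B := commCase_of_mem hS hAS hB hC
  have hmem : Cfsg.membersIn S (A ⊔ ⁅A, B⁆) =
      (fun b : G => Cfsg.conjBy A b) '' (B : Set G) ∪ {⁅A, B⁆} := by
    ext D
    constructor
    · rintro ⟨hD, hDle⟩
      rcases members_cases hS hAS hPS hP h hD hDle with ⟨b, hb, rfl⟩ | rfl
      · exact Or.inl ⟨b, hb, rfl⟩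
      · exact Or.inr rfl
    · rintro (⟨b, hb, rfl⟩ | rfl)
      · exact ⟨hS.conj_mem A hAS b, conjBy_le_sup hb⟩
      · exact ⟨hC, le_sup_right⟩
  have hpart : Cfsg.IsSubgroupPartition (A ⊔ ⁅A, B⁆) (Cfsg.membersIn S (A ⊔ ⁅A, B⁆)) := by
    refine ⟨fun D hD => hD.2, ?_, ?_⟩
    · intro x hx hx1
      obtain ⟨a, ha, c, hc, rfl⟩ := (mem_sup_iff h).1 hx
      by_cases ha1 : a = 1
      · subst ha1
        refine ⟨⁅A, B⁆, ⟨hC, le_sup_right⟩, ?_⟩
        simpa using hc
      · obtain ⟨b, hb, hm⟩ := exists_conj_mem h ha ha1 hc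
        exact ⟨conjBy A b, ⟨hS.conj_mem A hAS b, conjBy_le_sup hb⟩, hm⟩
    · have key : ∀ b ∈ B, ∀ D ∈ S, conjBy A b ≠ D → conjBy A b ⊓ D = ⊥ := by
        intro b _ D hD hne
        exact inf_eq_bot_of_partner hS (hS.conj_mem P hPS b) (isRankOnePair_conj hP b) hD hne
      intro D hD D' hD' hne
      have hDm := hD
      have hDm' := hD'
      rw [hmem] at hDm hDm'
      rcases hDm with ⟨b, hb, rfl⟩ | rfl
      · exact key b hb D' hD'.1 hne
      · rcases hDm' with ⟨b', hb', rfl⟩ | rfl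
        · rw [inf_comm]
          exact key b' hb' _ hC (Ne.symm hne)
        · exact absurd rfl hne
  refine ⟨hmem, hpart, ?_, ?_⟩
  · refine ⟨⟨hAS, left_ne_commutator hS h, ?_⟩, ?_⟩
    · rw [Subgroup.commutator_eq_bot_iff_le_centralizer]
      intro c hc
      rw [Subgroup.mem_centralizer_iff]
      intro a ha
      exact comm_left h ha hc
    · rw [sup_comm]
      exact hpart
  · intro a ha ha1
    exact exists_equiv hS hAS hPS hP h ha ha1

end Cfsg.Agent.S5029
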