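import Mathlib
import Cfsg.Statements.S5017
import Cfsg.Agent.Helper7.RankOneNormal

set_option autoImplicit false
open Cfsg

namespace Cfsg.Agent.S5017

open Cfsg.Agent.Helper7.R1

theorem quasisimple_of_perfect {X : Type*} [Group X] {A B : Subgroup X}
    (h : Cfsg.IsRankOneGroup X A B) (hperf : Group.IsPerfect X) : Cfsg.IsQuasisimple X := by
  refine ⟨hperf, ?_⟩
  have hnt : Nontrivial (X ⧸ Subgroup.center X) := by
    by_contra hnt
    rw [not_nontrivial_iff_subsingleton] at hnt
    have htop : Subgroup.center X = ⊤ := by
      rw [eq_top_iff]
      intro x _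
      have : (QuotientGroup.mk x : X ⧸ Subgroup.center X) = QuotientGroup.mk 1 :=
        Subsingleton.elim _ _
      rw [QuotientGroup.eq] at this
      simpa using this
    exact left_not_le_center h.2 (by rw [htop]; exact le_top)
  refine { toNontrivial := hnt, eq_bot_or_eq_top_of_normal := ?_ }
  intro M hM
  set N : Subgroup X := M.comap (QuotientGroup.mk' (Subgroup.center X)) with hNdef
  have hNn : N.Normal := hM.comap _
  have hMN : M = N.map (QuotientGroup.mk' (Subgroup.center X)) := by
    rw [hNdef, Subgroup.map_comap_eq_self_of_surjective (QuotientGroup.mk'_surjective _)]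
  rcases sup_eq_top_or_le_center h N hNn with hsup | hle
  · right
    -- X ⧸ N is a quotient of A, hence nilpotent, and perfect, hence trivial
    have hNtop : N = ⊤ := by
      by_contra hNne
      have hsurj : Function.Surjective ((QuotientGroup.mk' N).comp A.subtype) := by
        intro q
        obtain ⟨x, rfl⟩ := QuotientGroup.mk'_surjective N q
        have hx : x ∈ N ⊔ A := by rw [hsup]; trivial
        rw [← SetLike.mem_coe, Subgroup.normal_mul] at hx
        obtain ⟨n, hn, a, ha, rfl⟩ := hx
        refine ⟨⟨a, ha⟩, ?_⟩
        simp only [MonoidHom.coe_comp, Function.comp_apply, Subgroup.subtype_apply,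
          QuotientGroup.mk'_apply]
        rw [QuotientGroup.eq]
        have : a⁻¹ * (n * a) = a⁻¹ * n * a := by group
        rw [this]
        have := hNn.conj_mem n hn a⁻¹
        rwa [inv_inv] at this
      have := h.2.nilpotent_left
      have hnil : Group.IsNilpotent (X ⧸ N) := Group.nilpotent_of_surjective _ hsurj
      have hntq : Nontrivial (X ⧸ N) := by
        by_contra hc
        rw [not_nontrivial_iff_subsingleton] at hc
        apply hNne
        rw [eq_top_iff]
        intro x _
        have : (QuotientGroup.mk x : X ⧸ N) = QuotientGroup.mk 1 := Subsingleton.elim _ _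
        rw [QuotientGroup.eq] at this
        simpa using this
      exact Group.IsPerfect.not_isNilpotent (X ⧸ N) hnil
    rw [hMN, hNtop, ← MonoidHom.range_eq_map,
      MonoidHom.range_eq_top_of_surjective _ (QuotientGroup.mk'_surjective _)]
  · left
    rw [hMN, eq_bot_iff]
    rintro _ ⟨n, hn, rfl⟩
    rw [Subgroup.mem_bot, QuotientGroup.mk'_apply, QuotientGroup.eq_one_iff]
    exact hle hn

/-- Let X be a rank one group with unipotent subgroups A and B and N a normal subgroup of X. Then either X = N A or N lies in the centre of X. Consequently a perfect rank one group is quasisimple. -/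
theorem result {X : Type*} [Group X] {A B : Subgroup X} (h : Cfsg.IsRankOneGroup X A B) :
    (∀ N : Subgroup X, N.Normal → N ⊔ A = ⊤ ∨ N ≤ Subgroup.center X) ∧
    (Group.IsPerfect X → Cfsg.IsQuasisimple X) := by
  exact ⟨fun N hN => sup_eq_top_or_le_center h N hN, quasisimple_of_perfect h⟩

end Cfsg.Agent.S5017
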