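import Cfsg.Statements.S5022
import Cfsg.Agent.Helper8.SpecSL2F
-- import your own Cfsg.Agent.* helpers here

set_option autoImplicit false
open Cfsg

namespace Cfsg.Agent.S5022

open Cfsg.Agent.Helper7.R1 Cfsg.Agent.Helper8.SpecR1 Cfsg.Agent.Helper8.SpecSL2

/-- Let X be a special rank one group with abelian unipotent subgroups A and B, where A is an elementary abelian p-group for the prime p. Then for every non-identity a in A and the non-identity b in B with b⁻¹ A b = a⁻¹ B a, the subgroup generated by a and b is isomorphic to SL₂(p) or to PSL₂(p). -/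
theorem result {X : Type*} [Group X] {A B : Subgroup X} (h : Cfsg.IsRankOneGroup X A B)
    (hs : Cfsg.IsSpecialRankOnePair A B) (hab : Cfsg.HasAbelianUnipotents A B)
    {p : ℕ} [Fact p.Prime] (hA : Cfsg.IsElementaryAbelian p A)
    {a b : X} (ha : a ∈ A) (ha1 : a ≠ 1) (hb : b ∈ B) (hb1 : b ≠ 1) (hab' : Cfsg.conjBy A b⁻¹ = Cfsg.conjBy B a⁻¹) :
    Nonempty (↥(Subgroup.closure ({a, b} : Set X)) ≃* Matrix.SpecialLinearGroup (Fin 2) (ZMod p)) ∨
    Nonempty (↥(Subgroup.closure ({a, b} : Set X)) ≃* Matrix.ProjectiveSpecialLinearGroup (Fin 2) (ZMod p)) := by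
  have hpr : p.Prime := Fact.out
  have hpart : Partner A B a b := ⟨ha, ha1, hb, hb1, hab'⟩
  have hap : a ^ p = 1 := hA.2 a ha
  have hbp : b ^ p = 1 := (hpart.pow_eq_one_iff hs p).1 hap
  have hR : Rel p a b := rel_of_special hpr hs hA.2 hpart
  have hne : Subgroup.zpowers a ≠ Subgroup.zpowers b := by
    intro e
    have h1 : a ∈ Subgroup.zpowers b := e ▸ Subgroup.mem_zpowers a
    have h2 : a ∈ B := (Subgroup.zpowers_le.mpr hb) h1
    have h3 : a ∈ A ⊓ B := ⟨ha, h2⟩
    rw [inf_eq_bot hs.1, Subgroup.mem_bot] at h3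
    exact ha1 h3
  exact main_iso hR hap hbp ha1 hb1 hne

end Cfsg.Agent.S5022
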