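import Mathlib
import Cfsg.Statements.S5032
import Cfsg.Agent.Helper8.RootLineC

set_option autoImplicit false
open Cfsg

namespace Cfsg.Agent.S5032

/-- Let S be a set of abstract root subgroups of G with more than one member. Then the graph of rank one pairs on S is connected if and only if S is a single conjugacy class of G and some member of S has a rank one partner in S. -/
theorem result {G : Type*} [Group G] {S : Set (Subgroup G)} (hS : Cfsg.IsRootSubgroupSet S) (h2 : ∃ A ∈ S, ∃ B ∈ S, A ≠ B) :
    Cfsg.IsConnectedFamily (Cfsg.FAdj S) S ↔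
      (Cfsg.IsConjClassOfSubgroups S ∧ ∃ A ∈ S, ¬ Cfsg.IsIsolatedIn (Cfsg.FAdj S) S A) := by
  open Cfsg.Agent.Helper8.RootLine Cfsg.Agent.Helper8.RootSub in
  constructor
  · intro hconn
    obtain ⟨A, hA, B, hB, hne⟩ := h2
    refine ⟨isConjClass_of_connected ⟨A, hA⟩ hconn, A, hA, ?_⟩
    rcases Relation.ReflTransGen.cases_head (hconn A hA B hB) with e | ⟨X, hX, _⟩
    · exact absurd e hne
    · exact not_isolated_of_pair hA hX.2.1 hX.2.2
  · rintro ⟨hconj, hnon⟩
    exact connected_of_conjClass hS hconj hnon

end Cfsg.Agent.S5032
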