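import Cfsg.Statements.S2231
import Cfsg.Agent.Helper7.LinearCard

set_option autoImplicit false
open Cfsg

namespace Cfsg.Agent.S2231

section Heis

variable (p : ℕ) [Fact p.Prime]

/-- the upper unitriangular subgroup of `SL₃(ZMod p)` -/
def T : Subgroup (Matrix.SpecialLinearGroup (Fin 3) (ZMod p)) where
  carrier := {M | (M : Matrix (Fin 3) (Fin 3) (ZMod p)) 1 0 = 0 ∧
    (M : Matrix (Fin 3) (Fin 3) (ZMod p)) 2 0 = 0 ∧ (M : Matrix (Fin 3) (Fin 3) (ZMod p)) 2 1 = 0 ∧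
    (M : Matrix (Fin 3) (Fin 3) (ZMod p)) 0 0 = 1 ∧ (M : Matrix (Fin 3) (Fin 3) (ZMod p)) 1 1 = 1 ∧
    (M : Matrix (Fin 3) (Fin 3) (ZMod p)) 2 2 = 1}
  mul_mem' := by
    rintro A B ⟨a1, a2, a3, a4, a5, a6⟩ ⟨b1, b2, b3, b4, b5, b6⟩
    simp only [Set.mem_ofPred_eq, Matrix.SpecialLinearGroup.coe_mul, Matrix.mul_apply,
      Fin.sum_univ_three]
    simp [a1, a2, a3, a4, a5, a6, b1, b2, b3, b4, b5, b6]
  one_mem' := by simp
  inv_mem' := by
    rintro A ⟨a1, a2, a3, a4, a5, a6⟩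
    simp only [Set.mem_ofPred_eq, Matrix.SpecialLinearGroup.coe_inv, Matrix.adjugate_fin_three]
    simp [a1, a2, a3, a4, a5, a6]

theorem T_le_qd : T p ≤ Cfsg.qd p := by
  intro M hM
  apply Subgroup.subset_closure
  exact ⟨hM.2.1, hM.2.2.1, hM.2.2.2.2.2⟩

theorem T_isPGroup : IsPGroup p (T p) := by
  rintro ⟨M, hM⟩
  refine ⟨2, ?_⟩
  apply Subtype.ext
  apply Subtype.ext
  obtain ⟨a1, a2, a3, a4, a5, a6⟩ := hM
  show ((M ^ p ^ 2 : Matrix.SpecialLinearGroup (Fin 3) (ZMod p)) : Matrix (Fin 3) (Fin 3) (ZMod p)) = 1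
  rw [Matrix.SpecialLinearGroup.coe_pow]
  set N : Matrix (Fin 3) (Fin 3) (ZMod p) := (M : Matrix (Fin 3) (Fin 3) (ZMod p)) - 1 with hN
  have hMN : (M : Matrix (Fin 3) (Fin 3) (ZMod p)) = N + 1 := by rw [hN]; abel
  have hN3 : N ^ 3 = 0 := by
    rw [pow_succ, pow_two]
    ext i j
    fin_cases i <;> fin_cases j <;>
      simp [hN, Matrix.mul_apply, Fin.sum_univ_three, a1, a2, a3, a4, a5, a6]
  have hp2 : 3 ≤ p ^ 2 := by
    have := (Fact.out : p.Prime).two_le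
    nlinarith
  have hNp : N ^ p ^ 2 = 0 := by
    rw [← Nat.sub_add_cancel hp2, pow_add, hN3, mul_zero]
  rw [hMN, add_pow_char_pow_of_commute p 2 (Commute.one_right N), hNp, one_pow, zero_add]

/-- `1 + E₀₁` -/
def x0 : Matrix.SpecialLinearGroup (Fin 3) (ZMod p) :=
  ⟨!![1, 1, 0; 0, 1, 0; 0, 0, 1], by simp [Matrix.det_fin_three]⟩

/-- `1 + E₁₂` -/
def y0 : Matrix.SpecialLinearGroup (Fin 3) (ZMod p) :=
  ⟨!![1, 0, 0; 0, 1, 1; 0, 0, 1], by simp [Matrix.det_fin_three]⟩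

theorem x0_mem : x0 p ∈ T p := by
  show (!![1, 1, 0; 0, 1, 0; 0, 0, 1] : Matrix (Fin 3) (Fin 3) (ZMod p)) 1 0 = 0 ∧
    (!![1, 1, 0; 0, 1, 0; 0, 0, 1] : Matrix (Fin 3) (Fin 3) (ZMod p)) 2 0 = 0 ∧
    (!![1, 1, 0; 0, 1, 0; 0, 0, 1] : Matrix (Fin 3) (Fin 3) (ZMod p)) 2 1 = 0 ∧
    (!![1, 1, 0; 0, 1, 0; 0, 0, 1] : Matrix (Fin 3) (Fin 3) (ZMod p)) 0 0 = 1 ∧
    (!![1, 1, 0; 0, 1, 0; 0, 0, 1] : Matrix (Fin 3) (Fin 3) (ZMod p)) 1 1 = 1 ∧
    (!![1, 1, 0; 0, 1, 0; 0, 0, 1] : Matrix (Fin 3) (Fin 3) (ZMod p)) 2 2 = 1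
  simp

theorem y0_mem : y0 p ∈ T p := by
  show (!![1, 0, 0; 0, 1, 1; 0, 0, 1] : Matrix (Fin 3) (Fin 3) (ZMod p)) 1 0 = 0 ∧
    (!![1, 0, 0; 0, 1, 1; 0, 0, 1] : Matrix (Fin 3) (Fin 3) (ZMod p)) 2 0 = 0 ∧
    (!![1, 0, 0; 0, 1, 1; 0, 0, 1] : Matrix (Fin 3) (Fin 3) (ZMod p)) 2 1 = 0 ∧
    (!![1, 0, 0; 0, 1, 1; 0, 0, 1] : Matrix (Fin 3) (Fin 3) (ZMod p)) 0 0 = 1 ∧
    (!![1, 0, 0; 0, 1, 1; 0, 0, 1] : Matrix (Fin 3) (Fin 3) (ZMod p)) 1 1 = 1 ∧
    (!![1, 0, 0; 0, 1, 1; 0, 0, 1] : Matrix (Fin 3) (Fin 3) (ZMod p)) 2 2 = 1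
  simp

theorem x0_y0_ne : x0 p * y0 p ≠ y0 p * x0 p := by
  intro h
  haveI : Fact (1 < p) := ⟨(Fact.out : p.Prime).one_lt⟩
  have h1 : ((x0 p * y0 p : Matrix.SpecialLinearGroup (Fin 3) (ZMod p)) :
      Matrix (Fin 3) (Fin 3) (ZMod p)) 0 2 = 1 := by
    rw [Matrix.SpecialLinearGroup.coe_mul]
    show ((!![1, 1, 0; 0, 1, 0; 0, 0, 1] : Matrix (Fin 3) (Fin 3) (ZMod p)) *
      (!![1, 0, 0; 0, 1, 1; 0, 0, 1] : Matrix (Fin 3) (Fin 3) (ZMod p)) :
        Matrix (Fin 3) (Fin 3) (ZMod p)) 0 2 = 1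
    simp [Matrix.mul_apply, Fin.sum_univ_three]
  have h2 : ((y0 p * x0 p : Matrix.SpecialLinearGroup (Fin 3) (ZMod p)) :
      Matrix (Fin 3) (Fin 3) (ZMod p)) 0 2 = 0 := by
    rw [Matrix.SpecialLinearGroup.coe_mul]
    show ((!![1, 0, 0; 0, 1, 1; 0, 0, 1] : Matrix (Fin 3) (Fin 3) (ZMod p)) *
      (!![1, 1, 0; 0, 1, 0; 0, 0, 1] : Matrix (Fin 3) (Fin 3) (ZMod p)) :
        Matrix (Fin 3) (Fin 3) (ZMod p)) 0 2 = 0
    simp [Matrix.mul_apply, Fin.sum_univ_three]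
  rw [h, h2] at h1
  exact zero_ne_one h1

end Heis

section General

variable {G : Type*} [Group G] [Finite G] (p : ℕ) [Fact p.Prime]

/-- If one Sylow `p`-subgroup is commutative then all `p`-subgroups are. -/
theorem comm_of_sylow (P₀ : Sylow p G) (h₀ : ∀ a ∈ P₀, ∀ b ∈ P₀, a * b = b * a)
    (Q : Subgroup G) (hQ : IsPGroup p Q) : ∀ a ∈ Q, ∀ b ∈ Q, a * b = b * a := by
  obtain ⟨P, hQP⟩ := hQ.exists_le_sylow
  obtain ⟨g, hg⟩ := MulAction.exists_smul_eq G P P₀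
  intro a ha b hb
  have ha' : g * a * g⁻¹ ∈ P₀ := by
    rw [← hg, Sylow.smul_def]
    exact ⟨a, hQP ha, rfl⟩
  have hb' : g * b * g⁻¹ ∈ P₀ := by
    rw [← hg, Sylow.smul_def]
    exact ⟨b, hQP hb, rfl⟩
  have := h₀ _ ha' _ hb'
  have h2 : g * (a * b) * g⁻¹ = g * (b * a) * g⁻¹ := by
    calc g * (a * b) * g⁻¹ = (g * a * g⁻¹) * (g * b * g⁻¹) := by group
      _ = (g * b * g⁻¹) * (g * a * g⁻¹) := this
      _ = g * (b * a) * g⁻¹ := by group
  exact mul_left_cancel (mul_right_cancel h2)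

/-- Sections inherit commutativity of `p`-subgroups. -/
theorem comm_section (hG : ∀ Q : Subgroup G, IsPGroup p Q → ∀ a ∈ Q, ∀ b ∈ Q, a * b = b * a)
    (K R : Subgroup G) [(R.subgroupOf K).Normal]
    (Q' : Subgroup (K ⧸ R.subgroupOf K)) (hQ' : IsPGroup p Q') :
    ∀ a ∈ Q', ∀ b ∈ Q', a * b = b * a := by
  obtain ⟨P', hP'⟩ := hQ'.exists_le_sylow
  obtain ⟨P, hP⟩ := Sylow.mapSurjective_surjective
    (QuotientGroup.mk'_surjective (R.subgroupOf K)) p P'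
  have hPc : ∀ a ∈ P, ∀ b ∈ P, a * b = b * a := by
    intro a ha b hb
    have h1 : IsPGroup p ((P : Subgroup K).map K.subtype) := P.2.map _
    have := hG _ h1 (K.subtype a) ⟨a, ha, rfl⟩ (K.subtype b) ⟨b, hb, rfl⟩
    apply Subtype.ext
    exact this
  intro a ha b hb
  have ha' := hP' ha
  have hb' := hP' hb
  rw [← hP, Sylow.coe_mapSurjective] at ha' hb'
  obtain ⟨a0, ha0, rfl⟩ := ha'
  obtain ⟨b0, hb0, rfl⟩ := hb'
  rw [← map_mul, ← map_mul, hPc a0 ha0 b0 hb0]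

end General

section SL2

variable {K : Type*} [Field K] [Fintype K]

/-- the unipotent homomorphism -/
def uHom : Multiplicative K →* Matrix.SpecialLinearGroup (Fin 2) K where
  toFun t := ⟨!![1, Multiplicative.toAdd t; 0, 1], by simp [Matrix.det_fin_two]⟩
  map_one' := by
    apply Subtype.ext
    ext i j
    fin_cases i <;> fin_cases j <;> simp
  map_mul' s t := by
    apply Subtype.ext
    show (!![1, Multiplicative.toAdd (s * t); 0, 1] : Matrix (Fin 2) (Fin 2) K) =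
      (!![1, Multiplicative.toAdd s; 0, 1] : Matrix (Fin 2) (Fin 2) K) *
        (!![1, Multiplicative.toAdd t; 0, 1] : Matrix (Fin 2) (Fin 2) K)
    ext i j
    fin_cases i <;> fin_cases j <;> simp [Matrix.mul_apply, Fin.sum_univ_two, add_comm]

theorem uHom_injective : Function.Injective (uHom (K := K)) := by
  intro s t h
  have := congrArg (fun M : Matrix.SpecialLinearGroup (Fin 2) K => (M : Matrix (Fin 2) (Fin 2) K) 0 1) h
  change (!![1, Multiplicative.toAdd s; 0, 1] : Matrix (Fin 2) (Fin 2) K) 0 1 =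
    (!![1, Multiplicative.toAdd t; 0, 1] : Matrix (Fin 2) (Fin 2) K) 0 1 at this
  simpa using this

theorem card_SL2 : Nat.card (Matrix.SpecialLinearGroup (Fin 2) K) =
    Fintype.card K * (Fintype.card K ^ 2 - 1) := by
  have h1 := Matrix.card_GL_field (𝔽 := K) 2
  have h2 := Cfsg.Agent.Helper7.card_units_mul_card_SL (n := Fin 2) (F := K)
  have hq : 2 ≤ Fintype.card K := Fintype.one_lt_card
  rw [h1] at h2
  simp only [Fin.prod_univ_two, Fin.val_zero, pow_zero, Fin.val_one, pow_one] at h2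
  have h3 : Fintype.card K ^ 2 - Fintype.card K = Fintype.card K * (Fintype.card K - 1) := by
    rw [Nat.mul_sub, mul_one, pow_two]
  rw [h3] at h2
  have hpos : 0 < Fintype.card K - 1 := by omega
  have h4 : (Fintype.card K - 1) * Nat.card (Matrix.SpecialLinearGroup (Fin 2) K) =
      (Fintype.card K - 1) * (Fintype.card K * (Fintype.card K ^ 2 - 1)) := by
    rw [h2]; ring
  exact Nat.eq_of_mul_eq_mul_left hpos h4

theorem index_range_uHom : (uHom (K := K)).range.index = Fintype.card K ^ 2 - 1 := by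
  have h1 := Subgroup.card_mul_index (uHom (K := K)).range
  have h2 : Nat.card (uHom (K := K)).range = Fintype.card K := by
    rw [Nat.card_congr (MonoidHom.ofInjective uHom_injective).toEquiv.symm]
    simp [Nat.card_eq_fintype_card]
  rw [h2, card_SL2] at h1
  have hq : 0 < Fintype.card K := Fintype.card_pos
  exact Nat.eq_of_mul_eq_mul_left hq h1

variable (p : ℕ) [Fact p.Prime] [CharP K p]

theorem psl2_pSubgroups_comm
    (Q : Subgroup (Matrix.ProjectiveSpecialLinearGroup (Fin 2) K)) (hQ : IsPGroup p Q) :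
    ∀ a ∈ Q, ∀ b ∈ Q, a * b = b * a := by
  obtain ⟨n, -, hn⟩ := FiniteField.card K p
  set π := QuotientGroup.mk' (Subgroup.center (Matrix.SpecialLinearGroup (Fin 2) K)) with hπ
  set U' := (uHom (K := K)).range.map π with hU'
  have hUp : IsPGroup p (uHom (K := K)).range := by
    have h0 : IsPGroup p (Multiplicative K) := by
      apply IsPGroup.of_card (n := n)
      rw [Nat.card_eq_fintype_card]
      simpa using hn
    exact h0.of_surjective (uHom (K := K)).rangeRestrict (uHom (K := K)).rangeRestrict_surjective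
  have hU'p : IsPGroup p U' := hUp.map π
  have hidx : ¬ p ∣ U'.index := by
    intro h
    have h1 := h.trans ((uHom (K := K)).range.index_map_dvd (QuotientGroup.mk'_surjective _))
    rw [index_range_uHom, hn] at h1
    have h2 : p ∣ (p ^ (n : ℕ)) ^ 2 := dvd_pow (dvd_pow_self p n.ne_zero) (by norm_num)
    have h3 : 1 ≤ (p ^ (n : ℕ)) ^ 2 := pow_pos (pow_pos (Fact.out : p.Prime).pos _) _
    have h4 : p ∣ 1 := by
      have := (Nat.dvd_sub h2 h1)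
      rwa [Nat.sub_sub_self h3] at this
    exact (Fact.out : p.Prime).one_lt.ne' (Nat.dvd_one.mp h4)
  refine comm_of_sylow p (hU'p.toSylow hidx) ?_ Q hQ
  intro a ha b hb
  rw [IsPGroup.mem_toSylow] at ha hb
  obtain ⟨a0, ⟨s, rfl⟩, rfl⟩ := ha
  obtain ⟨b0, ⟨t, rfl⟩, rfl⟩ := hb
  rw [← map_mul, ← map_mul, ← map_mul, ← map_mul, mul_comm]

end SL2

theorem result {p : ℕ} [Fact p.Prime] (hp : p ≠ 2) {K : Type*} [Field K] [Fintype K] [CharP K p] : ¬ Cfsg.Involves ↥(Cfsg.qd p) (Matrix.ProjectiveSpecialLinearGroup (Fin 2) K) := by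
  rintro ⟨K0, R, hN, ⟨φ⟩⟩
  haveI := hN
  set Tq : Subgroup ↥(Cfsg.qd p) := (T p).subgroupOf (Cfsg.qd p) with hTq
  have hTqp : IsPGroup p Tq := (T_isPGroup p).comap_subtype
  have hQ' : IsPGroup p (Tq.map φ.symm.toMonoidHom) := hTqp.map _
  let x : ↥(Cfsg.qd p) := ⟨x0 p, T_le_qd p (x0_mem p)⟩
  let y : ↥(Cfsg.qd p) := ⟨y0 p, T_le_qd p (y0_mem p)⟩
  have hx : x ∈ Tq := by
    rw [hTq, Subgroup.mem_subgroupOf]
    exact x0_mem p
  have hy : y ∈ Tq := by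
    rw [hTq, Subgroup.mem_subgroupOf]
    exact y0_mem p
  have hcomm := comm_section p (psl2_pSubgroups_comm (K := K) p) K0 R _ hQ'
    (φ.symm x) ⟨x, hx, rfl⟩ (φ.symm y) ⟨y, hy, rfl⟩
  rw [← map_mul, ← map_mul] at hcomm
  have h2 := φ.symm.injective hcomm
  apply x0_y0_ne p
  exact congrArg Subtype.val h2

end Cfsg.Agent.S2231
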