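import Cfsg.Statements.S2624
import Cfsg.Agent.Helper8.QuadForm
import Mathlib

set_option autoImplicit false
open Cfsg

namespace Cfsg.Agent.S2624

open Module Cfsg.Agent.Helper8.QuadForm

/-- For a quadratic form Q on F^n with non-degenerate polar form, F finite and n ≥ 2 even, every non-zero scalar c is the multiplier of some similarity: there is an invertible linear map g with Q(g v) = c·Q(v) for all v. -/
theorem result {F : Type*} [Field F] [Fintype F] {n : ℕ} (hn : 2 ≤ n) (he : Even n) (Q : QuadraticForm F (Fin n → F)) (hQ : (QuadraticMap.polarBilin Q).Nondegenerate) (c : F) (hc : c ≠ 0) : ∃ g : (Fin n → F) ≃ₗ[F] (Fin n → F), ∀ v, Q (g v) = c * Q v := by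
  classical
  obtain ⟨k, rfl⟩ : ∃ k, n = 2 * (k + 1) := by
    obtain ⟨r, hr⟩ := he
    exact ⟨r - 1, by omega⟩
  have hV : finrank F (Fin (2 * (k + 1)) → F) = 2 * (k + 1) := Module.finrank_fin_fun F
  have hnd := (nondeg_iff Q).mp hQ
  rcases exists_std_family k hV Q hnd with ⟨e, f, hhyp⟩ |
    ⟨e, f, x, y, hhyp, hpx, hpy, hx, hxy, hζ⟩
  · obtain ⟨b, hb⟩ := hhyp.exists_basis Q hV
    obtain ⟨h1, h2, h3⟩ := hhyp
    have h2' : ∀ i j, QuadraticMap.polar Q (f i) (e j) = if i = j then 1 else 0 := by
      intro i j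
      rw [QuadraticMap.polar_comm, h2 j i]
      simp only [eq_comm]
    suffices key : ∃ g : (Fin (2 * (k + 1)) → F) ≃ₗ[F] (Fin (2 * (k + 1)) → F),
        (∀ v, Q (g v) = c * Q v) ∧ ∀ i, g (b i) = Sum.elim (fun i => c • e i) f i by
      obtain ⟨g, hg, -⟩ := key
      exact ⟨g, hg⟩
    refine exists_similarity Q hnd b (Sum.elim (fun i => c • e i) f) hc ?_ ?_
    · rw [hb]
      rintro (i | i)
      · simp only [Sum.elim_inl, QuadraticMap.map_smul, (h1 i).1, smul_zero, mul_zero]
      · simp only [Sum.elim_inr, (h1 i).2, mul_zero]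
    · rw [hb]
      rintro (i | i) (j | j)
      · simp only [Sum.elim_inl, QuadraticMap.polar_smul_left, QuadraticMap.polar_smul_right,
          (h3 i j).1, smul_zero, mul_zero]
      · simp only [Sum.elim_inl, Sum.elim_inr, QuadraticMap.polar_smul_left, smul_eq_mul]
      · simp only [Sum.elim_inl, Sum.elim_inr, QuadraticMap.polar_smul_right, smul_eq_mul]
      · simp only [Sum.elim_inr, (h3 i j).2, mul_zero]
  · obtain ⟨b, hb⟩ := exists_elliptic_basis Q hhyp (by rw [hV]; ring) hpx hpy hx hxy hζ
    obtain ⟨h1, h2, h3⟩ := hhyp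
    obtain ⟨α, β, hαβ⟩ := exists_norm_eq hζ c
    have hyx : QuadraticMap.polar Q y x = 1 := by rw [QuadraticMap.polar_comm]; exact hxy
    have hxe : ∀ i, QuadraticMap.polar Q x (e i) = 0 := fun i => by
      rw [QuadraticMap.polar_comm]; exact (hpx i).1
    have hxf : ∀ i, QuadraticMap.polar Q x (f i) = 0 := fun i => by
      rw [QuadraticMap.polar_comm]; exact (hpx i).2
    have hye : ∀ i, QuadraticMap.polar Q y (e i) = 0 := fun i => by
      rw [QuadraticMap.polar_comm]; exact (hpy i).1
    have hyf : ∀ i, QuadraticMap.polar Q y (f i) = 0 := fun i => by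
      rw [QuadraticMap.polar_comm]; exact (hpy i).2
    have hex : ∀ i, QuadraticMap.polar Q (e i) x = 0 := fun i => (hpx i).1
    have hfx : ∀ i, QuadraticMap.polar Q (f i) x = 0 := fun i => (hpx i).2
    have hey : ∀ i, QuadraticMap.polar Q (e i) y = 0 := fun i => (hpy i).1
    have hfy : ∀ i, QuadraticMap.polar Q (f i) y = 0 := fun i => (hpy i).2
    have h2' : ∀ i j, QuadraticMap.polar Q (f i) (e j) = if i = j then 1 else 0 := by
      intro i j
      rw [QuadraticMap.polar_comm, h2 j i]
      simp only [eq_comm]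
    suffices key : ∃ g : (Fin (2 * (k + 1)) → F) ≃ₗ[F] (Fin (2 * (k + 1)) → F),
        (∀ v, Q (g v) = c * Q v) ∧ ∀ i, g (b i) = Sum.elim (Sum.elim (fun i => c • e i) f)
        ![α • x + β • y, (-(β * Q y)) • x + (α + β) • y] i by
      obtain ⟨g, hg, -⟩ := key
      exact ⟨g, hg⟩
    refine exists_similarity Q hnd b (Sum.elim (Sum.elim (fun i => c • e i) f)
        ![α • x + β • y, (-(β * Q y)) • x + (α + β) • y]) hc ?_ ?_
    · rw [hb]
      rintro ((i | i) | i)
      · simp only [Sum.elim_inl, QuadraticMap.map_smul, (h1 i).1, smul_zero, mul_zero]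
      · simp only [Sum.elim_inl, Sum.elim_inr, (h1 i).2, mul_zero]
      · fin_cases i
        · show Q (α • x + β • y) = c * Q x
          rw [QuadraticMap.map_add Q, QuadraticMap.map_smul, QuadraticMap.map_smul, hx,
            QuadraticMap.polar_smul_left, QuadraticMap.polar_smul_right, hxy, ← hαβ]
          simp only [smul_eq_mul]
          ring
        · show Q ((-(β * Q y)) • x + (α + β) • y) = c * Q y
          rw [QuadraticMap.map_add Q, QuadraticMap.map_smul, QuadraticMap.map_smul, hx,
            QuadraticMap.polar_smul_left, QuadraticMap.polar_smul_right, hxy, ← hαβ]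
          simp only [smul_eq_mul]
          ring
    · rw [hb]
      have h3e : ∀ i j, QuadraticMap.polar Q (e i) (e j) = 0 := fun i j => (h3 i j).1
      have h3f : ∀ i j, QuadraticMap.polar Q (f i) (f j) = 0 := fun i j => (h3 i j).2
      have hxx : QuadraticMap.polar Q x x = 2 := by rw [polar_self', hx, mul_one]
      have hyy : QuadraticMap.polar Q y y = 2 * Q y := polar_self' Q y
      rintro ((i | i) | i) ((j | j) | j)
      all_goals try fin_cases i
      all_goals try fin_cases j
      all_goals
        simp only [Sum.elim_inl, Sum.elim_inr, Matrix.cons_val_zero, Matrix.cons_val_one,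
          Matrix.cons_val_fin_one, Fin.zero_eta, Fin.mk_one, Fin.isValue,
          QuadraticMap.polar_add_left, QuadraticMap.polar_add_right,
          QuadraticMap.polar_smul_left, QuadraticMap.polar_smul_right, smul_eq_mul,
          h3e, h3f, h2, h2', hex, hfx, hey, hfy, hxe, hxf, hye, hyf, hxy, hyx, hxx, hyy]
      all_goals rw [← hαβ]
      all_goals ring

end Cfsg.Agent.S2624
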