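import Mathlib
import Cfsg.Statements.S0752

set_option autoImplicit false
open Cfsg

namespace Cfsg.Agent.S0752

/-- The inductive statement: a symplectic family together with a family spanning the radical. -/
def HasSymplecticFamily {F V : Type*} [Field F] [AddCommGroup V] [Module F V]
    (B : LinearMap.BilinForm F V) : Prop :=
  ∃ (m k : ℕ) (e f : Fin m → V) (r : Fin k → V),
    (∀ i j, B (e i) (f j) = if i = j then 1 else 0) ∧ (∀ i j, B (e i) (e j) = 0) ∧
    (∀ i j, B (f i) (f j) = 0) ∧ (∀ j v, B (r j) v = 0) ∧
    Submodule.span F (Set.range e ∪ Set.range f ∪ Set.range r) = ⊤ ∧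
    2 * m + k = Module.finrank F V

theorem hasSymplecticFamily {F : Type*} [Field F] (n : ℕ) :
    ∀ {V : Type*} [AddCommGroup V] [Module F V] [FiniteDimensional F V]
      (B : LinearMap.BilinForm F V), B.IsAlt → Module.finrank F V = n → HasSymplecticFamily B := by
  induction n using Nat.strong_induction_on with
  | _ n ih =>
    intro V _ _ _ B hA hn
    by_cases hzero : ∀ u v : V, B u v = 0
    · -- the zero form
      refine ⟨0, n, Fin.elim0, Fin.elim0, fun j => Module.finBasisOfFinrankEq F V hn j,
        fun i => i.elim0, fun i => i.elim0, fun i => i.elim0, fun j v => hzero _ _, ?_, ?_⟩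
      · rw [eq_top_iff, ← (Module.finBasisOfFinrankEq F V hn).span_eq]
        apply Submodule.span_mono
        exact Set.subset_union_right
      · omega
    · push Not at hzero
      obtain ⟨u, v₀, huv₀⟩ := hzero
      set v := (B u v₀)⁻¹ • v₀ with hvdef
      have huv : B u v = 1 := by
        rw [hvdef, map_smul, smul_eq_mul, inv_mul_cancel₀ huv₀]
      have hvu : B v u = -1 := by rw [← hA.neg_eq u v, huv]
      have huu : B u u = 0 := hA u
      have hvv : B v v = 0 := hA v
      -- the orthogonal complement of the hyperbolic plane
      let φ : V →ₗ[F] F × F := (B u).prod (B v)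
      have hφ : ∀ x, φ x = (B u x, B v x) := fun x => rfl
      set W : Submodule F V := LinearMap.ker φ with hW
      have hmemW : ∀ x, x ∈ W ↔ B u x = 0 ∧ B v x = 0 := by
        intro x
        rw [hW, LinearMap.mem_ker, hφ, Prod.mk_eq_zero]
      have hsurj : Function.Surjective φ := by
        rintro ⟨a, b⟩
        refine ⟨a • v - b • u, ?_⟩
        rw [hφ]
        simp only [map_sub, map_smul, smul_eq_mul, huv, hvu, huu, hvv]
        ext <;> simp
      have hdim : Module.finrank F W + 2 = n := by
        have h1 : Module.finrank F (LinearMap.range φ) + Module.finrank F W = Module.finrank F V :=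
          LinearMap.finrank_range_add_finrank_ker φ
        rw [LinearMap.range_eq_top.mpr hsurj, finrank_top, Module.finrank_prod,
          Module.finrank_self, hn] at h1
        omega
      have hAW : (B.restrict W).IsAlt := fun w => hA (w : V)
      obtain ⟨m, k, e', f', r', hef, hee, hff, hr, hspan, hcount⟩ :=
        ih (Module.finrank F W) (by omega) (B.restrict W) hAW rfl
      -- orthogonality of `u`, `v` with `W`
      have hWu : ∀ w : W, B u (w : V) = 0 := fun w => ((hmemW _).mp w.2).1
      have hWv : ∀ w : W, B v (w : V) = 0 := fun w => ((hmemW _).mp w.2).2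
      have hWu' : ∀ w : W, B (w : V) u = 0 := fun w => by
        rw [← neg_eq_zero, hA.neg_eq, hWu]
      have hWv' : ∀ w : W, B (w : V) v = 0 := fun w => by
        rw [← neg_eq_zero, hA.neg_eq, hWv]
      -- decomposition of an arbitrary vector
      have hdecomp : ∀ x : V, x - B u x • v + B v x • u ∈ W := by
        intro x
        rw [hmemW]
        constructor
        · simp only [map_add, map_sub, map_smul, smul_eq_mul, huv, huu]; ring
        · simp only [map_add, map_sub, map_smul, smul_eq_mul, hvv, hvu]; ring
      refine ⟨m + 1, k, Fin.cons u (fun i => (e' i : V)), Fin.cons v (fun i => (f' i : V)),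
        fun j => (r' j : V), ?_, ?_, ?_, ?_, ?_, ?_⟩
      · intro i j
        refine Fin.cases ?_ (fun i => ?_) i <;> refine Fin.cases ?_ (fun j => ?_) j
        · simp [huv]
        · simp only [Fin.cons_zero, Fin.cons_succ]
          rw [hWu, if_neg (Fin.succ_ne_zero j).symm]
        · simp only [Fin.cons_zero, Fin.cons_succ]
          rw [hWv', if_neg (Fin.succ_ne_zero i)]
        · simp only [Fin.cons_succ, Fin.succ_inj]
          exact hef i j
      · intro i j
        refine Fin.cases ?_ (fun i => ?_) i <;> refine Fin.cases ?_ (fun j => ?_) j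
        · simp [huu]
        · simp only [Fin.cons_zero, Fin.cons_succ]; exact hWu _
        · simp only [Fin.cons_zero, Fin.cons_succ]; exact hWu' _
        · simp only [Fin.cons_succ]; exact hee i j
      · intro i j
        refine Fin.cases ?_ (fun i => ?_) i <;> refine Fin.cases ?_ (fun j => ?_) j
        · simp [hvv]
        · simp only [Fin.cons_zero, Fin.cons_succ]; exact hWv _
        · simp only [Fin.cons_zero, Fin.cons_succ]; exact hWv' _
        · simp only [Fin.cons_succ]; exact hff i j
      · intro j x
        have h0 := hr j ⟨_, hdecomp x⟩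
        change B (r' j : V) (x - B u x • v + B v x • u) = 0 at h0
        simp only [map_add, map_sub, map_smul, smul_eq_mul, hWu', hWv', mul_zero, add_zero,
          sub_zero] at h0
        exact h0
      · -- spanning
        set S : Set V := Set.range (Fin.cons u (fun i => (e' i : V)) : Fin (m + 1) → V) ∪
          Set.range (Fin.cons v (fun i => (f' i : V)) : Fin (m + 1) → V) ∪
          Set.range (fun j => (r' j : V)) with hS
        have hu : u ∈ Submodule.span F S :=
          Submodule.subset_span (Or.inl (Or.inl ⟨0, by simp⟩))
        have hv : v ∈ Submodule.span F S :=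
          Submodule.subset_span (Or.inl (Or.inr ⟨0, by simp⟩))
        have hWle : W ≤ Submodule.span F S := by
          intro w hw
          have h1 : (⟨w, hw⟩ : W) ∈ Submodule.span F
              (Set.range e' ∪ Set.range f' ∪ Set.range r') := by
            rw [hspan]; trivial
          have h2 : w ∈ (Submodule.span F (Set.range e' ∪ Set.range f' ∪ Set.range r')).map
              W.subtype := ⟨_, h1, rfl⟩
          rw [Submodule.map_span] at h2
          refine Submodule.span_mono ?_ h2
          rintro _ ⟨y, hy, rfl⟩
          rcases hy with (⟨i, rfl⟩ | ⟨i, rfl⟩) | ⟨j, rfl⟩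
          · exact Or.inl (Or.inl ⟨i.succ, by simp⟩)
          · exact Or.inl (Or.inr ⟨i.succ, by simp⟩)
          · exact Or.inr ⟨j, rfl⟩
        rw [eq_top_iff]
        intro x _
        have hx : x = (x - B u x • v + B v x • u) + B u x • v - B v x • u := by abel
        rw [hx]
        exact Submodule.sub_mem _ (Submodule.add_mem _ (hWle (hdecomp x))
          (Submodule.smul_mem _ _ hv)) (Submodule.smul_mem _ _ hu)
      · omega

/-- Classification of alternating forms: for an alternating bilinear form B on a finite-dimensional space over any field there is a basis indexed by (Fin m ⊕ Fin m) ⊕ Fin k such that B (e_i, f_j) = δ_ij, the e's are pairwise orthogonal, the f's are pairwise orthogonal, and the last k basis vectors are orthogonal to everything (they span the radical). -/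
theorem result {F V : Type*} [Field F] [AddCommGroup V] [Module F V] [FiniteDimensional F V] (B : LinearMap.BilinForm F V) (hA : B.IsAlt) : ∃ (m k : ℕ) (b : Module.Basis ((Fin m ⊕ Fin m) ⊕ Fin k) F V), (∀ i j : Fin m, B (b (Sum.inl (Sum.inl i))) (b (Sum.inl (Sum.inr j))) = if i = j then 1 else 0) ∧ (∀ i j : Fin m, B (b (Sum.inl (Sum.inl i))) (b (Sum.inl (Sum.inl j))) = 0) ∧ (∀ i j : Fin m, B (b (Sum.inl (Sum.inr i))) (b (Sum.inl (Sum.inr j))) = 0) ∧ (∀ (j : Fin k) (v : V), B (b (Sum.inr j)) v = 0) := by
  obtain ⟨m, k, e, f, r, hef, hee, hff, hr, hspan, hcount⟩ :=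
    hasSymplecticFamily (F := F) _ B hA rfl
  set c : (Fin m ⊕ Fin m) ⊕ Fin k → V := Sum.elim (Sum.elim e f) r with hc
  have hle : ⊤ ≤ Submodule.span F (Set.range c) := by
    rw [hc, Set.Sum.elim_range, Set.Sum.elim_range, hspan]
  have hcard : Fintype.card ((Fin m ⊕ Fin m) ⊕ Fin k) = Module.finrank F V := by
    simp only [Fintype.card_sum, Fintype.card_fin]
    omega
  refine ⟨m, k, basisOfTopLeSpanOfCardEqFinrank c hle hcard, ?_, ?_, ?_, ?_⟩
  all_goals simp only [coe_basisOfTopLeSpanOfCardEqFinrank, hc, Sum.elim_inl, Sum.elim_inr]
  · exact hef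
  · exact hee
  · exact hff
  · exact hr

end Cfsg.Agent.S0752
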