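import Mathlib
import Cfsg.Statements.S0833
import Cfsg.Agent.S0752

set_option autoImplicit false
open Cfsg

namespace Cfsg.Agent.S0833

open Module TensorProduct

variable {F U W : Type*} [Field F] [AddCommGroup U] [Module F U] [AddCommGroup W] [Module F W]

theorem tmul_apply_tmul (B₁ : LinearMap.BilinForm F U) (B₂ : LinearMap.BilinForm F W) (u u' : U)
    (w w' : W) : (B₁.tmul B₂) (u ⊗ₜ w) (u' ⊗ₜ w') = B₁ u u' * B₂ w w' := by
  rw [LinearMap.BilinForm.tmul, LinearMap.BilinForm.tensorDistrib_tmul, smul_eq_mul, mul_comm]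

attribute [local ext] TensorProduct.ext in
theorem tmul_isSymm_of_isAlt {B₁ : LinearMap.BilinForm F U} {B₂ : LinearMap.BilinForm F W}
    (hA₁ : B₁.IsAlt) (hA₂ : B₂.IsAlt) : (B₁.tmul B₂).IsSymm := by
  rw [LinearMap.isSymm_iff_eq_flip]
  ext x₁ x₂ y₁ y₂
  change (B₁.tmul B₂) (x₁ ⊗ₜ x₂) (y₁ ⊗ₜ y₂) = (B₁.tmul B₂) (y₁ ⊗ₜ y₂) (x₁ ⊗ₜ x₂)
  rw [tmul_apply_tmul, tmul_apply_tmul, ← hA₁.neg_eq y₁ x₁, ← hA₂.neg_eq y₂ x₂]
  ring

theorem tmul_nondegenerate [FiniteDimensional F U] [FiniteDimensional F W]
    {B₁ : LinearMap.BilinForm F U} {B₂ : LinearMap.BilinForm F W}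
    (h₁ : B₁.Nondegenerate) (h₂ : B₂.Nondegenerate) : (B₁.tmul B₂).Nondegenerate := by
  classical
  let b₁ := Module.finBasis F U
  let b₂ := Module.finBasis F W
  apply (LinearMap.BilinForm.nondegenerate_iff_det_ne_zero (b₁.tensorProduct b₂)).mpr
  have hM : LinearMap.BilinForm.toMatrix (b₁.tensorProduct b₂) (B₁.tmul B₂) =
      Matrix.kroneckerMap (· * ·) (LinearMap.BilinForm.toMatrix b₁ B₁)
        (LinearMap.BilinForm.toMatrix b₂ B₂) := by
    ext ⟨i, j⟩ ⟨i', j'⟩
    rw [LinearMap.BilinForm.toMatrix_apply, Matrix.kroneckerMap_apply,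
      LinearMap.BilinForm.toMatrix_apply, LinearMap.BilinForm.toMatrix_apply,
      Basis.tensorProduct_apply, Basis.tensorProduct_apply, tmul_apply_tmul]
  rw [hM, Matrix.det_kronecker]
  exact mul_ne_zero
    (pow_ne_zero _ ((LinearMap.BilinForm.nondegenerate_iff_det_ne_zero b₁).mp h₁))
    (pow_ne_zero _ ((LinearMap.BilinForm.nondegenerate_iff_det_ne_zero b₂).mp h₂))

/-- A Lagrangian subspace: totally isotropic of dimension `k` when `dim U = 2k` and the form is
non-degenerate alternating. -/
theorem exists_lagrangian [FiniteDimensional F U] {B₁ : LinearMap.BilinForm F U}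
    (h₁ : B₁.Nondegenerate) (hA₁ : B₁.IsAlt) (k : ℕ) (hU : finrank F U = 2 * k) :
    ∃ L : Submodule F U, finrank F L = k ∧ ∀ x ∈ L, ∀ y ∈ L, B₁ x y = 0 := by
  obtain ⟨m, r, e, f, rad, hef, hee, hff, hrad, hspan, hdim⟩ :=
    Cfsg.Agent.S0752.hasSymplecticFamily (F := F) _ B₁ hA₁ rfl
  -- the radical part is trivial
  have hr0 : ∀ j, rad j = 0 := fun j => h₁.1 (rad j) (hrad j)
  -- `e` is linearly independent
  have hli : LinearIndependent F e := by
    rw [Fintype.linearIndependent_iff]
    intro g hg i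
    have := congrArg (fun v => B₁ v (f i)) hg
    simp only [map_sum, map_smul, LinearMap.sum_apply, LinearMap.smul_apply, hef, smul_eq_mul,
      mul_ite, mul_one, mul_zero, Finset.sum_ite_eq', Finset.mem_univ, if_true, map_zero,
      LinearMap.zero_apply] at this
    exact this
  refine ⟨Submodule.span F (Set.range e), ?_, ?_⟩
  · rw [finrank_span_eq_card hli, Fintype.card_fin]
    -- `2 m + r = 2 k` and `r = 0`
    by_cases hr : r = 0
    · omega
    · exfalso
      obtain ⟨r', rfl⟩ := Nat.exists_eq_succ_of_ne_zero hr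
      -- then the span is generated by `2m` vectors only
      have hle : finrank F U ≤ 2 * m := by
        have hsp : Submodule.span F (Set.range e ∪ Set.range f) = ⊤ := by
          rw [← hspan]
          apply le_antisymm
          · exact Submodule.span_mono Set.subset_union_left
          · rw [Submodule.span_le]
            rintro v ((hv | hv) | ⟨j, rfl⟩)
            · exact Submodule.subset_span (Or.inl hv)
            · exact Submodule.subset_span (Or.inr hv)
            · rw [hr0 j]; exact Submodule.zero_mem _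
        have h1 : Set.range e ∪ Set.range f = Set.range (Sum.elim e f) := by
          rw [Set.Sum.elim_range]
        rw [h1] at hsp
        have h2 := finrank_range_le_card (R := F) (Sum.elim e f)
        rw [Set.finrank, hsp, finrank_top] at h2
        simpa [two_mul] using h2
      omega
  · intro x hx y hy
    refine Submodule.span_induction ?_ ?_ ?_ ?_ hx
    · rintro _ ⟨i, rfl⟩
      refine Submodule.span_induction ?_ ?_ ?_ ?_ hy
      · rintro _ ⟨j, rfl⟩
        exact hee i j
      · simp
      · intro a b _ _ ha hb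
        rw [map_add, ha, hb, add_zero]
      · intro c a _ ha
        rw [map_smul, ha, smul_zero]
    · simp
    · intro a b _ _ ha hb
      rw [map_add, LinearMap.add_apply, ha, hb, add_zero]
    · intro c a _ ha
      rw [map_smul, LinearMap.smul_apply, ha, smul_zero]

/-- If B₁, B₂ are non-degenerate alternating forms on U (dim 2k) and W (dim 2l), then B₁ ⊗ B₂ on U ⊗ W is symmetric, non-degenerate, and vanishes identically on some subspace of dimension 2kl (half of dim U ⊗ W). -/
theorem result {F U W : Type*} [Field F] [Fintype F] [AddCommGroup U] [Module F U] [FiniteDimensional F U] [AddCommGroup W] [Module F W] [FiniteDimensional F W] (B₁ : LinearMap.BilinForm F U) (B₂ : LinearMap.BilinForm F W) (h₁ : B₁.Nondegenerate) (h₂ : B₂.Nondegenerate) (hA₁ : B₁.IsAlt) (hA₂ : B₂.IsAlt) (k l : ℕ) (hU : Module.finrank F U = 2 * k) (hW : Module.finrank F W = 2 * l) : (B₁.tmul B₂).IsSymm ∧ (B₁.tmul B₂).Nondegenerate ∧ (∃ X : Submodule F (TensorProduct F U W), Module.finrank F X = 2 * k * l ∧ ∀ x ∈ X, ∀ y ∈ X,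 (B₁.tmul B₂) x y = 0) := by
  refine ⟨tmul_isSymm_of_isAlt hA₁ hA₂, tmul_nondegenerate h₁ h₂, ?_⟩
  obtain ⟨L, hLdim, hL⟩ := exists_lagrangian h₁ hA₁ k hU
  refine ⟨LinearMap.range (LinearMap.rTensor W L.subtype), ?_, ?_⟩
  · have hinj : Function.Injective (LinearMap.rTensor W L.subtype) :=
      Module.Flat.rTensor_preserves_injective_linearMap _ L.injective_subtype
    rw [LinearMap.finrank_range_of_inj hinj, Module.finrank_tensorProduct, hLdim, hW]
    ring
  · rintro _ ⟨x, rfl⟩ _ ⟨y, rfl⟩
    induction x using TensorProduct.induction_on with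
    | zero => simp
    | tmul a w =>
      induction y using TensorProduct.induction_on with
      | zero => simp
      | tmul a' w' =>
        rw [LinearMap.rTensor_tmul, LinearMap.rTensor_tmul, tmul_apply_tmul]
        rw [Submodule.subtype_apply, Submodule.subtype_apply, hL a a.2 a' a'.2, zero_mul]
      | add y₁ y₂ h1 h2 => rw [map_add, map_add, h1, h2, add_zero]
    | add x₁ x₂ h1 h2 => rw [map_add, map_add, LinearMap.add_apply, h1, h2, add_zero]

end Cfsg.Agent.S0833
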