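import Cfsg.Statements.S2594
import Cfsg.Agent.Helper8.SpOrder
import Mathlib

set_option autoImplicit false
open Cfsg

namespace Cfsg.Agent.S2594

open Matrix Cfsg.Agent.Helper7.Symp

variable {F : Type*} [Field F] {m : ℕ}

/-- A matrix of rank one is an outer product. -/
theorem exists_vecMulVec {ι : Type*} [Fintype ι] [DecidableEq ι] (N : Matrix ι ι F)
    (h : N.rank = 1) : ∃ u c : ι → F, N = vecMulVec u c := by
  unfold Matrix.rank at h
  obtain ⟨u', -, hu'⟩ := finrank_eq_one_iff'.mp h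
  have hex : ∀ j : ι, ∃ c : F, c • (u' : ι → F) = N *ᵥ Pi.single j 1 := by
    intro j
    obtain ⟨c, hc⟩ := hu' ⟨N *ᵥ Pi.single j 1, ⟨Pi.single j 1, rfl⟩⟩
    exact ⟨c, congrArg Subtype.val hc⟩
  choose c hc using hex
  refine ⟨(u' : ι → F), c, ?_⟩
  ext i j
  have := congrFun (hc j) i
  rw [Matrix.mulVec_single_one] at this
  rw [Matrix.vecMulVec_apply, mul_comm]
  exact this.symm

/-- a symplectic matrix `t` with `rank (t - 1) = 1` is a transvection. -/
theorem exists_transvection (t : symplecticGroup (Fin m) F)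
    (ht : ((t : Matrix (Fin m ⊕ Fin m) (Fin m ⊕ Fin m) F) - 1).rank = 1) :
    ∃ (a : Fin m ⊕ Fin m → F) (c : F), a ≠ 0 ∧ c ≠ 0 ∧
      ∀ x, (t : Matrix (Fin m ⊕ Fin m) (Fin m ⊕ Fin m) F) *ᵥ x = x + (c * sympForm m F x a) • a := by
  obtain ⟨a, b, hab⟩ := exists_vecMulVec _ ht
  have htx : ∀ x, (t : Matrix (Fin m ⊕ Fin m) (Fin m ⊕ Fin m) F) *ᵥ x = x + (b ⬝ᵥ x) • a := by
    intro x
    have : (t : Matrix (Fin m ⊕ Fin m) (Fin m ⊕ Fin m) F) = 1 + vecMulVec a b := by
      rw [← hab]; abel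
    rw [this, add_mulVec, one_mulVec, vecMulVec_mulVec, op_smul_eq_smul]
  have hne : vecMulVec a b ≠ 0 := by
    intro h0
    rw [hab, h0, Matrix.rank_zero] at ht
    exact zero_ne_one ht
  have ha : a ≠ 0 := by
    rintro rfl
    apply hne
    ext i j; simp [vecMulVec_apply]
  have hb : b ≠ 0 := by
    rintro rfl
    apply hne
    ext i j; simp [vecMulVec_apply]
  -- the form is preserved
  have key : ∀ x y, (b ⬝ᵥ y) * sympForm m F x a = (b ⬝ᵥ x) * sympForm m F y a := by
    intro x y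
    have h := sympForm_mulVec t x y
    rw [htx, htx, sympForm_add_left, sympForm_add_right, sympForm_add_right, sympForm_smul_left,
      sympForm_smul_left, sympForm_smul_right, sympForm_smul_right, sympForm_self,
      sympForm_swap a y] at h
    linear_combination h
  obtain ⟨i, hi⟩ : ∃ i, b i ≠ 0 := by
    by_contra h
    push Not at h
    exact hb (funext h)
  have hy0 : b ⬝ᵥ (Pi.single i 1 : Fin m ⊕ Fin m → F) ≠ 0 := by
    rw [dotProduct_single, mul_one]; exact hi
  set y0 : Fin m ⊕ Fin m → F := Pi.single i 1 with hy0def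
  set κ := sympForm m F y0 a / (b ⬝ᵥ y0) with hκ
  have h1 : ∀ x, sympForm m F x a = (b ⬝ᵥ x) * κ := by
    intro x
    have := key x y0
    rw [hκ]
    field_simp
    linear_combination this
  have hκ0 : κ ≠ 0 := by
    intro h0
    obtain ⟨y, hy⟩ := exists_sympForm_ne_zero ha
    apply hy
    rw [sympForm_swap, h1 y, h0, mul_zero, neg_zero]
  refine ⟨a, κ⁻¹, ha, inv_ne_zero hκ0, fun x => ?_⟩
  rw [htx, h1 x]
  congr 2
  field_simp

/-- in characteristic two the centraliser of a transvection is the stabiliser of its centre. -/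
theorem commute_iff [CharP F 2] (t : symplecticGroup (Fin m) F) {a : Fin m ⊕ Fin m → F} {c : F}
    (ha : a ≠ 0) (hc : c ≠ 0)
    (htx : ∀ x, (t : Matrix (Fin m ⊕ Fin m) (Fin m ⊕ Fin m) F) *ᵥ x
      = x + (c * sympForm m F x a) • a)
    (g : symplecticGroup (Fin m) F) :
    g * t = t * g ↔ (g : Matrix (Fin m ⊕ Fin m) (Fin m ⊕ Fin m) F) *ᵥ a = a := by
  constructor
  · intro h
    have hx : ∀ x, (c * sympForm m F x a) • ((g : Matrix (Fin m ⊕ Fin m) (Fin m ⊕ Fin m) F) *ᵥ a)
        = (c * sympForm m F ((g : Matrix (Fin m ⊕ Fin m) (Fin m ⊕ Fin m) F) *ᵥ x) a) • a := by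
      intro x
      have h2 := congrArg (fun k : symplecticGroup (Fin m) F =>
        (k : Matrix (Fin m ⊕ Fin m) (Fin m ⊕ Fin m) F) *ᵥ x) h
      simp only [coe_mul_mulVec] at h2
      rw [htx, htx, mulVec_add, mulVec_smul] at h2
      exact add_left_cancel h2
    obtain ⟨x0, hx0⟩ := exists_sympForm_ne_zero ha
    have hx0' : sympForm m F x0 a ≠ 0 := by
      rw [sympForm_swap]; exact neg_ne_zero.mpr hx0
    set lam := sympForm m F ((g : Matrix (Fin m ⊕ Fin m) (Fin m ⊕ Fin m) F) *ᵥ x0) a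
      / sympForm m F x0 a with hlam
    have hga : (g : Matrix (Fin m ⊕ Fin m) (Fin m ⊕ Fin m) F) *ᵥ a = lam • a := by
      have := hx x0
      have h3 := congrArg (fun v => (c * sympForm m F x0 a)⁻¹ • v) this
      simp only [smul_smul] at h3
      rw [inv_mul_cancel₀ (mul_ne_zero hc hx0'), one_smul] at h3
      rw [h3, hlam]
      congr 1
      field_simp
    -- `lam ^ 2 = 1`
    have h4 : sympForm m F ((g : Matrix (Fin m ⊕ Fin m) (Fin m ⊕ Fin m) F) *ᵥ x0) a
        = lam * sympForm m F x0 a := by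
      rw [hlam]; field_simp
    have h5 : lam * sympForm m F ((g : Matrix (Fin m ⊕ Fin m) (Fin m ⊕ Fin m) F) *ᵥ x0) a
        = sympForm m F x0 a := by
      rw [← sympForm_smul_right, ← hga, sympForm_mulVec]
    rw [h4] at h5
    have h6 : lam * lam = 1 := by
      have : (lam * lam - 1) * sympForm m F x0 a = 0 := by linear_combination h5
      rcases mul_eq_zero.mp this with h | h
      · linear_combination h
      · exact absurd h hx0'
    have h7 : lam = 1 := by
      have h8 : (lam + 1) * (lam + 1) = 0 := by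
        have h2 : (2 : F) = 0 := CharTwo.two_eq_zero
        linear_combination h6 + lam * h2 + h2
      have h9 : lam + 1 = 0 := by
        rcases mul_eq_zero.mp h8 with h | h <;> exact h
      have h2 : (2 : F) = 0 := CharTwo.two_eq_zero
      linear_combination h9 - h2
    rw [hga, h7, one_smul]
  · intro hga
    apply Subtype.ext
    show (g : Matrix (Fin m ⊕ Fin m) (Fin m ⊕ Fin m) F) * (t : Matrix (Fin m ⊕ Fin m) (Fin m ⊕ Fin m) F)
      = (t : Matrix (Fin m ⊕ Fin m) (Fin m ⊕ Fin m) F) * (g : Matrix (Fin m ⊕ Fin m) (Fin m ⊕ Fin m) F)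
    apply Matrix.toLin'.injective
    apply LinearMap.ext
    intro x
    rw [Matrix.toLin'_apply, Matrix.toLin'_apply, ← mulVec_mulVec, ← mulVec_mulVec, htx, htx,
      mulVec_add, mulVec_smul, hga]
    congr 3
    conv_rhs => rw [← hga]
    rw [sympForm_mulVec]

/-- Over a finite field with q elements, q even, an element t of Sp_2m(F) with rank(t − 1) = 1 (a symplectic transvection) has centraliser in Sp_2m(F) of order q^(2m−1) · |Sp_(2m−2)(q)| = q^(2m−1) · q^((m−1)²) · Π_(i=1)^(m−1) (q^(2i) − 1). -/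
theorem result {F : Type*} [Field F] [Fintype F] [CharP F 2] {q : ℕ} (hF : Fintype.card F = q) {m : ℕ} (hm : 1 ≤ m) (t : Matrix.symplecticGroup (Fin m) F) (ht : ((t : Matrix (Fin m ⊕ Fin m) (Fin m ⊕ Fin m) F) - 1).rank = 1) : Nat.card ↥(Subgroup.centralizer ({t} : Set ↥(Matrix.symplecticGroup (Fin m) F))) = q ^ (2 * m - 1) * (q ^ ((m - 1) ^ 2) * ∏ i : Fin (m - 1), (q ^ (2 * ((i : ℕ) + 1)) - 1)) := by
  obtain ⟨a, c, ha, hc, htx⟩ := exists_transvection t ht
  have h1 : Nat.card ↥(Subgroup.centralizer ({t} : Set ↥(Matrix.symplecticGroup (Fin m) F))) =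
      Nat.card {g : symplecticGroup (Fin m) F //
        (g : Matrix (Fin m ⊕ Fin m) (Fin m ⊕ Fin m) F) *ᵥ a = a} := by
    refine Nat.card_congr (Equiv.subtypeEquivRight fun g => ?_)
    rw [Subgroup.mem_centralizer_singleton_iff, ← commute_iff t ha hc htx g]
  have h2 := Cfsg.Agent.Helper8.SpOrder.card_stab_vec m ha
  have h3 := Cfsg.Agent.Helper8.SpOrder.card_symp (F := F) m
  rw [h1]
  subst hF
  obtain ⟨k, rfl⟩ : ∃ k, m = k + 1 := ⟨m - 1, by omega⟩
  rw [h3, Finset.prod_range_succ] at h2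
  have hq : 1 < Fintype.card F := Fintype.one_lt_card
  have hpos : 0 < Fintype.card F ^ (2 * (k + 1)) - 1 := by
    have : 1 < Fintype.card F ^ (2 * (k + 1)) := Nat.one_lt_pow (by omega) hq
    omega
  have h4 : Fintype.card F ^ ((k + 1) ^ 2) *
      ∏ i ∈ Finset.range k, (Fintype.card F ^ (2 * (i + 1)) - 1) =
      Nat.card {g : symplecticGroup (Fin (k + 1)) F //
        (g : Matrix (Fin (k + 1) ⊕ Fin (k + 1)) (Fin (k + 1) ⊕ Fin (k + 1)) F) *ᵥ a = a} := by
    apply Nat.eq_of_mul_eq_mul_left hpos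
    rw [← h2]; ring
  rw [← h4]
  have h5 : ∏ i : Fin (k + 1 - 1), (Fintype.card F ^ (2 * ((i : ℕ) + 1)) - 1) =
      ∏ i ∈ Finset.range k, (Fintype.card F ^ (2 * (i + 1)) - 1) := by
    rw [Fin.prod_univ_eq_prod_range (fun i => Fintype.card F ^ (2 * (i + 1)) - 1) (k + 1 - 1)]
    rfl
  rw [h5]
  have h6 : (k + 1) ^ 2 = (2 * (k + 1) - 1) + (k + 1 - 1) ^ 2 := by
    have e1 : 2 * (k + 1) - 1 = 2 * k + 1 := by omega
    have e2 : k + 1 - 1 = k := by omega
    rw [e1, e2]; ring
  rw [h6, pow_add]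
  ring

end Cfsg.Agent.S2594
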