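import Cfsg.Statements.S2644
import Cfsg.Agent.S2594
import Cfsg.Agent.Helper8.SUCenter
import Cfsg.Agent.Helper8.UnitaryLines
import Mathlib

set_option autoImplicit false
open Cfsg

namespace Cfsg.Agent.S2644

open Matrix Cfsg.Agent.Helper8.GUOrder Cfsg.Agent.Helper8.SUCenter Cfsg.Agent.Helper7.Herm
  Cfsg.Agent.Helper8.UnitaryLines

variable {K : Type*} [Field K] [Fintype K] {q n : ℕ}

/-- vectors orthogonal to a nonzero isotropic vector with prescribed fixed norm. -/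
theorem D_fix (hK : Fintype.card K = q ^ 2) {u : Fin n → K} (hu0 : u ≠ 0)
    (hu : hermForm n K q u u = 0) {c : K} (hc : c ^ q = c) :
    q * A n K q c = q * D n K q u 0 c + (q ^ 2 - 1) * (q ^ 2) ^ (n - 1) := by
  classical
  have hq := two_le_q hK
  have h1 : ∀ s : K, s ≠ 0 → q * D n K q u s c = (q ^ 2) ^ (n - 1) := by
    intro s hs
    rw [← card_hyper hK hu0 s, sum_D hK u s]
    have h2 : ∀ c' : {c : K // c ^ q = c}, D n K q u s c'.1 = D n K q u s c := fun c' =>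
      D_uniform hK hu hs c'.2 hc
    simp only [h2, Finset.sum_const, smul_eq_mul]
    rw [Finset.card_univ, ← Nat.card_eq_fintype_card, card_fixed hK]
  rw [sum_A u c, ← Finset.add_sum_erase Finset.univ _ (Finset.mem_univ (0 : K)), mul_add,
    Finset.mul_sum]
  congr 1
  rw [Finset.sum_congr rfl (fun s hs => h1 s (Finset.ne_of_mem_erase hs)), Finset.sum_const,
    Finset.card_erase_of_mem (Finset.mem_univ _), Finset.card_univ, hK, smul_eq_mul]

/-- a unit vector orthogonal to a given nonzero isotropic vector. -/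
theorem exists_unit_perp (hK : Fintype.card K = q ^ 2) (hn : 3 ≤ n) {u : Fin n → K}
    (hu0 : u ≠ 0) (hu : hermForm n K q u u = 0) :
    ∃ e : Fin n → K, hermForm n K q e u = 0 ∧ hermForm n K q e e = 1 := by
  have hq := two_le_q hK
  have h1 := D_fix hK hu0 hu (c := 1) (one_pow q)
  have h2 := (A_closed hK n).2
  by_contra hne
  have h3 : D n K q u 0 1 = 0 := by
    unfold D
    rw [Nat.card_eq_zero]
    left
    exact ⟨fun w => hne ⟨w.1, w.2.1, w.2.2⟩⟩
  rw [h3, mul_zero, zero_add] at h1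
  have h4 := congrArg (Nat.cast : ℕ → ℤ) h1
  push_cast [Nat.cast_sub (Nat.one_le_pow 2 q (by omega))] at h4
  rw [h2] at h4
  -- q^(2n) - (-q)^n = (q^2 - 1) q^(2n-2)
  obtain ⟨k, rfl⟩ : ∃ k, n = k + 3 := ⟨n - 3, by omega⟩
  have hqz : (2 : ℤ) ≤ q := by exact_mod_cast hq
  have h5 : ((q : ℤ) ^ 2) ^ (k + 3 - 1) = (q : ℤ) ^ (2 * k + 4) := by
    rw [← pow_mul]; congr 1
  rw [h5] at h4
  have h6 : (q : ℤ) ^ (2 * (k + 3)) = (q : ℤ) ^ (2 * k + 4) * (q : ℤ) ^ 2 := by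
    rw [← pow_add]; congr 1
  have h7 : (-(q : ℤ)) ^ (k + 3) = (q : ℤ) ^ (2 * k + 4) := by
    rw [h6] at h4
    linear_combination -h4
  have h8 : |(-(q : ℤ)) ^ (k + 3)| = (q : ℤ) ^ (k + 3) := by
    rw [abs_pow, abs_neg, abs_of_nonneg (by omega)]
  rw [h7, abs_of_nonneg (by positivity)] at h8
  have h9 : (q : ℤ) ^ (k + 3) < (q : ℤ) ^ (2 * k + 4) :=
    pow_lt_pow_right₀ (by omega) (by omega)
  omega

theorem exists_GU_of_ne_zero (hK : Fintype.card K = q ^ 2) {u v : Fin n → K}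
    (hu : hermForm n K q u u = 0) (hv : hermForm n K q v v = 0)
    (huv : hermForm n K q u v ≠ 0) :
    ∃ g ∈ GU n K q, (g : Matrix (Fin n) (Fin n) K) *ᵥ u = v := by
  obtain ⟨α, hα⟩ : ∃ α, α = hermForm n K q u v := ⟨_, rfl⟩
  rw [← hα] at huv
  have hvu : hermForm n K q v u = α ^ q := by rw [hα]; exact hermForm_swap hK v u
  have huw : hermForm n K q u (u - v) = -α := by
    rw [hermForm_sub_right hK, hu, ← hα]; ring
  have hww : hermForm n K q (u - v) (u - v) = -(α + α ^ q) := by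
    rw [hermForm_sub_left, huw, hermForm_sub_right hK, hvu, hv]; ring
  have hαq : α ^ q ≠ 0 := pow_ne_zero _ huv
  have hc : (α⁻¹) ^ q + α⁻¹ + α⁻¹ * (α⁻¹) ^ q * hermForm n K q (u - v) (u - v) = 0 := by
    rw [hww, inv_pow]
    field_simp
    ring
  refine ⟨TG (u - v) α⁻¹ hc, TG_mem hK _ _ hc, ?_⟩
  show unitaryTransvection n q (u - v) α⁻¹ *ᵥ u = v
  rw [unitaryTransvection_mulVec, huw, mul_neg, inv_mul_cancel₀ huv, neg_smul, one_smul]
  abel

theorem exists_connecting (hK : Fintype.card K = q ^ 2) (hn : 3 ≤ n) {u v : Fin n → K}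
    (hu0 : u ≠ 0) (hv0 : v ≠ 0) (hu : hermForm n K q u u = 0) (hv : hermForm n K q v v = 0) :
    ∃ z : Fin n → K, hermForm n K q z z = 0 ∧ hermForm n K q z u ≠ 0 ∧
      hermForm n K q z v ≠ 0 := by
  have hq := two_le_q hK
  by_contra hne
  push Not at hne
  have hle : A n K q 0 ≤ D n K q u 0 0 + D n K q v 0 0 := by
    have h1 : A n K q 0 = {z : Fin n → K | hermForm n K q z z = 0}.ncard := by
      unfold A
      rw [← Nat.card_coe_set_eq]
      rfl
    have h2 : ∀ w : Fin n → K, D n K q w 0 0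
        = {z : Fin n → K | hermForm n K q z w = 0 ∧ hermForm n K q z z = 0}.ncard := by
      intro w
      unfold D
      rw [← Nat.card_coe_set_eq]
      rfl
    rw [h1, h2 u, h2 v]
    refine le_trans (Set.ncard_le_ncard ?_ (Set.toFinite _)) (Set.ncard_union_le _ _)
    intro z hz
    by_cases hzu : hermForm n K q z u = 0
    · left; exact ⟨hzu, hz⟩
    · right; exact ⟨hne z hz hzu, hz⟩
  have h1 := D_zero hK hu0 hu
  have h2 := D_zero hK hv0 hv
  have h3 := (A_closed hK n).1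
  obtain ⟨k, rfl⟩ : ∃ k, n = k + 3 := ⟨n - 3, by omega⟩
  have hqz : (2 : ℤ) ≤ q := by exact_mod_cast hq
  have h4 : 2 * ((q ^ 2 - 1) * (q ^ 2) ^ (k + 3 - 1)) ≤ q * A (k + 3) K q 0 := by
    have : q * A (k + 3) K q 0 ≤ q * D (k + 3) K q u 0 0 + q * D (k + 3) K q v 0 0 := by
      rw [← mul_add]
      exact Nat.mul_le_mul_left _ hle
    omega
  have h5 : (2 : ℤ) * (((q : ℤ) ^ 2 - 1) * (q : ℤ) ^ (2 * k + 4)) ≤ q * A (k + 3) K q 0 := by
    have := (Nat.cast_le (α := ℤ)).mpr h4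
    push_cast [Nat.cast_sub (Nat.one_le_pow 2 q (by omega))] at this
    have h6 : ((q : ℤ) ^ 2) ^ (k + 2) = (q : ℤ) ^ (2 * k + 4) := by
      rw [← pow_mul]; congr 1
    rw [h6] at this
    exact this
  rw [h3] at h5
  have h7 : (-(q : ℤ)) ^ (k + 3) ≤ (q : ℤ) ^ (k + 3) := by
    have : (-(q : ℤ)) ^ (k + 3) ≤ |(-(q : ℤ)) ^ (k + 3)| := le_abs_self _
    rwa [abs_pow, abs_neg, abs_of_nonneg (by omega)] at this
  have h8 : (q : ℤ) ^ (2 * (k + 3)) = (q : ℤ) ^ (2 * k + 4) * (q : ℤ) ^ 2 := by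
    rw [← pow_add]; congr 1
  have h9 : (q : ℤ) ^ (2 * k + 4) = (q : ℤ) ^ (k + 3) * (q : ℤ) ^ (k + 1) := by
    rw [← pow_add]; congr 1; omega
  have h10 : (q : ℤ) ≤ (q : ℤ) ^ (k + 1) := by
    calc (q : ℤ) = (q : ℤ) ^ 1 := (pow_one _).symm
      _ ≤ (q : ℤ) ^ (k + 1) := pow_le_pow_right₀ (by omega) (by omega)
  have h11 : (0 : ℤ) < (q : ℤ) ^ (k + 3) := by positivity
  have h12 : (-(q : ℤ)) ^ (k + 3) * ((q : ℤ) - 1) ≤ (q : ℤ) ^ (k + 3) * ((q : ℤ) - 1) :=
    mul_le_mul_of_nonneg_right h7 (by omega)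
  rw [h8, h9] at h5
  have hYZ : (q : ℤ) ^ (k + 3) * (q : ℤ) ≤ (q : ℤ) ^ (k + 3) * (q : ℤ) ^ (k + 1) :=
    mul_le_mul_of_nonneg_left h10 h11.le
  have hq2 : (2 : ℤ) ≤ (q : ℤ) ^ 2 - 2 := by nlinarith
  have h13 : ((q : ℤ) ^ 2 - 2) * ((q : ℤ) ^ (k + 3) * (q : ℤ) ^ (k + 1))
      ≤ (q : ℤ) ^ (k + 3) * ((q : ℤ) - 1) := by linarith [h5, h12]
  have h14 : 2 * ((q : ℤ) ^ (k + 3) * (q : ℤ))
      ≤ ((q : ℤ) ^ 2 - 2) * ((q : ℤ) ^ (k + 3) * (q : ℤ) ^ (k + 1)) :=
    mul_le_mul hq2 hYZ (by positivity) (by linarith)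
  nlinarith [mul_pos h11 (show (0 : ℤ) < q by omega)]

theorem exists_GU_isotropic (hK : Fintype.card K = q ^ 2) (hn : 3 ≤ n) {u v : Fin n → K}
    (hu0 : u ≠ 0) (hv0 : v ≠ 0) (hu : hermForm n K q u u = 0) (hv : hermForm n K q v v = 0) :
    ∃ g ∈ GU n K q, (g : Matrix (Fin n) (Fin n) K) *ᵥ u = v := by
  have hq := two_le_q hK
  by_cases huv : hermForm n K q u v = 0
  · obtain ⟨z, hz, hzu, hzv⟩ := exists_connecting hK hn hu0 hv0 hu hv
    have huz : hermForm n K q u z ≠ 0 := by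
      rw [hermForm_swap hK]
      exact pow_ne_zero _ hzu
    obtain ⟨g1, hg1, e1⟩ := exists_GU_of_ne_zero hK hu hz huz
    obtain ⟨g2, hg2, e2⟩ := exists_GU_of_ne_zero hK hz hv hzv
    exact ⟨g2 * g1, mul_mem hg2 hg1, by rw [Units.val_mul, ← mulVec_mulVec, e1, e2]⟩
  · exact exists_GU_of_ne_zero hK hu hv huv

/-- structure of a unitary transvection. -/
theorem exists_transvection (hK : Fintype.card K = q ^ 2) (T : Matrix (Fin n) (Fin n) K)
    (hU : ∀ x y, hermForm n K q (T *ᵥ x) (T *ᵥ y) = hermForm n K q x y)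
    (hT : IsTransvection T) :
    ∃ (a : Fin n → K) (c : K), a ≠ 0 ∧ hermForm n K q a a = 0 ∧ c ≠ 0 ∧ c ^ q + c = 0 ∧
      ∀ x, T *ᵥ x = x + (c * hermForm n K q x a) • a := by
  have hq := two_le_q hK
  obtain ⟨hrank, hsq⟩ := hT
  obtain ⟨a, b, hab⟩ := Cfsg.Agent.S2594.exists_vecMulVec _ hrank
  have htx : ∀ x, T *ᵥ x = x + (b ⬝ᵥ x) • a := by
    intro x
    have : T = 1 + vecMulVec a b := by rw [← hab]; abel
    rw [this, add_mulVec, one_mulVec, vecMulVec_mulVec, op_smul_eq_smul]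
  have hne : vecMulVec a b ≠ 0 := by
    intro h0
    rw [hab, h0, Matrix.rank_zero] at hrank
    exact zero_ne_one hrank
  have ha : a ≠ 0 := by
    rintro rfl
    apply hne
    ext i j; simp [vecMulVec_apply]
  have hb : b ≠ 0 := by
    rintro rfl
    apply hne
    ext i j; simp [vecMulVec_apply]
  obtain ⟨i, hi⟩ : ∃ i, b i ≠ 0 := by
    by_contra h
    push Not at h
    exact hb (funext h)
  obtain ⟨y0, hy0def⟩ : ∃ y0 : Fin n → K, y0 = Pi.single i 1 := ⟨_, rfl⟩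
  have hy0 : b ⬝ᵥ y0 ≠ 0 := by
    rw [hy0def, dotProduct_single, mul_one]; exact hi
  have hba : b ⬝ᵥ a = 0 := by
    rw [hab] at hsq
    have h : (vecMulVec a b * vecMulVec a b) *ᵥ y0 = 0 *ᵥ y0 := by rw [hsq]
    rw [← mulVec_mulVec, vecMulVec_mulVec, op_smul_eq_smul, vecMulVec_mulVec,
      op_smul_eq_smul, zero_mulVec, dotProduct_smul, smul_eq_mul] at h
    rcases smul_eq_zero.mp h with h1 | h1
    · rcases mul_eq_zero.mp h1 with h2 | h2
      · exact absurd h2 hy0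
      · exact h2
    · exact absurd h1 ha
  have key : ∀ x y, (b ⬝ᵥ y) ^ q * hermForm n K q x a + (b ⬝ᵥ x) * hermForm n K q a y
      + (b ⬝ᵥ x) * (b ⬝ᵥ y) ^ q * hermForm n K q a a = 0 := by
    intro x y
    have h := hU x y
    rw [htx, htx, hermForm_add_left, hermForm_add_right hK, hermForm_add_right hK,
      hermForm_smul_left, hermForm_smul_left, hermForm_smul_right, hermForm_smul_right] at h
    linear_combination h
  have haa : hermForm n K q a a = 0 := by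
    have h := key y0 y0
    have h2 := key a y0
    rw [hba, zero_mul, zero_mul, zero_mul, add_zero, add_zero] at h2
    rcases mul_eq_zero.mp h2 with h3 | h3
    · exact absurd h3 (pow_ne_zero _ hy0)
    · exact h3
  obtain ⟨κ, hκ⟩ : ∃ κ, κ = -(hermForm n K q a y0 / (b ⬝ᵥ y0) ^ q) := ⟨_, rfl⟩
  have hy0q : (b ⬝ᵥ y0) ^ q ≠ 0 := pow_ne_zero _ hy0
  have h1 : ∀ x, hermForm n K q x a = (b ⬝ᵥ x) * κ := by
    intro x
    have := key x y0
    rw [haa, mul_zero, add_zero] at this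
    rw [hκ]
    field_simp
    linear_combination this
  obtain ⟨j, hj⟩ : ∃ j, a j ≠ 0 := by
    by_contra h
    push Not at h
    exact ha (funext h)
  have hx0 : hermForm n K q (Pi.single j 1) a ≠ 0 := by
    rw [hermForm_eq_dot, single_dotProduct, one_mul]
    exact pow_ne_zero _ hj
  have hκ0 : κ ≠ 0 := by
    intro h0
    apply hx0
    rw [h1, h0, mul_zero]
  have h2 : ∀ x, b ⬝ᵥ x = κ⁻¹ * hermForm n K q x a := by
    intro x
    rw [h1 x]
    field_simp
  refine ⟨a, κ⁻¹, ha, haa, inv_ne_zero hκ0, ?_, fun x => ?_⟩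
  · obtain ⟨x0, hx0def⟩ : ∃ x0 : Fin n → K, x0 = Pi.single j 1 := ⟨_, rfl⟩
    rw [← hx0def] at hx0
    have h3 := key x0 x0
    rw [haa, mul_zero, add_zero, h2 x0, hermForm_swap hK a x0, mul_pow] at h3
    have h4 : (κ⁻¹ ^ q + κ⁻¹) * (hermForm n K q x0 a * hermForm n K q x0 a ^ q) = 0 := by
      linear_combination h3
    rcases mul_eq_zero.mp h4 with h5 | h5
    · exact h5
    · exact absurd h5 (mul_ne_zero hx0 (pow_ne_zero _ hx0))
  · rw [htx, h2 x]

/-- the conjugating matrix. -/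
theorem exists_conj (hK : Fintype.card K = q ^ 2) (hn : 3 ≤ n) {a a' : Fin n → K} {c c' : K}
    (ha0 : a ≠ 0) (ha : hermForm n K q a a = 0) (hc0 : c ≠ 0) (hc : c ^ q + c = 0)
    (ha'0 : a' ≠ 0) (ha' : hermForm n K q a' a' = 0) (hc'0 : c' ≠ 0) (hc' : c' ^ q + c' = 0) :
    ∃ G : Matrix (Fin n) (Fin n) K, Gᵀ * G.map (· ^ q) = 1 ∧ G.det = 1 ∧
      ∀ x, G *ᵥ (x + (c * hermForm n K q x a) • a)
        = G *ᵥ x + (c' * hermForm n K q (G *ᵥ x) a') • a' := by
  have hq := two_le_q hK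
  have hcq : c ^ q = -c := by linear_combination hc
  have hc'q : c' ^ q = -c' := by linear_combination hc'
  have hr : (c' / c) ^ q = c' / c := by
    rw [div_pow, hcq, hc'q, neg_div_neg_eq]
  obtain ⟨l, hl⟩ := exists_norm hK (div_ne_zero hc'0 hc0) hr
  have hl0 : l ≠ 0 := by
    rintro rfl
    rw [zero_mul] at hl
    exact (div_ne_zero hc'0 hc0) hl.symm
  have hla0 : l • a' ≠ 0 := smul_ne_zero hl0 ha'0
  have hla : hermForm n K q (l • a') (l • a') = 0 := by
    rw [hermForm_smul_left, hermForm_smul_right, ha', mul_zero, mul_zero]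
  obtain ⟨g0, hg0, e0⟩ := exists_GU_isotropic hK hn ha0 hla0 ha hla
  have hdet0 : ((g0 : Matrix (Fin n) (Fin n) K)).det * ((g0 : Matrix (Fin n) (Fin n) K)).det ^ q
      = 1 := by
    have h := (mem_GU_iff hK g0).mp hg0
    have h2 := congrArg Matrix.det h
    rw [Matrix.det_mul, Matrix.det_transpose, det_map_q hK, Matrix.det_one] at h2
    exact h2
  obtain ⟨d, hd⟩ : ∃ d, d = ((g0 : Matrix (Fin n) (Fin n) K)).det := ⟨_, rfl⟩
  rw [← hd] at hdet0
  have hd0 : d ≠ 0 := by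
    rintro rfl
    rw [zero_mul] at hdet0
    exact zero_ne_one hdet0
  obtain ⟨e, hea, hee⟩ := exists_unit_perp hK hn ha'0 ha'
  have hζ : (d⁻¹ - 1) ^ q + (d⁻¹ - 1) + (d⁻¹ - 1) * (d⁻¹ - 1) ^ q * hermForm n K q e e = 0 := by
    rw [hee, sub_pow_q hK, one_pow, inv_pow]
    have hdq : d ^ q ≠ 0 := pow_ne_zero _ hd0
    field_simp
    linear_combination -hdet0
  have hU1 := (mem_GU_iff hK _).mp (TG_mem hK e (d⁻¹ - 1) hζ)
  have hU0 := (mem_GU_iff hK g0).mp hg0
  change (unitaryTransvection n q e (d⁻¹ - 1))ᵀ * (unitaryTransvection n q e (d⁻¹ - 1)).map (· ^ q)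
    = 1 at hU1
  have hdet1 : (unitaryTransvection n q e (d⁻¹ - 1)).det = d⁻¹ := by
    unfold unitaryTransvection
    rw [← Matrix.smul_vecMulVec, Matrix.vecMulVec_eq (Fin 1),
      Matrix.det_one_add_replicateCol_mul_replicateRow, dotProduct_smul, dotProduct_comm]
    rw [hermForm_eq_dot] at hee
    rw [hee, smul_eq_mul, mul_one]
    ring
  have hfix : unitaryTransvection n q e (d⁻¹ - 1) *ᵥ a' = a' := by
    rw [unitaryTransvection_mulVec, hermForm_swap hK, hea, zero_pow (by omega), mul_zero,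
      zero_smul, add_zero]
  refine ⟨unitaryTransvection n q e (d⁻¹ - 1) * (g0 : Matrix (Fin n) (Fin n) K), ?_, ?_, ?_⟩
  · have hU := (mem_GU_iff hK _).mp (mul_mem (TG_mem hK e (d⁻¹ - 1) hζ) hg0)
    rw [Units.val_mul] at hU
    exact hU
  · rw [Matrix.det_mul, hdet1, ← hd, inv_mul_cancel₀ hd0]
  · intro x
    have hpres : ∀ x y, hermForm n K q
        ((unitaryTransvection n q e (d⁻¹ - 1) * (g0 : Matrix (Fin n) (Fin n) K)) *ᵥ x)
        ((unitaryTransvection n q e (d⁻¹ - 1) * (g0 : Matrix (Fin n) (Fin n) K)) *ᵥ y)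
        = hermForm n K q x y := by
      intro x y
      rw [← mulVec_mulVec, ← mulVec_mulVec, hermForm_mulVec_mulVec hK, hU1, one_mulVec,
        ← hermForm_eq_dot, hermForm_mulVec_mulVec hK, hU0, one_mulVec, ← hermForm_eq_dot]
    have hGa : (unitaryTransvection n q e (d⁻¹ - 1) * (g0 : Matrix (Fin n) (Fin n) K)) *ᵥ a
        = l • a' := by
      rw [← mulVec_mulVec, e0, mulVec_smul, hfix]
    obtain ⟨G, hG⟩ : ∃ G, G = unitaryTransvection n q e (d⁻¹ - 1)
        * (g0 : Matrix (Fin n) (Fin n) K) := ⟨_, rfl⟩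
    rw [← hG] at hpres hGa ⊢
    have h1 : hermForm n K q (G *ᵥ x) a' = (l ^ q)⁻¹ * hermForm n K q x a := by
      have h2 := hpres x a
      rw [hGa, hermForm_smul_right] at h2
      rw [← h2]
      field_simp
    rw [mulVec_add, mulVec_smul, hGa, h1, smul_smul]
    congr 2
    have hlq : l ^ q ≠ 0 := pow_ne_zero _ hl0
    field_simp
    field_simp at hl
    linear_combination (hermForm n K q x a) * hl

/-- In the special unitary group SU_n(q) with n ≥ 3 (isometries of Σ u_i v_i^q of determinant one over the field with q² elements), any two transvections (elements t with t − 1 of rank one and square zero) are conjugate. -/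
theorem result {K : Type*} [Field K] [Fintype K] {q n : ℕ} (hK : Fintype.card K = q ^ 2) (hn : 3 ≤ n) (s t : ↥(Cfsg.SU n K q)) (hs : Cfsg.IsTransvection (((s : GL (Fin n) K) : Matrix (Fin n) (Fin n) K))) (ht : Cfsg.IsTransvection (((t : GL (Fin n) K) : Matrix (Fin n) (Fin n) K))) : IsConj s t := by
  change IsTransvection ((s.1 : Matrix (Fin n) (Fin n) K)) at hs
  change IsTransvection ((t.1 : Matrix (Fin n) (Fin n) K)) at ht
  have hUs : ∀ x y, hermForm n K q ((s.1 : Matrix (Fin n) (Fin n) K) *ᵥ x)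
      ((s.1 : Matrix (Fin n) (Fin n) K) *ᵥ y) = hermForm n K q x y := fun x y => s.2 x y
  have hUt : ∀ x y, hermForm n K q ((t.1 : Matrix (Fin n) (Fin n) K) *ᵥ x)
      ((t.1 : Matrix (Fin n) (Fin n) K) *ᵥ y) = hermForm n K q x y := fun x y => t.2 x y
  obtain ⟨a, c, ha0, ha, hc0, hc, hS⟩ := exists_transvection hK _ hUs hs
  obtain ⟨a', c', ha'0, ha', hc'0, hc', hT⟩ := exists_transvection hK _ hUt ht
  obtain ⟨G, hGU, hGdet, hG⟩ := exists_conj hK hn ha0 ha hc0 hc ha'0 ha' hc'0 hc'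
  rw [isConj_iff]
  refine ⟨mkSU hK G hGU hGdet, ?_⟩
  rw [mul_inv_eq_iff_eq_mul]
  apply Subtype.ext
  apply Subtype.ext
  show G * (s.1 : Matrix (Fin n) (Fin n) K) = (t.1 : Matrix (Fin n) (Fin n) K) * G
  refine (Matrix.ext_iff_mulVec (A := G * (s.1 : Matrix (Fin n) (Fin n) K))
    (B := (t.1 : Matrix (Fin n) (Fin n) K) * G)).mpr ?_
  intro x
  rw [← mulVec_mulVec, ← mulVec_mulVec, hS, hT, hG]

end Cfsg.Agent.S2644
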