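import Cfsg.Statements.S0445
import Cfsg.Agent.Helper7.LinearCard

set_option autoImplicit false
open Cfsg

namespace Cfsg.Agent.S0445

open Matrix

section
variable {R : Type*} [CommRing R]

/-- The shape of the matrices commuting with the transvection. -/
def M5 (a a' : R) (r : Fin 4 → R) (c : Fin 3 → R) (B : Matrix (Fin 3) (Fin 3) R) :
    Matrix (Fin 5) (Fin 5) R :=
  !![a, r 0, r 1, r 2, r 3; 0, a', 0, 0, 0; 0, c 0, B 0 0, B 0 1, B 0 2;
     0, c 1, B 1 0, B 1 1, B 1 2; 0, c 2, B 2 0, B 2 1, B 2 2]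

theorem det_M5 (a a' : R) (r : Fin 4 → R) (c : Fin 3 → R) (B : Matrix (Fin 3) (Fin 3) R) :
    (M5 a a' r c B).det = a * a' * B.det := by
  rw [Matrix.det_succ_column_zero, Fin.sum_univ_succ]
  simp only [M5]
  simp [Fin.sum_univ_succ, Matrix.det_succ_row_zero, Fin.succAbove]
  ring

theorem M5_comm (r : Fin 4 → R) (c : Fin 3 → R) (B : Matrix (Fin 3) (Fin 3) R) :
    M5 1 1 r c B * Matrix.single 0 1 1 = Matrix.single 0 1 1 * M5 1 1 r c B := by
  ext i j
  fin_cases i <;> fin_cases j <;>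
    simp [M5, Matrix.mul_apply, Matrix.single_apply]

theorem eq_M5 (g : Matrix (Fin 5) (Fin 5) R)
    (h : g * Matrix.single 0 1 1 = Matrix.single 0 1 1 * g) :
    g 0 0 = g 1 1 ∧ g = M5 (g 0 0) (g 1 1) (fun j => g 0 j.succ) (fun i => g i.succ.succ 1)
      (g.submatrix (fun i => i.succ.succ) (fun j => j.succ.succ)) := by
  have e := fun i j => congrFun (congrFun h i) j
  have h01 := e 0 1
  have h10 := e 0 0
  have h12 := e 0 2
  have h13 := e 0 3
  have h14 := e 0 4
  have h11 := e 1 1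
  have h20 := e 2 1
  have h30 := e 3 1
  have h40 := e 4 1
  simp [Matrix.mul_apply, Matrix.single_apply] at h01 h10 h12 h13 h14 h11 h20 h30 h40
  refine ⟨h01, ?_⟩
  ext i j
  fin_cases i <;> fin_cases j <;>
    simp [M5, h12.symm, h13.symm, h14.symm, h11, h20, h30, h40]

end

theorem zmod2_aux : ∀ x y z : ZMod 2, x * y * z = 1 → x = 1 ∧ y = 1 ∧ z = 1 := by decide

theorem mem_cent_iff (s g : Matrix.SpecialLinearGroup (Fin 5) (ZMod 2))
    (hs : (s : Matrix (Fin 5) (Fin 5) (ZMod 2)) = Matrix.transvection 0 1 1) :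
    g ∈ Subgroup.centralizer ({s} : Set (Matrix.SpecialLinearGroup (Fin 5) (ZMod 2))) ↔
      (g : Matrix (Fin 5) (Fin 5) (ZMod 2)) * Matrix.single 0 1 1 =
        Matrix.single 0 1 1 * (g : Matrix (Fin 5) (Fin 5) (ZMod 2)) := by
  rw [Subgroup.mem_centralizer_singleton_iff]
  have h1 : g * s = s * g ↔ (g : Matrix (Fin 5) (Fin 5) (ZMod 2)) * s.1 = s.1 * g.1 :=
    ⟨fun h => congrArg Subtype.val h, fun h => Subtype.ext h⟩
  rw [h1]
  change (g : Matrix (Fin 5) (Fin 5) (ZMod 2)) * (s : Matrix (Fin 5) (Fin 5) (ZMod 2)) =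
    (s : Matrix (Fin 5) (Fin 5) (ZMod 2)) * g.1 ↔ _
  rw [hs, Matrix.transvection, mul_add, add_mul, mul_one, one_mul, add_right_inj]

theorem shape (s g : Matrix.SpecialLinearGroup (Fin 5) (ZMod 2))
    (hs : (s : Matrix (Fin 5) (Fin 5) (ZMod 2)) = Matrix.transvection 0 1 1)
    (hg : g ∈ Subgroup.centralizer ({s} : Set (Matrix.SpecialLinearGroup (Fin 5) (ZMod 2)))) :
    (g : Matrix (Fin 5) (Fin 5) (ZMod 2)) = M5 1 1 (fun j => g.1 0 j.succ)
      (fun i => g.1 i.succ.succ 1) (g.1.submatrix (fun i => i.succ.succ) (fun j => j.succ.succ)) ∧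
    (g.1.submatrix (fun i : Fin 3 => i.succ.succ) (fun j : Fin 3 => j.succ.succ)).det = 1 := by
  obtain ⟨-, h2⟩ := eq_M5 g.1 ((mem_cent_iff s g hs).1 hg)
  have hd := g.2
  rw [h2, det_M5] at hd
  obtain ⟨ha, ha', hB⟩ := zmod2_aux _ _ _ hd
  refine ⟨?_, hB⟩
  rw [ha, ha'] at h2
  exact h2

/-- The centraliser, as a product. -/
noncomputable def equivC (s : Matrix.SpecialLinearGroup (Fin 5) (ZMod 2))
    (hs : (s : Matrix (Fin 5) (Fin 5) (ZMod 2)) = Matrix.transvection 0 1 1) :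
    Subgroup.centralizer ({s} : Set (Matrix.SpecialLinearGroup (Fin 5) (ZMod 2))) ≃
      (Fin 4 → ZMod 2) × (Fin 3 → ZMod 2) × Matrix.SpecialLinearGroup (Fin 3) (ZMod 2) where
  toFun g := (fun j => g.1.1 0 j.succ, fun i => g.1.1 i.succ.succ 1,
    ⟨g.1.1.submatrix (fun i => i.succ.succ) (fun j => j.succ.succ), (shape s g.1 hs g.2).2⟩)
  invFun x := ⟨⟨M5 1 1 x.1 x.2.1 x.2.2.1, by rw [det_M5, x.2.2.2]; ring⟩,
    (mem_cent_iff s _ hs).2 (M5_comm _ _ _)⟩
  left_inv g := by
    apply Subtype.ext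
    apply Subtype.ext
    exact (shape s g.1 hs g.2).1.symm
  right_inv x := by
    rcases x with ⟨r, c, B⟩
    refine Prod.ext ?_ (Prod.ext ?_ ?_)
    · funext j
      fin_cases j <;> simp [M5]
    · funext i
      fin_cases i <;> simp [M5]
    · apply Subtype.ext
      ext i j
      fin_cases i <;> fin_cases j <;> simp [M5]

theorem card_SL3 : Nat.card (Matrix.SpecialLinearGroup (Fin 3) (ZMod 2)) = 168 := by
  have h := Cfsg.Agent.Helper7.card_units_mul_card_SL (n := Fin 3) (F := ZMod 2)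
  rw [Matrix.card_GL_field, ZMod.card] at h
  simp [Fin.prod_univ_three] at h
  rw [Nat.card_eq_fintype_card]
  exact h

/-- In the special linear group of dimension 5 over the field with two elements, the centraliser of a transvection has order 21504 = 2 ^ 7 · 168 (it is an extension of an extraspecial group of order 2 ^ 7 by the simple group of order 168). -/
theorem result (s : Matrix.SpecialLinearGroup (Fin 5) (ZMod 2)) (hs : (s : Matrix (Fin 5) (Fin 5) (ZMod 2)) = Matrix.transvection 0 1 1) : Nat.card (Subgroup.centralizer ({s} : Set (Matrix.SpecialLinearGroup (Fin 5) (ZMod 2)))) = 21504 := by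
  rw [Nat.card_congr (equivC s hs), Nat.card_prod, Nat.card_prod, card_SL3, Nat.card_fun,
    Nat.card_fun]
  simp

end Cfsg.Agent.S0445
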