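import Mathlib
import Cfsg.Agent.Helper5.TC2F
import Cfsg.Agent.Helper5.Fi22bTCSum
import Cfsg.Statements.S1685
-- import your own Cfsg.Agent.* helpers here

set_option autoImplicit false
open Cfsg

namespace Cfsg.Agent.S1685

/-- decoding of the generators. -/
def dec : ℕ → Cfsg.Spor.Fi22.Gen
  | 0 => .a
  | 1 => .b
  | 2 => .c
  | 3 => .d
  | 4 => .e
  | 5 => .f
  | 6 => .g
  | 7 => .h
  | _ => .i

/-- encoding of the generators. -/
def enc : Cfsg.Spor.Fi22.Gen → ℕ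
  | .a => 0
  | .b => 1
  | .c => 2
  | .d => 3
  | .e => 4
  | .f => 5
  | .g => 6
  | .h => 7
  | .i => 8

open Cfsg.Agent.Helper5.TC Cfsg.Agent.Helper5.Fi22bTC Cfsg.Spor in
theorem cox_ok : coxOK D (fun x y => coxLabel Fi22.edges (dec y) (dec x)) = true := by
  decide +kernel

theorem wm_core {K : Type} [Group K] (γ : ℕ → K) (hγ : ∀ x, γ x * γ x = 1) (x : ℕ) :
    (γ x)⁻¹ = γ x := inv_eq_of_mul_eq_one_left (hγ x)

set_option linter.unusedSimpArgs false in
set_option maxRecDepth 100000 in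
open Cfsg.Agent.Helper5.TC Cfsg.Agent.Helper5.Fi22bTC Cfsg.Spor in
theorem extra_match : ∀ i (hi : i < Fi22.extra.length),
    WordMatch enc (Fi22.extra[i]) (D.wlen (D.k * D.k + i)) (D.wordP (D.k * D.k + i)) := by
  intro i hi
  have hi' : i < 3 := hi
  interval_cases i
  · intro K _ γ hγ
    have e : D.k * D.k + 0 = 81 := rfl
    simp only [e, word_81, Fi22.extra, List.getElem_cons_zero, List.getElem_cons_succ]
    simp only [Fi22.a, Fi22.b, Fi22.c, Fi22.d, Fi22.e, Fi22.f, Fi22.g, Fi22.h, Fi22.i, map_mul, map_inv, map_pow,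
      FreeGroup.lift_apply_of, enc, rprod, one_mul, pow_succ, pow_zero, mul_inv_rev,
      wm_core γ hγ, mul_assoc]
  · intro K _ γ hγ
    have e : D.k * D.k + 1 = 82 := rfl
    simp only [e, word_82, Fi22.extra, List.getElem_cons_zero, List.getElem_cons_succ]
    simp only [Fi22.a, Fi22.b, Fi22.c, Fi22.d, Fi22.e, Fi22.f, Fi22.g, Fi22.h, Fi22.i, map_mul, map_inv, map_pow,
      FreeGroup.lift_apply_of, enc, rprod, one_mul, pow_succ, pow_zero, mul_inv_rev,
      wm_core γ hγ, mul_assoc]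
  · intro K _ γ hγ
    have e : D.k * D.k + 2 = 83 := rfl
    simp only [e, word_83, Fi22.extra, List.getElem_cons_zero, List.getElem_cons_succ]
    simp only [Fi22.a, Fi22.b, Fi22.c, Fi22.d, Fi22.e, Fi22.f, Fi22.g, Fi22.h, Fi22.i, map_mul, map_inv, map_pow,
      FreeGroup.lift_apply_of, enc, rprod, one_mul, pow_succ, pow_zero, mul_inv_rev,
      wm_core γ hγ, mul_assoc]

/-- the subgroup generators. -/
def subs : List (FreeGroup Cfsg.Spor.Fi22.Gen) :=
  [Cfsg.Spor.Fi22.b, Cfsg.Spor.Fi22.c, Cfsg.Spor.Fi22.d, Cfsg.Spor.Fi22.e, Cfsg.Spor.Fi22.f, Cfsg.Spor.Fi22.g, Cfsg.Spor.Fi22.h, Cfsg.Spor.Fi22.i]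

set_option linter.unusedSimpArgs false in
set_option maxRecDepth 100000 in
open Cfsg.Agent.Helper5.TC Cfsg.Agent.Helper5.Fi22bTC Cfsg.Spor in
theorem subs_match : ∀ i (hi : i < subs.length),
    WordMatch enc (subs[i]) (D.wlen (D.nrel + i)) (D.wordP (D.nrel + i)) := by
  intro i hi
  have hi' : i < 8 := hi
  interval_cases i
  · intro K _ γ hγ
    have e : D.nrel + 0 = 84 := rfl
    simp only [e, word_84, subs, List.getElem_cons_zero, List.getElem_cons_succ]
    simp only [Fi22.a, Fi22.b, Fi22.c, Fi22.d, Fi22.e, Fi22.f, Fi22.g, Fi22.h, Fi22.i, map_mul, map_inv, map_pow,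
      FreeGroup.lift_apply_of, enc, rprod, one_mul, pow_succ, pow_zero, mul_inv_rev,
      wm_core γ hγ, mul_assoc]
  · intro K _ γ hγ
    have e : D.nrel + 1 = 85 := rfl
    simp only [e, word_85, subs, List.getElem_cons_zero, List.getElem_cons_succ]
    simp only [Fi22.a, Fi22.b, Fi22.c, Fi22.d, Fi22.e, Fi22.f, Fi22.g, Fi22.h, Fi22.i, map_mul, map_inv, map_pow,
      FreeGroup.lift_apply_of, enc, rprod, one_mul, pow_succ, pow_zero, mul_inv_rev,
      wm_core γ hγ, mul_assoc]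
  · intro K _ γ hγ
    have e : D.nrel + 2 = 86 := rfl
    simp only [e, word_86, subs, List.getElem_cons_zero, List.getElem_cons_succ]
    simp only [Fi22.a, Fi22.b, Fi22.c, Fi22.d, Fi22.e, Fi22.f, Fi22.g, Fi22.h, Fi22.i, map_mul, map_inv, map_pow,
      FreeGroup.lift_apply_of, enc, rprod, one_mul, pow_succ, pow_zero, mul_inv_rev,
      wm_core γ hγ, mul_assoc]
  · intro K _ γ hγ
    have e : D.nrel + 3 = 87 := rfl
    simp only [e, word_87, subs, List.getElem_cons_zero, List.getElem_cons_succ]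
    simp only [Fi22.a, Fi22.b, Fi22.c, Fi22.d, Fi22.e, Fi22.f, Fi22.g, Fi22.h, Fi22.i, map_mul, map_inv, map_pow,
      FreeGroup.lift_apply_of, enc, rprod, one_mul, pow_succ, pow_zero, mul_inv_rev,
      wm_core γ hγ, mul_assoc]
  · intro K _ γ hγ
    have e : D.nrel + 4 = 88 := rfl
    simp only [e, word_88, subs, List.getElem_cons_zero, List.getElem_cons_succ]
    simp only [Fi22.a, Fi22.b, Fi22.c, Fi22.d, Fi22.e, Fi22.f, Fi22.g, Fi22.h, Fi22.i, map_mul, map_inv, map_pow,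
      FreeGroup.lift_apply_of, enc, rprod, one_mul, pow_succ, pow_zero, mul_inv_rev,
      wm_core γ hγ, mul_assoc]
  · intro K _ γ hγ
    have e : D.nrel + 5 = 89 := rfl
    simp only [e, word_89, subs, List.getElem_cons_zero, List.getElem_cons_succ]
    simp only [Fi22.a, Fi22.b, Fi22.c, Fi22.d, Fi22.e, Fi22.f, Fi22.g, Fi22.h, Fi22.i, map_mul, map_inv, map_pow,
      FreeGroup.lift_apply_of, enc, rprod, one_mul, pow_succ, pow_zero, mul_inv_rev,
      wm_core γ hγ, mul_assoc]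
  · intro K _ γ hγ
    have e : D.nrel + 6 = 90 := rfl
    simp only [e, word_90, subs, List.getElem_cons_zero, List.getElem_cons_succ]
    simp only [Fi22.a, Fi22.b, Fi22.c, Fi22.d, Fi22.e, Fi22.f, Fi22.g, Fi22.h, Fi22.i, map_mul, map_inv, map_pow,
      FreeGroup.lift_apply_of, enc, rprod, one_mul, pow_succ, pow_zero, mul_inv_rev,
      wm_core γ hγ, mul_assoc]
  · intro K _ γ hγ
    have e : D.nrel + 7 = 91 := rfl
    simp only [e, word_91, subs, List.getElem_cons_zero, List.getElem_cons_succ]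
    simp only [Fi22.a, Fi22.b, Fi22.c, Fi22.d, Fi22.e, Fi22.f, Fi22.g, Fi22.h, Fi22.i, map_mul, map_inv, map_pow,
      FreeGroup.lift_apply_of, enc, rprod, one_mul, pow_succ, pow_zero, mul_inv_rev,
      wm_core γ hγ, mul_assoc]

theorem subs_set : ({Cfsg.Spor.Fi22.b, Cfsg.Spor.Fi22.c, Cfsg.Spor.Fi22.d, Cfsg.Spor.Fi22.e, Cfsg.Spor.Fi22.f, Cfsg.Spor.Fi22.g, Cfsg.Spor.Fi22.h, Cfsg.Spor.Fi22.i} : Set (FreeGroup Cfsg.Spor.Fi22.Gen)) = {s | s ∈ subs} := by
  ext s
  simp [subs]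

/-- In the presented Fischer group Fi₂₂ (generators a, …, i), the subgroup generated by the images of b, c, d, e, f, g, h, i has index 14080. -/
theorem result : (((Subgroup.closure ({Cfsg.Spor.Fi22.b, Cfsg.Spor.Fi22.c, Cfsg.Spor.Fi22.d, Cfsg.Spor.Fi22.e, Cfsg.Spor.Fi22.f, Cfsg.Spor.Fi22.g, Cfsg.Spor.Fi22.h, Cfsg.Spor.Fi22.i} : Set (FreeGroup Cfsg.Spor.Fi22.Gen))).map (PresentedGroup.mk (Cfsg.Spor.coxRelators Cfsg.Spor.Fi22.edges ∪ {r | r ∈ Cfsg.Spor.Fi22.extra})))).index = 14080 := by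
  rw [subs_set]
  obtain ⟨hidx, φ, -, horb⟩ := Cfsg.Agent.Helper5.TC.presented_index2 Cfsg.Spor.Fi22.edges
    Cfsg.Spor.Fi22.extra subs dec enc Cfsg.Agent.Helper5.Fi22bTC.E (T := Cfsg.Agent.Helper5.Fi22bTC.ctF)
    (by intro z; cases z <;> rfl)
    (by intro x hx; have hx' : x < 9 := hx; interval_cases x <;> rfl)
    (by intro z; cases z <;> decide)
    (by intro z; cases z <;> decide)
    rfl rfl extra_match subs_match cox_ok Cfsg.Agent.Helper5.Fi22bTC.rev_ok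
    Cfsg.Agent.Helper5.Fi22bTC.hE Cfsg.Agent.Helper5.Fi22bTC.hA Cfsg.Agent.Helper5.Fi22bTC.set_ok Cfsg.Agent.Helper5.Fi22bTC.hrows (by norm_num) Cfsg.Agent.Helper5.Fi22bTC.hT Cfsg.Agent.Helper5.Fi22bTC.hltr Cfsg.Agent.Helper5.Fi22bTC.hrelT Cfsg.Agent.Helper5.Fi22bTC.hsubT Cfsg.Agent.Helper5.Fi22bTC.hconn
  exact hidx

end Cfsg.Agent.S1685
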