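import Cfsg.Statements.S3947
import Cfsg.Agent.Helper9.GenZipper.Final

set_option autoImplicit false
open Cfsg

namespace Cfsg.Agent.S3947

/-- Let G be a finite group and A a proper subgroup of G whose normal closure is G. Let Y be the join of all proper subgroups H of G that contain A and are generated by their own conjugates of A (the normal closure of A in H is H). Then either Y = G, or A is contained in exactly one maximal subgroup of G. -/
theorem result {G : Type*} [Group G] [Finite G] (A : Subgroup G) (hA : Subgroup.normalClosure (A : Set G) = ⊤) (hAG : A ≠ ⊤) :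
    sSup {H : Subgroup G | A ≤ H ∧ H ≠ ⊤ ∧ Subgroup.normalClosure ((A.subgroupOf H : Subgroup ↥H) : Set ↥H) = ⊤} = ⊤ ∨
      ∃! M : Subgroup G, IsCoatom M ∧ A ≤ M := by
  by_contra hcon
  push Not at hcon
  obtain ⟨hsup, huniq⟩ := hcon
  apply Cfsg.Agent.Helper9.GenZipper.not_isCex A
  have hset : {H : Subgroup G | A ≤ H ∧ H ≠ ⊤ ∧
      Subgroup.normalClosure ((A.subgroupOf H : Subgroup ↥H) : Set ↥H) = ⊤} =
      Cfsg.Agent.Helper9.GenZipper.HSet A := by
    ext H
    constructor
    · rintro ⟨h1, h2, h3⟩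
      exact ⟨h2, (Cfsg.Agent.Helper9.GenZipper.contra_iff_normalClosure h1).1 h3⟩
    · rintro ⟨h2, h3⟩
      exact ⟨h3.1, h2, (Cfsg.Agent.Helper9.GenZipper.contra_iff_normalClosure h3.1).2 h3⟩
  refine ⟨Cfsg.Agent.Helper9.GenZipper.contra_top_of_normalClosure hA, hAG, ?_, ?_⟩
  · rw [← hset]; exact hsup
  · obtain ⟨V, hV, hAV⟩ := (eq_top_or_exists_le_coatom A).resolve_left hAG
    by_contra hno
    apply huniq
    refine ⟨V, ⟨hV, hAV⟩, ?_⟩
    rintro W ⟨hW, hAW⟩
    by_contra hne
    exact hno ⟨V, W, hV, hW, fun h => hne h.symm, hAV, hAW⟩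

end Cfsg.Agent.S3947
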