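import Cfsg.Statements.S0414
import Cfsg.Agent.Helper9.Steiner.D3622M
import Cfsg.Agent.Helper9.Steiner.Aut3622
import Cfsg.Agent.Helper9.Steiner.GolayM22

set_option autoImplicit false
open Cfsg

namespace Cfsg.Agent.S0414

/-- Aut of an S(3, 6, 22) has order 887040, is 3-transitive, and contains a simple subgroup of index 2. -/
theorem result {α : Type*} [Fintype α] [DecidableEq α] (hα : Fintype.card α = 22) {B : Set (Finset α)} (hB : Cfsg.IsSteinerSystem 3 6 B) : Nat.card (Cfsg.setSystemAut B) = 887040 ∧ MulAction.IsMultiplyPretransitive (Cfsg.setSystemAut B) α 3 ∧ ∃ H : Subgroup (Cfsg.setSystemAut B), H.index = 2 ∧ Cfsg.IsM22 H := by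
  classical
  obtain ⟨e, he⟩ := Cfsg.Agent.Helper9.Steiner.iso_std_of_checked
    Cfsg.Agent.Helper9.Steiner.D3622M.checked hα hB
  have hstd : Cfsg.IsSteinerSystem 3 6
      (Cfsg.Agent.Helper9.Steiner.stdSet Cfsg.Agent.Helper9.Steiner.D3622M.P) := by
    rw [← he]; exact Cfsg.Agent.Helper9.Steiner.steiner_mapSys e hB
  have hm : Cfsg.Agent.Helper9.Steiner.D3622M.P.marks ≤ Cfsg.Agent.Helper9.Steiner.D3622M.P.n := by
    decide
  have htr : MulAction.IsMultiplyPretransitive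
      (Cfsg.setSystemAut (Cfsg.Agent.Helper9.Steiner.stdSet Cfsg.Agent.Helper9.Steiner.D3622M.P))
      (Fin Cfsg.Agent.Helper9.Steiner.D3622M.P.n) 3 :=
    Cfsg.Agent.Helper9.Steiner.aut_transitive Cfsg.Agent.Helper9.Steiner.D3622M.checked hstd hm
  have h3 : MulAction.IsMultiplyPretransitive (Cfsg.setSystemAut B) α 3 :=
    Cfsg.Agent.Helper9.Steiner.pretransitive_congr e B _ he 3 htr
  obtain ⟨e2, he2⟩ := Cfsg.Agent.Helper9.Steiner.iso_std_of_checked
    Cfsg.Agent.Helper9.Steiner.D3622M.checked Cfsg.Agent.Helper9.Steiner.GolayM22.card_pts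
    Cfsg.Agent.Helper9.Steiner.GolayM22.steiner
  let Φ : Cfsg.Agent.Helper9.Steiner.GolayM22.S22 →* Cfsg.setSystemAut B :=
    (Cfsg.Agent.Helper9.Steiner.autCongr e B _ he).symm.toMonoidHom.comp
      ((Cfsg.Agent.Helper9.Steiner.autCongr e2 _ _ he2).toMonoidHom.comp
        Cfsg.Agent.Helper9.Steiner.GolayM22.res)
  have hΦ : Function.Injective Φ :=
    (Cfsg.Agent.Helper9.Steiner.autCongr e B _ he).symm.injective.comp
      ((Cfsg.Agent.Helper9.Steiner.autCongr e2 _ _ he2).injective.comp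
        Cfsg.Agent.Helper9.Steiner.GolayM22.res_injective)
  have hle : Nat.card (Cfsg.setSystemAut B) ≤ 887040 := by
    rw [Nat.card_congr (Cfsg.Agent.Helper9.Steiner.autCongr e B _ he).toEquiv]
    exact Cfsg.Agent.Helper9.Steiner.Aut3622.card_aut_le hstd
  have hge : 887040 ≤ Nat.card (Cfsg.setSystemAut B) :=
    le_trans Cfsg.Agent.Helper9.Steiner.GolayM22.card_S22_ge
      (Nat.card_le_card_of_injective Φ hΦ)
  have hcard : Nat.card (Cfsg.setSystemAut B) = 887040 := le_antisymm hle hge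
  let Ψ : Cfsg.Agent.Helper9.Steiner.GolayM22.M ≃*
      (Cfsg.Agent.Helper9.Steiner.GolayM22.M.map Φ) :=
    Subgroup.equivMapOfInjective _ Φ hΦ
  have hcH : Nat.card (Cfsg.Agent.Helper9.Steiner.GolayM22.M.map Φ) = 443520 := by
    rw [← Nat.card_congr Ψ.toEquiv]
    exact Cfsg.Agent.Helper9.Steiner.GolayM22.card_M
  refine ⟨hcard, h3, Cfsg.Agent.Helper9.Steiner.GolayM22.M.map Φ, ?_, ?_, hcH⟩
  · have h1 := Subgroup.index_mul_card (Cfsg.Agent.Helper9.Steiner.GolayM22.M.map Φ)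
    rw [hcH, hcard] at h1
    omega
  · have := Cfsg.Agent.Helper9.Steiner.GolayM22.M_simple
    exact Ψ.symm.isSimpleGroup_congr.2 this

end Cfsg.Agent.S0414
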