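import Cfsg.Statements.S0431
import Cfsg.Agent.Helper9.Steiner.D3622M
import Cfsg.Agent.Helper9.HSG.Even2
import Cfsg.Agent.Helper9.HSG.Transfer
import Cfsg.Agent.S0414

set_option autoImplicit false
open Cfsg

namespace Cfsg.Agent.S0431

/-- Aut of the point-block graph of an S(3, 6, 22) contains a simple subgroup of order 44352000. -/
theorem result {α : Type*} [Fintype α] (hα : Fintype.card α = 22) {B : Set (Finset α)} (hB : Cfsg.IsSteinerSystem 3 6 B) : ∃ H : Subgroup (Cfsg.pointBlockGraph B ≃g Cfsg.pointBlockGraph B), Cfsg.IsHS H := by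
  classical
  obtain ⟨e, he⟩ := Cfsg.Agent.Helper9.Steiner.iso_std_of_checked
    Cfsg.Agent.Helper9.Steiner.D3622M.checked hα hB
  have hstd : Cfsg.IsSteinerSystem 3 6
      (Cfsg.Agent.Helper9.Steiner.stdSet Cfsg.Agent.Helper9.Steiner.D3622M.P) := by
    rw [← he]; exact Cfsg.Agent.Helper9.Steiner.steiner_mapSys e hB
  obtain ⟨hc, htr, K, hK2, hKs, hKc⟩ :=
    Cfsg.Agent.S0414.result Cfsg.Agent.Helper9.HSG.Model.card_n hstd
  exact Cfsg.Agent.Helper9.HSG.transfer_isHS e B _ he Cfsg.Agent.Helper9.HSG.Model.evenAut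
    ⟨Cfsg.Agent.Helper9.HSG.Model.evenAut_simple hstd htr K hK2 hKs hKc,
      Cfsg.Agent.Helper9.HSG.Model.card_evenAut hstd htr hc⟩

end Cfsg.Agent.S0431
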