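import Cfsg.Statements.S1586
import Cfsg.Agent.Helper9.Steiner.D3622M
import Cfsg.Agent.Helper9.HSG.Trans
import Cfsg.Agent.Helper9.HSG.Congr
import Cfsg.Agent.Helper9.HSG.Model
import Cfsg.Agent.S0414

set_option autoImplicit false
open Cfsg

namespace Cfsg.Agent.S1586

/-- The Higman–Sims graph built from an S(3, 6, 22) has exactly 88704000 automorphisms. -/
theorem result {α : Type*} [Fintype α] [DecidableEq α] (hα : Fintype.card α = 22) {B : Set (Finset α)} (hB : Cfsg.IsSteinerSystem 3 6 B) : Nat.card (Cfsg.pointBlockGraph B ≃g Cfsg.pointBlockGraph B) = 88704000 := by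
  classical
  obtain ⟨e, he⟩ := Cfsg.Agent.Helper9.Steiner.iso_std_of_checked
    Cfsg.Agent.Helper9.Steiner.D3622M.checked hα hB
  have hstd : Cfsg.IsSteinerSystem 3 6
      (Cfsg.Agent.Helper9.Steiner.stdSet Cfsg.Agent.Helper9.Steiner.D3622M.P) := by
    rw [← he]; exact Cfsg.Agent.Helper9.Steiner.steiner_mapSys e hB
  have h1 : Nat.card (Cfsg.pointBlockGraph B ≃g Cfsg.pointBlockGraph B) =
      Nat.card (Cfsg.pointBlockGraph
        (Cfsg.Agent.Helper9.Steiner.stdSet Cfsg.Agent.Helper9.Steiner.D3622M.P) ≃g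
        Cfsg.pointBlockGraph
          (Cfsg.Agent.Helper9.Steiner.stdSet Cfsg.Agent.Helper9.Steiner.D3622M.P)) := by
    rw [← he]
    exact Nat.card_congr (Cfsg.Agent.Helper9.HSG.autIsoCongr
      (Cfsg.Agent.Helper9.HSG.pbgCongr e B)).toEquiv
  rw [h1]
  have hcardn : Fintype.card (Fin Cfsg.Agent.Helper9.Steiner.D3622M.P.n) = 22 := by
    rw [Fintype.card_fin]; rfl
  obtain ⟨hc, htr, -⟩ := Cfsg.Agent.S0414.result hcardn hstd
  obtain ⟨c0, hc0⟩ := Cfsg.Agent.Helper9.HSG.Model.sigma_q1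
  have hpre := Cfsg.Agent.Helper9.HSG.pretransitive_of_move hstd htr
    (by rw [hcardn]; norm_num) Cfsg.Agent.Helper9.HSG.Model.sigma
    Cfsg.Agent.Helper9.HSG.Model.q0 Cfsg.Agent.Helper9.HSG.Model.q1 c0
    Cfsg.Agent.Helper9.HSG.Model.sigma_none hc0
  rw [Cfsg.Agent.Helper9.HSG.card_aut_graph hpre, hc]
  have hblocks : Nat.card ↥(Cfsg.Agent.Helper9.Steiner.stdSet
      Cfsg.Agent.Helper9.Steiner.D3622M.P) = 77 := by
    have := Cfsg.Agent.Helper9.Steiner.steiner_card hstd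
    rw [hcardn] at this
    have h20 : Nat.choose 6 3 = 20 := by decide
    have h1540 : Nat.choose 22 3 = 1540 := by decide
    rw [h20, h1540] at this
    omega
  haveI : Finite ↥(Cfsg.Agent.Helper9.Steiner.stdSet Cfsg.Agent.Helper9.Steiner.D3622M.P) :=
    Nat.finite_of_card_ne_zero (by rw [hblocks]; norm_num)
  have hV : Nat.card (Option (Fin Cfsg.Agent.Helper9.Steiner.D3622M.P.n ⊕
      ↥(Cfsg.Agent.Helper9.Steiner.stdSet Cfsg.Agent.Helper9.Steiner.D3622M.P))) = 100 := by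
    rw [Finite.card_option, Nat.card_sum, hblocks, Nat.card_eq_fintype_card, hcardn]
  rw [hV]

end Cfsg.Agent.S1586
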