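import Mathlib
import Cfsg.Statements.S0824
import Cfsg.Agent.Helper7.IsomTransfer

set_option autoImplicit false
open Cfsg

namespace Cfsg.Agent.S0824

open Matrix

/-- The index type. -/
abbrev I4 := (Fin 1 ⊕ Fin 1) ⊕ Fin 2
/-- The vectors over the field with two elements. -/
abbrev V4 := I4 → ZMod 2

/-- The quadratic form over `ZMod 2`. -/
def Q4 : V4 → ZMod 2 := quadFormMinus 1 (ZMod 2) 1 1

/-- The polar form. -/
def pol (u v : V4) : ZMod 2 := Q4 (u + v) + Q4 u + Q4 v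

/-- The reflection matrix. -/
def R (u : V4) : Matrix I4 I4 (ZMod 2) :=
  Matrix.of fun i j => (if i = j then 1 else 0) + u i * pol (Pi.single j 1) u

set_option maxRecDepth 1000000 in
theorem pol_sing : ∀ u v : V4, (u ≠ 0 ∧ v ≠ 0 ∧ Q4 u = 0 ∧ Q4 v = 0 ∧ u ≠ v) → pol u v = 1 := by
  decide

set_option maxRecDepth 1000000 in
theorem Q4_refl : ∀ u v : V4, Q4 u = 1 → Q4 (v + pol v u • u) = Q4 v := by
  decide

set_option maxRecDepth 1000000 in
theorem pol_add : ∀ u v w : V4, pol (u + v) w = pol u w + pol v w := by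
  decide

set_option maxRecDepth 1000000 in
theorem pol_self : ∀ u : V4, pol u u = 0 := by
  decide

set_option maxRecDepth 1000000 in
theorem pol_comm : ∀ u v : V4, pol u v = pol v u := by
  decide

set_option maxRecDepth 1000000 in
theorem R_mulVec : ∀ u v : V4, R u *ᵥ v = v + pol v u • u := by
  decide

set_option maxRecDepth 1000000 in
theorem R_mul_self : ∀ u : V4, R u * R u = 1 := by
  decide

set_option maxRecDepth 1000000 in
theorem span_sing : ∀ j : I4, ∃ a b c : V4, (Q4 a = 0 ∧ Q4 b = 0 ∧ Q4 c = 0) ∧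
    (Pi.single j 1 : V4) = a + b + c := by
  decide

set_option maxRecDepth 1000000 in
theorem add_self_V4 : ∀ u : V4, u + u = 0 := by
  decide

/-- The isometry group over `ZMod 2`. -/
abbrev G := ↥(isometryGroup (ZMod 2) (quadFormMinus 1 (ZMod 2) 1 1))

theorem mem_iff (g : Matrix.GeneralLinearGroup I4 (ZMod 2)) :
    g ∈ isometryGroup (ZMod 2) (quadFormMinus 1 (ZMod 2) 1 1) ↔
      ∀ v : V4, Q4 (g.1 *ᵥ v) = Q4 v := by
  constructor
  · intro h v; exact h v v
  · intro h u v; exact h u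

theorem inv_mulVec (g : Matrix.GeneralLinearGroup I4 (ZMod 2)) (v : V4) :
    (g⁻¹).1 *ᵥ (g.1 *ᵥ v) = v := by
  rw [Matrix.mulVec_mulVec, ← Units.val_mul, inv_mul_cancel, Units.val_one, Matrix.one_mulVec]

instance decS : DecidablePred (fun v : V4 => v ≠ 0 ∧ Q4 v = 0) := fun v =>
  inferInstanceAs (Decidable (v ≠ 0 ∧ Q4 v = 0))

/-- The nonzero singular vectors. -/
abbrev S := {v : V4 // v ≠ 0 ∧ Q4 v = 0}

set_option maxRecDepth 1000000 in
theorem card_S : Fintype.card S = 5 := by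
  decide

theorem smul_mem (g : G) (s : S) : g.1.1 *ᵥ s.1 ≠ 0 ∧ Q4 (g.1.1 *ᵥ s.1) = 0 := by
  constructor
  · intro h
    have h2 := inv_mulVec g.1 s.1
    rw [h, Matrix.mulVec_zero] at h2
    exact s.2.1 h2.symm
  · rw [(mem_iff g.1).mp g.2]; exact s.2.2

instance actS : MulAction G S where
  smul g s := ⟨g.1.1 *ᵥ s.1, smul_mem g s⟩
  one_smul s := by
    apply Subtype.ext
    show (1 : Matrix I4 I4 (ZMod 2)) *ᵥ s.1 = s.1
    rw [Matrix.one_mulVec]
  mul_smul g h s := by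
    apply Subtype.ext
    show (g.1.1 * h.1.1) *ᵥ s.1 = g.1.1 *ᵥ (h.1.1 *ᵥ s.1)
    rw [Matrix.mulVec_mulVec]

theorem smul_val (g : G) (s : S) : (g • s).1 = g.1.1 *ᵥ s.1 := rfl

/-- The permutation representation. -/
def rho : G →* Equiv.Perm S := MulAction.toPermHom G S

theorem rho_apply (g : G) (s : S) : rho g s = g • s := rfl

theorem rho_injective : Function.Injective rho := by
  rw [injective_iff_map_eq_one]
  intro g hg
  have hfix : ∀ v : V4, Q4 v = 0 → g.1.1 *ᵥ v = v := by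
    intro v hv
    by_cases h0 : v = 0
    · rw [h0, Matrix.mulVec_zero]
    · have := congrArg (fun σ : Equiv.Perm S => (σ ⟨v, h0, hv⟩).1) hg
      simpa [rho_apply, smul_val] using this
  apply Subtype.ext
  apply Units.ext
  show g.1.1 = 1
  ext i j
  obtain ⟨a, b, c, ⟨ha, hb, hc⟩, habc⟩ := span_sing j
  have h1 : g.1.1 *ᵥ (Pi.single j 1 : V4) = Pi.single j 1 := by
    rw [habc, Matrix.mulVec_add, Matrix.mulVec_add, hfix a ha, hfix b hb, hfix c hc]
  have h2 := congrFun h1 i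
  rw [Matrix.mulVec_single_one] at h2
  change g.1.1 i j = _ at h2
  show g.1.1 i j = (1 : Matrix I4 I4 (ZMod 2)) i j
  rw [Matrix.one_apply, h2, Pi.single_apply]

/-- The reflection in a nonsingular vector, as an element of `GL`. -/
def reflGL (u : V4) : Matrix.GeneralLinearGroup I4 (ZMod 2) :=
  ⟨R u, R u, R_mul_self u, R_mul_self u⟩

theorem reflGL_mem (u : V4) (hu : Q4 u = 1) :
    reflGL u ∈ isometryGroup (ZMod 2) (quadFormMinus 1 (ZMod 2) 1 1) := by
  rw [mem_iff]
  intro v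
  show Q4 (R u *ᵥ v) = Q4 v
  rw [R_mulVec, Q4_refl u v hu]

theorem Q4_add_sing (s t : S) (hst : s ≠ t) : Q4 (s.1 + t.1) = 1 := by
  have h := pol_sing s.1 t.1 ⟨s.2.1, t.2.1, s.2.2, t.2.2, fun h => hst (Subtype.ext h)⟩
  unfold pol at h
  rw [s.2.2, t.2.2, add_zero, add_zero] at h
  exact h

theorem refl_smul (s t : S) (hst : s ≠ t) (x : S) :
    (⟨reflGL (s.1 + t.1), reflGL_mem _ (Q4_add_sing s t hst)⟩ : G) • x = Equiv.swap s t x := by
  apply Subtype.ext
  show R (s.1 + t.1) *ᵥ x.1 = (Equiv.swap s t x).1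
  rw [R_mulVec, pol_comm, pol_add]
  have hst' : pol s.1 t.1 = 1 :=
    pol_sing s.1 t.1 ⟨s.2.1, t.2.1, s.2.2, t.2.2, fun h => hst (Subtype.ext h)⟩
  by_cases hxs : x = s
  · subst hxs
    rw [Equiv.swap_apply_left, pol_self, pol_comm, hst', zero_add, one_smul, ← add_assoc,
      add_self_V4, zero_add]
  · by_cases hxt : x = t
    · subst hxt
      rw [Equiv.swap_apply_right, pol_self, hst', add_zero, one_smul, add_comm s.1, ← add_assoc,
        add_self_V4, zero_add]
    · rw [Equiv.swap_apply_of_ne_of_ne hxs hxt]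
      have h1 : pol s.1 x.1 = 1 :=
        pol_sing s.1 x.1 ⟨s.2.1, x.2.1, s.2.2, x.2.2, fun h => hxs (Subtype.ext h.symm)⟩
      have h2 : pol t.1 x.1 = 1 :=
        pol_sing t.1 x.1 ⟨t.2.1, x.2.1, t.2.2, x.2.2, fun h => hxt (Subtype.ext h.symm)⟩
      rw [h1, h2, show (1 : ZMod 2) + 1 = 0 by decide, zero_smul, add_zero]

theorem rho_surjective : Function.Surjective rho := by
  rw [← MonoidHom.range_eq_top, eq_top_iff, ← Equiv.Perm.closure_isSwap, Subgroup.closure_le]
  rintro σ ⟨s, t, hst, rfl⟩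
  refine ⟨⟨reflGL (s.1 + t.1), reflGL_mem _ (Q4_add_sing s t hst)⟩, ?_⟩
  ext x
  rw [rho_apply, refl_smul s t hst x]

theorem main2 : Nonempty (G ≃* Equiv.Perm (Fin 5)) := by
  have e1 : G ≃* Equiv.Perm S := MulEquiv.ofBijective rho ⟨rho_injective, rho_surjective⟩
  have e2 : S ≃ Fin 5 := Fintype.equivFinOfCardEq card_S
  exact ⟨e1.trans e2.permCongrHom⟩

/-- O⁻_4(2) ≅ S_5: the isometry group of the form x y + z_1² + z_1 z_2 + z_2² over the field with 2 elements is isomorphic to the symmetric group on 5 letters. -/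
theorem result {F : Type*} [Field F] [Fintype F] (hF : Fintype.card F = 2) : Nonempty (↥(Cfsg.isometryGroup F (Cfsg.quadFormMinus 1 F 1 1)) ≃* Equiv.Perm (Fin 5)) := by
  have φ : F ≃+* ZMod 2 := (ZMod.ringEquivOfPrime F Nat.prime_two hF).symm
  obtain ⟨e⟩ := Helper7.IsomTransfer.isometryGroup_equiv φ (quadFormMinus 1 F 1 1)
    (quadFormMinus 1 (ZMod 2) 1 1) (by
      intro v
      simp [quadFormMinus, map_add, map_mul, map_pow])
  obtain ⟨e2⟩ := main2
  exact ⟨e.trans e2⟩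

end Cfsg.Agent.S0824
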