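import Cfsg.Statements.S0375
import Cfsg.Agent.Helper9.Steiner.D5824
import Cfsg.Agent.Helper9.Golay.Steiner
import Cfsg.Agent.Helper9.Golay.Aut
import Cfsg.Agent.S5622
import Cfsg.Agent.S0358

set_option autoImplicit false
open Cfsg

namespace Cfsg.Agent.S0375

/-- A doubly even self-dual binary code of length 24 with no words of weight 4 is equivalent to the length-24 code built from the squares modulo 23. -/
theorem result (C : Submodule (ZMod 2) (Fin 24 → ZMod 2)) (hdim : Module.finrank (ZMod 2) C = 12) (horth : ∀ v ∈ C, ∀ w ∈ C, ∑ i, v i * w i = 0) (h4 : ∀ w ∈ C, 4 ∣ hammingNorm w) (hno4 : ∀ w ∈ C, hammingNorm w ≠ 4) : ∃ e : Fin 24 ≃ Cfsg.GolayPt, ∀ w : Cfsg.GolayPt → ZMod 2, w ∈ Cfsg.golayCode ↔ (fun i => w (e i)) ∈ C := by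
  classical
  have hmin : ∀ w ∈ C, w ≠ 0 → 8 ≤ hammingNorm w := by
    intro w hw hne
    obtain ⟨k, hk⟩ := h4 w hw
    have h1 := hno4 w hw
    have hpos : 0 < hammingNorm w := hammingNorm_pos_iff.2 hne
    omega
  obtain ⟨-, hst⟩ := Cfsg.Agent.S5622.result C hdim horth hmin
  have hoct : Cfsg.IsSteinerSystem 5 8 Cfsg.octads := Cfsg.Agent.Helper9.Golay.octads_isSteinerSystem
  have hcardG : Fintype.card Cfsg.GolayPt = 24 := by decide
  obtain ⟨e, he⟩ := Cfsg.Agent.Helper9.Steiner.unique_of_checked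
    Cfsg.Agent.Helper9.Steiner.D5824.checked (Fintype.card_fin 24) hcardG hst hoct
  refine ⟨e, ?_⟩
  -- the code pulled back to the 24 points
  set L : (Cfsg.GolayPt → ZMod 2) ≃ₗ[ZMod 2] (Fin 24 → ZMod 2) :=
    LinearEquiv.funCongrLeft (ZMod 2) (ZMod 2) e with hL
  set C' : Submodule (ZMod 2) (Cfsg.GolayPt → ZMod 2) := C.map L.symm.toLinearMap with hC'
  have hmemC' : ∀ w : Cfsg.GolayPt → ZMod 2, w ∈ C' ↔ (fun i => w (e i)) ∈ C := by
    intro w
    rw [hC']
    constructor
    · rintro ⟨v, hv, rfl⟩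
      have h1 : (fun i => (L.symm v) (e i)) = L (L.symm v) := rfl
      have : (fun i => (L.symm.toLinearMap v) (e i)) = v := h1.trans (L.apply_symm_apply v)
      rw [this]; exact hv
    · intro hw
      refine ⟨fun i => w (e i), hw, ?_⟩
      change L.symm (L w) = w
      exact L.symm_apply_apply w
  -- words with equal supports are equal
  have hsupp : ∀ (v w : Fin 24 → ZMod 2), Cfsg.support₂ v = Cfsg.support₂ w → v = w := by
    intro v w h
    funext p
    have h1 : p ∈ Cfsg.support₂ v ↔ p ∈ Cfsg.support₂ w := by rw [h]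
    unfold Cfsg.support₂ at h1
    simp only [Finset.mem_filter, Finset.mem_univ, true_and] at h1
    rcases Cfsg.Agent.Helper9.Golay.zmod2_cases (v p) with h2 | h2 <;>
      rcases Cfsg.Agent.Helper9.Golay.zmod2_cases (w p) with h3 | h3
    · rw [h2, h3]
    · exfalso; rw [h2, h3] at h1; simp at h1
    · exfalso; rw [h2, h3] at h1; simp at h1
    · rw [h2, h3]
  have hle : Cfsg.golayCode ≤ C' := by
    refine le_trans Cfsg.Agent.Helper9.Golay.golayCode_le_span_basis ?_
    rw [Submodule.span_le]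
    rintro w ⟨b, hb, rfl⟩
    have hbmem : b ∈ Cfsg.Agent.Helper9.Golay.basis12 := hb
    rw [SetLike.mem_coe, hmemC']
    -- the support is an octad
    have ho : Cfsg.support₂ (Cfsg.Agent.Helper9.Golay.decW b) ∈ Cfsg.octads := by
      refine ⟨⟨_, Cfsg.Agent.Helper9.Golay.decW_basis_mem b hbmem, rfl⟩, ?_⟩
      rw [Cfsg.Agent.Helper9.Golay.card_support₂_decW]
      exact Cfsg.Agent.Helper9.Golay.basis12_popc b hbmem
    rw [← he] at ho
    obtain ⟨s, ⟨⟨v, hv, rfl⟩, -⟩, hs⟩ := ho
    simp only at hs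
    have : (fun i => Cfsg.Agent.Helper9.Golay.decW b (e i)) = v := by
      apply hsupp
      ext p
      have h2 : e p ∈ Cfsg.support₂ (Cfsg.Agent.Helper9.Golay.decW b) ↔ p ∈ Cfsg.support₂ v := by
        rw [← hs, Finset.mem_image]
        constructor
        · rintro ⟨q, hq, hqe⟩
          rw [e.injective hqe] at hq; exact hq
        · intro hp
          exact ⟨p, hp, rfl⟩
      rw [← h2]
      simp [Cfsg.support₂]
    rw [this]
    exact hv
  have hfr : Module.finrank (ZMod 2) Cfsg.golayCode = Module.finrank (ZMod 2) C' := by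
    rw [Cfsg.Agent.S0358.result, hC', LinearEquiv.finrank_map_eq, hdim]
  have heq : Cfsg.golayCode = C' := Submodule.eq_of_le_of_finrank_eq hle hfr
  intro w
  rw [heq]
  exact hmemC' w

end Cfsg.Agent.S0375
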