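import Mathlib
import Cfsg.Agent.Helper5.TCIB
import Cfsg.Agent.Helper5.ONTCSum
import Cfsg.Statements.S1692
-- import your own Cfsg.Agent.* helpers here

set_option autoImplicit false
open Cfsg

namespace Cfsg.Agent.S1692

open Cfsg.Agent.Helper5.TC Cfsg.Agent.Helper5.TCI Cfsg.Agent.Helper5.ONTC Cfsg.Spor

/-- encoding of the generators. -/
def enc : ON.Gen → ℕ
  | .a => 0
  | .b => 1
  | .c => 2
  | .d => 3
  | .e => 4
  | .f => 5
  | .g => 6

/-- the free-group words of the letters. -/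
def gw (x : ℕ) : FreeGroup ON.Gen :=
  ([ON.a, ON.b, ON.c, ON.d, ON.e, ON.f, ON.g, ON.g⁻¹] : List (FreeGroup ON.Gen)).getD x 1

/-- the relators. -/
abbrev rels : Set (FreeGroup ON.Gen) := coxRelators ON.edges ∪ {r | r ∈ ON.extra}

theorem i0 : iota 0 = 0 := rfl
theorem i1 : iota 1 = 1 := rfl
theorem i2 : iota 2 = 2 := rfl
theorem i3 : iota 3 = 3 := rfl
theorem i4 : iota 4 = 4 := rfl
theorem i5 : iota 5 = 5 := rfl
theorem i6 : iota 6 = 7 := rfl
theorem i7 : iota 7 = 6 := rfl

theorem iota_ge {x : ℕ} (h : 8 ≤ x) : iota x = x := by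
  have h6 : Nat.beq x 6 = false := by
    cases hb : Nat.beq x 6 with
    | false => rfl
    | true => have := Nat.eq_of_beq_eq_true hb; omega
  have h7 : Nat.beq x 7 = false := by
    cases hb : Nat.beq x 7 with
    | false => rfl
    | true => have := Nat.eq_of_beq_eq_true hb; omega
  unfold iota
  rw [h6, h7]
  rfl

theorem iota_iota (x : ℕ) : iota (iota x) = x := by
  rcases Nat.lt_or_ge x 8 with h | h
  · interval_cases x <;> rfl
  · rw [iota_ge h, iota_ge h]

theorem iota_lt8 (x : ℕ) (h : x < E.D.k) : iota x < E.D.k := by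
  have h' : x < 8 := h
  interval_cases x <;> decide

theorem iota_lt16 (x : ℕ) (h : x < 16) : iota x < 16 := by
  interval_cases x <;> decide

theorem gw_ge {x : ℕ} (h : 8 ≤ x) : gw x = 1 := by
  unfold gw
  exact List.getD_eq_default _ _ (by simpa using h)

theorem node_sq (z : ON.Gen) (hz : z ∈ coxNodes ON.edges) :
    PresentedGroup.mk rels (FreeGroup.of z) * PresentedGroup.mk rels (FreeGroup.of z) = 1 := by
  have hm : (FreeGroup.of z * FreeGroup.of z) ^ coxLabel ON.edges z z ∈ rels :=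
    Or.inl ⟨z, hz, z, hz, rfl⟩
  have h := PresentedGroup.one_of_mem hm
  rwa [map_pow, map_mul, coxLabel, if_pos rfl, pow_one] at h

theorem gw_inv (x : ℕ) :
    PresentedGroup.mk rels (gw x) * PresentedGroup.mk rels (gw (iota x)) = 1 := by
  rcases Nat.lt_or_ge x 8 with h | h
  · interval_cases x
    · exact node_sq .a (by decide)
    · exact node_sq .b (by decide)
    · exact node_sq .c (by decide)
    · exact node_sq .d (by decide)
    · exact node_sq .e (by decide)
    · exact node_sq .f (by decide)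
    · show PresentedGroup.mk rels ON.g * PresentedGroup.mk rels (ON.g⁻¹) = 1
      rw [map_inv, mul_inv_cancel]
    · show PresentedGroup.mk rels (ON.g⁻¹) * PresentedGroup.mk rels ON.g = 1
      rw [map_inv, inv_mul_cancel]
  · rw [iota_ge h, gw_ge h, map_one, one_mul]

theorem gw_match (x : ℕ) (hx : x < E.D.k) (K : Type) [Group K] (γ : ℕ → K)
    (hγ : ∀ y, γ y * γ (iota y) = 1) :
    FreeGroup.lift (fun z => γ (enc z)) (gw x) = γ x := by
  have hx' : x < 8 := hx
  interval_cases x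
  · exact FreeGroup.lift_apply_of
  · exact FreeGroup.lift_apply_of
  · exact FreeGroup.lift_apply_of
  · exact FreeGroup.lift_apply_of
  · exact FreeGroup.lift_apply_of
  · exact FreeGroup.lift_apply_of
  · exact FreeGroup.lift_apply_of
  · show FreeGroup.lift (fun z => γ (enc z)) (ON.g⁻¹) = γ 7
    rw [map_inv, FreeGroup.lift_apply_of]
    exact inv_eq_of_mul_eq_one_right (hγ 6)

theorem wmI_core {K : Type} [Group K] (γ : ℕ → K) (hγ : ∀ y, γ y * γ (iota y) = 1) (x : ℕ) :
    (γ x)⁻¹ = γ (iota x) := inv_eq_of_mul_eq_one_right (hγ x)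

set_option linter.unusedSimpArgs false in
set_option maxRecDepth 100000 in
theorem wm_0 : WordMatchI iota enc ((ON.a * ON.a) ^ coxLabel ON.edges .a .a) (D.wlen 0) (D.wordP 0) := by
  intro K _ γ hγ
  have hl : coxLabel ON.edges .a .a = 1 := by decide
  rw [hl, word_0]
  simp only [ON.a, ON.b, ON.c, ON.d, ON.e, ON.f, ON.g, map_mul, map_inv, map_pow,
    FreeGroup.lift_apply_of, enc, rprod, one_mul, pow_succ, pow_zero, mul_inv_rev, inv_inv,
    wmI_core γ hγ, i0, i1, i2, i3, i4, i5, i6, i7, mul_assoc]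

set_option linter.unusedSimpArgs false in
set_option maxRecDepth 100000 in
theorem wm_1 : WordMatchI iota enc ((ON.b * ON.a) ^ coxLabel ON.edges .b .a) (D.wlen 1) (D.wordP 1) := by
  intro K _ γ hγ
  have hl : coxLabel ON.edges .b .a = 3 := by decide
  rw [hl, word_1]
  simp only [ON.a, ON.b, ON.c, ON.d, ON.e, ON.f, ON.g, map_mul, map_inv, map_pow,
    FreeGroup.lift_apply_of, enc, rprod, one_mul, pow_succ, pow_zero, mul_inv_rev, inv_inv,
    wmI_core γ hγ, i0, i1, i2, i3, i4, i5, i6, i7, mul_assoc]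

set_option linter.unusedSimpArgs false in
set_option maxRecDepth 100000 in
theorem wm_2 : WordMatchI iota enc ((ON.c * ON.a) ^ coxLabel ON.edges .c .a) (D.wlen 2) (D.wordP 2) := by
  intro K _ γ hγ
  have hl : coxLabel ON.edges .c .a = 2 := by decide
  rw [hl, word_2]
  simp only [ON.a, ON.b, ON.c, ON.d, ON.e, ON.f, ON.g, map_mul, map_inv, map_pow,
    FreeGroup.lift_apply_of, enc, rprod, one_mul, pow_succ, pow_zero, mul_inv_rev, inv_inv,
    wmI_core γ hγ, i0, i1, i2, i3, i4, i5, i6, i7, mul_assoc]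

set_option linter.unusedSimpArgs false in
set_option maxRecDepth 100000 in
theorem wm_3 : WordMatchI iota enc ((ON.d * ON.a) ^ coxLabel ON.edges .d .a) (D.wlen 3) (D.wordP 3) := by
  intro K _ γ hγ
  have hl : coxLabel ON.edges .d .a = 2 := by decide
  rw [hl, word_3]
  simp only [ON.a, ON.b, ON.c, ON.d, ON.e, ON.f, ON.g, map_mul, map_inv, map_pow,
    FreeGroup.lift_apply_of, enc, rprod, one_mul, pow_succ, pow_zero, mul_inv_rev, inv_inv,
    wmI_core γ hγ, i0, i1, i2, i3, i4, i5, i6, i7, mul_assoc]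

set_option linter.unusedSimpArgs false in
set_option maxRecDepth 100000 in
theorem wm_4 : WordMatchI iota enc ((ON.e * ON.a) ^ coxLabel ON.edges .e .a) (D.wlen 4) (D.wordP 4) := by
  intro K _ γ hγ
  have hl : coxLabel ON.edges .e .a = 2 := by decide
  rw [hl, word_4]
  simp only [ON.a, ON.b, ON.c, ON.d, ON.e, ON.f, ON.g, map_mul, map_inv, map_pow,
    FreeGroup.lift_apply_of, enc, rprod, one_mul, pow_succ, pow_zero, mul_inv_rev, inv_inv,
    wmI_core γ hγ, i0, i1, i2, i3, i4, i5, i6, i7, mul_assoc]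

set_option linter.unusedSimpArgs false in
set_option maxRecDepth 100000 in
theorem wm_5 : WordMatchI iota enc ((ON.f * ON.a) ^ coxLabel ON.edges .f .a) (D.wlen 5) (D.wordP 5) := by
  intro K _ γ hγ
  have hl : coxLabel ON.edges .f .a = 2 := by decide
  rw [hl, word_5]
  simp only [ON.a, ON.b, ON.c, ON.d, ON.e, ON.f, ON.g, map_mul, map_inv, map_pow,
    FreeGroup.lift_apply_of, enc, rprod, one_mul, pow_succ, pow_zero, mul_inv_rev, inv_inv,
    wmI_core γ hγ, i0, i1, i2, i3, i4, i5, i6, i7, mul_assoc]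

set_option linter.unusedSimpArgs false in
set_option maxRecDepth 100000 in
theorem wm_6 : WordMatchI iota enc ((ON.a * ON.b) ^ coxLabel ON.edges .a .b) (D.wlen 6) (D.wordP 6) := by
  intro K _ γ hγ
  have hl : coxLabel ON.edges .a .b = 3 := by decide
  rw [hl, word_6]
  simp only [ON.a, ON.b, ON.c, ON.d, ON.e, ON.f, ON.g, map_mul, map_inv, map_pow,
    FreeGroup.lift_apply_of, enc, rprod, one_mul, pow_succ, pow_zero, mul_inv_rev, inv_inv,
    wmI_core γ hγ, i0, i1, i2, i3, i4, i5, i6, i7, mul_assoc]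

set_option linter.unusedSimpArgs false in
set_option maxRecDepth 100000 in
theorem wm_7 : WordMatchI iota enc ((ON.b * ON.b) ^ coxLabel ON.edges .b .b) (D.wlen 7) (D.wordP 7) := by
  intro K _ γ hγ
  have hl : coxLabel ON.edges .b .b = 1 := by decide
  rw [hl, word_7]
  simp only [ON.a, ON.b, ON.c, ON.d, ON.e, ON.f, ON.g, map_mul, map_inv, map_pow,
    FreeGroup.lift_apply_of, enc, rprod, one_mul, pow_succ, pow_zero, mul_inv_rev, inv_inv,
    wmI_core γ hγ, i0, i1, i2, i3, i4, i5, i6, i7, mul_assoc]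

set_option linter.unusedSimpArgs false in
set_option maxRecDepth 100000 in
theorem wm_8 : WordMatchI iota enc ((ON.c * ON.b) ^ coxLabel ON.edges .c .b) (D.wlen 8) (D.wordP 8) := by
  intro K _ γ hγ
  have hl : coxLabel ON.edges .c .b = 3 := by decide
  rw [hl, word_8]
  simp only [ON.a, ON.b, ON.c, ON.d, ON.e, ON.f, ON.g, map_mul, map_inv, map_pow,
    FreeGroup.lift_apply_of, enc, rprod, one_mul, pow_succ, pow_zero, mul_inv_rev, inv_inv,
    wmI_core γ hγ, i0, i1, i2, i3, i4, i5, i6, i7, mul_assoc]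

set_option linter.unusedSimpArgs false in
set_option maxRecDepth 100000 in
theorem wm_9 : WordMatchI iota enc ((ON.d * ON.b) ^ coxLabel ON.edges .d .b) (D.wlen 9) (D.wordP 9) := by
  intro K _ γ hγ
  have hl : coxLabel ON.edges .d .b = 2 := by decide
  rw [hl, word_9]
  simp only [ON.a, ON.b, ON.c, ON.d, ON.e, ON.f, ON.g, map_mul, map_inv, map_pow,
    FreeGroup.lift_apply_of, enc, rprod, one_mul, pow_succ, pow_zero, mul_inv_rev, inv_inv,
    wmI_core γ hγ, i0, i1, i2, i3, i4, i5, i6, i7, mul_assoc]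

set_option linter.unusedSimpArgs false in
set_option maxRecDepth 100000 in
theorem wm_10 : WordMatchI iota enc ((ON.e * ON.b) ^ coxLabel ON.edges .e .b) (D.wlen 10) (D.wordP 10) := by
  intro K _ γ hγ
  have hl : coxLabel ON.edges .e .b = 2 := by decide
  rw [hl, word_10]
  simp only [ON.a, ON.b, ON.c, ON.d, ON.e, ON.f, ON.g, map_mul, map_inv, map_pow,
    FreeGroup.lift_apply_of, enc, rprod, one_mul, pow_succ, pow_zero, mul_inv_rev, inv_inv,
    wmI_core γ hγ, i0, i1, i2, i3, i4, i5, i6, i7, mul_assoc]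

set_option linter.unusedSimpArgs false in
set_option maxRecDepth 100000 in
theorem wm_11 : WordMatchI iota enc ((ON.f * ON.b) ^ coxLabel ON.edges .f .b) (D.wlen 11) (D.wordP 11) := by
  intro K _ γ hγ
  have hl : coxLabel ON.edges .f .b = 2 := by decide
  rw [hl, word_11]
  simp only [ON.a, ON.b, ON.c, ON.d, ON.e, ON.f, ON.g, map_mul, map_inv, map_pow,
    FreeGroup.lift_apply_of, enc, rprod, one_mul, pow_succ, pow_zero, mul_inv_rev, inv_inv,
    wmI_core γ hγ, i0, i1, i2, i3, i4, i5, i6, i7, mul_assoc]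

set_option linter.unusedSimpArgs false in
set_option maxRecDepth 100000 in
theorem wm_12 : WordMatchI iota enc ((ON.a * ON.c) ^ coxLabel ON.edges .a .c) (D.wlen 12) (D.wordP 12) := by
  intro K _ γ hγ
  have hl : coxLabel ON.edges .a .c = 2 := by decide
  rw [hl, word_12]
  simp only [ON.a, ON.b, ON.c, ON.d, ON.e, ON.f, ON.g, map_mul, map_inv, map_pow,
    FreeGroup.lift_apply_of, enc, rprod, one_mul, pow_succ, pow_zero, mul_inv_rev, inv_inv,
    wmI_core γ hγ, i0, i1, i2, i3, i4, i5, i6, i7, mul_assoc]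

set_option linter.unusedSimpArgs false in
set_option maxRecDepth 100000 in
theorem wm_13 : WordMatchI iota enc ((ON.b * ON.c) ^ coxLabel ON.edges .b .c) (D.wlen 13) (D.wordP 13) := by
  intro K _ γ hγ
  have hl : coxLabel ON.edges .b .c = 3 := by decide
  rw [hl, word_13]
  simp only [ON.a, ON.b, ON.c, ON.d, ON.e, ON.f, ON.g, map_mul, map_inv, map_pow,
    FreeGroup.lift_apply_of, enc, rprod, one_mul, pow_succ, pow_zero, mul_inv_rev, inv_inv,
    wmI_core γ hγ, i0, i1, i2, i3, i4, i5, i6, i7, mul_assoc]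

set_option linter.unusedSimpArgs false in
set_option maxRecDepth 100000 in
theorem wm_14 : WordMatchI iota enc ((ON.c * ON.c) ^ coxLabel ON.edges .c .c) (D.wlen 14) (D.wordP 14) := by
  intro K _ γ hγ
  have hl : coxLabel ON.edges .c .c = 1 := by decide
  rw [hl, word_14]
  simp only [ON.a, ON.b, ON.c, ON.d, ON.e, ON.f, ON.g, map_mul, map_inv, map_pow,
    FreeGroup.lift_apply_of, enc, rprod, one_mul, pow_succ, pow_zero, mul_inv_rev, inv_inv,
    wmI_core γ hγ, i0, i1, i2, i3, i4, i5, i6, i7, mul_assoc]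

set_option linter.unusedSimpArgs false in
set_option maxRecDepth 100000 in
theorem wm_15 : WordMatchI iota enc ((ON.d * ON.c) ^ coxLabel ON.edges .d .c) (D.wlen 15) (D.wordP 15) := by
  intro K _ γ hγ
  have hl : coxLabel ON.edges .d .c = 8 := by decide
  rw [hl, word_15]
  simp only [ON.a, ON.b, ON.c, ON.d, ON.e, ON.f, ON.g, map_mul, map_inv, map_pow,
    FreeGroup.lift_apply_of, enc, rprod, one_mul, pow_succ, pow_zero, mul_inv_rev, inv_inv,
    wmI_core γ hγ, i0, i1, i2, i3, i4, i5, i6, i7, mul_assoc]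

set_option linter.unusedSimpArgs false in
set_option maxRecDepth 100000 in
theorem wm_16 : WordMatchI iota enc ((ON.e * ON.c) ^ coxLabel ON.edges .e .c) (D.wlen 16) (D.wordP 16) := by
  intro K _ γ hγ
  have hl : coxLabel ON.edges .e .c = 2 := by decide
  rw [hl, word_16]
  simp only [ON.a, ON.b, ON.c, ON.d, ON.e, ON.f, ON.g, map_mul, map_inv, map_pow,
    FreeGroup.lift_apply_of, enc, rprod, one_mul, pow_succ, pow_zero, mul_inv_rev, inv_inv,
    wmI_core γ hγ, i0, i1, i2, i3, i4, i5, i6, i7, mul_assoc]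

set_option linter.unusedSimpArgs false in
set_option maxRecDepth 100000 in
theorem wm_17 : WordMatchI iota enc ((ON.f * ON.c) ^ coxLabel ON.edges .f .c) (D.wlen 17) (D.wordP 17) := by
  intro K _ γ hγ
  have hl : coxLabel ON.edges .f .c = 2 := by decide
  rw [hl, word_17]
  simp only [ON.a, ON.b, ON.c, ON.d, ON.e, ON.f, ON.g, map_mul, map_inv, map_pow,
    FreeGroup.lift_apply_of, enc, rprod, one_mul, pow_succ, pow_zero, mul_inv_rev, inv_inv,
    wmI_core γ hγ, i0, i1, i2, i3, i4, i5, i6, i7, mul_assoc]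

set_option linter.unusedSimpArgs false in
set_option maxRecDepth 100000 in
theorem wm_18 : WordMatchI iota enc ((ON.a * ON.d) ^ coxLabel ON.edges .a .d) (D.wlen 18) (D.wordP 18) := by
  intro K _ γ hγ
  have hl : coxLabel ON.edges .a .d = 2 := by decide
  rw [hl, word_18]
  simp only [ON.a, ON.b, ON.c, ON.d, ON.e, ON.f, ON.g, map_mul, map_inv, map_pow,
    FreeGroup.lift_apply_of, enc, rprod, one_mul, pow_succ, pow_zero, mul_inv_rev, inv_inv,
    wmI_core γ hγ, i0, i1, i2, i3, i4, i5, i6, i7, mul_assoc]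

set_option linter.unusedSimpArgs false in
set_option maxRecDepth 100000 in
theorem wm_19 : WordMatchI iota enc ((ON.b * ON.d) ^ coxLabel ON.edges .b .d) (D.wlen 19) (D.wordP 19) := by
  intro K _ γ hγ
  have hl : coxLabel ON.edges .b .d = 2 := by decide
  rw [hl, word_19]
  simp only [ON.a, ON.b, ON.c, ON.d, ON.e, ON.f, ON.g, map_mul, map_inv, map_pow,
    FreeGroup.lift_apply_of, enc, rprod, one_mul, pow_succ, pow_zero, mul_inv_rev, inv_inv,
    wmI_core γ hγ, i0, i1, i2, i3, i4, i5, i6, i7, mul_assoc]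

set_option linter.unusedSimpArgs false in
set_option maxRecDepth 100000 in
theorem wm_20 : WordMatchI iota enc ((ON.c * ON.d) ^ coxLabel ON.edges .c .d) (D.wlen 20) (D.wordP 20) := by
  intro K _ γ hγ
  have hl : coxLabel ON.edges .c .d = 8 := by decide
  rw [hl, word_20]
  simp only [ON.a, ON.b, ON.c, ON.d, ON.e, ON.f, ON.g, map_mul, map_inv, map_pow,
    FreeGroup.lift_apply_of, enc, rprod, one_mul, pow_succ, pow_zero, mul_inv_rev, inv_inv,
    wmI_core γ hγ, i0, i1, i2, i3, i4, i5, i6, i7, mul_assoc]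

set_option linter.unusedSimpArgs false in
set_option maxRecDepth 100000 in
theorem wm_21 : WordMatchI iota enc ((ON.d * ON.d) ^ coxLabel ON.edges .d .d) (D.wlen 21) (D.wordP 21) := by
  intro K _ γ hγ
  have hl : coxLabel ON.edges .d .d = 1 := by decide
  rw [hl, word_21]
  simp only [ON.a, ON.b, ON.c, ON.d, ON.e, ON.f, ON.g, map_mul, map_inv, map_pow,
    FreeGroup.lift_apply_of, enc, rprod, one_mul, pow_succ, pow_zero, mul_inv_rev, inv_inv,
    wmI_core γ hγ, i0, i1, i2, i3, i4, i5, i6, i7, mul_assoc]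

set_option linter.unusedSimpArgs false in
set_option maxRecDepth 100000 in
theorem wm_22 : WordMatchI iota enc ((ON.e * ON.d) ^ coxLabel ON.edges .e .d) (D.wlen 22) (D.wordP 22) := by
  intro K _ γ hγ
  have hl : coxLabel ON.edges .e .d = 3 := by decide
  rw [hl, word_22]
  simp only [ON.a, ON.b, ON.c, ON.d, ON.e, ON.f, ON.g, map_mul, map_inv, map_pow,
    FreeGroup.lift_apply_of, enc, rprod, one_mul, pow_succ, pow_zero, mul_inv_rev, inv_inv,
    wmI_core γ hγ, i0, i1, i2, i3, i4, i5, i6, i7, mul_assoc]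

set_option linter.unusedSimpArgs false in
set_option maxRecDepth 100000 in
theorem wm_23 : WordMatchI iota enc ((ON.f * ON.d) ^ coxLabel ON.edges .f .d) (D.wlen 23) (D.wordP 23) := by
  intro K _ γ hγ
  have hl : coxLabel ON.edges .f .d = 2 := by decide
  rw [hl, word_23]
  simp only [ON.a, ON.b, ON.c, ON.d, ON.e, ON.f, ON.g, map_mul, map_inv, map_pow,
    FreeGroup.lift_apply_of, enc, rprod, one_mul, pow_succ, pow_zero, mul_inv_rev, inv_inv,
    wmI_core γ hγ, i0, i1, i2, i3, i4, i5, i6, i7, mul_assoc]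

set_option linter.unusedSimpArgs false in
set_option maxRecDepth 100000 in
theorem wm_24 : WordMatchI iota enc ((ON.a * ON.e) ^ coxLabel ON.edges .a .e) (D.wlen 24) (D.wordP 24) := by
  intro K _ γ hγ
  have hl : coxLabel ON.edges .a .e = 2 := by decide
  rw [hl, word_24]
  simp only [ON.a, ON.b, ON.c, ON.d, ON.e, ON.f, ON.g, map_mul, map_inv, map_pow,
    FreeGroup.lift_apply_of, enc, rprod, one_mul, pow_succ, pow_zero, mul_inv_rev, inv_inv,
    wmI_core γ hγ, i0, i1, i2, i3, i4, i5, i6, i7, mul_assoc]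

set_option linter.unusedSimpArgs false in
set_option maxRecDepth 100000 in
theorem wm_25 : WordMatchI iota enc ((ON.b * ON.e) ^ coxLabel ON.edges .b .e) (D.wlen 25) (D.wordP 25) := by
  intro K _ γ hγ
  have hl : coxLabel ON.edges .b .e = 2 := by decide
  rw [hl, word_25]
  simp only [ON.a, ON.b, ON.c, ON.d, ON.e, ON.f, ON.g, map_mul, map_inv, map_pow,
    FreeGroup.lift_apply_of, enc, rprod, one_mul, pow_succ, pow_zero, mul_inv_rev, inv_inv,
    wmI_core γ hγ, i0, i1, i2, i3, i4, i5, i6, i7, mul_assoc]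

set_option linter.unusedSimpArgs false in
set_option maxRecDepth 100000 in
theorem wm_26 : WordMatchI iota enc ((ON.c * ON.e) ^ coxLabel ON.edges .c .e) (D.wlen 26) (D.wordP 26) := by
  intro K _ γ hγ
  have hl : coxLabel ON.edges .c .e = 2 := by decide
  rw [hl, word_26]
  simp only [ON.a, ON.b, ON.c, ON.d, ON.e, ON.f, ON.g, map_mul, map_inv, map_pow,
    FreeGroup.lift_apply_of, enc, rprod, one_mul, pow_succ, pow_zero, mul_inv_rev, inv_inv,
    wmI_core γ hγ, i0, i1, i2, i3, i4, i5, i6, i7, mul_assoc]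

set_option linter.unusedSimpArgs false in
set_option maxRecDepth 100000 in
theorem wm_27 : WordMatchI iota enc ((ON.d * ON.e) ^ coxLabel ON.edges .d .e) (D.wlen 27) (D.wordP 27) := by
  intro K _ γ hγ
  have hl : coxLabel ON.edges .d .e = 3 := by decide
  rw [hl, word_27]
  simp only [ON.a, ON.b, ON.c, ON.d, ON.e, ON.f, ON.g, map_mul, map_inv, map_pow,
    FreeGroup.lift_apply_of, enc, rprod, one_mul, pow_succ, pow_zero, mul_inv_rev, inv_inv,
    wmI_core γ hγ, i0, i1, i2, i3, i4, i5, i6, i7, mul_assoc]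

set_option linter.unusedSimpArgs false in
set_option maxRecDepth 100000 in
theorem wm_28 : WordMatchI iota enc ((ON.e * ON.e) ^ coxLabel ON.edges .e .e) (D.wlen 28) (D.wordP 28) := by
  intro K _ γ hγ
  have hl : coxLabel ON.edges .e .e = 1 := by decide
  rw [hl, word_28]
  simp only [ON.a, ON.b, ON.c, ON.d, ON.e, ON.f, ON.g, map_mul, map_inv, map_pow,
    FreeGroup.lift_apply_of, enc, rprod, one_mul, pow_succ, pow_zero, mul_inv_rev, inv_inv,
    wmI_core γ hγ, i0, i1, i2, i3, i4, i5, i6, i7, mul_assoc]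

set_option linter.unusedSimpArgs false in
set_option maxRecDepth 100000 in
theorem wm_29 : WordMatchI iota enc ((ON.f * ON.e) ^ coxLabel ON.edges .f .e) (D.wlen 29) (D.wordP 29) := by
  intro K _ γ hγ
  have hl : coxLabel ON.edges .f .e = 3 := by decide
  rw [hl, word_29]
  simp only [ON.a, ON.b, ON.c, ON.d, ON.e, ON.f, ON.g, map_mul, map_inv, map_pow,
    FreeGroup.lift_apply_of, enc, rprod, one_mul, pow_succ, pow_zero, mul_inv_rev, inv_inv,
    wmI_core γ hγ, i0, i1, i2, i3, i4, i5, i6, i7, mul_assoc]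

set_option linter.unusedSimpArgs false in
set_option maxRecDepth 100000 in
theorem wm_30 : WordMatchI iota enc ((ON.a * ON.f) ^ coxLabel ON.edges .a .f) (D.wlen 30) (D.wordP 30) := by
  intro K _ γ hγ
  have hl : coxLabel ON.edges .a .f = 2 := by decide
  rw [hl, word_30]
  simp only [ON.a, ON.b, ON.c, ON.d, ON.e, ON.f, ON.g, map_mul, map_inv, map_pow,
    FreeGroup.lift_apply_of, enc, rprod, one_mul, pow_succ, pow_zero, mul_inv_rev, inv_inv,
    wmI_core γ hγ, i0, i1, i2, i3, i4, i5, i6, i7, mul_assoc]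

set_option linter.unusedSimpArgs false in
set_option maxRecDepth 100000 in
theorem wm_31 : WordMatchI iota enc ((ON.b * ON.f) ^ coxLabel ON.edges .b .f) (D.wlen 31) (D.wordP 31) := by
  intro K _ γ hγ
  have hl : coxLabel ON.edges .b .f = 2 := by decide
  rw [hl, word_31]
  simp only [ON.a, ON.b, ON.c, ON.d, ON.e, ON.f, ON.g, map_mul, map_inv, map_pow,
    FreeGroup.lift_apply_of, enc, rprod, one_mul, pow_succ, pow_zero, mul_inv_rev, inv_inv,
    wmI_core γ hγ, i0, i1, i2, i3, i4, i5, i6, i7, mul_assoc]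

set_option linter.unusedSimpArgs false in
set_option maxRecDepth 100000 in
theorem wm_32 : WordMatchI iota enc ((ON.c * ON.f) ^ coxLabel ON.edges .c .f) (D.wlen 32) (D.wordP 32) := by
  intro K _ γ hγ
  have hl : coxLabel ON.edges .c .f = 2 := by decide
  rw [hl, word_32]
  simp only [ON.a, ON.b, ON.c, ON.d, ON.e, ON.f, ON.g, map_mul, map_inv, map_pow,
    FreeGroup.lift_apply_of, enc, rprod, one_mul, pow_succ, pow_zero, mul_inv_rev, inv_inv,
    wmI_core γ hγ, i0, i1, i2, i3, i4, i5, i6, i7, mul_assoc]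

set_option linter.unusedSimpArgs false in
set_option maxRecDepth 100000 in
theorem wm_33 : WordMatchI iota enc ((ON.d * ON.f) ^ coxLabel ON.edges .d .f) (D.wlen 33) (D.wordP 33) := by
  intro K _ γ hγ
  have hl : coxLabel ON.edges .d .f = 2 := by decide
  rw [hl, word_33]
  simp only [ON.a, ON.b, ON.c, ON.d, ON.e, ON.f, ON.g, map_mul, map_inv, map_pow,
    FreeGroup.lift_apply_of, enc, rprod, one_mul, pow_succ, pow_zero, mul_inv_rev, inv_inv,
    wmI_core γ hγ, i0, i1, i2, i3, i4, i5, i6, i7, mul_assoc]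

set_option linter.unusedSimpArgs false in
set_option maxRecDepth 100000 in
theorem wm_34 : WordMatchI iota enc ((ON.e * ON.f) ^ coxLabel ON.edges .e .f) (D.wlen 34) (D.wordP 34) := by
  intro K _ γ hγ
  have hl : coxLabel ON.edges .e .f = 3 := by decide
  rw [hl, word_34]
  simp only [ON.a, ON.b, ON.c, ON.d, ON.e, ON.f, ON.g, map_mul, map_inv, map_pow,
    FreeGroup.lift_apply_of, enc, rprod, one_mul, pow_succ, pow_zero, mul_inv_rev, inv_inv,
    wmI_core γ hγ, i0, i1, i2, i3, i4, i5, i6, i7, mul_assoc]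

set_option linter.unusedSimpArgs false in
set_option maxRecDepth 100000 in
theorem wm_35 : WordMatchI iota enc ((ON.f * ON.f) ^ coxLabel ON.edges .f .f) (D.wlen 35) (D.wordP 35) := by
  intro K _ γ hγ
  have hl : coxLabel ON.edges .f .f = 1 := by decide
  rw [hl, word_35]
  simp only [ON.a, ON.b, ON.c, ON.d, ON.e, ON.f, ON.g, map_mul, map_inv, map_pow,
    FreeGroup.lift_apply_of, enc, rprod, one_mul, pow_succ, pow_zero, mul_inv_rev, inv_inv,
    wmI_core γ hγ, i0, i1, i2, i3, i4, i5, i6, i7, mul_assoc]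

set_option linter.unusedSimpArgs false in
set_option maxRecDepth 100000 in
theorem wm_36 : WordMatchI iota enc (ON.extra[0]'(by decide)) (D.wlen 36) (D.wordP 36) := by
  intro K _ γ hγ
  rw [word_36]
  simp only [ON.extra, List.getElem_cons_zero, List.getElem_cons_succ]
  simp only [ON.a, ON.b, ON.c, ON.d, ON.e, ON.f, ON.g, map_mul, map_inv, map_pow,
    FreeGroup.lift_apply_of, enc, rprod, one_mul, pow_succ, pow_zero, mul_inv_rev, inv_inv,
    wmI_core γ hγ, i0, i1, i2, i3, i4, i5, i6, i7, mul_assoc]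

set_option linter.unusedSimpArgs false in
set_option maxRecDepth 100000 in
theorem wm_37 : WordMatchI iota enc (ON.extra[1]'(by decide)) (D.wlen 37) (D.wordP 37) := by
  intro K _ γ hγ
  rw [word_37]
  simp only [ON.extra, List.getElem_cons_zero, List.getElem_cons_succ]
  simp only [ON.a, ON.b, ON.c, ON.d, ON.e, ON.f, ON.g, map_mul, map_inv, map_pow,
    FreeGroup.lift_apply_of, enc, rprod, one_mul, pow_succ, pow_zero, mul_inv_rev, inv_inv,
    wmI_core γ hγ, i0, i1, i2, i3, i4, i5, i6, i7, mul_assoc]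

set_option linter.unusedSimpArgs false in
set_option maxRecDepth 100000 in
theorem wm_38 : WordMatchI iota enc (ON.extra[2]'(by decide)) (D.wlen 38) (D.wordP 38) := by
  intro K _ γ hγ
  rw [word_38]
  simp only [ON.extra, List.getElem_cons_zero, List.getElem_cons_succ]
  simp only [ON.a, ON.b, ON.c, ON.d, ON.e, ON.f, ON.g, map_mul, map_inv, map_pow,
    FreeGroup.lift_apply_of, enc, rprod, one_mul, pow_succ, pow_zero, mul_inv_rev, inv_inv,
    wmI_core γ hγ, i0, i1, i2, i3, i4, i5, i6, i7, mul_assoc]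

set_option linter.unusedSimpArgs false in
set_option maxRecDepth 100000 in
theorem wm_39 : WordMatchI iota enc (ON.extra[3]'(by decide)) (D.wlen 39) (D.wordP 39) := by
  intro K _ γ hγ
  rw [word_39]
  simp only [ON.extra, List.getElem_cons_zero, List.getElem_cons_succ]
  simp only [ON.a, ON.b, ON.c, ON.d, ON.e, ON.f, ON.g, map_mul, map_inv, map_pow,
    FreeGroup.lift_apply_of, enc, rprod, one_mul, pow_succ, pow_zero, mul_inv_rev, inv_inv,
    wmI_core γ hγ, i0, i1, i2, i3, i4, i5, i6, i7, mul_assoc]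

set_option linter.unusedSimpArgs false in
set_option maxRecDepth 100000 in
theorem wm_40 : WordMatchI iota enc (ON.extra[4]'(by decide)) (D.wlen 40) (D.wordP 40) := by
  intro K _ γ hγ
  rw [word_40]
  simp only [ON.extra, List.getElem_cons_zero, List.getElem_cons_succ]
  simp only [ON.a, ON.b, ON.c, ON.d, ON.e, ON.f, ON.g, map_mul, map_inv, map_pow,
    FreeGroup.lift_apply_of, enc, rprod, one_mul, pow_succ, pow_zero, mul_inv_rev, inv_inv,
    wmI_core γ hγ, i0, i1, i2, i3, i4, i5, i6, i7, mul_assoc]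

set_option linter.unusedSimpArgs false in
set_option maxRecDepth 100000 in
theorem wm_41 : WordMatchI iota enc (ON.extra[5]'(by decide)) (D.wlen 41) (D.wordP 41) := by
  intro K _ γ hγ
  rw [word_41]
  simp only [ON.extra, List.getElem_cons_zero, List.getElem_cons_succ]
  simp only [ON.a, ON.b, ON.c, ON.d, ON.e, ON.f, ON.g, map_mul, map_inv, map_pow,
    FreeGroup.lift_apply_of, enc, rprod, one_mul, pow_succ, pow_zero, mul_inv_rev, inv_inv,
    wmI_core γ hγ, i0, i1, i2, i3, i4, i5, i6, i7, mul_assoc]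

set_option linter.unusedSimpArgs false in
set_option maxRecDepth 100000 in
theorem wm_42 : WordMatchI iota enc (ON.extra[6]'(by decide)) (D.wlen 42) (D.wordP 42) := by
  intro K _ γ hγ
  rw [word_42]
  simp only [ON.extra, List.getElem_cons_zero, List.getElem_cons_succ]
  simp only [ON.a, ON.b, ON.c, ON.d, ON.e, ON.f, ON.g, map_mul, map_inv, map_pow,
    FreeGroup.lift_apply_of, enc, rprod, one_mul, pow_succ, pow_zero, mul_inv_rev, inv_inv,
    wmI_core γ hγ, i0, i1, i2, i3, i4, i5, i6, i7, mul_assoc]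

/-- the subgroup generators. -/
def subs : List (FreeGroup ON.Gen) :=
  [ON.a, ON.b, ON.c, ON.d, ON.e, ON.f]

set_option linter.unusedSimpArgs false in
set_option maxRecDepth 100000 in
theorem wm_45 : WordMatchI iota enc (subs[0]'(by decide)) (D.wlen 45) (D.wordP 45) := by
  intro K _ γ hγ
  rw [word_45]
  simp only [subs, List.getElem_cons_zero, List.getElem_cons_succ]
  simp only [ON.a, ON.b, ON.c, ON.d, ON.e, ON.f, ON.g, map_mul, map_inv, map_pow,
    FreeGroup.lift_apply_of, enc, rprod, one_mul, pow_succ, pow_zero, mul_inv_rev, inv_inv,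
    wmI_core γ hγ, i0, i1, i2, i3, i4, i5, i6, i7, mul_assoc]

set_option linter.unusedSimpArgs false in
set_option maxRecDepth 100000 in
theorem wm_46 : WordMatchI iota enc (subs[1]'(by decide)) (D.wlen 46) (D.wordP 46) := by
  intro K _ γ hγ
  rw [word_46]
  simp only [subs, List.getElem_cons_zero, List.getElem_cons_succ]
  simp only [ON.a, ON.b, ON.c, ON.d, ON.e, ON.f, ON.g, map_mul, map_inv, map_pow,
    FreeGroup.lift_apply_of, enc, rprod, one_mul, pow_succ, pow_zero, mul_inv_rev, inv_inv,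
    wmI_core γ hγ, i0, i1, i2, i3, i4, i5, i6, i7, mul_assoc]

set_option linter.unusedSimpArgs false in
set_option maxRecDepth 100000 in
theorem wm_47 : WordMatchI iota enc (subs[2]'(by decide)) (D.wlen 47) (D.wordP 47) := by
  intro K _ γ hγ
  rw [word_47]
  simp only [subs, List.getElem_cons_zero, List.getElem_cons_succ]
  simp only [ON.a, ON.b, ON.c, ON.d, ON.e, ON.f, ON.g, map_mul, map_inv, map_pow,
    FreeGroup.lift_apply_of, enc, rprod, one_mul, pow_succ, pow_zero, mul_inv_rev, inv_inv,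
    wmI_core γ hγ, i0, i1, i2, i3, i4, i5, i6, i7, mul_assoc]

set_option linter.unusedSimpArgs false in
set_option maxRecDepth 100000 in
theorem wm_48 : WordMatchI iota enc (subs[3]'(by decide)) (D.wlen 48) (D.wordP 48) := by
  intro K _ γ hγ
  rw [word_48]
  simp only [subs, List.getElem_cons_zero, List.getElem_cons_succ]
  simp only [ON.a, ON.b, ON.c, ON.d, ON.e, ON.f, ON.g, map_mul, map_inv, map_pow,
    FreeGroup.lift_apply_of, enc, rprod, one_mul, pow_succ, pow_zero, mul_inv_rev, inv_inv,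
    wmI_core γ hγ, i0, i1, i2, i3, i4, i5, i6, i7, mul_assoc]

set_option linter.unusedSimpArgs false in
set_option maxRecDepth 100000 in
theorem wm_49 : WordMatchI iota enc (subs[4]'(by decide)) (D.wlen 49) (D.wordP 49) := by
  intro K _ γ hγ
  rw [word_49]
  simp only [subs, List.getElem_cons_zero, List.getElem_cons_succ]
  simp only [ON.a, ON.b, ON.c, ON.d, ON.e, ON.f, ON.g, map_mul, map_inv, map_pow,
    FreeGroup.lift_apply_of, enc, rprod, one_mul, pow_succ, pow_zero, mul_inv_rev, inv_inv,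
    wmI_core γ hγ, i0, i1, i2, i3, i4, i5, i6, i7, mul_assoc]

set_option linter.unusedSimpArgs false in
set_option maxRecDepth 100000 in
theorem wm_50 : WordMatchI iota enc (subs[5]'(by decide)) (D.wlen 50) (D.wordP 50) := by
  intro K _ γ hγ
  rw [word_50]
  simp only [subs, List.getElem_cons_zero, List.getElem_cons_succ]
  simp only [ON.a, ON.b, ON.c, ON.d, ON.e, ON.f, ON.g, map_mul, map_inv, map_pow,
    FreeGroup.lift_apply_of, enc, rprod, one_mul, pow_succ, pow_zero, mul_inv_rev, inv_inv,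
    wmI_core γ hγ, i0, i1, i2, i3, i4, i5, i6, i7, mul_assoc]

theorem relA : ∀ wi, wi < E.D.nrel →
    (∃ r ∈ rels, WordMatchI iota enc r (E.D.wlen wi) (E.D.wordP wi)) ∨
    (∃ x, unpack (E.D.wlen wi) (E.D.wordP wi) = [x, iota x]) := by
  intro wi hwi
  have hwi' : wi < 45 := hwi
  interval_cases wi
  · exact Or.inl ⟨_, Or.inl ⟨.a, by decide, .a, by decide, rfl⟩, wm_0⟩
  · exact Or.inl ⟨_, Or.inl ⟨.b, by decide, .a, by decide, rfl⟩, wm_1⟩
  · exact Or.inl ⟨_, Or.inl ⟨.c, by decide, .a, by decide, rfl⟩, wm_2⟩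
  · exact Or.inl ⟨_, Or.inl ⟨.d, by decide, .a, by decide, rfl⟩, wm_3⟩
  · exact Or.inl ⟨_, Or.inl ⟨.e, by decide, .a, by decide, rfl⟩, wm_4⟩
  · exact Or.inl ⟨_, Or.inl ⟨.f, by decide, .a, by decide, rfl⟩, wm_5⟩
  · exact Or.inl ⟨_, Or.inl ⟨.a, by decide, .b, by decide, rfl⟩, wm_6⟩
  · exact Or.inl ⟨_, Or.inl ⟨.b, by decide, .b, by decide, rfl⟩, wm_7⟩
  · exact Or.inl ⟨_, Or.inl ⟨.c, by decide, .b, by decide, rfl⟩, wm_8⟩
  · exact Or.inl ⟨_, Or.inl ⟨.d, by decide, .b, by decide, rfl⟩, wm_9⟩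
  · exact Or.inl ⟨_, Or.inl ⟨.e, by decide, .b, by decide, rfl⟩, wm_10⟩
  · exact Or.inl ⟨_, Or.inl ⟨.f, by decide, .b, by decide, rfl⟩, wm_11⟩
  · exact Or.inl ⟨_, Or.inl ⟨.a, by decide, .c, by decide, rfl⟩, wm_12⟩
  · exact Or.inl ⟨_, Or.inl ⟨.b, by decide, .c, by decide, rfl⟩, wm_13⟩
  · exact Or.inl ⟨_, Or.inl ⟨.c, by decide, .c, by decide, rfl⟩, wm_14⟩
  · exact Or.inl ⟨_, Or.inl ⟨.d, by decide, .c, by decide, rfl⟩, wm_15⟩
  · exact Or.inl ⟨_, Or.inl ⟨.e, by decide, .c, by decide, rfl⟩, wm_16⟩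
  · exact Or.inl ⟨_, Or.inl ⟨.f, by decide, .c, by decide, rfl⟩, wm_17⟩
  · exact Or.inl ⟨_, Or.inl ⟨.a, by decide, .d, by decide, rfl⟩, wm_18⟩
  · exact Or.inl ⟨_, Or.inl ⟨.b, by decide, .d, by decide, rfl⟩, wm_19⟩
  · exact Or.inl ⟨_, Or.inl ⟨.c, by decide, .d, by decide, rfl⟩, wm_20⟩
  · exact Or.inl ⟨_, Or.inl ⟨.d, by decide, .d, by decide, rfl⟩, wm_21⟩
  · exact Or.inl ⟨_, Or.inl ⟨.e, by decide, .d, by decide, rfl⟩, wm_22⟩
  · exact Or.inl ⟨_, Or.inl ⟨.f, by decide, .d, by decide, rfl⟩, wm_23⟩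
  · exact Or.inl ⟨_, Or.inl ⟨.a, by decide, .e, by decide, rfl⟩, wm_24⟩
  · exact Or.inl ⟨_, Or.inl ⟨.b, by decide, .e, by decide, rfl⟩, wm_25⟩
  · exact Or.inl ⟨_, Or.inl ⟨.c, by decide, .e, by decide, rfl⟩, wm_26⟩
  · exact Or.inl ⟨_, Or.inl ⟨.d, by decide, .e, by decide, rfl⟩, wm_27⟩
  · exact Or.inl ⟨_, Or.inl ⟨.e, by decide, .e, by decide, rfl⟩, wm_28⟩
  · exact Or.inl ⟨_, Or.inl ⟨.f, by decide, .e, by decide, rfl⟩, wm_29⟩
  · exact Or.inl ⟨_, Or.inl ⟨.a, by decide, .f, by decide, rfl⟩, wm_30⟩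
  · exact Or.inl ⟨_, Or.inl ⟨.b, by decide, .f, by decide, rfl⟩, wm_31⟩
  · exact Or.inl ⟨_, Or.inl ⟨.c, by decide, .f, by decide, rfl⟩, wm_32⟩
  · exact Or.inl ⟨_, Or.inl ⟨.d, by decide, .f, by decide, rfl⟩, wm_33⟩
  · exact Or.inl ⟨_, Or.inl ⟨.e, by decide, .f, by decide, rfl⟩, wm_34⟩
  · exact Or.inl ⟨_, Or.inl ⟨.f, by decide, .f, by decide, rfl⟩, wm_35⟩
  · exact Or.inl ⟨_, Or.inr (List.getElem_mem _), wm_36⟩
  · exact Or.inl ⟨_, Or.inr (List.getElem_mem _), wm_37⟩
  · exact Or.inl ⟨_, Or.inr (List.getElem_mem _), wm_38⟩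
  · exact Or.inl ⟨_, Or.inr (List.getElem_mem _), wm_39⟩
  · exact Or.inl ⟨_, Or.inr (List.getElem_mem _), wm_40⟩
  · exact Or.inl ⟨_, Or.inr (List.getElem_mem _), wm_41⟩
  · exact Or.inl ⟨_, Or.inr (List.getElem_mem _), wm_42⟩
  · exact Or.inr ⟨6, word_43⟩
  · exact Or.inr ⟨7, word_44⟩

theorem relC : ∀ r ∈ rels, ∃ wi, wi < E.D.nrel ∧ WordMatchI iota enc r (E.D.wlen wi) (E.D.wordP wi) := by
  rintro r (⟨x, hx, y, hy, rfl⟩ | hr)
  · cases x with
    | g => exact absurd hx (by decide)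
    | a =>
      cases y with
      | g => exact absurd hy (by decide)
      | a => exact ⟨0, by decide, wm_0⟩
      | b => exact ⟨6, by decide, wm_6⟩
      | c => exact ⟨12, by decide, wm_12⟩
      | d => exact ⟨18, by decide, wm_18⟩
      | e => exact ⟨24, by decide, wm_24⟩
      | f => exact ⟨30, by decide, wm_30⟩
    | b =>
      cases y with
      | g => exact absurd hy (by decide)
      | a => exact ⟨1, by decide, wm_1⟩
      | b => exact ⟨7, by decide, wm_7⟩
      | c => exact ⟨13, by decide, wm_13⟩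
      | d => exact ⟨19, by decide, wm_19⟩
      | e => exact ⟨25, by decide, wm_25⟩
      | f => exact ⟨31, by decide, wm_31⟩
    | c =>
      cases y with
      | g => exact absurd hy (by decide)
      | a => exact ⟨2, by decide, wm_2⟩
      | b => exact ⟨8, by decide, wm_8⟩
      | c => exact ⟨14, by decide, wm_14⟩
      | d => exact ⟨20, by decide, wm_20⟩
      | e => exact ⟨26, by decide, wm_26⟩
      | f => exact ⟨32, by decide, wm_32⟩
    | d =>
      cases y with
      | g => exact absurd hy (by decide)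
      | a => exact ⟨3, by decide, wm_3⟩
      | b => exact ⟨9, by decide, wm_9⟩
      | c => exact ⟨15, by decide, wm_15⟩
      | d => exact ⟨21, by decide, wm_21⟩
      | e => exact ⟨27, by decide, wm_27⟩
      | f => exact ⟨33, by decide, wm_33⟩
    | e =>
      cases y with
      | g => exact absurd hy (by decide)
      | a => exact ⟨4, by decide, wm_4⟩
      | b => exact ⟨10, by decide, wm_10⟩
      | c => exact ⟨16, by decide, wm_16⟩
      | d => exact ⟨22, by decide, wm_22⟩
      | e => exact ⟨28, by decide, wm_28⟩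
      | f => exact ⟨34, by decide, wm_34⟩
    | f =>
      cases y with
      | g => exact absurd hy (by decide)
      | a => exact ⟨5, by decide, wm_5⟩
      | b => exact ⟨11, by decide, wm_11⟩
      | c => exact ⟨17, by decide, wm_17⟩
      | d => exact ⟨23, by decide, wm_23⟩
      | e => exact ⟨29, by decide, wm_29⟩
      | f => exact ⟨35, by decide, wm_35⟩
  · obtain ⟨i, hi, rfl⟩ := List.getElem_of_mem hr
    have hi' : i < 7 := hi
    interval_cases i
    · exact ⟨36, by decide, wm_36⟩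
    · exact ⟨37, by decide, wm_37⟩
    · exact ⟨38, by decide, wm_38⟩
    · exact ⟨39, by decide, wm_39⟩
    · exact ⟨40, by decide, wm_40⟩
    · exact ⟨41, by decide, wm_41⟩
    · exact ⟨42, by decide, wm_42⟩

theorem subs_match : ∀ i (hi : i < subs.length),
    WordMatchI iota enc (subs[i]) (E.D.wlen (E.D.nrel + i)) (E.D.wordP (E.D.nrel + i)) := by
  intro i hi
  have hi' : i < 6 := hi
  interval_cases i
  · exact wm_45
  · exact wm_46
  · exact wm_47
  · exact wm_48
  · exact wm_49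
  · exact wm_50

theorem subs_set : ({ON.a, ON.b, ON.c, ON.d, ON.e, ON.f} : Set (FreeGroup ON.Gen)) = {s | s ∈ subs} := by
  ext s
  simp [subs]

/-- In the presented O'Nan group (generators g, a, b, c, d, e, f), the subgroup generated by the images of a, …, f has index 122760. -/
theorem result : (((Subgroup.closure ({Cfsg.Spor.ON.a, Cfsg.Spor.ON.b, Cfsg.Spor.ON.c, Cfsg.Spor.ON.d, Cfsg.Spor.ON.e, Cfsg.Spor.ON.f} : Set (FreeGroup Cfsg.Spor.ON.Gen))).map (PresentedGroup.mk (Cfsg.Spor.coxRelators Cfsg.Spor.ON.edges ∪ {r | r ∈ Cfsg.Spor.ON.extra})))).index = 122760 := by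
  rw [subs_set]
  exact presented_indexI rels subs iota gw enc E (T := ctF)
    iota_iota iota_lt8 iota_lt16
    (by intro z; cases z <;> decide)
    (by intro z; cases z <;> rfl)
    gw_inv gw_match rfl relA relC subs_match rev_ok
    hE hA set_ok hrows (by norm_num) hT hltr hrelT hsubT hconn

end Cfsg.Agent.S1692
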