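import Cfsg.Statements.S0425
import Cfsg.Agent.Helper9.Steiner.D5612M
import Cfsg.Agent.Helper9.Steiner.A5612M
import Cfsg.Agent.Helper9.Steiner.AutTrans
import Cfsg.Agent.S0419

set_option autoImplicit false
open Cfsg

namespace Cfsg.Agent.S0425

/-- Aut of an S(5, 6, 12) is simple of order 95040 and sharply 5-transitive on points. -/
theorem result {α : Type*} [Fintype α] [DecidableEq α] (hα : Fintype.card α = 12) {B : Set (Finset α)} (hB : Cfsg.IsSteinerSystem 5 6 B) : Cfsg.IsM12 (Cfsg.setSystemAut B) ∧ MulAction.IsMultiplyPretransitive (Cfsg.setSystemAut B) α 5 ∧ ∀ x : Fin 5 ↪ α, MulAction.stabilizer (Cfsg.setSystemAut B) x = ⊥ := by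
  obtain ⟨e, he⟩ := Cfsg.Agent.Helper9.Steiner.iso_std_of_checked
    Cfsg.Agent.Helper9.Steiner.D5612M.checked hα hB
  have hstd : Cfsg.IsSteinerSystem 5 6
      (Cfsg.Agent.Helper9.Steiner.stdSet Cfsg.Agent.Helper9.Steiner.D5612M.P) := by
    rw [← he]; exact Cfsg.Agent.Helper9.Steiner.steiner_mapSys e hB
  have hm : Cfsg.Agent.Helper9.Steiner.D5612M.P.marks ≤ Cfsg.Agent.Helper9.Steiner.D5612M.P.n := by
    decide
  have htr : MulAction.IsMultiplyPretransitive
      (Cfsg.setSystemAut (Cfsg.Agent.Helper9.Steiner.stdSet Cfsg.Agent.Helper9.Steiner.D5612M.P))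
      (Fin Cfsg.Agent.Helper9.Steiner.D5612M.P.n) 5 :=
    Cfsg.Agent.Helper9.Steiner.aut_transitive Cfsg.Agent.Helper9.Steiner.D5612M.checked hstd hm
  have hbits : ∀ j : Fin Cfsg.Agent.Helper9.Steiner.D5612M.P.n,
      (31 : ℕ).testBit j.val = true → j.val < Cfsg.Agent.Helper9.Steiner.D5612M.P.marks := by
    decide
  have hrig : ∀ g : Equiv.Perm (Fin Cfsg.Agent.Helper9.Steiner.D5612M.P.n),
      g ∈ Cfsg.setSystemAut
        (Cfsg.Agent.Helper9.Steiner.stdSet Cfsg.Agent.Helper9.Steiner.D5612M.P) →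
      (∀ j : Fin Cfsg.Agent.Helper9.Steiner.D5612M.P.n,
        j.val < Cfsg.Agent.Helper9.Steiner.D5612M.P.marks → g j = j) → g = 1 := by
    intro g hg hfix
    exact Cfsg.Agent.Helper9.Steiner.rigid_of_run
      Cfsg.Agent.Helper9.Steiner.D5612M.checked.le Cfsg.Agent.Helper9.Steiner.D5612M.checked.lt
      hstd (by decide) Cfsg.Agent.Helper9.Steiner.A5612M.a_run g hg
      (fun j hj => hfix j (hbits j hj))
  have hst : ∀ y : Fin 5 ↪ Fin Cfsg.Agent.Helper9.Steiner.D5612M.P.n,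
      MulAction.stabilizer (Cfsg.setSystemAut
        (Cfsg.Agent.Helper9.Steiner.stdSet Cfsg.Agent.Helper9.Steiner.D5612M.P)) y = ⊥ :=
    Cfsg.Agent.Helper9.Steiner.aut_stab_trivial
      Cfsg.Agent.Helper9.Steiner.D5612M.checked hstd hm hrig
  have h4 : MulAction.IsMultiplyPretransitive (Cfsg.setSystemAut B) α 5 :=
    Cfsg.Agent.Helper9.Steiner.pretransitive_congr e B _ he 5 htr
  have hsharp : ∀ x : Fin 5 ↪ α, MulAction.stabilizer (Cfsg.setSystemAut B) x = ⊥ :=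
    Cfsg.Agent.Helper9.Steiner.stab_trivial_congr e B _ he 5 hst
  exact ⟨@Cfsg.Agent.S0419.result α _ _ hα (Cfsg.setSystemAut B) h4 hsharp, h4, hsharp⟩

end Cfsg.Agent.S0425
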