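import Cfsg.Statements.S1592
import Cfsg.Agent.Helper7.TernaryGolay

set_option autoImplicit false
open Cfsg

namespace Cfsg.Agent.S1592

open Cfsg.Agent.Helper7.TernaryGolay

/-- The positions, indexed. -/
def ptEquiv : Fin 12 ≃ ArrayPt := ⟨pt, idx, idx_pt, pt_idx⟩

/-- The bit mask of a set of positions. -/
def bits (s : Finset ArrayPt) : Nat := Nat.ofBits (n := 12) fun k => decide (pt k ∈ s)

theorem bits_lt (s : Finset ArrayPt) : bits s < 2 ^ 12 := Nat.ofBits_lt_two_pow _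

theorem testBit_bits (s : Finset ArrayPt) (k : Fin 12) :
    (bits s).testBit k.val = decide (pt k ∈ s) := by
  rw [bits, Nat.testBit_ofBits_lt _ _ k.isLt]

theorem mem_iff_testBit (s : Finset ArrayPt) (p : ArrayPt) :
    p ∈ s ↔ (bits s).testBit (idx p).val = true := by
  rw [testBit_bits, pt_idx, decide_eq_true_eq]

theorem bits_injective : Function.Injective bits := by
  intro s t h
  ext p
  rw [mem_iff_testBit, mem_iff_testBit, h]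

theorem subset_iff (s t : Finset ArrayPt) : s ⊆ t ↔ bits s &&& bits t = bits s := by
  constructor
  · intro h
    apply Nat.eq_of_testBit_eq
    intro i
    rw [Nat.testBit_and]
    by_cases hi : i < 12
    · have h1 := testBit_bits s ⟨i, hi⟩
      have h2 := testBit_bits t ⟨i, hi⟩
      simp only at h1 h2
      rw [h1, h2]
      by_cases hm : pt ⟨i, hi⟩ ∈ s
      · simp [hm, h hm]
      · simp [hm]
    · have : (bits s).testBit i = false :=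
        Nat.testBit_lt_two_pow (lt_of_lt_of_le (bits_lt s) (Nat.pow_le_pow_right (by norm_num)
          (not_lt.1 hi)))
      rw [this, Bool.false_and]
  · intro h p hp
    rw [mem_iff_testBit] at hp ⊢
    rw [← h, Nat.testBit_and, Bool.and_eq_true] at hp
    exact hp.2

/-- The number of bits of a mask. -/
def pop (m : Nat) : Nat := (Finset.univ.filter fun k : Fin 12 => m.testBit k.val = true).card

theorem card_eq_pop (s : Finset ArrayPt) : s.card = pop (bits s) := by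
  rw [pop]
  have : (Finset.univ.filter fun k : Fin 12 => (bits s).testBit k.val = true) =
      s.map ptEquiv.symm.toEmbedding := by
    ext k
    simp only [Finset.mem_filter, Finset.mem_univ, true_and, Finset.mem_map_equiv,
      Equiv.symm_symm, testBit_bits, decide_eq_true_eq]
    rfl
  rw [this, Finset.card_map]

/-- The mask of the support of the word with given information entries. -/
def maskOf (c : Fin 6 → ZMod 3) : Nat := Nat.ofBits (n := 12) fun k => decide (encV c k ≠ 0)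

theorem bits_support (c : Fin 6 → ZMod 3) : bits (ternarySupport (enc c)) = maskOf c := by
  rw [bits, maskOf]
  congr 1
  funext k
  apply decide_eq_decide.2
  rw [ternarySupport, Finset.mem_filter]
  simp only [Finset.mem_univ, true_and, enc, idx_pt]

/-- The masks of the blocks, each with a word having that support. -/
def BLw : List (Nat × (Fin 6 → ZMod 3)) := [
  (63, ![1, 1, 1, 2, 2, 0]),
  (222, ![0, 1, 2, 1, 2, 2]),
  (237, ![1, 0, 2, 1, 0, 1]),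
  (243, ![1, 2, 0, 0, 1, 2]),
  (347, ![1, 2, 0, 1, 2, 1]),
  (366, ![0, 1, 2, 2, 0, 1]),
  (373, ![1, 0, 2, 0, 2, 2]),
  (413, ![1, 0, 2, 2, 1, 0]),
  (427, ![1, 2, 0, 2, 0, 0]),
  (438, ![0, 1, 2, 0, 1, 0]),
  (455, ![1, 1, 1, 0, 0, 2]),
  (504, ![0, 0, 0, 1, 1, 2]),
  (591, ![1, 2, 2, 2, 0, 2]),
  (630, ![0, 1, 1, 0, 1, 2]),
  (633, ![1, 0, 0, 2, 1, 1]),
  (667, ![1, 1, 0, 1, 1, 0]),
  (679, ![1, 1, 2, 0, 0, 0]),
  (700, ![0, 0, 1, 1, 1, 0]),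
  (725, ![1, 0, 1, 0, 2, 1]),
  (746, ![0, 1, 0, 2, 0, 2]),
  (791, ![1, 2, 1, 0, 1, 0]),
  (813, ![1, 0, 1, 1, 0, 0]),
  (826, ![0, 1, 0, 1, 2, 0]),
  (860, ![0, 0, 1, 2, 2, 2]),
  (867, ![1, 1, 0, 0, 0, 1]),
  (910, ![0, 1, 1, 2, 0, 0]),
  (945, ![1, 0, 0, 0, 2, 0]),
  (969, ![1, 0, 0, 1, 0, 2]),
  (978, ![0, 1, 0, 0, 1, 1]),
  (996, ![0, 0, 1, 0, 0, 1]),
  (1117, ![1, 0, 1, 1, 1, 2]),
  (1127, ![1, 2, 1, 0, 0, 1]),
  (1146, ![0, 1, 0, 1, 1, 1]),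
  (1175, ![1, 2, 2, 0, 2, 0]),
  (1198, ![0, 1, 1, 1, 0, 0]),
  (1209, ![1, 0, 0, 1, 2, 0]),
  (1227, ![1, 1, 0, 2, 0, 1]),
  (1268, ![0, 0, 1, 0, 2, 2]),
  (1295, ![1, 1, 2, 1, 0, 0]),
  (1331, ![1, 1, 0, 0, 1, 0]),
  (1340, ![0, 0, 1, 2, 1, 0]),
  (1366, ![0, 1, 1, 0, 2, 1]),
  (1385, ![1, 0, 0, 2, 0, 2]),
  (1434, ![0, 1, 0, 2, 2, 0]),
  (1445, ![1, 0, 1, 0, 0, 0]),
  (1484, ![0, 0, 1, 1, 0, 1]),
  (1489, ![1, 0, 0, 0, 1, 1]),
  (1506, ![0, 1, 0, 0, 0, 2]),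
  (1566, ![0, 1, 2, 2, 1, 0]),
  (1579, ![1, 2, 0, 1, 0, 0]),
  (1589, ![1, 0, 2, 0, 1, 0]),
  (1619, ![1, 1, 0, 0, 2, 2]),
  (1644, ![0, 0, 1, 2, 0, 1]),
  (1677, ![1, 0, 1, 2, 0, 0]),
  (1714, ![0, 1, 0, 0, 2, 0]),
  (1734, ![0, 1, 2, 0, 0, 1]),
  (1752, ![0, 0, 0, 1, 2, 1]),
  (1761, ![1, 0, 0, 0, 0, 2]),
  (1817, ![1, 0, 0, 2, 2, 0]),
  (1830, ![0, 1, 1, 0, 0, 0]),
  (1861, ![1, 0, 2, 0, 0, 1]),
  (1866, ![0, 1, 0, 1, 0, 2]),
  (1904, ![0, 0, 0, 0, 1, 2]),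
  (1923, ![1, 2, 0, 0, 0, 0]),
  (1940, ![0, 0, 1, 0, 1, 0]),
  (1960, ![0, 0, 0, 1, 0, 0]),
  (2135, ![1, 1, 2, 0, 1, 1]),
  (2155, ![1, 1, 0, 1, 0, 2]),
  (2172, ![0, 0, 1, 1, 2, 1]),
  (2191, ![1, 2, 1, 1, 0, 0]),
  (2229, ![1, 0, 1, 0, 1, 0]),
  (2234, ![0, 1, 0, 2, 1, 0]),
  (2265, ![1, 0, 0, 2, 2, 2]),
  (2278, ![0, 1, 1, 0, 0, 1]),
  (2334, ![0, 1, 1, 1, 1, 0]),
  (2343, ![1, 2, 2, 0, 0, 0]),
  (2361, ![1, 0, 0, 1, 1, 0]),
  (2381, ![1, 0, 1, 2, 0, 1]),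
  (2418, ![0, 1, 0, 0, 2, 2]),
  (2451, ![1, 1, 0, 0, 2, 0]),
  (2476, ![0, 0, 1, 2, 0, 0]),
  (2506, ![0, 1, 0, 1, 0, 1]),
  (2516, ![0, 0, 1, 0, 1, 2]),
  (2529, ![1, 0, 0, 0, 0, 1]),
  (2589, ![1, 0, 2, 1, 2, 0]),
  (2606, ![0, 1, 2, 1, 0, 0]),
  (2611, ![1, 2, 0, 0, 2, 0]),
  (2650, ![0, 1, 0, 2, 2, 1]),
  (2661, ![1, 0, 1, 0, 0, 2]),
  (2710, ![0, 1, 1, 0, 2, 0]),
  (2729, ![1, 0, 0, 2, 0, 0]),
  (2755, ![1, 2, 0, 0, 0, 1]),
  (2764, ![0, 0, 1, 1, 0, 2]),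
  (2800, ![0, 0, 0, 0, 1, 1]),
  (2827, ![1, 1, 0, 2, 0, 0]),
  (2868, ![0, 0, 1, 0, 2, 0]),
  (2886, ![0, 1, 2, 0, 0, 2]),
  (2897, ![1, 0, 0, 0, 1, 2]),
  (2920, ![0, 0, 0, 1, 0, 1]),
  (2949, ![1, 0, 2, 0, 0, 0]),
  (2968, ![0, 0, 0, 1, 2, 0]),
  (2978, ![0, 1, 0, 0, 0, 0]),
  (3099, ![1, 2, 0, 2, 1, 0]),
  (3117, ![1, 0, 2, 2, 0, 0]),
  (3126, ![0, 1, 2, 0, 2, 0]),
  (3150, ![0, 1, 1, 2, 0, 2]),
  (3185, ![1, 0, 0, 0, 2, 1]),
  (3228, ![0, 0, 1, 2, 2, 0]),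
  (3235, ![1, 1, 0, 0, 0, 0]),
  (3269, ![1, 0, 2, 0, 0, 2]),
  (3282, ![0, 1, 0, 0, 1, 2]),
  (3304, ![0, 0, 0, 1, 0, 2]),
  (3349, ![1, 0, 1, 0, 2, 0]),
  (3370, ![0, 1, 0, 2, 0, 0]),
  (3395, ![1, 2, 0, 0, 0, 2]),
  (3416, ![0, 0, 0, 1, 2, 2]),
  (3428, ![0, 0, 1, 0, 0, 2]),
  (3462, ![0, 1, 2, 0, 0, 0]),
  (3465, ![1, 0, 0, 1, 0, 0]),
  (3504, ![0, 0, 0, 0, 1, 0]),
  (3591, ![1, 1, 1, 0, 0, 0]),
  (3640, ![0, 0, 0, 1, 1, 0]),
  (3657, ![1, 0, 0, 1, 0, 1]),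
  (3668, ![0, 0, 1, 0, 1, 1]),
  (3682, ![0, 1, 0, 0, 0, 1]),
  (3722, ![0, 1, 0, 1, 0, 0]),
  (3729, ![1, 0, 0, 0, 1, 0]),
  (3748, ![0, 0, 1, 0, 0, 0]),
  (3852, ![0, 0, 1, 1, 0, 0]),
  (3858, ![0, 1, 0, 0, 1, 0]),
  (3873, ![1, 0, 0, 0, 0, 0]),
  (4032, ![0, 0, 0, 0, 0, 1])]

/-- The masks of the blocks. -/
def BL : List Nat := BLw.map Prod.fst

set_option maxRecDepth 100000 in
theorem BLw_ok : ∀ p ∈ BLw, maskOf p.2 = p.1 ∧ pop p.1 = 6 := by decide +kernel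

set_option maxRecDepth 100000 in
theorem BL_complete : ∀ c : Fin 6 → ZMod 3, pop (maskOf c) = 6 → maskOf c ∈ BL := by
  decide +kernel

set_option maxRecDepth 100000 in
theorem BL_nodup : BL.Nodup := by decide +kernel

theorem BL_length : BL.length = 132 := by decide +kernel

set_option maxRecDepth 100000 in
set_option maxHeartbeats 0 in
theorem BL_steiner : ∀ m : Fin 4096, pop m.val = 5 →
    ∃ b ∈ BL, m.val &&& b = m.val ∧ ∀ b' ∈ BL, m.val &&& b' = m.val → b' = b := by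
  decide +kernel

/-- The set of the blocks. -/
def B : Set (Finset ArrayPt) :=
  {h : Finset Cfsg.ArrayPt | ∃ x ∈ Cfsg.ternaryGolayCode, Cfsg.ternarySupport x = h ∧ h.card = 6}

theorem mem_B_iff (h : Finset ArrayPt) : h ∈ B ↔ bits h ∈ BL := by
  constructor
  · rintro ⟨x, hx, rfl, h6⟩
    obtain ⟨c, rfl⟩ := (mem_iff x).1 hx
    rw [bits_support]
    apply BL_complete
    rw [← bits_support, ← card_eq_pop]
    exact h6
  · intro hm
    obtain ⟨p, hp, hp1⟩ := List.mem_map.1 hm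
    obtain ⟨h1, h2⟩ := BLw_ok p hp
    have hb : bits (ternarySupport (enc p.2)) = bits h := by
      rw [bits_support, h1, hp1]
    have := bits_injective hb
    refine ⟨enc p.2, (mem_iff _).2 ⟨p.2, rfl⟩, this, ?_⟩
    rw [card_eq_pop, ← hp1]
    exact h2

/-- The supports of the weight-6 words of the length-12 ternary code form a Steiner system S(5, 6, 12) with 132 blocks. -/
theorem result : Cfsg.IsSteinerSystem 5 6 {h : Finset Cfsg.ArrayPt | ∃ x ∈ Cfsg.ternaryGolayCode, Cfsg.ternarySupport x = h ∧ h.card = 6} ∧ {h : Finset Cfsg.ArrayPt | ∃ x ∈ Cfsg.ternaryGolayCode, Cfsg.ternarySupport x = h ∧ h.card = 6}.ncard = 132 := by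
  change IsSteinerSystem 5 6 B ∧ B.ncard = 132
  refine ⟨⟨?_, ?_⟩, ?_⟩
  · rintro b ⟨x, -, -, h6⟩
    exact h6
  · intro s hs
    have hs' : pop (bits s) = 5 := by rw [← card_eq_pop, hs]
    obtain ⟨b, hb, hsb, huniq⟩ := BL_steiner ⟨bits s, bits_lt s⟩ hs'
    simp only at hsb huniq
    obtain ⟨p, hp, hp1⟩ := List.mem_map.1 hb
    obtain ⟨h1, h2⟩ := BLw_ok p hp
    have hbits : bits (ternarySupport (enc p.2)) = b := by rw [bits_support, h1, hp1]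
    refine ⟨ternarySupport (enc p.2), ⟨(mem_B_iff _).2 (hbits ▸ hb), ?_⟩, ?_⟩
    · rw [subset_iff, hbits]
      exact hsb
    · rintro b' ⟨hb', hsb'⟩
      apply bits_injective
      rw [hbits]
      exact huniq _ ((mem_B_iff _).1 hb') ((subset_iff _ _).1 hsb')
  · have himg : bits '' B = ↑BL.toFinset := by
      ext m
      simp only [Set.mem_image, Finset.mem_coe, List.mem_toFinset]
      constructor
      · rintro ⟨h, hh, rfl⟩
        exact (mem_B_iff h).1 hh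
      · intro hm
        obtain ⟨p, hp, hp1⟩ := List.mem_map.1 hm
        obtain ⟨h1, h2⟩ := BLw_ok p hp
        refine ⟨ternarySupport (enc p.2), (mem_B_iff _).2 ?_, ?_⟩
        · rw [bits_support, h1, hp1]
          exact hm
        · rw [bits_support, h1, hp1]
    rw [← Set.ncard_image_of_injective B bits_injective, himg, Set.ncard_coe_finset,
      List.toFinset_card_of_nodup BL_nodup, BL_length]

end Cfsg.Agent.S1592
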