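import Cfsg.Statements.S1593
import Cfsg.Agent.Helper7.TernaryGolay

set_option autoImplicit false
open Cfsg

namespace Cfsg.Agent.S1593

open Cfsg.Agent.Helper7.TernaryGolay

/-- The parity checks of the code. -/
def PC (x : ArrayPt → ZMod 3) : Prop :=
  x (1, 2) = 1 * x (0, 0) + 1 * x (0, 1) + 1 * x (0, 2) + 2 * x (1, 0) + 2 * x (1, 1) ∧
    x (2, 1) = 2 * x (0, 1) + 1 * x (0, 2) + 2 * x (1, 0) + 1 * x (1, 1) + 1 * x (2, 0) ∧
    x (2, 2) = 1 * x (0, 0) + 2 * x (0, 1) + 1 * x (1, 0) + 2 * x (1, 1) + 1 * x (2, 0) ∧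
    x (3, 0) = 1 * x (0, 0) + 2 * x (0, 1) + 2 * x (0, 2) + 2 * x (1, 0) + 2 * x (2, 0) ∧
    x (3, 1) = 1 * x (0, 0) + 1 * x (0, 2) + 1 * x (1, 0) + 1 * x (1, 1) + 2 * x (2, 0) ∧
    x (3, 2) = 2 * x (0, 0) + 2 * x (0, 1) + 1 * x (0, 2) + 2 * x (1, 1) + 2 * x (2, 0)

instance : DecidablePred PC := fun x => by
  unfold PC
  infer_instance

theorem pc_of_mem (x : ArrayPt → ZMod 3) (h : x ∈ ternaryGolayCode) : PC x := parity x h

/-- The sign attached to a truth value. -/
def sg (b : Bool) : ZMod 3 := if b then 2 else 1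

set_option maxRecDepth 100000 in
theorem signs : ∀ e : Fin 12 → Bool,
    (∀ j : Fin 6, PC (fun p => sg (e (idx p)) * enc (Pi.single j 1) p)) →
      (∀ k, e k = false) ∨ (∀ k, e k = true) := by
  decide +kernel

theorem units3 : ∀ u : (ZMod 3)ˣ, (u : ZMod 3) = 1 ∨ (u : ZMod 3) = 2 := by decide

/-- The only sign changes preserving the length-12 ternary code are the identity and negation of all coordinates. -/
theorem result (c : Cfsg.ArrayPt → (ZMod 3)ˣ) (h : (∀ x ∈ Cfsg.ternaryGolayCode, Cfsg.monomialMap 1 c x ∈ Cfsg.ternaryGolayCode)) : (∀ p, c p = 1) ∨ (∀ p, c p = -1) := by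
  have hc : ∀ p, ((c p : (ZMod 3)ˣ) : ZMod 3) = sg (decide (((c p : (ZMod 3)ˣ) : ZMod 3) = 2)) := by
    intro p
    rcases units3 (c p) with h1 | h1
    · rw [h1]
      rfl
    · rw [h1]
      rfl
  have key := signs (fun k => decide (((c (pt k) : (ZMod 3)ˣ) : ZMod 3) = 2)) (by
    intro j
    have hm := pc_of_mem _ (h _ ((mem_iff _).2 ⟨Pi.single j 1, rfl⟩))
    have heq : Cfsg.monomialMap 1 c (enc (Pi.single j 1)) =
        fun p => sg (decide (((c (pt (idx p)) : (ZMod 3)ˣ) : ZMod 3) = 2)) *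
          enc (Pi.single j 1) p := by
      funext p
      rw [pt_idx, ← hc p]
      rfl
    rw [heq] at hm
    exact hm)
  rcases key with hk | hk
  · left
    intro p
    have h1 := hk (idx p)
    simp only [pt_idx, decide_eq_false_iff_not] at h1
    rcases units3 (c p) with h2 | h2
    · exact Units.ext h2
    · exact absurd h2 h1
  · right
    intro p
    have h1 := hk (idx p)
    simp only [pt_idx, decide_eq_true_eq] at h1
    apply Units.ext
    rw [h1]
    rfl

end Cfsg.Agent.S1593
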