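import Cfsg.Statements.S1039
import Cfsg.Agent.Helper7.ChevGood3
import Cfsg.Agent.Helper7.ChevT5
import Cfsg.Agent.Helper7.ChevT6
import Cfsg.Agent.Helper7.ChevT7
import Cfsg.Agent.Helper7.ChevT9
import Cfsg.Agent.Helper7.ChevT21

set_option autoImplicit false
open Cfsg

namespace Cfsg.Agent.S1039

open Cfsg.Agent.Helper7 Cfsg.Agent.Helper7.Chev in
/-- `N/H ≅ W`: there is a surjective homomorphism from `N` onto the Coxeter group of the type (Mathlib's Coxeter matrix G₂, B₂, F₄, E₆, E₇, E₈, nodes numbered as the fundamental roots) with kernel `H`, mapping each `n_{p_i}` to the `i`-th simple reflection. -/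
theorem result {F : Type*} [Field F]
    (p : Cfsg.Lie.ChevalleyDatum × (Σ n : ℕ, CoxeterMatrix (Fin n)))
    (hp : p ∈ [(Cfsg.Lie.chevG2, ⟨2, CoxeterMatrix.G₂⟩), (Cfsg.Lie.chevB2, ⟨2, CoxeterMatrix.B 2⟩), (Cfsg.Lie.chevD4, ⟨4, Cfsg.Lie.coxeterD4⟩), (Cfsg.Lie.chevF4, ⟨4, CoxeterMatrix.F₄⟩),
      (Cfsg.Lie.chevE6, ⟨6, CoxeterMatrix.E₆⟩), (Cfsg.Lie.chevE7, ⟨7, CoxeterMatrix.E₇⟩), (Cfsg.Lie.chevE8, ⟨8, CoxeterMatrix.E₈⟩)]) :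
    ∃ φ : ↥(p.1.monomialSubgroup F) →* p.2.2.Group, Function.Surjective φ ∧
      φ.ker = (p.1.diagonalSubgroup F).subgroupOf (p.1.monomialSubgroup F) ∧
      ∀ (i : Fin p.2.1) (g : ↥(p.1.monomialSubgroup F)),
        ((g : GL p.1.Idx F) : Matrix p.1.Idx p.1.Idx F) = p.1.nMat F (p.1.simple i) 1 → φ g = p.2.2.simple i := by
  simp only [List.mem_cons, List.not_mem_nil, or_false] at hp
  rcases hp with rfl | rfl | rfl | rfl | rfl | rfl | rfl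
  · exact exists_coxeter_hom_chev good2_G2 T0_G2 T3_G2 T4_G2 T5_G2 T6_G2 T8_G2 T9_G2 rfl
      CoxeterMatrix.G₂ CoxG2.hm T21_G2
  · exact exists_coxeter_hom_chev good2_B2 T0_B2 T3_B2 T4_B2 T5_B2 T6_B2 T8_B2 T9_B2 rfl
      (CoxeterMatrix.B 2) CoxB2.hm T21_B2
  · exact exists_coxeter_hom_chev good2_D4 T0_D4 T3_D4 T4_D4 T5_D4 T6_D4 T8_D4 T9_D4 rfl
      Cfsg.Lie.coxeterD4 CoxD4.hm T21_D4
  · exact exists_coxeter_hom_chev good2_F4 T0_F4 T3_F4 T4_F4 T5_F4 T6_F4 T8_F4 T9_F4 rfl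
      CoxeterMatrix.F₄ CoxF4.hm T21_F4
  · exact exists_coxeter_hom_chev good2_E6 T0_E6 T3_E6 T4_E6 T5_E6 T6_E6 T8_E6 T9_E6 rfl
      CoxeterMatrix.E₆ CoxE6.hm T21_E6
  · exact exists_coxeter_hom_chev good2_E7 T0_E7 T3_E7 T4_E7 T5_E7 T6_E7 T8_E7 T9_E7 rfl
      CoxeterMatrix.E₇ CoxE7.hm T21_E7
  · exact exists_coxeter_hom_chev good2_E8 T0_E8 T3_E8 T4_E8 T5_E8 T6_E8 T8_E8 T9_E8 rfl
      CoxeterMatrix.E₈ CoxE8.hm T21_E8

end Cfsg.Agent.S1039
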