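import Cfsg.Statements.S0420
import Cfsg.Agent.S0411
import Cfsg.Agent.M11U.Base
import Cfsg.Agent.M11U.H5_Facts
import Cfsg.Agent.M11U.H1_Loc
import Cfsg.Agent.M11U.H2_Cfg
import Cfsg.Agent.M11U.Lead_Fin
import Cfsg.Agent.M11U.H4_PartB
import Cfsg.Agent.M11U.H8_IsoAut
import Cfsg.Agent.M11U.H9_AutCongr
import Cfsg.Agent.M11U.H9_Concrete
import Cfsg.Agent.M11U.H9_ConcreteIso

set_option autoImplicit false
open scoped Pointwise
open Cfsg

namespace Cfsg.Agent.S0420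

open Cfsg.Agent.M11U in
/-- Simple groups of order 7920 are all isomorphic to the concrete smallest Mathieu group. -/
theorem result {G : Type*} [Group G] [Finite G] (hG : Cfsg.IsM11 G) (d : Finset Cfsg.GolayPt) (hd : d ∈ Cfsg.dodecads) (p : Cfsg.GolayPt) (hp : p ∈ d) : Nonempty (G ≃* ↥(MulAction.stabilizer Cfsg.M24 d ⊓ MulAction.stabilizer Cfsg.M24 p)) := by
  classical
  obtain ⟨F, χ, C⟩ := facts hG
  obtain ⟨L⟩ := exists_localCfg F
  have hidx := index_eleven_of_cfg F L (sup_ne_top_of_cfg F χ C L)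
  set H : Subgroup G := (L.P ⊔ L.R) ⊔ L.S' with hH
  obtain ⟨hfaith, htrans⟩ := sharp4_of_index_eleven F H hidx
  haveI : Fintype (G ⧸ H) := Fintype.ofFinite _
  have hΩ : Fintype.card (G ⧸ H) = 11 := by
    rw [← Nat.card_eq_fintype_card, ← Subgroup.index_eq_card]
    exact hidx
  obtain ⟨B, hB, ⟨e₁⟩⟩ := iso_aut_of_sharp4 (G := G) F.card (Ω := G ⧸ H) hΩ
  obtain ⟨Ω', instF, instD, B', hΩ', hB', ⟨e₂⟩⟩ := concrete_iso_aut d hd p hp
  have hiso : Cfsg.SetSystemIso B B' := Cfsg.Agent.S0411.result hΩ hΩ' hB hB'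
  obtain ⟨e₃⟩ := aut_congr_of_iso hiso
  exact ⟨(e₁.trans e₃).trans e₂.symm⟩

end Cfsg.Agent.S0420
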