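import Mathlib
import Cfsg.Statements.S0298
import Cfsg.Agent.Helper8.SL2Orth
import Cfsg.Agent.Helper8.SL2Omega
import Cfsg.Agent.Helper7.LinearCard
import Cfsg.Agent.S0286

set_option autoImplicit false
open Cfsg

namespace Cfsg.Agent.S0298

open Matrix Cfsg.Agent.Helper8.StdForms Cfsg.Agent.Helper8.SL2Orth Cfsg.Agent.Helper8.SL2Omega

theorem center_eq_bot_of_equiv {G H : Type*} [Group G] [Group H] (e : G ≃* H)
    (hH : Subgroup.center H = ⊥) : Subgroup.center G = ⊥ := by
  rw [eq_bot_iff]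
  intro z hz
  rw [Subgroup.mem_bot]
  have : e z ∈ Subgroup.center H := by
    rw [Subgroup.mem_center_iff] at hz ⊢
    intro h
    obtain ⟨g, rfl⟩ := e.surjective h
    rw [← map_mul, ← map_mul, hz g]
  rw [hH, Subgroup.mem_bot] at this
  exact e.injective (this.trans (map_one e).symm)

/-- PΩ_3(q) is isomorphic to PSL_2(q) for q odd. -/
theorem result {F : Type*} [Field F] [Fintype F] (hodd : Odd (Fintype.card F)) : Nonempty (Cfsg.POmega F (Cfsg.quadFormOdd 1 F) ≃* Matrix.ProjectiveSpecialLinearGroup (Fin 2) F) := by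
  classical
  have h2 : (2 : F) ≠ 0 := by
    intro h
    have hc : ringChar F = 2 := by
      haveI : CharP F 2 := CharTwo.of_one_ne_zero_of_two_eq_zero one_ne_zero h
      exact ringChar.eq F 2
    have : Even (Fintype.card F) :=
      Nat.even_iff.mpr ((FiniteField.even_card_iff_char_two (F := F)).mp hc)
    exact (Nat.not_even_iff_odd.mpr hodd) this
  obtain ⟨q, hq⟩ : ∃ q, q = Fintype.card F := ⟨_, rfl⟩
  have hO := Cfsg.Agent.S0286.result (F := F) hq.symm (hq ▸ hodd) 1
  have hQeq : Cfsg.quadFormOdd 1 F = ⇑(oddForm F 1) :=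
    funext (fun v => (oddForm_apply F 1 v).symm)
  rw [hQeq] at hO ⊢
  rw [one_pow, pow_one, Finset.prod_range_one, zero_add, mul_one] at hO
  -- the order of `Ω`
  obtain ⟨e, he⟩ := Cfsg.Agent.Helper8.OmegaOdd.exists_nonsquare h2
  have hidx := (Cfsg.Agent.Helper8.OmegaOdd.commutator_eq (oddForm F 1) h2 (oddForm_nondeg F 1 h2)
    (by decide) he).1
  have hΩ : Nat.card (Omega F ⇑(oddForm F 1)) * 4 = 2 * q * (q ^ 2 - 1) := by
    rw [← hO, ← hidx]
    exact Subgroup.card_mul_index _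
  -- the order of `PSL₂`
  have hP : 2 * Nat.card (Matrix.ProjectiveSpecialLinearGroup (Fin 2) F) = q * (q ^ 2 - 1) := by
    have h := Cfsg.Agent.Helper7.card_center_mul_card_PSL (F := F) 2 (by norm_num)
    rw [Cfsg.Agent.Helper7.SL2.card_SL2, ← hq] at h
    have hg : Nat.gcd 2 (q - 1) = 2 := by
      apply Nat.gcd_eq_left
      obtain ⟨k, hk⟩ := (hq ▸ hodd : Odd q)
      exact ⟨k, by omega⟩
    rw [hg] at h
    exact h
  have hcard : Nat.card (Omega F ⇑(oddForm F 1))
      = Nat.card (Matrix.ProjectiveSpecialLinearGroup (Fin 2) F) := by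
    have : Nat.card (Omega F ⇑(oddForm F 1)) * 4
        = Nat.card (Matrix.ProjectiveSpecialLinearGroup (Fin 2) F) * 4 := by
      rw [hΩ, mul_assoc, ← hP]
      ring
    exact Nat.eq_of_mul_eq_mul_right (by norm_num) this
  -- the homomorphism `SL₂ → Ω`
  obtain ⟨f, hf⟩ : ∃ f : SpecialLinearGroup (Fin 2) F →* ↥(Omega F ⇑(oddForm F 1)),
      ∀ g, (f g).1 = rho g :=
    ⟨rho.codRestrict _ (rho_mem_commutator h2), fun g => rfl⟩
  have hker : f.ker = Subgroup.center (SpecialLinearGroup (Fin 2) F) := by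
    rw [← ker_rho]
    ext g
    rw [MonoidHom.mem_ker, MonoidHom.mem_ker, ← hf, Subtype.ext_iff]
    rfl
  obtain ⟨φ, hφ⟩ : ∃ φ : Matrix.ProjectiveSpecialLinearGroup (Fin 2) F →*
      ↥(Omega F ⇑(oddForm F 1)), Function.Injective φ := by
    refine ⟨(QuotientGroup.kerLift f).comp
      (QuotientGroup.quotientMulEquivOfEq hker.symm).toMonoidHom, ?_⟩
    rw [MonoidHom.coe_comp]
    exact (QuotientGroup.kerLift_injective f).comp (MulEquiv.injective _)
  have hbij : Function.Bijective φ :=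
    hφ.bijective_of_nat_card_le (le_of_eq hcard)
  have E : ↥(Omega F ⇑(oddForm F 1)) ≃* Matrix.ProjectiveSpecialLinearGroup (Fin 2) F :=
    (MulEquiv.ofBijective φ hbij).symm
  have hcen : Subgroup.center ↥(Omega F ⇑(oddForm F 1)) = ⊥ :=
    center_eq_bot_of_equiv E (center_PSL2 h2)
  exact ⟨((QuotientGroup.quotientMulEquivOfEq hcen).trans QuotientGroup.quotientBot).trans E⟩

end Cfsg.Agent.S0298
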