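import Mathlib
import Cfsg.Statements.S0299
import Cfsg.Agent.Helper8.SL2Plus
import Cfsg.Agent.Helper8.OmegaEven
import Cfsg.Agent.Helper7.LinearCard
import Cfsg.Agent.S0287

set_option autoImplicit false
open Cfsg

namespace Cfsg.Agent.S0299

open Matrix Cfsg.Agent.Helper8.StdForms Cfsg.Agent.Helper8.SL2Plus Cfsg.Agent.Helper8.SL2Omega

/-- every homomorphism from `SL₂(F)` to the signs is trivial when `|F| ≥ 3`. -/
theorem hom_SL2_eq_one {F : Type*} [Field F] [Fintype F] (hF : 3 ≤ Fintype.card F)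
    (ψ : SpecialLinearGroup (Fin 2) F →* ℤˣ) (g : SpecialLinearGroup (Fin 2) F) : ψ g = 1 := by
  classical
  by_cases h2 : (2 : F) = 0
  · obtain ⟨a, ha0, ha1⟩ : ∃ a : F, a ≠ 0 ∧ a ≠ 1 := by
      by_contra hcon
      push Not at hcon
      have : Fintype.card F ≤ 2 := by
        calc Fintype.card F = (Finset.univ : Finset F).card := rfl
          _ ≤ ({0, 1} : Finset F).card := Finset.card_le_card (fun x _ => by
              by_cases hx : x = 0
              · simp [hx]
              · simp [hcon x hx])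
          _ ≤ 2 := Finset.card_le_two
      omega
    have hasq : a ^ 2 ≠ 1 := by
      intro h
      have h3 : (a - 1) ^ 2 = 0 := by linear_combination h + (1 - a) * h2
      exact ha1 (sub_eq_zero.mp (pow_eq_zero_iff (two_ne_zero)|>.mp h3))
    refine Cfsg.Agent.Helper7.Transv.transvection_induction (fun M => ψ M = 1) ?_ ?_ g
    · intro i j hij c
      obtain ⟨x, y, hxy⟩ := Cfsg.Agent.Helper7.Transv.transvection_mem_commutatorSet_two ha0 hasq hij c
      show ψ _ = 1
      rw [← hxy, map_commutatorElement, commutatorElement_eq_one_iff_commute]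
      exact Commute.all _ _
    · intro A B hA hB
      show ψ (A * B) = 1
      rw [map_mul, hA, hB, one_mul]
  · exact hom_eq_one h2 ψ g

/-- every homomorphism from `SL₂(F) × SL₂(F)` to the signs is trivial when `|F| ≥ 3`. -/
theorem hom_G2_eq_one {F : Type*} [Field F] [Fintype F] (hF : 3 ≤ Fintype.card F)
    (ψ : G2 F →* ℤˣ) (x : G2 F) : ψ x = 1 := by
  have hx : x = (MonoidHom.inl _ _ x.1) * (MonoidHom.inr _ _ x.2) := by
    rw [MonoidHom.inl_apply, MonoidHom.inr_apply, Prod.mk_mul_mk, mul_one, one_mul]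
  rw [hx, map_mul]
  have h1 := hom_SL2_eq_one hF (ψ.comp (MonoidHom.inl _ _)) x.1
  have h2 := hom_SL2_eq_one hF (ψ.comp (MonoidHom.inr _ _)) x.2
  rw [MonoidHom.comp_apply] at h1 h2
  rw [h1, h2, one_mul]

/-- the image of `SL₂ × SL₂` lies in `Ω`, and the index of `Ω`. -/
theorem rho_mem_commutator {F : Type*} [Field F] [Fintype F] (hF : 3 ≤ Fintype.card F) :
    (commutator ↥(Cfsg.isometryGroup F ⇑(plusForm F 2))).index
      = 2 * Nat.card (Subgroup.center (SpecialLinearGroup (Fin 2) F)) ∧
    ∀ x : G2 F, rho x ∈ commutator ↥(Cfsg.isometryGroup F ⇑(plusForm F 2)) := by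
  rw [Cfsg.Agent.Helper7.card_center_SL 2 (by norm_num)]
  by_cases h2 : (2 : F) = 0
  · have h := Cfsg.Agent.Helper8.OmegaEven.commutator_eq (plusForm F 2) h2 (plusForm_nondeg F 2)
      (by decide) (Or.inl (by omega))
    constructor
    · rw [h.1]
      have hc : ringChar F = 2 := by
        haveI : CharP F 2 := CharTwo.of_one_ne_zero_of_two_eq_zero one_ne_zero h2
        exact ringChar.eq F 2
      have hev : Even (Fintype.card F) :=
        Nat.even_iff.mpr ((FiniteField.even_card_iff_char_two (F := F)).mp hc)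
      have hg : Nat.gcd 2 (Fintype.card F - 1) = 1 := by
        obtain ⟨k, hk⟩ := hev
        have : Fintype.card F - 1 = 2 * (k - 1) + 1 := by omega
        rw [this]
        simp
      rw [hg]
    · intro x
      rw [h.2]
      exact hom_G2_eq_one hF ((Cfsg.Agent.Helper8.OmegaEven.dicksonMat (plusForm F 2) h2
        (plusForm_nondeg F 2)).comp rho) x
  · obtain ⟨e, he⟩ := Cfsg.Agent.Helper8.OmegaOdd.exists_nonsquare h2
    have h := Cfsg.Agent.Helper8.OmegaOdd.commutator_eq (plusForm F 2) h2 (plusForm_nondeg F 2)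
      (by decide) he
    constructor
    · rw [h.1]
      have hodd : Odd (Fintype.card F) := by
        rw [← Nat.not_even_iff_odd]
        intro hev
        have hc : ringChar F = 2 :=
          (FiniteField.even_card_iff_char_two (F := F)).mpr (Nat.even_iff.mp hev)
        haveI : CharP F 2 := hc ▸ ringChar.charP F
        exact h2 (CharTwo.two_eq_zero)
      have hg : Nat.gcd 2 (Fintype.card F - 1) = 2 := by
        apply Nat.gcd_eq_left
        obtain ⟨k, hk⟩ := hodd
        exact ⟨k, by omega⟩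
      rw [hg]
    · intro x
      rw [h.2]
      exact ⟨hom_G2_eq_one hF ((Cfsg.Agent.Helper8.OmegaOdd.chi (plusForm F 2) 1).comp rho) x,
        hom_G2_eq_one hF ((Cfsg.Agent.Helper8.OmegaOdd.chi (plusForm F 2) e).comp rho) x⟩

/-- PΩ^+_4(q) is isomorphic to PSL_2(q) x PSL_2(q) for q ≥ 3. -/
theorem result {F : Type*} [Field F] [Fintype F] (hF : 3 ≤ Fintype.card F) : Nonempty (Cfsg.POmega F (Cfsg.quadFormPlus 2 F) ≃* Matrix.ProjectiveSpecialLinearGroup (Fin 2) F × Matrix.ProjectiveSpecialLinearGroup (Fin 2) F) := by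
  classical
  obtain ⟨q, hq⟩ : ∃ q, q = Fintype.card F := ⟨_, rfl⟩
  have hO := Cfsg.Agent.S0287.result (F := F) hq.symm 2 (by norm_num)
  have hQeq : Cfsg.quadFormPlus 2 F = ⇑(plusForm F 2) :=
    funext (fun v => (plusForm_apply F 2 v).symm)
  rw [hQeq] at hO ⊢
  have hO' : Nat.card ↥(isometryGroup F ⇑(plusForm F 2)) = 2 * (q * (q ^ 2 - 1)) ^ 2 := by
    rw [hO]
    norm_num [Finset.prod_range_one]
    ring
  obtain ⟨hidx, hmem⟩ := rho_mem_commutator hF
  obtain ⟨z, hz⟩ : ∃ z, z = Nat.card (Subgroup.center (SpecialLinearGroup (Fin 2) F)) := ⟨_, rfl⟩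
  have hzpos : 0 < z := by rw [hz]; exact Nat.card_pos
  rw [← hz] at hidx
  have hΩ : Nat.card (Omega F ⇑(plusForm F 2)) * (2 * z) = 2 * (q * (q ^ 2 - 1)) ^ 2 := by
    rw [← hO', ← hidx]
    exact Subgroup.card_mul_index _
  -- the homomorphism `SL₂ × SL₂ → Ω`
  obtain ⟨f, hf⟩ : ∃ f : G2 F →* ↥(Omega F ⇑(plusForm F 2)), ∀ x, (f x).1 = rho x :=
    ⟨rho.codRestrict _ hmem, fun x => rfl⟩
  have hf1 : ∀ x, f x = 1 ↔ rho x = 1 := by
    intro x
    rw [← hf, Subtype.ext_iff]
    rfl
  have hker : Nat.card f.ker = z := by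
    rw [hz, ← card_ker]
    apply Nat.card_congr
    apply Equiv.subtypeEquivRight
    intro x
    rw [MonoidHom.mem_ker, MonoidHom.mem_ker, hf1]
  have hG : Nat.card (G2 F) = (q * (q ^ 2 - 1)) ^ 2 := by
    rw [Nat.card_prod, Cfsg.Agent.Helper7.SL2.card_SL2, ← hq]
    ring
  have hrange : Nat.card f.range * z = (q * (q ^ 2 - 1)) ^ 2 := by
    rw [← hG, ← hker, ← Nat.card_congr (QuotientGroup.quotientKerEquivRange f).toEquiv]
    exact (Subgroup.card_eq_card_quotient_mul_card_subgroup f.ker).symm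
  have hsurj : Function.Surjective f := by
    rw [← MonoidHom.range_eq_top]
    apply Subgroup.eq_top_of_card_eq
    have : Nat.card f.range * (2 * z) = Nat.card (Omega F ⇑(plusForm F 2)) * (2 * z) := by
      rw [hΩ, ← hrange]
      ring
    exact Nat.eq_of_mul_eq_mul_right (by omega) this
  -- the two quotient maps
  obtain ⟨ψ, hψ⟩ : ∃ ψ : G2 F →* POmega F ⇑(plusForm F 2),
      ψ = (QuotientGroup.mk' (Subgroup.center ↥(Omega F ⇑(plusForm F 2)))).comp f := ⟨_, rfl⟩
  have hψsurj : Function.Surjective ψ := by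
    rw [hψ, MonoidHom.coe_comp]
    exact (QuotientGroup.mk'_surjective _).comp hsurj
  obtain ⟨π, hπ⟩ : ∃ π : G2 F →* Matrix.ProjectiveSpecialLinearGroup (Fin 2) F ×
      Matrix.ProjectiveSpecialLinearGroup (Fin 2) F,
      π = MonoidHom.prodMap (QuotientGroup.mk' (Subgroup.center (SpecialLinearGroup (Fin 2) F)))
        (QuotientGroup.mk' (Subgroup.center (SpecialLinearGroup (Fin 2) F))) := ⟨_, rfl⟩
  have hπsurj : Function.Surjective π := by
    rw [hπ, MonoidHom.coe_prodMap]
    exact Function.Surjective.prodMap (QuotientGroup.mk'_surjective _)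
      (QuotientGroup.mk'_surjective _)
  have hkers : ψ.ker = π.ker := by
    ext x
    rw [MonoidHom.mem_ker, MonoidHom.mem_ker, hψ, hπ, MonoidHom.comp_apply,
      QuotientGroup.mk'_apply, QuotientGroup.eq_one_iff, MonoidHom.coe_prodMap, Prod.map_apply',
      Prod.mk_eq_one, QuotientGroup.mk'_apply, QuotientGroup.mk'_apply, QuotientGroup.eq_one_iff,
      QuotientGroup.eq_one_iff]
    constructor
    · intro hx
      rw [Subgroup.mem_center_iff] at hx
      have key : ∀ y : G2 F, rho (x * y * x⁻¹ * y⁻¹) = 1 := by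
        intro y
        rw [← hf1, map_mul, map_mul, map_mul, map_inv, map_inv, ← hx (f y)]
        group
      constructor
      · rw [Subgroup.mem_center_iff]
        intro k
        have := key (k, 1)
        have e : x * (k, 1) * x⁻¹ * ((k, 1) : G2 F)⁻¹ = (x.1 * k * x.1⁻¹ * k⁻¹, 1) := by
          rw [Prod.ext_iff]
          constructor
          · simp
          · simp
        rw [e] at this
        have h3 := eq_one_of_rho_left this
        calc k * x.1 = (x.1 * k * x.1⁻¹ * k⁻¹)⁻¹ * (x.1 * k) := by group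
          _ = x.1 * k := by rw [h3, inv_one, one_mul]
      · rw [Subgroup.mem_center_iff]
        intro k
        have := key (1, k)
        have e : x * (1, k) * x⁻¹ * ((1, k) : G2 F)⁻¹ = (1, x.2 * k * x.2⁻¹ * k⁻¹) := by
          rw [Prod.ext_iff]
          constructor
          · simp
          · simp
        rw [e] at this
        have h3 := eq_one_of_rho_right this
        calc k * x.2 = (x.2 * k * x.2⁻¹ * k⁻¹)⁻¹ * (x.2 * k) := by group
          _ = x.2 * k := by rw [h3, inv_one, one_mul]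
    · rintro ⟨h1, h2⟩
      rw [Subgroup.mem_center_iff] at h1 h2 ⊢
      intro w
      obtain ⟨y, rfl⟩ := hsurj w
      rw [← map_mul, ← map_mul]
      congr 1
      rw [Prod.ext_iff]
      exact ⟨h1 y.1, h2 y.2⟩
  exact ⟨((QuotientGroup.quotientKerEquivOfSurjective ψ hψsurj).symm.trans
    (QuotientGroup.quotientMulEquivOfEq hkers)).trans
    (QuotientGroup.quotientKerEquivOfSurjective π hπsurj)⟩

end Cfsg.Agent.S0299
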