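import Mathlib
import Cfsg.Statements.S0300
import Cfsg.Agent.Helper8.SL2Herm
import Cfsg.Agent.Helper8.SL2HermOmega
import Cfsg.Agent.Helper8.OmegaOdd
import Cfsg.Agent.Helper7.LinearCard
import Cfsg.Agent.S0288

set_option autoImplicit false
open Cfsg

namespace Cfsg.Agent.S0300

open Matrix Cfsg.Agent.Helper8.StdForms Cfsg.Agent.Helper8.SL2Herm Cfsg.Agent.Helper8.SL2HermOmega

/-- the quadratic extension is finite. -/
@[reducible] noncomputable def fintypeQK {F : Type*} [Field F] [Fintype F] (a b : F) :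
    Fintype (QK F a b) :=
  Fintype.ofEquiv _ (QuadraticAlgebra.equivProd (-b) a).symm

theorem sq_sub_one (s : ℕ) : s ^ 2 - 1 = (s - 1) * (s + 1) := by
  rcases s with _ | t
  · rfl
  · rw [Nat.add_sub_cancel]
    have : (t + 1) ^ 2 = t * (t + 1 + 1) + 1 := by ring
    rw [this, Nat.add_sub_cancel]

/-- the model: `PΩ⁻₄(F) ≅ PSL₂(F[ω])`. -/
theorem main {F : Type*} [Field F] [Fintype F] {q : ℕ} (hF : Fintype.card F = q) (a b : F)
    (hab : ∀ z₁ z₂ : F, z₁ ^ 2 + a * z₁ * z₂ + b * z₂ ^ 2 = 0 → z₁ = 0 ∧ z₂ = 0)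
    [Hab : Fact (∀ r : F, r ^ 2 ≠ -b + a * r)] [Fintype (QK F a b)]
    (hK : Fintype.card (QK F a b) = q ^ 2) :
    Nonempty (Cfsg.POmega F (Cfsg.quadFormMinus 1 F a b)
      ≃* Matrix.ProjectiveSpecialLinearGroup (Fin 2) (QK F a b)) := by
  classical
  have hq2 : 2 ≤ q := by rw [← hF]; exact Fintype.one_lt_card
  have hq4 : 4 ≤ q ^ 2 := by nlinarith
  have hO : Nat.card (isometryGroup F (quadFormMinus 1 F a b))
      = 2 * q ^ (2 * (2 - 1)) * (q ^ 2 + 1) * ∏ i ∈ Finset.range (2 - 1), (q ^ (2 * (i + 1)) - 1) :=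
    Cfsg.Agent.S0288.result (F := F) hF 2 (by norm_num) a b hab
  have hQeq : Cfsg.quadFormMinus 1 F a b = ⇑(minusForm F 1 a b) :=
    funext (fun v => (minusForm_apply F 1 a b v).symm)
  rw [hQeq] at hO ⊢
  obtain ⟨n, hn⟩ : ∃ n, n = Nat.card (SpecialLinearGroup (Fin 2) (QK F a b)) := ⟨_, rfl⟩
  have hn' : n = q ^ 2 * (q ^ 2 - 1) * (q ^ 2 + 1) := by
    rw [hn, Cfsg.Agent.Helper7.SL2.card_SL2, hK, sq_sub_one (q ^ 2)]
    ring
  have hnpos : 0 < n := by rw [hn]; exact Nat.card_pos
  have hO' : Nat.card ↥(isometryGroup F ⇑(minusForm F 1 a b)) = 2 * n := by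
    rw [hO, hn']
    norm_num [Finset.prod_range_one]
    ring
  -- the image lies in `Ω`
  obtain ⟨c, hc0, hc⟩ := exists_sq_ne_one (E := QK F a b) (by rw [hK]; exact hq4)
  have hmem : ∀ g : SpecialLinearGroup (Fin 2) (QK F a b),
      rho g ∈ commutator ↥(isometryGroup F ⇑(minusForm F 1 a b)) :=
    fun g => map_mem_commutator hc0 hc rho g
  obtain ⟨f, hf⟩ : ∃ f : SpecialLinearGroup (Fin 2) (QK F a b) →*
      ↥(Omega F ⇑(minusForm F 1 a b)), ∀ x, (f x).1 = rho x :=
    ⟨rho.codRestrict _ hmem, fun x => rfl⟩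
  have hf1 : ∀ x, f x = 1 ↔ rho x = 1 := by
    intro x
    rw [← hf, Subtype.ext_iff]
    rfl
  have hker : f.ker = Subgroup.center (SpecialLinearGroup (Fin 2) (QK F a b)) := by
    rw [← ker_rho]
    ext g
    rw [MonoidHom.mem_ker, MonoidHom.mem_ker, hf1]
  obtain ⟨z, hz⟩ : ∃ z, z = Nat.card (Subgroup.center (SpecialLinearGroup (Fin 2) (QK F a b))) :=
    ⟨_, rfl⟩
  have hrange : Nat.card f.range * z = n := by
    rw [hn, hz, ← hker, ← Nat.card_congr (QuotientGroup.quotientKerEquivRange f).toEquiv]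
    exact (Subgroup.card_eq_card_quotient_mul_card_subgroup f.ker).symm
  have hzval : z = Nat.gcd 2 (q ^ 2 - 1) := by
    rw [hz, Cfsg.Agent.Helper7.card_center_SL 2 (by norm_num), hK]
  -- surjectivity
  have hsurj : Function.Surjective f := by
    by_cases h2 : (2 : F) = 0
    · -- `q` even: the image has index two
      have hc2 : ringChar F = 2 := by
        haveI : CharP F 2 := CharTwo.of_one_ne_zero_of_two_eq_zero one_ne_zero h2
        exact ringChar.eq F 2
      have hev : Even q := by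
        rw [← hF]
        exact Nat.even_iff.mpr ((FiniteField.even_card_iff_char_two (F := F)).mp hc2)
      have hz1 : z = 1 := by
        rw [hzval]
        obtain ⟨k, hk⟩ := hev
        obtain ⟨m, hm⟩ : ∃ m, m = k * k := ⟨_, rfl⟩
        have : q ^ 2 - 1 = 2 * (2 * m - 1) + 1 := by
          have h4 : q ^ 2 = 4 * m := by rw [hk, hm]; ring
          have hk1 : 1 ≤ k := by omega
          have : 1 ≤ m := by rw [hm]; exact Nat.mul_pos hk1 hk1
          omega
        rw [this]
        simp
      rw [hz1, mul_one] at hrange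
      have hrr : Nat.card (rho (F := F) (a := a) (b := b)).range = n := by
        rw [← hrange]
        apply Nat.card_congr
        refine ⟨fun y => ⟨⟨y.1, ?_⟩, ?_⟩, fun y => ⟨y.1.1, ?_⟩, ?_, ?_⟩
        · obtain ⟨x, hx⟩ := y.2
          rw [← hx]
          exact hmem x
        · obtain ⟨x, hx⟩ := y.2
          exact ⟨x, Subtype.ext ((hf x).trans hx)⟩
        · obtain ⟨x, hx⟩ := y.2
          exact ⟨x, by rw [← hf, hx]⟩
        · intro y; rfl
        · intro y; rfl
      have hidx : (rho (F := F) (a := a) (b := b)).range.index = 2 := by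
        have := Subgroup.card_mul_index (rho (F := F) (a := a) (b := b)).range
        rw [hrr, hO'] at this
        have h3 : n * (rho (F := F) (a := a) (b := b)).range.index = n * 2 := by rw [this]; ring
        exact Nat.eq_of_mul_eq_mul_left hnpos h3
      haveI : (rho (F := F) (a := a) (b := b)).range.Normal := Subgroup.normal_of_index_eq_two hidx
      have hcard2 : Nat.card (↥(isometryGroup F ⇑(minusForm F 1 a b)) ⧸
          (rho (F := F) (a := a) (b := b)).range) = 2 := by
        rw [← Subgroup.index_eq_card, hidx]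
      haveI : Fact (Nat.Prime 2) := ⟨Nat.prime_two⟩
      haveI : IsCyclic (↥(isometryGroup F ⇑(minusForm F 1 a b)) ⧸
          (rho (F := F) (a := a) (b := b)).range) :=
        isCyclic_of_prime_card hcard2
      letI : CommGroup (↥(isometryGroup F ⇑(minusForm F 1 a b)) ⧸
          (rho (F := F) (a := a) (b := b)).range) :=
        IsCyclic.commGroup
      have hle : commutator ↥(isometryGroup F ⇑(minusForm F 1 a b))
          ≤ (rho (F := F) (a := a) (b := b)).range := by
        have := Abelianization.commutator_subset_ker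
          (QuotientGroup.mk' (rho (F := F) (a := a) (b := b)).range)
        rwa [QuotientGroup.ker_mk'] at this
      intro y
      obtain ⟨x, hx⟩ := hle y.2
      exact ⟨x, Subtype.ext ((hf x).trans hx)⟩
    · -- `q` odd: the index of `Ω` is four
      obtain ⟨e, he⟩ := Cfsg.Agent.Helper8.OmegaOdd.exists_nonsquare h2
      have hidx := (Cfsg.Agent.Helper8.OmegaOdd.commutator_eq (minusForm F 1 a b) h2
        (minusForm_nondeg F 1 hab) (by decide) he).1
      have hΩ : Nat.card (Omega F ⇑(minusForm F 1 a b)) * 4 = 2 * n := by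
        rw [← hO', ← hidx]
        exact Subgroup.card_mul_index _
      have hodd : Odd q := by
        rw [← Nat.not_even_iff_odd, ← hF]
        intro hev
        have hc : ringChar F = 2 :=
          (FiniteField.even_card_iff_char_two (F := F)).mpr (Nat.even_iff.mp hev)
        haveI : CharP F 2 := hc ▸ ringChar.charP F
        exact h2 (CharTwo.two_eq_zero)
      have hz2 : z = 2 := by
        rw [hzval]
        apply Nat.gcd_eq_left
        obtain ⟨k, hk⟩ := hodd
        obtain ⟨m, hm⟩ : ∃ m, m = k * k := ⟨_, rfl⟩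
        refine ⟨2 * m + 2 * k, ?_⟩
        have : q ^ 2 = 4 * m + 4 * k + 1 := by rw [hk, hm]; ring
        omega
      rw [hz2] at hrange
      rw [← MonoidHom.range_eq_top]
      apply Subgroup.eq_top_of_card_eq
      omega
  -- the isomorphism `Ω ≃ PSL₂`
  have hbij : Function.Bijective (QuotientGroup.kerLift f) :=
    ⟨QuotientGroup.kerLift_injective f, fun y => by
      obtain ⟨x, hx⟩ := hsurj y
      exact ⟨QuotientGroup.mk x, hx⟩⟩
  have E : ↥(Omega F ⇑(minusForm F 1 a b)) ≃*
      Matrix.ProjectiveSpecialLinearGroup (Fin 2) (QK F a b) :=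
    (MulEquiv.ofBijective (QuotientGroup.kerLift f) hbij).symm.trans
      (QuotientGroup.quotientMulEquivOfEq hker)
  have hcen : Subgroup.center ↥(Omega F ⇑(minusForm F 1 a b)) = ⊥ := by
    rw [eq_bot_iff]
    intro w hw
    rw [Subgroup.mem_bot]
    have : E w ∈ Subgroup.center (Matrix.ProjectiveSpecialLinearGroup (Fin 2) (QK F a b)) := by
      rw [Subgroup.mem_center_iff] at hw ⊢
      intro h
      obtain ⟨g, rfl⟩ := E.surjective h
      rw [← map_mul, ← map_mul, hw g]
    rw [center_PSL2, Subgroup.mem_bot] at this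
    exact E.injective (this.trans (map_one E).symm)
  exact ⟨((QuotientGroup.quotientMulEquivOfEq hcen).trans QuotientGroup.quotientBot).trans E⟩

/-- PΩ^-_4(q) is isomorphic to PSL_2(q^2). -/
theorem result {F K : Type*} [Field F] [Fintype F] [Field K] [Fintype K] {q : ℕ} (hF : Fintype.card F = q) (hK : Fintype.card K = q ^ 2) (a b : F) (hab : ∀ z₁ z₂ : F, z₁ ^ 2 + a * z₁ * z₂ + b * z₂ ^ 2 = 0 → z₁ = 0 ∧ z₂ = 0) : Nonempty (Cfsg.POmega F (Cfsg.quadFormMinus 1 F a b) ≃* Matrix.ProjectiveSpecialLinearGroup (Fin 2) K) := by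
  classical
  haveI Hab : Fact (∀ r : F, r ^ 2 ≠ -b + a * r) := ⟨fun r hr => by
    have := (hab (-r) 1 (by linear_combination hr)).2
    exact one_ne_zero this⟩
  letI : Fintype (QK F a b) := fintypeQK a b
  have hK' : Fintype.card (QK F a b) = q ^ 2 := by
    rw [Fintype.ofEquiv_card, Fintype.card_prod, hF, pow_two]
  obtain ⟨E⟩ := main hF a b hab hK'
  have e : QK F a b ≃+* K := FiniteField.ringEquivOfCardEq (hK'.trans hK.symm)
  exact ⟨E.trans (quotCenterEquiv (slEquiv e))⟩

end Cfsg.Agent.S0300
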