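import Mathlib
import Cfsg.Statements.S2699
import Cfsg.Agent.Helper8.GrAutK

set_option autoImplicit false
open Cfsg

namespace Cfsg.Agent.S2699

open Matrix Cfsg.Agent.Helper8.AutSLn Cfsg.Agent.Helper8.GrAut

/-- Let T = PSL_n(F) over the field with p^f elements with n ≥ 3 odd, n = 2m + 1, and G = Inndiag(T) the image of PGL_n(F). Every involutory graph automorphism γ of T (an inner-diagonal automorphism followed by inverse-transpose, of order 2) has centralizer C_G(γ) isomorphic to the projective conformal orthogonal group of the form x₀² + Σ xᵢ yᵢ in dimension n (for q even this group is isomorphic to Sp_{n−1}(q)), and any two involutory graph automorphisms are G-conjugate. -/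
theorem result {F : Type*} [Field F] [Fintype F] {p f : ℕ} [Fact p.Prime] (hF : Fintype.card F = p ^ f) (hf : 1 ≤ f) {n : ℕ} (hn : 3 ≤ n) {m : ℕ} (hnm : n = 2 * m + 1) (γ γ' : MulAut (Matrix.ProjectiveSpecialLinearGroup (Fin n) F)) (hγ : Cfsg.IsGraphAutClassPSL γ) (hγ2 : orderOf γ = 2) (hγ' : Cfsg.IsGraphAutClassPSL γ') (hγ'2 : orderOf γ' = 2) :
    Nonempty (↥(Cfsg.inndiagPSL n F ⊓ Subgroup.centralizer {γ}) ≃* Cfsg.PGO F (Cfsg.quadFormOdd m F)) ∧ Cfsg.IsConjUnder (Cfsg.inndiagPSL n F) γ γ' := by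
  classical
  have hn2 : 2 ≤ n := by omega
  have hodd : Odd n := ⟨m, hnm⟩
  obtain ⟨A, rfl⟩ := exists_eq_graphAut hγ
  obtain ⟨A', rfl⟩ := exists_eq_graphAut hγ'
  have hA := (orderOf_graphAut_fin hn A).mp hγ2
  have hA' := (orderOf_graphAut_fin hn A').mp hγ'2
  by_cases h2 : (2 : F) = 0
  · have : CharP F 2 := CharTwo.of_one_ne_zero_of_two_eq_zero one_ne_zero h2
    have hAs := symm_of_or A hA
    have hAs' := symm_of_or A' hA'
    exact ⟨nonempty_centralizer_equiv_PGO_two hn2 hnm A hAs,
      conj_of_nonalt hn2 A A' hAs (nonalt_of_odd hodd A) hAs' (nonalt_of_odd hodd A')⟩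
  · have hAs : (A : Matrix (Fin n) (Fin n) F).transpose = (A : Matrix (Fin n) (Fin n) F) := by
      rcases hA with h | h
      · exact h
      · exact (not_skew_of_odd h2 hodd A h).elim
    have hAs' : (A' : Matrix (Fin n) (Fin n) F).transpose = (A' : Matrix (Fin n) (Fin n) F) := by
      rcases hA' with h | h
      · exact h
      · exact (not_skew_of_odd h2 hodd A' h).elim
    exact ⟨nonempty_centralizer_equiv_PGO_odd h2 hn2 hnm A hAs,
      conj_of_symm_odd h2 hn2 hnm A A' hAs hAs'⟩

end Cfsg.Agent.S2699
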