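import Mathlib
import Cfsg.Statements.S2700
import Cfsg.Agent.Helper8.GrAutG
import Cfsg.Agent.S2620
import Cfsg.Agent.S2621
import Cfsg.Agent.Helper8.OmegaOdd

set_option autoImplicit false
open Cfsg

namespace Cfsg.Agent.S2700

open Matrix Cfsg.Agent.Helper8.AutSLn Cfsg.Agent.Helper8.GrAut Cfsg.Agent.Helper8.StdForms

/-- Let T = PSL_n(F) over a finite field of odd order with n = 2m ≥ 4 even, and G = Inndiag(T) the image of PGL_n(F). The involutory graph automorphisms of T fall into exactly three G-classes, with representatives γ₁, γ₂, γ₃ whose centralizers in G are isomorphic respectively to the projective conformal symplectic group PGSp_n(F), the projective conformal orthogonal group of the plus-type form Σ xᵢ yᵢ, and that of a minus-type form Σ xᵢ yᵢ + z₁² + a z₁ z₂ + b z₂² (anisotropic binary part) in dimension n. -/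
theorem result {F : Type*} [Field F] [Fintype F] (hodd : Odd (Fintype.card F)) {n m : ℕ} (hm : 2 ≤ m) (hnm : n = 2 * m) :
    ∃ (γ₁ γ₂ γ₃ : MulAut (Matrix.ProjectiveSpecialLinearGroup (Fin n) F)) (a b : F), (∀ z₁ z₂ : F, z₁ ^ 2 + a * z₁ * z₂ + b * z₂ ^ 2 = 0 → z₁ = 0 ∧ z₂ = 0) ∧ Cfsg.IsGraphAutClassPSL γ₁ ∧ orderOf γ₁ = 2 ∧ Cfsg.IsGraphAutClassPSL γ₂ ∧ orderOf γ₂ = 2 ∧ Cfsg.IsGraphAutClassPSL γ₃ ∧ orderOf γ₃ = 2 ∧ ¬ Cfsg.IsConjUnder (Cfsg.inndiagPSL n F) γ₁ γ₂ ∧ ¬ Cfsg.IsConjUnder (Cfsg.inndiagPSL n F) γ₁ γ₃ ∧ ¬ Cfsg.IsConjUnder (Cfsg.inndiagPSL n F) γ₂ γ₃ ∧ (∀ γ : MulAut (Matrix.ProjectiveSpecialLinearGroup (Fin n) F), Cfsg.IsGraphAutClassPSL γ → orderOf γ = 2 → Cfsg.IsConjUnder (Cfsg.inndiagPSL n F) γ₁ γ ∨ Cfsg.IsConjUnder (Cfsg.inndiagPSL n F) γ₂ γ ∨ Cfsg.IsConjUnder (Cfsg.inndiagPSL n F) γ₃ γ) ∧ Nonempty (↥(Cfsg.inndiagPSL n F ⊓ Subgroup.centralizer {γ₁}) ≃* Cfsg.PGSp m F) ∧ Nonempty (↥(Cfsg.inndiagPSL n F ⊓ Subgroup.centralizer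 {γ₂}) ≃* Cfsg.PGO F (Cfsg.quadFormPlus m F)) ∧ Nonempty (↥(Cfsg.inndiagPSL n F ⊓ Subgroup.centralizer {γ₃}) ≃* Cfsg.PGO F (Cfsg.quadFormMinus (m - 1) F a b)) := by
  classical
  have h2 : (2 : F) ≠ 0 := by
    intro h
    have hc : ringChar F = 2 := by
      have : CharP F 2 := CharTwo.of_one_ne_zero_of_two_eq_zero one_ne_zero h
      exact ringChar.eq F 2
    have hp : ringChar F ∣ Fintype.card F := by
      obtain ⟨k, hp, hk⟩ := FiniteField.card F (ringChar F)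
      rw [hk]
      exact dvd_pow_self _ k.ne_zero
    rw [hc] at hp
    exact (Nat.not_even_iff_odd.mpr hodd) (even_iff_two_dvd.mpr hp)
  have hn2 : 2 ≤ n := by omega
  have hn3 : 3 ≤ n := by omega
  have hev : Even n := ⟨m, by omega⟩
  obtain ⟨ε, hε⟩ := Cfsg.Agent.Helper8.OmegaOdd.exists_nonsquare (F := F) h2
  have hε0 : ε ≠ 0 := fun h => hε (h ▸ IsSquare.zero)
  have haniso : ∀ z₁ z₂ : F, z₁ ^ 2 + 0 * z₁ * z₂ + (-ε) * z₂ ^ 2 = 0 → z₁ = 0 ∧ z₂ = 0 := by
    intro z₁ z₂ h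
    have hz2 : z₂ = 0 := by
      by_contra hz
      apply hε
      refine ⟨z₁ / z₂, ?_⟩
      field_simp
      linear_combination -h
    subst hz2
    refine ⟨?_, rfl⟩
    have : z₁ ^ 2 = 0 := by linear_combination h
    exact pow_eq_zero_iff (two_ne_zero) |>.mp this
  set D : GL (Fin n) F := diag1 (⟨0, by omega⟩ : Fin n) (Units.mk0 ε hε0) with hD
  have hDdet : (D : Matrix (Fin n) (Fin n) F).det = ε := by
    have := det_diag1 (F := F) (⟨0, by omega⟩ : Fin n) (Units.mk0 ε hε0)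
    have h' := congrArg Units.val this
    rw [Matrix.GeneralLinearGroup.val_det_apply] at h'
    exact h'
  have hDsym : (D : Matrix (Fin n) (Fin n) F).transpose = (D : Matrix (Fin n) (Fin n) F) := by
    show (Matrix.diagonal _).transpose = Matrix.diagonal _
    rw [Matrix.diagonal_transpose]
  have h1sym : ((1 : GL (Fin n) F) : Matrix (Fin n) (Fin n) F).transpose
      = ((1 : GL (Fin n) F) : Matrix (Fin n) (Fin n) F) := by
    rw [Units.val_one, Matrix.transpose_one]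
  have h1det : ((1 : GL (Fin n) F) : Matrix (Fin n) (Fin n) F).det = 1 := by
    rw [Units.val_one, Matrix.det_one]
  let eP : Fin n ≃ Fin m ⊕ Fin m := (finCongr (by omega : n = m + m)).trans finSumFinEquiv.symm
  let eM : Fin n ≃ (Fin (m - 1) ⊕ Fin (m - 1)) ⊕ Fin 2 :=
    (finCongr (by omega : n = (m - 1 + (m - 1)) + 2)).trans
      (finSumFinEquiv.symm.trans (Equiv.sumCongr finSumFinEquiv.symm (Equiv.refl _)))
  have hfunP : ⇑(plusForm F m) = quadFormPlus m F := funext (plusForm_apply F m)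
  have hfunM : ⇑(minusForm F (m - 1) 0 (-ε)) = quadFormMinus (m - 1) F 0 (-ε) :=
    funext (minusForm_apply F (m - 1) 0 (-ε))
  have hP := Cfsg.Agent.S2620.result (F := F) rfl hodd (by omega : 1 ≤ m) (reBasis F eP)
  have hM := Cfsg.Agent.S2621.result (F := F) rfl hodd (by omega : 1 ≤ m) 0 (-ε) haniso
    (reBasis F eM)
  rw [← hfunP] at hP
  rw [← hfunM] at hM
  obtain ⟨A₂, A₃, hA₂, hA₃, h23, hA₂P, hA₃M⟩ : ∃ A₂ A₃ : GL (Fin n) F,
      (A₂ : Matrix (Fin n) (Fin n) F).transpose = (A₂ : Matrix (Fin n) (Fin n) F) ∧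
      (A₃ : Matrix (Fin n) (Fin n) F).transpose = (A₃ : Matrix (Fin n) (Fin n) F) ∧
      ¬ IsSquare ((A₂ : Matrix (Fin n) (Fin n) F).det * (A₃ : Matrix (Fin n) (Fin n) F).det) ∧
      IsSquare ((A₂ : Matrix (Fin n) (Fin n) F).det * (Matrix.of (fun i j : Fin n =>
        QuadraticMap.polar (⇑(plusForm F m)) (reBasis F eP i) (reBasis F eP j))).det) ∧
      IsSquare ((A₃ : Matrix (Fin n) (Fin n) F).det * (Matrix.of (fun i j : Fin n =>
        QuadraticMap.polar (⇑(minusForm F (m - 1) 0 (-ε))) (reBasis F eM i)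
          (reBasis F eM j))).det) := by
    by_cases hE : Even (m * (Fintype.card F - 1) / 2)
    · refine ⟨1, D, h1sym, hDsym, ?_, ?_, ?_⟩
      · rw [h1det, hDdet, one_mul]
        exact hε
      · rw [h1det, one_mul]
        exact hP.mpr hE
      · rw [hDdet]
        exact isSquare_mul_of_not_isSquare hε (fun h => (hM.mp h) hE)
    · refine ⟨D, 1, hDsym, h1sym, ?_, ?_, ?_⟩
      · rw [h1det, hDdet, mul_one]
        exact hε
      · rw [hDdet]
        exact isSquare_mul_of_not_isSquare hε (fun h => hE (hP.mp h))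
      · rw [h1det, one_mul]
        exact hM.mpr hE
  have hJ := reGL_Jgl_transpose (F := F) eP
  have hd2 : (A₂ : Matrix (Fin n) (Fin n) F).det ≠ 0 :=
    ((Matrix.isUnit_iff_isUnit_det _).mp (Units.isUnit A₂)).ne_zero
  refine ⟨graphAut (reGL eP (Jgl m F)), graphAut A₂, graphAut A₃, 0, -ε, haniso,
    isGraphAutClass_graphAut hn3 _, (orderOf_graphAut_fin hn3 _).mpr (Or.inr hJ),
    isGraphAutClass_graphAut hn3 _, (orderOf_graphAut_fin hn3 _).mpr (Or.inl hA₂),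
    isGraphAutClass_graphAut hn3 _, (orderOf_graphAut_fin hn3 _).mpr (Or.inl hA₃),
    not_conj_skew_symm hn2 h2 _ A₂ hJ hA₂, not_conj_skew_symm hn2 h2 _ A₃ hJ hA₃,
    not_conj_of_not_isSquare hn2 hev A₂ A₃ h23, ?_, nonempty_centralizer_equiv_PGSp hn2 eP,
    ?_, ?_⟩
  · intro γ hγ hγ2
    obtain ⟨A, rfl⟩ := exists_eq_graphAut hγ
    rcases (orderOf_graphAut_fin hn3 A).mp hγ2 with hA | hA
    · by_cases hsq : IsSquare ((A₂ : Matrix (Fin n) (Fin n) F).det
          * (A : Matrix (Fin n) (Fin n) F).det)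
      · right; left
        exact conj_of_congr hn2 A₂ A (exists_congr_of_isSquare h2 A₂ A hA₂ hA hsq)
      · right; right
        apply conj_of_congr hn2 A₃ A (exists_congr_of_isSquare h2 A₃ A hA₃ hA ?_)
        have h5 := isSquare_mul_of_not_isSquare h23 hsq
        obtain ⟨s, hs⟩ := h5
        refine ⟨s / (A₂ : Matrix (Fin n) (Fin n) F).det, ?_⟩
        field_simp
        linear_combination hs
    · left
      exact conj_of_congr hn2 _ A (exists_congr_of_skew h2 _ A hJ hA)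
  · obtain ⟨L, hL⟩ := exists_isometry_matQ h2 hev eP (plusForm F m) (plusForm_nondeg F m) A₂ hA₂
      hA₂P
    exact nonempty_centralizer_equiv_PGO' h2 hn2 (quadFormPlus m F) A₂ hA₂ L
      (fun v => by rw [← plusForm_apply, hL])
  · obtain ⟨L, hL⟩ := exists_isometry_matQ h2 hev eM (minusForm F (m - 1) 0 (-ε))
      (minusForm_nondeg F (m - 1) haniso) A₃ hA₃ hA₃M
    exact nonempty_centralizer_equiv_PGO' h2 hn2 (quadFormMinus (m - 1) F 0 (-ε)) A₃ hA₃ L
      (fun v => by rw [← minusForm_apply, hL])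

end Cfsg.Agent.S2700
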