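import Mathlib
import Cfsg.Statements.S2729
import Cfsg.Agent.Helper8.InnDiagMinusH
import Cfsg.Agent.Helper8.OmegaStd
import Cfsg.Agent.S0791

set_option autoImplicit false
open Cfsg

namespace Cfsg.Agent.S2729

open Module Cfsg.Agent.Helper8.StdForms Cfsg.Agent.Helper8.OmegaStd Cfsg.Agent.Helper8.InnDiagMinus

universe u

/-- the inner-diagonal group for a general form -/
def innd {F : Type u} [Field F] {m : ℕ} (a b : F) (Q' : ((Fin m ⊕ Fin m) ⊕ Fin 2 → F) → F) :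
    Subgroup (MulAut (Cfsg.POmega F Q')) :=
  Cfsg.autSubgroupOf fun β => ∃ g : GL ((Fin m ⊕ Fin m) ⊕ Fin 2) F,
    g ∈ Cfsg.Geo.quadSimilarityGroup (F := F) Q' ∧
    Cfsg.PreservesSingularClassesMinus m a b
      (g : Matrix ((Fin m ⊕ Fin m) ⊕ Fin 2) ((Fin m ⊕ Fin m) ⊕ Fin 2) F) ∧
    Cfsg.IsInducedBySemilinearPOmega Q' g (RingEquiv.refl F) β

/-- the quotient of the inner-diagonal group by the inner automorphisms is `C` -/
def QuotIs {F : Type u} [Field F] {m : ℕ} (a b : F) (Q' : ((Fin m ⊕ Fin m) ⊕ Fin 2 → F) → F)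
    (C : Type) [Group C] : Prop :=
  ∃ φ : ↥(innd a b Q') →* C, Function.Surjective φ ∧
    φ.ker = (Cfsg.Inn (Cfsg.POmega F Q')).subgroupOf (innd a b Q')

theorem main {F : Type u} [Field F] [Fintype F] (hodd : Odd (Fintype.card F)) {m : ℕ} (hm : 3 ≤ m)
    (a b : F) (hab : (∀ z₁ z₂ : F, z₁ ^ 2 + a * z₁ * z₂ + b * z₂ ^ 2 = 0 → z₁ = 0 ∧ z₂ = 0))
    (Q' : ((Fin m ⊕ Fin m) ⊕ Fin 2 → F) → F) (hQ' : Q' = ⇑(minusForm F m a b))
    (hiff : (∃ g : ↥(Cfsg.isometryGroup F Q'), g ∈ Cfsg.Omega F Q' ∧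
      ((g : GL ((Fin m ⊕ Fin m) ⊕ Fin 2) F) :
        Matrix ((Fin m ⊕ Fin m) ⊕ Fin 2) ((Fin m ⊕ Fin m) ⊕ Fin 2) F) = -1) ↔
        Fintype.card F ^ (m + 1) % 4 = 3) :
    ((Even m ∧ Fintype.card F % 4 = 3) → QuotIs a b Q' (Multiplicative (ZMod 4))) ∧
    (¬ (Even m ∧ Fintype.card F % 4 = 3) → QuotIs a b Q' (Multiplicative (ZMod 2))) := by
  subst hQ'
  have hpm := pow_mod_four (Fintype.card F) (m + 1) hodd
  have hqodd : Odd (Fintype.card F ^ (m + 1)) := hodd.pow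
  have h13 : Fintype.card F ^ (m + 1) % 4 = 3 ↔ ¬ (Fintype.card F ^ (m + 1) % 4 = 1) := by
    obtain ⟨r, hr⟩ := hqodd
    omega
  constructor
  · rintro ⟨hme, hq3⟩
    apply hom_minus_four hodd hm a b hab _ hme
    rw [hiff, h13, hpm]
    rintro (h | h)
    · exact (Nat.not_even_iff_odd.mpr hme.add_one) h
    · exact h hq3
  · intro hno
    apply hom_minus_two hodd hm a b hab
    rw [hiff, h13, hpm, not_not]
    by_contra hcon
    push Not at hcon
    apply hno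
    refine ⟨?_, hcon.2⟩
    have : Odd (m + 1) := Nat.not_even_iff_odd.mp hcon.1
    obtain ⟨r, hr⟩ := this
    exact ⟨r, by omega⟩

/-- Let T = PΩ⁻_{2m+2}(F) with m ≥ 3 and |F| = q odd (form with anisotropic binary part). The inner-diagonal group G = Inndiag(T) (image of the class-preserving similarities) taken modulo the inner automorphism group T is cyclic of order 4 when m is even and q ≡ 3 (mod 4), and of order 2 otherwise. -/
theorem result {F : Type*} [Field F] [Fintype F] (hodd : Odd (Fintype.card F)) {m : ℕ} (hm : 3 ≤ m) (a b : F) (hab : (∀ z₁ z₂ : F, z₁ ^ 2 + a * z₁ * z₂ + b * z₂ ^ 2 = 0 → z₁ = 0 ∧ z₂ = 0)) :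
    ((Even m ∧ Fintype.card F % 4 = 3) → (∃ φ : ↥(Cfsg.inndiagPOmegaMinus m F a b) →* Multiplicative (ZMod 4), Function.Surjective φ ∧ φ.ker = (Cfsg.Inn (Cfsg.POmega F (Cfsg.quadFormMinus m F a b))).subgroupOf (Cfsg.inndiagPOmegaMinus m F a b))) ∧ (¬ (Even m ∧ Fintype.card F % 4 = 3) → (∃ φ : ↥(Cfsg.inndiagPOmegaMinus m F a b) →* Multiplicative (ZMod 2), Function.Surjective φ ∧ φ.ker = (Cfsg.Inn (Cfsg.POmega F (Cfsg.quadFormMinus m F a b))).subgroupOf (Cfsg.inndiagPOmegaMinus m F a b))) := by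
  have hiff := Cfsg.Agent.S0791.result (F := F) rfl hodd (m + 1) (by omega) a b hab
  rw [Nat.add_sub_cancel] at hiff
  have hQeq : Cfsg.quadFormMinus m F a b = ⇑(minusForm F m a b) :=
    funext (fun v => (minusForm_apply F m a b v).symm)
  exact main hodd hm a b hab _ hQeq hiff

end Cfsg.Agent.S2729
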