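import Mathlib
import Cfsg.Statements.S2706
import Cfsg.Agent.Helper8.UGrG
import Cfsg.Agent.Helper8.GrAutK
import Cfsg.Agent.S2699

set_option autoImplicit false
open Cfsg

namespace Cfsg.Agent.S2706

open Matrix Cfsg.Agent.Helper8.AutSU Cfsg.Agent.Helper8.GrAut Cfsg.Agent.Helper8.UGr

/-- Let T = PSU_n(q) be simple with n = 2m + 1 ≥ 3 odd, realised over the field F with q² elements, and G = Inndiag(T) the image of PGU_n(q). Every involutory graph automorphism γ of T (an inner-diagonal automorphism times a standard field automorphism of even order, of order 2) has centralizer C_G(γ) isomorphic to the projective conformal orthogonal group of the form x₀² + Σ xᵢ yᵢ in dimension n over a field F₀ with q elements, and any two involutory graph automorphisms of T are G-conjugate. -/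
theorem result {F : Type*} [Field F] [Fintype F] {p f q : ℕ} [Fact p.Prime] (hq : q = p ^ f) (hf : 1 ≤ f) (hF : Fintype.card F = q ^ 2) {n : ℕ} (hn : 3 ≤ n) (hs : ¬ (n = 3 ∧ q = 2)) {m : ℕ} (hnm : n = 2 * m + 1) (F₀ : Type*) [Field F₀] [Fintype F₀] (hF₀ : Fintype.card F₀ = q) (γ γ' : MulAut (Cfsg.PSU n F q)) (hγ : Cfsg.IsGraphAutClassPSU γ) (hγ2 : orderOf γ = 2) (hγ' : Cfsg.IsGraphAutClassPSU γ') (hγ'2 : orderOf γ' = 2) :
    Nonempty (↥(Cfsg.inndiagPSU n F q ⊓ Subgroup.centralizer {γ}) ≃* Cfsg.PGO F₀ (Cfsg.quadFormOdd m F₀)) ∧ Cfsg.IsConjUnder (Cfsg.inndiagPSU n F q) γ γ' := by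
  classical
  obtain ⟨k, rfl⟩ : ∃ k, n = k + 2 := ⟨n - 2, by omega⟩
  haveI : Fact (Fintype.card F = q ^ 2) := ⟨hF⟩
  haveI : CharP F p := charP_of_card_eq_prime_pow (f := f * 2) (by rw [hF, hq, ← pow_mul])
  have hk : 1 ≤ k := by omega
  obtain ⟨ι, D⟩ := exists_FD (F := F) p f hq F₀ hF₀
  obtain ⟨A, rfl⟩ := exists_eq_ugraphAut p f hq hk hγ hγ2
  obtain ⟨A', rfl⟩ := exists_eq_ugraphAut p f hq hk hγ' hγ'2
  have hodd : Odd (k + 2) := ⟨m, hnm⟩
  -- both matrices are symmetric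
  have hsym : ∀ A : GU (k + 2) F q, orderOf (ugraphAut A) = 2 →
      glT (A : GL (Fin (k + 2)) F) = (1 : Fˣ) • (A : GL (Fin (k + 2)) F) := by
    intro A h
    rw [glT_eq_one_smul_iff]
    have hA := (orderOf_ugraphAut_eq_two_iff p hk A).mp h
    by_cases h2 : (2 : F) = 0
    · have : CharP F 2 := CharTwo.of_one_ne_zero_of_two_eq_zero one_ne_zero h2
      exact symm_of_or _ hA
    · rcases hA with h | h
      · exact h
      · exact (not_skew_of_odd h2 hodd _ h).elim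
  have S := SD.one (frobE F q)
  obtain ⟨B, M₀, X⟩ := desc_exists D S A (hsym A hγ2)
  obtain ⟨B', M₀', X'⟩ := desc_exists D S A' (hsym A' hγ'2)
  have hM := (glT_map_eq_one_smul_iff ι M₀).mp (X.glT_map S (hsym A hγ2))
  have hM' := (glT_map_eq_one_smul_iff ι M₀').mp (X'.glT_map S (hsym A' hγ'2))
  have hF₀' : Fintype.card F₀ = p ^ f := by rw [hF₀, hq]
  obtain ⟨⟨e⟩, hc⟩ := Cfsg.Agent.S2699.result hF₀' hf hn hnm (graphAut M₀) (graphAut M₀')
    (isGraphAutClass_graphAut hn M₀) ((orderOf_graphAut_fin hn M₀).mpr (Or.inl hM))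
    (isGraphAutClass_graphAut hn M₀') ((orderOf_graphAut_fin hn M₀').mpr (Or.inl hM'))
  obtain ⟨e1⟩ := desc_centralizer p hk D X
  exact ⟨⟨e1.trans e⟩, (desc_conj_iff p hk D X X').mpr hc⟩

end Cfsg.Agent.S2706
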