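import Mathlib
import Cfsg.Statements.S2707
import Cfsg.Agent.Helper8.UGrI
import Cfsg.Agent.Helper8.GrAutR
import Cfsg.Agent.S2700

set_option autoImplicit false
open Cfsg

namespace Cfsg.Agent.S2707

open Matrix Cfsg.Agent.Helper8.AutSU Cfsg.Agent.Helper8.AutSLn Cfsg.Agent.Helper8.GrAut Cfsg.Agent.Helper8.UGr

/-- Let T = PSU_n(q) with n = 2m ≥ 4 even and q odd, realised over the field F with q² elements, and G = Inndiag(T) the image of PGU_n(q). The involutory graph automorphisms of T fall into exactly three G-classes, with representatives whose centralizers in G are isomorphic respectively to the projective conformal symplectic group PGSp_n(F₀), the projective conformal orthogonal group of the plus-type form Σ xᵢ yᵢ, and that of a minus-type form Σ xᵢ yᵢ + z₁² + a z₁ z₂ + b z₂² (anisotropic binary part) in dimension n, all over a field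 F₀ with q elements. -/
theorem result {F : Type*} [Field F] [Fintype F] {q : ℕ} (hodd : Odd q) (hF : Fintype.card F = q ^ 2) {n m : ℕ} (hm : 2 ≤ m) (hnm : n = 2 * m) (F₀ : Type*) [Field F₀] [Fintype F₀] (hF₀ : Fintype.card F₀ = q) :
    ∃ (γ₁ γ₂ γ₃ : MulAut (Cfsg.PSU n F q)) (a b : F₀), (∀ z₁ z₂ : F₀, z₁ ^ 2 + a * z₁ * z₂ + b * z₂ ^ 2 = 0 → z₁ = 0 ∧ z₂ = 0) ∧ Cfsg.IsGraphAutClassPSU γ₁ ∧ orderOf γ₁ = 2 ∧ Cfsg.IsGraphAutClassPSU γ₂ ∧ orderOf γ₂ = 2 ∧ Cfsg.IsGraphAutClassPSU γ₃ ∧ orderOf γ₃ = 2 ∧ ¬ Cfsg.IsConjUnder (Cfsg.inndiagPSU n F q) γ₁ γ₂ ∧ ¬ Cfsg.IsConjUnder (Cfsg.inndiagPSU n F q) γ₁ γ₃ ∧ ¬ Cfsg.IsConjUnder (Cfsg.inndiagPSU n F q) γ₂ γ₃ ∧ (∀ γ : MulAut (Cfsg.PSU n F q), Cfsg.IsGraphAutClassPSU γ → orderOf γ = 2 → Cfsg.IsConjUnder (Cfsg.inndiagPSU n F q) γ₁ γ ∨ Cfsg.IsConjUnder (Cfsg.inndiagPSU n F q) γ₂ γ ∨ Cfsg.IsConjUnder (Cfsg.inndiagPSU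 n F q) γ₃ γ) ∧ Nonempty (↥(Cfsg.inndiagPSU n F q ⊓ Subgroup.centralizer {γ₁}) ≃* Cfsg.PGSp m F₀) ∧ Nonempty (↥(Cfsg.inndiagPSU n F q ⊓ Subgroup.centralizer {γ₂}) ≃* Cfsg.PGO F₀ (Cfsg.quadFormPlus m F₀)) ∧ Nonempty (↥(Cfsg.inndiagPSU n F q ⊓ Subgroup.centralizer {γ₃}) ≃* Cfsg.PGO F₀ (Cfsg.quadFormMinus (m - 1) F₀ a b)) := by
  classical
  obtain ⟨p, f, hp, hq, hf⟩ := exists_char_data hF
  haveI : Fact p.Prime := ⟨hp⟩
  obtain ⟨k, rfl⟩ : ∃ k, n = k + 2 := ⟨n - 2, by omega⟩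
  haveI : Fact (Fintype.card F = q ^ 2) := ⟨hF⟩
  haveI : CharP F p := charP_of_card_eq_prime_pow (f := f * 2) (by rw [hF, hq, ← pow_mul])
  have hk : 1 ≤ k := by omega
  have hn : 3 ≤ k + 2 := by omega
  obtain ⟨ι, D⟩ := exists_FD (F := F) p f hq F₀ hF₀
  obtain ⟨η, ω, SN⟩ := D.exists_SD_neg
  have hoddF : Odd (Fintype.card F) := by rw [hF]; exact hodd.pow
  have hoddF₀ : Odd (Fintype.card F₀) := by rw [hF₀]; exact hodd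
  have h2 : (2 : F) ≠ 0 := two_ne_zero_of_odd hoddF
  have h20 : (2 : F₀) ≠ 0 := two_ne_zero_of_odd hoddF₀
  obtain ⟨γ₁, γ₂, γ₃, a, b, hab, hg1, ho1, hg2, ho2, hg3, ho3, hn12, hn13, hn23, hall, e1, e2, e3⟩ :=
    Cfsg.Agent.S2700.result hoddF₀ hm hnm
  obtain ⟨M₁, rfl⟩ := exists_eq_graphAut hg1
  obtain ⟨M₂, rfl⟩ := exists_eq_graphAut hg2
  obtain ⟨M₃, rfl⟩ := exists_eq_graphAut hg3
  obtain ⟨A₁, R₁⟩ := exists_rel_left (q := q) D SN M₁ ((orderOf_graphAut_fin hn M₁).mp ho1)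
  obtain ⟨A₂, R₂⟩ := exists_rel_left (q := q) D SN M₂ ((orderOf_graphAut_fin hn M₂).mp ho2)
  obtain ⟨A₃, R₃⟩ := exists_rel_left (q := q) D SN M₃ ((orderOf_graphAut_fin hn M₃).mp ho3)
  obtain ⟨c1⟩ := R₁.centralizer p hk D
  obtain ⟨c2⟩ := R₂.centralizer p hk D
  obtain ⟨c3⟩ := R₃.centralizer p hk D
  obtain ⟨e1⟩ := e1
  obtain ⟨e2⟩ := e2
  obtain ⟨e3⟩ := e3
  refine ⟨ugraphAut A₁, ugraphAut A₂, ugraphAut A₃, a, b, hab,
    isGraphAutClass_ugraphAut hn A₁, R₁.orderOf_left p hk,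
    isGraphAutClass_ugraphAut hn A₂, R₂.orderOf_left p hk,
    isGraphAutClass_ugraphAut hn A₃, R₃.orderOf_left p hk,
    fun h => hn12 ((Rel.conj_iff p hk D SN h2 h20 R₁ R₂).mp h),
    fun h => hn13 ((Rel.conj_iff p hk D SN h2 h20 R₁ R₃).mp h),
    fun h => hn23 ((Rel.conj_iff p hk D SN h2 h20 R₂ R₃).mp h), ?_,
    ⟨c1.trans e1⟩, ⟨c2.trans e2⟩, ⟨c3.trans e3⟩⟩
  intro γ hγ hγ2
  obtain ⟨A, rfl⟩ := exists_eq_ugraphAut p f hq hk hγ hγ2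
  obtain ⟨M₀, R⟩ := exists_rel_right p hk D SN A hγ2
  rcases hall (graphAut M₀) (isGraphAutClass_graphAut hn M₀) (R.orderOf_right SN hk) with h | h | h
  · exact Or.inl ((Rel.conj_iff p hk D SN h2 h20 R₁ R).mpr h)
  · exact Or.inr (Or.inl ((Rel.conj_iff p hk D SN h2 h20 R₂ R).mpr h))
  · exact Or.inr (Or.inr ((Rel.conj_iff p hk D SN h2 h20 R₃ R).mpr h))

end Cfsg.Agent.S2707
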