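import Mathlib
import Cfsg.Statements.S1024
import Cfsg.Agent.Helper7.ChevX

set_option autoImplicit false
open Cfsg

namespace Cfsg.Agent.S1024

/-- `x_r(0) = 1`, and `x_r(t) = 1` forces `t = 0`: the map `t ↦ x_r(t)` is injective. -/
theorem result {F : Type*} [Field F] (D : Cfsg.Lie.ChevalleyDatum) (hD : D ∈ [Cfsg.Lie.chevG2, Cfsg.Lie.chevB2, Cfsg.Lie.chevD4, Cfsg.Lie.chevF4, Cfsg.Lie.chevE6, Cfsg.Lie.chevE7, Cfsg.Lie.chevE8]) (r : ℕ) (hr : r < D.nroots) (t : F) :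
    D.x F r t = 1 ↔ t = 0 := by
  rw [Cfsg.Agent.Helper7.x_of_lt D F hr]
  obtain ⟨h1, h2⟩ := Cfsg.Agent.Helper7.neg_ok D hD r hr
  constructor
  · intro h
    have key := Cfsg.Agent.Helper7.xMat_apply_neg (F := F) D ⟨r, hr⟩ h1 h2 t
    rw [h] at key
    have hne : (Sum.inr (⟨r, hr⟩ : Fin D.nroots) : D.Idx) ≠ Sum.inr ⟨D.negIdx.getD r 0, h1⟩ := by
      intro hh
      have := Sum.inr.inj hh
      exact h2 (congrArg Fin.val this).symm
    rw [Matrix.one_apply_ne hne] at key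
    have : t ^ 2 = 0 := by
      have := key.symm
      rwa [neg_eq_zero] at this
    exact pow_eq_zero_iff (two_ne_zero) |>.mp this
  · rintro rfl
    exact Cfsg.Agent.Helper7.xMat_zero D ⟨r, hr⟩

end Cfsg.Agent.S1024
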