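import Cfsg.Statements.S0745
import Cfsg.Agent.LW.Main

set_option autoImplicit false
open Cfsg

namespace Cfsg.Agent.S0745

/-- a subgroup of the symmetric group containing the alternating group is the alternating group
or everything -/
theorem lw_s0745_alt {α : Type*} [Fintype α] [DecidableEq α] [Nontrivial α]
    (G : Subgroup (Equiv.Perm α)) (hA : alternatingGroup α ≤ G) (hG : G ≠ ⊤) :
    G = alternatingGroup α := by
  have h2 : (alternatingGroup α).index = 2 := alternatingGroup.index_eq_two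
  have hrel := Subgroup.relIndex_mul_index hA
  rw [h2] at hrel
  have h1 : G.index ≠ 1 := fun h => hG (Subgroup.index_eq_one.1 h)
  have hdvd : G.index ∣ 2 := Dvd.intro_left _ hrel
  have hi : G.index = 2 := by
    rcases (Nat.dvd_prime Nat.prime_two).1 hdvd with h | h
    · exact absurd h h1
    · exact h
  rw [hi] at hrel
  have hr1 : (alternatingGroup α).relIndex G = 1 := by omega
  exact le_antisymm (Subgroup.relIndex_eq_one.1 hr1) hA

/-- Let `G` have degree `n` and `3 ≤ k ≤ n`; suppose `G` is `(k-2)`-transitive but not `(k-1)`-transitive, and is `(k-1)`-homogeneous and `k`-homogeneous. Then `k = n` and `G` is the alternating group, or `n = 5, k = 4, |G| = 20`, or `n = 6, k = 5, |G| = 120`, or `n = 9, k = 5, |G| ∈ {504, 1512}`. -/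
theorem result {α : Type*} [Fintype α] [DecidableEq α] (G : Subgroup (Equiv.Perm α)) {k : ℕ} (hk : 3 ≤ k) (hkn : k ≤ Fintype.card α) (ht : MulAction.IsMultiplyPretransitive G α (k - 2)) (hnt : ¬ MulAction.IsMultiplyPretransitive G α (k - 1)) (hh1 : MulAction.IsPretransitive G (Set.powersetCard α (k - 1))) (hh : MulAction.IsPretransitive G (Set.powersetCard α k)) : (k = Fintype.card α ∧ G = alternatingGroup α) ∨ (Fintype.card α = 5 ∧ k = 4 ∧ Nat.card G = 20) ∨ (Fintype.card α = 6 ∧ k = 5 ∧ Nat.card G = 120) ∨ (Fintype.card α = 9 ∧ k = 5 ∧ (Nat.card G = 504 ∨ Nat.card G = 1512)) := by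
  obtain ⟨t, rfl⟩ : ∃ t, k = t + 2 := ⟨k - 2, by omega⟩
  have e1 : t + 2 - 2 = t := by omega
  have e2 : t + 2 - 1 = t + 1 := by omega
  rw [e1] at ht
  rw [e2] at hnt hh1
  have hyp : LW.Hyp G α t := ⟨by omega, hkn, ht, hnt, hh1, hh⟩
  rcases LW.lw_main hyp with h | ⟨h5, rfl, hG⟩ | ⟨h6, rfl, hG⟩ | ⟨h9, rfl, hG⟩
  · left
    refine ⟨h.symm, ?_⟩
    have hnon : Nontrivial α := by
      rw [← Fintype.one_lt_card_iff_nontrivial]; omega
    have hA : alternatingGroup α ≤ G := by
      apply IsMultiplyPretransitive.alternatingGroup_le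
      rw [Nat.card_eq_fintype_card, h, e1]
      exact ht
    apply lw_s0745_alt G hA
    rintro rfl
    apply hnt
    have := Equiv.Perm.isMultiplyPretransitive α (t + 1)
    refine ⟨fun x y => ?_⟩
    obtain ⟨g, hg⟩ := MulAction.exists_smul_eq (Equiv.Perm α) x y
    exact ⟨⟨g, Subgroup.mem_top g⟩, hg⟩
  · right; left; exact ⟨h5, rfl, hG⟩
  · right; right; left; exact ⟨h6, rfl, hG⟩
  · right; right; right; exact ⟨h9, rfl, hG⟩

end Cfsg.Agent.S0745
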