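import Cfsg.Statements.S0746
import Cfsg.Agent.LW.Kantor
import Cfsg.Agent.S0745

set_option autoImplicit false
open Cfsg

namespace Cfsg.Agent.S0746

/-- a `1`-homogeneous action is transitive -/
theorem lw_s0746_one {G α : Type*} [Group G] [MulAction G α] [DecidableEq α]
    (h : MulAction.IsPretransitive G (Set.powersetCard α 1)) : MulAction.IsPretransitive G α := by
  refine ⟨fun a b => ?_⟩
  obtain ⟨g, hg⟩ := MulAction.exists_smul_eq G
    (Set.powersetCard.mulActionHom_singleton G α a) (Set.powersetCard.mulActionHom_singleton G α b)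
  refine ⟨g, (Set.powersetCard.mulActionHom_singleton_bijective G α).1 ?_⟩
  rw [map_smul]
  exact hg

/-- the induction -/
theorem lw_s0746_aux {α : Type*} [Fintype α] [DecidableEq α] (G : Subgroup (Equiv.Perm α)) :
    ∀ k : ℕ, 2 ≤ k → 2 * k ≤ Fintype.card α →
      MulAction.IsPretransitive G (Set.powersetCard α k) →
      MulAction.IsMultiplyPretransitive G α (k - 1) := by
  intro k hk
  induction k, hk using Nat.le_induction with
  | base =>
    intro hkn hh
    have h1 : MulAction.IsPretransitive G (Set.powersetCard α (2 - 1)) :=
      LW.lw_kantor (by norm_num) (by omega) hh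
    have h2 : MulAction.IsPretransitive G α := lw_s0746_one h1
    exact MulAction.is_one_pretransitive_iff.2 h2
  | succ k hk ih =>
    intro hkn hh
    have h1 : MulAction.IsPretransitive G (Set.powersetCard α (k + 1 - 1)) :=
      LW.lw_kantor (by omega) (by omega) hh
    have e1 : k + 1 - 1 = k := by omega
    have h1' : MulAction.IsPretransitive G (Set.powersetCard α k) := by
      rw [e1] at h1; exact h1
    have h2 := ih (by omega) h1'
    by_contra hnt
    have e2 : k + 1 - 2 = k - 1 := by omega
    have := Cfsg.Agent.S0745.result G (k := k + 1) (by omega) (by omega)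
      (by rw [e2]; exact h2) hnt h1 hh
    omega

/-- The Livingstone–Wagner Theorem, first form: a `k`-homogeneous group of degree `n` with `4 ≤ 2k ≤ n` is `(k-1)`-transitive. -/
theorem result {α : Type*} [Fintype α] [DecidableEq α] (G : Subgroup (Equiv.Perm α)) {k : ℕ} (hk : 2 ≤ k) (hkn : 2 * k ≤ Fintype.card α) (hh : MulAction.IsPretransitive G (Set.powersetCard α k)) : MulAction.IsMultiplyPretransitive G α (k - 1) := by
  exact lw_s0746_aux G k hk hkn hh

end Cfsg.Agent.S0746
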