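import Mathlib
import Cfsg.Statements.S1374
import Cfsg.Agent.Helper2.BG144a

set_option autoImplicit false
open Cfsg

namespace Cfsg.Agent.S1374

open Cfsg.Agent.Helper2

/-- Let G be a minimal simple group of odd order, M a maximal subgroup and x a non-identity element of M_σ. Then C_M(x) has order coprime to its index in C_G(x), and C_G(x) has a normal subgroup R complementing C_M(x) such that for every conjugate gMg⁻¹ containing x there is exactly one r ∈ R with rMr⁻¹ = gMg⁻¹. -/
theorem result {G : Type*} [Group G] [Finite G] (hG : Cfsg.IsMinSimpleOddOrder G)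
    (M : Subgroup G) (hM : IsCoatom M) (x : G) (hx : x ∈ Cfsg.sigmaCore M) (hx1 : x ≠ 1) :
    (Nat.card ↥(M ⊓ Subgroup.centralizer ({x} : Set G))).Coprime ((M ⊓ Subgroup.centralizer ({x} : Set G)).relIndex (Subgroup.centralizer ({x} : Set G))) ∧
      ∃ R : Subgroup G, Subgroup.centralizer ({x} : Set G) ≤ Subgroup.normalizer (R : Set G) ∧ Cfsg.IsComplIn (M ⊓ Subgroup.centralizer ({x} : Set G)) R (Subgroup.centralizer ({x} : Set G)) ∧
        ∀ g : G, x ∈ M.map (MulAut.conj g).toMonoidHom → ∃! r : G, r ∈ R ∧ M.map (MulAut.conj r).toMonoidHom = M.map (MulAut.conj g).toMonoidHom := by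
    classical
    obtain ⟨R, hnorm, hcompl, hRM, hcop, hconj⟩ :=
      Cfsg.Agent.Helper2.BG144.cent_structure_conj hG hM hx hx1
    have hcard := Cfsg.Agent.Helper1.IsComplIn_card_mul hcompl
    have hle : M ⊓ Subgroup.centralizer ({x} : Set G) ≤ Subgroup.centralizer ({x} : Set G) :=
      inf_le_right
    have hrel : (M ⊓ Subgroup.centralizer ({x} : Set G)).relIndex
        (Subgroup.centralizer ({x} : Set G)) = Nat.card R := by
      have h1 : (M ⊓ Subgroup.centralizer ({x} : Set G)).relIndex
          (Subgroup.centralizer ({x} : Set G)) *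
          Nat.card ↥(M ⊓ Subgroup.centralizer ({x} : Set G)) =
          Nat.card ↥(Subgroup.centralizer ({x} : Set G)) := by
        rw [← Cfsg.Agent.Lead.card_subgroupOf_of_le hle]
        exact Subgroup.index_mul_card _
      have h2 : 0 < Nat.card ↥(M ⊓ Subgroup.centralizer ({x} : Set G)) := Nat.card_pos
      rw [← hcard, mul_comm] at h1
      exact Nat.eq_of_mul_eq_mul_left h2 h1
    exact ⟨by rw [hrel]; exact hcop, R, hnorm, hcompl, hconj⟩

end Cfsg.Agent.S1374
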