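import Cfsg.Statements.S1780
import Mathlib
import Cfsg.Agent.Lead.PAction
import Cfsg.Agent.Lead.Basic

set_option autoImplicit false
open Cfsg

namespace Cfsg.Agent.S1780

lemma key {A : Type*} [CommGroup A] [Finite A]
    (hA : IsPGroup 2 A) (t : MulAut A) (ht : ∃ k : ℕ, orderOf t = 2 ^ k) (hC : ∀ a : A, t (t a) = a → t a = a) :
    ∀ n : ℕ, ∀ J : Subgroup A, Nat.card J = n → (∀ a ∈ J, t a ∈ J) → ∀ a ∈ J, t a = a := by
  intro n
  induction n using Nat.strong_induction_on with
  | _ n ih =>
    intro J hn hJ
    -- x a = t a / a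
    have hxJ : ∀ a ∈ J, t a / a ∈ J := fun a ha => J.div_mem (hJ a ha) ha
    let I : Subgroup A := J.map (t.toMonoidHom / MonoidHom.id A)
    have hI_def : ∀ b, b ∈ I ↔ ∃ a ∈ J, t a / a = b := by
      intro b
      simp only [I, Subgroup.mem_map]
      rfl
    have hIJ : I ≤ J := by
      intro b hb
      obtain ⟨a, ha, rfl⟩ := (hI_def b).mp hb
      exact hxJ a ha
    have hIinv : ∀ b ∈ I, t b ∈ I := by
      intro b hb
      obtain ⟨a, ha, rfl⟩ := (hI_def b).mp hb
      rw [hI_def]
      exact ⟨t a, hJ a ha, by simp [map_div]⟩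
    have hJp : IsPGroup 2 J := hA.to_subgroup J
    rcases eq_or_lt_of_le hIJ with hEq | hLt
    · -- x maps J onto J, so is injective on J, so no nontrivial fixed points
      by_cases hJbot : J = ⊥
      · intro a ha
        rw [hJbot, Subgroup.mem_bot] at ha
        rw [ha, map_one]
      · exfalso
        obtain ⟨c, hcJ, hc1, hfix⟩ :=
          Cfsg.Agent.Lead.exists_fixed_point_in_subgroup_of_orderOf 2 t ht J hJp hJbot hJ
        let f : J → J := fun a => ⟨t a.1 / a.1, hxJ a.1 a.2⟩
        have hsurj : Function.Surjective f := by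
          rintro ⟨b, hb⟩
          rw [← hEq] at hb
          obtain ⟨a, ha, rfl⟩ := (hI_def b).mp hb
          exact ⟨⟨a, ha⟩, rfl⟩
        have hinj : Function.Injective f := Finite.injective_iff_surjective.mpr hsurj
        have h1 : f ⟨c, hcJ⟩ = f ⟨1, J.one_mem⟩ := by
          apply Subtype.ext
          simp [f, hfix]
        have := hinj h1
        exact hc1 (congrArg Subtype.val this)
    · -- induction: t is trivial on I
      have hcardlt : Nat.card I < n := by
        rw [← hn]
        exact Cfsg.Agent.Lead.card_lt_of_lt hLt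
      have htI : ∀ b ∈ I, t b = b := ih (Nat.card I) hcardlt I rfl hIinv
      -- so t (t a / a) = t a / a for a in J
      have hsq : ∀ a ∈ J, (t a / a) ^ 2 = 1 → t a = a := by
        intro a ha h2
        apply hC
        have h3 : t (t a / a) = t a / a := htI _ ((hI_def _).mpr ⟨a, ha, rfl⟩)
        rw [map_div] at h3
        -- t (t a) / t a = t a / a, (t a / a)^2 = 1
        have h4 : t (t a) = t a * (t a / a) := by
          rw [← h3]; simp
        rw [h4]
        have h5 : t a / a * (t a / a) = 1 := by rw [← sq]; exact h2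
        calc t a * (t a / a) = a * (t a / a * (t a / a)) := by
              simp only [div_eq_mul_inv]
              rw [mul_comm (t a) a⁻¹]
              simp [mul_assoc]
          _ = a := by rw [h5, mul_one]
      intro a ha
      by_contra hne
      have hxne : t a / a ≠ 1 := by
        intro h
        apply hne
        exact div_eq_one.mp h
      obtain ⟨e, he⟩ := (IsPGroup.iff_orderOf.mp hA) (t a / a)
      have he0 : e ≠ 0 := by
        rintro rfl
        rw [pow_zero, orderOf_eq_one_iff] at he
        exact hxne he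
      obtain ⟨e', rfl⟩ := Nat.exists_eq_succ_of_ne_zero he0
      -- a' = a ^ (2^e')
      have ha' : a ^ (2 ^ e') ∈ J := J.pow_mem ha _
      have hx' : t (a ^ (2 ^ e')) / a ^ (2 ^ e') = (t a / a) ^ (2 ^ e') := by
        rw [map_pow, div_pow]
      have h2 : (t (a ^ (2 ^ e')) / a ^ (2 ^ e')) ^ 2 = 1 := by
        rw [hx', ← pow_mul, ← pow_succ, ← he]
        exact pow_orderOf_eq_one _
      have h3 := hsq _ ha' h2
      have h4 : (t a / a) ^ (2 ^ e') = 1 := by
        rw [← hx', h3, div_self']
      have h5 := orderOf_dvd_of_pow_eq_one h4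
      rw [he] at h5
      have h6 : 2 ^ (e' + 1) ≤ 2 ^ e' := Nat.le_of_dvd (pow_pos (by norm_num) _) h5
      have h7 : 2 ^ e' < 2 ^ (e' + 1) := Nat.pow_lt_pow_right (by norm_num) (Nat.lt_succ_self _)
      omega

/-- Let A be a finite abelian 2-group and t an automorphism of A whose order is a power of 2. If every element of A fixed by t² is fixed by t, then t fixes every element of A. -/
theorem result {A : Type*} [CommGroup A] [Finite A]
    (hA : IsPGroup 2 A) (t : MulAut A) (ht : ∃ k : ℕ, orderOf t = 2 ^ k) (hC : ∀ a : A, t (t a) = a → t a = a) :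
    ∀ a : A, t a = a := by
  intro a
  exact key hA t ht hC _ ⊤ rfl (fun _ _ => Subgroup.mem_top _) a (Subgroup.mem_top a)

end Cfsg.Agent.S1780
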