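import Cfsg.Statements.S4408
import Cfsg.Agent.Helper1.Fitting
import Cfsg.Agent.Helper1.Fitting2
import Cfsg.Agent.Helper4.InvolFaithfulB

set_option autoImplicit false
open Cfsg

namespace Cfsg.Agent.S4408

/-- Let S be a finite solvable group whose Fitting subgroup F(S) has odd order, and let I be an elementary abelian 2-subgroup of S of order 2ⁿ with n ≥ 1. Then F(S) contains subgroups A₁, …, Aₙ of prime order, each normalized by I, pairwise commuting and generating a subgroup A of order |A₁|⋯|Aₙ| (their internal direct product), such that no non-identity element of I centralizes A. -/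
theorem result {S : Type*} [Group S] [Finite S]
    [Group.IsSolvable S] (hF : Odd (Nat.card ↥(Cfsg.fittingSubgroup S)))
    (I : Subgroup S) (hI : Cfsg.IsElementaryAbelian 2 I) (n : ℕ) (hn : 1 ≤ n) (hIn : Nat.card ↥I = 2 ^ n) :
    ∃ f : Fin n → Subgroup S, (∀ i, (Nat.card ↥(f i)).Prime) ∧ (∀ i, f i ≤ Cfsg.fittingSubgroup S) ∧
      (∀ i, I ≤ Subgroup.normalizer ((f i) : Set S)) ∧ (∀ i j, i ≠ j → ∀ a ∈ f i, ∀ b ∈ f j, a * b = b * a) ∧
      Nat.card ↥(⨆ i, f i) = ∏ i, Nat.card ↥(f i) ∧ I ⊓ Subgroup.centralizer ((⨆ i, f i : Subgroup S) : Set S) = ⊥ := by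
  classical
  obtain ⟨hIc, hI2⟩ := hI
  have hIcomm : ∀ a ∈ I, ∀ b ∈ I, a * b = b * a := by
    intro a ha b hb
    exact congrArg Subtype.val (mul_comm' (⟨a, ha⟩ : I) ⟨b, hb⟩)
  obtain ⟨F, hFdef⟩ : ∃ F : Subgroup S, F = Cfsg.fittingSubgroup S := ⟨_, rfl⟩
  rw [← hFdef] at hF
  have hFn : F.Normal := by rw [hFdef]; infer_instance
  have hFnil : Group.IsNilpotent F := by
    rw [hFdef]; exact Cfsg.Agent.Helper1.fittingSubgroup_isNilpotent
  have hCF : ∀ t ∈ I, t ∈ Subgroup.centralizer (F : Set S) → t = 1 := by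
    intro t ht htC
    have htF : t ∈ F := by
      rw [hFdef] at htC ⊢
      exact Cfsg.Agent.Helper1.centralizer_fittingSubgroup_le htC
    exact Cfsg.Agent.Helper4.odd_order_sq_eq_one hF htF (hI2 t ht)
  obtain ⟨B, hBF, hBcomm, hIB, hfaith⟩ :=
    Cfsg.Agent.Helper4.exists_faithful_abelian F I hFnil hF hIcomm hI2 hCF
  have hBodd : Odd (Nat.card B) := by
    have h1 : Nat.card B ∣ Nat.card F := Subgroup.card_dvd_of_le hBF
    exact Odd.of_dvd_nat hF h1
  obtain ⟨f, hfp, hfB, hfI, hfcard, hfJ⟩ :=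
    Cfsg.Agent.Helper4.exists_family B I hBcomm hBodd hIB hIcomm hI2 hfaith n hIn n le_rfl
  refine ⟨f, hfp, fun i => ?_, hfI, ?_, hfcard, ?_⟩
  · rw [← hFdef]; exact (hfB i).trans hBF
  · intro i j _ a ha b hb
    exact hBcomm a (hfB i ha) b (hfB j hb)
  · rw [Nat.sub_self, pow_zero] at hfJ
    exact Subgroup.card_eq_one.1 hfJ

end Cfsg.Agent.S4408
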