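import Cfsg.Statements.S4399
import Cfsg.Agent.Helper1.MaxClassKlein
import Cfsg.Agent.Helper1.MaxClassDihedral
import Cfsg.Agent.Helper1.MaxClassBasic
import Cfsg.Agent.Helper1.CyclicMaxTwo
import Cfsg.Agent.Helper2.QuatIso

set_option autoImplicit false
open Cfsg

namespace Cfsg.Agent.S4399

/-- Let S be a finite 2-group whose commutator quotient S/[S,S] is a Klein four-group (order 4 and exponent 2). Then S itself has order 4, or S is dihedral of order at least 8, semidihedral of order at least 16 (order 2^(k+4) with an element a of order 2^(k+3) and an involution b with b a b⁻¹ = a^(2^(k+2)−1)), or generalized quaternion of order at least 8. -/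
theorem result {S : Type*} [Group S] [Finite S] (h2 : IsPGroup 2 S) (hab : Nat.card (Abelianization S) = 4)
    (hexp : ∀ x : Abelianization S, x ^ 2 = 1) :
    Nat.card S = 4 ∨
    ((∃ k : ℕ, Nonempty (S ≃* DihedralGroup (2 ^ (k + 2)))) ∨
      (∃ k : ℕ, Nat.card S = 2 ^ (k + 4) ∧ ∃ a b : S, orderOf a = 2 ^ (k + 3) ∧ orderOf b = 2 ∧ b * a * b⁻¹ = a ^ (2 ^ (k + 2) - 1)) ∨
      (∃ k : ℕ, Nonempty (S ≃* QuaternionGroup (2 ^ (k + 1))))) := by
  classical
  have : Fact (Nat.Prime 2) := ⟨Nat.prime_two⟩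
  obtain ⟨n, hn⟩ := IsPGroup.iff_card.1 h2
  have hidx : (commutator S).index = 4 := by
    rw [Subgroup.index_eq_card]; exact hab
  have hsq : ∀ x : S, x ^ 2 ∈ commutator S := by
    intro x
    have h1 := hexp (Abelianization.of x)
    rw [← map_pow] at h1
    exact (QuotientGroup.eq_one_iff (x ^ 2)).1 h1
  have hn2 : 2 ≤ n := by
    have h1 : (4 : ℕ) ∣ 2 ^ n := by
      rw [← hn, ← hidx]; exact Subgroup.index_dvd_card _
    by_contra hlt
    have h3 : n = 0 ∨ n = 1 := by omega
    rcases h3 with rfl | rfl <;> omega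
  by_cases hn2' : n = 2
  · left
    rw [hn, hn2']; norm_num
  right
  have hn3 : 3 ≤ n := by omega
  have hclass : Group.nilpotencyClass S = n - 1 :=
    Cfsg.Agent.Helper1.maxClass_of_kleinFour n hn3 S hn hidx hsq
  obtain ⟨C, hCc, hCi⟩ := Cfsg.Agent.Helper1.exists_cyclic_index_two n hn3 S hn hclass
  have hna : ∃ x y : S, x * y ≠ y * x := by
    by_contra hcomm
    push Not at hcomm
    have h1 := Cfsg.Agent.Helper1.commutator_eq_bot_of_comm hcomm
    rw [h1, Subgroup.index_bot, hn] at hidx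
    have h2 : (2 : ℕ) ^ 3 ≤ 2 ^ n := Nat.pow_le_pow_right (by norm_num) hn3
    omega
  obtain ⟨a, b, ha, hb, hcases⟩ := Cfsg.Agent.Helper1.cyclic_max_two n hn3 hn C hCc hCi hna
  obtain ⟨H, hH⟩ : ∃ H : Subgroup S, H = Subgroup.zpowers a := ⟨_, rfl⟩
  have hHcard : Nat.card H = 2 ^ (n - 1) := by rw [hH, Nat.card_zpowers, ha]
  have hpow : (2 : ℕ) ^ n = 2 ^ (n - 1) * 2 := by
    rw [← pow_succ]; congr 1; omega
  have hHidx : H.index = 2 := by
    have h1 := Subgroup.card_mul_index H
    rw [hHcard, hn, hpow] at h1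
    exact Nat.eq_of_mul_eq_mul_left (by positivity) h1
  have hbH : b ∉ H := by rw [hH]; exact hb
  have haH : a ∈ H := by rw [hH]; exact Subgroup.mem_zpowers a
  -- every element outside `H` is `b * a ^ i`
  have hout : ∀ y : S, y ∉ H → ∃ i : ℤ, y = b * a ^ i := by
    intro y hy
    have h1 : b⁻¹ * y ∈ H := by
      rw [Subgroup.mul_mem_iff_of_index_two hHidx]
      constructor
      · intro h; exact absurd (by simpa using H.inv_mem h) hbH
      · intro h; exact absurd h hy
    rw [hH] at h1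
    obtain ⟨i, hi⟩ := Subgroup.mem_zpowers_iff.1 h1
    exact ⟨i, by rw [hi]; group⟩
  have hconj : ∀ (r : S) (i : ℤ), b * a * b⁻¹ = r → b * a ^ i * b⁻¹ = r ^ i := by
    intro r i hr
    have := map_zpow (MulAut.conj b) a i
    simp only [MulAut.conj_apply] at this
    rw [this, hr]
  have hb1 : b ≠ 1 := by
    intro h; apply hbH; rw [h]; exact H.one_mem
  rcases hcases with ⟨hb2, hrel⟩ | ⟨hb2, hrel⟩ | ⟨hn4, hb2, hrel⟩ | ⟨hn4, hb2, hrel⟩
  · -- dihedral
    left
    refine ⟨n - 3, ?_⟩
    have : IsCyclic H := by rw [hH]; infer_instance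
    have hinv : ∀ y : S, y ∉ H → y * y = 1 := by
      intro y hy
      obtain ⟨i, rfl⟩ := hout y hy
      have h1 := hconj a⁻¹ i hrel
      have h2 : b * a ^ i * (b * a ^ i) = (b * a ^ i * b⁻¹) * b ^ 2 * a ^ i := by group
      rw [h2, h1, hb2, mul_one, inv_zpow, inv_mul_cancel]
    have h1 := Cfsg.Agent.Helper1.dihedral_of_cyclic_index_two_invol H hHidx hinv
    rw [hHcard] at h1
    have h3 : n - 1 = n - 3 + 2 := by omega
    rw [h3] at h1
    exact h1
  · -- quaternion
    right; right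
    refine ⟨n - 3, ?_⟩
    have h3 : n - 3 + 1 = n - 2 := by omega
    rw [h3]
    have : NeZero (2 ^ (n - 2)) := ⟨by positivity⟩
    have hA : orderOf a = 2 * 2 ^ (n - 2) := by
      rw [ha, ← pow_succ']; congr 1; omega
    have hB : b * b = a ^ (2 ^ (n - 2)) := by rw [← sq]; exact hb2
    let φ := Cfsg.Agent.Helper2.QuatIso.quatHom a b (2 ^ (n - 2)) hA hB hrel
    have hinj : Function.Injective φ :=
      Cfsg.Agent.Helper2.QuatIso.quatHom_injective a b (2 ^ (n - 2)) hA hB hrel hb
    have hcard : Nat.card (QuaternionGroup (2 ^ (n - 2))) = Nat.card S := by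
      rw [Nat.card_eq_fintype_card, QuaternionGroup.card, hn]
      have : (4 : ℕ) = 2 ^ 2 := by norm_num
      rw [this, ← pow_add]; congr 1; omega
    have hbij : Function.Bijective φ :=
      (Nat.bijective_iff_injective_and_card φ).2 ⟨hinj, hcard⟩
    exact ⟨(MulEquiv.ofBijective φ hbij).symm⟩
  · -- modular : impossible
    exfalso
    obtain ⟨hZ, -, -⟩ := Cfsg.Agent.Helper1.maxClass_center (p := 2) n hn3 hn hclass
    have hord : a ^ (2 ^ (n - 1)) = 1 := by rw [← ha]; exact pow_orderOf_eq_one a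
    have hba2 : b * a ^ 2 * b⁻¹ = a ^ 2 := by
      have h1 := hconj _ 2 hrel
      have h2 : ((a ^ (1 + 2 ^ (n - 2))) ^ (2 : ℤ)) = a ^ 2 := by
        rw [zpow_ofNat, ← pow_mul]
        have h3 : (1 + 2 ^ (n - 2)) * 2 = 2 + 2 ^ (n - 1) := by
          have : (2 : ℕ) ^ (n - 1) = 2 ^ (n - 2) * 2 := by
            rw [← pow_succ]; congr 1; omega
          rw [this]; ring
        rw [h3, pow_add, hord, mul_one]
      rw [h2, zpow_ofNat] at h1
      exact h1
    have hcomm : a ^ 2 * b = b * a ^ 2 := by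
      have := congrArg (· * b) hba2
      simpa [mul_assoc] using this.symm
    have hcen : a ^ 2 ∈ Subgroup.center S := by
      rw [Subgroup.mem_center_iff]
      intro g
      by_cases hg : g ∈ H
      · rw [hH] at hg
        obtain ⟨i, rfl⟩ := Subgroup.mem_zpowers_iff.1 hg
        rw [← zpow_ofNat, ← zpow_add, ← zpow_add, add_comm]
      · obtain ⟨i, rfl⟩ := hout g hg
        have h1 : a ^ 2 * a ^ i = a ^ i * a ^ 2 := by
          rw [← zpow_ofNat, ← zpow_add, ← zpow_add, add_comm]
        calc b * a ^ i * a ^ 2 = b * (a ^ i * a ^ 2) := by group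
          _ = b * (a ^ 2 * a ^ i) := by rw [h1]
          _ = (b * a ^ 2) * a ^ i := by group
          _ = (a ^ 2 * b) * a ^ i := by rw [hcomm]
          _ = a ^ 2 * (b * a ^ i) := by group
    have hle : Subgroup.zpowers (a ^ 2) ≤ Subgroup.center S := by
      rw [Subgroup.zpowers_le]; exact hcen
    have h1 := Subgroup.card_le_of_le hle
    rw [hZ, Nat.card_zpowers] at h1
    have h2 : orderOf (a ^ 2) = 2 ^ (n - 2) := by
      rw [orderOf_pow' a (by norm_num : (2 : ℕ) ≠ 0), ha]
      have h3 : (2 : ℕ) ^ (n - 1) = 2 ^ (n - 2) * 2 := by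
        rw [← pow_succ]; congr 1; omega
      rw [h3, Nat.gcd_mul_left_left, Nat.mul_div_cancel _ (by norm_num : 0 < 2)]
    rw [h2] at h1
    have h3 : (2 : ℕ) ^ 2 ≤ 2 ^ (n - 2) := Nat.pow_le_pow_right (by norm_num) (by omega)
    omega
  · -- semidihedral
    right; left
    refine ⟨n - 4, ?_, a, b, ?_, ?_, ?_⟩
    · rw [hn]; congr 1; omega
    · rw [ha]; congr 1; omega
    · exact orderOf_eq_prime hb2 hb1
    · rw [hrel]
      have : n - 4 + 2 = n - 2 := by omega
      rw [this]

end Cfsg.Agent.S4399
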