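import Mathlib
import Cfsg.Statements.S1018
import Cfsg.Agent.Helper2.FixCoset
import Cfsg.Agent.Helper2.CIT3

set_option autoImplicit false
open Cfsg

namespace Cfsg.Agent.S1018

open Cfsg.Agent.Helper2

/-- Let P be a Sylow p-subgroup of order p of a finite group G, and consider the action of G on the left cosets of the normalizer N of P. Then every element of order p fixes exactly one coset, and an element of N that does not centralize P fixes at most as many cosets as there are orbits of P. -/
theorem result {G : Type*} [Group G] [Finite G] (p : ℕ) [Fact p.Prime] (P : Sylow p G) (hP : Nat.card ↥(P : Subgroup G) = p) : (∀ y : G, orderOf y = p → Nat.card (MulAction.fixedBy (G ⧸ Subgroup.normalizer ((P : Subgroup G) : Set G)) y) = 1) ∧ ∀ x : G, x ∈ Subgroup.normalizer ((P : Subgroup G) : Set G) → x ∉ Subgroup.centralizer ((P : Subgroup G) : Set G) → Nat.card (MulAction.fixedBy (G ⧸ Subgroup.normalizer ((P : Subgroup G) : Set G)) x) ≤ Nat.card (MulAction.orbitRel.Quotient ↥(P : Subgroup G) (G ⧸ Subgroup.normalizer ((P : Subgroup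 G) : Set G))) := by
    classical
    have hp : p.Prime := Fact.out
    set N := Subgroup.normalizer ((P : Subgroup G) : Set G) with hN
    have hPN : (P : Subgroup G) ≤ N := Subgroup.le_normalizer
    have hconj_ord : ∀ (y g : G), orderOf (g⁻¹ * y * g) = orderOf y := by
      intro y g
      have : g⁻¹ * y * g = MulAut.conj g⁻¹ y := by simp
      rw [this, MulEquiv.orderOf_eq]
    have key : ∀ y : G, orderOf y = p → ∀ g : G,
        (y • (QuotientGroup.mk g : G ⧸ N) = QuotientGroup.mk g ↔ g⁻¹ * y * g ∈ (P : Subgroup G)) := by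
      intro y hy g
      rw [FixCoset.smul_mk_eq_iff]
      constructor
      · intro h
        apply FixCoset.mem_sylow_of_mem_normalizer P _ _ h
        apply FixCoset.isPGroup_zpowers_of_orderOf
        rw [hconj_ord, hy]
      · intro h; exact hPN h
    have hgen : ∀ w ∈ (P : Subgroup G), orderOf w = p → Subgroup.zpowers w = (P : Subgroup G) := by
      intro w hw how
      apply Subgroup.eq_of_le_of_card_ge (Subgroup.zpowers_le.mpr hw)
      rw [Nat.card_zpowers, how, hP]
    -- uniqueness of fixed cosets for elements of order p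
    have huniq : ∀ y : G, orderOf y = p → ∀ g₁ g₂ : G, g₁⁻¹ * y * g₁ ∈ (P : Subgroup G) →
        g₂⁻¹ * y * g₂ ∈ (P : Subgroup G) → (QuotientGroup.mk g₁ : G ⧸ N) = QuotientGroup.mk g₂ := by
      intro y hy g₁ g₂ h1 h2
      rw [QuotientGroup.eq]
      have hz2 := hgen _ h2 (by rw [hconj_ord, hy])
      apply CIT.mem_normalizer_of_forall_conj_mem
      intro d hd
      rw [← hz2] at hd
      obtain ⟨k, rfl⟩ := Subgroup.mem_zpowers_iff.mp hd
      have e : g₁⁻¹ * g₂ * (g₂⁻¹ * y * g₂) ^ k * (g₁⁻¹ * g₂)⁻¹ = (g₁⁻¹ * y * g₁) ^ k := by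
        have e1 : g₁⁻¹ * g₂ * (g₂⁻¹ * y * g₂) ^ k * (g₁⁻¹ * g₂)⁻¹ =
            MulAut.conj (g₁⁻¹ * g₂) ((g₂⁻¹ * y * g₂) ^ k) := by
          rw [MulAut.conj_apply]
        rw [e1, map_zpow]
        congr 1
        simp only [MulAut.conj_apply]
        group
      rw [e]
      exact Subgroup.zpow_mem _ h1 k
    constructor
    · intro y hy
      rw [Nat.card_eq_one_iff_unique]
      constructor
      · constructor
        rintro ⟨q₁, hq₁⟩ ⟨q₂, hq₂⟩
        apply Subtype.ext
        obtain ⟨g₁, rfl⟩ := QuotientGroup.mk_surjective q₁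
        obtain ⟨g₂, rfl⟩ := QuotientGroup.mk_surjective q₂
        exact huniq y hy g₁ g₂ ((key y hy g₁).mp hq₁) ((key y hy g₂).mp hq₂)
      · have hQ : IsPGroup p (Subgroup.zpowers y) := FixCoset.isPGroup_zpowers_of_orderOf y hy
        obtain ⟨R, hR⟩ := hQ.exists_le_sylow
        obtain ⟨g, hg⟩ := MulAction.exists_smul_eq G P R
        have hyR : y ∈ (R : Subgroup G) := hR (Subgroup.mem_zpowers y)
        rw [← hg, Sylow.coe_subgroup_smul, Subgroup.mem_pointwise_smul_iff_inv_smul_mem] at hyR
        have hyP : g⁻¹ * y * g ∈ (P : Subgroup G) := by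
          have e : (MulAut.conj g)⁻¹ • y = g⁻¹ * y * g := by
            rw [MulAut.smul_def, ← map_inv, MulAut.conj_apply, inv_inv]
          rwa [e] at hyR
        exact ⟨⟨QuotientGroup.mk g, (key y hy g).mpr hyP⟩⟩
    · intro x hxN hxC
      -- injection from the fixed points into the orbits of P
      let f : MulAction.fixedBy (G ⧸ N) x → MulAction.orbitRel.Quotient ↥(P : Subgroup G) (G ⧸ N) :=
        fun q => Quotient.mk'' q.1
      apply Nat.card_le_card_of_injective f
      rintro ⟨q₁, hq₁⟩ ⟨q₂, hq₂⟩ h12
      apply Subtype.ext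
      show q₁ = q₂
      have h12' : (Quotient.mk'' q₁ : MulAction.orbitRel.Quotient ↥(P : Subgroup G) (G ⧸ N)) =
          Quotient.mk'' q₂ := h12
      rw [Quotient.eq''] at h12'
      obtain ⟨⟨u, huP⟩, hu⟩ := h12'
      -- `q₁ = u • q₂`
      have hu' : u • q₂ = q₁ := hu
      by_cases hu1 : u = 1
      · rw [hu1, one_smul] at hu'
        exact hu'.symm
      -- `w = u⁻¹ * (x * u * x⁻¹)` fixes `q₂`
      have hxq1 : x • q₁ = q₁ := hq₁
      have hxq2 : x • q₂ = q₂ := hq₂
      have hxinv2 : x⁻¹ • q₂ = q₂ := by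
        conv_lhs => rw [← hxq2]
        rw [smul_smul, inv_mul_cancel, one_smul]
      have hwfix : (u⁻¹ * (x * u * x⁻¹)) • q₂ = q₂ := by
        rw [mul_smul, mul_smul, mul_smul, hxinv2, hu', hxq1, ← hu', smul_smul, inv_mul_cancel, one_smul]
      have hxux : x * u * x⁻¹ ∈ (P : Subgroup G) := by
        have := (Subgroup.mem_normalizer_iff.mp hxN u).mp huP
        exact this
      have hwP : u⁻¹ * (x * u * x⁻¹) ∈ (P : Subgroup G) := mul_mem (inv_mem huP) hxux
      -- `u` has order `p` and generates `P`
      have huo : orderOf u = p := by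
        have h1 : orderOf u ∣ p := by
          have := orderOf_dvd_natCard (⟨u, huP⟩ : (P : Subgroup G))
          rwa [Subgroup.orderOf_mk, hP] at this
        rcases (Nat.dvd_prime hp).mp h1 with h | h
        · exact absurd (orderOf_eq_one_iff.mp h) hu1
        · exact h
      have hw1 : u⁻¹ * (x * u * x⁻¹) ≠ 1 := by
        intro h
        apply hxC
        rw [Subgroup.mem_centralizer_iff]
        intro d hd
        rw [← hgen u huP huo] at hd
        obtain ⟨k, rfl⟩ := Subgroup.mem_zpowers_iff.mp hd
        have hcomm : x * u = u * x := by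
          have h' : x * u * x⁻¹ = u := by
            have := congrArg (fun t => u * t) h
            simpa [mul_assoc] using this
          calc x * u = x * u * x⁻¹ * x := by group
            _ = u * x := by rw [h']
        have : Commute x u := hcomm
        exact ((this.zpow_right k).eq).symm
      have hwo : orderOf (u⁻¹ * (x * u * x⁻¹)) = p := by
        have h1 : orderOf (u⁻¹ * (x * u * x⁻¹)) ∣ p := by
          have := orderOf_dvd_natCard (⟨_, hwP⟩ : (P : Subgroup G))
          rwa [Subgroup.orderOf_mk, hP] at this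
        rcases (Nat.dvd_prime hp).mp h1 with h | h
        · exact absurd (orderOf_eq_one_iff.mp h) hw1
        · exact h
      -- `w` fixes the base coset too, so `q₂` is the base coset
      obtain ⟨g₂, rfl⟩ := QuotientGroup.mk_surjective q₂
      have hw2 := (key _ hwo g₂).mp hwfix
      have hw0 : (1 : G)⁻¹ * (u⁻¹ * (x * u * x⁻¹)) * 1 ∈ (P : Subgroup G) := by
        simpa using hwP
      have hq2base := huniq _ hwo g₂ 1 hw2 hw0
      -- hence `u` fixes `q₂`
      rw [← hu', hq2base]
      have : u • (QuotientGroup.mk (1 : G) : G ⧸ N) = QuotientGroup.mk 1 := by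
        rw [FixCoset.smul_mk_eq_iff]
        simpa using hPN huP
      exact this

end Cfsg.Agent.S1018
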