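import Mathlib
import Cfsg.Statements.S1019

set_option autoImplicit false
open Cfsg

namespace Cfsg.Agent.S1019

/-- Let H be a subgroup of a finite group G and x an element of H. In the action of G on the left cosets of H, the number of cosets fixed by x, multiplied by the size of the conjugacy class of x, equals the index of H multiplied by the number of conjugates of x that lie in H. -/
theorem result {G : Type*} [Group G] [Finite G] (H : Subgroup G) (x : G) (hx : x ∈ H) : Nat.card (MulAction.fixedBy (G ⧸ H) x) * Nat.card {g : G // IsConj x g} = H.index * Nat.card {g : G // IsConj x g ∧ g ∈ H} := by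
    classical
    have : Fintype G := Fintype.ofFinite G
    have : Fintype (G ⧸ H) := Fintype.ofFinite _
    have : Fintype {g : G // IsConj x g} := Fintype.ofFinite _
    -- the two sigma types
    let e : (Σ y : {g : G // IsConj x g}, {q : G ⧸ H // (y : G) • q = q}) ≃
        (Σ q : G ⧸ H, {y : {g : G // IsConj x g} // (y : G) • q = q}) :=
      { toFun := fun p => ⟨p.2.1, ⟨p.1, p.2.2⟩⟩
        invFun := fun p => ⟨p.2.1, ⟨p.1, p.2.2⟩⟩
        left_inv := fun p => rfl
        right_inv := fun p => rfl }
    have h1 : ∀ y : {g : G // IsConj x g},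
        Nat.card {q : G ⧸ H // (y : G) • q = q} = Nat.card (MulAction.fixedBy (G ⧸ H) x) := by
      rintro ⟨y, hy⟩
      rw [isConj_iff] at hy
      obtain ⟨g, rfl⟩ := hy
      symm
      refine Nat.card_congr
        { toFun := fun q => ⟨g • q.1, ?_⟩
          invFun := fun q => ⟨g⁻¹ • q.1, ?_⟩
          left_inv := fun q => by simp
          right_inv := fun q => by simp }
      · have hq : x • q.1 = q.1 := q.2
        show (g * x * g⁻¹) • g • q.1 = g • q.1
        rw [smul_smul, inv_mul_cancel_right, mul_smul, hq]
      · have hq : (g * x * g⁻¹) • q.1 = q.1 := q.2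
        show x • g⁻¹ • q.1 = g⁻¹ • q.1
        have : x • g⁻¹ • q.1 = g⁻¹ • ((g * x * g⁻¹) • q.1) := by
          rw [smul_smul, smul_smul]
          congr 1
          group
        rw [this, hq]
    have h2 : ∀ q : G ⧸ H,
        Nat.card {y : {g : G // IsConj x g} // (y : G) • q = q} =
          Nat.card {g : G // IsConj x g ∧ g ∈ H} := by
      intro q
      obtain ⟨a, rfl⟩ := QuotientGroup.mk_surjective q
      have hiff : ∀ y : G, y • (QuotientGroup.mk a : G ⧸ H) = QuotientGroup.mk a ↔ a⁻¹ * y * a ∈ H := by
        intro y
        rw [MulAction.Quotient.smul_mk, QuotientGroup.eq]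
        constructor
        · intro h
          have := H.inv_mem h
          have e : ((y • a)⁻¹ * a)⁻¹ = a⁻¹ * y * a := by
            rw [smul_eq_mul]; group
          rwa [e] at this
        · intro h
          have := H.inv_mem h
          have e : (a⁻¹ * y * a)⁻¹ = (y • a)⁻¹ * a := by
            rw [smul_eq_mul]; group
          rwa [e] at this
      refine Nat.card_congr
        { toFun := fun y => ⟨a⁻¹ * (y.1 : G) * a, ?_, (hiff _).mp y.2⟩
          invFun := fun z => ⟨⟨a * z.1 * a⁻¹, ?_⟩, ?_⟩
          left_inv := fun y => by
            apply Subtype.ext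
            apply Subtype.ext
            show a * (a⁻¹ * (y.1 : G) * a) * a⁻¹ = y.1
            group
          right_inv := fun z => by
            apply Subtype.ext
            show a⁻¹ * (a * z.1 * a⁻¹) * a = z.1
            group }
      · have hy : IsConj x (y.1 : G) := y.1.2
        rw [isConj_iff] at hy ⊢
        obtain ⟨c, hc⟩ := hy
        refine ⟨a⁻¹ * c, ?_⟩
        rw [← hc]
        group
      · have hz : IsConj x z.1 := z.2.1
        rw [isConj_iff] at hz ⊢
        obtain ⟨c, hc⟩ := hz
        refine ⟨a * c, ?_⟩
        rw [← hc]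
        group
      · show (a * z.1 * a⁻¹) • (QuotientGroup.mk a : G ⧸ H) = QuotientGroup.mk a
        rw [hiff]
        have : a⁻¹ * (a * z.1 * a⁻¹) * a = z.1 := by group
        rw [this]
        exact z.2.2
    have hc := Nat.card_congr e
    rw [Nat.card_sigma, Nat.card_sigma] at hc
    simp only [h1, h2, Finset.sum_const, Finset.card_univ, smul_eq_mul] at hc
    rw [Subgroup.index, Nat.card_eq_fintype_card (α := G ⧸ H),
      Nat.card_eq_fintype_card (α := {g : G // IsConj x g})]
    rw [mul_comm]
    exact hc

end Cfsg.Agent.S1019
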