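import Cfsg.Statements.S1001
import Mathlib
import Cfsg.Agent.Helper1.PQRBlock
import Cfsg.Agent.Helper6.BurnsidePQ

set_option autoImplicit false
open Cfsg

namespace Cfsg.Agent.S1001

/-- In a finite simple group whose order has the form p * 3^a * 2^b with p prime, the centralizer of any element of order p is the cyclic group it generates. -/
theorem result {G : Type*} [Group G] [Finite G] [IsSimpleGroup G] (p a b : ℕ) (hp : p.Prime) (hG : Nat.card G = p * 3 ^ a * 2 ^ b) (x : G) (hx : orderOf x = p) : Subgroup.centralizer ({x} : Set G) = Subgroup.zpowers x := by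
  classical
  have hxle : Subgroup.zpowers x ≤ Subgroup.centralizer ({x} : Set G) := by
    rw [Subgroup.zpowers_le]
    rw [Subgroup.mem_centralizer_iff]
    intro y hy
    rw [Set.mem_singleton_iff] at hy
    rw [hy]
  have hpdvd : p ∣ Nat.card G := hx ▸ orderOf_dvd_natCard x
  by_cases hcomm : ∀ a b : G, a * b = b * a
  · -- the abelian case: G has order p
    let inst : CommGroup G := { ‹Group G› with mul_comm := hcomm }
    have hprime : (Nat.card G).Prime := @IsSimpleGroup.prime_card G inst _
    have hcardp : p = Nat.card G := (Nat.prime_dvd_prime_iff_eq hp hprime).mp hpdvd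
    have htop : Subgroup.zpowers x = ⊤ := by
      apply Subgroup.eq_top_of_card_eq
      rw [Nat.card_zpowers, hx, hcardp]
    rw [htop]
    exact top_le_iff.mp (htop ▸ hxle)
  · have hns : ¬ Group.IsSolvable G := fun h => hcomm (IsSimpleGroup.comm_iff_isSolvable.mpr h)
    have hp2 : p ≠ 2 := by
      intro h
      apply hns
      apply Helper6.burnside_pq 2 3 (b + 1) a Nat.prime_two Nat.prime_three
      rw [hG, h]
      ring
    have hp3 : p ≠ 3 := by
      intro h
      apply hns
      apply Helper6.burnside_pq 3 2 (a + 1) b Nat.prime_three Nat.prime_two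
      rw [hG, h]
      ring
    by_contra hne
    set C : Subgroup G := Subgroup.centralizer ({x} : Set G) with hC
    have h1 : Nat.card (Subgroup.zpowers x) ∣ Nat.card C := Subgroup.card_dvd_of_le hxle
    have h2 : Nat.card C ∣ Nat.card G := Subgroup.card_subgroup_dvd_card C
    obtain ⟨m, hm⟩ := h1
    rw [Nat.card_zpowers, hx] at hm
    have hm1 : m ≠ 1 := by
      intro h
      apply hne
      symm
      apply Subgroup.eq_of_le_of_card_ge hxle
      rw [hm, h, mul_one, Nat.card_zpowers, hx]
    have hmdvd : m ∣ 3 ^ a * 2 ^ b := by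
      have h3 : p * m ∣ p * (3 ^ a * 2 ^ b) := by
        rw [← hm, ← mul_assoc, ← hG]
        exact h2
      exact Nat.dvd_of_mul_dvd_mul_left hp.pos h3
    obtain ⟨l, hl, hlm⟩ := Nat.exists_prime_and_dvd hm1
    have hlC : l ∣ Nat.card C := by
      rw [hm]
      exact hlm.mul_left p
    haveI : Fact l.Prime := ⟨hl⟩
    obtain ⟨y, hy⟩ := exists_prime_orderOf_dvd_card' (G := C) l hlC
    have hyG : orderOf (y : G) = l := by rw [Subgroup.orderOf_coe, hy]
    have hcomm' : Commute x (y : G) := by
      have := Subgroup.mem_centralizer_iff.mp y.2 x rfl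
      exact this
    rcases (Nat.Prime.dvd_mul hl).mp (hlm.trans hmdvd) with h | h
    · have e : l = 3 := (Nat.prime_dvd_prime_iff_eq hl Nat.prime_three).mp (hl.dvd_of_dvd_pow h)
      subst e
      have hcard' : Nat.card G = 3 ^ a * 2 ^ b * p := by rw [hG]; ring
      exact Helper1.PQRBlock.key 3 2 p a b Nat.prime_three Nat.prime_two hp (by norm_num)
        (Ne.symm hp3) (Ne.symm hp2) hcard' x y hx hyG hcomm'
    · have e : l = 2 := (Nat.prime_dvd_prime_iff_eq hl Nat.prime_two).mp (hl.dvd_of_dvd_pow h)
      subst e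
      have hcard' : Nat.card G = 2 ^ b * 3 ^ a * p := by rw [hG]; ring
      exact Helper1.PQRBlock.key 2 3 p b a Nat.prime_two Nat.prime_three hp (by norm_num)
        (Ne.symm hp2) (Ne.symm hp3) hcard' x y hx hyG hcomm'

end Cfsg.Agent.S1001
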