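import Cfsg.Statements.S0904
import Mathlib
import Cfsg.Agent.Helper1.PQRBlock

set_option autoImplicit false
open Cfsg

namespace Cfsg.Agent.S0904

/-- Let G be a finite simple group of order p ^ a * q ^ b * r with p, q, r distinct primes. Then every Sylow r-subgroup S of G satisfies C_G(S) = S. -/
theorem result {G : Type*} [Group G] [Finite G] [IsSimpleGroup G] (p q r a b : ℕ) (hp : p.Prime) (hq : q.Prime) [Fact r.Prime] (hpq : p ≠ q) (hpr : p ≠ r) (hqr : q ≠ r) (hcard : Nat.card G = p ^ a * q ^ b * r) (S : Sylow r G) : Subgroup.centralizer (S : Set G) = (S : Subgroup G) := by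
  classical
  have hr : r.Prime := Fact.out
  have hnd : ¬ r ∣ p ^ a * q ^ b := by
    intro h
    rcases (Nat.Prime.dvd_mul hr).mp h with h | h
    · exact hpr ((Nat.prime_dvd_prime_iff_eq hr hp).mp (hr.dvd_of_dvd_pow h)).symm
    · exact hqr ((Nat.prime_dvd_prime_iff_eq hr hq).mp (hr.dvd_of_dvd_pow h)).symm
  have hpos : p ^ a * q ^ b ≠ 0 := by
    apply mul_ne_zero
    · exact pow_ne_zero _ hp.ne_zero
    · exact pow_ne_zero _ hq.ne_zero
  have hSr : Nat.card (S : Subgroup G) = r := by
    rw [Sylow.card_eq_multiplicity, hcard, Nat.factorization_mul hpos hr.ne_zero]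
    simp [Nat.factorization_eq_zero_of_not_dvd hnd, hr.factorization_self]
  haveI : IsCyclic (S : Subgroup G) := isCyclic_of_prime_card hSr
  have hSle : (S : Subgroup G) ≤ Subgroup.centralizer (S : Set G) := by
    intro x hx
    rw [Subgroup.mem_centralizer_iff]
    intro y hy
    letI := IsCyclic.commGroup (α := (S : Subgroup G))
    have := mul_comm (⟨y, hy⟩ : (S : Subgroup G)) ⟨x, hx⟩
    exact congrArg Subtype.val this
  by_contra hne
  set C : Subgroup G := Subgroup.centralizer (S : Set G) with hC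
  have h1 : Nat.card (S : Subgroup G) ∣ Nat.card C := Subgroup.card_dvd_of_le hSle
  have h2 : Nat.card C ∣ Nat.card G := Subgroup.card_subgroup_dvd_card C
  obtain ⟨m, hm⟩ := h1
  rw [hSr] at hm
  have hm1 : m ≠ 1 := by
    intro h
    apply hne
    symm
    apply Subgroup.eq_of_le_of_card_ge hSle
    rw [hm, h, mul_one, hSr]
  have hmdvd : m ∣ p ^ a * q ^ b := by
    have h3 : r * m ∣ r * (p ^ a * q ^ b) := by
      rw [← hm, mul_comm r (p ^ a * q ^ b), ← hcard]
      exact h2
    exact Nat.dvd_of_mul_dvd_mul_left hr.pos h3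
  obtain ⟨l, hl, hlm⟩ := Nat.exists_prime_and_dvd hm1
  have hlC : l ∣ Nat.card C := by
    rw [hm]
    exact hlm.mul_left r
  haveI : Fact l.Prime := ⟨hl⟩
  obtain ⟨x, hx⟩ := exists_prime_orderOf_dvd_card' (G := C) l hlC
  obtain ⟨s, hs⟩ := exists_prime_orderOf_dvd_card' (G := (S : Subgroup G)) r (by rw [hSr])
  have hxG : orderOf (x : G) = l := by rw [Subgroup.orderOf_coe, hx]
  have hsG : orderOf (s : G) = r := by rw [Subgroup.orderOf_coe, hs]
  have hcomm : Commute (s : G) (x : G) := Subgroup.mem_centralizer_iff.mp x.2 s s.2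
  rcases (Nat.Prime.dvd_mul hl).mp (hlm.trans hmdvd) with h | h
  · have e : l = p := (Nat.prime_dvd_prime_iff_eq hl hp).mp (hl.dvd_of_dvd_pow h)
    subst e
    exact Helper1.PQRBlock.key l q r a b hl hq hr hpq hpr hqr hcard s x hsG hxG hcomm
  · have e : l = q := (Nat.prime_dvd_prime_iff_eq hl hq).mp (hl.dvd_of_dvd_pow h)
    subst e
    have hcard' : Nat.card G = l ^ b * p ^ a * r := by rw [hcard, mul_comm (p ^ a)]
    exact Helper1.PQRBlock.key l p r b a hl hp hr (Ne.symm hpq) hqr hpr hcard' s x hsG hxG hcomm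

end Cfsg.Agent.S0904
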