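import Mathlib
import Cfsg.Statements.S3087
-- import your own Cfsg.Agent.* helpers here

set_option autoImplicit false
open Cfsg

namespace Cfsg.Agent.S3087

theorem addSubgroup_card_inf_mul_card_sup {V : Type*} [AddCommGroup V] (X W : AddSubgroup V) :
    Nat.card ↥(X ⊓ W) * Nat.card ↥(X ⊔ W) = Nat.card ↥X * Nat.card ↥W := by
  have h1 : Nat.card ↥(X ⊔ W) = Nat.card ↥W * W.relIndex X := by
    rw [← AddSubgroup.relIndex_sup_right (H := X) (K := W), ← AddSubgroup.relIndex_bot_left,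
      ← AddSubgroup.relIndex_bot_left (H := W), AddSubgroup.relIndex_mul_relIndex ⊥ W (X ⊔ W) bot_le le_sup_right]
  have h2 : Nat.card ↥X = Nat.card ↥(X ⊓ W) * W.relIndex X := by
    rw [← AddSubgroup.inf_relIndex_right (H := W) (K := X), inf_comm W X, ← AddSubgroup.relIndex_bot_left,
      ← AddSubgroup.relIndex_bot_left (H := X ⊓ W), AddSubgroup.relIndex_mul_relIndex ⊥ (X ⊓ W) X bot_le inf_le_left]
  rw [h1, h2]; ring

/-- fixed points of a subgroup, as an additive subgroup -/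
def fixAdd {G V : Type*} [Group G] [AddCommGroup V] {p : ℕ} [Module (ZMod p) V]
    (ρ : Representation (ZMod p) G V) (S : Subgroup G) : AddSubgroup V where
  carrier := {v | ∀ s ∈ S, ρ s v = v}
  zero_mem' := by intro s _; simp
  add_mem' := by
    intro a b ha hb s hs
    rw [map_add, ha s hs, hb s hs]
  neg_mem' := by
    intro a ha s hs
    rw [map_neg, ha s hs]

theorem mem_fixAdd {G V : Type*} [Group G] [AddCommGroup V] {p : ℕ} [Module (ZMod p) V]
    (ρ : Representation (ZMod p) G V) (S : Subgroup G) (v : V) :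
    v ∈ fixAdd ρ S ↔ ∀ s ∈ S, ρ s v = v := Iff.rfl

theorem card_fix_eq {G V : Type*} [Group G] [AddCommGroup V] {p : ℕ} [Module (ZMod p) V]
    (ρ : Representation (ZMod p) G V) (S : Subgroup G) :
    Nat.card {v : V // ∀ b ∈ S, ρ b v = v} = Nat.card ↥(fixAdd ρ S) :=
  Nat.card_congr (Equiv.subtypeEquivRight (fun _ => Iff.rfl))

theorem card_fixW_eq {G V : Type*} [Group G] [AddCommGroup V] {p : ℕ} [Module (ZMod p) V]
    (ρ : Representation (ZMod p) G V) (W : Submodule (ZMod p) V) (S : Subgroup G) :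
    Nat.card {w : W // ∀ b ∈ S, ρ b w = w} = Nat.card ↥(fixAdd ρ S ⊓ W.toAddSubgroup) := by
  apply Nat.card_congr
  refine
    { toFun := fun w => ⟨(w.1 : V), ?_⟩
      invFun := fun v => ⟨⟨v.1, ?_⟩, ?_⟩
      left_inv := fun w => rfl
      right_inv := fun v => rfl }
  · rw [AddSubgroup.mem_inf]
    exact ⟨w.2, w.1.2⟩
  · exact (AddSubgroup.mem_inf.mp v.2).2
  · exact (AddSubgroup.mem_inf.mp v.2).1

/-- Let p be a prime, G a finite group acting linearly on a finite vector space V over the field with p elements, W a G-invariant subspace, and A a subgroup of G with |A|·|C_V(A)| ≥ |B|·|C_V(B)| for every subgroup B of A. Then |A|·|C_W(A)| ≥ |B|·|C_W(B)| for every subgroup B of A that contains C_A(W); that is, the image of A in the group induced on W satisfies the same maximality condition. -/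
theorem result {G V : Type*} [Group G] [Finite G] [AddCommGroup V] [Finite V] (p : ℕ) [Fact p.Prime] [Module (ZMod p) V]
    (ρ : Representation (ZMod p) G V) (W : Submodule (ZMod p) V) (hW : ∀ g : G, ∀ w ∈ W, ρ g w ∈ W)
    (A : Subgroup G)
    (hP : ∀ B : Subgroup G, B ≤ A →
      Nat.card ↥B * Nat.card {v : V // ∀ b ∈ B, ρ b v = v} ≤ Nat.card ↥A * Nat.card {v : V // ∀ a ∈ A, ρ a v = v})
    (B : Subgroup G) (hBA : B ≤ A) (hCB : ∀ a ∈ A, (∀ w ∈ W, ρ a w = w) → a ∈ B) :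
    Nat.card ↥B * Nat.card {w : W // ∀ b ∈ B, ρ b w = w} ≤ Nat.card ↥A * Nat.card {w : W // ∀ a ∈ A, ρ a w = w} := by
  rw [card_fixW_eq, card_fixW_eq]
  have h := hP B hBA
  rw [card_fix_eq, card_fix_eq] at h
  set FA := fixAdd ρ A with hFA
  set FB := fixAdd ρ B with hFB
  set Wa := W.toAddSubgroup with hWa
  have hFAB : FA ≤ FB := by
    intro v hv
    rw [hFA, mem_fixAdd] at hv
    rw [hFB, mem_fixAdd]
    exact fun s hs => hv s (hBA hs)
  have e1 := addSubgroup_card_inf_mul_card_sup FB Wa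
  have e2 := addSubgroup_card_inf_mul_card_sup FA Wa
  have hs : Nat.card ↥(FA ⊔ Wa) ≤ Nat.card ↥(FB ⊔ Wa) :=
    AddSubgroup.card_le_of_le (sup_le_sup_right hFAB Wa)
  have hpos : 0 < Nat.card ↥(FB ⊔ Wa) := Nat.card_pos
  apply Nat.le_of_mul_le_mul_right _ hpos
  calc Nat.card ↥B * Nat.card ↥(FB ⊓ Wa) * Nat.card ↥(FB ⊔ Wa)
      = (Nat.card ↥B * Nat.card ↥FB) * Nat.card ↥Wa := by rw [mul_assoc, e1, mul_assoc]
    _ ≤ (Nat.card ↥A * Nat.card ↥FA) * Nat.card ↥Wa := Nat.mul_le_mul_right _ h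
    _ = Nat.card ↥A * Nat.card ↥(FA ⊓ Wa) * Nat.card ↥(FA ⊔ Wa) := by rw [mul_assoc, ← e2, mul_assoc]
    _ ≤ Nat.card ↥A * Nat.card ↥(FA ⊓ Wa) * Nat.card ↥(FB ⊔ Wa) := Nat.mul_le_mul_left _ hs

end Cfsg.Agent.S3087
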