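import Mathlib
import Cfsg.Statements.S0013
import Cfsg.Agent.Helper1.PGroup

set_option autoImplicit false
open Cfsg

namespace Cfsg.Agent.S0013

/-- In a finite p-group the Frattini subgroup is the smallest normal subgroup with elementary abelian quotient: it lies below any normal subgroup containing all commutators and all p-th powers. -/
theorem result {G : Type*} [Group G] [Finite G] (p : ℕ) [Fact p.Prime]
    (hG : IsPGroup p G) (N : Subgroup G) [N.Normal] (hcomm : commutator G ≤ N) (hpow : ∀ x : G, x ^ p ∈ N) :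
    frattini G ≤ N := by
  have hp : Fact p.Prime := inferInstance
  intro x hxΦ
  by_contra hxN
  let S : Set (Subgroup G) := {K | N ≤ K ∧ x ∉ K}
  have hNS : N ∈ S := ⟨le_rfl, hxN⟩
  obtain ⟨M, hNM, hMmax⟩ := (Set.toFinite S).exists_le_maximal hNS
  have hMS : M ∈ S := hMmax.1
  have hxM : x ∉ M := hMS.2
  have hMn : M.Normal := by
    have h1 : commutator G ≤ M := hcomm.trans hNM
    exact Subgroup.Normal.of_commutator_le _ h1
  have hxbar : (x : G ⧸ M) ≠ 1 := fun h => hxM ((QuotientGroup.eq_one_iff x).1 h)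
  have hexp : ∀ q : G ⧸ M, q ^ p = 1 := by
    intro q
    obtain ⟨g, rfl⟩ := QuotientGroup.mk_surjective q
    rw [← QuotientGroup.mk_pow]
    exact (QuotientGroup.eq_one_iff _).2 (hNM (hpow g))
  have hord : ∀ q : G ⧸ M, q ≠ 1 → orderOf q = p := fun q hq =>
    orderOf_eq_prime (hexp q) hq
  have hall : ∀ q : G ⧸ M, q ∈ Subgroup.zpowers (x : G ⧸ M) := by
    intro q
    by_cases hq : q = 1
    · rw [hq]; exact Subgroup.one_mem _
    obtain ⟨g, rfl⟩ := QuotientGroup.mk_surjective q
    set K := (Subgroup.zpowers (g : G ⧸ M)).comap (QuotientGroup.mk' M) with hK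
    have hMK : M ≤ K := by
      intro m hm
      rw [hK, Subgroup.mem_comap]
      have : (QuotientGroup.mk' M) m = 1 := (QuotientGroup.eq_one_iff m).2 hm
      rw [this]; exact Subgroup.one_mem _
    have hgK : g ∈ K := by
      rw [hK, Subgroup.mem_comap]; exact Subgroup.mem_zpowers _
    have hgM : g ∉ M := fun h => hq ((QuotientGroup.eq_one_iff g).2 h)
    have hxK : x ∈ K := by
      by_contra hxK
      have hKS : K ∈ S := ⟨hNM.trans hMK, hxK⟩
      exact hgM (hMmax.2 hKS hMK hgK)
    have hxz : (x : G ⧸ M) ∈ Subgroup.zpowers (g : G ⧸ M) := hxK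
    have hle : Subgroup.zpowers (x : G ⧸ M) ≤ Subgroup.zpowers (g : G ⧸ M) :=
      (Subgroup.zpowers_le).2 hxz
    have hcard : Nat.card (Subgroup.zpowers (g : G ⧸ M)) ≤ Nat.card (Subgroup.zpowers (x : G ⧸ M)) := by
      rw [Nat.card_zpowers, Nat.card_zpowers, hord _ hq, hord _ hxbar]
    have heq := Subgroup.eq_of_le_of_card_ge hle hcard
    rw [heq]; exact Subgroup.mem_zpowers _
  have htop : Subgroup.zpowers (x : G ⧸ M) = ⊤ := (Subgroup.eq_top_iff' _).2 hall
  have hcardQ : Nat.card (G ⧸ M) = p := by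
    rw [← Subgroup.card_top (G := G ⧸ M), ← htop, Nat.card_zpowers, hord _ hxbar]
  have hidx : M.index = p := hcardQ
  have hco : IsCoatom M := Cfsg.Agent.Helper1.isCoatom_of_index_prime (hidx ▸ hp.1)
  exact hxM (frattini_le_coatom hco hxΦ)

end Cfsg.Agent.S0013
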