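import Mathlib
import Cfsg.Statements.S0049

set_option autoImplicit false
open Cfsg

namespace Cfsg.Agent.S0049

/-- A prime divisor of the order of a finite group also divides the index of the Frattini subgroup. -/
theorem result {G : Type*} [Group G] [Finite G] (p : ℕ) (hp : p.Prime) (hdvd : p ∣ Nat.card G) :
    p ∣ (frattini G).index := by
  haveI : Fact p.Prime := ⟨hp⟩
  by_contra hnd
  have hnil : Group.IsNilpotent (frattini G) := frattini_nilpotent
  obtain ⟨Q⟩ : Nonempty (Sylow p (frattini G)) := inferInstance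
  have hQn : (Q : Subgroup (frattini G)).Normal := inferInstance
  have hQc : (Q : Subgroup (frattini G)).Characteristic := Sylow.characteristic_of_normal Q hQn
  set Q₀ := (Q : Subgroup (frattini G)).map (frattini G).subtype with hQ₀
  have hQ₀n : Q₀.Normal := inferInstance
  have hQ₀Φ : Q₀ ≤ frattini G := Subgroup.map_subtype_le _
  -- index of Q₀ is coprime to p
  have hidx : Q₀.index = (Q : Subgroup (frattini G)).index * (frattini G).index := by
    rw [← Subgroup.relIndex_mul_index hQ₀Φ, Subgroup.relIndex, hQ₀, Subgroup.subgroupOf,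
      Subgroup.comap_map_eq_self_of_injective (frattini G).subtype_injective]
  have hnd' : ¬ p ∣ Q₀.index := by
    rw [hidx]
    intro h
    rcases (Nat.Prime.dvd_mul hp).1 h with h | h
    · exact Q.not_dvd_index h
    · exact hnd h
  have hpg : IsPGroup p Q₀ := Q.2.map _
  have hcop : (Nat.card Q₀).Coprime Q₀.index := by
    obtain ⟨n, hn⟩ := IsPGroup.iff_card.1 hpg
    rw [hn]
    exact Nat.Coprime.pow_left n ((Nat.Prime.coprime_iff_not_dvd hp).2 hnd')
  obtain ⟨H, hH⟩ := Subgroup.exists_right_complement'_of_coprime hcop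
  have hQ₀ne : Q₀ ≠ ⊥ := by
    intro h
    have h1 : Q₀.index = Nat.card G := by rw [h, Subgroup.index_bot]
    exact hnd' (h1 ▸ hdvd)
  have hHne : H ≠ ⊤ := by
    intro h
    have h1 := hH.card_mul_card
    rw [h, Subgroup.card_top] at h1
    have h2 : Nat.card Q₀ = 1 := by
      have hpos : 0 < Nat.card G := Nat.card_pos
      exact Nat.eq_of_mul_eq_mul_right hpos (by rw [h1, one_mul])
    exact hQ₀ne (Subgroup.card_eq_one.1 h2)
  obtain ⟨M, hM, hHM⟩ := (eq_top_or_exists_le_coatom H).resolve_left hHne
  have h1 : Q₀ ⊔ H ≤ M := sup_le (hQ₀Φ.trans (frattini_le_coatom hM)) hHM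
  rw [hH.sup_eq_top] at h1
  exact hM.1 (top_le_iff.1 h1)

end Cfsg.Agent.S0049
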