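import Cfsg.Statements.S0054
import Mathlib

set_option autoImplicit false
open Cfsg

namespace Cfsg.Agent.S0054

/-- A regular normal subgroup of a finite 2-transitive group is elementary abelian: it is commutative and all its elements have order dividing one prime. -/
theorem result {G : Type*} [Group G] [Finite G]
    {X : Type*} [Nonempty X] [MulAction G X] (h2 : MulAction.IsMultiplyPretransitive G X 2)
    (N : Subgroup G) [N.Normal] (htrans : MulAction.IsPretransitive N X) (hreg : ∀ x : X, MulAction.stabilizer N x = ⊥) :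
    IsMulCommutative N ∧ ∃ p : ℕ, p.Prime ∧ ∀ n ∈ N, n ^ p = 1 := by
  classical
  obtain ⟨x⟩ := ‹Nonempty X›
  have hstab : ∀ n : G, n ∈ N → n • x = x → n = 1 := by
    intro n hn hnx
    have hmem : (⟨n, hn⟩ : N) ∈ MulAction.stabilizer N x := by
      rw [MulAction.mem_stabilizer_iff]
      exact hnx
    rw [hreg x, Subgroup.mem_bot] at hmem
    exact congrArg Subtype.val hmem
  have hconj : ∀ n m : G, n ∈ N → m ∈ N → n ≠ 1 → m ≠ 1 → ∃ g : G, g * n * g⁻¹ = m := by
    intro n m hn hm hn1 hm1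
    have hx1 : x ≠ n • x := fun h => hn1 (hstab n hn h.symm)
    have hx2 : x ≠ m • x := fun h => hm1 (hstab m hm h.symm)
    obtain ⟨g, hgx, hgn⟩ := (MulAction.is_two_pretransitive_iff.1 h2) hx1 hx2
    refine ⟨g, ?_⟩
    have hg' : g⁻¹ • x = x := by
      rw [inv_smul_eq_iff, hgx]
    have hfix : (m⁻¹ * (g * n * g⁻¹)) • x = x := by
      rw [mul_smul, mul_smul, mul_smul, hg', hgn, inv_smul_smul]
    have hmemN : m⁻¹ * (g * n * g⁻¹) ∈ N :=
      N.mul_mem (N.inv_mem hm) (‹N.Normal›.conj_mem n hn g)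
    have := hstab _ hmemN hfix
    rw [inv_mul_eq_one] at this
    exact this.symm
  by_cases hbot : N = ⊥
  · refine ⟨⟨⟨fun a b => ?_⟩⟩, 2, Nat.prime_two, ?_⟩
    · have ha : (a : G) = 1 := (Subgroup.eq_bot_iff_forall N).1 hbot a a.2
      have hb : (b : G) = 1 := (Subgroup.eq_bot_iff_forall N).1 hbot b b.2
      ext; simp [ha, hb]
    · intro n hn
      rw [(Subgroup.eq_bot_iff_forall N).1 hbot n hn, one_pow]
  -- N nontrivial
  have hNnt : Nontrivial N := (Subgroup.nontrivial_iff_ne_bot N).2 hbot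
  have hcard : 1 < Nat.card N := Finite.one_lt_card
  obtain ⟨p, hp, hpdvd⟩ := Nat.exists_prime_and_dvd (Nat.ne_of_gt hcard)
  haveI : Fact p.Prime := ⟨hp⟩
  obtain ⟨n₀, hn₀⟩ := exists_prime_orderOf_dvd_card' p hpdvd
  have hn₀1 : (n₀ : G) ≠ 1 := by
    intro h
    have : n₀ = 1 := Subtype.ext h
    rw [this, orderOf_one] at hn₀
    exact hp.one_lt.ne hn₀
  have hn₀p : (n₀ : G) ^ p = 1 := by
    have := pow_orderOf_eq_one n₀
    rw [hn₀] at this
    exact_mod_cast congrArg Subtype.val this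
  have hpow : ∀ n ∈ N, n ^ p = 1 := by
    intro n hn
    by_cases hn1 : n = 1
    · rw [hn1, one_pow]
    obtain ⟨g, hg⟩ := hconj n₀ n n₀.2 hn hn₀1 hn1
    rw [← hg, conj_pow, hn₀p, mul_one, mul_inv_cancel]
  have hPG : IsPGroup p N := by
    intro n
    refine ⟨1, ?_⟩
    rw [pow_one]
    exact Subtype.ext (hpow n n.2)
  obtain ⟨z, hz, hz1⟩ := (Subgroup.nontrivial_iff_exists_ne_one _).1 (hPG.center_nontrivial)
  have hzG1 : (z : G) ≠ 1 := fun h => hz1 (Subtype.ext h)
  have hzc : ∀ m : G, m ∈ N → m * (z : G) = (z : G) * m := by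
    intro m hm
    have := Subgroup.mem_center_iff.1 hz ⟨m, hm⟩
    exact congrArg Subtype.val this
  have hcenter : ∀ n ∈ N, ∀ m ∈ N, m * n = n * m := by
    intro n hn m hm
    by_cases hn1 : n = 1
    · rw [hn1, mul_one, one_mul]
    obtain ⟨g, hg⟩ := hconj z n z.2 hn hzG1 hn1
    have hm' : g⁻¹ * m * g ∈ N := by
      have := ‹N.Normal›.conj_mem m hm g⁻¹
      rwa [inv_inv] at this
    have h := hzc _ hm'
    rw [← hg]
    calc m * (g * z * g⁻¹) = g * ((g⁻¹ * m * g) * z) * g⁻¹ := by group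
      _ = g * (z * (g⁻¹ * m * g)) * g⁻¹ := by rw [h]
      _ = g * z * g⁻¹ * m := by group
  refine ⟨⟨⟨fun a b => ?_⟩⟩, p, hp, hpow⟩
  ext
  exact hcenter b b.2 a a.2

end Cfsg.Agent.S0054
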