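import Mathlib
import Cfsg.Statements.S0063

set_option autoImplicit false
open Cfsg

namespace Cfsg.Agent.S0063

universe u

theorem aux (p : ℕ) [hp : Fact p.Prime] : ∀ (m : ℕ) (G : Type u) [Group G] [Finite G],
    Nat.card G = p ^ m → Group.nilpotencyClass G ≤ (if m ≤ 1 then m else m - 1) := by
  intro m
  induction m using Nat.strong_induction_on with
  | _ m ih =>
    intro G _ _ hG
    have hpG : IsPGroup p G := IsPGroup.of_card hG
    have hnil : Group.IsNilpotent G := hpG.isNilpotent
    rcases Nat.eq_zero_or_pos m with rfl | hm
    · have : Subsingleton G := by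
        rw [pow_zero] at hG
        exact (Nat.card_eq_one_iff_unique.1 hG).1
      rw [Group.nilpotencyClass_zero_iff_subsingleton.2 this]
      simp
    · have hnt : Nontrivial G := by
        rw [← Finite.one_lt_card_iff_nontrivial, hG]
        exact Nat.one_lt_pow hm.ne' hp.1.one_lt
      have hcls := Group.nilpotencyClass_eq_quotient_center_plus_one (G := G)
      have hZp : IsPGroup p (Subgroup.center G) := hpG.to_subgroup _
      obtain ⟨k, hk⟩ := IsPGroup.iff_card.1 hZp
      have hk0 : k ≠ 0 := by
        rintro rfl
        rw [pow_zero, Subgroup.card_eq_one] at hk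
        have := hpG.center_nontrivial
        exact (Subgroup.nontrivial_iff_ne_bot _).1 this hk
      have hcard := Subgroup.card_eq_card_quotient_mul_card_subgroup (Subgroup.center G)
      rw [hG, hk] at hcard
      have hkm : k ≤ m := by
        have : p ^ k ∣ p ^ m := Dvd.intro_left _ hcard.symm
        exact (Nat.pow_dvd_pow_iff_le_right hp.1.one_lt).1 this
      have hQ : Nat.card (G ⧸ Subgroup.center G) = p ^ (m - k) := by
        have h1 : p ^ m = p ^ (m - k) * p ^ k := by rw [← pow_add, Nat.sub_add_cancel hkm]
        rw [h1] at hcard
        exact (Nat.eq_of_mul_eq_mul_right (pow_pos hp.1.pos k) hcard).symm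
      have hlt : m - k < m := by omega
      have hIH := ih (m - k) hlt (G ⧸ Subgroup.center G) hQ
      rw [hcls]
      by_cases h1 : m - k = 1
      · exfalso
        rw [h1, pow_one] at hQ
        have hcyc : IsCyclic (G ⧸ Subgroup.center G) := isCyclic_of_prime_card hQ
        have hcomm : ∀ a b : G, a * b = b * a :=
          commutative_of_cyclic_center_quotient (QuotientGroup.mk' (Subgroup.center G))
            (by rw [QuotientGroup.ker_mk'])
        have htop : Subgroup.center G = ⊤ := by
          rw [eq_top_iff]
          intro x _
          rw [Subgroup.mem_center_iff]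
          intro g; exact hcomm g x
        rw [htop, Subgroup.card_top, hG] at hk
        have : m = k := Nat.pow_right_injective hp.1.two_le hk
        omega
      · split_ifs at hIH ⊢ with h2 h3 h3
        · omega
        · omega
        · omega
        · omega

/-- A finite group of prime-power order p ^ m with m > 1 is nilpotent of class at most m - 1. -/
theorem result {G : Type*} [Group G] [Finite G] (p m : ℕ) [Fact p.Prime]
    (hG : Nat.card G = p ^ m) (hm : 1 < m) : Group.nilpotencyClass G ≤ m - 1 := by
  have := aux p m G hG
  rw [if_neg (by omega)] at this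
  exact this

end Cfsg.Agent.S0063
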