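import Mathlib
import Cfsg.Statements.S0065

set_option autoImplicit false
open Cfsg

namespace Cfsg.Agent.S0065

/-- iterated commutators `[N, G, ..., G]`. -/
def iter {G : Type*} [Group G] (N : Subgroup G) : ℕ → Subgroup G
  | 0 => N
  | n + 1 => ⁅iter N n, (⊤ : Subgroup G)⁆

lemma iter_le_lcs {G : Type*} [Group G] (N : Subgroup G) (n : ℕ) :
    iter N n ≤ (⊤ : Subgroup G).lowerCentralSeries n := by
  induction n with
  | zero => simp [iter]
  | succ n ih =>
    rw [Subgroup.lowerCentralSeries_succ]
    exact Subgroup.commutator_mono ih le_rfl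

lemma iter_le {G : Type*} [Group G] (N : Subgroup G) [N.Normal] (n : ℕ) :
    iter N n ≤ N := by
  induction n with
  | zero => exact le_rfl
  | succ n ih =>
    exact (Subgroup.commutator_mono ih le_rfl).trans (Subgroup.commutator_le_left N ⊤)

/-- A nontrivial normal subgroup of a nilpotent group intersects the centre nontrivially. -/
theorem result {G : Type*} [Group G] [Finite G] [Group.IsNilpotent G]
    (N : Subgroup G) [N.Normal] (hN : N ≠ ⊥) : N ⊓ Subgroup.center G ≠ ⊥ := by
  classical
  have hex : ∃ n, iter N n = ⊥ := by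
    obtain ⟨n, hn⟩ := (Subgroup.nilpotent_iff_lowerCentralSeries (G := G)).1 inferInstance
    exact ⟨n, le_bot_iff.1 (hn ▸ iter_le_lcs N n)⟩
  have hk0 : Nat.find hex ≠ 0 := by
    intro h0
    have := Nat.find_spec hex
    rw [h0] at this
    exact hN this
  obtain ⟨k, hk⟩ := Nat.exists_eq_succ_of_ne_zero hk0
  have hk1 : iter N (k + 1) = ⊥ := by
    have := Nat.find_spec hex
    rwa [hk] at this
  have hk2 : iter N k ≠ ⊥ := Nat.find_min hex (by omega)
  have hcen : iter N k ≤ Subgroup.center G := by
    have : ⁅iter N k, (⊤ : Subgroup G)⁆ = ⊥ := hk1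
    rw [Subgroup.commutator_eq_bot_iff_le_centralizer] at this
    simpa [Subgroup.coe_top, Subgroup.centralizer_univ] using this
  intro h
  apply hk2
  exact le_bot_iff.1 (h ▸ le_inf (iter_le N k) hcen)

end Cfsg.Agent.S0065
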