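import Mathlib
import Cfsg.Statements.S0098
import Cfsg.Agent.Helper3.ExtraCore
import Cfsg.Statements.S0098
-- import your own Cfsg.Agent.* helpers here

set_option autoImplicit false
open Cfsg

namespace Cfsg.Agent.S0098
open Cfsg
universe u v
open Cfsg.Agent.Helper3.Extra
open scoped commutatorElement

theorem exists_pair_with_comm {p : ℕ} [Fact p.Prime] {E : Type u} [Group E] [Finite E]
    (hE : InClass p E) (hlt : p < Nat.card E) (z : E) (hz : z ∈ Subgroup.center E) :
    ∃ x y : E, ⁅y, x⁆ = z := by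
  obtain ⟨x, y₀, hxy⟩ := hE.exists_pair_of_card_lt hlt
  obtain ⟨a, ha⟩ := hE.exists_zpow_eq x y₀ hxy ⟨z, hz⟩
  refine ⟨x, y₀ ^ a, ?_⟩
  have h1 : hE.cm (y₀ ^ a) x = (hE.cm y₀ x) ^ a := by
    rw [hE.cm_swap (y₀ ^ a) x, map_zpow, hE.cm_swap x y₀, inv_zpow, inv_inv]
  have h2 := congrArg Subtype.val (h1.trans ha)
  simpa [InClass.cm_apply] using h2

theorem unique_exp_p (p : ℕ) [hp : Fact p.Prime] : ∀ n : ℕ, ∀ (E : Type u) (F : Type v)
    [Group E] [Group F] [Finite E] [Finite F], InClass p E → InClass p F →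
    (∀ e : E, e ^ p = 1) → (∀ f : F, f ^ p = 1) → Nat.card E = n → Nat.card F = n →
    ∀ (z : E) (z' : F), z ∈ Subgroup.center E → z ≠ 1 → z' ∈ Subgroup.center F → z' ≠ 1 →
    ∃ e : E ≃* F, e z = z' := by
  intro n
  induction n using Nat.strong_induction_on with
  | _ n ih =>
  intro E F _ _ _ _ hE hF hexpE hexpF hnE hnF z z' hz hz1 hz' hz1'
  have hpE : p ≤ Nat.card E := by rw [← hE.card_center]; exact Subgroup.card_le_card_group _
  rcases hpE.eq_or_lt with h2 | h2
  · have h2F : Nat.card F = p := by rw [hnF, ← hnE, ← h2]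
    have hg : ∀ x : E, x ∈ Subgroup.zpowers z := by
      intro x
      rw [zpowers_eq_top_of_prime_card h2.symm hz1]; exact Subgroup.mem_top _
    have hg' : ∀ x : F, x ∈ Subgroup.zpowers z' := by
      intro x
      rw [zpowers_eq_top_of_prime_card h2F hz1']; exact Subgroup.mem_top _
    have ho : orderOf z = orderOf z' := by
      rw [orderOf_eq_prime (hexpE z) hz1, orderOf_eq_prime (hexpF z') hz1']
    exact ⟨mulEquivOfOrderOfEq hg hg' ho, mulEquivOfOrderOfEq_apply_gen hg hg' ho⟩
  · have h2F : p < Nat.card F := by rw [hnF, ← hnE]; exact h2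
    obtain ⟨x, y, hxyz⟩ := exists_pair_with_comm hE h2 z hz
    obtain ⟨x', y', hxyz'⟩ := exists_pair_with_comm hF h2F z' hz'
    have hxy : ⁅y, x⁆ ≠ 1 := by rw [hxyz]; exact hz1
    have hxy' : ⁅y', x'⁆ ≠ 1 := by rw [hxyz']; exact hz1'
    have hC := hE.inClass_centralizer x y hxy
    have hC' := hF.inClass_centralizer x' y' hxy'
    have hcard := hE.card_eq x y hxy
    have hcard' := hF.card_eq x' y' hxy'
    have hCpos : 0 < Nat.card (Subgroup.centralizer ({x, y} : Set E)) := Nat.card_pos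
    have hp2 : 1 < p ^ 2 := Nat.one_lt_pow (by norm_num) hp.out.one_lt
    have hlt : Nat.card (Subgroup.centralizer ({x, y} : Set E)) < n := by
      rw [← hnE, hcard]
      exact lt_mul_of_one_lt_left hCpos hp2
    have hcc : Nat.card (Subgroup.centralizer ({x', y'} : Set F)) =
        Nat.card (Subgroup.centralizer ({x, y} : Set E)) := by
      have h3 : p ^ 2 * Nat.card (Subgroup.centralizer ({x', y'} : Set F)) =
          p ^ 2 * Nat.card (Subgroup.centralizer ({x, y} : Set E)) := by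
        rw [← hcard, ← hcard', hnE, hnF]
      exact Nat.eq_of_mul_eq_mul_left (by positivity) h3
    have hzC : z ∈ Subgroup.centralizer ({x, y} : Set E) := Subgroup.center_le_centralizer _ hz
    have hzC' : z' ∈ Subgroup.centralizer ({x', y'} : Set F) :=
      Subgroup.center_le_centralizer _ hz'
    obtain ⟨φ, hφ⟩ := ih _ hlt _ _ hC hC'
      (fun e => Subtype.ext (by rw [Subgroup.coe_pow]; exact hexpE _))
      (fun f => Subtype.ext (by rw [Subgroup.coe_pow]; exact hexpF _)) rfl hcc
      ⟨z, hzC⟩ ⟨z', hzC'⟩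
      ((hE.mem_center_centralizer_iff x y hxy _).2 hz)
      (fun h => hz1 (congrArg Subtype.val h))
      ((hF.mem_center_centralizer_iff x' y' hxy' _).2 hz')
      (fun h => hz1' (congrArg Subtype.val h))
    set S := hE.frame x y hxy with hS
    set T := hF.frame x' y' hxy' with hT
    have hSw : S.w = ⟨z, hzC⟩ := Subtype.ext hxyz
    have hTw : T.w = ⟨z', hzC'⟩ := Subtype.ext hxyz'
    have hφw : φ S.w = T.w := by rw [hSw, hTw, hφ]
    have hφx : φ S.xp = T.xp := by
      have h1 : S.xp = 1 := Subtype.ext (hexpE x)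
      have h2 : T.xp = 1 := Subtype.ext (hexpF x')
      rw [h1, h2, map_one]
    have hφy : φ S.yp = T.yp := by
      have h1 : S.yp = 1 := Subtype.ext (hexpE y)
      have h2 : T.yp = 1 := Subtype.ext (hexpF y')
      rw [h1, h2, map_one]
    obtain ⟨e, he⟩ := glue S T φ hφw hφx hφy
    refine ⟨e, ?_⟩
    have := he ⟨z, hzC⟩
    rw [hφ] at this
    exact this

/-- For odd p, extraspecial p-groups of exponent p are determined up to isomorphism by their order. -/
theorem result {E₁ : Type*} {E₂ : Type*} [Group E₁] [Group E₂] [Finite E₁] [Finite E₂] {p : ℕ} [Fact p.Prime] (hp : p ≠ 2) (h₁ : Cfsg.IsExtraspecial p E₁) (h₂ : Cfsg.IsExtraspecial p E₂) (he₁ : Monoid.exponent E₁ = p) (he₂ : Monoid.exponent E₂ = p) (hc : Nat.card E₁ = Nat.card E₂) : Nonempty (E₁ ≃* E₂) := by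
  have c1 := inClass_of_isExtraspecial h₁
  have c2 := inClass_of_isExtraspecial h₂
  have hn1 : Nontrivial (Subgroup.center E₁) := by
    rw [← Finite.one_lt_card_iff_nontrivial, c1.card_center]; exact (Fact.out : p.Prime).one_lt
  have hn2 : Nontrivial (Subgroup.center E₂) := by
    rw [← Finite.one_lt_card_iff_nontrivial, c2.card_center]; exact (Fact.out : p.Prime).one_lt
  obtain ⟨z, hz⟩ := exists_ne (1 : Subgroup.center E₁)
  obtain ⟨z', hz'⟩ := exists_ne (1 : Subgroup.center E₂)
  obtain ⟨e, -⟩ := unique_exp_p p _ E₁ E₂ c1 c2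
    (fun e => by rw [← he₁]; exact Monoid.pow_exponent_eq_one e)
    (fun e => by rw [← he₂]; exact Monoid.pow_exponent_eq_one e) rfl hc.symm
    z z' z.2 (fun h => hz (Subtype.ext h)) z'.2 (fun h => hz' (Subtype.ext h))
  exact ⟨e⟩


end Cfsg.Agent.S0098
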