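import Mathlib
import Cfsg.Statements.S0099
import Cfsg.Agent.Helper3.ExtraRank
import Cfsg.Statements.S0099
-- import your own Cfsg.Agent.* helpers here

set_option autoImplicit false
open Cfsg

namespace Cfsg.Agent.S0099
open Cfsg
universe u v w
open Cfsg.Agent.Helper3.Extra

theorem card_eq_of_plus {E : Type u} {F : Type v} [Group E] [Group F]
    (h : Nat.card E = Nat.card F) (hE : IsPlus E) (hF : IsPlus F) : inv2 E = inv2 F := by
  obtain ⟨m, hm1, hm2⟩ := hE
  obtain ⟨m', hm1', hm2'⟩ := hF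
  have hm : m = m' := by
    have := hm1.symm.trans (h.trans hm1')
    have := Nat.pow_right_injective (le_refl 2) this
    omega
  subst hm
  rw [hm2, hm2']

theorem card_eq_of_minus {E : Type u} {F : Type v} [Group E] [Group F]
    (h : Nat.card E = Nat.card F) (hE : IsMinus E) (hF : IsMinus F) : inv2 E = inv2 F := by
  obtain ⟨m, _, hm1, hm2⟩ := hE
  obtain ⟨m', _, hm1', hm2'⟩ := hF
  have hm : m = m' := by
    have := hm1.symm.trans (h.trans hm1')
    have := Nat.pow_right_injective (le_refl 2) this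
    omega
  subst hm
  omega

/-- Among three extraspecial 2-groups of equal order, some two are isomorphic. -/
theorem result {E₁ : Type*} {E₂ : Type*} {E₃ : Type*} [Group E₁] [Group E₂] [Group E₃] [Finite E₁] [Finite E₂] [Finite E₃] (h₁ : Cfsg.IsExtraspecial 2 E₁) (h₂ : Cfsg.IsExtraspecial 2 E₂) (h₃ : Cfsg.IsExtraspecial 2 E₃) (h12 : Nat.card E₁ = Nat.card E₂) (h23 : Nat.card E₂ = Nat.card E₃) : Nonempty (E₁ ≃* E₂) ∨ Nonempty (E₂ ≃* E₃) ∨ Nonempty (E₁ ≃* E₃) := by
  have : Fact (Nat.Prime 2) := ⟨Nat.prime_two⟩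
  have c1 := inClass_of_isExtraspecial h₁
  have c2 := inClass_of_isExtraspecial h₂
  have c3 := inClass_of_isExtraspecial h₃
  rcases plus_or_minus _ E₁ c1 rfl with p1 | m1 <;> rcases plus_or_minus _ E₂ c2 rfl with p2 | m2 <;>
    rcases plus_or_minus _ E₃ c3 rfl with p3 | m3
  · exact Or.inl (unique_of_card_inv2 _ E₁ E₂ c1 c2 rfl h12.symm (card_eq_of_plus h12 p1 p2))
  · exact Or.inl (unique_of_card_inv2 _ E₁ E₂ c1 c2 rfl h12.symm (card_eq_of_plus h12 p1 p2))
  · exact Or.inr (Or.inr (unique_of_card_inv2 _ E₁ E₃ c1 c3 rfl (h12.trans h23).symm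
      (card_eq_of_plus (h12.trans h23) p1 p3)))
  · exact Or.inr (Or.inl (unique_of_card_inv2 _ E₂ E₃ c2 c3 rfl h23.symm
      (card_eq_of_minus h23 m2 m3)))
  · exact Or.inr (Or.inl (unique_of_card_inv2 _ E₂ E₃ c2 c3 rfl h23.symm
      (card_eq_of_plus h23 p2 p3)))
  · exact Or.inr (Or.inr (unique_of_card_inv2 _ E₁ E₃ c1 c3 rfl (h12.trans h23).symm
      (card_eq_of_minus (h12.trans h23) m1 m3)))
  · exact Or.inl (unique_of_card_inv2 _ E₁ E₂ c1 c2 rfl h12.symm (card_eq_of_minus h12 m1 m2))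
  · exact Or.inl (unique_of_card_inv2 _ E₁ E₂ c1 c2 rfl h12.symm (card_eq_of_minus h12 m1 m2))


end Cfsg.Agent.S0099
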