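import Cfsg.Statements.S0158
import Mathlib
import Cfsg.Agent.Helper6.FrobSchur
-- import your own Cfsg.Agent.* helpers here

set_option autoImplicit false
open Cfsg

namespace Cfsg.Agent.S0158

/-- The Frobenius–Schur indicator of an irreducible complex representation of a finite group — the average over s of the character at s * s — is 0, 1 or −1, and it vanishes exactly when some character value is not real. -/
theorem result {G : Type*} [Group G] [Fintype G] {V : Type*} [AddCommGroup V] [Module ℂ V] [FiniteDimensional ℂ V] (ρ : Representation ℂ G V) [ρ.IsIrreducible] : ((Nat.card G : ℂ)⁻¹ * ∑ s : G, ρ.character (s * s) = 0 ∨ (Nat.card G : ℂ)⁻¹ * ∑ s : G, ρ.character (s * s) = 1 ∨ (Nat.card G : ℂ)⁻¹ * ∑ s : G, ρ.character (s * s) = -1) ∧ ((Nat.card G : ℂ)⁻¹ * ∑ s : G, ρ.character (s * s) = 0 ↔ ∃ s : G, (ρ.character s).im ≠ 0) := by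
  obtain ⟨n, ρ', hirr', hρ'⟩ := Cfsg.Agent.Helper6.isIrrCharacter_of_rep ρ inferInstance
  haveI := hirr'
  rw [← hρ']
  change (Cfsg.Agent.Helper6.fsInd ρ' = 0 ∨ Cfsg.Agent.Helper6.fsInd ρ' = 1 ∨
    Cfsg.Agent.Helper6.fsInd ρ' = -1) ∧
    (Cfsg.Agent.Helper6.fsInd ρ' = 0 ↔ ∃ s : G, (ρ'.character s).im ≠ 0)
  by_cases hreal : ∀ g, (ρ'.character g).im = 0
  · have hreal' : ∀ g, ρ'.character g⁻¹ = ρ'.character g := by
      intro g
      rw [Cfsg.Agent.Helper6.char_inv_eq_conj]
      exact Complex.conj_eq_iff_im.mpr (hreal g)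
    have h1 := Cfsg.Agent.Helper6.fsInd_sq_eq_one_of_real ρ' hreal'
    refine ⟨Or.inr h1, ?_⟩
    constructor
    · intro h0
      rcases h1 with h | h
      · rw [h0] at h; exact absurd h zero_ne_one
      · rw [h0] at h
        have : (1 : ℂ) = 0 := by
          have h2 := congrArg (fun z : ℂ => -z) h
          simpa using h2.symm
        exact absurd this one_ne_zero
    · rintro ⟨s, hs⟩
      exact absurd (hreal s) hs
  · push Not at hreal
    have hnr : ∃ g, ρ'.character g⁻¹ ≠ ρ'.character g := by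
      obtain ⟨g, hg⟩ := hreal
      refine ⟨g, ?_⟩
      rw [Cfsg.Agent.Helper6.char_inv_eq_conj]
      intro h
      exact hg (Complex.conj_eq_iff_im.mp h)
    have h0 := Cfsg.Agent.Helper6.fsInd_eq_zero_of_not_real ρ' hnr
    exact ⟨Or.inl h0, ⟨fun _ => hreal, fun _ => h0⟩⟩

end Cfsg.Agent.S0158
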