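import Cfsg.Statements.S0166
import Cfsg.Agent.Helper6.SplFldE

set_option autoImplicit false
open Cfsg

namespace Cfsg.Agent.S0166

/-- Brauer's splitting field Theorem: a complex representation of a finite group of exponent m is equivalent to a representation by matrices with entries in ℚ adjoined exp(2πi/m). -/
theorem result {G : Type*} [Group G] [Finite G] (n : ℕ) (ρ : Representation ℂ G (Fin n → ℂ)) : ∃ σ : Representation ℂ G (Fin n → ℂ), Nonempty (ρ.Equiv σ) ∧ ∀ g : G, ∀ i j : Fin n, LinearMap.toMatrix' (σ g) i j ∈ Algebra.adjoin ℚ ({Complex.exp (2 * Real.pi * Complex.I / (Monoid.exponent G : ℂ))} : Set ℂ) := by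
  classical
  obtain ⟨ζ, hζdef⟩ : ∃ ζ : ℂ, ζ = Complex.exp (2 * Real.pi * Complex.I / (Monoid.exponent G : ℂ)) :=
    ⟨_, rfl⟩
  rw [← hζdef]
  have hm : Monoid.exponent G ≠ 0 := Monoid.exponent_ne_zero_of_finite
  have hζ : IsPrimitiveRoot ζ (Monoid.exponent G) := by
    rw [hζdef]; exact Complex.isPrimitiveRoot_exp _ hm
  have hint : IsIntegral ℚ ζ := by
    apply IsIntegral.of_pow (Nat.pos_of_ne_zero hm)
    rw [hζ.pow_eq_one]
    exact isIntegral_one
  have hroots : ∀ z : ℂ, z ^ (Monoid.exponent G) = 1 →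
      z ∈ (algebraMap (IntermediateField.adjoin ℚ ({ζ} : Set ℂ)) ℂ).range := by
    intro z hz
    obtain ⟨i, -, hi⟩ := hζ.eq_pow_of_pow_eq_one hz
    have hmem : ζ ^ i ∈ IntermediateField.adjoin ℚ ({ζ} : Set ℂ) :=
      pow_mem (IntermediateField.mem_adjoin_simple_self ℚ ζ) i
    exact ⟨⟨ζ ^ i, hmem⟩, hi⟩
  obtain ⟨σ, hσ, hent⟩ := Cfsg.Agent.Helper6.SplFld.realizable_of_roots
    (algebraMap (IntermediateField.adjoin ℚ ({ζ} : Set ℂ)) ℂ) hroots n ρ
  refine ⟨σ, hσ, ?_⟩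
  intro g i j
  obtain ⟨c, hc⟩ := hent g i j
  rw [← hc, ← IntermediateField.adjoin_simple_toSubalgebra_of_isAlgebraic hint.isAlgebraic]
  exact c.2

end Cfsg.Agent.S0166
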