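import Mathlib
import Cfsg.Statements.S0172
import Cfsg.Statements.S0172
-- import your own Cfsg.Agent.* helpers here

set_option autoImplicit false
open Cfsg

namespace Cfsg.Agent.S0172
open Cfsg

universe u

/-- number of commuting pairs with nontrivial first entry -/
noncomputable def S (Γ : Type u) [Group Γ] : ℕ :=
  Nat.card {p : Γ × Γ // p.1 ≠ 1 ∧ Commute p.1 p.2}

theorem classes_mul_card (Γ : Type u) [Group Γ] [Finite Γ] :
    Nat.card (ConjClasses Γ) * Nat.card Γ = S Γ + Nat.card Γ := by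
  classical
  rw [← card_comm_eq_card_conjClasses_mul_card]
  have e : {p : Γ × Γ // Commute p.1 p.2} ≃
      {p : Γ × Γ // p.1 ≠ 1 ∧ Commute p.1 p.2} ⊕ Γ :=
    { toFun := fun p => if h : p.1.1 = 1 then Sum.inr p.1.2 else Sum.inl ⟨p.1, h, p.2⟩
      invFun := fun s => match s with
        | Sum.inl q => ⟨q.1, q.2.2⟩
        | Sum.inr y => ⟨(1, y), Commute.one_left y⟩
      left_inv := by
        rintro ⟨⟨x, y⟩, hxy⟩
        by_cases h : x = 1
        · subst h; simp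
        · simp [h]
      right_inv := by
        rintro (q | y)
        · obtain ⟨⟨x, y⟩, h1, h2⟩ := q
          simp [h1]
        · simp }
  rw [Nat.card_congr e, Nat.card_sum, S]


section
variable {G : Type u} [Group G] [Finite G] (K H : Subgroup G) [hKn : K.Normal]
  (hKH : K ⊓ H = ⊥) (hKH' : K ⊔ H = ⊤)
  (hfpf : ∀ h ∈ H, h ≠ 1 → ∀ k ∈ K, h * k = k * h → k = 1)

include hKH in
theorem decomp_unique {k₁ k₂ h₁ h₂ : G} (hk₁ : k₁ ∈ K) (hk₂ : k₂ ∈ K) (hh₁ : h₁ ∈ H) (hh₂ : h₂ ∈ H)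
    (h : k₁ * h₁ = k₂ * h₂) : k₁ = k₂ ∧ h₁ = h₂ := by
  have h1 : k₂⁻¹ * k₁ = h₂ * h₁⁻¹ := by
    have : k₂⁻¹ * (k₁ * h₁) * h₁⁻¹ = k₂⁻¹ * (k₂ * h₂) * h₁⁻¹ := by rw [h]
    simpa [mul_assoc] using this
  have h2 : k₂⁻¹ * k₁ ∈ K ⊓ H :=
    ⟨K.mul_mem (K.inv_mem hk₂) hk₁, by rw [h1]; exact H.mul_mem hh₂ (H.inv_mem hh₁)⟩
  rw [hKH, Subgroup.mem_bot] at h2
  have h3 : k₁ = k₂ := by
    have := congrArg (k₂ * ·) h2
    simpa using this
  refine ⟨h3, ?_⟩
  subst h3
  exact mul_left_cancel h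

include hKH' in
theorem exists_decomp (g : G) : ∃ k ∈ K, ∃ h ∈ H, g = k * h := by
  have hg : g ∈ ((K ⊔ H : Subgroup G) : Set G) := by rw [hKH']; trivial
  rw [Subgroup.normal_mul] at hg
  obtain ⟨k, hk, h, hh, rfl⟩ := hg
  exact ⟨k, hk, h, hh, rfl⟩

include hfpf in
/-- the map `c ↦ c h c⁻¹ h⁻¹` is onto `K`. -/
theorem exists_comm_eq {h : G} (hh : h ∈ H) (h1 : h ≠ 1) {k : G} (hk : k ∈ K) :
    ∃ c ∈ K, c * h * c⁻¹ * h⁻¹ = k := by
  classical
  let f : ↥K → ↥K := fun c => ⟨c * h * (c : G)⁻¹ * h⁻¹, by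
    have h2 : h * (c : G)⁻¹ * h⁻¹ ∈ K := hKn.conj_mem _ (K.inv_mem c.2) h
    have h3 : (c : G) * h * (c : G)⁻¹ * h⁻¹ = c * (h * (c : G)⁻¹ * h⁻¹) := by group
    rw [h3]
    exact K.mul_mem c.2 h2⟩
  have hinj : Function.Injective f := by
    intro c d hcd
    have h2 : (c : G) * h * (c : G)⁻¹ * h⁻¹ = d * h * (d : G)⁻¹ * h⁻¹ := congrArg Subtype.val hcd
    have h3 : (c : G) * h * (c : G)⁻¹ = d * h * (d : G)⁻¹ := mul_right_cancel h2
    -- d⁻¹ c commutes with h
    have h4 : h * ((d : G)⁻¹ * c) = ((d : G)⁻¹ * c) * h := by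
      have : (d : G)⁻¹ * ((c : G) * h * (c : G)⁻¹) * c = (d : G)⁻¹ * (d * h * (d : G)⁻¹) * c := by
        rw [h3]
      have h5 : (d : G)⁻¹ * c * h = h * ((d : G)⁻¹ * c) := by
        have e1 : (d : G)⁻¹ * ((c : G) * h * (c : G)⁻¹) * c = (d : G)⁻¹ * c * h := by group
        have e2 : (d : G)⁻¹ * (d * h * (d : G)⁻¹) * c = h * ((d : G)⁻¹ * c) := by group
        rw [e1, e2] at this
        exact this
      exact h5.symm
    have h6 := hfpf h hh h1 _ (K.mul_mem (K.inv_mem d.2) c.2) h4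
    apply Subtype.ext
    have := congrArg ((d : G) * ·) h6
    simpa using this
  have hsurj : Function.Surjective f := Finite.surjective_of_injective hinj
  obtain ⟨c, hc⟩ := hsurj ⟨k, hk⟩
  exact ⟨c, c.2, congrArg Subtype.val hc⟩

include hKH' hfpf in
/-- elements outside `K` are `K`-conjugate into `H ∖ 1`. -/
theorem exists_conj {g : G} (hg : g ∉ K) : ∃ c ∈ K, ∃ h ∈ H, h ≠ 1 ∧ g = c * h * c⁻¹ := by
  obtain ⟨k, hk, h, hh, rfl⟩ := exists_decomp K H hKH' g
  have h1 : h ≠ 1 := by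
    rintro rfl
    apply hg
    simpa using hk
  obtain ⟨c, hc, hck⟩ := exists_comm_eq K H hfpf hh h1 hk
  refine ⟨c, hc, h, hh, h1, ?_⟩
  rw [← hck]
  group

include hKH in
theorem conj_not_mem {c h : G} (hh : h ∈ H) (h1 : h ≠ 1) : c * h * c⁻¹ ∉ K := by
  intro hmem
  have h2 : c⁻¹ * (c * h * c⁻¹) * c⁻¹⁻¹ ∈ K := hKn.conj_mem _ hmem c⁻¹
  have h3 : c⁻¹ * (c * h * c⁻¹) * c⁻¹⁻¹ = h := by group
  rw [h3] at h2
  have : h ∈ K ⊓ H := ⟨h2, hh⟩
  rw [hKH, Subgroup.mem_bot] at this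
  exact h1 this

include hKH hKH' hfpf in
/-- centralizers of nontrivial elements of `K` lie in `K`. -/
theorem mem_of_commute_K {x y : G} (hx : x ∈ K) (hx1 : x ≠ 1) (hxy : Commute x y) : y ∈ K := by
  by_contra hy
  obtain ⟨c, hc, h, hh, h1, rfl⟩ := exists_conj K H hKH' hfpf hy
  -- h commutes with c⁻¹ x c
  have h2 : h * (c⁻¹ * x * c) = (c⁻¹ * x * c) * h := by
    have e := hxy.eq
    have e1 : c⁻¹ * (x * (c * h * c⁻¹)) * c = (c⁻¹ * x * c) * h := by group
    have e2 : c⁻¹ * ((c * h * c⁻¹) * x) * c = h * (c⁻¹ * x * c) := by group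
    rw [← e1, ← e2, e]
  have h3 : c⁻¹ * x * c ∈ K := by
    have := hKn.conj_mem _ hx c⁻¹
    simpa using this
  have h4 := hfpf h hh h1 _ h3 h2
  apply hx1
  have : x = c * (c⁻¹ * x * c) * c⁻¹ := by group
  rw [this, h4]
  group

include hKH hKH' hfpf in
/-- centralizers of nontrivial elements of `H` lie in `H`. -/
theorem mem_of_commute_H {h g : G} (hh : h ∈ H) (h1 : h ≠ 1) (hhg : Commute h g) : g ∈ H := by
  obtain ⟨k, hk, h', hh', rfl⟩ := exists_decomp K H hKH' g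
  -- h k h' = k h' h  ⟹  (h k h⁻¹) (h h') = k (h' h)
  have e := hhg.eq
  have e1 : (h * k * h⁻¹) * (h * h') = k * (h' * h) := by
    have : h * (k * h') = (h * k * h⁻¹) * (h * h') := by group
    rw [← this, e]
    group
  obtain ⟨e2, -⟩ := decomp_unique K H hKH (hKn.conj_mem _ hk h) hk (H.mul_mem hh hh')
    (H.mul_mem hh' hh) e1
  have e3 : h * k = k * h := by
    have := congrArg (· * h) e2
    simpa [mul_assoc] using this
  have := hfpf h hh h1 k hk e3
  rw [this, one_mul]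
  exact hh'


include hKH hKH' hfpf in
theorem S_eq : S G = S ↥K + Nat.card K * S ↥H := by
  classical
  let Φ : {p : ↥K × ↥K // p.1 ≠ 1 ∧ Commute p.1 p.2} ⊕
      (↥K × {p : ↥H × ↥H // p.1 ≠ 1 ∧ Commute p.1 p.2}) →
      {p : G × G // p.1 ≠ 1 ∧ Commute p.1 p.2} := fun s =>
    match s with
    | Sum.inl q => ⟨((q.1.1 : G), (q.1.2 : G)), by
        refine ⟨fun h => q.2.1 (Subtype.ext h), ?_⟩
        have := q.2.2
        exact congrArg Subtype.val this.eq⟩
    | Sum.inr ⟨c, q⟩ => ⟨((c : G) * q.1.1 * (c : G)⁻¹, (c : G) * q.1.2 * (c : G)⁻¹), by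
        refine ⟨fun h => q.2.1 ?_, ?_⟩
        · apply Subtype.ext
          have h' : (c : G) * q.1.1 * (c : G)⁻¹ = 1 := h
          have h2 : ((q.1.1 : ↥H) : G) = (c : G)⁻¹ * ((c : G) * q.1.1 * (c : G)⁻¹) * c := by group
          rw [h2, h']
          simp
        · have e : ((q.1.1 : ↥H) : G) * (q.1.2 : G) = (q.1.2 : G) * (q.1.1 : G) :=
            congrArg Subtype.val q.2.2.eq
          show (c : G) * q.1.1 * (c : G)⁻¹ * ((c : G) * q.1.2 * (c : G)⁻¹) =
            (c : G) * q.1.2 * (c : G)⁻¹ * ((c : G) * q.1.1 * (c : G)⁻¹)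
          have e1 : (c : G) * q.1.1 * (c : G)⁻¹ * ((c : G) * q.1.2 * (c : G)⁻¹) =
              c * ((q.1.1 : G) * (q.1.2 : G)) * (c : G)⁻¹ := by group
          have e2 : (c : G) * q.1.2 * (c : G)⁻¹ * ((c : G) * q.1.1 * (c : G)⁻¹) =
              c * ((q.1.2 : G) * (q.1.1 : G)) * (c : G)⁻¹ := by group
          rw [e1, e2, e]⟩
  have hΦl : ∀ q, ((Φ (Sum.inl q)).1 : G × G) = ((q.1.1 : G), (q.1.2 : G)) := fun q => rfl
  have hΦr : ∀ c q, ((Φ (Sum.inr (c, q))).1 : G × G) =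
      ((c : G) * q.1.1 * (c : G)⁻¹, (c : G) * q.1.2 * (c : G)⁻¹) := fun c q => rfl
  have hinj : Function.Injective Φ := by
    rintro (q | ⟨c, q⟩) (q' | ⟨c', q'⟩) hqq
    · have h1 := congrArg Subtype.val hqq
      rw [hΦl, hΦl] at h1
      congr 1
      apply Subtype.ext
      apply Prod.ext
      · exact Subtype.ext (congrArg Prod.fst h1)
      · exact Subtype.ext (congrArg Prod.snd h1)
    · exfalso
      have h1 := congrArg Subtype.val hqq
      rw [hΦl, hΦr] at h1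
      have h2 : (q.1.1 : G) = (c' : G) * q'.1.1 * (c' : G)⁻¹ := congrArg Prod.fst h1
      have h3 := conj_not_mem K H hKH (c := (c' : G)) q'.1.1.2
        (fun h => q'.2.1 (Subtype.ext h))
      rw [← h2] at h3
      exact h3 q.1.1.2
    · exfalso
      have h1 := congrArg Subtype.val hqq
      rw [hΦl, hΦr] at h1
      have h2 : (c : G) * q.1.1 * (c : G)⁻¹ = (q'.1.1 : G) := congrArg Prod.fst h1
      have h3 := conj_not_mem K H hKH (c := (c : G)) q.1.1.2
        (fun h => q.2.1 (Subtype.ext h))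
      rw [h2] at h3
      exact h3 q'.1.1.2
    · have h1 := congrArg Subtype.val hqq
      rw [hΦr, hΦr] at h1
      have h2 : (c : G) * q.1.1 * (c : G)⁻¹ = (c' : G) * q'.1.1 * (c' : G)⁻¹ := congrArg Prod.fst h1
      have h3 : (c : G) * q.1.2 * (c : G)⁻¹ = (c' : G) * q'.1.2 * (c' : G)⁻¹ := congrArg Prod.snd h1
      -- (c'⁻¹ c) h = h' (c'⁻¹ c)
      set d : G := (c' : G)⁻¹ * c with hd
      have hdK : d ∈ K := K.mul_mem (K.inv_mem c'.2) c.2
      have h4 : d * (q.1.1 : G) * d⁻¹ = (q'.1.1 : G) := by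
        have : (c' : G)⁻¹ * ((c : G) * q.1.1 * (c : G)⁻¹) * c' =
            (c' : G)⁻¹ * ((c' : G) * q'.1.1 * (c' : G)⁻¹) * c' := by rw [h2]
        have e1 : (c' : G)⁻¹ * ((c : G) * q.1.1 * (c : G)⁻¹) * c' = d * (q.1.1 : G) * d⁻¹ := by
          rw [hd]; group
        have e2 : (c' : G)⁻¹ * ((c' : G) * q'.1.1 * (c' : G)⁻¹) * c' = (q'.1.1 : G) := by group
        rw [e1, e2] at this
        exact this
      -- d h = h' d  ⟹  d h = (h' d h'⁻¹) h'
      have h5 : d * (q.1.1 : G) = ((q'.1.1 : G) * d * (q'.1.1 : G)⁻¹) * (q'.1.1 : G) := by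
        have : d * (q.1.1 : G) = (q'.1.1 : G) * d := by
          rw [← h4]; group
        rw [this]; group
      obtain ⟨h6, h7⟩ := decomp_unique K H hKH hdK (hKn.conj_mem _ hdK _) q.1.1.2 q'.1.1.2 h5
      -- h = h', and d commutes with h
      have h8 : (q'.1.1 : G) * d = d * (q'.1.1 : G) := by
        have := congrArg (· * (q'.1.1 : G)) h6
        simpa [mul_assoc] using this.symm
      have h9 : d = 1 := hfpf _ q'.1.1.2 (fun h => q'.2.1 (Subtype.ext h)) d hdK h8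
      have h10 : (c : G) = c' := by
        have := congrArg ((c' : G) * ·) h9
        simpa [hd] using this
      have hc : c = c' := Subtype.ext h10
      subst hc
      have h11 : (q.1.1 : G) = q'.1.1 := h7
      have h12 : (q.1.2 : G) = q'.1.2 := by
        have := congrArg (fun z => (c : G)⁻¹ * z * c) h3
        simpa [mul_assoc] using this
      congr 2
      apply Subtype.ext
      apply Prod.ext
      · exact Subtype.ext h11
      · exact Subtype.ext h12
  have hsurj : Function.Surjective Φ := by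
    rintro ⟨⟨x, y⟩, hx1, hxy⟩
    by_cases hxK : x ∈ K
    · have hyK : y ∈ K := mem_of_commute_K K H hKH hKH' hfpf hxK hx1 hxy
      refine ⟨Sum.inl ⟨(⟨x, hxK⟩, ⟨y, hyK⟩), fun h => hx1 (congrArg Subtype.val h), ?_⟩, ?_⟩
      · exact Subtype.ext hxy.eq
      · apply Subtype.ext
        rw [hΦl]
    · obtain ⟨c, hc, h, hh, h1, rfl⟩ := exists_conj K H hKH' hfpf hxK
      -- c⁻¹ y c commutes with h
      have hcomm : Commute h (c⁻¹ * y * c) := by
        have e := hxy.eq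
        show h * (c⁻¹ * y * c) = (c⁻¹ * y * c) * h
        have e1 : h * (c⁻¹ * y * c) = c⁻¹ * ((c * h * c⁻¹) * y) * c := by group
        have e2 : (c⁻¹ * y * c) * h = c⁻¹ * (y * (c * h * c⁻¹)) * c := by group
        rw [e1, e2, e]
      have hyH : c⁻¹ * y * c ∈ H := mem_of_commute_H K H hKH hKH' hfpf hh h1 hcomm
      refine ⟨Sum.inr (⟨c, hc⟩, ⟨(⟨h, hh⟩, ⟨c⁻¹ * y * c, hyH⟩),
        fun h' => h1 (congrArg Subtype.val h'), Subtype.ext hcomm.eq⟩), ?_⟩
      apply Subtype.ext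
      rw [hΦr]
      apply Prod.ext
      · rfl
      · show c * (c⁻¹ * y * c) * c⁻¹ = y
        group
  have e := Nat.card_congr (Equiv.ofBijective Φ ⟨hinj, hsurj⟩)
  rw [Nat.card_sum, Nat.card_prod] at e
  exact e.symm

end

/-- Class number of a Frobenius group: if G = K H with K normal, K ⊓ H trivial and no non-identity element of H commuting with a non-identity element of K, then |H| * k(G) + 1 = |H| * k(H) + k(K), where k denotes the number of conjugacy classes. -/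
theorem result {G : Type*} [Group G] [Finite G] (K H : Subgroup G) [K.Normal] (hKH : K ⊓ H = ⊥) (hKH' : K ⊔ H = ⊤) (hfpf : ∀ h ∈ H, h ≠ 1 → ∀ k ∈ K, h * k = k * h → k = 1) : Nat.card H * Nat.card (ConjClasses G) + 1 = Nat.card H * Nat.card (ConjClasses H) + Nat.card (ConjClasses K) := by
  have hG := classes_mul_card G
  have hK := classes_mul_card ↥K
  have hH := classes_mul_card ↥H
  have hS := S_eq K H hKH hKH' hfpf
  have hcard : Nat.card G = Nat.card K * Nat.card H := by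
    have hcompl : Subgroup.IsComplement' K H := Subgroup.isComplement'_of_disjoint_and_mul_eq_univ
      (disjoint_iff.mpr hKH) (by rw [← Subgroup.normal_mul, hKH']; rfl)
    exact hcompl.card_mul.symm
  have hKpos : 0 < Nat.card K := Nat.card_pos
  apply Nat.eq_of_mul_eq_mul_left hKpos
  -- |K| (|H| k(G) + 1) = |K| (|H| k(H) + k(K))
  have h1 : Nat.card K * (Nat.card H * Nat.card (ConjClasses G) + 1) =
      Nat.card (ConjClasses G) * Nat.card G + Nat.card K := by
    rw [hcard]; ring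
  have h2 : Nat.card K * (Nat.card H * Nat.card (ConjClasses H) + Nat.card (ConjClasses K)) =
      Nat.card K * (Nat.card (ConjClasses H) * Nat.card H) + Nat.card (ConjClasses K) * Nat.card K := by
    ring
  rw [h1, h2, hG, hK, hH, hS, hcard]
  ring


end Cfsg.Agent.S0172
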