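import Cfsg.Statements.S0180
import Mathlib
import Cfsg.Agent.Helper6.GaloisChar
import Cfsg.Agent.Helper6.IrrCount
-- import your own Cfsg.Agent.* helpers here

set_option autoImplicit false
open Cfsg

namespace Cfsg.Agent.S0180

/-- Every irreducible complex character of a finite group takes only rational values if and only if g is conjugate to g ^ m for every element g and every m coprime to the group order. -/
theorem result {G : Type*} [Group G] [Finite G] : (∀ χ : Cfsg.IrrCharacter G, ∀ g : G, ∃ q : ℚ, (χ : G → ℂ) g = (q : ℂ)) ↔ ∀ m : ℕ, m.Coprime (Nat.card G) → ∀ g : G, IsConj g (g ^ m) := by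
  constructor
  · intro h m hm g
    rw [Cfsg.Agent.Helper6.isConj_iff_forall_irr]
    intro χ
    obtain ⟨n, ρ, hirr, hρ⟩ := χ.2
    have h1 := (Cfsg.Agent.Helper6.char_rational_iff ρ g).mp (by rw [hρ]; exact h χ g) m hm
    rw [← hρ]
    exact h1.symm
  · intro h χ g
    obtain ⟨n, ρ, hirr, hρ⟩ := χ.2
    rw [← hρ]
    apply (Cfsg.Agent.Helper6.char_rational_iff ρ g).mpr
    intro m hm
    rw [hρ]
    exact ((Cfsg.Agent.Helper6.isConj_iff_forall_irr g (g ^ m)).mp (h m hm g) χ).symm

end Cfsg.Agent.S0180
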