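import Cfsg.Statements.S0184
import Mathlib
import Cfsg.Agent.Helper6.FaithfulIrr
-- import your own Cfsg.Agent.* helpers here

set_option autoImplicit false
open Cfsg

namespace Cfsg.Agent.S0184

/-- A finite p-group admits a faithful irreducible complex representation if and only if its centre is cyclic. -/
theorem result {G : Type*} [Group G] [Finite G] (p : ℕ) [Fact p.Prime] (hG : IsPGroup p G) : (∃ (n : ℕ) (ρ : Representation ℂ G (Fin n → ℂ)), ρ.IsIrreducible ∧ Function.Injective ρ) ↔ IsCyclic (Subgroup.center G) := by
  classical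
  have hp : p.Prime := Fact.out
  constructor
  · rintro ⟨n, ρ, hirr, hinj⟩
    haveI := hirr
    exact Cfsg.Agent.Helper6.isCyclic_center_of_faithful_irr ρ hinj
  · intro hcyc
    rcases subsingleton_or_nontrivial G with hsub | hnt
    · refine ⟨1, Cfsg.Agent.Helper6.linRep (1 : G →* ℂˣ), ?_, ?_⟩
      · apply Cfsg.Agent.Helper6.isIrreducible_of_finrank_eq_one
        simp
      · intro a b _
        exact Subsingleton.elim a b
    · haveI : Nontrivial (Subgroup.center G) := hG.center_nontrivial
      have hZp : IsPGroup p (Subgroup.center G) := hG.to_subgroup _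
      obtain ⟨m, hm, hcardZ⟩ := hZp.nontrivial_iff_card.mp inferInstance
      have hdvdZ : p ∣ Nat.card (Subgroup.center G) := by
        rw [hcardZ]; exact dvd_pow_self p hm.ne'
      obtain ⟨z', hz'⟩ := exists_prime_orderOf_dvd_card' p hdvdZ
      have hz1 : (z' : G) ≠ 1 := by
        intro h
        have : z' = 1 := Subtype.ext h
        rw [this, orderOf_one] at hz'
        exact hp.one_lt.ne hz'
      obtain ⟨n, ρ, hirr, hρz⟩ := Cfsg.Agent.Helper6.exists_irr_rep_ne_one (z' : G) hz1
      refine ⟨n, ρ, hirr, ?_⟩
      rw [injective_iff_map_eq_one]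
      intro a ha
      by_contra ha1
      apply hρz
      have hN : (MonoidHom.ker ρ) ≠ ⊥ := by
        intro h
        have : a ∈ MonoidHom.ker ρ := ha
        rw [h, Subgroup.mem_bot] at this
        exact ha1 this
      obtain ⟨b, hbN, hbZ, hb1⟩ :=
        Cfsg.Agent.Helper6.exists_mem_center_of_normal_ne_bot p hG (MonoidHom.ker ρ) hN
      set N' : Subgroup (Subgroup.center G) := (MonoidHom.ker ρ).subgroupOf (Subgroup.center G)
        with hN'
      have hN'p : IsPGroup p N' := hZp.to_subgroup _
      haveI : Nontrivial N' := by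
        refine ⟨⟨⟨⟨b, hbZ⟩, ?_⟩, 1, ?_⟩⟩
        · rw [hN', Subgroup.mem_subgroupOf]; exact hbN
        · intro h
          apply hb1
          have := congrArg (fun t : N' => ((t : Subgroup.center G) : G)) h
          simpa using this
      obtain ⟨k, hk, hcardN⟩ := hN'p.nontrivial_iff_card.mp inferInstance
      have hdvdN : p ∣ Nat.card N' := by
        rw [hcardN]; exact dvd_pow_self p hk.ne'
      obtain ⟨y, hy⟩ := exists_prime_orderOf_dvd_card' p hdvdN
      have hyo : orderOf (y : Subgroup.center G) = p := by
        rw [Subgroup.orderOf_coe]; exact hy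
      have hZcard : Nat.card (Subgroup.zpowers (y : Subgroup.center G)) = p := by
        rw [Nat.card_zpowers, hyo]
      have hz'p : z' ^ p = 1 := by rw [← hz']; exact pow_orderOf_eq_one _
      have hmem := Cfsg.Agent.Helper6.mem_of_pow_eq_one_of_card_eq
        (Subgroup.zpowers (y : Subgroup.center G)) p hp.pos hZcard z' hz'p
      have hle : Subgroup.zpowers (y : Subgroup.center G) ≤ N' := by
        rw [Subgroup.zpowers_le]; exact y.2
      have : z' ∈ N' := hle hmem
      rw [hN', Subgroup.mem_subgroupOf] at this
      exact this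

end Cfsg.Agent.S0184
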