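import Cfsg.Statements.S0191
import Mathlib
import Cfsg.Agent.Helper6.GaloisChar
-- import your own Cfsg.Agent.* helpers here

set_option autoImplicit false
open Cfsg

namespace Cfsg.Agent.S0191

/-- An irreducible complex representation of a finite group of degree greater than 1 has a character that vanishes somewhere. -/
theorem result {G : Type*} [Group G] [Finite G] {V : Type*} [AddCommGroup V] [Module ℂ V] [FiniteDimensional ℂ V] (ρ : Representation ℂ G V) [ρ.IsIrreducible] (hdeg : 1 < Module.finrank ℂ V) : ∃ g : G, ρ.character g = 0 := by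
  classical
  by_contra hcon
  push Not at hcon
  haveI := Fintype.ofFinite G
  have hχ : Cfsg.IsIrrCharacter G ρ.character :=
    Cfsg.Agent.Helper6.isIrrCharacter_of_rep ρ inferInstance
  have hsum := Cfsg.Agent.Helper6.sum_norm_sq_irr hχ
  -- apply Burnside's inequality to the complement of the trivial subgroup
  set S : Finset G := Finset.univ.erase 1 with hS
  have hclosed : ∀ g ∈ S, ∀ m : ℕ, m.Coprime (Nat.card G) → g ^ m ∈ S := by
    intro g hg m hm
    rw [hS, Finset.mem_erase] at hg ⊢
    refine ⟨?_, Finset.mem_univ _⟩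
    intro h1
    have := Cfsg.Agent.Helper6.pow_coprime_not_mem (⊥ : Subgroup G) g
      (fun h => hg.1 (Subgroup.mem_bot.mp h)) m hm
    exact this (Subgroup.mem_bot.mpr h1)
  have hB := Cfsg.Agent.Helper6.burnside_amgm ρ S hclosed
  have hfilter : S.filter (fun g => ρ.character g ≠ 0) = S := by
    apply Finset.filter_true_of_mem
    intro g _
    exact hcon g
  rw [hfilter] at hB
  have hcard : (S.card : ℝ) = (Nat.card G : ℝ) - 1 := by
    rw [hS, Finset.card_erase_of_mem (Finset.mem_univ _), Finset.card_univ,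
      Nat.card_eq_fintype_card]
    have : 1 ≤ Fintype.card G := Fintype.card_pos
    push_cast [Nat.cast_sub this]
    ring
  have hsplit : ∑ g : G, ‖ρ.character g‖ ^ 2 =
      ‖ρ.character 1‖ ^ 2 + ∑ g ∈ S, ‖ρ.character g‖ ^ 2 := by
    rw [hS]
    exact (Finset.add_sum_erase Finset.univ (fun g => ‖ρ.character g‖ ^ 2)
      (Finset.mem_univ (1 : G))).symm
  have hdeg' : ‖ρ.character 1‖ ^ 2 = (Module.finrank ℂ V : ℝ) ^ 2 := by
    rw [Representation.char_one, Complex.norm_natCast]
  have h2 : (2 : ℝ) ≤ (Module.finrank ℂ V : ℝ) := by exact_mod_cast hdeg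
  rw [hsplit, hdeg'] at hsum
  nlinarith

end Cfsg.Agent.S0191
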