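import Cfsg.Statements.S0192
import Mathlib
import Cfsg.Agent.Helper6.Invariants
import Cfsg.Agent.Helper6.OddReal
import Cfsg.Agent.Helper6.CharBasic
-- import your own Cfsg.Agent.* helpers here

set_option autoImplicit false
open Cfsg

namespace Cfsg.Agent.S0192

/-- Brauer's generation criterion. Let G be a finite simple group, H₁ and H₂ subgroups, and χ a non-principal irreducible character. If the multiplicity of the principal character in χ restricted to H₁ ⊓ H₂ is less than the sum of the corresponding multiplicities for H₁ and H₂, then H₁ and H₂ do not generate G. -/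
theorem result {G : Type*} [Group G] [Fintype G] [IsSimpleGroup G] (H₁ H₂ : Subgroup G) [Fintype H₁] [Fintype H₂] [Fintype ↥(H₁ ⊓ H₂)] (χ : G → ℂ) (hχ : Cfsg.IsIrrCharacter G χ) (hχ1 : χ ≠ fun _ => 1) (hlt : (Cfsg.classInner (fun x : ↥(H₁ ⊓ H₂) => χ x) (fun _ => 1)).re < (Cfsg.classInner (fun x : H₁ => χ x) (fun _ => 1)).re + (Cfsg.classInner (fun x : H₂ => χ x) (fun _ => 1)).re) : H₁ ⊔ H₂ ≠ ⊤ := by
  classical
  intro htop
  obtain ⟨n, ρ, hirr, rfl⟩ := hχ
  have hχirr : Cfsg.IsIrrCharacter G ρ.character := ⟨n, ρ, hirr, rfl⟩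
  -- invariants of the whole group are trivial
  have hG0 : Module.finrank ℂ (Representation.invariants ρ) = 0 := by
    have h1 := Cfsg.Agent.Helper6.classInner_one_eq_finrank_invariants ρ
    rw [Cfsg.Agent.Helper6.classInner_irr_ne hχirr Cfsg.Agent.Helper6.isIrrCharacter_one hχ1] at h1
    exact_mod_cast h1.symm
  have hGbot : Representation.invariants ρ = ⊥ := Submodule.finrank_eq_zero.mp hG0
  set ρ₁ : Representation ℂ H₁ (Fin n → ℂ) := ρ.comp H₁.subtype with hρ₁
  set ρ₂ : Representation ℂ H₂ (Fin n → ℂ) := ρ.comp H₂.subtype with hρ₂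
  set ρ₁₂ : Representation ℂ ↥(H₁ ⊓ H₂) (Fin n → ℂ) := ρ.comp (H₁ ⊓ H₂).subtype with hρ₁₂
  have e1 : Cfsg.classInner (fun x : H₁ => ρ.character x) (fun _ => 1) =
      (Module.finrank ℂ (Representation.invariants ρ₁) : ℂ) :=
    Cfsg.Agent.Helper6.classInner_one_eq_finrank_invariants ρ₁
  have e2 : Cfsg.classInner (fun x : H₂ => ρ.character x) (fun _ => 1) =
      (Module.finrank ℂ (Representation.invariants ρ₂) : ℂ) :=
    Cfsg.Agent.Helper6.classInner_one_eq_finrank_invariants ρ₂
  have e12 : Cfsg.classInner (fun x : ↥(H₁ ⊓ H₂) => ρ.character x) (fun _ => 1) =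
      (Module.finrank ℂ (Representation.invariants ρ₁₂) : ℂ) :=
    Cfsg.Agent.Helper6.classInner_one_eq_finrank_invariants ρ₁₂
  rw [e1, e2, e12] at hlt
  simp only [Complex.natCast_re] at hlt
  have hinf : Representation.invariants ρ₁ ⊓ Representation.invariants ρ₂ = ⊥ := by
    rw [eq_bot_iff, ← hGbot]
    intro v hv
    rw [Submodule.mem_inf] at hv
    let K : Subgroup G :=
      { carrier := {g | ρ g v = v}
        mul_mem' := by
          intro a b ha hb
          show ρ (a * b) v = v
          rw [map_mul, Module.End.mul_apply, show ρ b v = v from hb, show ρ a v = v from ha]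
        one_mem' := by
          show ρ 1 v = v
          rw [map_one, Module.End.one_apply]
        inv_mem' := by
          intro a ha
          show ρ a⁻¹ v = v
          have h1 : ρ a v = v := ha
          calc ρ a⁻¹ v = ρ a⁻¹ (ρ a v) := by rw [h1]
            _ = (ρ a⁻¹ * ρ a) v := rfl
            _ = v := by rw [← map_mul, inv_mul_cancel, map_one, Module.End.one_apply] }
    have hK1 : H₁ ≤ K := fun g hg => hv.1 ⟨g, hg⟩
    have hK2 : H₂ ≤ K := fun g hg => hv.2 ⟨g, hg⟩
    have hK : (⊤ : Subgroup G) ≤ K := htop ▸ sup_le hK1 hK2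
    intro g
    exact hK (Subgroup.mem_top g)
  have hsup : Representation.invariants ρ₁ ⊔ Representation.invariants ρ₂ ≤
      Representation.invariants ρ₁₂ := by
    apply sup_le
    · intro v hv g
      exact hv ⟨g.1, g.2.1⟩
    · intro v hv g
      exact hv ⟨g.1, g.2.2⟩
  have hdim := Submodule.finrank_sup_add_finrank_inf_eq (Representation.invariants ρ₁)
    (Representation.invariants ρ₂)
  rw [hinf, finrank_bot, add_zero] at hdim
  have hle := Submodule.finrank_mono hsup
  rw [hdim] at hle
  have : ((Module.finrank ℂ (Representation.invariants ρ₁) +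
      Module.finrank ℂ (Representation.invariants ρ₂) : ℕ) : ℝ) ≤
      (Module.finrank ℂ (Representation.invariants ρ₁₂) : ℝ) := by exact_mod_cast hle
  push_cast at this
  linarith

end Cfsg.Agent.S0192
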