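import Cfsg.Statements.S0196
import Mathlib
-- import your own Cfsg.Agent.* helpers here

set_option autoImplicit false
open Cfsg

namespace Cfsg.Agent.S0196

/-- Let A be a subgroup of a finite group G that equals the centralizer of each of its non-identity elements, and let N be its normalizer. Then the index of A in N divides |A| − 1 (N/A permutes the non-identity elements of A in orbits of full length). -/
theorem result {G : Type*} [Group G] [Finite G] (A : Subgroup G) (hA : ∀ x ∈ A, x ≠ 1 → Subgroup.centralizer ({x} : Set G) = A) : (A.subgroupOf (Subgroup.normalizer (A : Set G))).index ∣ Nat.card A - 1 := by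
  classical
  let X := {x : G // x ∈ A ∧ x ≠ 1}
  letI : MulAction (Subgroup.normalizer (A : Set G)) X :=
    { smul := fun n x => ⟨(n : G) * x.1 * (n : G)⁻¹,
        (Subgroup.mem_normalizer_iff.mp n.2 x.1).mp x.2.1, by
          intro h
          apply x.2.2
          have : x.1 = (n : G)⁻¹ * ((n : G) * x.1 * (n : G)⁻¹) * (n : G) := by group
          rw [this, h]
          group⟩
      one_smul := by
        intro x
        apply Subtype.ext
        show ((1 : Subgroup.normalizer (A : Set G)) : G) * x.1 *
          ((1 : Subgroup.normalizer (A : Set G)) : G)⁻¹ = x.1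
        simp
      mul_smul := by
        intro a b x
        apply Subtype.ext
        show ((a * b : Subgroup.normalizer (A : Set G)) : G) * x.1 *
          ((a * b : Subgroup.normalizer (A : Set G)) : G)⁻¹ =
          (a : G) * ((b : G) * x.1 * (b : G)⁻¹) * (a : G)⁻¹
        simp only [Subgroup.coe_mul, mul_inv_rev]
        group }
  have hsmul : ∀ (n : Subgroup.normalizer (A : Set G)) (x : X),
      ((n • x : X) : G) = (n : G) * x.1 * (n : G)⁻¹ := fun _ _ => rfl
  have hstab : ∀ x : X, MulAction.stabilizer (Subgroup.normalizer (A : Set G)) x =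
      A.subgroupOf (Subgroup.normalizer (A : Set G)) := by
    intro x
    ext n
    have hmem : (n : G) ∈ A ↔ (n : G) ∈ Subgroup.centralizer ({x.1} : Set G) := by
      rw [hA x.1 x.2.1 x.2.2]
    rw [MulAction.mem_stabilizer_iff, Subgroup.mem_subgroupOf, hmem,
      Subgroup.mem_centralizer_iff]
    constructor
    · intro h y hy
      rw [Set.mem_singleton_iff] at hy
      subst hy
      have := congrArg Subtype.val h
      rw [hsmul] at this
      calc x.1 * (n : G) = ((n : G) * x.1 * (n : G)⁻¹) * n := by rw [this]
        _ = n * x.1 := by group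
    · intro h
      apply Subtype.ext
      rw [hsmul]
      have := h x.1 (Set.mem_singleton _)
      rw [← this]
      group
  have hcardX : Nat.card X = Nat.card A - 1 := by
    have e : X ≃ {a : A // a ≠ 1} :=
      { toFun := fun x => ⟨⟨x.1, x.2.1⟩, fun h => x.2.2 (congrArg Subtype.val h)⟩
        invFun := fun a => ⟨a.1.1, a.1.2, fun h => a.2 (Subtype.ext h)⟩
        left_inv := fun x => rfl
        right_inv := fun a => rfl }
    rw [Nat.card_congr e]
    haveI : Fintype A := Fintype.ofFinite A
    rw [Nat.card_eq_fintype_card, Nat.card_eq_fintype_card, Fintype.card_subtype_compl,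
      Fintype.card_subtype_eq]
  rw [← hcardX]
  haveI : Fintype (MulAction.orbitRel.Quotient (Subgroup.normalizer (A : Set G)) X) :=
    Fintype.ofFinite _
  rw [Nat.card_congr (MulAction.selfEquivSigmaOrbitsQuotientStabilizer
    (Subgroup.normalizer (A : Set G)) X), Nat.card_sigma]
  apply Finset.dvd_sum
  intro ω _
  rw [hstab]
  exact dvd_of_eq rfl

end Cfsg.Agent.S0196
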