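import Mathlib
import Cfsg.Statements.S0203
import Cfsg.Agent.Helper2.KleinSylow2

set_option autoImplicit false
open Cfsg

namespace Cfsg.Agent.S0203

open Cfsg.Agent.Helper2

/-- If a Sylow 2-subgroup P of a finite group G is a Klein four-group, then G has three classes of involutions if and only if P has a normal complement in G. -/
theorem result {G : Type*} [Group G] [Finite G] (P : Sylow 2 G) (hP : IsKleinFour (P : Subgroup G)) : Nat.card {C : ConjClasses G // ∃ t : G, orderOf t = 2 ∧ ConjClasses.mk t = C} = 3 ↔ ∃ N : Subgroup G, N.Normal ∧ Subgroup.IsComplement' N (P : Subgroup G) := by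
  obtain ⟨a, b, ha, hb, ha1, hb1, hab, -, h3⟩ := klein_classes P hP
  rw [h3]
  have hcomm : ∀ u ∈ (P : Subgroup G), ∀ v ∈ (P : Subgroup G), u * v = v * u :=
    fun u hu v hv => klein_comm _ hP hu hv
  constructor
  · rintro ⟨h1, h2, h3'⟩
    have hle : Subgroup.normalizer ((P : Subgroup G) : Set G) ≤
        Subgroup.centralizer ((P : Subgroup G) : Set G) := by
      intro n hn
      have hnP : ∀ u ∈ (P : Subgroup G), n * u * n⁻¹ ∈ (P : Subgroup G) := fun u hu =>
        (Subgroup.mem_normalizer_iff.mp hn u).mp hu
      have hna : n * a * n⁻¹ = a := by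
        have hconj : IsConj a (n * a * n⁻¹) := isConj_iff.mpr ⟨n, rfl⟩
        rcases klein_mem_cases _ hP ha hb ha1 hb1 hab (hnP a ha) with h | h | h | h
        · exfalso; apply ha1
          calc a = n⁻¹ * (n * a * n⁻¹) * n := by group
            _ = 1 := by rw [h]; group
        · exact h
        · rw [h] at hconj; exact absurd hconj h1
        · rw [h] at hconj; exact absurd hconj h2
      have hnb : n * b * n⁻¹ = b := by
        have hconj : IsConj b (n * b * n⁻¹) := isConj_iff.mpr ⟨n, rfl⟩
        rcases klein_mem_cases _ hP ha hb ha1 hb1 hab (hnP b hb) with h | h | h | h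
        · exfalso; apply hb1
          calc b = n⁻¹ * (n * b * n⁻¹) * n := by group
            _ = 1 := by rw [h]; group
        · rw [h] at hconj; exact absurd hconj.symm h1
        · exact h
        · rw [h] at hconj; exact absurd hconj h3'
      have hna' : a * n = n * a := by
        calc a * n = (n * a * n⁻¹) * n := by rw [hna]
          _ = n * a := by group
      have hnb' : b * n = n * b := by
        calc b * n = (n * b * n⁻¹) * n := by rw [hnb]
          _ = n * b := by group
      rw [Subgroup.mem_centralizer_iff]
      intro u hu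
      rcases klein_mem_cases _ hP ha hb ha1 hb1 hab hu with h | h | h | h
      · rw [h]; simp
      · rw [h]; exact hna'
      · rw [h]; exact hnb'
      · rw [h]
        calc a * b * n = a * (b * n) := by group
          _ = a * (n * b) := by rw [hnb']
          _ = (a * n) * b := by group
          _ = n * a * b := by rw [hna']
          _ = n * (a * b) := by group
    exact ⟨_, inferInstance, MonoidHom.ker_transferSylow_isComplement' P hle⟩
  · rintro ⟨N, hN, hc⟩
    have key : ∀ x ∈ (P : Subgroup G), ∀ y ∈ (P : Subgroup G), IsConj x y → x = y := by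
      intro x hx y hy hxy
      obtain ⟨g, hg⟩ := isConj_iff.mp hxy
      obtain ⟨⟨n, p⟩, hnp, -⟩ := (Subgroup.IsComplement.existsUnique hc g)
      simp only at hnp
      have hy' : y = n.1 * x * n.1⁻¹ := by
        rw [← hg, ← hnp]
        calc n.1 * p.1 * x * (n.1 * p.1)⁻¹ = n.1 * (p.1 * x) * p.1⁻¹ * n.1⁻¹ := by group
          _ = n.1 * (x * p.1) * p.1⁻¹ * n.1⁻¹ := by rw [hcomm _ p.2 _ hx]
          _ = n.1 * x * n.1⁻¹ := by group
      have hN1 : y * x⁻¹ ∈ N := by
        rw [hy']
        have : x * n.1⁻¹ * x⁻¹ ∈ N := hN.conj_mem _ (N.inv_mem n.2) x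
        have := N.mul_mem n.2 this
        convert this using 1
        group
      have hP1 : y * x⁻¹ ∈ (P : Subgroup G) := Subgroup.mul_mem _ hy (Subgroup.inv_mem _ hx)
      have h1 : y * x⁻¹ = 1 := by
        have hd := hc.disjoint
        rw [Subgroup.disjoint_def] at hd
        exact hd hN1 hP1
      exact (mul_inv_eq_one.mp h1).symm
    have hc' : a * b ∈ (P : Subgroup G) := Subgroup.mul_mem _ ha hb
    refine ⟨fun h => hab (key a ha b hb h), fun h => ?_, fun h => ?_⟩
    · have := key a ha _ hc' h
      apply hb1
      calc b = a⁻¹ * (a * b) := by group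
        _ = 1 := by rw [← this]; group
    · have := key b hb _ hc' h
      apply ha1
      calc a = (a * b) * b⁻¹ := by group
        _ = 1 := by rw [← this]; group

end Cfsg.Agent.S0203
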