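import Mathlib
import Cfsg.Statements.S0207
import Cfsg.Agent.Helper2.Dihedral

set_option autoImplicit false
open Cfsg

namespace Cfsg.Agent.S0207

open Cfsg.Agent.Helper2

/-- If x, y are distinct involutions, every element of the subgroup they generate that lies outside the cyclic subgroup generated by xy is an involution. -/
theorem result {G : Type*} [Group G] [Finite G] (x y : G) (hx : orderOf x = 2) (hy : orderOf y = 2) (hxy : x ≠ y) (d : G) (hd : d ∈ Subgroup.closure ({x, y} : Set G)) (hd' : d ∉ Subgroup.zpowers (x * y)) : orderOf d = 2 := by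
  have hxx := mul_self_of_orderOf_two hx
  have hyy := mul_self_of_orderOf_two hy
  obtain ⟨i, hi | hi⟩ := mem_closure_pair_invol hxx hyy hd
  · exact absurd (hi ▸ Subgroup.zpow_mem_zpowers _ i) hd'
  · apply orderOf_two_of_mul_self
    · rw [hi]
      calc x * (x * y) ^ i * (x * (x * y) ^ i) = x * ((x * y) ^ i * x) * (x * y) ^ i := by group
        _ = x * (x * (x * y) ^ (-i)) * (x * y) ^ i := by rw [zpow_mul_invol hxx hyy]
        _ = (x * x) * ((x * y) ^ (-i) * (x * y) ^ i) := by group
        _ = 1 := by rw [hxx, one_mul, ← zpow_add, neg_add_cancel, zpow_zero]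
    · rintro rfl
      exact hd' (Subgroup.one_mem _)

end Cfsg.Agent.S0207
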