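import Mathlib
import Cfsg.Statements.S0210
import Cfsg.Agent.Helper2.Dihedral

set_option autoImplicit false
open Cfsg

namespace Cfsg.Agent.S0210

open Cfsg.Agent.Helper2

/-- If x, y are involutions whose product has even order, no element of the subgroup generated by x and y conjugates x to y. -/
theorem result {G : Type*} [Group G] [Finite G] (x y : G) (hx : orderOf x = 2) (hy : orderOf y = 2) (heven : Even (orderOf (x * y))) (d : G) (hd : d ∈ Subgroup.closure ({x, y} : Set G)) : d * x * d⁻¹ ≠ y := by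
  have hxx := mul_self_of_orderOf_two hx
  have hyy := mul_self_of_orderOf_two hy
  intro hcon
  obtain ⟨i, hi⟩ := conj_closure_pair_invol hxx hyy hd
  rw [hcon] at hi
  -- y = x * (x*y)^(2i), so (x*y)^1 = (x*y)^(2i)
  have h1 : (x * y) ^ (1 : ℤ) = (x * y) ^ (2 * i) := by
    have := congrArg (fun t => x * t) hi
    simp only [← mul_assoc, hxx, one_mul] at this
    rw [zpow_one]; exact this
  rw [zpow_eq_zpow_iff_modEq] at h1
  obtain ⟨m, hm⟩ := heven
  have h2 : (2 : ℤ) ∣ (orderOf (x * y) : ℤ) := ⟨m, by rw [hm]; push_cast; ring⟩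
  have h3 := (Int.ModEq.dvd h1)
  have h4 : (2 : ℤ) ∣ 2 * i - 1 := dvd_trans h2 h3
  omega

end Cfsg.Agent.S0210
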