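import Mathlib
import Cfsg.Statements.S0211
import Cfsg.Agent.Helper2.Dihedral

set_option autoImplicit false
open Cfsg

namespace Cfsg.Agent.S0211

open Cfsg.Agent.Helper2

/-- Let x, y be involutions with xy of even order n and z = (xy)^(n/2). Then xz is conjugate to x by an element of the subgroup generated by x, y if and only if 4 divides n. -/
theorem result {G : Type*} [Group G] [Finite G] (x y : G) (hx : orderOf x = 2) (hy : orderOf y = 2) (heven : Even (orderOf (x * y))) : (∃ d ∈ Subgroup.closure ({x, y} : Set G), d * x * d⁻¹ = x * (x * y) ^ (orderOf (x * y) / 2)) ↔ 4 ∣ orderOf (x * y) := by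
  have hxx := mul_self_of_orderOf_two hx
  have hyy := mul_self_of_orderOf_two hy
  obtain ⟨m, hm⟩ := heven
  have hm' : orderOf (x * y) = 2 * m := by rw [hm]; ring
  have hpos : 0 < orderOf (x * y) := orderOf_pos _
  have hmpos : 0 < m := by omega
  have hdiv : orderOf (x * y) / 2 = m := by omega
  rw [hdiv]
  constructor
  · rintro ⟨d, hd, hcon⟩
    obtain ⟨i, hi⟩ := conj_closure_pair_invol hxx hyy hd
    rw [hcon] at hi
    have h1 : (x * y) ^ (m : ℤ) = (x * y) ^ (2 * i) := by
      have := mul_left_cancel hi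
      rw [zpow_natCast]; exact this
    rw [zpow_eq_zpow_iff_modEq, hm'] at h1
    have h3 := (Int.ModEq.dvd h1)
    push_cast at h3
    have h4 : (2 : ℤ) ∣ 2 * i - m := dvd_trans ⟨(m : ℤ), rfl⟩ h3
    have h5 : (2 : ℤ) ∣ (m : ℤ) := by omega
    have h6 : 2 ∣ m := by exact_mod_cast h5
    rw [hm']
    obtain ⟨k, hk⟩ := h6
    exact ⟨k, by rw [hk]; ring⟩
  · intro h4
    rw [hm'] at h4
    have h2 : 2 ∣ m := by omega
    obtain ⟨k, hk⟩ := h2
    refine ⟨(y * x) ^ k, ?_, ?_⟩
    · apply Subgroup.pow_mem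
      exact Subgroup.mul_mem _ (Subgroup.subset_closure (by simp)) (Subgroup.subset_closure (by simp))
    · rw [hk, invol_mul_pow_even hxx hyy k]

end Cfsg.Agent.S0211
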