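import Mathlib
import Cfsg.Statements.S0218
import Cfsg.Agent.Helper2.Invol

set_option autoImplicit false
open Cfsg

namespace Cfsg.Agent.S0218

open Cfsg.Agent.Helper2

theorem aux (N : ℕ) (hNpos : 0 < N) : Nat.card {x : QuaternionGroup N // orderOf x = 2} = 1 := by
  have : NeZero N := ⟨hNpos.ne'⟩
  have : NeZero (2 * N) := ⟨by omega⟩
  have hN0 : ((N : ℕ) : ZMod (2 * N)) ≠ 0 := by
    rw [Ne, ZMod.natCast_eq_zero_iff]
    intro hd
    have := Nat.le_of_dvd hNpos hd
    omega
  have hNN : ((N : ℕ) : ZMod (2 * N)) + (N : ℕ) = 0 := by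
    have : ((2 * N : ℕ) : ZMod (2 * N)) = 0 := ZMod.natCast_self (2 * N)
    rw [← this]; push_cast; ring
  rw [Nat.card_eq_one_iff_exists]
  refine ⟨⟨QuaternionGroup.a (N : ℕ), ?_⟩, ?_⟩
  · apply orderOf_two_of_mul_self
    · rw [QuaternionGroup.a_mul_a, hNN, QuaternionGroup.a_zero]
    · rw [QuaternionGroup.one_def]
      intro h
      exact hN0 (QuaternionGroup.a.inj h)
  · rintro ⟨y, hy⟩
    apply Subtype.ext
    show y = QuaternionGroup.a (N : ℕ)
    cases y with
    | a i =>
      have h1 := mul_self_of_orderOf_two hy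
      rw [QuaternionGroup.a_mul_a, QuaternionGroup.one_def] at h1
      have h2 : i + i = 0 := QuaternionGroup.a.inj h1
      have h3 : i ≠ 0 := by
        rintro rfl
        rw [QuaternionGroup.a_zero] at hy
        simp at hy
      congr 1
      -- i.val + i.val ≡ 0 mod 2N, 0 < i.val < 2N
      have h4 : (i + i).val = 0 := by rw [h2]; exact ZMod.val_zero
      rw [ZMod.val_add] at h4
      have h5 : i.val < 2 * N := ZMod.val_lt i
      have h6 : i.val ≠ 0 := fun h => h3 ((ZMod.val_eq_zero i).mp h)
      have h7 : i.val = N := by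
        have hd : 2 * N ∣ i.val + i.val := Nat.dvd_of_mod_eq_zero h4
        obtain ⟨q, hq⟩ := hd
        have hq1 : q = 1 := by
          rcases q with _ | _ | q
          · omega
          · rfl
          · exfalso
            have h9 : 2 * N * 2 ≤ 2 * N * (q + 1 + 1) := Nat.mul_le_mul_left _ (by omega)
            rw [← hq] at h9
            omega
        rw [hq1] at hq
        omega
      have h8 : ((i.val : ℕ) : ZMod (2 * N)) = i := ZMod.natCast_zmod_val i
      rw [← h8, h7]
    | xa i =>
      exfalso
      have := QuaternionGroup.orderOf_xa (n := N) i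
      rw [hy] at this
      omega

/-- The generalized quaternion group of order 2^(n+3) contains exactly one element of order 2. -/
theorem result (n : ℕ) : Nat.card {x : QuaternionGroup (2 ^ (n + 1)) // orderOf x = 2} = 1 := by
  exact aux (2 ^ (n + 1)) (by positivity)

end Cfsg.Agent.S0218
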