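import Mathlib
import Cfsg.Statements.S0223
import Cfsg.Agent.Helper2.StrEmb

set_option autoImplicit false
open Cfsg

namespace Cfsg.Agent.S0223

open Cfsg.Agent.Helper2

/-- Let H be a proper subgroup of even order of the finite group G. Then H is strongly embedded if and only if (i) C_G(t) ≤ H for every involution t of H and (ii) H controls fusion of its involutions: involutions of H conjugate in G are conjugate in H. -/
theorem result {G : Type*} [Group G] [Finite G] (H : Subgroup G) (hH : H ≠ ⊤) (heven : Even (Nat.card H)) : Cfsg.IsStronglyEmbedded H ↔ ((∀ t ∈ H, orderOf t = 2 → Subgroup.centralizer ({t} : Set G) ≤ H) ∧ (∀ t ∈ H, ∀ s ∈ H, orderOf t = 2 → orderOf s = 2 → IsConj t s → ∃ h ∈ H, h * t * h⁻¹ = s)) := by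
  constructor
  · intro hSE
    refine ⟨?_, ?_⟩
    · intro t htH ht c hc
      rw [Subgroup.mem_centralizer_singleton_iff] at hc
      apply mem_of_invol_mem_inter hSE ht htH
      rw [mem_cj_iff]
      have : c⁻¹ * t * c = t := by
        calc c⁻¹ * t * c = c⁻¹ * (t * c) := by group
          _ = c⁻¹ * (c * t) := by rw [hc]
          _ = t := by group
      rw [this]; exact htH
    · intro t htH s hsH ht hs hconj
      obtain ⟨g, hg⟩ := isConj_iff.mp hconj
      refine ⟨g, ?_, hg⟩
      apply mem_of_invol_mem_inter hSE hs hsH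
      rw [mem_cj_iff, ← hg]
      have : g⁻¹ * (g * t * g⁻¹) * g = t := by group
      rw [this]; exact htH
  · rintro ⟨h1, h2⟩
    apply stronglyEmbedded_of_invol hH heven
    intro s g hs hsH hsg
    rw [mem_cj_iff] at hsg
    -- t = g⁻¹ s g ∈ H is an involution conjugate to s
    set t := g⁻¹ * s * g with ht
    have hto : orderOf t = 2 := by
      have : t = MulAut.conj g⁻¹ s := by simp [ht, MulAut.conj_apply]
      rw [this, MulEquiv.orderOf_eq]; exact hs
    have hconj : IsConj t s := by
      rw [isConj_iff]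
      exact ⟨g, by rw [ht]; group⟩
    obtain ⟨h, hhH, hh⟩ := h2 t hsg s hsH hto hs hconj
    -- h t h⁻¹ = s = g t g⁻¹, so h⁻¹ g ∈ C(t) ≤ H
    have hc : h⁻¹ * g ∈ Subgroup.centralizer ({t} : Set G) := by
      rw [Subgroup.mem_centralizer_singleton_iff]
      have e : g * t * g⁻¹ = s := by rw [ht]; group
      have e2 : h * t * h⁻¹ = g * t * g⁻¹ := by rw [hh, e]
      calc h⁻¹ * g * t = h⁻¹ * (g * t * g⁻¹) * g := by group
        _ = h⁻¹ * (h * t * h⁻¹) * g := by rw [e2]
        _ = t * (h⁻¹ * g) := by group
    have := h1 t hsg hto hc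
    have hg : g = h * (h⁻¹ * g) := by group
    rw [hg]
    exact H.mul_mem hhH this

end Cfsg.Agent.S0223
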