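import Mathlib
import Cfsg.Statements.S0224
import Cfsg.Agent.Helper2.StrEmb

set_option autoImplicit false
open Cfsg

namespace Cfsg.Agent.S0224

open Cfsg.Agent.Helper2

/-- Let H be a proper subgroup of even order of the finite group G. Then H is strongly embedded if and only if each involution of H fixes exactly one point (namely the coset H) in the action of G on the cosets of H. -/
theorem result {G : Type*} [Group G] [Finite G] (H : Subgroup G) (hH : H ≠ ⊤) (heven : Even (Nat.card H)) : Cfsg.IsStronglyEmbedded H ↔ ∀ t ∈ H, orderOf t = 2 → Nat.card {c : G ⧸ H // t • c = c} = 1 := by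
  have hfix : ∀ (t g : G), t • (QuotientGroup.mk g : G ⧸ H) = QuotientGroup.mk g ↔ t ∈ cj g H := by
    intro t g
    rw [mem_cj_iff]
    have : t • (QuotientGroup.mk g : G ⧸ H) = QuotientGroup.mk (t * g) := rfl
    rw [this, QuotientGroup.eq]
    constructor
    · intro h
      have := H.inv_mem h
      have e : ((t * g)⁻¹ * g)⁻¹ = g⁻¹ * t * g := by group
      rw [e] at this
      exact this
    · intro h
      have := H.inv_mem h
      have e : (g⁻¹ * t * g)⁻¹ = (t * g)⁻¹ * g := by group
      rw [e] at this
      exact this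
  have hone : ∀ t : G, t ∈ H → t • (QuotientGroup.mk 1 : G ⧸ H) = QuotientGroup.mk 1 := by
    intro t ht
    rw [hfix, mem_cj_iff]
    simpa using ht
  constructor
  · intro hSE t htH ht
    rw [Nat.card_eq_one_iff_exists]
    refine ⟨⟨QuotientGroup.mk 1, hone t htH⟩, ?_⟩
    rintro ⟨c, hc⟩
    apply Subtype.ext
    obtain ⟨g, rfl⟩ := QuotientGroup.mk_surjective c
    show (QuotientGroup.mk g : G ⧸ H) = QuotientGroup.mk 1
    rw [hfix] at hc
    have hg := mem_of_invol_mem_inter hSE ht htH hc
    rw [QuotientGroup.eq]
    simpa using H.inv_mem hg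
  · intro h
    apply stronglyEmbedded_of_invol hH heven
    intro t g ht htH htg
    have h1 := h t htH ht
    rw [Nat.card_eq_one_iff_exists] at h1
    obtain ⟨x, hx⟩ := h1
    have e1 := hx ⟨QuotientGroup.mk g, (hfix t g).mpr htg⟩
    have e2 := hx ⟨QuotientGroup.mk 1, hone t htH⟩
    have e3 : (QuotientGroup.mk 1 : G ⧸ H) = QuotientGroup.mk g := by
      have := e2.trans e1.symm
      exact congrArg Subtype.val this
    have := QuotientGroup.eq.mp e3
    simpa using this

end Cfsg.Agent.S0224
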