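import Cfsg.Statements.S0225
import Mathlib
import Cfsg.Agent.Helper2.ZStarH
import Cfsg.Agent.Helper4.KleinOfInvol

set_option autoImplicit false
open Cfsg

namespace Cfsg.Agent.S0225

/-- If a finite group G has even order but contains no Klein four-subgroup (2-rank 1), then some involution z of G is central modulo a normal subgroup of odd order: there is a normal subgroup N of odd order containing every commutator z g z⁻¹ g⁻¹. -/
theorem result {G : Type*} [Group G] [Finite G] (heven : Even (Nat.card G)) (hrank : ∀ E : Subgroup G, ¬ IsKleinFour E) : ∃ z : G, orderOf z = 2 ∧ ∃ N : Subgroup G, N.Normal ∧ Odd (Nat.card N) ∧ ∀ g : G, z * g * z⁻¹ * g⁻¹ ∈ N := by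
  classical
  haveI : Fact (Nat.Prime 2) := ⟨Nat.prime_two⟩
  obtain ⟨P⟩ : Nonempty (Sylow 2 G) := inferInstance
  -- the Sylow subgroup is nontrivial
  have hPcard : 2 ∣ Nat.card (P : Subgroup G) := by
    rw [Sylow.card_eq_multiplicity P]
    have h0 : Nat.card G ≠ 0 := Nat.card_pos.ne'
    have hpos : 0 < (Nat.card G).factorization 2 :=
      Nat.Prime.factorization_pos_of_dvd Nat.prime_two h0 (even_iff_two_dvd.mp heven)
    exact dvd_pow_self 2 hpos.ne'
  haveI hnt : Nontrivial (P : Subgroup G) := by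
    rw [← Finite.one_lt_card_iff_nontrivial]
    have hpos : 0 < Nat.card (P : Subgroup G) := Nat.card_pos
    have := Nat.le_of_dvd hpos hPcard
    omega
  haveI := P.2.center_nontrivial
  have hZ2 : IsPGroup 2 (Subgroup.center (P : Subgroup G)) := P.2.to_subgroup _
  obtain ⟨kz, hkz⟩ := (IsPGroup.iff_card).mp hZ2
  have hkz0 : kz ≠ 0 := by
    intro h
    rw [h, pow_zero] at hkz
    have : Subsingleton (Subgroup.center (P : Subgroup G)) :=
      (Nat.card_eq_one_iff_unique.mp hkz).1
    exact not_subsingleton _ this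
  obtain ⟨c, hc⟩ := exists_prime_orderOf_dvd_card' (G := Subgroup.center (P : Subgroup G)) 2
    (by rw [hkz]; exact dvd_pow_self 2 hkz0)
  -- the involution
  obtain ⟨x, hxdef⟩ : ∃ x : G, x = ((c : (P : Subgroup G)) : G) := ⟨_, rfl⟩
  have hxP : x ∈ (P : Subgroup G) := by rw [hxdef]; exact (c : (P : Subgroup G)).2
  have hx2 : orderOf x = 2 := by
    rw [hxdef, Subgroup.orderOf_coe, Subgroup.orderOf_coe]; exact hc
  have hxcomm : ∀ y ∈ (P : Subgroup G), Commute x y := by
    intro y hy
    have h1 := Subgroup.mem_center_iff.mp c.2 ⟨y, hy⟩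
    have h2 := congrArg (fun q : (P : Subgroup G) => (q : G)) h1
    simp only [Subgroup.coe_mul] at h2
    rw [hxdef]
    exact h2.symm
  have hiso : ∀ g : G, g * x * g⁻¹ ∈ P → g * x * g⁻¹ = x := by
    intro g hg
    by_contra hne
    have hy2 : orderOf (g * x * g⁻¹) = 2 := by
      have : g * x * g⁻¹ = MulAut.conj g x := by simp [MulAut.conj_apply]
      rw [this, MulEquiv.orderOf_eq, hx2]
    obtain ⟨E, hE, -, -⟩ := Cfsg.Agent.Helper4.KleinOfInvol.exists_kleinFour x (g * x * g⁻¹)
      hx2 hy2 (fun h => hne h.symm) (hxcomm _ hg)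
    exact hrank E hE
  obtain ⟨N, hNn, hNodd, hN⟩ :=
    Cfsg.Agent.Helper2.ZStar.glauberman_zstar_sylow P x hx2 hxP hiso
  exact ⟨x, hx2, N, hNn, hNodd, hN⟩

end Cfsg.Agent.S0225
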