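import Mathlib
import Cfsg.Statements.S0229
import Cfsg.Agent.Helper2.SylowConj

set_option autoImplicit false
open Cfsg

namespace Cfsg.Agent.S0229

open Cfsg.Agent.Helper2

/-- Let t be an involution of a Sylow 2-subgroup S of a finite group G, conjugate in G to no other element of S, and let s be an involution of G not conjugate to t. Then the order of st is twice an odd number. -/
theorem result {G : Type*} [Group G] [Finite G] (S : Sylow 2 G) (t : G) (ht : orderOf t = 2) (htS : t ∈ S) (hiso : ∀ g : G, g * t * g⁻¹ ∈ S → g * t * g⁻¹ = t) (s : G) (hs : orderOf s = 2) (hns : ¬ IsConj s t) : orderOf (s * t) % 4 = 2 := by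
  have hiso' := isolated_of_sylow S ht hiso
  have htt := mul_self_of_orderOf_two ht
  have hss := mul_self_of_orderOf_two hs
  have hpos : 0 < orderOf (s * t) := orderOf_pos _
  have hord : orderOf (t * s) = orderOf (s * t) := by
    rw [← inv_mul_invol hss htt, orderOf_inv]
  rcases Nat.even_or_odd (orderOf (s * t)) with he | ho
  · obtain ⟨m, hm⟩ := he
    rcases Nat.even_or_odd' m with ⟨k, hk | hk⟩
    · exfalso
      -- t * (t*s)^m is a conjugate of t commuting with t
      have hpow : (t * s) ^ (2 * m) = 1 := by
        have : orderOf (t * s) = 2 * m := by rw [hord, hm]; ring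
        rw [← this]; exact pow_orderOf_eq_one _
      have hcomm := commute_invol_mul_pow htt hss m hpow
      have hconj : t * (t * s) ^ m = (s * t) ^ k * t * ((s * t) ^ k)⁻¹ := by
        rw [hk]; exact invol_mul_pow_even htt hss k
      rw [hconj] at hcomm
      have h1 := hiso'.2 _ hcomm
      rw [← hconj] at h1
      have h2 : (t * s) ^ m = 1 := by
        have := congrArg (fun w => t * w) h1
        simpa [← mul_assoc, htt] using this
      have hd : orderOf (t * s) ∣ m := orderOf_dvd_of_pow_eq_one h2
      rw [hord] at hd
      have hmpos : 0 < m := by omega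
      have := Nat.le_of_dvd hmpos hd
      omega
    · omega
  · exfalso
    obtain ⟨k, hk⟩ := ho
    apply hns
    have := conj_of_pow_odd hss htt k (by rw [← hk]; exact pow_orderOf_eq_one _)
    rw [isConj_iff]
    exact ⟨_, this⟩

end Cfsg.Agent.S0229
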