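import Mathlib
import Cfsg.Statements.S0230
import Cfsg.Agent.Helper2.InvolConj
import Cfsg.Agent.Helper2.Invol
import Cfsg.Agent.Helper2.ClassCount

set_option autoImplicit false
open Cfsg

namespace Cfsg.Agent.S0230

open Cfsg.Agent.Helper2

/-- Let G be a finite group with two non-conjugate involutions, and let t be an involution whose centralizer has maximal order among centralizers of involutions. Then |G| < |C_G(t)|^3. -/
theorem result {G : Type*} [Group G] [Finite G] (s t : G) (hs : orderOf s = 2) (ht : orderOf t = 2) (hnc : ¬ IsConj s t) (hmax : ∀ u : G, orderOf u = 2 → Nat.card (Subgroup.centralizer ({u} : Set G)) ≤ Nat.card (Subgroup.centralizer ({t} : Set G))) : Nat.card G < Nat.card (Subgroup.centralizer ({t} : Set G)) ^ 3 := by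
  classical
  haveI : Fintype G := Fintype.ofFinite G
  have hcard := card_isConj_mul_card_centralizer t
  have hmpos : 0 < Nat.card (Subgroup.centralizer ({t} : Set G)) := Nat.card_pos
  generalize hm : Nat.card (Subgroup.centralizer ({t} : Set G)) = m at hcard hmpos hmax ⊢
  have hss := mul_self_of_orderOf_two hs
  let I : Finset G := Finset.univ.filter (fun u : G => orderOf u = 2 ∧ u * s = s * u)
  let F : G → Finset G := fun u => Finset.univ.filter (fun x : G => x ≠ 1 ∧ x * u = u * x)
  have hI : I.card ≤ m - 1 := by
    have hlt : I.card < (Finset.univ.filter (fun u : G => u * s = s * u)).card := by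
      apply Finset.card_lt_card
      rw [Finset.ssubset_iff_of_subset]
      · refine ⟨1, by simp, ?_⟩
        simp only [I, Finset.mem_filter, Finset.mem_univ, true_and, not_and]
        intro h; simp at h
      · intro u hu
        simp only [I, Finset.mem_filter, Finset.mem_univ, true_and] at hu ⊢
        exact hu.2
    rw [← natCard_centralizer_eq_card_filter s] at hlt
    have := hmax s hs
    omega
  have hF : ∀ u ∈ I, (F u).card ≤ m - 1 := by
    intro u hu
    simp only [I, Finset.mem_filter, Finset.mem_univ, true_and] at hu
    have hlt : (F u).card < (Finset.univ.filter (fun x : G => x * u = u * x)).card := by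
      apply Finset.card_lt_card
      rw [Finset.ssubset_iff_of_subset]
      · refine ⟨1, by simp, ?_⟩
        simp [F]
      · intro x hx
        simp only [F, Finset.mem_filter, Finset.mem_univ, true_and] at hx ⊢
        exact hx.2
    rw [← natCard_centralizer_eq_card_filter u] at hlt
    have := hmax u hu.1
    omega
  have hsub : Finset.univ.filter (fun x : G => IsConj t x) ⊆ I.biUnion F := by
    intro x hx
    simp only [Finset.mem_filter, Finset.mem_univ, true_and] at hx
    obtain ⟨c, hc⟩ := isConj_iff.mp hx
    have hx2 : orderOf x = 2 := by rw [← hc, orderOf_conj_eq]; exact ht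
    have hnc' : ¬ IsConj s x := fun h => hnc (h.trans hx.symm)
    obtain ⟨u, hu, hus, hux⟩ := exists_invol_commute_of_not_isConj hs hx2 hnc'
    rw [Finset.mem_biUnion]
    refine ⟨u, ?_, ?_⟩
    · simp only [I, Finset.mem_filter, Finset.mem_univ, true_and]
      exact ⟨hu, hus.eq⟩
    · simp only [F, Finset.mem_filter, Finset.mem_univ, true_and]
      exact ⟨ne_one_of_orderOf_two hx2, hux.eq.symm⟩
  have hX : Nat.card {x : G // IsConj t x} < m * m := by
    have h0 : Nat.card {x : G // IsConj t x} = (Finset.univ.filter (fun x : G => IsConj t x)).card :=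
      natCard_subtype_eq_card_filter _
    rw [h0]
    have h1 := Finset.card_le_card hsub
    have h2 := Finset.card_biUnion_le_card_mul I F (m - 1) hF
    have h3 : I.card * (m - 1) ≤ (m - 1) * (m - 1) := Nat.mul_le_mul_right _ hI
    have h4 : (m - 1) * (m - 1) < m * m := Nat.mul_lt_mul'' (by omega) (by omega)
    omega
  calc Nat.card G = Nat.card {x // IsConj t x} * m := hcard.symm
    _ < m * m * m := Nat.mul_lt_mul_of_pos_right hX hmpos
    _ = m ^ 3 := by ring

end Cfsg.Agent.S0230
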