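import Mathlib
import Cfsg.Statements.S0231
import Cfsg.Agent.Helper2.InvolConj
import Cfsg.Agent.Helper2.Invol

set_option autoImplicit false
open scoped Pointwise
open Cfsg

namespace Cfsg.Agent.S0231

open Cfsg.Agent.Helper2

/-- Let T be a Sylow 2-subgroup of the finite group G which is not normal and which intersects every other Sylow 2-subgroup trivially. Then G has a single conjugacy class of involutions. -/
theorem result {G : Type*} [Group G] [Finite G] (T : Sylow 2 G) (hnn : ¬ (T : Subgroup G).Normal) (hTI : ∀ g : G, MulAut.conj g • (T : Subgroup G) ≠ T → MulAut.conj g • (T : Subgroup G) ⊓ T = ⊥) (s t : G) (hs : orderOf s = 2) (ht : orderOf t = 2) : IsConj s t := by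
  haveI : Fact (Nat.Prime 2) := ⟨Nat.prime_two⟩
  have hTI' : ∀ a b : G, (a • T : Sylow 2 G) ≠ b • T → ∀ x, x ∈ ((a • T : Sylow 2 G) : Subgroup G) →
      x ∈ ((b • T : Sylow 2 G) : Subgroup G) → x = 1 := by
    intro a b hab x hxa hxb
    rw [mem_smul_sylow_iff] at hxa hxb
    have hne : MulAut.conj (a⁻¹ * b) • (T : Subgroup G) ≠ T := by
      intro h
      apply hab
      have h' : ((a⁻¹ * b) • T : Sylow 2 G) = T := Sylow.ext (by rw [Sylow.coe_subgroup_smul]; exact h)
      calc a • T = a • ((a⁻¹ * b) • T) := by rw [h']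
        _ = b • T := by rw [smul_smul, mul_inv_cancel_left]
    have hbot := hTI _ hne
    have hmem : a⁻¹ * x * a ∈ MulAut.conj (a⁻¹ * b) • (T : Subgroup G) ⊓ T := by
      refine Subgroup.mem_inf.mpr ⟨?_, hxa⟩
      rw [← Sylow.coe_subgroup_smul, mem_smul_sylow_iff]
      have : (a⁻¹ * b)⁻¹ * (a⁻¹ * x * a) * (a⁻¹ * b) = b⁻¹ * x * b := by group
      rw [this]; exact hxb
    rw [hbot, Subgroup.mem_bot] at hmem
    calc x = a * (a⁻¹ * x * a) * a⁻¹ := by group
      _ = 1 := by rw [hmem]; group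
  have claimA : ∀ s t : G, orderOf s = 2 → orderOf t = 2 → ¬ IsConj s t →
      ∃ a : G, s ∈ ((a • T : Sylow 2 G) : Subgroup G) ∧ t ∈ ((a • T : Sylow 2 G) : Subgroup G) := by
    intro s t hs ht hnc
    obtain ⟨u, hu, hus, hut⟩ := exists_invol_commute_of_not_isConj hs ht hnc
    have hss := mul_self_of_orderOf_two hs
    have htt := mul_self_of_orderOf_two ht
    have huu := mul_self_of_orderOf_two hu
    obtain ⟨P1, hP1⟩ := (isPGroup_closure_pair_comm huu hss hus).exists_le_sylow
    obtain ⟨P2, hP2⟩ := (isPGroup_closure_pair_comm huu htt hut).exists_le_sylow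
    obtain ⟨a, rfl⟩ := MulAction.exists_smul_eq G T P1
    obtain ⟨b, rfl⟩ := MulAction.exists_smul_eq G T P2
    have hu1 : u ∈ ((a • T : Sylow 2 G) : Subgroup G) := hP1 (Subgroup.subset_closure (by simp))
    have hu2 : u ∈ ((b • T : Sylow 2 G) : Subgroup G) := hP2 (Subgroup.subset_closure (by simp))
    have hs1 : s ∈ ((a • T : Sylow 2 G) : Subgroup G) := hP1 (Subgroup.subset_closure (by simp))
    have ht2 : t ∈ ((b • T : Sylow 2 G) : Subgroup G) := hP2 (Subgroup.subset_closure (by simp))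
    by_cases hab : (a • T : Sylow 2 G) = b • T
    · exact ⟨a, hs1, by rw [hab]; exact ht2⟩
    · exfalso; exact ne_one_of_orderOf_two hu (hTI' a b hab u hu1 hu2)
  by_contra hnc
  obtain ⟨a, hsa, hta⟩ := claimA s t hs ht hnc
  have hex : ∃ g : G, ((g * a) • T : Sylow 2 G) ≠ a • T := by
    by_contra hall
    push Not at hall
    apply hnn
    have h1 : (a • T : Sylow 2 G) = T := by
      have := hall a⁻¹
      rw [inv_mul_cancel, one_smul] at this
      exact this.symm
    have h2 : ∀ h : G, (h • T : Sylow 2 G) = T := by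
      intro h
      have := hall (h * a⁻¹)
      rw [inv_mul_cancel_right, h1] at this
      exact this
    rw [← Subgroup.normalizer_eq_top_iff, eq_top_iff]
    intro h _
    exact Sylow.smul_eq_iff_mem_normalizer.mp (h2 h)
  obtain ⟨g, hg⟩ := hex
  have hs' : g * s * g⁻¹ ∈ (((g * a) • T : Sylow 2 G) : Subgroup G) := by
    rw [mem_smul_sylow_iff] at hsa ⊢
    have : (g * a)⁻¹ * (g * s * g⁻¹) * (g * a) = a⁻¹ * s * a := by group
    rw [this]; exact hsa
  have hs'2 : orderOf (g * s * g⁻¹) = 2 := by rw [orderOf_conj_eq]; exact hs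
  have hnc' : ¬ IsConj (g * s * g⁻¹) t := by
    intro h
    apply hnc
    exact (isConj_iff.mpr ⟨g, rfl⟩).trans h
  obtain ⟨b, hsb, htb⟩ := claimA _ t hs'2 ht hnc'
  have hab : (a • T : Sylow 2 G) = b • T := by
    by_contra hab
    exact ne_one_of_orderOf_two ht (hTI' a b hab t hta htb)
  rw [← hab] at hsb
  exact ne_one_of_orderOf_two hs'2 (hTI' (g * a) a hg _ hs' hsb)

end Cfsg.Agent.S0231
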