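import Mathlib
import Cfsg.Statements.S0235
import Cfsg.Agent.Helper2.Pairs

set_option autoImplicit false
open Cfsg

namespace Cfsg.Agent.S0235

open Cfsg.Agent.Helper2

/-- If x² ≠ 1, the ordered pairs (u, v) of involutions with uv = x correspond bijectively to the involutions t with t x t⁻¹ = x⁻¹ (via (u, v) ↦ u), so the two counts agree. -/
theorem result {G : Type*} [Group G] [Finite G] (x : G) (hx : x ^ 2 ≠ 1) : Nat.card {p : G × G // orderOf p.1 = 2 ∧ orderOf p.2 = 2 ∧ p.1 * p.2 = x} = Nat.card {t : G // orderOf t = 2 ∧ t * x * t⁻¹ = x⁻¹} := by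
  apply Nat.card_congr
  refine ⟨fun p => ⟨p.1.1, p.2.1, conj_of_pair p.2.1 p.2.2.1 p.2.2.2⟩,
    fun t => ⟨(t.1, t.1 * x), t.2.1, ?_, ?_⟩, ?_, ?_⟩
  · apply orderOf_two_of_mul_self (mul_self_of_inverts t.2.1 t.2.2)
    intro h1
    apply hx
    have htt := mul_self_of_orderOf_two t.2.1
    have : x = t.1 := by
      have := congrArg (fun w => t.1 * w) h1
      simp only [← mul_assoc, htt, one_mul, mul_one] at this
      exact this
    rw [this, pow_two, htt]
  · show t.1 * (t.1 * x) = x
    rw [← mul_assoc, mul_self_of_orderOf_two t.2.1, one_mul]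
  · intro p
    apply Subtype.ext
    show ((p.1.1, p.1.1 * x) : G × G) = p.1
    rw [← snd_of_pair p.2.1 p.2.2.2]
  · intro t; rfl

end Cfsg.Agent.S0235
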