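import Mathlib
import Cfsg.Statements.S0236
import Cfsg.Agent.Helper2.Pairs

set_option autoImplicit false
open Cfsg

namespace Cfsg.Agent.S0236

open Cfsg.Agent.Helper2

/-- If x is an involution, the number of ordered pairs (u, v) of involutions with uv = x, plus one, equals the number of involutions in the centralizer of x. -/
theorem result {G : Type*} [Group G] [Finite G] (x : G) (hx : orderOf x = 2) : Nat.card {p : G × G // orderOf p.1 = 2 ∧ orderOf p.2 = 2 ∧ p.1 * p.2 = x} + 1 = Nat.card {t : G // orderOf t = 2 ∧ Commute t x} := by
  have hxx := mul_self_of_orderOf_two hx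
  have hxinv := inv_eq_self_of_orderOf_two hx
  rw [← Finite.card_option]
  -- commuting from inverting
  have hcomm : ∀ p : {p : G × G // orderOf p.1 = 2 ∧ orderOf p.2 = 2 ∧ p.1 * p.2 = x},
      Commute p.1.1 x := by
    intro p
    have := conj_of_pair p.2.1 p.2.2.1 p.2.2.2
    rw [hxinv] at this
    exact mul_inv_eq_iff_eq_mul.mp this
  have hne : ∀ p : {p : G × G // orderOf p.1 = 2 ∧ orderOf p.2 = 2 ∧ p.1 * p.2 = x},
      p.1.1 ≠ x := by
    intro p h
    have h2 := snd_of_pair p.2.1 p.2.2.2
    rw [h, hxx] at h2
    have := p.2.2.1
    rw [h2] at this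
    simp at this
  let f : Option {p : G × G // orderOf p.1 = 2 ∧ orderOf p.2 = 2 ∧ p.1 * p.2 = x} →
      {t : G // orderOf t = 2 ∧ Commute t x} := fun o =>
    match o with
    | none => ⟨x, hx, Commute.refl x⟩
    | some p => ⟨p.1.1, p.2.1, hcomm p⟩
  apply Nat.card_eq_of_bijective f
  constructor
  · intro a b hab
    match a, b with
    | none, none => rfl
    | none, some q =>
      exfalso
      have := congrArg Subtype.val hab
      exact hne q this.symm
    | some p, none =>
      exfalso
      have := congrArg Subtype.val hab
      exact hne p this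
    | some p, some q =>
      have := congrArg Subtype.val hab
      congr 1
      exact pairs_fst_injective x this
  · intro t
    by_cases h : t.1 = x
    · exact ⟨none, Subtype.ext h.symm⟩
    · have htt := mul_self_of_orderOf_two t.2.1
      have hc : t.1 * x = x * t.1 := t.2.2.eq
      refine ⟨some ⟨(t.1, t.1 * x), t.2.1, ?_, ?_⟩, Subtype.ext rfl⟩
      · apply orderOf_two_of_mul_self
        · calc t.1 * x * (t.1 * x) = t.1 * (x * t.1) * x := by group
            _ = t.1 * (t.1 * x) * x := by rw [hc]
            _ = (t.1 * t.1) * (x * x) := by group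
            _ = 1 := by rw [htt, hxx, one_mul]
        · intro h1
          apply h
          have := congrArg (fun w => t.1 * w) h1
          simp only [← mul_assoc, htt, one_mul, mul_one] at this
          exact this.symm
      · show t.1 * (t.1 * x) = x
        rw [← mul_assoc, htt, one_mul]

end Cfsg.Agent.S0236
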