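import Mathlib
import Cfsg.Statements.S0238
import Cfsg.Agent.Helper2.Pairs

set_option autoImplicit false
open Cfsg

namespace Cfsg.Agent.S0238

open Cfsg.Agent.Helper2

/-- For every x in a finite group G, the number c of ordered pairs (u, v) of involutions with uv = x is at most |C_G(x)|; c = 0 when x is not conjugate to x⁻¹; and c + 2 ≤ |C_G(x)| when x is an involution. -/
theorem result {G : Type*} [Group G] [Finite G] (x : G) : Nat.card {p : G × G // orderOf p.1 = 2 ∧ orderOf p.2 = 2 ∧ p.1 * p.2 = x} ≤ Nat.card (Subgroup.centralizer ({x} : Set G)) ∧ (¬ IsConj x x⁻¹ → Nat.card {p : G × G // orderOf p.1 = 2 ∧ orderOf p.2 = 2 ∧ p.1 * p.2 = x} = 0) ∧ (orderOf x = 2 → Nat.card {p : G × G // orderOf p.1 = 2 ∧ orderOf p.2 = 2 ∧ p.1 * p.2 = x} + 2 ≤ Nat.card (Subgroup.centralizer ({x} : Set G))) := by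
  refine ⟨?_, ?_, ?_⟩
  · -- c ≤ |C(x)|
    by_cases hne : Nonempty {p : G × G // orderOf p.1 = 2 ∧ orderOf p.2 = 2 ∧ p.1 * p.2 = x}
    · obtain ⟨p0⟩ := hne
      have h0 := conj_of_pair p0.2.1 p0.2.2.1 p0.2.2.2
      let f : {p : G × G // orderOf p.1 = 2 ∧ orderOf p.2 = 2 ∧ p.1 * p.2 = x} →
          Subgroup.centralizer ({x} : Set G) := fun p =>
        ⟨p0.1.1⁻¹ * p.1.1, by
          rw [Subgroup.mem_centralizer_singleton_iff]
          have hp := conj_of_pair p.2.1 p.2.2.1 p.2.2.2
          have e : p.1.1 * x * p.1.1⁻¹ = p0.1.1 * x * p0.1.1⁻¹ := by rw [hp, h0]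
          calc p0.1.1⁻¹ * p.1.1 * x = p0.1.1⁻¹ * (p.1.1 * x * p.1.1⁻¹) * p.1.1 := by group
            _ = p0.1.1⁻¹ * (p0.1.1 * x * p0.1.1⁻¹) * p.1.1 := by rw [e]
            _ = x * (p0.1.1⁻¹ * p.1.1) := by group⟩
      apply Nat.card_le_card_of_injective f
      intro p q hpq
      have := congrArg Subtype.val hpq
      simp only [f] at this
      exact pairs_fst_injective x (mul_left_cancel this)
    · rw [not_nonempty_iff] at hne
      rw [Nat.card_of_isEmpty]
      exact Nat.zero_le _
  · intro hnc
    have : IsEmpty {p : G × G // orderOf p.1 = 2 ∧ orderOf p.2 = 2 ∧ p.1 * p.2 = x} := by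
      constructor
      intro p
      apply hnc
      rw [isConj_iff]
      exact ⟨p.1.1, conj_of_pair p.2.1 p.2.2.1 p.2.2.2⟩
    exact Nat.card_of_isEmpty
  · intro hx
    have hxx := mul_self_of_orderOf_two hx
    have hxinv := inv_eq_self_of_orderOf_two hx
    have hcomm : ∀ p : {p : G × G // orderOf p.1 = 2 ∧ orderOf p.2 = 2 ∧ p.1 * p.2 = x},
        p.1.1 ∈ Subgroup.centralizer ({x} : Set G) := by
      intro p
      rw [Subgroup.mem_centralizer_singleton_iff]
      have := conj_of_pair p.2.1 p.2.2.1 p.2.2.2
      rw [hxinv] at this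
      exact mul_inv_eq_iff_eq_mul.mp this
    have hne : ∀ p : {p : G × G // orderOf p.1 = 2 ∧ orderOf p.2 = 2 ∧ p.1 * p.2 = x},
        p.1.1 ≠ x := by
      intro p h
      have h2 := snd_of_pair p.2.1 p.2.2.2
      rw [h, hxx] at h2
      have := p.2.2.1
      rw [h2] at this
      simp at this
    have hne1 : ∀ p : {p : G × G // orderOf p.1 = 2 ∧ orderOf p.2 = 2 ∧ p.1 * p.2 = x},
        p.1.1 ≠ 1 := fun p => ne_one_of_orderOf_two p.2.1
    have hx1 : x ≠ 1 := ne_one_of_orderOf_two hx
    let f : Option (Option {p : G × G // orderOf p.1 = 2 ∧ orderOf p.2 = 2 ∧ p.1 * p.2 = x}) →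
        Subgroup.centralizer ({x} : Set G) := fun o =>
      match o with
      | none => 1
      | some none => ⟨x, Subgroup.mem_centralizer_singleton_iff.mpr rfl⟩
      | some (some p) => ⟨p.1.1, hcomm p⟩
    have hinj : Function.Injective f := by
      intro a b hab
      have hv := congrArg Subtype.val hab
      match a, b with
      | none, none => rfl
      | none, some none => exact absurd hv.symm hx1
      | none, some (some q) => exact absurd hv.symm (hne1 q)
      | some none, none => exact absurd hv hx1
      | some none, some none => rfl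
      | some none, some (some q) => exact absurd hv.symm (hne q)
      | some (some p), none => exact absurd hv (hne1 p)
      | some (some p), some none => exact absurd hv (hne p)
      | some (some p), some (some q) =>
        congr 2
        exact pairs_fst_injective x hv
    have := Nat.card_le_card_of_injective f hinj
    rw [Finite.card_option, Finite.card_option] at this
    exact this

end Cfsg.Agent.S0238
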