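import Mathlib
import Cfsg.Statements.S0239
import Cfsg.Agent.Helper2.Invol

set_option autoImplicit false
open Cfsg

namespace Cfsg.Agent.S0239

open Cfsg.Agent.Helper2

/-- If some nontrivial element x of a finite group G is conjugate to x⁻¹, then |G| is even. -/
theorem result {G : Type*} [Group G] [Finite G] (x : G) (hx : x ≠ 1) (hreal : IsConj x x⁻¹) : Even (Nat.card G) := by
  obtain ⟨c, hc⟩ := isConj_iff.mp hreal
  -- c² commutes with x
  have h2 : SemiconjBy c x x⁻¹ := by
    show c * x = x⁻¹ * c
    rw [← hc]; group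
  have h3 : SemiconjBy c x⁻¹ x := by simpa using h2.inv_right
  have h4 : Commute (c * c) x := h3.mul_left h2
  rw [even_iff_two_dvd]
  rcases Nat.even_or_odd (orderOf c) with he | ⟨k, hk⟩
  · exact dvd_trans (even_iff_two_dvd.mp he) (orderOf_dvd_natCard c)
  · -- c = (c*c)^(k+1) commutes with x
    have h5 : (c * c) ^ (k + 1) = c := by
      rw [← pow_two, ← pow_mul]
      have : 2 * (k + 1) = (2 * k + 1) + 1 := by ring
      rw [this, pow_succ, ← hk, pow_orderOf_eq_one, one_mul]
    have h6 : Commute c x := by
      have := h4.pow_left (k + 1)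
      rwa [h5] at this
    have h7 : x = x⁻¹ := by
      have e1 : c * x = x⁻¹ * c := h2
      have e2 : c * x = x * c := h6.eq
      exact mul_right_cancel (e2.symm.trans e1)
    have h8 : x * x = 1 := by
      calc x * x = x * x⁻¹ := by rw [← h7]
        _ = 1 := mul_inv_cancel x
    have h9 : orderOf x = 2 := orderOf_two_of_mul_self h8 hx
    rw [← h9]
    exact orderOf_dvd_natCard x

end Cfsg.Agent.S0239
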