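import Mathlib
import Cfsg.Statements.S0240
import Cfsg.Agent.Helper2.Invol

set_option autoImplicit false
open Cfsg

namespace Cfsg.Agent.S0240

open Cfsg.Agent.Helper2

/-- Let G be a finite group with n involutions and H a subgroup with |H|·(n+1) > |G|. Then some nontrivial h ∈ H is strongly real in G: an involution t of G satisfies t h t⁻¹ = h⁻¹. -/
theorem result {G : Type*} [Group G] [Finite G] (H : Subgroup G) (hH : Nat.card G < Nat.card H * (Nat.card {t : G // orderOf t = 2} + 1)) : ∃ h : G, h ∈ H ∧ h ≠ 1 ∧ ∃ t : G, orderOf t = 2 ∧ t * h * t⁻¹ = h⁻¹ := by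
  let f : Option {t : G // orderOf t = 2} → G ⧸ H := fun o =>
    match o with
    | none => QuotientGroup.mk 1
    | some t => QuotientGroup.mk t.1
  have hcard : Nat.card (G ⧸ H) < Nat.card (Option {t : G // orderOf t = 2}) := by
    rw [Finite.card_option]
    have h1 : Nat.card H * H.index = Nat.card G := Subgroup.card_mul_index H
    have h2 : Nat.card (G ⧸ H) = H.index := rfl
    rw [h2]
    rw [← h1] at hH
    exact Nat.lt_of_mul_lt_mul_left hH
  obtain ⟨a, b, hab, hfab⟩ : ∃ a b, a ≠ b ∧ f a = f b := by
    by_contra hcon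
    push Not at hcon
    have hinj : Function.Injective f := fun a b hab => by
      by_contra hne
      exact hcon a b hne hab
    have := Nat.card_le_card_of_injective f hinj
    omega
  match a, b with
  | none, none => exact absurd rfl hab
  | none, some t =>
    have h1 : (1 : G)⁻¹ * t.1 ∈ H := QuotientGroup.eq.mp hfab
    rw [inv_one, one_mul] at h1
    refine ⟨t.1, h1, ne_one_of_orderOf_two t.2, t.1, t.2, ?_⟩
    rw [mul_assoc, mul_inv_cancel, mul_one, inv_eq_self_of_orderOf_two t.2]
  | some t, none =>
    have h1 : (1 : G)⁻¹ * t.1 ∈ H := QuotientGroup.eq.mp hfab.symm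
    rw [inv_one, one_mul] at h1
    refine ⟨t.1, h1, ne_one_of_orderOf_two t.2, t.1, t.2, ?_⟩
    rw [mul_assoc, mul_inv_cancel, mul_one, inv_eq_self_of_orderOf_two t.2]
  | some s, some t =>
    have h1 : s.1⁻¹ * t.1 ∈ H := QuotientGroup.eq.mp hfab
    have hsinv := inv_eq_self_of_orderOf_two s.2
    have htinv := inv_eq_self_of_orderOf_two t.2
    refine ⟨s.1⁻¹ * t.1, h1, ?_, s.1, s.2, ?_⟩
    · intro h2
      apply hab
      have : t.1 = s.1 := by
        have := congrArg (fun w => s.1 * w) h2
        simpa using this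
      congr 1
      exact Subtype.ext this.symm
    · rw [mul_inv_rev, inv_inv, htinv, hsinv]
      rw [← mul_assoc, mul_self_of_orderOf_two s.2, one_mul]

end Cfsg.Agent.S0240
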