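import Mathlib
import Cfsg.Statements.S0241
import Cfsg.Agent.Helper2.Invol

set_option autoImplicit false
open Cfsg

namespace Cfsg.Agent.S0241

open Cfsg.Agent.Helper2

/-- If x ≠ 1 is conjugate to x⁻¹ in a finite group G and |C_G(x)| is odd, then some involution t satisfies t x t⁻¹ = x⁻¹. -/
theorem result {G : Type*} [Group G] [Finite G] (x : G) (hx : x ≠ 1) (hreal : IsConj x x⁻¹) (hodd : Odd (Nat.card (Subgroup.centralizer ({x} : Set G)))) : ∃ t : G, orderOf t = 2 ∧ t * x * t⁻¹ = x⁻¹ := by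
  obtain ⟨c, hc⟩ := isConj_iff.mp hreal
  have h2 : SemiconjBy c x x⁻¹ := by
    show c * x = x⁻¹ * c
    rw [← hc]; group
  have h3 : SemiconjBy c x⁻¹ x := by simpa using h2.inv_right
  have h4 : Commute (c * c) x := h3.mul_left h2
  have hn : orderOf c ≠ 0 := (orderOf_pos c).ne'
  obtain ⟨k, m, ⟨j, hj⟩, hkm⟩ := Nat.exists_eq_two_pow_mul_odd hn
  set t := c ^ m with ht
  have htc : t = (c * c) ^ j * c := by
    rw [ht, hj, ← pow_two, ← pow_mul, pow_succ]
  have h5 : SemiconjBy t x x⁻¹ := by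
    rw [htc]
    have hcj : SemiconjBy ((c * c) ^ j) x⁻¹ x⁻¹ := (h4.pow_left j).inv_right
    exact SemiconjBy.mul_left hcj h2
  have h6 : SemiconjBy t x⁻¹ x := by simpa using h5.inv_right
  have h7 : Commute (t * t) x := h6.mul_left h5
  -- order of t*t divides 2^k
  have h8 : (t * t) ^ (2 ^ k) = 1 := by
    rw [← pow_two, ← pow_mul, ht, ← pow_mul]
    have : m * (2 * 2 ^ k) = orderOf c * 2 := by rw [hkm]; ring
    rw [this, pow_mul, pow_orderOf_eq_one, one_pow]
  have h9 : orderOf (t * t) ∣ 2 ^ k := orderOf_dvd_of_pow_eq_one h8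
  have hmem : t * t ∈ Subgroup.centralizer ({x} : Set G) :=
    Subgroup.mem_centralizer_singleton_iff.mpr h7.eq
  have h10 : orderOf (t * t) ∣ Nat.card (Subgroup.centralizer ({x} : Set G)) := by
    have := orderOf_dvd_natCard (⟨t * t, hmem⟩ : Subgroup.centralizer ({x} : Set G))
    rwa [← Subgroup.orderOf_coe] at this
  have hcop : Nat.Coprime (2 ^ k) (Nat.card (Subgroup.centralizer ({x} : Set G))) :=
    Nat.Coprime.pow_left k (Nat.coprime_two_left.mpr hodd)
  have h11 : orderOf (t * t) = 1 := Nat.eq_one_of_dvd_coprimes hcop h9 h10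
  have h12 : t * t = 1 := orderOf_eq_one_iff.mp h11
  have h13 : t ≠ 1 := by
    intro h1
    rw [h1] at h5
    have e : x = x⁻¹ := by
      have : (1 : G) * x = x⁻¹ * 1 := h5
      simpa using this
    have hxx : x * x = 1 := by
      calc x * x = x * x⁻¹ := by rw [← e]
        _ = 1 := mul_inv_cancel x
    have hox : orderOf x = 2 := orderOf_two_of_mul_self hxx hx
    have hxmem : x ∈ Subgroup.centralizer ({x} : Set G) :=
      Subgroup.mem_centralizer_singleton_iff.mpr rfl
    have := orderOf_dvd_natCard (⟨x, hxmem⟩ : Subgroup.centralizer ({x} : Set G))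
    rw [← Subgroup.orderOf_coe] at this
    simp only at this
    rw [hox] at this
    have hodd' := Nat.odd_iff.mp hodd
    omega
  refine ⟨t, orderOf_two_of_mul_self h12 h13, ?_⟩
  have : t * x = x⁻¹ * t := h5
  rw [this, mul_assoc, mul_inv_cancel, mul_one]

end Cfsg.Agent.S0241
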