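import Mathlib
import Cfsg.Statements.S0247
import Cfsg.Agent.Helper7.SymSp
import Cfsg.Agent.Helper8.SpOrder

set_option autoImplicit false
open Cfsg

namespace Cfsg.Agent.S0247

open Cfsg.Agent.Helper7.SymSp

/-- Sp_4(2) is isomorphic to the symmetric group S_6. -/
theorem result {F : Type*} [Field F] [Fintype F] (hF : Fintype.card F = 2) : Nonempty (Matrix.symplecticGroup (Fin 2) F ≃* Equiv.Perm (Fin 6)) := by
  classical
  have h2 : ((2 : ℕ) : F) = 0 := by
    have := Nat.cast_card_eq_zero F
    rwa [hF] at this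
  have : CharP F 2 := ringChar.of_eq (CharP.ringChar_of_prime_eq_zero Nat.prime_two h2)
  let f : Equiv.Perm (Fin 6) →* Matrix.symplecticGroup (Fin 2) F := symHom F 2
  have hinj : Function.Injective f := symHom_injective (F := F) 2 le_rfl
  have : Finite (Matrix.symplecticGroup (Fin 2) F) := Subtype.finite
  have hcard : Nat.card (Matrix.symplecticGroup (Fin 2) F) ≤ Nat.card (Equiv.Perm (Fin 6)) := by
    rw [Cfsg.Agent.Helper8.SpOrder.card_symp, hF, Nat.card_perm, Nat.card_eq_fintype_card,
      Fintype.card_fin]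
    decide
  have hbij : Function.Bijective f := hinj.bijective_of_nat_card_le hcard
  exact ⟨(MulEquiv.ofBijective f hbij).symm⟩

end Cfsg.Agent.S0247
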