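import Mathlib
import Cfsg.Statements.S0250
import Cfsg.Agent.Helper7.SL2Sylow

set_option autoImplicit false
open Cfsg

namespace Cfsg.Agent.S0250

open Matrix

variable {F : Type*} [Field F]

theorem inv_mulVec_mulVec (g : SpecialLinearGroup (Fin 2) F) (v : Fin 2 → F) :
    (g⁻¹ : SpecialLinearGroup (Fin 2) F).1 *ᵥ (g.1 *ᵥ v) = v := by
  rw [mulVec_mulVec]
  have : (g⁻¹ : SpecialLinearGroup (Fin 2) F).1 * g.1 = (1 : Matrix (Fin 2) (Fin 2) F) := by
    change (g⁻¹ * g : SpecialLinearGroup (Fin 2) F).1 = 1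
    rw [inv_mul_cancel]; rfl
  rw [this, one_mulVec]

theorem mulVec_inv_mulVec (g : SpecialLinearGroup (Fin 2) F) (v : Fin 2 → F) :
    g.1 *ᵥ ((g⁻¹ : SpecialLinearGroup (Fin 2) F).1 *ᵥ v) = v := by
  have := inv_mulVec_mulVec g⁻¹ v
  rwa [inv_inv] at this

theorem mulVec_ne_zero (g : SpecialLinearGroup (Fin 2) F) {v : Fin 2 → F} (hv : v ≠ 0) :
    g.1 *ᵥ v ≠ 0 := by
  intro h
  apply hv
  have := inv_mulVec_mulVec g v
  rw [h, mulVec_zero] at this
  exact this.symm

/-- The action on non-zero vectors. -/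
def toPerm (g : SpecialLinearGroup (Fin 2) F) : Equiv.Perm {v : Fin 2 → F // v ≠ 0} where
  toFun v := ⟨g.1 *ᵥ v.1, mulVec_ne_zero g v.2⟩
  invFun v := ⟨(g⁻¹ : SpecialLinearGroup (Fin 2) F).1 *ᵥ v.1, mulVec_ne_zero g⁻¹ v.2⟩
  left_inv v := Subtype.ext (inv_mulVec_mulVec g v.1)
  right_inv v := Subtype.ext (mulVec_inv_mulVec g v.1)

/-- The action as a homomorphism. -/
def toPermHom (F : Type*) [Field F] :
    SpecialLinearGroup (Fin 2) F →* Equiv.Perm {v : Fin 2 → F // v ≠ 0} :=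
  MonoidHom.mk' toPerm (by
    intro g h
    ext v : 2
    change (g * h : SpecialLinearGroup (Fin 2) F).1 *ᵥ v.1 = g.1 *ᵥ (h.1 *ᵥ v.1)
    rw [mulVec_mulVec]
    rfl)

theorem toPermHom_injective : Function.Injective (toPermHom F) := by
  rw [injective_iff_map_eq_one]
  intro g hg
  apply Subtype.ext
  change g.1 = 1
  apply Matrix.ext_of_mulVec_single
  intro j
  have hne : (Pi.single j 1 : Fin 2 → F) ≠ 0 := by
    intro h
    have := congrFun h j
    rw [Pi.single_eq_same, Pi.zero_apply] at this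
    exact one_ne_zero this
  have := congrArg (fun σ : Equiv.Perm {v : Fin 2 → F // v ≠ 0} => (σ ⟨_, hne⟩).1) hg
  change g.1 *ᵥ Pi.single j 1 = Pi.single j 1 at this
  rw [this, one_mulVec]

/-- SL_2(2) is isomorphic to S_3. -/
theorem result {F : Type*} [Field F] [Fintype F] (hF : Fintype.card F = 2) : Nonempty (Matrix.SpecialLinearGroup (Fin 2) F ≃* Equiv.Perm (Fin 3)) := by
  classical
  have hX : Nat.card {v : Fin 2 → F // v ≠ 0} = 3 := by
    rw [Nat.card_eq_fintype_card]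
    have h := Set.card_ne_eq (0 : Fin 2 → F)
    have h' : Fintype.card {v : Fin 2 → F // v ≠ 0} = Fintype.card (Fin 2 → F) - 1 := by
      rw [← h]
      apply Fintype.card_congr
      rfl
    rw [h', Fintype.card_fun, hF, Fintype.card_fin]
    rfl
  have hcard : Nat.card (Equiv.Perm {v : Fin 2 → F // v ≠ 0}) ≤
      Nat.card (SpecialLinearGroup (Fin 2) F) := by
    rw [Nat.card_perm, hX, Cfsg.Agent.Helper7.SL2.card_SL2, hF]
    decide
  have hbij : Function.Bijective (toPermHom F) :=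
    toPermHom_injective.bijective_of_nat_card_le hcard
  have e1 : SpecialLinearGroup (Fin 2) F ≃* Equiv.Perm {v : Fin 2 → F // v ≠ 0} :=
    MulEquiv.ofBijective (toPermHom F) hbij
  have e2 : {v : Fin 2 → F // v ≠ 0} ≃ Fin 3 := by
    exact Finite.equivFinOfCardEq hX
  exact ⟨e1.trans (Equiv.permCongrHom e2)⟩

end Cfsg.Agent.S0250
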