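import Mathlib
import Cfsg.Statements.S0257
import Cfsg.Agent.Helper7.SL2Sylow
import Cfsg.Agent.Helper7.LinearCard
import Cfsg.Agent.Helper7.SLTransfer
import Cfsg.Agent.Helper4.DicyclicHom

set_option autoImplicit false
open Cfsg

namespace Cfsg.Agent.S0257

open Matrix

/-- Matrices over the field with three elements. -/
abbrev M2 := Matrix (Fin 2) (Fin 2) (ZMod 3)
/-- The special linear group over the field with three elements. -/
abbrev G := Matrix.SpecialLinearGroup (Fin 2) (ZMod 3)

/-- Explicit adjugate. -/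
def adj (A : M2) : M2 := !![A 1 1, -A 0 1; -A 1 0, A 0 0]

theorem adj_eq (A : M2) : A.adjugate = adj A := Matrix.adjugate_fin_two A

/-- Membership predicate of the quaternion subgroup: `±1` or trace zero. -/
def P (A : M2) : Prop := A = 1 ∨ A = -1 ∨ A 0 0 + A 1 1 = 0

instance decP : DecidablePred P := fun A => inferInstanceAs (Decidable (A = 1 ∨ A = -1 ∨ A 0 0 + A 1 1 = 0))

/-- Explicit determinant. -/
def det2 (A : M2) : ZMod 3 := A 0 0 * A 1 1 - A 0 1 * A 1 0

set_option maxRecDepth 1000000 in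
theorem P_mul : ∀ A B : M2, (det2 A = 1 ∧ det2 B = 1 ∧ P A ∧ P B) → P (A * B) := by
  decide +kernel

set_option maxRecDepth 1000000 in
theorem P_adj : ∀ A : M2, P A → P (adj A) := by
  decide +kernel

set_option maxRecDepth 1000000 in
theorem P_card : Fintype.card {A : M2 // det2 A = 1 ∧ P A} = 8 := by
  decide +kernel

theorem det_eq (g : G) : det2 g.1 = 1 := by
  have := g.2
  rwa [Matrix.det_fin_two] at this

/-- The quaternion subgroup of `SL_2(3)`. -/
def Q0 : Subgroup G where
  carrier := {g | P g.1}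
  mul_mem' := fun {a b} ha hb => by
    show P (a * b).1
    rw [Matrix.SpecialLinearGroup.coe_mul]
    exact P_mul _ _ ⟨det_eq a, det_eq b, ha, hb⟩
  one_mem' := Or.inl rfl
  inv_mem' := fun {a} ha => by
    show P (a⁻¹).1
    rw [Matrix.SpecialLinearGroup.coe_inv, adj_eq]
    exact P_adj _ ha

theorem mem_Q0 (g : G) : g ∈ Q0 ↔ P g.1 := Iff.rfl

theorem Q0_normal : Q0.Normal := by
  constructor
  intro n hn g
  rw [mem_Q0] at hn ⊢
  rw [Matrix.SpecialLinearGroup.coe_mul, Matrix.SpecialLinearGroup.coe_mul]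
  have hg : g.1 * (g⁻¹).1 = 1 := by
    rw [← Matrix.SpecialLinearGroup.coe_mul, mul_inv_cancel, Matrix.SpecialLinearGroup.coe_one]
  rcases hn with h | h | h
  · left; rw [h, mul_one, hg]
  · right; left; rw [h, mul_neg, mul_one, neg_mul, hg]
  · right; right
    have h1 : Matrix.trace (g.1 * n.1 * (g⁻¹).1) = Matrix.trace n.1 := by
      rw [Matrix.trace_mul_comm, ← mul_assoc]
      rw [show (g⁻¹).1 * g.1 = 1 by
        rw [← Matrix.SpecialLinearGroup.coe_mul, inv_mul_cancel, Matrix.SpecialLinearGroup.coe_one]]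
      rw [one_mul]
    rw [Matrix.trace_fin_two, Matrix.trace_fin_two] at h1
    rw [h1, h]

theorem card_Q0 : Nat.card Q0 = 8 := by
  have e : Q0 ≃ {A : M2 // det2 A = 1 ∧ P A} :=
    { toFun := fun g => ⟨g.1.1, det_eq g.1, g.2⟩
      invFun := fun A => ⟨⟨A.1, by rw [Matrix.det_fin_two]; exact A.2.1⟩, A.2.2⟩
      left_inv := fun g => rfl
      right_inv := fun A => rfl }
  rw [Nat.card_congr e, Nat.card_eq_fintype_card]
  exact P_card

theorem card_G : Nat.card G = 24 := by
  show Nat.card (Matrix.SpecialLinearGroup (Fin 2) (ZMod 3)) = 24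
  rw [Cfsg.Agent.Helper7.SL2.card_SL2, ZMod.card]
  norm_num

theorem index_Q0 : Q0.index = 3 := by
  have h := Subgroup.card_mul_index Q0
  rw [card_Q0, card_G] at h
  omega

/-- The generator of order four. -/
def uM : M2 := !![0, -1; 1, 0]
/-- The second generator. -/
def jM : M2 := !![1, 1; 1, -1]

/-- The generator of order four in the quaternion subgroup. -/
def u : Q0 := ⟨⟨uM, by decide +kernel⟩, by show P uM; decide +kernel⟩
/-- The second generator in the quaternion subgroup. -/
def j : Q0 := ⟨⟨jM, by decide +kernel⟩, by show P jM; decide +kernel⟩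

theorem ext_Q0 {x y : Q0} (h : x.1.1 = y.1.1) : x = y := Subtype.ext (Subtype.ext h)

theorem val_mul (x y : Q0) : (x * y).1.1 = x.1.1 * y.1.1 := rfl
theorem val_one : (1 : Q0).1.1 = 1 := rfl
theorem val_pow (x : Q0) (k : ℕ) : (x ^ k).1.1 = x.1.1 ^ k := by
  induction k with
  | zero => rfl
  | succ k ih => rw [pow_succ, pow_succ, val_mul, ih]

theorem u_val : u.1.1 = uM := rfl
theorem j_val : j.1.1 = jM := rfl

theorem u_pow_four : u ^ (2 * 2) = 1 := by
  apply ext_Q0
  rw [val_pow, val_one, u_val]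
  decide +kernel

theorem j_mul_j : j * j = u ^ 2 := by
  apply ext_Q0
  rw [val_pow, val_mul, u_val, j_val]
  decide +kernel

theorem u_j_u : u * j * u = j := by
  apply ext_Q0
  rw [val_mul, val_mul, u_val, j_val]
  decide +kernel

theorem u_ord : ∀ k : ℕ, 0 < k → k < 2 * 2 → u ^ k ≠ 1 := by
  intro k hk hk4 h
  have h2 := congrArg (fun x : Q0 => x.1.1) h
  simp only [val_pow, val_one, u_val] at h2
  interval_cases k <;> revert h2 <;> decide +kernel

theorem j_u : ∀ k : ℕ, j * u ^ k ≠ 1 := by
  intro k h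
  have hk : u ^ k = u ^ (k % 4) := by
    conv_lhs => rw [← Nat.div_add_mod k 4, pow_add, pow_mul, show u ^ 4 = 1 from u_pow_four, one_pow,
      one_mul]
  rw [hk] at h
  have h2 := congrArg (fun x : Q0 => x.1.1) h
  simp only [val_mul, val_pow, val_one, u_val, j_val] at h2
  have hlt : k % 4 < 4 := Nat.mod_lt _ (by norm_num)
  interval_cases (k % 4) <;> revert h2 <;> decide +kernel

theorem Q0_equiv : Nonempty (Q0 ≃* QuaternionGroup 2) := by
  let f := Cfsg.Agent.Helper4.dicyclicHom (n := 2) u j u_pow_four j_mul_j u_j_u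
  have hinj : Function.Injective f :=
    Cfsg.Agent.Helper4.dicyclicHom_injective u j u_pow_four j_mul_j u_j_u u_ord j_u
  have hbij : Function.Bijective f := by
    have : Finite Q0 := Nat.finite_of_card_ne_zero (by rw [card_Q0]; norm_num)
    rw [Nat.bijective_iff_injective_and_card]
    refine ⟨hinj, ?_⟩
    rw [card_Q0, Nat.card_eq_fintype_card, QuaternionGroup.card]
  exact ⟨(MulEquiv.ofBijective f hbij).symm⟩

/-- SL_2(3) has a normal subgroup of index 3 isomorphic to the quaternion group of order 8, and its centre has order 2. -/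
theorem result {F : Type*} [Field F] [Fintype F] (hF : Fintype.card F = 3) : (∃ Q : Subgroup (Matrix.SpecialLinearGroup (Fin 2) F), Q.Normal ∧ Q.index = 3 ∧ Nonempty (Q ≃* QuaternionGroup 2)) ∧ Nat.card (Subgroup.center (Matrix.SpecialLinearGroup (Fin 2) F)) = 2 := by
  constructor
  · have φ : F ≃+* ZMod 3 := (ZMod.ringEquivOfPrime F Nat.prime_three hF).symm
    let e : Matrix.SpecialLinearGroup (Fin 2) F ≃* G := Cfsg.Agent.Helper7.SLTransfer.slEquiv φ
    refine ⟨Q0.comap e.toMonoidHom, ?_, ?_, ?_⟩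
    · exact Q0_normal.comap _
    · rw [Subgroup.index_comap_of_surjective Q0 (f := e.toMonoidHom) e.surjective]
      exact index_Q0
    · obtain ⟨e2⟩ := Q0_equiv
      have h1 : Q0.map e.symm.toMonoidHom = Q0.comap e.toMonoidHom :=
        Subgroup.map_equiv_eq_comap_symm' e.symm Q0
      exact ⟨((MulEquiv.subgroupCongr h1.symm).trans (e.symm.subgroupMap Q0).symm).trans e2⟩
  · rw [Cfsg.Agent.Helper7.card_center_SL 2 (by norm_num), hF]
    rfl

end Cfsg.Agent.S0257
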