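import Mathlib
import Cfsg.Statements.S0259
import Cfsg.Agent.Helper7.GL2Sylow

set_option autoImplicit false
open Cfsg

namespace Cfsg.Agent.S0259

open Cfsg.Agent.Helper7.GL2

/-- Distinct Sylow p-subgroups of GL_2(q), p the characteristic, intersect trivially. -/
theorem result {F : Type*} [Field F] [Fintype F] (p : ℕ) [Fact p.Prime] [CharP F p] (P Q : Sylow p (Matrix.GeneralLinearGroup (Fin 2) F)) (h : P ≠ Q) : (P : Subgroup (Matrix.GeneralLinearGroup (Fin 2) F)) ⊓ (Q : Subgroup (Matrix.GeneralLinearGroup (Fin 2) F)) = ⊥ := by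
  obtain ⟨g, hg⟩ := exists_conj p P
  obtain ⟨k, hk⟩ := exists_conj p Q
  rw [Subgroup.eq_bot_iff_forall]
  intro x hx
  rw [Subgroup.mem_inf] at hx
  by_contra hx1
  apply h
  have hxP : g⁻¹ * x * g ∈ U F := (hg x).mp hx.1
  have hxQ : k⁻¹ * x * k ∈ U F := (hk x).mp hx.2
  have hne : k⁻¹ * x * k ≠ 1 := by
    intro h1
    apply hx1
    have : x = k * (k⁻¹ * x * k) * k⁻¹ := by group
    rw [this, h1]; group
  -- `g⁻¹ k` lies in `B`
  have hB : g⁻¹ * k ∈ B F := by
    apply mem_B_of_intertwine hxP hxQ hne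
    group
  -- hence the two conjugates of `U` coincide
  apply Sylow.ext
  ext y
  change y ∈ P ↔ y ∈ Q
  rw [hg y, hk y]
  constructor
  · intro hy
    have := conj_mem_U ((B F).inv_mem hB) hy
    have e : (g⁻¹ * k)⁻¹ * (g⁻¹ * y * g) * (g⁻¹ * k)⁻¹⁻¹ = k⁻¹ * y * k := by group
    rwa [e] at this
  · intro hy
    have := conj_mem_U hB hy
    have e : (g⁻¹ * k) * (k⁻¹ * y * k) * (g⁻¹ * k)⁻¹ = g⁻¹ * y * g := by group
    rwa [e] at this

end Cfsg.Agent.S0259
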