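import Mathlib
import Cfsg.Statements.S0263

set_option autoImplicit false
open Cfsg

namespace Cfsg.Agent.S0263

/-- A Sylow p-subgroup of GL_n(q), p the characteristic, has order q^(n(n-1)/2). -/
theorem result {F : Type*} [Field F] [Fintype F] {q : ℕ} (hF : Fintype.card F = q) (p : ℕ) [Fact p.Prime] [CharP F p] (n : ℕ) (P : Sylow p (Matrix.GeneralLinearGroup (Fin n) F)) : Nat.card P = q ^ (n * (n - 1) / 2) := by
  classical
  obtain ⟨f, _, hf⟩ := FiniteField.card F p
  have hp : p.Prime := Fact.out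
  have hq : q = p ^ (f : ℕ) := by rw [← hF, hf]
  have hq1 : 1 ≤ q := by rw [hq]; exact Nat.one_le_pow _ _ hp.pos
  have hcard : Nat.card (Matrix.GeneralLinearGroup (Fin n) F) =
      ∏ i : Fin n, (q ^ n - q ^ (i : ℕ)) := by
    rw [Matrix.card_GL_field, hF]
  -- factor each term
  have hterm : ∀ i : Fin n, q ^ n - q ^ (i : ℕ) = q ^ (i : ℕ) * (q ^ (n - (i : ℕ)) - 1) := by
    intro i
    have hi : (i : ℕ) ≤ n := i.2.le
    rw [Nat.mul_sub, mul_one, ← pow_add, Nat.add_sub_cancel' hi]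
  have hprod : ∏ i : Fin n, (q ^ n - q ^ (i : ℕ)) =
      q ^ (n * (n - 1) / 2) * ∏ i : Fin n, (q ^ (n - (i : ℕ)) - 1) := by
    rw [Finset.prod_congr rfl (fun i _ => hterm i), Finset.prod_mul_distrib]
    congr 1
    rw [Finset.prod_pow_eq_pow_sum, Fin.sum_univ_eq_sum_range (fun i => i) n, Finset.sum_range_id]
  have hcop : ¬ p ∣ ∏ i : Fin n, (q ^ (n - (i : ℕ)) - 1) := by
    rw [Prime.dvd_finsetProd_iff hp.prime]
    rintro ⟨i, _, hi⟩
    have hpos : 1 ≤ n - (i : ℕ) := by have := i.2; omega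
    have h1 : p ∣ q ^ (n - (i : ℕ)) := by
      rw [hq, ← pow_mul]
      exact dvd_pow_self p (by
        have : 0 < (f : ℕ) := f.pos
        positivity)
    have h2 : 1 ≤ q ^ (n - (i : ℕ)) := Nat.one_le_pow _ _ hq1
    have h3 : p ∣ 1 := by
      have := Nat.dvd_sub h1 hi
      rwa [Nat.sub_sub_self h2] at this
    exact hp.one_lt.ne' (Nat.dvd_one.mp h3)
  rw [Sylow.card_eq_multiplicity, hcard, hprod]
  have hne1 : q ^ (n * (n - 1) / 2) ≠ 0 := by positivity
  have hne2 : ∏ i : Fin n, (q ^ (n - (i : ℕ)) - 1) ≠ 0 := by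
    intro h0
    apply hcop
    rw [h0]
    exact dvd_zero p
  rw [Nat.factorization_mul hne1 hne2, Finsupp.add_apply,
    Nat.factorization_eq_zero_of_not_dvd hcop, add_zero, hq, ← pow_mul, Nat.factorization_pow,
    Finsupp.smul_apply, hp.factorization_self, smul_eq_mul, mul_one]

end Cfsg.Agent.S0263
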