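import Mathlib
import Cfsg.Statements.S0265
import Cfsg.Agent.Helper7.LinearCard

set_option autoImplicit false
open Cfsg

namespace Cfsg.Agent.S0265

/-- |PGL_n(q)| = |SL_n(q)|: GL_n modulo its centre (the q-1 non-zero scalars) has the same order as the kernel of det. -/
theorem result {F : Type*} [Field F] [Fintype F] (n : ℕ) : Nat.card (Matrix.ProjGenLinGroup (Fin n) F) = Nat.card (Matrix.SpecialLinearGroup (Fin n) F) := by
  rcases Nat.eq_zero_or_pos n with rfl | hn
  · -- both groups are trivial
    have h1 : Subsingleton (Matrix.SpecialLinearGroup (Fin 0) F) := inferInstance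
    have h2 : Subsingleton (Matrix.GeneralLinearGroup (Fin 0) F) :=
      ⟨fun a b => Units.ext (Subsingleton.elim _ _)⟩
    have h3 : Subsingleton (Matrix.ProjGenLinGroup (Fin 0) F) :=
      (Matrix.ProjGenLinGroup.mk_surjective (n := Fin 0) (R := F)).subsingleton
    rw [Nat.card_unique, Nat.card_unique]
  · have : Nonempty (Fin n) := ⟨⟨0, hn⟩⟩
    have h1 := Cfsg.Agent.Helper7.card_units_mul_card_PGL (n := Fin n) (F := F)
    have h2 := Cfsg.Agent.Helper7.card_units_mul_card_SL (n := Fin n) (F := F)
    have hq : 0 < Fintype.card F - 1 := by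
      have := Fintype.one_lt_card (α := F)
      omega
    exact Nat.eq_of_mul_eq_mul_left hq (h1.trans h2.symm)

end Cfsg.Agent.S0265
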