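import Mathlib
import Cfsg.Statements.S0267
import Cfsg.Agent.Helper7.ProjLine

set_option autoImplicit false
open Cfsg

namespace Cfsg.Agent.S0267

open scoped LinearAlgebra.Projectivization MatrixGroups
open Matrix Cfsg.Agent.Helper7.PL

variable {F : Type*} [Field F]

theorem sl_smul_mk (g : Matrix.SpecialLinearGroup (Fin 2) F) {v : Fin 2 → F} (hv : v ≠ 0)
    (hv' : (g : Matrix (Fin 2) (Fin 2) F) *ᵥ v ≠ 0) :
    g • Projectivization.mk F v hv = Projectivization.mk F ((g : Matrix (Fin 2) (Fin 2) F) *ᵥ v) hv' :=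
  rfl

theorem sl_mulVec_ne_zero (g : Matrix.SpecialLinearGroup (Fin 2) F) {v : Fin 2 → F} (hv : v ≠ 0) :
    (g : Matrix (Fin 2) (Fin 2) F) *ᵥ v ≠ 0 := by
  intro h
  apply hv
  have := congrArg (fun w => ((g⁻¹ : Matrix.SpecialLinearGroup (Fin 2) F) : Matrix (Fin 2) (Fin 2) F) *ᵥ w) h
  simp only [Matrix.mulVec_mulVec, Matrix.mulVec_zero] at this
  rw [← Matrix.SpecialLinearGroup.coe_mul, inv_mul_cancel, Matrix.SpecialLinearGroup.coe_one,
    Matrix.one_mulVec] at this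
  exact this

/-- An embedding of `Fin 3` from three distinct points. -/
def emb3 {α : Type*} (a b c : α) (hab : a ≠ b) (hac : a ≠ c) (hbc : b ≠ c) : Fin 3 ↪ α :=
  ⟨![a, b, c], by
    intro i j h
    fin_cases i <;> fin_cases j <;> simp_all⟩

theorem of_char_two [Fintype F] (h2 : ringChar F = 2) :
    MulAction.IsMultiplyPretransitive (Matrix.SpecialLinearGroup (Fin 2) F)
      (ℙ F (Fin 2 → F)) 3 := by
  rw [MulAction.isMultiplyPretransitive_iff]
  intro x y
  obtain ⟨g, hg⟩ := (MulAction.isMultiplyPretransitive_iff.mp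
    (isMultiplyPretransitive_three (F := F))) x y
  obtain ⟨g0, rfl⟩ := Matrix.ProjGenLinGroup.mk_surjective g
  obtain ⟨e, he⟩ := FiniteField.isSquare_of_char_two h2 ((g0 : Matrix (Fin 2) (Fin 2) F).det)
  have hdet : (g0 : Matrix (Fin 2) (Fin 2) F).det ≠ 0 := by
    have := Matrix.GeneralLinearGroup.det_ne_zero g0
    exact this
  have he0 : e ≠ 0 := by
    rintro rfl
    rw [mul_zero] at he
    exact hdet he
  have hdet1 : (e⁻¹ • (g0 : Matrix (Fin 2) (Fin 2) F)).det = 1 := by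
    rw [Matrix.det_smul, Fintype.card_fin, he]
    field_simp
  obtain ⟨g1, hg1⟩ : ∃ g1 : Matrix.SpecialLinearGroup (Fin 2) F,
      (g1 : Matrix (Fin 2) (Fin 2) F) = e⁻¹ • (g0 : Matrix (Fin 2) (Fin 2) F) :=
    ⟨⟨e⁻¹ • (g0 : Matrix (Fin 2) (Fin 2) F), hdet1⟩, rfl⟩
  refine ⟨g1, ?_⟩
  ext i
  rw [← hg, Function.Embedding.smul_apply, Function.Embedding.smul_apply]
  generalize x i = P
  induction P using Projectivization.ind with
  | h v hv =>
  rw [sl_smul_mk g1 hv (sl_mulVec_ne_zero g1 hv), Projectivization.PGL.mk_smul_mk,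
    Projectivization.mk_eq_mk_iff']
  refine ⟨e⁻¹, ?_⟩
  change e⁻¹ • ((g0 : Matrix (Fin 2) (Fin 2) F) *ᵥ v) = (g1 : Matrix (Fin 2) (Fin 2) F) *ᵥ v
  rw [hg1, Matrix.smul_mulVec]

theorem mulVec_apply' (g : Matrix (Fin 2) (Fin 2) F) (v : Fin 2 → F) (i : Fin 2) :
    (g *ᵥ v) i = g i 0 * v 0 + g i 1 * v 1 := by
  rw [Matrix.mulVec, dotProduct, Fin.sum_univ_two]

theorem char_two_of_trans [Fintype F]
    (h : MulAction.IsMultiplyPretransitive (Matrix.SpecialLinearGroup (Fin 2) F)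
      (ℙ F (Fin 2 → F)) 3) : ringChar F = 2 := by
  by_contra h2
  obtain ⟨n, hn⟩ := FiniteField.exists_nonsquare h2
  have hn0 : n ≠ 0 := by
    rintro rfl
    exact hn ⟨0, by simp⟩
  have e3_ne : (![1, n] : Fin 2 → F) ≠ 0 := fun h => one_ne_zero (congrFun h 0)
  have h01 : Projectivization.mk F (e0 : Fin 2 → F) e0_ne ≠ Projectivization.mk F e1 e1_ne := by
    rw [Ne, mk_eq_mk_iff_cross]; simp [e0, e1]
  have h02 : Projectivization.mk F (e0 : Fin 2 → F) e0_ne ≠ Projectivization.mk F e2 e2_ne := by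
    rw [Ne, mk_eq_mk_iff_cross]; simp [e0, e2]
  have h12 : Projectivization.mk F (e1 : Fin 2 → F) e1_ne ≠ Projectivization.mk F e2 e2_ne := by
    rw [Ne, mk_eq_mk_iff_cross]; simp [e1, e2]
  have h03 : Projectivization.mk F (e0 : Fin 2 → F) e0_ne ≠ Projectivization.mk F ![1, n] e3_ne := by
    rw [Ne, mk_eq_mk_iff_cross]; simp [e0, hn0]
  have h13 : Projectivization.mk F (e1 : Fin 2 → F) e1_ne ≠ Projectivization.mk F ![1, n] e3_ne := by
    rw [Ne, mk_eq_mk_iff_cross]; simp [e1]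
  obtain ⟨g, hg⟩ := (MulAction.isMultiplyPretransitive_iff.mp h)
    (emb3 _ _ _ h01 h02 h12) (emb3 _ _ _ h01 h03 h13)
  have hg0 : g • Projectivization.mk F (e0 : Fin 2 → F) e0_ne = Projectivization.mk F e0 e0_ne :=
    congrFun (congrArg DFunLike.coe hg) 0
  have hg1 : g • Projectivization.mk F (e1 : Fin 2 → F) e1_ne = Projectivization.mk F e1 e1_ne :=
    congrFun (congrArg DFunLike.coe hg) 1
  have hg2 : g • Projectivization.mk F (e2 : Fin 2 → F) e2_ne = Projectivization.mk F ![1, n] e3_ne :=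
    congrFun (congrArg DFunLike.coe hg) 2
  rw [sl_smul_mk g e0_ne (sl_mulVec_ne_zero g e0_ne), mk_eq_mk_iff_cross, mulVec_apply',
    mulVec_apply'] at hg0
  rw [sl_smul_mk g e1_ne (sl_mulVec_ne_zero g e1_ne), mk_eq_mk_iff_cross, mulVec_apply',
    mulVec_apply'] at hg1
  rw [sl_smul_mk g e2_ne (sl_mulVec_ne_zero g e2_ne), mk_eq_mk_iff_cross, mulVec_apply',
    mulVec_apply'] at hg2
  simp only [e0, e1, e2, Matrix.cons_val_zero, Matrix.cons_val_one, mul_one, mul_zero, add_zero,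
    zero_add, sub_zero, zero_sub, neg_eq_zero] at hg0 hg1 hg2
  have hdet := g.2
  rw [Matrix.det_fin_two, hg0, hg1, mul_zero, sub_zero] at hdet
  rw [hg0, hg1, add_zero, zero_add] at hg2
  apply hn
  refine ⟨(g : Matrix (Fin 2) (Fin 2) F) 1 1, ?_⟩
  have h3 : (g : Matrix (Fin 2) (Fin 2) F) 0 0 * n = (g : Matrix (Fin 2) (Fin 2) F) 1 1 :=
    sub_eq_zero.mp hg2
  calc n = n * ((g : Matrix (Fin 2) (Fin 2) F) 0 0 * (g : Matrix (Fin 2) (Fin 2) F) 1 1) := by
        rw [hdet, mul_one]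
    _ = ((g : Matrix (Fin 2) (Fin 2) F) 0 0 * n) * (g : Matrix (Fin 2) (Fin 2) F) 1 1 := by ring
    _ = _ := by rw [h3]

/-- SL_2(q) is 3-transitive on the q+1 points of the projective line if and only if q is even. -/
theorem result {F : Type*} [Field F] [Fintype F] : MulAction.IsMultiplyPretransitive (Matrix.SpecialLinearGroup (Fin 2) F) (Projectivization F (Fin 2 → F)) 3 ↔ ringChar F = 2 := by
  exact ⟨char_two_of_trans, of_char_two⟩

end Cfsg.Agent.S0267
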