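import Mathlib
import Cfsg.Statements.S0268
import Cfsg.Agent.Helper7.FiniteFieldBasics

set_option autoImplicit false
open Cfsg

namespace Cfsg.Agent.S0268

/-- For q odd, -1 is the unique involution of SL_2(q). -/
theorem result {F : Type*} [Field F] [Fintype F] (hF : Odd (Fintype.card F)) (g : Matrix.SpecialLinearGroup (Fin 2) F) (h1 : g ≠ 1) (h2 : g * g = 1) : (g : Matrix (Fin 2) (Fin 2) F) = -1 := by
  have h20 : (2 : F) ≠ 0 := Cfsg.Agent.Helper7.two_ne_zero_of_odd_card hF
  -- g = g⁻¹
  have hinv : g = g⁻¹ := eq_inv_of_mul_eq_one_left h2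
  have hadj : (g : Matrix (Fin 2) (Fin 2) F) = Matrix.adjugate (g : Matrix (Fin 2) (Fin 2) F) := by
    conv_lhs => rw [hinv]
    exact Matrix.SpecialLinearGroup.coe_inv g
  rw [Matrix.adjugate_fin_two] at hadj
  have e00 := congrFun (congrFun hadj 0) 0
  have e01 := congrFun (congrFun hadj 0) 1
  have e10 := congrFun (congrFun hadj 1) 0
  simp only [Matrix.of_apply, Matrix.cons_val', Matrix.cons_val_zero, Matrix.cons_val_one,
    Matrix.cons_val_fin_one] at e00 e01 e10
  have hb : (g : Matrix (Fin 2) (Fin 2) F) 0 1 = 0 := by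
    have : (2 : F) * (g : Matrix (Fin 2) (Fin 2) F) 0 1 = 0 := by linear_combination e01
    exact (mul_eq_zero.mp this).resolve_left h20
  have hc : (g : Matrix (Fin 2) (Fin 2) F) 1 0 = 0 := by
    have : (2 : F) * (g : Matrix (Fin 2) (Fin 2) F) 1 0 = 0 := by linear_combination e10
    exact (mul_eq_zero.mp this).resolve_left h20
  have hdet : (g : Matrix (Fin 2) (Fin 2) F) 0 0 * (g : Matrix (Fin 2) (Fin 2) F) 1 1
      - (g : Matrix (Fin 2) (Fin 2) F) 0 1 * (g : Matrix (Fin 2) (Fin 2) F) 1 0 = 1 := by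
    rw [← Matrix.det_fin_two]
    exact g.det_coe
  rw [hb, ← e00] at hdet
  have ha : ((g : Matrix (Fin 2) (Fin 2) F) 0 0 - 1) * ((g : Matrix (Fin 2) (Fin 2) F) 0 0 + 1) = 0 := by
    linear_combination hdet
  rcases mul_eq_zero.mp ha with ha | ha
  · exfalso
    apply h1
    ext i j
    fin_cases i <;> fin_cases j
    · simpa using sub_eq_zero.mp ha
    · simpa using hb
    · simpa using hc
    · simp only [Fin.mk_one, Fin.isValue, Matrix.SpecialLinearGroup.coe_one, Matrix.one_apply_eq]
      rw [← e00]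
      exact sub_eq_zero.mp ha
  · ext i j
    fin_cases i <;> fin_cases j
    · simpa using eq_neg_of_add_eq_zero_left ha
    · simpa using hb
    · simpa using hc
    · simp only [Fin.mk_one, Fin.isValue, Matrix.neg_apply, Matrix.one_apply_eq]
      rw [← e00]
      exact eq_neg_of_add_eq_zero_left ha

end Cfsg.Agent.S0268
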