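import Mathlib
import Cfsg.Statements.S0273
import Cfsg.Agent.Helper7.GL2Sylow

set_option autoImplicit false
open Cfsg

namespace Cfsg.Agent.S0273

open Cfsg.Agent.Helper7.GL2

/-- Conjugate elements have centralisers of the same order. -/
noncomputable def centralizerEquiv {G : Type*} [Group G] (g a : G) :
    Subgroup.centralizer ({a} : Set G) ≃ Subgroup.centralizer ({g⁻¹ * a * g} : Set G) where
  toFun x := ⟨g⁻¹ * x.1 * g, by
    have hx := Subgroup.mem_centralizer_iff.mp x.2 a (Set.mem_singleton a)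
    rw [Subgroup.mem_centralizer_iff]
    intro y hy
    rw [Set.mem_singleton_iff] at hy
    subst hy
    have e1 : g⁻¹ * a * g * (g⁻¹ * ↑x * g) = g⁻¹ * (a * x.1) * g := by group
    have e2 : g⁻¹ * ↑x * g * (g⁻¹ * a * g) = g⁻¹ * (x.1 * a) * g := by group
    rw [e1, e2, hx]⟩
  invFun y := ⟨g * y.1 * g⁻¹, by
    have hy := Subgroup.mem_centralizer_iff.mp y.2 (g⁻¹ * a * g) (Set.mem_singleton _)
    rw [Subgroup.mem_centralizer_iff]
    intro z hz
    rw [Set.mem_singleton_iff] at hz
    subst hz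
    have e1 : z * (g * ↑y * g⁻¹) = g * ((g⁻¹ * z * g) * y.1) * g⁻¹ := by group
    have e2 : g * ↑y * g⁻¹ * z = g * (y.1 * (g⁻¹ * z * g)) * g⁻¹ := by group
    rw [e1, e2, hy]⟩
  left_inv x := by
    apply Subtype.ext
    change g * (g⁻¹ * x.1 * g) * g⁻¹ = x.1
    group
  right_inv y := by
    apply Subtype.ext
    change g⁻¹ * (g * y.1 * g⁻¹) * g = y.1
    group

/-- In GL_2(q) the centraliser of a non-trivial element of a Sylow p-subgroup (p the characteristic) has order q (q-1): the Sylow subgroup times the scalars. -/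
theorem result {F : Type*} [Field F] [Fintype F] {q : ℕ} (hF : Fintype.card F = q) (p : ℕ) [Fact p.Prime] [CharP F p] (P : Sylow p (Matrix.GeneralLinearGroup (Fin 2) F)) (a : Matrix.GeneralLinearGroup (Fin 2) F) (ha : a ∈ P) (ha1 : a ≠ 1) : Nat.card (Subgroup.centralizer ({a} : Set (Matrix.GeneralLinearGroup (Fin 2) F))) = q * (q - 1) := by
  obtain ⟨g, hg⟩ := exists_conj p P
  have hu : g⁻¹ * a * g ∈ U F := (hg a).mp ha
  have hne : g⁻¹ * a * g ≠ 1 := by
    intro h1
    apply ha1
    have : a = g * (g⁻¹ * a * g) * g⁻¹ := by group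
    rw [this, h1]; group
  rw [Nat.card_congr (centralizerEquiv g a), card_centralizer hu hne, hF]

end Cfsg.Agent.S0273
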