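import Cfsg.Statements.S0281
import Cfsg.Agent.Helper8.SUCenter
import Cfsg.Agent.Helper8.UnitaryLines
import Cfsg.Agent.Helper7.LinearCard
import Mathlib

set_option autoImplicit false
open Cfsg

namespace Cfsg.Agent.S0281

open Matrix Cfsg.Agent.Helper8.GUOrder Cfsg.Agent.Helper8.SUCenter Cfsg.Agent.Helper7.Herm
  Cfsg.Agent.Helper8.UnitaryLines

variable {F : Type*} [Field F] [Fintype F] {q : ℕ}

/-- the fixed subfield of `x ↦ x ^ q`. -/
def fixSub (hF : Fintype.card F = q ^ 2) : Subfield F where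
  carrier := {x | x ^ q = x}
  mul_mem' := fun {a b} ha hb => by
    show (a * b) ^ q = a * b
    rw [mul_pow, ha, hb]
  one_mem' := one_pow q
  add_mem' := fun {a b} ha hb => by
    show (a + b) ^ q = a + b
    rw [add_pow_q hF, ha, hb]
  zero_mem' := zero_pow (by have := two_le_q hF; omega)
  neg_mem' := fun {a} ha => by
    show (-a) ^ q = -a
    rw [neg_pow_q hF, ha]
  inv_mem' := fun a ha => by
    show (a⁻¹) ^ q = a⁻¹
    rw [inv_pow, ha]

theorem mem_fixSub (hF : Fintype.card F = q ^ 2) (x : F) : x ∈ fixSub hF ↔ x ^ q = x := Iff.rfl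

theorem card_fixSub (hF : Fintype.card F = q ^ 2) : Nat.card (fixSub hF) = q := by
  have h := card_fixed hF
  have h2 : Nat.card (fixSub hF) = Nat.card {c : F // c ^ q = c} :=
    Nat.card_congr (Equiv.subtypeEquivRight fun x => Iff.rfl)
  rw [h2, h]

/-- the Frobenius `x ↦ x ^ q` as a ring hom. -/
def frobQ (hF : Fintype.card F = q ^ 2) : F →+* F where
  toFun x := x ^ q
  map_one' := one_pow q
  map_mul' a b := mul_pow a b q
  map_zero' := zero_pow (by have := two_le_q hF; omega)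
  map_add' a b := add_pow_q hF a b

theorem map_frobQ (hF : Fintype.card F = q ^ 2) {m : Type*} (A : Matrix m m F) :
    A.map (· ^ q) = A.map (frobQ hF) := rfl

/-- embedding of a field with `q` elements. -/
theorem exists_embedding (hF : Fintype.card F = q ^ 2) {K : Type*} [Field K] [Fintype K]
    (hK : Fintype.card K = q) : ∃ j : K →+* F, ∀ x, (j x) ^ q = j x := by
  have : Fintype (fixSub hF) := Fintype.ofFinite _
  have hc : Fintype.card K = Fintype.card (fixSub hF) := by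
    rw [hK, ← Nat.card_eq_fintype_card, card_fixSub hF]
  let e : K ≃+* fixSub hF := FiniteField.ringEquivOfCardEq hc
  refine ⟨(fixSub hF).subtype.comp e.toRingHom, fun x => ?_⟩
  exact (e x).2

/-- the skew element. -/
theorem exists_theta (hF : Fintype.card F = q ^ 2) :
    ∃ a θ : F, θ ≠ 0 ∧ θ ^ q = -θ ∧ θ = a - a ^ q := by
  obtain ⟨a, ha⟩ := exists_not_fixed hF
  refine ⟨a, a - a ^ q, ?_, ?_, rfl⟩
  · intro h
    apply ha
    linear_combination -h
  · rw [sub_pow_q hF, pow_q_pow_q hF]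
    ring

/-- the change of basis to the standard Hermitian form. -/
theorem exists_P (hF : Fintype.card F = q ^ 2) :
    ∃ (θ : F) (P : GL (Fin 2) F), θ ≠ 0 ∧ θ ^ q = -θ ∧
      (P : Matrix (Fin 2) (Fin 2) F)ᵀ * !![0, θ; -θ, 0] *
        (P : Matrix (Fin 2) (Fin 2) F).map (· ^ q) = 1 := by
  obtain ⟨a, θ, hθ0, hθ, hθa⟩ := exists_theta hF
  obtain ⟨t, ht⟩ := exists_norm hF (c := -1) (by norm_num) (neg_one_pow_q hF)
  obtain ⟨x, hxdef⟩ : ∃ x : F, x = a / θ ^ 2 := ⟨_, rfl⟩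
  have hxq : x ^ q = a ^ q / θ ^ 2 := by
    rw [hxdef, div_pow, ← pow_mul, mul_comm 2 q, pow_mul, hθ, neg_sq]
  have hx : θ * (x - x ^ q) = 1 := by
    rw [hxq, hxdef, ← sub_div, ← hθa]
    field_simp
  have hxqq : (x ^ q) ^ q = x := pow_q_pow_q hF x
  have ht0 : t ≠ 0 := by
    rintro rfl
    rw [zero_mul] at ht
    exact absurd ht (by norm_num)
  have hxx : x - x ^ q ≠ 0 := by
    intro h
    rw [h, mul_zero] at hx
    exact zero_ne_one hx
  have hdet : (!![x, t * x ^ q; 1, t] : Matrix (Fin 2) (Fin 2) F).det ≠ 0 := by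
    rw [Matrix.det_fin_two_of]
    have : x * t - t * x ^ q * 1 = t * (x - x ^ q) := by ring
    rw [this]
    exact mul_ne_zero ht0 hxx
  refine ⟨θ, Matrix.GeneralLinearGroup.mkOfDetNeZero _ hdet, hθ0, hθ, ?_⟩
  show (!![x, t * x ^ q; 1, t] : Matrix (Fin 2) (Fin 2) F)ᵀ * !![0, θ; -θ, 0] *
    (!![x, t * x ^ q; 1, t] : Matrix (Fin 2) (Fin 2) F).map (· ^ q) = 1
  ext i j
  fin_cases i <;> fin_cases j
  · simp [Matrix.mul_apply, Fin.sum_univ_two]
    linear_combination hx
  · simp [Matrix.mul_apply, Fin.sum_univ_two, mul_pow, hxqq]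
    ring
  · simp [Matrix.mul_apply, Fin.sum_univ_two]
    ring
  · simp [Matrix.mul_apply, Fin.sum_univ_two, mul_pow, hxqq]
    linear_combination (θ * (x ^ q - x)) * ht + hx

section hom
variable {K : Type*} [Field K]

omit [Fintype F] in
theorem G_form (j : K →+* F) (hj : ∀ x, (j x) ^ q = j x) (θ : F)
    (g : Matrix.SpecialLinearGroup (Fin 2) K) :
    (g.1.map j)ᵀ * !![0, θ; -θ, 0] * (g.1.map j).map (· ^ q) = !![0, θ; -θ, 0] := by
  have h1 : (g.1.map j).map (· ^ q) = g.1.map j := by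
    ext a b
    simp only [Matrix.map_apply]
    exact hj _
  rw [h1]
  have hdet : j (g.1 0 0) * j (g.1 1 1) - j (g.1 0 1) * j (g.1 1 0) = 1 := by
    have := g.2
    rw [Matrix.det_fin_two] at this
    rw [← map_mul, ← map_mul, ← map_sub, this, map_one]
  ext a b
  fin_cases a <;> fin_cases b
  · simp [Matrix.mul_apply, Fin.sum_univ_two]
    ring
  · simp [Matrix.mul_apply, Fin.sum_univ_two]
    linear_combination θ * hdet
  · simp [Matrix.mul_apply, Fin.sum_univ_two]
    linear_combination (-θ) * hdet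
  · simp [Matrix.mul_apply, Fin.sum_univ_two]
    ring

theorem conj_unitary (hF : Fintype.card F = q ^ 2) (θ : F) (P : GL (Fin 2) F)
    (hP : (P : Matrix (Fin 2) (Fin 2) F)ᵀ * !![0, θ; -θ, 0] *
        (P : Matrix (Fin 2) (Fin 2) F).map (· ^ q) = 1)
    (G : Matrix (Fin 2) (Fin 2) F)
    (hG : Gᵀ * !![0, θ; -θ, 0] * G.map (· ^ q) = !![0, θ; -θ, 0]) :
    (((P⁻¹ : GL (Fin 2) F) : Matrix (Fin 2) (Fin 2) F) * G * (P : Matrix (Fin 2) (Fin 2) F))ᵀ *
      (((P⁻¹ : GL (Fin 2) F) : Matrix (Fin 2) (Fin 2) F) * G *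
        (P : Matrix (Fin 2) (Fin 2) F)).map (· ^ q) = 1 := by
  set Q : Matrix (Fin 2) (Fin 2) F := ((P⁻¹ : GL (Fin 2) F) : Matrix (Fin 2) (Fin 2) F) with hQ
  set Pm : Matrix (Fin 2) (Fin 2) F := (P : Matrix (Fin 2) (Fin 2) F) with hPm
  set M : Matrix (Fin 2) (Fin 2) F := !![0, θ; -θ, 0] with hM
  rw [map_frobQ hF] at hP hG ⊢
  have hPQ : Pm * Q = 1 := by rw [hPm, hQ, ← Units.val_mul, mul_inv_cancel, Units.val_one]
  have h1 : Qᵀ * Pmᵀ = 1 := by rw [← Matrix.transpose_mul, hPQ, Matrix.transpose_one]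
  have h2 : Pm.map (frobQ hF) * Q.map (frobQ hF) = 1 := by
    rw [← Matrix.map_mul, hPQ, Matrix.map_one _ (map_zero _) (map_one _)]
  have hMQ : M = Qᵀ * Q.map (frobQ hF) := by
    calc M = (Qᵀ * Pmᵀ) * M * (Pm.map (frobQ hF) * Q.map (frobQ hF)) := by
          rw [h1, h2, Matrix.one_mul, Matrix.mul_one]
      _ = Qᵀ * (Pmᵀ * M * Pm.map (frobQ hF)) * Q.map (frobQ hF) := by
          simp only [Matrix.mul_assoc]
      _ = Qᵀ * Q.map (frobQ hF) := by rw [hP, Matrix.mul_one]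
  calc (Q * G * Pm)ᵀ * (Q * G * Pm).map (frobQ hF)
      = Pmᵀ * (Gᵀ * (Qᵀ * Q.map (frobQ hF)) * G.map (frobQ hF)) * Pm.map (frobQ hF) := by
        rw [Matrix.transpose_mul, Matrix.transpose_mul, Matrix.map_mul, Matrix.map_mul]
        simp only [Matrix.mul_assoc]
    _ = Pmᵀ * M * Pm.map (frobQ hF) := by rw [← hMQ, hG]
    _ = 1 := hP

variable (hF : Fintype.card F = q ^ 2) (j : K →+* F) (hj : ∀ x, (j x) ^ q = j x) (θ : F)
  (P : GL (Fin 2) F)
  (hP : (P : Matrix (Fin 2) (Fin 2) F)ᵀ * !![0, θ; -θ, 0] *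
        (P : Matrix (Fin 2) (Fin 2) F).map (· ^ q) = 1)

/-- the isomorphism, as a function. -/
def Psi (g : Matrix.SpecialLinearGroup (Fin 2) K) : SU 2 F q :=
  mkSU hF (((P⁻¹ : GL (Fin 2) F) : Matrix (Fin 2) (Fin 2) F) * g.1.map j *
      (P : Matrix (Fin 2) (Fin 2) F))
    (conj_unitary hF θ P hP _ (G_form j hj θ g)) (by
      rw [Matrix.det_units_conj']
      have h1 : (g.1.map j).det = j g.1.det := by
        rw [RingHom.map_det]
        rfl
      rw [h1, g.2, map_one])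

theorem Psi_val (g : Matrix.SpecialLinearGroup (Fin 2) K) :
    ((Psi hF j hj θ P hP g).1 : Matrix (Fin 2) (Fin 2) F) =
      ((P⁻¹ : GL (Fin 2) F) : Matrix (Fin 2) (Fin 2) F) * g.1.map j *
      (P : Matrix (Fin 2) (Fin 2) F) := rfl

/-- the isomorphism, as a homomorphism. -/
def PsiHom : Matrix.SpecialLinearGroup (Fin 2) K →* SU 2 F q where
  toFun := Psi hF j hj θ P hP
  map_one' := by
    apply Subtype.ext
    apply Subtype.ext
    rw [Psi_val]
    show _ * (1 : Matrix (Fin 2) (Fin 2) K).map j * _ = 1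
    rw [Matrix.map_one _ (map_zero j) (map_one j), Matrix.mul_one, ← Units.val_mul,
      inv_mul_cancel, Units.val_one]
  map_mul' g h := by
    apply Subtype.ext
    apply Subtype.ext
    rw [Psi_val]
    show _ * (g.1 * h.1).map j * _ = (_ * g.1.map j * _) * (_ * h.1.map j * _)
    have hPQ : (P : Matrix (Fin 2) (Fin 2) F) * ((P⁻¹ : GL (Fin 2) F) : Matrix (Fin 2) (Fin 2) F)
        = 1 := by rw [← Units.val_mul, mul_inv_cancel, Units.val_one]
    rw [Matrix.map_mul]
    calc ((P⁻¹ : GL (Fin 2) F) : Matrix (Fin 2) (Fin 2) F) * (g.1.map j * h.1.map j) *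
          (P : Matrix (Fin 2) (Fin 2) F)
        = ((P⁻¹ : GL (Fin 2) F) : Matrix (Fin 2) (Fin 2) F) * g.1.map j *
          ((P : Matrix (Fin 2) (Fin 2) F) * ((P⁻¹ : GL (Fin 2) F) : Matrix (Fin 2) (Fin 2) F)) *
          h.1.map j * (P : Matrix (Fin 2) (Fin 2) F) := by
          rw [hPQ, Matrix.mul_one]
          simp only [Matrix.mul_assoc]
      _ = _ := by simp only [Matrix.mul_assoc]

theorem PsiHom_injective : Function.Injective (PsiHom hF j hj θ P hP) := by
  intro g h hgh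
  have h1 : ((PsiHom hF j hj θ P hP g).1 : Matrix (Fin 2) (Fin 2) F) =
      ((PsiHom hF j hj θ P hP h).1 : Matrix (Fin 2) (Fin 2) F) := by rw [hgh]
  change ((P⁻¹ : GL (Fin 2) F) : Matrix (Fin 2) (Fin 2) F) * g.1.map j *
      (P : Matrix (Fin 2) (Fin 2) F) = ((P⁻¹ : GL (Fin 2) F) : Matrix (Fin 2) (Fin 2) F) *
      h.1.map j * (P : Matrix (Fin 2) (Fin 2) F) at h1
  have hPQ : (P : Matrix (Fin 2) (Fin 2) F) * ((P⁻¹ : GL (Fin 2) F) : Matrix (Fin 2) (Fin 2) F)
      = 1 := by rw [← Units.val_mul, mul_inv_cancel, Units.val_one]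
  have h2 : g.1.map j = h.1.map j := by
    have h3 := congrArg (fun X => (P : Matrix (Fin 2) (Fin 2) F) * X *
      ((P⁻¹ : GL (Fin 2) F) : Matrix (Fin 2) (Fin 2) F)) h1
    simp only [Matrix.mul_assoc, hPQ, Matrix.mul_one] at h3
    simp only [← Matrix.mul_assoc, hPQ, Matrix.one_mul] at h3
    exact h3
  apply Subtype.ext
  ext a b
  have := congrFun (congrFun h2 a) b
  simp only [Matrix.map_apply] at this
  exact j.injective this

end hom

/-- SU_2(q) is isomorphic to SL_2(q). -/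
theorem result {F K : Type*} [Field F] [Fintype F] [Field K] [Fintype K] {q : ℕ} (hF : Fintype.card F = q ^ 2) (hK : Fintype.card K = q) : Nonempty (Cfsg.SU 2 F q ≃* Matrix.SpecialLinearGroup (Fin 2) K) := by
  classical
  have hq := two_le_q hF
  obtain ⟨j, hj⟩ := exists_embedding hF hK
  obtain ⟨θ, P, _, _, hP⟩ := exists_P hF
  have hinj := PsiHom_injective hF j hj θ P hP
  have hcardSU : Nat.card (SU 2 F q) = q * (q ^ 2 - 1) := by
    have h1 := card_SU hF (n := 2) (by norm_num)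
    rw [card_GU hF 2] at h1
    have h2 : (q + 1) * Nat.card (SU 2 F q) = (q + 1) * (q * (q ^ 2 - 1)) := by
      rw [h1]
      simp [Finset.prod_range_succ]
      ring
    exact Nat.eq_of_mul_eq_mul_left (by omega) h2
  have hcardSL : Nat.card (Matrix.SpecialLinearGroup (Fin 2) K) = q * (q ^ 2 - 1) := by
    have h1 := Cfsg.Agent.Helper7.card_units_mul_card_SL (n := Fin 2) (F := K)
    rw [Matrix.card_GL_field, hK] at h1
    have h3 : q ≤ q ^ 2 := by nlinarith
    have h4 : 1 ≤ q ^ 2 := by nlinarith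
    have h2 : (q - 1) * Nat.card (Matrix.SpecialLinearGroup (Fin 2) K)
        = (q - 1) * (q * (q ^ 2 - 1)) := by
      rw [h1]
      simp [Fin.prod_univ_two]
      zify [h3, h4, show 1 ≤ q by omega]
      ring
    exact Nat.eq_of_mul_eq_mul_left (by omega) h2
  have hbij : Function.Bijective (PsiHom hF j hj θ P hP) :=
    hinj.bijective_of_nat_card_le (by rw [hcardSU, hcardSL])
  exact ⟨(MulEquiv.ofBijective _ hbij).symm⟩

end Cfsg.Agent.S0281
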