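import Mathlib
import Cfsg.Statements.S0285
import Cfsg.Agent.Helper8.GUOrder

set_option autoImplicit false
open Cfsg

namespace Cfsg.Agent.S0285

open Cfsg.Agent.Helper8.GUOrder

/-- The standard Hermitian form on F^n, |F| = q^2, has exactly (q^n - (-1)^n)(q^(n-1) + (-1)^n) non-zero isotropic vectors; counting the zero vector too: -/
theorem result {F : Type*} [Field F] [Fintype F] {q : ℕ} (hF : Fintype.card F = q ^ 2) (n : ℕ) : Nat.card {v : Fin n → F // Cfsg.hermForm n F q v v = 0} = (if Even n then (q ^ n - 1) * (q ^ (n - 1) + 1) else (q ^ n + 1) * (q ^ (n - 1) - 1)) + 1 := by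
  change A n F q 0 = _
  have hq := two_le_q hF
  have h := (A_closed hF n).1
  have hq0 : (q : ℤ) ≠ 0 := by
    have : (2 : ℤ) ≤ q := by exact_mod_cast hq
    omega
  have key : (A n F q 0 : ℤ) =
      (((if Even n then (q ^ n - 1) * (q ^ (n - 1) + 1) else (q ^ n + 1) * (q ^ (n - 1) - 1)) + 1 : ℕ) : ℤ) := by
    apply mul_left_cancel₀ hq0
    rw [h]
    by_cases hn : Even n
    · rw [if_pos hn, Even.neg_pow hn, Nat.cast_add, Nat.cast_mul,
        Nat.cast_sub (Nat.one_le_pow _ _ (by omega))]
      push_cast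
      rcases Nat.eq_zero_or_pos n with h0 | h0
      · subst h0; simp
      · have : (q : ℤ) ^ n = (q : ℤ) * (q : ℤ) ^ (n - 1) := by
          rw [← pow_succ']; congr 1; omega
        rw [show 2 * n = n + n by ring, pow_add, this]
        ring
    · rw [if_neg hn]
      have hodd : Odd n := Nat.not_even_iff_odd.mp hn
      have h0 : 0 < n := hodd.pos
      rw [Odd.neg_pow hodd, Nat.cast_add, Nat.cast_mul,
        Nat.cast_sub (Nat.one_le_pow _ _ (by omega))]
      push_cast
      have : (q : ℤ) ^ n = (q : ℤ) * (q : ℤ) ^ (n - 1) := by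
        rw [← pow_succ']; congr 1; omega
      rw [show 2 * n = n + n by ring, pow_add, this]
      ring
  exact_mod_cast key

end Cfsg.Agent.S0285
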