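import Mathlib
import Cfsg.Statements.S0295
import Cfsg.Agent.Helper8.StdForms
import Cfsg.Agent.Helper8.OmegaStd
import Cfsg.Agent.Helper8.OmegaSimple

set_option autoImplicit false
open Cfsg

namespace Cfsg.Agent.S0295

open Module Cfsg.Agent.Helper8.StdForms Cfsg.Agent.Helper8.OmegaStd Cfsg.Agent.Helper8.OmegaSimple

/-- PΩ_{2m+1}(q) is simple for q odd and m at least 3. -/
theorem result {F : Type*} [Field F] [Fintype F] (hodd : Odd (Fintype.card F)) (m : ℕ) (hm : 3 ≤ m) : IsSimpleGroup (Cfsg.POmega F (Cfsg.quadFormOdd m F)) := by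
  classical
  have hQeq : Cfsg.quadFormOdd m F = ⇑(oddForm F m) :=
    funext (fun v => (oddForm_apply F m v).symm)
  have h2 : (2 : F) ≠ 0 := two_ne_zero_of_odd hodd
  rw [hQeq]
  have hcard : Fintype.card (Unit ⊕ (Fin m ⊕ Fin m)) = 2 * m + 1 := by
    simp only [Fintype.card_sum, Fintype.card_unique, Fintype.card_fin]
    ring
  exact isSimpleGroup_POmega (oddForm F m) (oddForm_nondeg F m h2) (by rw [hcard]; omega)

end Cfsg.Agent.S0295
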