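import Mathlib
import Cfsg.Statements.S0301
import Cfsg.Agent.Helper8.Sp4Klein
import Cfsg.Agent.Helper8.QuotCenter
import Cfsg.Agent.Helper8.OmegaOdd
import Cfsg.Agent.S0245
import Cfsg.Agent.S0269
import Cfsg.Agent.S0286

set_option autoImplicit false
open Cfsg

namespace Cfsg.Agent.S0301

open Matrix Cfsg.Agent.Helper8.StdForms Cfsg.Agent.Helper8.Sp4Klein

/-- PΩ_5(q) is isomorphic to PSp_4(q) for q odd. -/
theorem result {F : Type*} [Field F] [Fintype F] (hodd : Odd (Fintype.card F)) : Nonempty (Cfsg.POmega F (Cfsg.quadFormOdd 2 F) ≃* Cfsg.PSp 2 F) := by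
  classical
  have h2 : (2 : F) ≠ 0 := by
    intro h
    have hc : ringChar F = 2 := by
      haveI : CharP F 2 := CharTwo.of_one_ne_zero_of_two_eq_zero one_ne_zero h
      exact ringChar.eq F 2
    have : Even (Fintype.card F) :=
      Nat.even_iff.mpr ((FiniteField.even_card_iff_char_two (F := F)).mp hc)
    exact (Nat.not_even_iff_odd.mpr hodd) this
  obtain ⟨q, hq⟩ : ∃ q, q = Fintype.card F := ⟨_, rfl⟩
  have hq3 : 3 ≤ Fintype.card F := by
    have : 1 < Fintype.card F := Fintype.one_lt_card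
    obtain ⟨k, hk⟩ := hodd
    omega
  have hO := Cfsg.Agent.S0286.result (F := F) hq.symm (hq ▸ hodd) 2
  have hQeq : Cfsg.quadFormOdd 2 F = ⇑(oddForm F 2) :=
    funext (fun v => (oddForm_apply F 2 v).symm)
  rw [hQeq] at hO ⊢
  obtain ⟨n, hn⟩ : ∃ n, n = Nat.card (Matrix.symplecticGroup (Fin 2) F) := ⟨_, rfl⟩
  have hO' : Nat.card ↥(isometryGroup F ⇑(oddForm F 2)) = 2 * n := by
    rw [hO, hn, Cfsg.Agent.S0245.result (F := F) hq.symm 2]
    ring
  -- the image lies in `Ω`
  have hperf : commutator (Matrix.symplecticGroup (Fin 2) F) = ⊤ :=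
    Cfsg.Agent.S0269.result 2 (Or.inr (Or.inl ⟨rfl, hq3⟩))
  have hmem : ∀ g : Matrix.symplecticGroup (Fin 2) F,
      rho5 g ∈ commutator ↥(isometryGroup F ⇑(oddForm F 2)) := by
    intro g
    have hg : g ∈ commutator (Matrix.symplecticGroup (Fin 2) F) := by
      rw [hperf]; exact Subgroup.mem_top g
    have := Subgroup.mem_map_of_mem (rho5 (F := F)) hg
    rw [commutator_def, Subgroup.map_commutator] at this
    exact Subgroup.commutator_mono le_top le_top this
  obtain ⟨f, hf⟩ : ∃ f : Matrix.symplecticGroup (Fin 2) F →* ↥(Omega F ⇑(oddForm F 2)),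
      ∀ x, (f x).1 = rho5 x :=
    ⟨rho5.codRestrict _ hmem, fun x => rfl⟩
  have hf1 : ∀ x, f x = 1 ↔ rho5 x = 1 := by
    intro x
    rw [← hf, Subtype.ext_iff]
    rfl
  have hscal : ∀ g : f.ker, (g.1.1 (Sum.inl 0) (Sum.inl 0)) ^ 2 = 1 ∧
      Matrix.scalar (Fin 2 ⊕ Fin 2) (g.1.1 (Sum.inl 0) (Sum.inl 0)) = g.1.1 := by
    intro g
    obtain ⟨r, hr, hr'⟩ := exists_scalar_of_rho5_eq_one h2
      ((hf1 g.1).mp (MonoidHom.mem_ker.mp g.2))
    have : g.1.1 (Sum.inl 0) (Sum.inl 0) = r := by rw [← hr']; simp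
    rw [this]
    exact ⟨hr, hr'⟩
  have hker : f.ker ≤ Subgroup.center (Matrix.symplecticGroup (Fin 2) F) := by
    intro g hg
    obtain ⟨-, hr'⟩ := hscal ⟨g, hg⟩
    rw [Subgroup.mem_center_iff]
    intro h
    apply Subtype.ext
    show h.1 * g.1 = g.1 * h.1
    rw [← hr']
    exact (Matrix.scalar_commute _ (fun _ => Commute.all _ _) h.1).symm.eq
  have hk2 : Nat.card f.ker ≤ 2 := by
    have hS : ∀ g : f.ker, g.1.1 (Sum.inl 0) (Sum.inl 0) ∈ ({1, -1} : Finset F) := by
      intro g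
      obtain ⟨hr, -⟩ := hscal g
      have : (g.1.1 (Sum.inl 0) (Sum.inl 0) - 1) * (g.1.1 (Sum.inl 0) (Sum.inl 0) + 1) = 0 := by
        linear_combination hr
      rcases mul_eq_zero.mp this with h | h
      · have : g.1.1 (Sum.inl 0) (Sum.inl 0) = 1 := by linear_combination h
        simp [this]
      · have : g.1.1 (Sum.inl 0) (Sum.inl 0) = -1 := by linear_combination h
        simp [this]
    have hinj : Function.Injective
        (fun g : f.ker => (⟨g.1.1 (Sum.inl 0) (Sum.inl 0), hS g⟩ : ({1, -1} : Finset F))) := by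
      intro g g' h
      have h' : g.1.1 (Sum.inl 0) (Sum.inl 0) = g'.1.1 (Sum.inl 0) (Sum.inl 0) :=
        congrArg Subtype.val h
      apply Subtype.ext
      apply Subtype.ext
      rw [← (hscal g).2, ← (hscal g').2, h']
    calc Nat.card f.ker ≤ Nat.card ({1, -1} : Finset F) := Nat.card_le_card_of_injective _ hinj
      _ = ({1, -1} : Finset F).card := by rw [Nat.card_eq_fintype_card, Fintype.card_coe]
      _ ≤ 2 := Finset.card_le_two
  have hrange : Nat.card f.range * Nat.card f.ker = n := by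
    rw [hn, ← Nat.card_congr (QuotientGroup.quotientKerEquivRange f).toEquiv]
    exact (Subgroup.card_eq_card_quotient_mul_card_subgroup f.ker).symm
  -- surjectivity
  have hsurj : Function.Surjective f := by
    obtain ⟨e, he⟩ := Cfsg.Agent.Helper8.OmegaOdd.exists_nonsquare h2
    have hidx := (Cfsg.Agent.Helper8.OmegaOdd.commutator_eq (oddForm F 2) h2
      (oddForm_nondeg F 2 h2) (by decide) he).1
    have hΩ : Nat.card (Omega F ⇑(oddForm F 2)) * 4 = 2 * n := by
      rw [← hO', ← hidx]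
      exact Subgroup.card_mul_index _
    rw [← MonoidHom.range_eq_top]
    apply Subgroup.eq_top_of_le_card
    have h5 : Nat.card f.range * Nat.card f.ker ≤ Nat.card f.range * 2 :=
      Nat.mul_le_mul_left _ hk2
    omega
  obtain ⟨E⟩ := Cfsg.Agent.Helper8.QuotCenter.quotCenter_equiv f hsurj hker hperf
  exact ⟨E⟩

end Cfsg.Agent.S0301
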