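import Mathlib
import Cfsg.Statements.S0302
import Cfsg.Agent.Helper8.SL4Klein
import Cfsg.Agent.Helper8.QuotCenter
import Cfsg.Agent.Helper8.OmegaOdd
import Cfsg.Agent.Helper7.LinearCard
import Cfsg.Agent.Helper7.Transvections
import Cfsg.Agent.S0287

set_option autoImplicit false
open Cfsg

namespace Cfsg.Agent.S0302

open Matrix Cfsg.Agent.Helper8.StdForms Cfsg.Agent.Helper8.SL4Klein

/-- the kernel injects into the square roots of one. -/
theorem card_ker_le {F : Type*} [Field F] [Fintype F] [DecidableEq F] (S : Finset F)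
    (hS : ∀ r : F, r ^ 2 = 1 → r ∈ S)
    (f : SpecialLinearGroup (Fin 4) F →* ↥(Omega F ⇑(plusForm F 3)))
    (hf1 : ∀ x, f x = 1 ↔ rho x = 1) : Nat.card f.ker ≤ S.card := by
  have hmem : ∀ g : f.ker, g.1.1 0 0 ∈ S ∧ Matrix.scalar (Fin 4) (g.1.1 0 0) = g.1.1 := by
    intro g
    obtain ⟨r, hr, hr'⟩ := (rho_eq_one_iff' g.1).mp ((hf1 g.1).mp (MonoidHom.mem_ker.mp g.2))
    have : g.1.1 0 0 = r := by rw [← hr']; simp
    rw [this]
    exact ⟨hS r hr, hr'⟩
  have hinj : Function.Injective (fun g : f.ker => (⟨g.1.1 0 0, (hmem g).1⟩ : S)) := by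
    intro g g' h
    have h' : g.1.1 0 0 = g'.1.1 0 0 := congrArg Subtype.val h
    apply Subtype.ext
    apply Subtype.ext
    rw [← (hmem g).2, ← (hmem g').2, h']
  calc Nat.card f.ker ≤ Nat.card S := Nat.card_le_card_of_injective _ hinj
    _ = S.card := by rw [Nat.card_eq_fintype_card, Fintype.card_coe]

/-- PΩ^+_6(q) is isomorphic to PSL_4(q). -/
theorem result {F : Type*} [Field F] [Fintype F] : Nonempty (Cfsg.POmega F (Cfsg.quadFormPlus 3 F) ≃* Matrix.ProjectiveSpecialLinearGroup (Fin 4) F) := by
  classical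
  obtain ⟨q, hq⟩ : ∃ q, q = Fintype.card F := ⟨_, rfl⟩
  have hq2 : 2 ≤ q := by rw [hq]; exact Fintype.one_lt_card
  have hO := Cfsg.Agent.S0287.result (F := F) hq.symm 3 (by norm_num)
  have hQeq : Cfsg.quadFormPlus 3 F = ⇑(plusForm F 3) :=
    funext (fun v => (plusForm_apply F 3 v).symm)
  rw [hQeq] at hO ⊢
  obtain ⟨n, hn⟩ : ∃ n, n = Nat.card (SpecialLinearGroup (Fin 4) F) := ⟨_, rfl⟩
  have hnpos : 0 < n := by rw [hn]; exact Nat.card_pos
  have hn' : (q - 1) * n = (q ^ 4 - 1) * (q ^ 4 - q) * (q ^ 4 - q ^ 2) * (q ^ 4 - q ^ 3) := by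
    rw [hn, hq, Cfsg.Agent.Helper7.card_units_mul_card_SL, Matrix.card_GL_field,
      Fin.prod_univ_four]
    simp
  have hO' : Nat.card ↥(isometryGroup F ⇑(plusForm F 3)) = 2 * n := by
    have h1 : q ^ 4 - q = q * (q ^ 3 - 1) := by rw [Nat.mul_sub, mul_one]; ring_nf
    have h2 : q ^ 4 - q ^ 2 = q ^ 2 * (q ^ 2 - 1) := by rw [Nat.mul_sub, mul_one]; ring_nf
    have h3 : q ^ 4 - q ^ 3 = q ^ 3 * (q - 1) := by rw [Nat.mul_sub, mul_one]; ring_nf
    rw [h1, h2, h3] at hn'
    have hpos : 0 < q - 1 := by omega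
    apply Nat.eq_of_mul_eq_mul_left hpos
    rw [hO]
    have : (q - 1) * (2 * n) = 2 * ((q - 1) * n) := by ring
    rw [this, hn']
    norm_num [Finset.prod_range_succ]
    ring
  -- the image lies in `Ω`
  have hperf : commutator (SpecialLinearGroup (Fin 4) F) = ⊤ :=
    Cfsg.Agent.Helper7.Transv.commutator_SL_eq_top (by norm_num)
  have hmem : ∀ g : SpecialLinearGroup (Fin 4) F,
      rho g ∈ commutator ↥(isometryGroup F ⇑(plusForm F 3)) := by
    intro g
    have hg : g ∈ commutator (SpecialLinearGroup (Fin 4) F) := by rw [hperf]; exact Subgroup.mem_top g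
    have := Subgroup.mem_map_of_mem (rho (F := F)) hg
    rw [commutator_def, Subgroup.map_commutator] at this
    exact Subgroup.commutator_mono le_top le_top this
  obtain ⟨f, hf⟩ : ∃ f : SpecialLinearGroup (Fin 4) F →* ↥(Omega F ⇑(plusForm F 3)),
      ∀ x, (f x).1 = rho x :=
    ⟨rho.codRestrict _ hmem, fun x => rfl⟩
  have hf1 : ∀ x, f x = 1 ↔ rho x = 1 := by
    intro x
    rw [← hf, Subtype.ext_iff]
    rfl
  have hker : f.ker ≤ Subgroup.center (SpecialLinearGroup (Fin 4) F) := by
    intro g hg
    obtain ⟨r, hr, hr'⟩ := (rho_eq_one_iff' g).mp ((hf1 g).mp (MonoidHom.mem_ker.mp hg))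
    rw [Matrix.SpecialLinearGroup.mem_center_iff]
    refine ⟨r, ?_, hr'⟩
    rw [Fintype.card_fin]
    have : r ^ 4 = (r ^ 2) ^ 2 := by ring
    rw [this, hr, one_pow]
  have hrange : Nat.card f.range * Nat.card f.ker = n := by
    rw [hn, ← Nat.card_congr (QuotientGroup.quotientKerEquivRange f).toEquiv]
    exact (Subgroup.card_eq_card_quotient_mul_card_subgroup f.ker).symm
  have hkpos : 0 < Nat.card f.ker := Nat.card_pos
  -- surjectivity
  have hsurj : Function.Surjective f := by
    by_cases h2 : (2 : F) = 0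
    · -- `q` even: the kernel is trivial and the image has index two
      have hk1 : Nat.card f.ker ≤ 1 := by
        have := card_ker_le ({1} : Finset F) (fun r hr => by
          have h3 : (r - 1) ^ 2 = 0 := by linear_combination hr + (1 - r) * h2
          have : r = 1 := sub_eq_zero.mp (pow_eq_zero_iff (two_ne_zero) |>.mp h3)
          simp [this]) f hf1
        simpa using this
      have hk : Nat.card f.ker = 1 := by omega
      rw [hk, mul_one] at hrange
      have hrr : Nat.card (rho (F := F)).range = n := by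
        rw [← hrange]
        apply Nat.card_congr
        refine ⟨fun y => ⟨⟨y.1, ?_⟩, ?_⟩, fun y => ⟨y.1.1, ?_⟩, ?_, ?_⟩
        · obtain ⟨x, hx⟩ := y.2
          rw [← hx]
          exact hmem x
        · obtain ⟨x, hx⟩ := y.2
          exact ⟨x, Subtype.ext ((hf x).trans hx)⟩
        · obtain ⟨x, hx⟩ := y.2
          exact ⟨x, by rw [← hf, hx]⟩
        · intro y; rfl
        · intro y; rfl
      have hidx : (rho (F := F)).range.index = 2 := by
        have := Subgroup.card_mul_index (rho (F := F)).range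
        rw [hrr, hO'] at this
        have h3 : n * (rho (F := F)).range.index = n * 2 := by rw [this]; ring
        exact Nat.eq_of_mul_eq_mul_left hnpos h3
      haveI : (rho (F := F)).range.Normal := Subgroup.normal_of_index_eq_two hidx
      have hcard2 : Nat.card (↥(isometryGroup F ⇑(plusForm F 3)) ⧸ (rho (F := F)).range) = 2 := by
        rw [← Subgroup.index_eq_card, hidx]
      haveI : Fact (Nat.Prime 2) := ⟨Nat.prime_two⟩
      haveI : IsCyclic (↥(isometryGroup F ⇑(plusForm F 3)) ⧸ (rho (F := F)).range) :=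
        isCyclic_of_prime_card hcard2
      letI : CommGroup (↥(isometryGroup F ⇑(plusForm F 3)) ⧸ (rho (F := F)).range) :=
        IsCyclic.commGroup
      have hle : commutator ↥(isometryGroup F ⇑(plusForm F 3)) ≤ (rho (F := F)).range := by
        have := Abelianization.commutator_subset_ker (QuotientGroup.mk' (rho (F := F)).range)
        rwa [QuotientGroup.ker_mk'] at this
      intro y
      obtain ⟨x, hx⟩ := hle y.2
      exact ⟨x, Subtype.ext ((hf x).trans hx)⟩
    · -- `q` odd: the index of `Ω` is four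
      obtain ⟨e, he⟩ := Cfsg.Agent.Helper8.OmegaOdd.exists_nonsquare h2
      have hidx := (Cfsg.Agent.Helper8.OmegaOdd.commutator_eq (plusForm F 3) h2
        (plusForm_nondeg F 3) (by decide) he).1
      have hΩ : Nat.card (Omega F ⇑(plusForm F 3)) * 4 = 2 * n := by
        rw [← hO', ← hidx]
        exact Subgroup.card_mul_index _
      have hk2 : Nat.card f.ker ≤ 2 := by
        have := card_ker_le ({1, -1} : Finset F) (fun r hr => by
          have : (r - 1) * (r + 1) = 0 := by linear_combination hr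
          rcases mul_eq_zero.mp this with h | h
          · have : r = 1 := by linear_combination h
            simp [this]
          · have : r = -1 := by linear_combination h
            simp [this]) f hf1
        exact this.trans Finset.card_le_two
      rw [← MonoidHom.range_eq_top]
      apply Subgroup.eq_top_of_le_card
      have h5 : Nat.card f.range * Nat.card f.ker ≤ Nat.card f.range * 2 :=
        Nat.mul_le_mul_left _ hk2
      omega
  obtain ⟨E⟩ := Cfsg.Agent.Helper8.QuotCenter.quotCenter_equiv f hsurj hker hperf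
  exact ⟨E⟩

end Cfsg.Agent.S0302
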