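import Mathlib
import Cfsg.Statements.S0303
import Cfsg.Agent.Helper7.U4KleinD
import Cfsg.Agent.Helper7.SUSimpD
import Cfsg.Agent.Helper7.SLTransfer
import Cfsg.Agent.Helper7.IsomTransfer
import Cfsg.Agent.Helper8.QuotCenter
import Cfsg.Agent.Helper8.OmegaOdd
import Cfsg.Agent.S0278
import Cfsg.Agent.S0288

set_option autoImplicit false
set_option linter.style.haveILetI false
open Cfsg

namespace Cfsg.Agent.S0303

open Matrix Cfsg.Agent.Helper8.StdForms Cfsg.Agent.Helper7.U4Klein Cfsg.Agent.Helper7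

section transfer

variable {F K : Type*} [Field F] [Field K]

theorem hermForm_comp (φ : F ≃+* K) (n q : ℕ) (u v : Fin n → F) :
    hermForm n K q (φ ∘ u) (φ ∘ v) = φ (hermForm n F q u v) := by
  simp [hermForm, map_sum, map_mul, map_pow]

theorem slEquiv_val (φ : F ≃+* K) (n : ℕ) (g : Matrix.SpecialLinearGroup (Fin n) F) :
    (SLTransfer.slEquiv φ g).1 = g.1.map φ := rfl

theorem mem_SU_map (φ : F ≃+* K) (n q : ℕ) (g : Matrix.SpecialLinearGroup (Fin n) F)
    (hg : g ∈ SU n F q) : SLTransfer.slEquiv φ g ∈ SU n K q := by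
  intro u v
  show hermForm n K q ((SLTransfer.slEquiv φ g).1 *ᵥ u) ((SLTransfer.slEquiv φ g).1 *ᵥ v) =
    hermForm n K q u v
  have hu : u = φ ∘ (φ.symm ∘ u) := by funext i; simp
  have hv : v = φ ∘ (φ.symm ∘ v) := by funext i; simp
  rw [slEquiv_val, hu, hv, IsomTransfer.map_mulVec_comp, IsomTransfer.map_mulVec_comp,
    hermForm_comp, hermForm_comp]
  exact congrArg φ (hg _ _)

theorem map_SU (φ : F ≃+* K) (n q : ℕ) :
    (SU n F q).map ((SLTransfer.slEquiv φ :
      Matrix.SpecialLinearGroup (Fin n) F ≃* Matrix.SpecialLinearGroup (Fin n) K) :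
      Matrix.SpecialLinearGroup (Fin n) F →* Matrix.SpecialLinearGroup (Fin n) K) = SU n K q := by
  ext g
  constructor
  · rintro ⟨h, hh, rfl⟩
    exact mem_SU_map φ n q h hh
  · intro hg
    refine ⟨(SLTransfer.slEquiv φ).symm g, ?_, by simp⟩
    have := mem_SU_map φ.symm n q g hg
    exact this

/-- The isomorphism of special unitary groups induced by a field isomorphism. -/
noncomputable def suEquiv (φ : F ≃+* K) (n q : ℕ) : SU n F q ≃* SU n K q :=
  ((SLTransfer.slEquiv φ).subgroupMap (SU n F q)).trans (MulEquiv.subgroupCongr (map_SU φ n q))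

/-- The isomorphism of projective special unitary groups induced by a field isomorphism. -/
noncomputable def psuEquiv (φ : F ≃+* K) (n q : ℕ) : PSU n F q ≃* PSU n K q :=
  SLTransfer.centerQuotEquiv (suEquiv φ n q)

end transfer

/-- the kernel injects into the square roots of one. -/
theorem card_ker_le {F : Type*} [Field F] {a b : F} [Hab : Fact (∀ r : F, r ^ 2 ≠ -b + a * r)]
    [DecidableEq (EE F a b)] (c : EE F a b) (hc : QuadraticAlgebra.norm c = -1)
    (hD : 4 * b - a ^ 2 ≠ 0) {q : ℕ} (hq : ∀ z : EE F a b, star z = z ^ q)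
    (S : Finset (EE F a b)) (hS : ∀ r : EE F a b, r ^ 2 = 1 → r ∈ S)
    (f : SU 4 (EE F a b) q →* ↥(Omega F ⇑(minusForm F 2 a b)))
    (hf1 : ∀ x, f x = 1 → rhoU c hc hD hq x = 1) : Nat.card f.ker ≤ S.card := by
  have hmem : ∀ g : f.ker, g.1.1.1 0 0 ∈ S ∧ Matrix.scalar (Fin 4) (g.1.1.1 0 0) = g.1.1.1 := by
    intro g
    obtain ⟨r, hr, hr'⟩ := rhoU_eq_one c hc hD hq g.1 (hf1 g.1 (MonoidHom.mem_ker.mp g.2))
    have : g.1.1.1 0 0 = r := by rw [← hr']; simp
    rw [this]
    exact ⟨hS r hr, hr'⟩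
  have hinj : Function.Injective (fun g : f.ker => (⟨g.1.1.1 0 0, (hmem g).1⟩ : S)) := by
    intro g g' h
    have h' : g.1.1.1 0 0 = g'.1.1.1 0 0 := congrArg Subtype.val h
    apply Subtype.ext
    apply Subtype.ext
    apply Subtype.ext
    rw [← (hmem g).2, ← (hmem g').2, h']
  calc Nat.card f.ker ≤ Nat.card S := Nat.card_le_card_of_injective _ hinj
    _ = S.card := by rw [Nat.card_eq_fintype_card, Fintype.card_coe]

theorem sq_sub_one (s : ℕ) : s ^ 2 - 1 = (s - 1) * (s + 1) := by
  rcases s with _ | t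
  · rfl
  · rw [Nat.add_sub_cancel]
    have : (t + 1) ^ 2 = t * (t + 1 + 1) + 1 := by ring
    rw [this, Nat.add_sub_cancel]

/-- the model: `PΩ⁻₆(F) ≅ PSU₄(F[ω])`. -/
theorem main {F : Type*} [Field F] [Fintype F] {q : ℕ} (hF : Fintype.card F = q) (a b : F)
    (hab : ∀ z₁ z₂ : F, z₁ ^ 2 + a * z₁ * z₂ + b * z₂ ^ 2 = 0 → z₁ = 0 ∧ z₂ = 0)
    [Hab : Fact (∀ r : F, r ^ 2 ≠ -b + a * r)] :
    Nonempty (Cfsg.POmega F (Cfsg.quadFormMinus 2 F a b) ≃* Cfsg.PSU 4 (EE F a b) q) := by
  classical
  have hq2 : 2 ≤ q := by rw [← hF]; exact Fintype.one_lt_card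
  have hK : Fintype.card (EE F a b) = q ^ 2 := by rw [NormOne.card_quadAlg, hF]
  haveI : Fact (Fintype.card (EE F a b) = q ^ 2) := ⟨hK⟩
  have hq : ∀ z : EE F a b, star z = z ^ q := fun z => by rw [← hF, NormOne.pow_card_eq_star]
  have hD : 4 * b - a ^ 2 ≠ 0 := disc_ne_zero
  obtain ⟨c, hc⟩ := exists_norm_eq (a := a) (b := b) (-1 : F) (neg_ne_zero.mpr one_ne_zero)
  have hO : Nat.card (isometryGroup F (quadFormMinus 2 F a b))
      = 2 * q ^ (3 * (3 - 1)) * (q ^ 3 + 1) * ∏ i ∈ Finset.range (3 - 1), (q ^ (2 * (i + 1)) - 1) :=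
    Cfsg.Agent.S0288.result (F := F) hF 3 (by norm_num) a b hab
  have hQeq : Cfsg.quadFormMinus 2 F a b = ⇑(minusForm F 2 a b) :=
    funext (fun v => (minusForm_apply F 2 a b v).symm)
  rw [hQeq] at hO ⊢
  obtain ⟨n, hn⟩ : ∃ n, n = Nat.card (SU 4 (EE F a b) q) := ⟨_, rfl⟩
  have hnpos : 0 < n := by rw [hn]; exact Nat.card_pos
  have hn' : (q + 1) * n = q ^ 6 * ((q + 1) * (q ^ 2 - 1) * (q ^ 3 + 1) * (q ^ 4 - 1)) := by
    rw [hn, Cfsg.Agent.S0278.result (F := EE F a b) hK 4 (by norm_num)]
    norm_num [Finset.prod_range_succ]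
  have hO' : Nat.card ↥(isometryGroup F ⇑(minusForm F 2 a b)) = 2 * n := by
    apply Nat.eq_of_mul_eq_mul_left (Nat.succ_pos q)
    rw [hO]
    have : (q + 1) * (2 * n) = 2 * ((q + 1) * n) := by ring
    rw [this, hn']
    norm_num [Finset.prod_range_succ]
    ring
  -- the image lies in `Ω`
  have hperf : commutator (SU 4 (EE F a b) q) = ⊤ :=
    Cfsg.Agent.Helper7.SUSimp.commutator_SU_eq_top (k := 2) (by norm_num) (by omega)
  have hmem : ∀ g : SU 4 (EE F a b) q,
      rhoU c hc hD hq g ∈ commutator ↥(isometryGroup F ⇑(minusForm F 2 a b)) := by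
    intro g
    have hg : g ∈ commutator (SU 4 (EE F a b) q) := by rw [hperf]; exact Subgroup.mem_top g
    have := Subgroup.mem_map_of_mem (rhoU c hc hD hq) hg
    rw [commutator_def, Subgroup.map_commutator] at this
    exact Subgroup.commutator_mono le_top le_top this
  obtain ⟨f, hf⟩ : ∃ f : SU 4 (EE F a b) q →* ↥(Omega F ⇑(minusForm F 2 a b)),
      ∀ x, (f x).1 = rhoU c hc hD hq x :=
    ⟨(rhoU c hc hD hq).codRestrict _ hmem, fun x => rfl⟩
  have hf1 : ∀ x, f x = 1 ↔ rhoU c hc hD hq x = 1 := by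
    intro x
    rw [← hf, Subtype.ext_iff]
    rfl
  have hker : f.ker ≤ Subgroup.center (SU 4 (EE F a b) q) := by
    intro g hg
    obtain ⟨r, hr, hr'⟩ := rhoU_eq_one c hc hD hq g ((hf1 g).mp (MonoidHom.mem_ker.mp hg))
    rw [Subgroup.mem_center_iff]
    intro h
    apply Subtype.ext
    apply Subtype.ext
    show h.1.1 * g.1.1 = g.1.1 * h.1.1
    rw [← hr']
    exact (Matrix.scalar_commute _ (fun _ => Commute.all _ _) h.1.1).symm.eq
  have hrange : Nat.card f.range * Nat.card f.ker = n := by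
    rw [hn, ← Nat.card_congr (QuotientGroup.quotientKerEquivRange f).toEquiv]
    exact (Subgroup.card_eq_card_quotient_mul_card_subgroup f.ker).symm
  have hkpos : 0 < Nat.card f.ker := Nat.card_pos
  -- surjectivity
  have hsurj : Function.Surjective f := by
    by_cases h2 : (2 : F) = 0
    · -- `q` even: the kernel is trivial and the image has index two
      have h2E : (2 : EE F a b) = 0 := by
        have := congrArg (algebraMap F (EE F a b)) h2
        rwa [map_ofNat, map_zero] at this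
      have hk1 : Nat.card f.ker ≤ 1 := by
        have := card_ker_le c hc hD hq ({1} : Finset (EE F a b)) (fun r hr => by
          have h3 : (r - 1) ^ 2 = 0 := by linear_combination hr + (1 - r) * h2E
          have : r = 1 := sub_eq_zero.mp (pow_eq_zero_iff (two_ne_zero) |>.mp h3)
          simp [this]) f (fun x hx => (hf1 x).mp hx)
        simpa using this
      have hk : Nat.card f.ker = 1 := by omega
      rw [hk, mul_one] at hrange
      have hrr : Nat.card (rhoU c hc hD hq).range = n := by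
        rw [← hrange]
        apply Nat.card_congr
        refine ⟨fun y => ⟨⟨y.1, ?_⟩, ?_⟩, fun y => ⟨y.1.1, ?_⟩, ?_, ?_⟩
        · obtain ⟨x, hx⟩ := y.2
          rw [← hx]
          exact hmem x
        · obtain ⟨x, hx⟩ := y.2
          exact ⟨x, Subtype.ext ((hf x).trans hx)⟩
        · obtain ⟨x, hx⟩ := y.2
          exact ⟨x, by rw [← hf, hx]⟩
        · intro y; rfl
        · intro y; rfl
      have hidx : (rhoU c hc hD hq).range.index = 2 := by
        have := Subgroup.card_mul_index (rhoU c hc hD hq).range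
        rw [hrr, hO'] at this
        have h3 : n * (rhoU c hc hD hq).range.index = n * 2 := by rw [this]; ring
        exact Nat.eq_of_mul_eq_mul_left hnpos h3
      haveI : (rhoU c hc hD hq).range.Normal := Subgroup.normal_of_index_eq_two hidx
      have hcard2 : Nat.card (↥(isometryGroup F ⇑(minusForm F 2 a b)) ⧸
          (rhoU c hc hD hq).range) = 2 := by
        rw [← Subgroup.index_eq_card, hidx]
      haveI : Fact (Nat.Prime 2) := ⟨Nat.prime_two⟩
      haveI : IsCyclic (↥(isometryGroup F ⇑(minusForm F 2 a b)) ⧸ (rhoU c hc hD hq).range) :=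
        isCyclic_of_prime_card hcard2
      letI : CommGroup (↥(isometryGroup F ⇑(minusForm F 2 a b)) ⧸ (rhoU c hc hD hq).range) :=
        IsCyclic.commGroup
      have hle : commutator ↥(isometryGroup F ⇑(minusForm F 2 a b))
          ≤ (rhoU c hc hD hq).range := by
        have := Abelianization.commutator_subset_ker
          (QuotientGroup.mk' (rhoU c hc hD hq).range)
        rwa [QuotientGroup.ker_mk'] at this
      intro y
      obtain ⟨x, hx⟩ := hle y.2
      exact ⟨x, Subtype.ext ((hf x).trans hx)⟩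
    · -- `q` odd: the index of `Ω` is four
      obtain ⟨e, he⟩ := Cfsg.Agent.Helper8.OmegaOdd.exists_nonsquare h2
      have hidx := (Cfsg.Agent.Helper8.OmegaOdd.commutator_eq (minusForm F 2 a b) h2
        (minusForm_nondeg F 2 hab) (by decide) he).1
      have hΩ : Nat.card (Omega F ⇑(minusForm F 2 a b)) * 4 = 2 * n := by
        rw [← hO', ← hidx]
        exact Subgroup.card_mul_index _
      have hk2 : Nat.card f.ker ≤ 2 := by
        have := card_ker_le c hc hD hq ({1, -1} : Finset (EE F a b)) (fun r hr => by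
          have : (r - 1) * (r + 1) = 0 := by linear_combination hr
          rcases mul_eq_zero.mp this with h | h
          · have : r = 1 := by linear_combination h
            simp [this]
          · have : r = -1 := by linear_combination h
            simp [this]) f (fun x hx => (hf1 x).mp hx)
        exact this.trans Finset.card_le_two
      rw [← MonoidHom.range_eq_top]
      apply Subgroup.eq_top_of_le_card
      have h5 : Nat.card f.range * Nat.card f.ker ≤ Nat.card f.range * 2 :=
        Nat.mul_le_mul_left _ hk2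
      omega
  obtain ⟨E⟩ := Cfsg.Agent.Helper8.QuotCenter.quotCenter_equiv f hsurj hker hperf
  exact ⟨E⟩

/-- PΩ^-_6(q) is isomorphic to PSU_4(q). -/
theorem result {F K : Type*} [Field F] [Fintype F] [Field K] [Fintype K] {q : ℕ} (hF : Fintype.card F = q) (hK : Fintype.card K = q ^ 2) (a b : F) (hab : ∀ z₁ z₂ : F, z₁ ^ 2 + a * z₁ * z₂ + b * z₂ ^ 2 = 0 → z₁ = 0 ∧ z₂ = 0) : Nonempty (Cfsg.POmega F (Cfsg.quadFormMinus 2 F a b) ≃* Cfsg.PSU 4 K q) := by
  classical
  haveI Hab : Fact (∀ r : F, r ^ 2 ≠ -b + a * r) := ⟨fun r hr => by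
    have := (hab (-r) 1 (by linear_combination hr)).2
    exact one_ne_zero this⟩
  have hK' : Fintype.card (EE F a b) = q ^ 2 := by rw [NormOne.card_quadAlg, hF]
  obtain ⟨E⟩ := main hF a b hab
  have e : EE F a b ≃+* K := FiniteField.ringEquivOfCardEq (hK'.trans hK.symm)
  exact ⟨E.trans (psuEquiv e 4 q)⟩

end Cfsg.Agent.S0303
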