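import Mathlib
import Cfsg.Statements.S0305
import Cfsg.Agent.Helper2.DihedralIso

set_option autoImplicit false
set_option linter.unusedSectionVars false
open Cfsg

namespace Cfsg.Agent.S0305

open Matrix

variable {F : Type*} [Field F]

/-- The index type of the hyperbolic plane. -/
abbrev I2 := Fin 1 ⊕ Fin 1

theorem quad_eq (v : I2 → F) : quadFormPlus 1 F v = v (Sum.inl 0) * v (Sum.inr 0) := by
  simp [quadFormPlus]

theorem mulVec_inl (M : Matrix I2 I2 F) (v : I2 → F) :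
    (M *ᵥ v) (Sum.inl 0) = M (Sum.inl 0) (Sum.inl 0) * v (Sum.inl 0) +
      M (Sum.inl 0) (Sum.inr 0) * v (Sum.inr 0) := by
  simp [Matrix.mulVec, dotProduct, Fintype.sum_sum_type]

theorem mulVec_inr (M : Matrix I2 I2 F) (v : I2 → F) :
    (M *ᵥ v) (Sum.inr 0) = M (Sum.inr 0) (Sum.inl 0) * v (Sum.inl 0) +
      M (Sum.inr 0) (Sum.inr 0) * v (Sum.inr 0) := by
  simp [Matrix.mulVec, dotProduct, Fintype.sum_sum_type]

theorem mem_iff (g : Matrix.GeneralLinearGroup I2 F) :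
    g ∈ isometryGroup F (quadFormPlus 1 F) ↔
      ∀ v : I2 → F, quadFormPlus 1 F ((g : Matrix I2 I2 F) *ᵥ v) = quadFormPlus 1 F v := by
  constructor
  · intro h v; exact h v v
  · intro h u v; exact h u

theorem ext2 {M N : Matrix I2 I2 F} (h1 : M (Sum.inl 0) (Sum.inl 0) = N (Sum.inl 0) (Sum.inl 0))
    (h2 : M (Sum.inl 0) (Sum.inr 0) = N (Sum.inl 0) (Sum.inr 0))
    (h3 : M (Sum.inr 0) (Sum.inl 0) = N (Sum.inr 0) (Sum.inl 0))
    (h4 : M (Sum.inr 0) (Sum.inr 0) = N (Sum.inr 0) (Sum.inr 0)) : M = N := by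
  ext i j
  rcases i with i | i <;> rcases j with j | j <;>
    rw [Subsingleton.elim i 0, Subsingleton.elim j 0] <;> assumption

/-- The matrix `[[a, b], [c, d]]`. -/
def mk2 (a b c d : F) : Matrix I2 I2 F :=
  Matrix.of fun i j => Sum.elim (fun _ => Sum.elim (fun _ => a) (fun _ => b) j)
    (fun _ => Sum.elim (fun _ => c) (fun _ => d) j) i

@[simp] theorem mk2_ll (a b c d : F) (i j : Fin 1) : mk2 a b c d (Sum.inl i) (Sum.inl j) = a := rfl
@[simp] theorem mk2_lr (a b c d : F) (i j : Fin 1) : mk2 a b c d (Sum.inl i) (Sum.inr j) = b := rfl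
@[simp] theorem mk2_rl (a b c d : F) (i j : Fin 1) : mk2 a b c d (Sum.inr i) (Sum.inl j) = c := rfl
@[simp] theorem mk2_rr (a b c d : F) (i j : Fin 1) : mk2 a b c d (Sum.inr i) (Sum.inr j) = d := rfl

theorem mk2_mul (a b c d a' b' c' d' : F) :
    mk2 a b c d * mk2 a' b' c' d' =
      mk2 (a * a' + b * c') (a * b' + b * d') (c * a' + d * c') (c * b' + d * d') := by
  apply ext2 <;> simp [Matrix.mul_apply, Fintype.sum_sum_type]

theorem mk2_one : (1 : Matrix I2 I2 F) = mk2 1 0 0 1 := by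
  apply ext2 <;> simp

theorem eq_mk2 (M : Matrix I2 I2 F) :
    M = mk2 (M (Sum.inl 0) (Sum.inl 0)) (M (Sum.inl 0) (Sum.inr 0)) (M (Sum.inr 0) (Sum.inl 0))
      (M (Sum.inr 0) (Sum.inr 0)) := by
  apply ext2 <;> simp

theorem quad_mk2 (a b c d : F) (v : I2 → F) :
    quadFormPlus 1 F (mk2 a b c d *ᵥ v) =
      (a * v (Sum.inl 0) + b * v (Sum.inr 0)) * (c * v (Sum.inl 0) + d * v (Sum.inr 0)) := by
  rw [quad_eq, mulVec_inl, mulVec_inr]; simp

/-- `diag(a, a⁻¹)` as an element of `GL`. -/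
def dGL (a : Fˣ) : Matrix.GeneralLinearGroup I2 F :=
  ⟨mk2 (a : F) 0 0 ((a⁻¹ : Fˣ) : F), mk2 ((a⁻¹ : Fˣ) : F) 0 0 (a : F),
    by rw [mk2_mul, mk2_one]; simp, by rw [mk2_mul, mk2_one]; simp⟩

/-- The swap as an element of `GL`. -/
def sGL : Matrix.GeneralLinearGroup I2 F :=
  ⟨mk2 0 1 1 0, mk2 0 1 1 0, by rw [mk2_mul, mk2_one]; simp, by rw [mk2_mul, mk2_one]; simp⟩

theorem dGL_mem (a : Fˣ) : dGL a ∈ isometryGroup F (quadFormPlus 1 F) := by
  rw [mem_iff]
  intro v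
  show quadFormPlus 1 F (mk2 (a : F) 0 0 ((a⁻¹ : Fˣ) : F) *ᵥ v) = _
  rw [quad_mk2, quad_eq]
  have : (a : F) * ((a⁻¹ : Fˣ) : F) = 1 := by simp
  linear_combination (v (Sum.inl 0) * v (Sum.inr 0)) * this

theorem sGL_mem : (sGL : Matrix.GeneralLinearGroup I2 F) ∈ isometryGroup F (quadFormPlus 1 F) := by
  rw [mem_iff]
  intro v
  show quadFormPlus 1 F (mk2 (0 : F) 1 1 0 *ᵥ v) = _
  rw [quad_mk2, quad_eq]
  ring

/-- The isometry group of the hyperbolic plane. -/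
abbrev G (F : Type*) [Field F] := ↥(isometryGroup F (quadFormPlus 1 F))

/-- `diag(a, a⁻¹)` as a homomorphism into the isometry group. -/
def dHom : Fˣ →* G F where
  toFun a := ⟨dGL a, dGL_mem a⟩
  map_one' := by
    apply Subtype.ext; apply Units.ext
    show mk2 ((1 : Fˣ) : F) 0 0 (((1 : Fˣ)⁻¹ : Fˣ) : F) = 1
    rw [mk2_one]; simp
  map_mul' a b := by
    apply Subtype.ext; apply Units.ext
    show mk2 ((a * b : Fˣ) : F) 0 0 (((a * b)⁻¹ : Fˣ) : F) =
      mk2 (a : F) 0 0 ((a⁻¹ : Fˣ) : F) * mk2 (b : F) 0 0 ((b⁻¹ : Fˣ) : F)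
    rw [mk2_mul]; simp [mul_comm]

/-- The swap in the isometry group. -/
def sEl : G F := ⟨sGL, sGL_mem⟩

theorem dHom_injective : Function.Injective (dHom : Fˣ →* G F) := by
  intro a b h
  have h1 : ((dHom a : G F) : Matrix.GeneralLinearGroup I2 F).1 (Sum.inl 0) (Sum.inl 0) =
      ((dHom b : G F) : Matrix.GeneralLinearGroup I2 F).1 (Sum.inl 0) (Sum.inl 0) := by rw [h]
  exact Units.ext h1

theorem sEl_mul_self : (sEl : G F) * sEl = 1 := by
  apply Subtype.ext; apply Units.ext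
  show mk2 (0 : F) 1 1 0 * mk2 (0 : F) 1 1 0 = 1
  rw [mk2_mul, mk2_one]; simp

theorem sEl_ne_one : (sEl : G F) ≠ 1 := by
  intro h
  have : ((sEl : G F) : Matrix.GeneralLinearGroup I2 F).1 (Sum.inl 0) (Sum.inl 0) =
      ((1 : G F) : Matrix.GeneralLinearGroup I2 F).1 (Sum.inl 0) (Sum.inl 0) := by rw [h]
  have h2 : (0 : F) = 1 := by simp [sEl, sGL] at this
  exact zero_ne_one h2

theorem conj_dHom (a : Fˣ) : (sEl : G F) * dHom a = dHom a⁻¹ * sEl := by
  apply Subtype.ext; apply Units.ext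
  show mk2 (0 : F) 1 1 0 * mk2 (a : F) 0 0 ((a⁻¹ : Fˣ) : F) =
    mk2 ((a⁻¹ : Fˣ) : F) 0 0 (((a⁻¹)⁻¹ : Fˣ) : F) * mk2 (0 : F) 1 1 0
  rw [mk2_mul, mk2_mul]; simp

/-- Classification of the isometries. -/
theorem classify (g : G F) : (∃ a : Fˣ, g = dHom a) ∨ (∃ a : Fˣ, g = sEl * dHom a) := by
  obtain ⟨g, hg⟩ := g
  rw [mem_iff] at hg
  set M : Matrix I2 I2 F := (g : Matrix I2 I2 F) with hM
  set a := M (Sum.inl 0) (Sum.inl 0) with ha
  set b := M (Sum.inl 0) (Sum.inr 0) with hb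
  set c := M (Sum.inr 0) (Sum.inl 0) with hc
  set d := M (Sum.inr 0) (Sum.inr 0) with hd
  have hMe : M = mk2 a b c d := eq_mk2 M
  have h1 := hg (Sum.elim (fun _ => 1) (fun _ => 0))
  have h2 := hg (Sum.elim (fun _ => 0) (fun _ => 1))
  have h3 := hg (Sum.elim (fun _ => 1) (fun _ => 1))
  rw [hMe, quad_mk2, quad_eq] at h1 h2 h3
  simp only [Sum.elim_inl, Sum.elim_inr, mul_one, mul_zero, add_zero, zero_add] at h1 h2 h3
  have h4 : a * d + b * c = 1 := by linear_combination h3 - h1 - h2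
  rcases mul_eq_zero.mp h1 with ha0 | hc0
  · -- a = 0
    right
    have hbc : b * c = 1 := by rw [ha0] at h4; simpa using h4
    have hb0 : b ≠ 0 := left_ne_zero_of_mul_eq_one hbc
    have hd0 : d = 0 := by
      rcases mul_eq_zero.mp h2 with h | h
      · exact absurd h hb0
      · exact h
    refine ⟨Units.mkOfMulEqOne c b (by rw [mul_comm]; exact hbc), ?_⟩
    apply Subtype.ext; apply Units.ext
    show M = mk2 (0 : F) 1 1 0 * mk2 c 0 0 _
    rw [mk2_mul, hMe, ha0, hd0]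
    have : ((Units.mkOfMulEqOne c b (by rw [mul_comm]; exact hbc))⁻¹ : Fˣ) = (b : F) := rfl
    rw [this]
    simp
  · left
    have had : a * d = 1 := by rw [hc0] at h4; simpa using h4
    have hd0 : d ≠ 0 := right_ne_zero_of_mul_eq_one had
    have hb0 : b = 0 := by
      rcases mul_eq_zero.mp h2 with h | h
      · exact h
      · exact absurd h hd0
    refine ⟨Units.mkOfMulEqOne a d had, ?_⟩
    apply Subtype.ext; apply Units.ext
    show M = mk2 a 0 0 _
    rw [hMe, hb0, hc0]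
    rfl

theorem s_mul_d_ne_one (a : Fˣ) : (sEl : G F) * dHom a ≠ 1 := by
  intro h
  have h0 : (((sEl : G F) * dHom a : G F) : Matrix.GeneralLinearGroup I2 F).1 (Sum.inl 0) (Sum.inl 0) =
      ((1 : G F) : Matrix.GeneralLinearGroup I2 F).1 (Sum.inl 0) (Sum.inl 0) := by rw [h]
  have e : (((sEl : G F) * dHom a : G F) : Matrix.GeneralLinearGroup I2 F).1 =
      mk2 (0 : F) 1 1 0 * mk2 (a : F) 0 0 ((a⁻¹ : Fˣ) : F) := rfl
  rw [e, mk2_mul] at h0
  simp at h0

/-- GO^+_2(q) is dihedral of order 2(q-1). -/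
theorem result {F : Type*} [Field F] [Fintype F] {q : ℕ} (hF : Fintype.card F = q) : Nonempty (Cfsg.isometryGroup F (Cfsg.quadFormPlus 1 F) ≃* DihedralGroup (q - 1)) := by
  classical
  obtain ⟨ζ, hζ⟩ := IsCyclic.exists_generator (α := Fˣ)
  set x : G F := sEl with hxdef
  set y : G F := sEl * dHom ζ with hydef
  have hx : x * x = 1 := sEl_mul_self
  have hxy : x * y = dHom ζ := by rw [hydef, ← mul_assoc, hx, one_mul]
  have hy : y * y = 1 := by
    have h1 := conj_dHom (F := F) ζ⁻¹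
    rw [inv_inv] at h1
    calc y * y = sEl * (dHom ζ * sEl) * dHom ζ := by rw [hydef]; group
      _ = sEl * (sEl * dHom ζ⁻¹) * dHom ζ := by rw [h1]
      _ = (sEl * sEl) * (dHom ζ⁻¹ * dHom ζ) := by group
      _ = 1 := by rw [sEl_mul_self, ← map_mul, inv_mul_cancel, map_one, one_mul]
  have hx1 : x ≠ 1 := sEl_ne_one
  have hy1 : y ≠ 1 := s_mul_d_ne_one ζ
  have hord : orderOf (x * y) = q - 1 := by
    rw [hxy, orderOf_injective dHom dHom_injective, orderOf_eq_card_of_forall_mem_zpowers hζ,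
      Nat.card_eq_fintype_card, Fintype.card_units, hF]
  have hxm : x ∈ Subgroup.closure ({x, y} : Set (G F)) := Subgroup.subset_closure (by simp)
  have hym : y ∈ Subgroup.closure ({x, y} : Set (G F)) := Subgroup.subset_closure (by simp)
  have hdm : ∀ a : Fˣ, dHom a ∈ Subgroup.closure ({x, y} : Set (G F)) := by
    intro a
    obtain ⟨k, hk⟩ := hζ a
    rw [← hk, map_zpow, ← hxy]
    exact Subgroup.zpow_mem _ (Subgroup.mul_mem _ hxm hym) _
  have htop : Subgroup.closure ({x, y} : Set (G F)) = ⊤ := by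
    rw [eq_top_iff]
    intro g _
    rcases classify g with ⟨a, rfl⟩ | ⟨a, rfl⟩
    · exact hdm a
    · exact Subgroup.mul_mem _ hxm (hdm a)
  obtain ⟨e⟩ := Helper2.closure_pair_invol_equiv_dihedral hx hy hx1 hy1
  have e' : ↥(Subgroup.closure ({x, y} : Set (G F))) ≃* DihedralGroup (q - 1) := hord ▸ e
  exact ⟨(Subgroup.topEquiv.symm.trans (MulEquiv.subgroupCongr htop.symm)).trans e'⟩

end Cfsg.Agent.S0305
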