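import Mathlib
import Cfsg.Statements.S0306
import Cfsg.Agent.Helper2.DihedralIso
import Cfsg.Agent.Helper7.NormOne

set_option autoImplicit false
set_option linter.unusedSectionVars false
open Cfsg

namespace Cfsg.Agent.S0306

open Matrix QuadraticAlgebra Cfsg.Agent.Helper7.NormOne

variable {F : Type*} [Field F]

/-- The index type of the anisotropic plane. -/
abbrev J2 := (Fin 0 ⊕ Fin 0) ⊕ Fin 2

theorem quad_eq (a b : F) (v : J2 → F) :
    quadFormMinus 0 F a b v =
      v (Sum.inr 0) ^ 2 + a * v (Sum.inr 0) * v (Sum.inr 1) + b * v (Sum.inr 1) ^ 2 := by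
  simp [quadFormMinus]

theorem mulVec_zero (M : Matrix J2 J2 F) (v : J2 → F) :
    (M *ᵥ v) (Sum.inr 0) = M (Sum.inr 0) (Sum.inr 0) * v (Sum.inr 0) +
      M (Sum.inr 0) (Sum.inr 1) * v (Sum.inr 1) := by
  simp [Matrix.mulVec, dotProduct, Fintype.sum_sum_type, Fin.sum_univ_two]

theorem mulVec_one (M : Matrix J2 J2 F) (v : J2 → F) :
    (M *ᵥ v) (Sum.inr 1) = M (Sum.inr 1) (Sum.inr 0) * v (Sum.inr 0) +
      M (Sum.inr 1) (Sum.inr 1) * v (Sum.inr 1) := by
  simp [Matrix.mulVec, dotProduct, Fintype.sum_sum_type, Fin.sum_univ_two]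

theorem mem_iff (a b : F) (g : Matrix.GeneralLinearGroup J2 F) :
    g ∈ isometryGroup F (quadFormMinus 0 F a b) ↔
      ∀ v : J2 → F, quadFormMinus 0 F a b (g.1 *ᵥ v) = quadFormMinus 0 F a b v := by
  constructor
  · intro h v; exact h v v
  · intro h u v; exact h u

theorem ext2 {M N : Matrix J2 J2 F} (h1 : M (Sum.inr 0) (Sum.inr 0) = N (Sum.inr 0) (Sum.inr 0))
    (h2 : M (Sum.inr 0) (Sum.inr 1) = N (Sum.inr 0) (Sum.inr 1))
    (h3 : M (Sum.inr 1) (Sum.inr 0) = N (Sum.inr 1) (Sum.inr 0))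
    (h4 : M (Sum.inr 1) (Sum.inr 1) = N (Sum.inr 1) (Sum.inr 1)) : M = N := by
  ext i j
  rcases i with (i | i) | i
  · exact i.elim0
  · exact i.elim0
  rcases j with (j | j) | j
  · exact j.elim0
  · exact j.elim0
  fin_cases i <;> fin_cases j <;> assumption

/-- The matrix `[[p, r], [s, t]]`. -/
def mk2 (p r s t : F) : Matrix J2 J2 F :=
  Matrix.of fun i j => Sum.elim (fun _ => 0)
    (fun i' => Sum.elim (fun _ => 0) (fun j' => ![![p, r], ![s, t]] i' j') j) i

@[simp] theorem mk2_00 (p r s t : F) : mk2 p r s t (Sum.inr 0) (Sum.inr 0) = p := rfl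
@[simp] theorem mk2_01 (p r s t : F) : mk2 p r s t (Sum.inr 0) (Sum.inr 1) = r := rfl
@[simp] theorem mk2_10 (p r s t : F) : mk2 p r s t (Sum.inr 1) (Sum.inr 0) = s := rfl
@[simp] theorem mk2_11 (p r s t : F) : mk2 p r s t (Sum.inr 1) (Sum.inr 1) = t := rfl

theorem mk2_mul (p r s t p' r' s' t' : F) :
    mk2 p r s t * mk2 p' r' s' t' =
      mk2 (p * p' + r * s') (p * r' + r * t') (s * p' + t * s') (s * r' + t * t') := by
  apply ext2 <;> simp [Matrix.mul_apply, Fintype.sum_sum_type, Fin.sum_univ_two]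

theorem mk2_one : (1 : Matrix J2 J2 F) = mk2 1 0 0 1 := by
  apply ext2 <;> simp

theorem eq_mk2 (M : Matrix J2 J2 F) :
    M = mk2 (M (Sum.inr 0) (Sum.inr 0)) (M (Sum.inr 0) (Sum.inr 1)) (M (Sum.inr 1) (Sum.inr 0))
      (M (Sum.inr 1) (Sum.inr 1)) := by
  apply ext2 <;> simp

theorem quad_mk2 (a b p r s t : F) (v : J2 → F) :
    quadFormMinus 0 F a b (mk2 p r s t *ᵥ v) =
      (p * v (Sum.inr 0) + r * v (Sum.inr 1)) ^ 2 +
        a * (p * v (Sum.inr 0) + r * v (Sum.inr 1)) * (s * v (Sum.inr 0) + t * v (Sum.inr 1)) +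
        b * (s * v (Sum.inr 0) + t * v (Sum.inr 1)) ^ 2 := by
  rw [quad_eq, mulVec_zero, mulVec_one]; simp

section aniso

variable (a b : F)

/-- The rotation matrix of multiplication by `u`. -/
def rot (u : QuadraticAlgebra F (-b) a) : Matrix J2 J2 F :=
  mk2 u.re (-b * u.im) u.im (u.re + a * u.im)

theorem rot_mul (u w : QuadraticAlgebra F (-b) a) : rot a b (u * w) = rot a b u * rot a b w := by
  unfold rot
  rw [mk2_mul]
  apply ext2 <;> simp <;> ring

theorem rot_one : rot a b (1 : QuadraticAlgebra F (-b) a) = 1 := by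
  unfold rot
  rw [mk2_one]
  apply ext2 <;> simp

/-- `rot` as a monoid homomorphism. -/
def rotMonoidHom : QuadraticAlgebra F (-b) a →* Matrix J2 J2 F where
  toFun := rot a b
  map_one' := rot_one a b
  map_mul' := rot_mul a b

theorem norm_eq (u : QuadraticAlgebra F (-b) a) :
    norm u = u.re ^ 2 + a * u.re * u.im + b * u.im ^ 2 := by
  rw [QuadraticAlgebra.norm_def]; ring

theorem quad_rot (u : QuadraticAlgebra F (-b) a) (v : J2 → F) :
    quadFormMinus 0 F a b (rot a b u *ᵥ v) = norm u * quadFormMinus 0 F a b v := by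
  unfold rot
  rw [quad_mk2, quad_eq, norm_eq]
  ring

/-- The reflection (conjugation). -/
def cMat : Matrix J2 J2 F := mk2 1 a 0 (-1)

theorem cMat_mul_self : cMat a * cMat a = 1 := by
  unfold cMat
  rw [mk2_mul, mk2_one]
  apply ext2 <;> simp

theorem quad_cMat (v : J2 → F) :
    quadFormMinus 0 F a b (cMat a *ᵥ v) = quadFormMinus 0 F a b v := by
  unfold cMat
  rw [quad_mk2, quad_eq]
  ring

theorem c_rot_sq (u : QuadraticAlgebra F (-b) a) (h : norm u = 1) :
    (cMat a * rot a b u) * (cMat a * rot a b u) = 1 := by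
  rw [norm_eq] at h
  unfold cMat rot
  rw [mk2_mul, mk2_mul, mk2_one]
  apply ext2 <;> simp <;>
    first | linear_combination h | linear_combination (-1 : F) * h | ring

/-- An isometry fixing the first basis vector is `1` or the reflection. -/
theorem fix_e1 (hab : ∀ z₁ z₂ : F, z₁ ^ 2 + a * z₁ * z₂ + b * z₂ ^ 2 = 0 → z₁ = 0 ∧ z₂ = 0)
    (r t : F)
    (h : ∀ v : J2 → F, quadFormMinus 0 F a b (mk2 1 r 0 t *ᵥ v) = quadFormMinus 0 F a b v) :
    mk2 1 r 0 t = 1 ∨ mk2 1 r 0 t = cMat a := by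
  have E1 : r ^ 2 + a * r * t + b * t ^ 2 = b := by
    have := h (Sum.elim (fun _ => 0) ![0, 1])
    rw [quad_mk2, quad_eq] at this
    simpa using this
  have E2 : 2 * r + a * t = a := by
    have := h (Sum.elim (fun _ => 0) ![1, 1])
    rw [quad_mk2, quad_eq] at this
    simp at this
    linear_combination this - E1
  have hX : (1 + t) * (r ^ 2 + a * r * (t - 1) + b * (t - 1) ^ 2) = 0 := by
    linear_combination (t - 1) * E1 + r * E2
  rcases mul_eq_zero.mp hX with ht | hX'
  · -- t = -1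
    have ht' : t = -1 := by linear_combination ht
    subst ht'
    have hr : r * (r - a) = 0 := by linear_combination E1
    rcases mul_eq_zero.mp hr with hr0 | hra
    · subst hr0
      have h2a : 2 * a = 0 := by linear_combination (-1 : F) * E2
      rcases mul_eq_zero.mp h2a with h2 | ha
      · left
        rw [mk2_one]
        have : (-1 : F) = 1 := by linear_combination (-1 : F) * h2
        rw [this]
      · right
        unfold cMat
        rw [ha]
    · right
      have : r = a := by linear_combination hra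
      subst this
      rfl
  · left
    obtain ⟨h1, h2⟩ := hab r (t - 1) hX'
    have : t = 1 := by linear_combination h2
    rw [h1, this, mk2_one]

end aniso

section group

variable [Fintype F] (a b : F) [Hab : Fact (∀ r : F, r ^ 2 ≠ -b + a * r)]

theorem hab_of_fact (z₁ z₂ : F) (h : z₁ ^ 2 + a * z₁ * z₂ + b * z₂ ^ 2 = 0) : z₁ = 0 ∧ z₂ = 0 := by
  have h1 : norm (⟨z₁, z₂⟩ : QuadraticAlgebra F (-b) a) = 0 := by
    rw [norm_eq]; exact h
  have h2 := (norm_eq_zero_iff_eq_zero (K := F) (a := -b) (b := a)).mp h1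
  exact ⟨congrArg QuadraticAlgebra.re h2, congrArg QuadraticAlgebra.im h2⟩

include Hab in
theorem not_zero_two : ¬ (a = 0 ∧ (2 : F) = 0) := by
  rintro ⟨ha, h2⟩
  have hc : ringChar F = 2 := CharP.ringChar_of_prime_eq_zero Nat.prime_two (by exact_mod_cast h2)
  obtain ⟨c, hc⟩ := FiniteField.isSquare_of_char_two hc b
  apply Hab.out c
  rw [ha, zero_mul, add_zero, sq, ← hc]
  linear_combination b * h2

/-- The isometry group. -/
abbrev G := ↥(isometryGroup F (quadFormMinus 0 F a b))

/-- The rotation homomorphism. -/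
noncomputable def rotHom : ↥(normOne F (-b) a) →* G a b :=
  MonoidHom.codRestrict ((Units.map (rotMonoidHom a b)).comp (normOne F (-b) a).subtype) _ (by
    intro u
    rw [mem_iff]
    intro v
    show quadFormMinus 0 F a b (rot a b (u.1 : QuadraticAlgebra F (-b) a) *ᵥ v) = _
    rw [quad_rot, (mem_normOne_iff u.1).mp u.2, one_mul])

theorem rotHom_coe (u : ↥(normOne F (-b) a)) :
    ((rotHom a b u : G a b) : Matrix.GeneralLinearGroup J2 F).1 =
      rot a b (u.1 : QuadraticAlgebra F (-b) a) := rfl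

/-- The reflection as an isometry. -/
def cEl : G a b :=
  ⟨⟨cMat a, cMat a, cMat_mul_self a, cMat_mul_self a⟩, by rw [mem_iff]; exact quad_cMat a b⟩

theorem cEl_coe : ((cEl a b : G a b) : Matrix.GeneralLinearGroup J2 F).1 = cMat a := rfl

theorem rotHom_injective : Function.Injective (rotHom a b) := by
  intro u w h
  have h1 : rot a b (u.1 : QuadraticAlgebra F (-b) a) = rot a b (w.1 : QuadraticAlgebra F (-b) a) := by
    rw [← rotHom_coe, ← rotHom_coe, h]
  apply Subtype.ext
  apply Units.ext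
  have e1 := congrFun (congrFun h1 (Sum.inr 0)) (Sum.inr 0)
  have e2 := congrFun (congrFun h1 (Sum.inr 1)) (Sum.inr 0)
  simp only [rot, mk2_00, mk2_10] at e1 e2
  exact QuadraticAlgebra.ext e1 e2

theorem cEl_mul_self : cEl a b * cEl a b = 1 := by
  apply Subtype.ext; apply Units.ext
  exact cMat_mul_self a

theorem c_rot_mul_self (u : ↥(normOne F (-b) a)) :
    (cEl a b * rotHom a b u) * (cEl a b * rotHom a b u) = 1 := by
  apply Subtype.ext; apply Units.ext
  exact c_rot_sq a b _ ((mem_normOne_iff u.1).mp u.2)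

theorem c_rot_ne_one (u : ↥(normOne F (-b) a)) : cEl a b * rotHom a b u ≠ 1 := by
  intro h
  have h1 : cMat a * rot a b (u.1 : QuadraticAlgebra F (-b) a) = 1 := by
    have := congrArg (fun g : G a b => (g : Matrix.GeneralLinearGroup J2 F).1) h
    exact this
  unfold cMat rot at h1
  rw [mk2_mul, mk2_one] at h1
  have e00 := congrFun (congrFun h1 (Sum.inr 0)) (Sum.inr 0)
  have e01 := congrFun (congrFun h1 (Sum.inr 0)) (Sum.inr 1)
  have e10 := congrFun (congrFun h1 (Sum.inr 1)) (Sum.inr 0)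
  have e11 := congrFun (congrFun h1 (Sum.inr 1)) (Sum.inr 1)
  simp only [mk2_00, mk2_01, mk2_10, mk2_11] at e00 e01 e10 e11
  set p := (u.1 : QuadraticAlgebra F (-b) a).re
  set s := (u.1 : QuadraticAlgebra F (-b) a).im
  have hs : s = 0 := by linear_combination (-1 : F) * e10
  have hp : p = 1 := by rw [hs] at e00; linear_combination e00
  apply not_zero_two a b
  constructor
  · rw [hs, hp] at e01; linear_combination e01
  · rw [hs, hp] at e11; linear_combination (-1 : F) * e11

end group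

section classify

variable [Fintype F] (a b : F) [Hab : Fact (∀ r : F, r ^ 2 ≠ -b + a * r)]

theorem classify (g : G a b) :
    (∃ u, g = rotHom a b u) ∨ (∃ u, g = rotHom a b u * cEl a b) := by
  obtain ⟨g, hg⟩ := g
  rw [mem_iff] at hg
  set M : Matrix J2 J2 F := g.1 with hM
  set p := M (Sum.inr 0) (Sum.inr 0) with hp
  set r := M (Sum.inr 0) (Sum.inr 1) with hr
  set s := M (Sum.inr 1) (Sum.inr 0) with hs
  set t := M (Sum.inr 1) (Sum.inr 1) with ht
  have hMe : M = mk2 p r s t := eq_mk2 M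
  -- the norm of the first column is one
  have hN : p ^ 2 + a * p * s + b * s ^ 2 = 1 := by
    have := hg (Sum.elim (fun _ => 0) ![1, 0])
    rw [hMe, quad_mk2, quad_eq] at this
    simpa using this
  set u₀ : QuadraticAlgebra F (-b) a := ⟨p, s⟩ with hu₀
  have hnorm : norm u₀ = 1 := by rw [norm_eq]; exact hN
  have hu₀ne : u₀ ≠ 0 := by
    intro h0
    rw [h0, QuadraticAlgebra.norm_zero] at hnorm
    exact zero_ne_one hnorm
  set u : ↥(normOne F (-b) a) := ⟨Units.mk0 u₀ hu₀ne, (mem_normOne_iff _).mpr hnorm⟩ with hu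
  -- the quotient
  set h : Matrix J2 J2 F := rot a b (star u₀) * M with hh
  have hMh : M = rot a b u₀ * h := by
    rw [hh, ← Matrix.mul_assoc, ← rot_mul, ← algebraMap_norm_eq_mul_star, hnorm, map_one, rot_one,
      Matrix.one_mul]
  have hiso : ∀ v : J2 → F, quadFormMinus 0 F a b (h *ᵥ v) = quadFormMinus 0 F a b v := by
    intro v
    rw [hh, ← Matrix.mulVec_mulVec, quad_rot, QuadraticAlgebra.norm_star, hnorm, one_mul, hg]
  have hform : h = mk2 1 (h (Sum.inr 0) (Sum.inr 1)) 0 (h (Sum.inr 1) (Sum.inr 1)) := by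
    have e := eq_mk2 h
    have e00 : h (Sum.inr 0) (Sum.inr 0) = 1 := by
      rw [hh, hMe]
      unfold rot
      rw [mk2_mul]
      simp only [mk2_00, QuadraticAlgebra.re_star, QuadraticAlgebra.im_star, hu₀]
      linear_combination hN
    have e10 : h (Sum.inr 1) (Sum.inr 0) = 0 := by
      rw [hh, hMe]
      unfold rot
      rw [mk2_mul]
      simp only [mk2_10, QuadraticAlgebra.re_star, QuadraticAlgebra.im_star, hu₀]
      ring
    rw [e00, e10] at e
    exact e
  rw [hform] at hiso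
  rcases fix_e1 a b (hab_of_fact a b) _ _ hiso with h1 | hc
  · left
    refine ⟨u, ?_⟩
    apply Subtype.ext; apply Units.ext
    show M = rot a b u₀
    rw [hMh, hform, h1, Matrix.mul_one]
  · right
    refine ⟨u, ?_⟩
    apply Subtype.ext; apply Units.ext
    show M = rot a b u₀ * cMat a
    rw [hMh, hform, hc]

end classify

/-- GO^-_2(q) is dihedral of order 2(q+1). -/
theorem result {F : Type*} [Field F] [Fintype F] {q : ℕ} (hF : Fintype.card F = q) (a b : F) (hab : ∀ z₁ z₂ : F, z₁ ^ 2 + a * z₁ * z₂ + b * z₂ ^ 2 = 0 → z₁ = 0 ∧ z₂ = 0) : Nonempty (Cfsg.isometryGroup F (Cfsg.quadFormMinus 0 F a b) ≃* DihedralGroup (q + 1)) := by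
  classical
  have : Fact (∀ r : F, r ^ 2 ≠ -b + a * r) := ⟨by
    intro r hr
    have := hab r (-1) (by linear_combination hr)
    exact one_ne_zero (neg_eq_zero.mp this.2)⟩
  obtain ⟨ζ, hζ⟩ := IsCyclic.exists_generator (α := ↥(normOne F (-b) a))
  set x : G a b := cEl a b with hxdef
  set y : G a b := cEl a b * rotHom a b ζ with hydef
  have hx : x * x = 1 := cEl_mul_self a b
  have hy : y * y = 1 := c_rot_mul_self a b ζ
  have hxy : x * y = rotHom a b ζ := by rw [hydef, ← mul_assoc, hx, one_mul]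
  have hx1 : x ≠ 1 := by
    have := c_rot_ne_one a b (1 : ↥(normOne F (-b) a))
    rwa [map_one, mul_one] at this
  have hy1 : y ≠ 1 := c_rot_ne_one a b ζ
  have hord : orderOf (x * y) = q + 1 := by
    rw [hxy, orderOf_injective (rotHom a b) (rotHom_injective a b),
      orderOf_eq_card_of_forall_mem_zpowers hζ, card_normOne, hF]
  have hxm : x ∈ Subgroup.closure ({x, y} : Set (G a b)) := Subgroup.subset_closure (by simp)
  have hym : y ∈ Subgroup.closure ({x, y} : Set (G a b)) := Subgroup.subset_closure (by simp)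
  have hdm : ∀ u, rotHom a b u ∈ Subgroup.closure ({x, y} : Set (G a b)) := by
    intro u
    obtain ⟨k, hk⟩ := hζ u
    rw [← hk, map_zpow, ← hxy]
    exact Subgroup.zpow_mem _ (Subgroup.mul_mem _ hxm hym) _
  have htop : Subgroup.closure ({x, y} : Set (G a b)) = ⊤ := by
    rw [eq_top_iff]
    intro g _
    rcases classify a b g with ⟨u, rfl⟩ | ⟨u, rfl⟩
    · exact hdm u
    · exact Subgroup.mul_mem _ (hdm u) hxm
  obtain ⟨e⟩ := Helper2.closure_pair_invol_equiv_dihedral hx hy hx1 hy1
  have e' : ↥(Subgroup.closure ({x, y} : Set (G a b))) ≃* DihedralGroup (q + 1) := hord ▸ e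
  exact ⟨(Subgroup.topEquiv.symm.trans (MulEquiv.subgroupCongr htop.symm)).trans e'⟩

end Cfsg.Agent.S0306
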