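import Mathlib
import Cfsg.Statements.S0307

set_option autoImplicit false
open Cfsg

namespace Cfsg.Agent.S0307

open Matrix

/-- A finite cyclic group `C` has a surjection onto `ℤ/gcd(n, |C|)` with kernel the `n`-th powers. -/
theorem exists_hom_ker_pow (C : Type*) [CommGroup C] [IsCyclic C] [Finite C] (n : ℕ) :
    ∃ φ : C →* Multiplicative (ZMod (Nat.gcd n (Nat.card C))),
      Function.Surjective φ ∧ φ.ker = (powMonoidHom n : C →* C).range := by
  classical
  set N := Nat.card C with hN
  have hNpos : 0 < N := Nat.card_pos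
  set d := Nat.gcd n N with hd
  have hdN : d ∣ N := Nat.gcd_dvd_right n N
  have hdn : d ∣ n := Nat.gcd_dvd_left n N
  have hdpos : 0 < d := Nat.gcd_pos_of_pos_right n hNpos
  have : NeZero d := ⟨hdpos.ne'⟩
  let e : Multiplicative (ZMod N) ≃* C := zmodCyclicMulEquiv (inferInstance : IsCyclic C)
  let ψ : Multiplicative (ZMod N) →* Multiplicative (ZMod d) :=
    AddMonoidHom.toMultiplicative (ZMod.castHom hdN (ZMod d)).toAddMonoidHom
  let φ : C →* Multiplicative (ZMod d) := ψ.comp e.symm.toMonoidHom
  have hψ : Function.Surjective ψ := by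
    intro x
    obtain ⟨y, hy⟩ := ZMod.castHom_surjective hdN (Multiplicative.toAdd x)
    exact ⟨Multiplicative.ofAdd y, by simpa [ψ] using congrArg Multiplicative.ofAdd hy⟩
  have hφ : Function.Surjective φ := hψ.comp e.symm.surjective
  refine ⟨φ, hφ, ?_⟩
  have hle : (powMonoidHom n : C →* C).range ≤ φ.ker := by
    rintro _ ⟨c, rfl⟩
    rw [MonoidHom.mem_ker, powMonoidHom_apply, map_pow]
    obtain ⟨k, hk⟩ := hdn
    have h1 : ∀ x : Multiplicative (ZMod d), x ^ d = 1 := by
      intro x
      have : Nat.card (Multiplicative (ZMod d)) = d := by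
        rw [Nat.card_eq_fintype_card, Fintype.card_multiplicative, ZMod.card]
      have h3 : x ^ Nat.card (Multiplicative (ZMod d)) = 1 := pow_card_eq_one'
      rwa [this] at h3
    rw [hk, pow_mul, h1, one_pow]
  symm
  apply Subgroup.eq_of_le_of_card_ge hle
  have h1 : Nat.card φ.ker * d = N := by
    have := Subgroup.card_mul_index φ.ker
    rw [Subgroup.index_ker, MonoidHom.range_eq_top.mpr hφ, Subgroup.card_top] at this
    have h2 : Nat.card (Multiplicative (ZMod d)) = d := by
      rw [Nat.card_eq_fintype_card, Fintype.card_multiplicative, ZMod.card]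
    rw [h2] at this
    exact this
  have h2 : Nat.card (powMonoidHom n : C →* C).range = N / d := by
    rw [IsCyclic.card_powMonoidHom_range, hd, Nat.gcd_comm]
  rw [h2, ← h1, Nat.mul_div_cancel _ hdpos]

theorem det_surjective {F : Type*} [Field F] (n : ℕ) (hn : 1 ≤ n) :
    Function.Surjective (Matrix.GeneralLinearGroup.det :
      Matrix.GeneralLinearGroup (Fin n) F →* Fˣ) := by
  intro u
  let i0 : Fin n := ⟨0, hn⟩
  let dvec : Fin n → F := Function.update (fun _ => (1 : F)) i0 (u : F)
  have hprod : ∏ i, dvec i = (u : F) := by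
    rw [Finset.prod_update_of_mem (Finset.mem_univ i0)]
    simp
  have hdet : (Matrix.diagonal dvec).det = (u : F) := by rw [Matrix.det_diagonal, hprod]
  refine ⟨Matrix.GeneralLinearGroup.mkOfDetNeZero (Matrix.diagonal dvec) (by rw [hdet]; exact u.ne_zero), ?_⟩
  apply Units.ext
  rw [Matrix.GeneralLinearGroup.val_det_apply]
  exact hdet

/-- PSL_n(q) is normal in PGL_n(q) with cyclic quotient of order gcd(n, q-1): the image of the natural map PSL_n → PGL_n is the kernel of a surjective homomorphism onto the cyclic group of that order. -/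
theorem result {F : Type*} [Field F] [Fintype F] {q : ℕ} (hF : Fintype.card F = q) (n : ℕ) (hn : 1 ≤ n) : ∃ g : Matrix.ProjGenLinGroup (Fin n) F →* Multiplicative (ZMod (Nat.gcd n (q - 1))), Function.Surjective g ∧ g.ker = (Matrix.ProjectiveSpecialLinearGroup.toPGL : Matrix.ProjectiveSpecialLinearGroup (Fin n) F →* Matrix.ProjGenLinGroup (Fin n) F).range := by
  classical
  subst hF
  have hcard : Nat.card Fˣ = Fintype.card F - 1 := by
    rw [Nat.card_units, Nat.card_eq_fintype_card]
  have key := exists_hom_ker_pow Fˣ n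
  rw [hcard] at key
  obtain ⟨φ, hφ, hker⟩ := key
  -- the homomorphism on GL
  let ψ : Matrix.GeneralLinearGroup (Fin n) F →* Multiplicative (ZMod (Nat.gcd n (Fintype.card F - 1))) :=
    φ.comp Matrix.GeneralLinearGroup.det
  have hψc : Subgroup.center (Matrix.GeneralLinearGroup (Fin n) F) ≤ ψ.ker := by
    rw [Matrix.GeneralLinearGroup.center_eq_range_scalar]
    rintro _ ⟨u, rfl⟩
    rw [MonoidHom.mem_ker]
    show φ (Matrix.GeneralLinearGroup.det (Matrix.GeneralLinearGroup.scalar (Fin n) u)) = 1
    rw [Matrix.GeneralLinearGroup.det_scalar, Fintype.card_fin, ← MonoidHom.mem_ker, hker]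
    exact ⟨u, rfl⟩
  let g : Matrix.ProjGenLinGroup (Fin n) F →* Multiplicative (ZMod (Nat.gcd n (Fintype.card F - 1))) :=
    QuotientGroup.lift (Subgroup.center (Matrix.GeneralLinearGroup (Fin n) F)) ψ hψc
  have hg : ∀ A : Matrix.GeneralLinearGroup (Fin n) F, g (Matrix.ProjGenLinGroup.mk A) = ψ A := by
    intro A; rfl
  refine ⟨g, ?_, ?_⟩
  · intro x
    obtain ⟨u, hu⟩ := hφ x
    obtain ⟨A, hA⟩ := det_surjective (F := F) n hn u
    exact ⟨Matrix.ProjGenLinGroup.mk A, by rw [hg]; show φ (Matrix.GeneralLinearGroup.det A) = x; rw [hA, hu]⟩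
  · ext x
    induction x using Matrix.ProjGenLinGroup.induction_on with
    | mk A =>
      rw [MonoidHom.mem_ker, hg]
      constructor
      · intro h
        have h1 : Matrix.GeneralLinearGroup.det A ∈ φ.ker := h
        rw [hker] at h1
        obtain ⟨v, hv⟩ := h1
        rw [powMonoidHom_apply] at hv
        -- B = A * scalar v⁻¹
        set B : Matrix.GeneralLinearGroup (Fin n) F := A * Matrix.GeneralLinearGroup.scalar (Fin n) v⁻¹ with hB
        have hdetB : Matrix.GeneralLinearGroup.det B = 1 := by
          rw [hB, map_mul, Matrix.GeneralLinearGroup.det_scalar, Fintype.card_fin, ← hv, inv_pow,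
            mul_inv_cancel]
        have hdetB' : (B : Matrix (Fin n) (Fin n) F).det = 1 := by
          have := congrArg Units.val hdetB
          rwa [Matrix.GeneralLinearGroup.val_det_apply] at this
        refine ⟨QuotientGroup.mk (⟨(B : Matrix (Fin n) (Fin n) F), hdetB'⟩ : Matrix.SpecialLinearGroup (Fin n) F), ?_⟩
        have h2 : Matrix.SpecialLinearGroup.toGL (⟨(B : Matrix (Fin n) (Fin n) F), hdetB'⟩ : Matrix.SpecialLinearGroup (Fin n) F) = B := by
          apply Units.ext; rfl
        show Matrix.ProjGenLinGroup.mk (Matrix.SpecialLinearGroup.toGL _) = _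
        rw [h2, eq_comm, Matrix.ProjGenLinGroup.mk_eq_mk_iff]
        exact ⟨v⁻¹, rfl⟩
      · rintro ⟨y, hy⟩
        induction y using QuotientGroup.induction_on with
        | H B =>
          have h1 : Matrix.ProjGenLinGroup.mk (Matrix.SpecialLinearGroup.toGL B) = Matrix.ProjGenLinGroup.mk A := hy
          rw [← hg, ← h1, hg]
          show φ (Matrix.GeneralLinearGroup.det (Matrix.SpecialLinearGroup.toGL B)) = 1
          have : Matrix.GeneralLinearGroup.det (Matrix.SpecialLinearGroup.toGL B) = 1 := by
            apply Units.ext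
            rw [Matrix.GeneralLinearGroup.val_det_apply]
            simp
          rw [this, map_one]

end Cfsg.Agent.S0307
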