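import Cfsg.Statements.S0320
import Cfsg.Agent.Helper7.BNBruhat
import Cfsg.Agent.Helper7.CoxeterOfExchange

set_option autoImplicit false
open Cfsg

namespace Cfsg.Agent.S0320

open Cfsg.Agent.Helper7.BN Cfsg.Agent.Helper7.InvWords Cfsg.Agent.Helper7.CoxExch

variable {G : Type*} [Group G] (P : Cfsg.BNPair G)

/-- The distinguished involutions of the Weyl group, indexed by `P.S`. -/
def iota (s : P.S) : W P := proj P ⟨(s : G), P.subset s.2⟩

theorem range_iota : Set.range (iota P) = RS P := by
  ext w
  constructor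
  · rintro ⟨s, rfl⟩
    exact ⟨⟨(s : G), P.subset s.2⟩, s.2, rfl⟩
  · rintro ⟨n, hn, rfl⟩
    exact ⟨⟨(n : G), hn⟩, rfl⟩

theorem hyp_iota : Hyp (iota P) where
  inj := by
    intro s s' hss
    unfold iota at hss
    rw [proj_eq_iff] at hss
    exact Subtype.ext (P.inj s s.2 s' s'.2 hss)
  invol := by
    rw [range_iota]
    exact invol_RS P
  one_not_mem := by
    rw [range_iota]
    exact one_not_mem_RS P
  exch := by
    rw [range_iota]
    exact exchange_RS P
  gen := by
    rw [range_iota]
    exact closure_RS P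

/-- The Weyl group `W = N / (B ⊓ N)` of a (B,N)-pair, with its distinguished involutions, is a Coxeter system. -/
theorem result {G : Type*} [Group G] (P : Cfsg.BNPair G)
    [hN : ((P.B ⊓ P.N).subgroupOf P.N).Normal] :
    ∃ (M : CoxeterMatrix P.S) (cs : CoxeterSystem M (P.N ⧸ (P.B ⊓ P.N).subgroupOf P.N)),
      ∀ s : P.S, cs.simple s = QuotientGroup.mk (⟨(s : G), P.subset s.2⟩ : P.N) := by
  exact exists_coxeterSystem (hyp_iota P)

end Cfsg.Agent.S0320
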