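import Mathlib
import Cfsg.Statements.S0323

set_option autoImplicit false
open scoped Pointwise
open Cfsg

namespace Cfsg.Agent.S0323

theorem mem_stab_pair_iff {G Ω : Type*} [Group G] [MulAction G Ω] {x y : Ω} (g : G) :
    g ∈ MulAction.stabilizer G ({x, y} : Set Ω) ↔
      (g • x = x ∧ g • y = y) ∨ (g • x = y ∧ g • y = x) := by
  rw [MulAction.mem_stabilizer_iff, ← Set.image_smul, Set.image_pair, Set.pair_eq_pair_iff]

theorem mem_dc {G Ω : Type*} [Group G] [MulAction G Ω]
    (h2 : ∀ {a b c d : Ω} (_ : a ≠ b) (_ : c ≠ d), ∃ g : G, g • a = c ∧ g • b = d) {x : Ω} (g h : G)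
    (hiff : g • x = x ↔ h • x = x) :
    h ∈ DoubleCoset.doubleCoset g (MulAction.stabilizer G x : Set G) (MulAction.stabilizer G x) := by
  rw [DoubleCoset.mem_doubleCoset]
  by_cases hg : g • x = x
  · have hh := hiff.mp hg
    refine ⟨1, Subgroup.one_mem _, g⁻¹ * h, ?_, by group⟩
    change (g⁻¹ * h) • x = x
    rw [mul_smul, hh, inv_smul_eq_iff, hg]
  · have hh : h • x ≠ x := fun hh => hg (hiff.mpr hh)
    obtain ⟨b, hbx, hbg⟩ := h2 (a := x) (b := g • x) (c := x) (d := h • x) (Ne.symm hg) (Ne.symm hh)
    refine ⟨b, hbx, g⁻¹ * b⁻¹ * h, ?_, by group⟩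
    change (g⁻¹ * b⁻¹ * h) • x = x
    rw [mul_smul, mul_smul, inv_smul_eq_iff, inv_smul_eq_iff, hbg]

/-- A doubly transitive action on a set with at least three points yields a (B,N)-pair of rank one:
`B` is the stabiliser of a point `x`, `N` the setwise stabiliser of a pair `{x, y}`. -/
theorem result {G Ω : Type*} [Group G] [MulAction G Ω]
    (h2 : MulAction.IsMultiplyPretransitive G Ω 2) {x y z : Ω} (hxy : x ≠ y) (hyz : y ≠ z) (hxz : x ≠ z) :
    ∃ P : Cfsg.BNPair G, P.B = MulAction.stabilizer G x ∧
      P.N = MulAction.stabilizer G ({x, y} : Set Ω) ∧ P.rank = 1 := by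
  rw [MulAction.is_two_pretransitive_iff] at h2
  obtain ⟨s, hsx, hsy⟩ := h2 (a := x) (b := y) (c := y) (d := x) hxy (Ne.symm hxy)
  have hsix : s⁻¹ • y = x := by rw [inv_smul_eq_iff, hsx]
  have hsN : s ∈ MulAction.stabilizer G ({x, y} : Set Ω) := (mem_stab_pair_iff s).mpr (Or.inr ⟨hsx, hsy⟩)
  refine ⟨{ B := MulAction.stabilizer G x, N := MulAction.stabilizer G ({x, y} : Set Ω), S := {s},
            sup_eq_top := ?_, conj_mem := ?_, subset := ?_, sq_mem := ?_, inj := ?_, closure_sup := ?_,
            mul_mem_union := ?_, conj_ne := ?_ }, rfl, rfl, ?_⟩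
  · -- sup_eq_top
    rw [eq_top_iff]
    intro g _
    by_cases hg : g • x = x
    · exact (le_sup_left : MulAction.stabilizer G x ≤ _) hg
    · obtain ⟨b, hbx, hbg⟩ := h2 (a := x) (b := g • x) (c := x) (d := y) (Ne.symm hg) hxy
      have ht : s⁻¹ * b * g ∈ MulAction.stabilizer G x := by
        change (s⁻¹ * b * g) • x = x
        rw [mul_smul, mul_smul, hbg, hsix]
      have e : g = b⁻¹ * s * (s⁻¹ * b * g) := by group
      rw [e]
      refine Subgroup.mul_mem _ (Subgroup.mul_mem _ ?_ ?_) ?_
      · exact (le_sup_left : MulAction.stabilizer G x ≤ _) (Subgroup.inv_mem _ hbx)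
      · exact (le_sup_right : MulAction.stabilizer G ({x, y} : Set Ω) ≤ _) hsN
      · exact (le_sup_left : MulAction.stabilizer G x ≤ _) ht
  · -- conj_mem
    rintro n hn t ⟨htB, htN⟩
    have htx : t • x = x := htB
    have hty : t • y = y := by
      rcases (mem_stab_pair_iff t).mp htN with h | h
      · exact h.2
      · exact absurd (htx.symm.trans h.1) hxy
    have hn' := (mem_stab_pair_iff n⁻¹).mp (Subgroup.inv_mem _ hn)
    change (n * t * n⁻¹) • x = x
    rw [mul_smul, mul_smul]
    rcases hn' with h | h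
    · rw [h.1, htx]
      exact (inv_smul_eq_iff.mp h.1).symm
    · rw [h.1, hty]
      exact (inv_smul_eq_iff.mp h.1).symm
  · -- subset
    intro s' hs'
    obtain rfl : s = s' := (Set.mem_singleton_iff.mp hs').symm
    exact hsN
  · -- sq_mem
    intro s' hs'
    obtain rfl : s = s' := (Set.mem_singleton_iff.mp hs').symm
    change (s * s) • x = x
    rw [mul_smul, hsx, hsy]
  · -- inj
    intro s' hs' s'' hs'' _
    rw [Set.mem_singleton_iff.mp hs', Set.mem_singleton_iff.mp hs'']
  · -- closure_sup
    apply le_antisymm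
    · apply sup_le
      · rw [Subgroup.closure_le]
        rintro _ rfl
        exact hsN
      · exact inf_le_right
    · intro n hn
      rcases (mem_stab_pair_iff n).mp hn with h | h
      · exact (le_sup_right : MulAction.stabilizer G x ⊓ MulAction.stabilizer G ({x, y} : Set Ω) ≤ _) ⟨h.1, hn⟩
      · have e : n = s * (s⁻¹ * n) := by group
        rw [e]
        refine Subgroup.mul_mem _ ?_ ?_
        · exact (le_sup_left : Subgroup.closure {s} ≤ _) (Subgroup.subset_closure rfl)
        · refine (le_sup_right : MulAction.stabilizer G x ⊓ MulAction.stabilizer G ({x, y} : Set Ω) ≤ _) ⟨?_, ?_⟩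
          · change (s⁻¹ * n) • x = x
            rw [mul_smul, h.1, hsix]
          · exact Subgroup.mul_mem _ (Subgroup.inv_mem _ hsN) hn
  · -- mul_mem_union
    intro s' hs' n hn b hb
    obtain rfl : s = s' := (Set.mem_singleton_iff.mp hs').symm
    have hbx : b • x = x := hb
    rcases (mem_stab_pair_iff n).mp hn with h | h
    · -- n fixes x: s n x = y ≠ x, and s b n x = y ≠ x
      left
      apply mem_dc h2
      have h1 : (s * n) • x = y := by rw [mul_smul, h.1, hsx]
      have h3 : (s * b * n) • x = y := by rw [mul_smul, mul_smul, h.1, hbx, hsx]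
      rw [h1, h3]
    · by_cases hg : (s * b * n) • x = x
      · left
        apply mem_dc h2
        have h1 : (s * n) • x = x := by rw [mul_smul, h.1, hsy]
        rw [h1, hg]
      · right
        apply mem_dc h2
        rw [h.1]
        exact ⟨fun h' => absurd h'.symm hxy, fun h' => absurd h' hg⟩
  · -- conj_ne
    intro s' hs'
    obtain rfl : s = s' := (Set.mem_singleton_iff.mp hs').symm
    intro heq
    obtain ⟨b, hbx, hby⟩ := h2 (a := x) (b := y) (c := x) (d := z) hxy hxz
    have hmem : s * b * s ∈ (MulAction.stabilizer G x : Set G) := by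
      rw [← heq]
      exact ⟨b, hbx, rfl⟩
    have h1 : (s * b * s) • x = x := hmem
    rw [mul_smul, mul_smul, hsx, hby] at h1
    have : s • z = s • y := h1.trans hsy.symm
    exact hyz (smul_left_cancel s this).symm
  · -- rank
    change Nat.card ({s} : Set G) = 1
    simp

end Cfsg.Agent.S0323
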