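import Cfsg.Statements.S0332
import Cfsg.Agent.Helper7.SzFix
import Cfsg.Agent.Helper7.IrredPrime

set_option autoImplicit false
open Cfsg

namespace Cfsg.Agent.S0332

open Cfsg.Agent.Helper7.Sz Cfsg.Agent.Helper7 MulAction

theorem nilpotent_of_comm {G : Type*} [Group G] (H : Subgroup G)
    (hc : ∀ a ∈ H, ∀ b ∈ H, a * b = b * a) : Group.IsNilpotent H := by
  let _ : CommGroup H :=
    { (inferInstance : Group H) with
      mul_comm := fun a b => Subtype.ext (hc a a.2 b b.2) }
  exact CommGroup.isNilpotent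

theorem nilpotent_of_pow_four {G : Type*} [Group G] [Finite G] (H : Subgroup G)
    (h4 : ∀ a ∈ H, a ^ 4 = 1) : Group.IsNilpotent H := by
  have : Fact (Nat.Prime 2) := ⟨Nat.prime_two⟩
  have hp : IsPGroup 2 H := by
    intro a
    refine ⟨2, ?_⟩
    apply Subtype.ext
    rw [Subgroup.coe_pow]
    exact h4 a a.2
  exact hp.isNilpotent

variable {F : Type*} [Field F] [Fintype F] {m : ℕ}

/-- The centraliser of a non-identity translation consists of translations. -/
theorem caseA1 (h : FH F m) {a b : F} (hab : Tel m a b ≠ 1)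
    {y : Matrix.SpecialLinearGroup (Fin 4) F} (hy : y ∈ Cfsg.Sz F m)
    (hcomm : y * Tel m a b = Tel m a b * y) : ∃ a' b' : F, y = Tel m a' b' := by
  -- a translation fixing an affine point is trivial
  have hfree : ∀ u v : F, Tel m a b • Ppt m u v ≠ Ppt m u v := by
    intro u v e
    rw [Tel_smul_Ppt h] at e
    obtain ⟨e1, e2⟩ := Ppt_injective m e
    have ha : a = 0 := by
      have : u + a = u + 0 := by rw [e1, add_zero]
      exact add_left_cancel this
    subst ha
    have hb : b = 0 := by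
      rw [sg_zero, zero_mul, add_zero] at e2
      have : v + b = v + 0 := by rw [e2, add_zero]
      exact add_left_cancel this
    subst hb
    exact hab Tel_zero
  have hyinf : y • (Pinf : Projectivization F (Fin 4 → F)) = Pinf := by
    have hmem := smul_mem_ovoid hy (Pinf_mem m)
    rcases (mem_ovoid_iff m _).1 hmem with e | ⟨u, v, e⟩
    · exact e
    · exfalso
      apply hfree u v
      rw [← e, ← mul_smul, ← hcomm, mul_smul, Tel_smul_Pinf]
  obtain ⟨a', b', t, ht, e⟩ := eq_Tel_mul_Hel h hy hyinf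
  by_cases ht1 : t = 1
  · subst ht1
    rw [Hel_one, mul_one] at e
    exact ⟨a', b', e⟩
  · exfalso
    obtain ⟨u, v, hfix⟩ := exists_fixed_affine h a' b' ht ht1
    rw [← e] at hfix
    have hfix2 : y • (Tel m a b • Ppt m u v) = Tel m a b • Ppt m u v := by
      rw [← mul_smul, hcomm, mul_smul, hfix]
    rw [Tel_smul_Ppt h] at hfix2
    have hne : Ppt m (u + a) (v + b + sg m a * u) ≠ Ppt m u v := by
      rw [← Tel_smul_Ppt h]
      exact hfree u v
    have := eq_one_of_fix_three h hy (Pinf_mem m) (Ppt_mem m u v) (Ppt_mem m _ _)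
      (Ne.symm (Ppt_ne_Pinf m u v)) (Ne.symm hne) (Ne.symm (Ppt_ne_Pinf m _ _)) hyinf hfix hfix2
    rw [this] at e
    exact Tel_mul_Hel_ne_one a' b' ht ht1 e.symm

omit [Fintype F] in
theorem Hel_ne_one {s : F} (hs0 : s ≠ 0) (hs1 : s ≠ 1) : Hel m s hs0 ≠ 1 := by
  intro e
  rw [← Hel_one (m := m)] at e
  exact hs1 (Hel_injective e)

/-- The centraliser of a non-identity torus element is the torus. -/
theorem caseA2 (h : FH F m) {s : F} (hs0 : s ≠ 0) (hs1 : s ≠ 1)
    {y : Matrix.SpecialLinearGroup (Fin 4) F} (hy : y ∈ Cfsg.Sz F m)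
    (hcomm : y * Hel m s hs0 = Hel m s hs0 * y) : ∃ r : F, ∃ hr : r ≠ 0, y = Hel m r hr := by
  have hH : Hel m s hs0 ∈ Cfsg.Sz F m := Hel_mem h hs0
  have hfinf : Hel m s hs0 • (Pinf : Projectivization F (Fin 4 → F)) = Pinf := Hel_smul_Pinf hs0
  have hfzero : Hel m s hs0 • Ppt m (0 : F) 0 = Ppt m 0 0 := Hel_smul_zero h hs0
  have h0inf : Ppt m (0 : F) 0 ≠ Pinf := Ppt_ne_Pinf m 0 0
  -- fixed points of the torus element
  have honly : ∀ p ∈ Cfsg.suzukiOvoid F m, Hel m s hs0 • p = p → p = Pinf ∨ p = Ppt m 0 0 := by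
    intro p hp hfix
    by_contra hcon
    rw [not_or] at hcon
    exact Hel_ne_one hs0 hs1 (eq_one_of_fix_three h hH (Pinf_mem m) (Ppt_mem m 0 0) hp
      (Ne.symm h0inf) (Ne.symm hcon.2) (Ne.symm hcon.1) hfinf hfzero hfix)
  have h1 : Hel m s hs0 • (y • (Pinf : Projectivization F (Fin 4 → F))) = y • Pinf := by
    rw [← mul_smul, ← hcomm, mul_smul, hfinf]
  have h2 : Hel m s hs0 • (y • Ppt m (0 : F) 0) = y • Ppt m 0 0 := by
    rw [← mul_smul, ← hcomm, mul_smul, hfzero]
  have hne : y • (Pinf : Projectivization F (Fin 4 → F)) ≠ y • Ppt m 0 0 := by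
    intro e
    exact h0inf (smul_left_cancel y e).symm
  rcases honly _ (smul_mem_ovoid hy (Pinf_mem m)) h1 with e1 | e1
  · rcases honly _ (smul_mem_ovoid hy (Ppt_mem m 0 0)) h2 with e2 | e2
    · exfalso
      exact hne (e1.trans e2.symm)
    · exact eq_Hel h hy e1 e2
  · rcases honly _ (smul_mem_ovoid hy (Ppt_mem m 0 0)) h2 with e2 | e2
    · exfalso
      obtain ⟨r, hr, e⟩ := eq_Wel_mul_Hel h hy e1 e2
      rw [e] at hcomm
      have e3 : Wel * (Wel * Hel m r hr * Hel m s hs0) = Wel * (Hel m s hs0 * (Wel * Hel m r hr)) := by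
        rw [hcomm]
      have e4 : Wel * (Wel * Hel m r hr * Hel m s hs0) = Hel m r hr * Hel m s hs0 := by
        rw [mul_assoc, ← mul_assoc Wel Wel, Wel_mul_Wel, one_mul]
      have e5 : Wel * (Hel m s hs0 * (Wel * Hel m r hr)) = Hel m s⁻¹ (inv_ne_zero hs0) * Hel m r hr := by
        rw [← Wel_Hel_Wel hs0]
        group
      rw [e4, e5, Hel_mul, Hel_mul] at e3
      have e6 : r * s = s⁻¹ * r := Hel_injective e3
      have e7 : s * s = 1 := by
        have : r * (s * s) = r * 1 := by
          calc r * (s * s) = s * (r * s) := by ring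
            _ = s * (s⁻¹ * r) := by rw [e6]
            _ = r * 1 := by rw [← mul_assoc, mul_inv_cancel₀ hs0, one_mul, mul_one]
        exact mul_left_cancel₀ hr this
      exact hs1 (h.sq_injective (by rw [e7, one_mul]))
    · exfalso
      exact hne (e1.trans e2.symm)

/-- The prime divisors of the order of a fixed-point-free element. -/
theorem caseB (h : FH F m) (g : Cfsg.Sz F m) (hfree : ∀ ω : Cfsg.suzukiOvoid F m, g • ω ≠ ω)
    {p : ℕ} (hp : p.Prime) (hpd : p ∣ orderOf g) : p ∣ Fintype.card F ^ 2 + 1 := by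
  by_contra hnd
  have : Fact p.Prime := ⟨hp⟩
  have hfinG : Finite (Cfsg.Sz F m) := Nat.finite_of_card_ne_zero (by
    rw [card_Sz h]
    have := h.card_ge
    have h1 : 0 < Fintype.card F - 1 := by omega
    positivity)
  have hn0 : orderOf g ≠ 0 := (orderOf_pos g).ne'
  set x := g ^ (orderOf g / p) with hx
  have hox : orderOf x = p := orderOf_pow_orderOf_div hn0 hpd
  have hx1 : x ≠ 1 := by
    intro e
    rw [e, orderOf_one] at hox
    exact hp.one_lt.ne hox
  have hZ : IsPGroup p (Subgroup.zpowers x) := IsPGroup.of_card (n := 1) (by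
    rw [Nat.card_zpowers, hox, pow_one])
  have hcard : Nat.card (Cfsg.suzukiOvoid F m) = Fintype.card F ^ 2 + 1 := Cfsg.Agent.S0326.result m
  obtain ⟨ω, hω⟩ := hZ.nonempty_fixed_point_of_prime_not_dvd_card (Cfsg.suzukiOvoid F m)
    (by rw [hcard]; exact hnd)
  have hxω : x • ω = ω := hω ⟨x, Subgroup.mem_zpowers x⟩
  have hcomm : x * g = g * x := ((Commute.refl g).pow_left _).eq
  have hx1' : x • (g • ω) = g • ω := by
    rw [← mul_smul, hcomm, mul_smul, hxω]
  have hx2' : x • (g • g • ω) = g • g • ω := by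
    rw [← mul_smul, hcomm, mul_smul, hx1']
  have hne1 : g • ω ≠ ω := hfree ω
  have hne2 : g • g • ω ≠ g • ω := hfree (g • ω)
  have hZas := isZassenhaus h
  have h3 := hZas.2.2.1
  have hω2 : g • g • ω = ω := by
    by_contra hne3
    exact hx1 (h3 x ω (g • ω) (g • g • ω) (Ne.symm hne1) (Ne.symm hne2) (Ne.symm hne3) hxω hx1' hx2')
  -- conjugate to the standard pair
  have hne1' : (ω : Projectivization F (Fin 4 → F)) ≠ ((g • ω : Cfsg.suzukiOvoid F m) : Projectivization F (Fin 4 → F)) :=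
    fun e => hne1 (Subtype.ext e).symm
  obtain ⟨k, hk, hk1, hk2⟩ := exists_smul_pair h ω.2 (g • ω).2 hne1'
  have hg' : k⁻¹ * (g : Matrix.SpecialLinearGroup (Fin 4) F) * k ∈ Cfsg.Sz F m :=
    Subgroup.mul_mem _ (Subgroup.mul_mem _ (Subgroup.inv_mem _ hk) g.2) hk
  have e1 : (k⁻¹ * (g : Matrix.SpecialLinearGroup (Fin 4) F) * k) • (Pinf : Projectivization F (Fin 4 → F)) =
      Ppt m 0 0 := by
    rw [mul_smul, mul_smul, hk1, inv_smul_eq_iff, hk2]
    rfl
  have e2 : (k⁻¹ * (g : Matrix.SpecialLinearGroup (Fin 4) F) * k) • Ppt m (0 : F) 0 = Pinf := by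
    rw [mul_smul, mul_smul, hk2, inv_smul_eq_iff, hk1]
    have := congrArg Subtype.val hω2
    exact this
  obtain ⟨r, hr, e⟩ := eq_Wel_mul_Hel h hg' e1 e2
  have hsq : (g : Matrix.SpecialLinearGroup (Fin 4) F) * g = 1 := by
    have e3 := Wel_mul_Hel_sq (m := m) hr
    rw [← e] at e3
    have : (g : Matrix.SpecialLinearGroup (Fin 4) F) * g =
        k * ((k⁻¹ * (g : Matrix.SpecialLinearGroup (Fin 4) F) * k) *
          (k⁻¹ * (g : Matrix.SpecialLinearGroup (Fin 4) F) * k)) * k⁻¹ := by group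
    rw [this, e3]
    group
  have hsq' : g ^ 2 = 1 := by
    rw [pow_two]
    exact Subtype.ext hsq
  have hdvd : orderOf g ∣ 2 := orderOf_dvd_of_pow_eq_one hsq'
  have hp2 : p = 2 := (Nat.prime_dvd_prime_iff_eq hp Nat.prime_two).1 (hpd.trans hdvd)
  have ho2 : orderOf g = 2 := by
    apply Nat.dvd_antisymm hdvd
    rw [← hp2]
    exact hpd
  have hxg : x = g := by
    rw [hx, ho2, hp2]
    simp
  rw [hxg] at hxω
  exact hfree ω hxω

theorem conj_comm {G : Type*} [Group G] {c y g : G} (h : y * g = g * y) :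
    (c⁻¹ * y * c) * (c⁻¹ * g * c) = (c⁻¹ * g * c) * (c⁻¹ * y * c) := by
  calc (c⁻¹ * y * c) * (c⁻¹ * g * c) = c⁻¹ * (y * g) * c := by group
    _ = c⁻¹ * (g * y) * c := by rw [h]
    _ = (c⁻¹ * g * c) * (c⁻¹ * y * c) := by group

theorem finite_Sz (h : FH F m) : Finite (Cfsg.Sz F m) :=
  Nat.finite_of_card_ne_zero (by
    rw [card_Sz h]
    have := h.card_ge
    have h1 : 0 < Fintype.card F - 1 := by omega
    positivity)

/-- The Suzuki group is a CN-group: every non-identity element has nilpotent centraliser. -/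
theorem result {F : Type*} [Field F] [Fintype F] {m : ℕ} (hm : 1 ≤ m)
    (hF : Fintype.card F = 2 ^ (2 * m + 1)) : Cfsg.IsCNGroup (Cfsg.Sz F m) := by
  have h : FH F m := ⟨hm, hF⟩
  have hfinG : Finite (Cfsg.Sz F m) := finite_Sz h
  intro g hg1
  have hg1' : (g : Matrix.SpecialLinearGroup (Fin 4) F) ≠ 1 := fun e => hg1 (Subtype.ext e)
  have hcent : ∀ y ∈ Subgroup.centralizer ({g} : Set (Cfsg.Sz F m)),
      (y : Matrix.SpecialLinearGroup (Fin 4) F) * g = g * y := by
    intro y hy
    have := Subgroup.mem_centralizer_iff.1 hy g rfl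
    exact (congrArg Subtype.val this).symm
  by_cases hfix : ∃ ω : Cfsg.suzukiOvoid F m, g • ω = ω
  · obtain ⟨ω, hω⟩ := hfix
    obtain ⟨c, hc, hcω⟩ := exists_smul_Pinf_eq h ω.2
    have hconjmem : ∀ y : Cfsg.Sz F m,
        c⁻¹ * (y : Matrix.SpecialLinearGroup (Fin 4) F) * c ∈ Cfsg.Sz F m := fun y =>
      Subgroup.mul_mem _ (Subgroup.mul_mem _ (Subgroup.inv_mem _ hc) y.2) hc
    have hg'inf : (c⁻¹ * (g : Matrix.SpecialLinearGroup (Fin 4) F) * c) •
        (Pinf : Projectivization F (Fin 4 → F)) = Pinf := by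
      have h2 : (g : Matrix.SpecialLinearGroup (Fin 4) F) • (ω : Projectivization F (Fin 4 → F)) = ω :=
        congrArg Subtype.val hω
      rw [mul_smul, mul_smul, hcω, h2, ← hcω, inv_smul_smul]
    obtain ⟨a, b, t, ht, e⟩ := eq_Tel_mul_Hel h (hconjmem g) hg'inf
    by_cases ht1 : t = 1
    · subst ht1
      rw [Hel_one, mul_one] at e
      have hab : Tel m a b ≠ 1 := by
        intro e1
        apply hg1'
        have : (g : Matrix.SpecialLinearGroup (Fin 4) F) =
            c * (c⁻¹ * (g : Matrix.SpecialLinearGroup (Fin 4) F) * c) * c⁻¹ := by group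
        rw [this, e, e1]
        group
      apply nilpotent_of_pow_four
      intro y hy
      have hcomm := conj_comm (c := c) (hcent y hy)
      rw [e] at hcomm
      obtain ⟨a', b', e'⟩ := caseA1 h hab (hconjmem y) hcomm
      apply Subtype.ext
      rw [Subgroup.coe_pow]
      have : (y : Matrix.SpecialLinearGroup (Fin 4) F) = c * Tel m a' b' * c⁻¹ := by
        rw [← e']
        group
      rw [this, conj_pow, Tel_pow_four h, mul_one, mul_inv_cancel]
      rfl
    · obtain ⟨u, v, hfixuv⟩ := exists_fixed_affine h a b ht ht1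
      rw [← e] at hfixuv
      have hc'mem : c * Tel m u v ∈ Cfsg.Sz F m := Subgroup.mul_mem _ hc (Tel_mem h u v)
      have hconjmem' : ∀ y : Cfsg.Sz F m,
          (c * Tel m u v)⁻¹ * (y : Matrix.SpecialLinearGroup (Fin 4) F) * (c * Tel m u v) ∈ Cfsg.Sz F m :=
        fun y => Subgroup.mul_mem _ (Subgroup.mul_mem _ (Subgroup.inv_mem _ hc'mem) y.2) hc'mem
      have e0 : (c * Tel m u v)⁻¹ * (g : Matrix.SpecialLinearGroup (Fin 4) F) * (c * Tel m u v) =
          (Tel m u v)⁻¹ * (c⁻¹ * (g : Matrix.SpecialLinearGroup (Fin 4) F) * c) * Tel m u v := by group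
      have h1 : ((c * Tel m u v)⁻¹ * (g : Matrix.SpecialLinearGroup (Fin 4) F) * (c * Tel m u v)) •
          (Pinf : Projectivization F (Fin 4 → F)) = Pinf := by
        rw [e0, mul_smul, mul_smul, Tel_smul_Pinf, hg'inf, inv_smul_eq_iff, Tel_smul_Pinf]
      have h2 : ((c * Tel m u v)⁻¹ * (g : Matrix.SpecialLinearGroup (Fin 4) F) * (c * Tel m u v)) •
          Ppt m (0 : F) 0 = Ppt m 0 0 := by
        rw [e0, mul_smul, mul_smul, Tel_smul_zero h, hfixuv, inv_smul_eq_iff, Tel_smul_zero h]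
      obtain ⟨s, hs0, es⟩ := eq_Hel h (hconjmem' g) h1 h2
      have hs1 : s ≠ 1 := by
        intro e1
        subst e1
        rw [Hel_one] at es
        apply hg1'
        have : (g : Matrix.SpecialLinearGroup (Fin 4) F) = (c * Tel m u v) *
            ((c * Tel m u v)⁻¹ * (g : Matrix.SpecialLinearGroup (Fin 4) F) * (c * Tel m u v)) *
              (c * Tel m u v)⁻¹ := by group
        rw [this, es]
        group
      apply nilpotent_of_comm
      intro y hy y₂ hy₂
      have hcomm := conj_comm (c := c * Tel m u v) (hcent y hy)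
      have hcomm₂ := conj_comm (c := c * Tel m u v) (hcent y₂ hy₂)
      rw [es] at hcomm hcomm₂
      obtain ⟨r, hr, er⟩ := caseA2 h hs0 hs1 (hconjmem' y) hcomm
      obtain ⟨r₂, hr₂, er₂⟩ := caseA2 h hs0 hs1 (hconjmem' y₂) hcomm₂
      apply Subtype.ext
      rw [Subgroup.coe_mul, Subgroup.coe_mul]
      have ey : (y : Matrix.SpecialLinearGroup (Fin 4) F) =
          (c * Tel m u v) * Hel m r hr * (c * Tel m u v)⁻¹ := by
        rw [← er]
        group
      have ey₂ : (y₂ : Matrix.SpecialLinearGroup (Fin 4) F) =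
          (c * Tel m u v) * Hel m r₂ hr₂ * (c * Tel m u v)⁻¹ := by
        rw [← er₂]
        group
      have hHH : Hel m r hr * Hel m r₂ hr₂ = Hel m r₂ hr₂ * Hel m r hr := by
        rw [Hel_mul, Hel_mul]
        congr 1
        exact mul_comm r r₂
      rw [ey, ey₂]
      calc (c * Tel m u v) * Hel m r hr * (c * Tel m u v)⁻¹ *
            ((c * Tel m u v) * Hel m r₂ hr₂ * (c * Tel m u v)⁻¹)
          = (c * Tel m u v) * (Hel m r hr * Hel m r₂ hr₂) * (c * Tel m u v)⁻¹ := by group
        _ = (c * Tel m u v) * (Hel m r₂ hr₂ * Hel m r hr) * (c * Tel m u v)⁻¹ := by rw [hHH]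
        _ = _ := by group
  · rw [not_exists] at hfix
    have hn1 : orderOf g ≠ 1 := fun e => hg1 (orderOf_eq_one_iff.1 e)
    have hp : (orderOf g).minFac.Prime := Nat.minFac_prime hn1
    have hpd : (orderOf g).minFac ∣ orderOf g := Nat.minFac_dvd _
    set p := (orderOf g).minFac with hpdef
    have hdvd := caseB h g hfix hp hpd
    have hp2 : p ≠ 2 := by
      intro e2
      rw [e2, hF] at hdvd
      have h1 : 2 ∣ (2 ^ (2 * m + 1)) ^ 2 := Dvd.dvd.pow (dvd_pow_self 2 (by omega)) (by norm_num)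
      have := (Nat.dvd_add_right h1).1 hdvd
      omega
    have hn0 : orderOf g ≠ 0 := (orderOf_pos g).ne'
    set x := g ^ (orderOf g / p) with hx
    have hox : orderOf x = p := orderOf_pow_orderOf_div hn0 hpd
    have hx1 : x ≠ 1 := by
      intro e
      rw [e, orderOf_one] at hox
      exact hp.one_lt.ne hox
    have hyp : IrredPrime.Hyp ((x : Matrix.SpecialLinearGroup (Fin 4) F) : Matrix (Fin 4) (Fin 4) F) p := by
      refine ⟨hp, hp2, hdvd, ⟨1, ?_⟩, ?_⟩
      · rw [pow_one, ← hox]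
        have e1 : (((x ^ orderOf x : Cfsg.Sz F m) : Matrix.SpecialLinearGroup (Fin 4) F) :
            Matrix (Fin 4) (Fin 4) F) = 1 := by
          rw [pow_orderOf_eq_one]
          rfl
        rw [Subgroup.coe_pow, Matrix.SpecialLinearGroup.coe_pow] at e1
        exact e1
      · intro e
        apply hx1
        apply Subtype.ext
        apply Subtype.ext
        exact e
    apply nilpotent_of_comm
    intro y hy y₂ hy₂
    have hyx : ∀ z ∈ Subgroup.centralizer ({g} : Set (Cfsg.Sz F m)),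
        ((z : Matrix.SpecialLinearGroup (Fin 4) F) : Matrix (Fin 4) (Fin 4) F) *
          ((x : Matrix.SpecialLinearGroup (Fin 4) F) : Matrix (Fin 4) (Fin 4) F) =
        ((x : Matrix.SpecialLinearGroup (Fin 4) F) : Matrix (Fin 4) (Fin 4) F) *
          ((z : Matrix.SpecialLinearGroup (Fin 4) F) : Matrix (Fin 4) (Fin 4) F) := by
      intro z hz
      have h1 : g * z = z * g := Subgroup.mem_centralizer_iff.1 hz g rfl
      have h2 : z * x = x * z := by
        have : Commute z g := h1.symm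
        exact (this.pow_right _).eq
      have e1 := congrArg (fun z : Cfsg.Sz F m =>
        ((z : Matrix.SpecialLinearGroup (Fin 4) F) : Matrix (Fin 4) (Fin 4) F)) h2
      simpa using e1
    have := hyp.commute (hyx y hy) (hyx y₂ hy₂)
    apply Subtype.ext
    apply Subtype.ext
    simpa using this

end Cfsg.Agent.S0332
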