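import Mathlib
import Cfsg.Statements.S0333
import Cfsg.Agent.Helper8.SzPartH

set_option autoImplicit false
open Cfsg

namespace Cfsg.Agent.S0333

/-- With `q = 2^(2m+1)` and `r = 2^m`, the Suzuki group has cyclic subgroups of orders `q + 2r + 1` and
`q - 2r + 1`; each is the centraliser of each of its non-identity elements and has index `4` in its normaliser. -/
theorem result {F : Type*} [Field F] [Fintype F] {m : ℕ} (hm : 1 ≤ m)
    (hF : Fintype.card F = 2 ^ (2 * m + 1)) :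
    ∀ k ∈ ({2 ^ (2 * m + 1) + 2 ^ (m + 1) + 1, 2 ^ (2 * m + 1) - 2 ^ (m + 1) + 1} : Set ℕ),
      ∃ U : Subgroup (Cfsg.Sz F m), IsCyclic U ∧ Nat.card U = k ∧
        (∀ u ∈ U, u ≠ 1 → Subgroup.centralizer {u} = U) ∧ Nat.card (Subgroup.normalizer (U : Set (Cfsg.Sz F m))) = 4 * k := by
  have h : Cfsg.Agent.Helper7.Sz.FH F m := ⟨hm, hF⟩
  have hc := Cfsg.Agent.Helper8.SzPart.ctx h
  have h2r : 2 * 2 ^ m = 2 ^ (m + 1) := by rw [pow_succ]; ring
  intro k hk
  have hk' : k = 2 ^ (2 * m + 1) + 2 * 2 ^ m + 1 ∨ k = 2 ^ (2 * m + 1) - 2 * 2 ^ m + 1 := by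
    rw [h2r]
    rcases hk with hk | hk
    · exact Or.inl hk
    · exact Or.inr hk
  obtain ⟨x, hx, hcard⟩ := hc.exists_card k hk'
  refine ⟨Cfsg.Agent.Helper8.SzPart.Cz x, hc.cyc x hx.1 hx.2, hcard, ?_, ?_⟩
  · intro u hu hu1
    exact hc.cent_eq hx hu hu1
  · rw [hc.card_normalizer hx, hcard]

end Cfsg.Agent.S0333
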