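import Cfsg.Statements.S0335
import Cfsg.Agent.Helper7.SzAct

set_option autoImplicit false
open Cfsg

namespace Cfsg.Agent.S0335

open Cfsg.Agent.Helper7.Sz Matrix

/-- The three base vectors are linearly independent. -/
theorem base_independent {F : Type*} [Field F] (m : ℕ) {x y : F} (hxy : ¬ (x = 0 ∧ y = 0)) :
    LinearIndependent F (![vinf, pv m 0 0, pv m x y] : Fin 3 → Fin 4 → F) := by
  rw [Fintype.linearIndependent_iff]
  intro c hc
  rw [Fin.sum_univ_three] at hc
  have h0 := congrFun hc 0
  have h1 := congrFun hc 1
  have h2 := congrFun hc 2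
  have h3 := congrFun hc 3
  rw [pv_zero] at h0 h1 h2 h3
  simp [vinf, pv] at h0 h1 h2 h3
  have hc2 : c 2 = 0 := by
    by_contra hne
    apply hxy
    constructor
    · rcases h2 with e | e
      · exact absurd e hne
      · exact e
    · rcases h1 with e | e
      · exact absurd e hne
      · exact e
  rw [hc2] at h0 h3
  simp at h0 h3
  intro i
  fin_cases i
  · exact h0
  · exact h3
  · exact hc2

/-- The Suzuki–Tits point set is an ovoid: any three distinct points of it are projectively independent
(no line of projective 3-space meets it in more than two points). -/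
theorem result {F : Type*} [Field F] [Fintype F] {m : ℕ} (hm : 1 ≤ m)
    (hF : Fintype.card F = 2 ^ (2 * m + 1)) (p : Fin 3 ↪ Cfsg.suzukiOvoid F m) :
    Projectivization.Independent (fun i => (p i : Projectivization F (Fin 4 → F))) := by
  have h : FH F m := ⟨hm, hF⟩
  have hne : ∀ i j : Fin 3, i ≠ j → (p i : Projectivization F (Fin 4 → F)) ≠ p j := by
    intro i j hij e
    exact hij (p.injective (Subtype.ext e))
  obtain ⟨g, hg, hg0, hg1⟩ := exists_smul_pair h (p 0).2 (p 1).2 (hne 0 1 (by decide))
  have hq : g⁻¹ • (p 2 : Projectivization F (Fin 4 → F)) ∈ Cfsg.suzukiOvoid F m :=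
    smul_mem_ovoid (Subgroup.inv_mem _ hg) (p 2).2
  rcases (mem_ovoid_iff m _).1 hq with e | ⟨x, y, e⟩
  · exfalso
    apply hne 0 2 (by decide)
    rw [← hg0, ← e, smul_inv_smul]
  · have hxy : ¬ (x = 0 ∧ y = 0) := by
      rintro ⟨rfl, rfl⟩
      apply hne 1 2 (by decide)
      rw [← hg1, ← e, smul_inv_smul]
    have hg2 : g • Ppt m x y = p 2 := by rw [← e, smul_inv_smul]
    -- the image vectors
    set v : Fin 3 → Fin 4 → F := ![vinf, pv m 0 0, pv m x y] with hv
    have hvne : ∀ i, v i ≠ 0 := by
      intro i
      fin_cases i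
      · exact vinf_ne_zero
      · exact pv_ne_zero m 0 0
      · exact pv_ne_zero m x y
    have hinj : Function.Injective ((g : Matrix (Fin 4) (Fin 4) F).mulVecLin) := by
      show Function.Injective (g : Matrix (Fin 4) (Fin 4) F).mulVec
      rw [Matrix.mulVec_injective_iff_isUnit, Matrix.isUnit_iff_isUnit_det, g.2]
      exact isUnit_one
    have hli : LinearIndependent F (fun i => (g : Matrix (Fin 4) (Fin 4) F).mulVecLin (v i)) :=
      (base_independent m hxy).map' _ (LinearMap.ker_eq_bot.2 hinj)
    have hwne : ∀ i, (g : Matrix (Fin 4) (Fin 4) F).mulVecLin (v i) ≠ 0 := by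
      intro i e0
      apply hvne i
      apply hinj
      rw [e0, map_zero]
    have key := Projectivization.Independent.mk (K := F) _ hwne hli
    convert key using 1
    funext i
    fin_cases i
    · show (p 0 : Projectivization F (Fin 4 → F)) = _
      rw [← hg0]
      rfl
    · show (p 1 : Projectivization F (Fin 4 → F)) = _
      rw [← hg1]
      rfl
    · show (p 2 : Projectivization F (Fin 4 → F)) = _
      rw [← hg2]
      rfl

end Cfsg.Agent.S0335
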