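import Cfsg.Statements.S0346
import Cfsg.Agent.Helper2.FeitPM
import Cfsg.Agent.S0738
import Cfsg.Agent.S0741
import Cfsg.Agent.Helper7.ZassKernel
import Cfsg.Agent.Helper7.ZassSub
import Cfsg.Agent.Helper2.ZasPSLD

set_option autoImplicit false
open Cfsg

namespace Cfsg.Agent.S0346

/-- The number of points of a finite simple Zassenhaus group is `p^k + 1` for some prime power `p^k` (the regular normal
subgroup of a point stabiliser is a `p`-group). -/
theorem result {G Ω : Type*} [Group G] [Finite G] [MulAction G Ω] [Fintype Ω]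
    (hZ : Cfsg.IsZassenhausGroup G Ω) [IsSimpleGroup G] :
    IsPrimePow (Fintype.card Ω - 1) := by
  classical
  have : Fintype G := Fintype.ofFinite G
  have hZH : Cfsg.Agent.Helper7.Zass.ZHyp G Ω := Cfsg.Agent.Helper2.ZasPSL.zhyp_of hZ
  have hp3 := hZ.2.2.1
  have : FaithfulSMul G Ω := hZ.1
  obtain ⟨g₀, hg₀1, a, b, hab, hg₀a, hg₀b⟩ := hZ.2.2.2.1
  obtain ⟨N, hNset, hNcard⟩ := Cfsg.Agent.Helper7.Zass.exists_kernel_subgroup hZH a
  rw [Nat.card_eq_fintype_card (α := Ω)] at hNcard
  have hmem : ∀ x : G, x ∈ N ↔ x ∈ Cfsg.Agent.Helper7.Zass.Kset a := by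
    intro x
    rw [← SetLike.mem_coe, hNset]
  have hNa : ∀ n ∈ N, n • a = a := fun n hn => ((hmem n).1 hn).1
  have hHa : N ≤ MulAction.stabilizer G a := fun n hn => MulAction.mem_stabilizer_iff.2 (hNa n hn)
  have hHfix : ∀ u ∈ N, u ≠ 1 → ∀ c : Ω, u • c = c → c = a := by
    intro u hu hu1 c hc
    exact Cfsg.Agent.Helper7.Zass.Kset_fix_unique ((hmem u).1 hu) hu1 hc
  have hNfree : ∀ n ∈ N, ∀ y : Ω, y ≠ a → n • y = y → n = 1 := by
    intro n hn y hy hny
    by_contra hn1
    exact hy (hHfix n hn hn1 y hny)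
  have hNtrans : ∀ y z : Ω, y ≠ a → z ≠ a → ∃ n ∈ N, n • y = z := by
    intro y z hy hz
    obtain ⟨k, hk, hkyz⟩ := Cfsg.Agent.Helper7.Zass.Kset_transitive hZH hy hz
    exact ⟨k, (hmem k).2 hk, hkyz⟩
  have hNnorm : ∀ g : G, g • a = a → ∀ n ∈ N, g * n * g⁻¹ ∈ N := by
    intro g hg n hn
    rw [hmem] at hn ⊢
    have := Cfsg.Agent.Helper7.Zass.conj_mem_Kset hn g
    rwa [hg] at this
  have hFn : (N.subgroupOf (MulAction.stabilizer G a)).Normal := by
    constructor
    intro k hk g
    rw [Subgroup.mem_subgroupOf] at hk ⊢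
    exact hNnorm g (MulAction.mem_stabilizer_iff.1 g.2) k hk
  have hreg : ∀ y z : Ω, y ≠ a → z ≠ a → ∃! u : N, (u : G) • y = z := by
    intro y z hy hz
    obtain ⟨n, hn, hnyz⟩ := hNtrans y z hy hz
    refine ⟨⟨n, hn⟩, hnyz, ?_⟩
    rintro ⟨u, hu⟩ huyz
    have huyz' : u • y = z := huyz
    apply Subtype.ext
    show u = n
    have h1 : (n⁻¹ * u) • y = y := by
      rw [mul_smul, huyz', ← hnyz, inv_smul_smul]
    have h2 := hNfree (n⁻¹ * u) (N.mul_mem (N.inv_mem hn) hu) y hy h1
    have h3 : u = n * (n⁻¹ * u) := by group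
    rw [h3, h2, mul_one]
  -- the two-point stabiliser is non-trivial, so there are at least three points
  have hg₀ : g₀ ∈ (MulAction.stabilizer G a ⊓ MulAction.stabilizer G b : Subgroup G) :=
    Subgroup.mem_inf.2 ⟨MulAction.mem_stabilizer_iff.2 hg₀a, MulAction.mem_stabilizer_iff.2 hg₀b⟩
  have hcard3 : 3 ≤ Fintype.card Ω := by
    by_contra hlt
    apply hg₀1
    apply FaithfulSMul.eq_of_smul_eq_smul (α := Ω)
    intro c
    rw [one_smul]
    by_cases hca : c = a
    · rw [hca, hg₀a]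
    by_cases hcb : c = b
    · rw [hcb, hg₀b]
    exfalso
    have h3 : ({a, b, c} : Finset Ω).card = 3 := by
      rw [Finset.card_insert_of_notMem, Finset.card_insert_of_notMem, Finset.card_singleton]
      · simpa using fun h => hcb h.symm
      · simp only [Finset.mem_insert, Finset.mem_singleton, not_or]
        exact ⟨hab, fun h => hca h.symm⟩
    have h4 := Finset.card_le_univ ({a, b, c} : Finset Ω)
    omega
  by_cases hcase : Fintype.card Ω - 2 ≤
      2 * Nat.card ↥(MulAction.stabilizer G a ⊓ MulAction.stabilizer G b : Subgroup G)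
  · obtain ⟨-, p, f, hp, -, hpf⟩ := Cfsg.Agent.S0738.result hZ hab hcase N hHa hFn hreg
    rw [hpf, Nat.add_sub_cancel]
    have hf : f ≠ 0 := by
      intro hf0
      rw [hf0, pow_zero] at hpf
      omega
    exact (hp.prime.isPrimePow).pow hf
  · rcases Nat.even_or_odd
      (Nat.card ↥(MulAction.stabilizer G a ⊓ MulAction.stabilizer G b : Subgroup G)) with hev | hodd
    · exact absurd (Cfsg.Agent.S0741.result hZ hab hev) hcase
    · push Not at hcase
      obtain ⟨p, m, hp, hpm⟩ := Cfsg.Agent.Helper2.FeitP.kernel_prime_pow hZ hab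
        (Fintype.card Ω - 1) _ (by omega) rfl hodd (by omega) N hHa hNcard hHfix
      have h1 : Fintype.card Ω - 1 = p ^ m := by omega
      rw [h1]
      have hm0 : m ≠ 0 := by
        intro hm0
        rw [hm0, pow_zero] at h1
        omega
      exact (hp.prime.isPrimePow).pow hm0

end Cfsg.Agent.S0346
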