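import Cfsg.Statements.S0371
import Cfsg.Agent.Helper9.Golay.Count

set_option autoImplicit false
open Cfsg

namespace Cfsg.Agent.S0371

open Cfsg.Agent.Helper9.Golay in
theorem key : ∀ a : ZMod 23, (∃ r : ZMod 23, r ≠ 0 ∧ a = r * r) → ∀ o : Option (ZMod 23),
    encW (genW o ∘ (fun p => p.map (fun x => a * x))) ∈ codeList := by
  decide +kernel

/-- Multiplication by a nonzero square residue modulo 23, fixing the extra point, lies in the group of the length-24 code. -/
theorem result (u : (ZMod 23)ˣ) (hu : IsSquare u) : Equiv.optionCongr (Units.mulLeft u) ∈ Cfsg.M24 := by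
  apply Cfsg.Agent.Helper9.Golay.mem_M24_of_comp
  intro o
  rw [Cfsg.Agent.Helper9.Golay.mem_golayCode_iff]
  obtain ⟨s, hs⟩ := hu
  haveI : Fact (Nat.Prime 23) := ⟨by norm_num⟩
  have h1 : ∃ r : ZMod 23, r ≠ 0 ∧ ((u : (ZMod 23)ˣ) : ZMod 23) = r * r :=
    ⟨(s : ZMod 23), s.ne_zero, by rw [hs]; simp⟩
  have h2 : (⇑(Equiv.optionCongr (Units.mulLeft u)) : Cfsg.GolayPt → Cfsg.GolayPt)
      = fun p => p.map (fun x => ((u : (ZMod 23)ˣ) : ZMod 23) * x) := by
    funext p
    cases p <;> rfl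
  rw [h2]
  exact key _ h1 o

end Cfsg.Agent.S0371
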