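import Cfsg.Statements.S0385
import Cfsg.Agent.Helper9.Golay.Orbit

set_option autoImplicit false
open Cfsg

namespace Cfsg.Agent.S0385

/-- The 6-point intersections of octads with a fixed dodecad form a Steiner system S(5, 6, 12) on the dodecad. -/
theorem result (d : Finset Cfsg.GolayPt) (hd : d ∈ Cfsg.dodecads) : Cfsg.IsSteinerSystem 5 6 {h : Finset {p : Cfsg.GolayPt // p ∈ d} | ∃ o ∈ Cfsg.octads, (o ∩ d).card = 6 ∧ h = Finset.subtype (fun p => p ∈ d) o} := by
  open Cfsg.Agent.Helper9.Golay in
  classical
  obtain ⟨b, hb, hb12, rfl⟩ := (mem_dodecads_iff d).mp hd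
  -- an octad meeting the dodecad in at least five points meets it in exactly six
  have hsix : ∀ o ∈ Cfsg.octads, 5 ≤ (o ∩ suppM b).card → (o ∩ suppM b).card = 6 := by
    intro o ho h5
    obtain ⟨a, ha, ha8, rfl⟩ := (mem_octads_iff o).mp ho
    have h0 : (suppM a ∩ suppM b).card ≤ (suppM a).card :=
      Finset.card_le_card Finset.inter_subset_left
    rw [suppM_inter, card_suppM] at h5 ⊢
    rw [suppM_inter, card_suppM, card_suppM] at h0
    have h1 := popc_xor a b
    rcases popc_mem_codeList (xor_mem_codeList ha hb) with h | h | h | h | h <;> omega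
  refine ⟨?_, ?_⟩
  · rintro h ⟨o, _, ho6, rfl⟩
    rw [Finset.card_subtype, ← ho6]
    congr 1
  · intro s hs
    set s' : Finset Cfsg.GolayPt := s.map (Function.Embedding.subtype _) with hs'
    have hs'card : s'.card = 5 := by rw [hs', Finset.card_map, hs]
    have hs'd : s' ⊆ suppM b := by
      intro x hx
      rw [hs', Finset.mem_map] at hx
      obtain ⟨y, _, rfl⟩ := hx
      exact y.2
    obtain ⟨o, ho, hso⟩ := exists_octad_of_five s' hs'card
    have h5 : 5 ≤ (o ∩ suppM b).card := by
      rw [← hs'card]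
      exact Finset.card_le_card (Finset.subset_inter hso hs'd)
    have h6 := hsix o ho h5
    refine ⟨Finset.subtype (fun p => p ∈ suppM b) o, ⟨⟨o, ho, h6, rfl⟩, ?_⟩, ?_⟩
    · intro x hx
      rw [Finset.mem_subtype]
      apply hso
      rw [hs', Finset.mem_map]
      exact ⟨x, hx, rfl⟩
    · rintro h' ⟨⟨o', ho', _, rfl⟩, hsh'⟩
      have hso' : s' ⊆ o' := by
        intro x hx
        rw [hs', Finset.mem_map] at hx
        obtain ⟨y, hy, rfl⟩ := hx
        have := hsh' hy
        rw [Finset.mem_subtype] at this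
        exact this
      rw [octads_unique ho' ho s' hs'card hso' hso]

end Cfsg.Agent.S0385
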