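import Cfsg.Statements.S0412
import Cfsg.Agent.Helper9.Steiner.D5824
import Cfsg.Agent.Helper9.Steiner.AutTransport
import Cfsg.Agent.Helper9.Golay.Steiner
import Cfsg.Agent.Helper9.Golay.Aut
import Cfsg.Agent.Helper9.Golay.M24Simple
import Cfsg.Agent.Helper9.Golay.M24Trans

set_option autoImplicit false
open Cfsg

namespace Cfsg.Agent.S0412

/-- Aut of an S(5, 8, 24) is simple of order 244823040 and 5-transitive on points. -/
theorem result {α : Type*} [Fintype α] [DecidableEq α] (hα : Fintype.card α = 24) {B : Set (Finset α)} (hB : Cfsg.IsSteinerSystem 5 8 B) : Cfsg.IsM24 (Cfsg.setSystemAut B) ∧ MulAction.IsMultiplyPretransitive (Cfsg.setSystemAut B) α 5 := by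
  have hoct : Cfsg.IsSteinerSystem 5 8 Cfsg.octads := Cfsg.Agent.Helper9.Golay.octads_isSteinerSystem
  have hcardG : Fintype.card Cfsg.GolayPt = 24 := by decide
  obtain ⟨e, he⟩ := Cfsg.Agent.Helper9.Steiner.unique_of_checked
    Cfsg.Agent.Helper9.Steiner.D5824.checked hα hcardG hB hoct
  have he' : Cfsg.Agent.Helper9.Steiner.mapSys e B = Cfsg.octads := he
  have hM : Cfsg.M24 = Cfsg.setSystemAut Cfsg.octads := Cfsg.Agent.Helper9.Golay.M24_eq_aut_octads
  let φ : ↥(Cfsg.setSystemAut B) ≃* ↥Cfsg.M24 :=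
    (Cfsg.Agent.Helper9.Steiner.autCongr e B Cfsg.octads he').trans
      (MulEquiv.subgroupCongr hM.symm)
  refine ⟨⟨?_, ?_⟩, ?_⟩
  · have : IsSimpleGroup ↥Cfsg.M24 := Cfsg.Agent.Helper9.Golay.M24_simple
    exact φ.isSimpleGroup
  · rw [Nat.card_congr φ.toEquiv]
    exact Cfsg.Agent.Helper9.Golay.card_M24
  · apply Cfsg.Agent.Helper9.Steiner.pretransitive_congr e B Cfsg.octads he' 5
    have := Cfsg.Agent.Helper9.Golay.m24_isMultiplyPretransitive
    rw [hM] at this
    exact this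

end Cfsg.Agent.S0412
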