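import Cfsg.Statements.S0413
import Cfsg.Agent.Helper9.Steiner.D4723M
import Cfsg.Agent.Helper9.Steiner.Aut4723
import Cfsg.Agent.Helper9.Steiner.Derived
import Cfsg.Agent.Helper9.Golay.Steiner
import Cfsg.Agent.Helper9.Golay.Aut
import Cfsg.Agent.S0376
import Cfsg.Agent.S0377

set_option autoImplicit false
open Cfsg

namespace Cfsg.Agent.S0413

/-- Aut of an S(4, 7, 23) is simple of order 10200960 and 4-transitive. -/
theorem result {α : Type*} [Fintype α] [DecidableEq α] (hα : Fintype.card α = 23) {B : Set (Finset α)} (hB : Cfsg.IsSteinerSystem 4 7 B) : Cfsg.IsM23 (Cfsg.setSystemAut B) ∧ MulAction.IsMultiplyPretransitive (Cfsg.setSystemAut B) α 4 := by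
  classical
  open scoped Pointwise in
  -- the given system is isomorphic to the standard one
  obtain ⟨e, he⟩ := Cfsg.Agent.Helper9.Steiner.iso_std_of_checked
    Cfsg.Agent.Helper9.Steiner.D4723M.checked hα hB
  have hstd : Cfsg.IsSteinerSystem 4 7
      (Cfsg.Agent.Helper9.Steiner.stdSet Cfsg.Agent.Helper9.Steiner.D4723M.P) := by
    rw [← he]; exact Cfsg.Agent.Helper9.Steiner.steiner_mapSys e hB
  have hm : Cfsg.Agent.Helper9.Steiner.D4723M.P.marks ≤ Cfsg.Agent.Helper9.Steiner.D4723M.P.n := by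
    decide
  have htr : MulAction.IsMultiplyPretransitive
      (Cfsg.setSystemAut (Cfsg.Agent.Helper9.Steiner.stdSet Cfsg.Agent.Helper9.Steiner.D4723M.P))
      (Fin Cfsg.Agent.Helper9.Steiner.D4723M.P.n) 4 :=
    Cfsg.Agent.Helper9.Steiner.aut_transitive Cfsg.Agent.Helper9.Steiner.D4723M.checked hstd hm
  have h4 : MulAction.IsMultiplyPretransitive (Cfsg.setSystemAut B) α 4 :=
    Cfsg.Agent.Helper9.Steiner.pretransitive_congr e B _ he 4 htr
  refine ⟨?_, h4⟩
  -- the derived system of the octads at the point `none`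
  have hD : Cfsg.IsSteinerSystem 4 7
      (Cfsg.Agent.Helper9.Steiner.derivedAt Cfsg.octads ({none} : Finset Cfsg.GolayPt)) :=
    Cfsg.Agent.Helper9.Steiner.steiner_derivedAt (t := 4) (k := 7) (m := 1)
      Cfsg.Agent.Helper9.Golay.octads_isSteinerSystem _ (Finset.card_singleton _)
  have hγ : Fintype.card {a : Cfsg.GolayPt // a ∉ ({none} : Finset Cfsg.GolayPt)} = 23 := by
    decide
  obtain ⟨e1, he1⟩ := Cfsg.Agent.Helper9.Steiner.iso_std_of_checked
    Cfsg.Agent.Helper9.Steiner.D4723M.checked hγ hD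
  -- the group M23 inside the automorphism group of the derived system
  let H23 : Subgroup (Equiv.Perm Cfsg.GolayPt) :=
    Cfsg.M24 ⊓ MulAction.stabilizer (Equiv.Perm Cfsg.GolayPt) (none : Cfsg.GolayPt)
  have hH : H23 ≤ Cfsg.setSystemAut Cfsg.octads := by
    rw [← Cfsg.Agent.Helper9.Golay.M24_eq_aut_octads]
    exact inf_le_left
  have hS : H23 ≤ MulAction.stabilizer (Equiv.Perm Cfsg.GolayPt)
      ({none} : Finset Cfsg.GolayPt) := by
    intro g hg
    have hg' : g none = none := MulAction.mem_stabilizer_iff.1 (Subgroup.mem_inf.1 hg).2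
    rw [MulAction.mem_stabilizer_iff, Finset.smul_finset_singleton, Equiv.Perm.smul_def, hg']
  have hinj := Cfsg.Agent.Helper9.Steiner.restrictHom_injective Cfsg.octads
    ({none} : Finset Cfsg.GolayPt) H23 hH hS (by
      intro g hg hfix
      have hg' : g none = none := MulAction.mem_stabilizer_iff.1 (Subgroup.mem_inf.1 hg).2
      ext a
      by_cases ha : a = none
      · rw [ha, hg']; rfl
      · rw [hfix a (by simpa using ha)]; rfl)
  -- the composite homomorphism into the automorphism group of `B`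
  let Φ : H23 →* Cfsg.setSystemAut B :=
    (Cfsg.Agent.Helper9.Steiner.autCongr e B _ he).symm.toMonoidHom.comp
      ((Cfsg.Agent.Helper9.Steiner.autCongr e1 _ _ he1).toMonoidHom.comp
        (Cfsg.Agent.Helper9.Steiner.restrictHom Cfsg.octads ({none} : Finset Cfsg.GolayPt)
          H23 hH hS))
  have hΦ : Function.Injective Φ :=
    (Cfsg.Agent.Helper9.Steiner.autCongr e B _ he).symm.injective.comp
      ((Cfsg.Agent.Helper9.Steiner.autCongr e1 _ _ he1).injective.comp hinj)
  -- orders
  let m23 : H23 ≃* MulAction.stabilizer Cfsg.M24 (none : Cfsg.GolayPt) :=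
    { toFun := fun x => ⟨⟨x.1, (Subgroup.mem_inf.1 x.2).1⟩,
        MulAction.mem_stabilizer_iff.2
          (MulAction.mem_stabilizer_iff.1 (Subgroup.mem_inf.1 x.2).2)⟩
      invFun := fun x => ⟨x.1.1, Subgroup.mem_inf.2 ⟨x.1.2,
        MulAction.mem_stabilizer_iff.2 (MulAction.mem_stabilizer_iff.1 x.2)⟩⟩
      left_inv := fun _ => rfl
      right_inv := fun _ => rfl
      map_mul' := fun _ _ => rfl }
  have hc23 : Nat.card H23 = 10200960 := by
    rw [Nat.card_congr m23.toEquiv]
    exact Cfsg.Agent.S0376.result none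
  haveI hs23 : IsSimpleGroup H23 := by
    haveI := Cfsg.Agent.S0377.result none
    exact m23.isSimpleGroup_congr.2 inferInstance
  have hle : Nat.card (Cfsg.setSystemAut B) ≤ 10200960 := by
    rw [Nat.card_congr (Cfsg.Agent.Helper9.Steiner.autCongr e B _ he).toEquiv]
    exact Cfsg.Agent.Helper9.Steiner.Aut4723.card_aut_le hstd
  have hbij : Function.Bijective Φ :=
    hΦ.bijective_of_nat_card_le (by rw [hc23]; exact hle)
  let Ψ : H23 ≃* Cfsg.setSystemAut B := MulEquiv.ofBijective Φ hbij
  refine ⟨Ψ.symm.isSimpleGroup_congr.2 inferInstance, ?_⟩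
  rw [← Nat.card_congr Ψ.toEquiv, hc23]

end Cfsg.Agent.S0413
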