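import Cfsg.Statements.S0436
import Cfsg.Agent.Helper9.Invol

set_option autoImplicit false
open Cfsg

namespace Cfsg.Agent.S0436

open Cfsg.Agent.Helper9

/-- For distinct commuting members a, b of a set of 3-transpositions E, a member e of E centralises the product a * b if and only if it centralises both a and b. -/
theorem result {G : Type*} [Group G] {E : Set G} (hE : Cfsg.IsThreeTranspositionSet E) {a b e : G} (ha : a ∈ E) (hb : b ∈ E) (he : e ∈ E) (hab : a ≠ b) (hcomm : Commute a b) : Commute e (a * b) ↔ (Commute e a ∧ Commute e b) := by
  have ha2 := mul_self_of_orderOf_two (hE.1 a ha)
  have hb2 := mul_self_of_orderOf_two (hE.1 b hb)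
  have he2 := mul_self_of_orderOf_two (hE.1 e he)
  constructor
  · intro h
    by_cases h1 : Commute e a
    · refine ⟨h1, ?_⟩
      have : b = a * (a * b) := by rw [← mul_assoc, ha2, one_mul]
      rw [this]
      exact h1.mul_right h
    · by_cases h2 : Commute e b
      · exfalso
        apply h1
        have : a = (a * b) * b := by rw [mul_assoc, hb2, mul_one]
        rw [this]
        exact h.mul_right h2
      · exfalso
        have ba : e * a * e = a * e * a := by
          rcases commute_or_braid hE he ha with h' | h'
          · exact absurd h' h1
          · exact h'
        have bb : e * b * e = b * e * b := by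
          rcases commute_or_braid hE he hb with h' | h'
          · exact absurd h' h2
          · exact h'
        -- e commutes with a*b: (a*b) * e * (a*b)⁻¹ = e, i.e. a * (b e b) * a = e
        have h3 : a * (b * e * b) * a = e := by
          have hc : e * (a * b) = (a * b) * e := h
          have hba : b * a = a * b := hcomm.eq.symm
          calc a * (b * e * b) * a = (a * b) * e * (b * a) := by simp [mul_assoc]
            _ = (a * b) * e * (a * b) := by rw [hba]
            _ = e * (a * b) * (a * b) := by rw [hc]
            _ = e * (a * (b * a) * b) := by simp [mul_assoc]
            _ = e * (a * (a * b) * b) := by rw [hba]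
            _ = e := by
              rw [← mul_assoc a a b, ha2, one_mul, hb2, mul_one]
        -- so b e b = a e a
        have h4 : b * e * b = a * e * a := by
          have key : ∀ x : G, a * (a * x * a) * a = x := by
            intro x
            calc a * (a * x * a) * a = (a * a) * x * (a * a) := by simp only [mul_assoc]
              _ = x := by rw [ha2, one_mul, mul_one]
          rw [← key (b * e * b), h3]
        -- e b e = e a e → b = a
        rw [← bb, ← ba] at h4
        have h5 : b = a := by
          have := mul_left_cancel (mul_right_cancel h4)
          exact this
        exact hab h5.symm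
  · rintro ⟨h1, h2⟩
    exact h1.mul_right h2

end Cfsg.Agent.S0436
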