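import Cfsg.Statements.S0437
import Cfsg.Agent.Helper9.Invol
import Cfsg.Agent.S0436

set_option autoImplicit false
open Cfsg

namespace Cfsg.Agent.S0437

open Cfsg.Agent.Helper9

theorem conj_swap {G : Type*} [Group G] {a : G} (ha : a * a = 1) {y z : G} (h : a * y * a = z) :
    y = a * z * a := by
  rw [← h]
  calc y = (a * a) * y * (a * a) := by rw [ha, one_mul, mul_one]
    _ = a * (a * y * a) * a := by simp only [mul_assoc]

/-- For three distinct, pairwise commuting members a, b, c of a set of 3-transpositions E, a member e of E centralises a * b * c if and only if it centralises each of a, b and c. -/
theorem result {G : Type*} [Group G] {E : Set G} (hE : Cfsg.IsThreeTranspositionSet E) {a b c e : G} (ha : a ∈ E) (hb : b ∈ E) (hc : c ∈ E) (he : e ∈ E) (hab : a ≠ b) (hac : a ≠ c) (hbc : b ≠ c) (h₁ : Commute a b) (h₂ : Commute a c) (h₃ : Commute b c) : Commute e (a * b * c) ↔ (Commute e a ∧ Commute e b ∧ Commute e c) := by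
  have ha2 := mul_self_of_orderOf_two (hE.1 a ha)
  have hb2 := mul_self_of_orderOf_two (hE.1 b hb)
  have hc2 := mul_self_of_orderOf_two (hE.1 c hc)
  have he2 := mul_self_of_orderOf_two (hE.1 e he)
  constructor
  · intro h
    by_cases c1 : Commute e a
    · -- e commutes with a * (a*b*c) = b*c
      have hx : Commute e (b * c) := by
        have : b * c = a * (a * b * c) := by
          simp only [mul_assoc]; rw [← mul_assoc a a, ha2, one_mul]
        rw [this]; exact c1.mul_right h
      have := (Cfsg.Agent.S0436.result hE hb hc he hbc h₃).1 hx
      exact ⟨c1, this.1, this.2⟩
    · by_cases c2 : Commute e b
      · have hx : Commute e (a * c) := by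
          have : a * c = b * (a * b * c) := by
            have hba : b * a = a * b := h₁.eq.symm
            calc a * c = a * (b * b) * c := by rw [hb2, mul_one]
              _ = (a * b) * (b * c) := by simp only [mul_assoc]
              _ = (b * a) * (b * c) := by rw [hba]
              _ = b * (a * b * c) := by simp only [mul_assoc]
          rw [this]; exact c2.mul_right h
        have := (Cfsg.Agent.S0436.result hE ha hc he hac h₂).1 hx
        exact ⟨this.1, c2, this.2⟩
      · by_cases c3 : Commute e c
        · have hx : Commute e (a * b) := by
            have : a * b = (a * b * c) * c := by
              rw [mul_assoc (a * b), hc2, mul_one]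
            rw [this]; exact h.mul_right c3
          have := (Cfsg.Agent.S0436.result hE ha hb he hab h₁).1 hx
          exact ⟨this.1, this.2, c3⟩
        · exfalso
          have ba : e * a * e = a * e * a := by
            rcases commute_or_braid hE he ha with h' | h'
            · exact absurd h' c1
            · exact h'
          have bb : e * b * e = b * e * b := by
            rcases commute_or_braid hE he hb with h' | h'
            · exact absurd h' c2
            · exact h'
          have bc : e * c * e = c * e * c := by
            rcases commute_or_braid hE he hc with h' | h'
            · exact absurd h' c3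
            · exact h'
          have hab' : a * b = b * a := h₁.eq
          have hac' : a * c = c * a := h₂.eq
          have hbc' : b * c = c * b := h₃.eq
          -- (1)
          have s1 : a * (b * (c * e * c) * b) * a = e := by
            have hxx : (a * b * c) * (c * b * a) = 1 := by
              calc (a * b * c) * (c * b * a) = a * (b * ((c * c) * b)) * a := by
                    simp only [mul_assoc]
                _ = 1 := by rw [hc2, one_mul, hb2, mul_one, ha2]
            have hc' : e * (a * b * c) = (a * b * c) * e := h
            calc a * (b * (c * e * c) * b) * a = ((a * b * c) * e) * (c * b * a) := by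
                  simp only [mul_assoc]
              _ = (e * (a * b * c)) * (c * b * a) := by rw [hc']
              _ = e * ((a * b * c) * (c * b * a)) := by simp only [mul_assoc]
              _ = e := by rw [hxx, mul_one]
          rw [← bc] at s1
          -- (3)
          have s3 : b * (e * c * e) * b = e * a * e := by
            rw [ba]; exact conj_swap ha2 s1
          have s4 : e * c * e = b * (e * a * e) * b := conj_swap hb2 s3
          have s5 : c = e * (b * (e * a * e) * b) * e := conj_swap he2 s4
          have s6 : c = a * (e * b * e) * a := by
            calc c = e * (b * (e * a * e) * b) * e := s5
              _ = (e * b * e) * a * (e * b * e) := by simp only [mul_assoc]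
              _ = (b * e * b) * a * (b * e * b) := by rw [bb]
              _ = b * e * (b * a * b) * e * b := by simp only [mul_assoc]
              _ = b * e * a * e * b := by
                    rw [← hab', mul_assoc a b b, hb2, mul_one]
              _ = b * (e * a * e) * b := by simp only [mul_assoc]
              _ = b * (a * e * a) * b := by rw [ba]
              _ = (b * a) * e * (a * b) := by simp only [mul_assoc]
              _ = (a * b) * e * (b * a) := by rw [hab']
              _ = a * (b * e * b) * a := by simp only [mul_assoc]
              _ = a * (e * b * e) * a := by rw [bb]
          have s7 : a * c * a = c := by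
            rw [hac', mul_assoc, ha2, mul_one]
          have s8 : c = e * b * e := by
            have : a * c * a = e * b * e := by
              rw [s6]
              calc a * (a * (e * b * e) * a) * a = (a * a) * (e * b * e) * (a * a) := by
                    simp only [mul_assoc]
                _ = e * b * e := by rw [ha2, one_mul, mul_one]
            rw [s7] at this; exact this
          rw [bb] at s8
          -- c commutes with b
          have s9 : (b * e * b) * b = b * (b * e * b) := by
            rw [← s8]; exact hbc'.symm
          have s10 : b * e = e * b := by
            have l : (b * e * b) * b = b * e := by rw [mul_assoc, hb2, mul_one]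
            have r : b * (b * e * b) = e * b := by
              calc b * (b * e * b) = (b * b) * e * b := by simp only [mul_assoc]
                _ = e * b := by rw [hb2, one_mul]
            rw [l, r] at s9; exact s9
          exact c2 s10.symm
  · rintro ⟨h1, h2, h3⟩
    exact (h1.mul_right h2).mul_right h3

end Cfsg.Agent.S0437
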