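import Cfsg.Statements.S0439
import Mathlib

set_option autoImplicit false
open Cfsg

namespace Cfsg.Agent.S0439

open Equiv

theorem swap_mul_swap_sq_or_cube {α : Type*} [Fintype α] [DecidableEq α] {a b c d : α}
    (hab : a ≠ b) (hcd : c ≠ d) :
    (swap a b * swap c d) ^ 2 = 1 ∨ (swap a b * swap c d) ^ 3 = 1 := by
  have three : ∀ {x y z : α}, x ≠ y → x ≠ z → y ≠ z → (swap x y * swap x z) ^ 3 = 1 := by
    intro x y z h1 h2 h3
    have := (Perm.isThreeCycle_swap_mul_swap_same h1 h2 h3).orderOf
    rw [← this]; exact pow_orderOf_eq_one _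
  by_cases h1 : a = c
  · subst h1
    by_cases h2 : b = d
    · subst h2; left; rw [swap_mul_self, one_pow]
    · right; exact three hab hcd h2
  · by_cases h2 : a = d
    · subst h2
      rw [swap_comm c a]
      by_cases h3 : b = c
      · subst h3; left; rw [swap_mul_self, one_pow]
      · right; exact three hab (Ne.symm hcd) h3
    · by_cases h3 : b = c
      · subst h3
        rw [swap_comm a b]
        right; exact three (Ne.symm hab) hcd h2
      · by_cases h4 : b = d
        · subst h4
          rw [swap_comm a b, swap_comm c b]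
          right; exact three (Ne.symm hab) (Ne.symm hcd) h1
        · left
          have hdis : (swap a b).Disjoint (swap c d) := by
            apply Perm.disjoint_swap_swap
            simp [hab, hcd, h1, h2, h3, h4]
          have hc := hdis.commute
          rw [hc.mul_pow, pow_two, pow_two, swap_mul_self, swap_mul_self, one_mul]

/-- In the symmetric group of degree n ≥ 2, the set of transpositions is a conjugacy class of 3-transpositions which generates the group. -/
theorem result (n : ℕ) (hn : 2 ≤ n) : Cfsg.IsThreeTranspositionClass {σ : Equiv.Perm (Fin n) | σ.IsSwap} := by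
  refine ⟨⟨?_, ?_⟩, ?_, ?_⟩
  · intro d hd
    exact Perm.IsSwap.orderOf hd
  · rintro d ⟨a, b, hab, rfl⟩ e ⟨c, d', hcd, rfl⟩
    exact swap_mul_swap_sq_or_cube hab hcd
  · have h01 : (⟨0, by omega⟩ : Fin n) ≠ ⟨1, by omega⟩ := by
      intro h
      have := congrArg Fin.val h
      simp at this
    refine ⟨swap ⟨0, by omega⟩ ⟨1, by omega⟩, ⟨_, _, h01, rfl⟩, ?_⟩
    ext σ
    constructor
    · rintro ⟨a, b, hab, rfl⟩
      exact Perm.isConj_swap h01 hab
    · intro h
      have h' : IsConj (swap (⟨0, by omega⟩ : Fin n) ⟨1, by omega⟩) σ := h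
      rw [isConj_iff] at h'
      obtain ⟨c, hc⟩ := h'
      rw [← swap_apply_apply] at hc
      refine ⟨c ⟨0, by omega⟩, c ⟨1, by omega⟩, ?_, hc.symm⟩
      intro hh
      exact h01 (c.injective hh)
  · exact Perm.closure_isSwap

end Cfsg.Agent.S0439
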