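import Mathlib
import Cfsg.Statements.S0440
import Cfsg.Agent.Helper7.SympGeneration
import Cfsg.Agent.Helper7.SympPerfect

set_option autoImplicit false
open Cfsg

namespace Cfsg.Agent.S0440

open Matrix Module Cfsg.Agent.Helper7.Symp

variable {n : ℕ}

local notation "V" => Fin n ⊕ Fin n → ZMod 2

theorem h01 : ∀ a : ZMod 2, a = 0 ∨ a = 1 := by decide

theorem hneg (a : ZMod 2) : -a = a := by revert a; decide

theorem sub_one_mulVec (g : Matrix.symplecticGroup (Fin n) (ZMod 2)) (v : V) :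
    ((g : Matrix (Fin n ⊕ Fin n) (Fin n ⊕ Fin n) (ZMod 2)) - 1).mulVecLin v
      = (g : Matrix (Fin n ⊕ Fin n) (Fin n ⊕ Fin n) (ZMod 2)) *ᵥ v - v := by
  rw [Matrix.mulVecLin_apply, Matrix.sub_mulVec, Matrix.one_mulVec]

/-- a rank one element is a transvection. -/
theorem eq_T_of_rank_one (g : Matrix.symplecticGroup (Fin n) (ZMod 2))
    (hg : ((g : Matrix (Fin n ⊕ Fin n) (Fin n ⊕ Fin n) (ZMod 2)) - 1).rank = 1) :
    ∃ w : V, w ≠ 0 ∧ g = T w 1 := by
  unfold Matrix.rank at hg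
  obtain ⟨⟨w, hwR⟩, hw0, hspan⟩ := finrank_eq_one_iff'.mp hg
  have hw0' : w ≠ 0 := fun h => hw0 (Subtype.ext h)
  have hcase : ∀ v : V, (g : Matrix (Fin n ⊕ Fin n) (Fin n ⊕ Fin n) (ZMod 2)) *ᵥ v = v ∨
      (g : Matrix (Fin n ⊕ Fin n) (Fin n ⊕ Fin n) (ZMod 2)) *ᵥ v = v + w := by
    intro v
    obtain ⟨c, hc⟩ := hspan ⟨_, LinearMap.mem_range_self _ v⟩
    have hc' : c • w = (g : Matrix (Fin n ⊕ Fin n) (Fin n ⊕ Fin n) (ZMod 2)) *ᵥ v - v := by
      have := congrArg Subtype.val hc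
      rw [← sub_one_mulVec]
      exact this
    rcases h01 c with rfl | rfl
    · left
      rw [zero_smul] at hc'
      exact (sub_eq_zero.mp hc'.symm)
    · right
      rw [one_smul] at hc'
      rw [hc']; abel
  obtain ⟨v₀, hv₀⟩ : ∃ v₀ : V, (g : Matrix (Fin n ⊕ Fin n) (Fin n ⊕ Fin n) (ZMod 2)) *ᵥ v₀ = v₀ + w := by
    obtain ⟨v₀, hv₀⟩ := hwR
    refine ⟨v₀, ?_⟩
    rw [sub_one_mulVec] at hv₀
    rw [← hv₀]; abel
  have hfixed : ∀ u : V, (g : Matrix (Fin n ⊕ Fin n) (Fin n ⊕ Fin n) (ZMod 2)) *ᵥ u = u →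
      sympForm n (ZMod 2) u w = 0 := by
    intro u hu
    have h := sympForm_mulVec g u v₀
    rw [hu, hv₀, sympForm_add_right] at h
    linear_combination h
  have hmoved : ∀ u : V, (g : Matrix (Fin n ⊕ Fin n) (Fin n ⊕ Fin n) (ZMod 2)) *ᵥ u = u + w →
      sympForm n (ZMod 2) u w = sympForm n (ZMod 2) w v₀ := by
    intro u hu
    have h := sympForm_mulVec g u v₀
    rw [hu, hv₀, sympForm_add_right, sympForm_add_left, sympForm_add_left, sympForm_self] at h
    have : sympForm n (ZMod 2) u w = -sympForm n (ZMod 2) w v₀ := by linear_combination h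
    rw [this, hneg]
  have ha : sympForm n (ZMod 2) w v₀ = 1 := by
    rcases h01 (sympForm n (ZMod 2) w v₀) with h | h
    · exfalso
      obtain ⟨y, hy⟩ := exists_sympForm_ne_zero hw0'
      apply hy
      rw [sympForm_swap, neg_eq_zero]
      rcases hcase y with hy' | hy'
      · exact hfixed y hy'
      · rw [hmoved y hy', h]
    · exact h
  refine ⟨w, hw0', ?_⟩
  apply ext_mulVec
  intro u
  rw [T_mulVec, one_mul]
  rcases hcase u with hu | hu
  · rw [hfixed u hu, zero_smul, add_zero, hu]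
  · rw [hmoved u hu, ha, one_smul, hu]

/-- a transvection has rank one. -/
theorem rank_T {w : V} (hw : w ≠ 0) :
    ((T w (1 : ZMod 2) : Matrix (Fin n ⊕ Fin n) (Fin n ⊕ Fin n) (ZMod 2)) - 1).rank = 1 := by
  unfold Matrix.rank
  have hrange : LinearMap.range
      ((T w (1 : ZMod 2) : Matrix (Fin n ⊕ Fin n) (Fin n ⊕ Fin n) (ZMod 2)) - 1).mulVecLin
      = Submodule.span (ZMod 2) {w} := by
    apply le_antisymm
    · rintro _ ⟨x, rfl⟩
      rw [sub_one_mulVec, T_mulVec, add_sub_cancel_left]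
      exact Submodule.smul_mem _ _ (Submodule.mem_span_singleton_self w)
    · rw [Submodule.span_singleton_le_iff_mem]
      obtain ⟨y, hy⟩ := exists_sympForm_ne_zero hw
      have hy1 : sympForm n (ZMod 2) y w = 1 := by
        rcases h01 (sympForm n (ZMod 2) y w) with h | h
        · exfalso; apply hy; rw [sympForm_swap, h, neg_zero]
        · exact h
      refine ⟨y, ?_⟩
      rw [sub_one_mulVec, T_mulVec, add_sub_cancel_left, one_mul, hy1, one_smul]
  rw [hrange]
  exact finrank_span_singleton hw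

theorem mem_iff (g : Matrix.symplecticGroup (Fin n) (ZMod 2)) :
    ((g : Matrix (Fin n ⊕ Fin n) (Fin n ⊕ Fin n) (ZMod 2)) - 1).rank = 1 ↔
      ∃ w : V, w ≠ 0 ∧ g = T w 1 := by
  constructor
  · exact eq_T_of_rank_one g
  · rintro ⟨w, hw, rfl⟩
    exact rank_T hw

theorem T_sq (w : V) : T w (1 : ZMod 2) * T w 1 = 1 := by
  rw [T_mul]
  have : (1 : ZMod 2) + 1 = 0 := by decide
  rw [this, T_zero_right]

theorem T_inv (w : V) : (T w (1 : ZMod 2))⁻¹ = T w 1 :=
  inv_eq_of_mul_eq_one_right (T_sq w)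

/-- In the symplectic group in dimension 2n ≥ 2 over the field with two elements, the elements g for which g - 1 has rank one (the symplectic transvections) form a conjugacy class of 3-transpositions generating the group. -/
theorem result (n : ℕ) (hn : 1 ≤ n) : Cfsg.IsThreeTranspositionClass {g : Matrix.symplecticGroup (Fin n) (ZMod 2) | ((g : Matrix (Fin n ⊕ Fin n) (Fin n ⊕ Fin n) (ZMod 2)) - 1).rank = 1} := by
  refine ⟨⟨?_, ?_⟩, ?_, ?_⟩
  · intro d hd
    obtain ⟨w, hw, rfl⟩ := (mem_iff d).mp hd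
    refine orderOf_eq_prime (by rw [pow_two]; exact T_sq w) ?_
    intro h1
    have hr := rank_T hw
    rw [h1] at hr
    simp at hr
  · intro d hd e he
    obtain ⟨u, hu, rfl⟩ := (mem_iff d).mp hd
    obtain ⟨w, hw, rfl⟩ := (mem_iff e).mp he
    rcases h01 (sympForm n (ZMod 2) w u) with huw | huw
    · left
      have h1 : T u (1 : ZMod 2) * T w 1 * (T u 1)⁻¹ = T w 1 := by
        rw [conj_T, T_mulVec, huw, mul_zero, zero_smul, add_zero]
      rw [T_inv] at h1
      calc (T u (1 : ZMod 2) * T w 1) ^ 2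
          = (T u 1 * T w 1 * T u 1) * T w 1 := by rw [pow_two]; group
        _ = 1 := by rw [h1, T_sq]
    · right
      have h1 : T u (1 : ZMod 2) * T w 1 * (T u 1)⁻¹ = T (w + u) 1 := by
        rw [conj_T, T_mulVec, huw, mul_one, one_smul]
      have huw' : sympForm n (ZMod 2) u w = 1 := by
        rw [sympForm_swap, huw]; decide
      have h3 : T w (1 : ZMod 2) * T u 1 * (T w 1)⁻¹ = T (w + u) 1 := by
        rw [conj_T, T_mulVec, huw', mul_one, one_smul, add_comm]
      rw [T_inv] at h1 h3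
      calc (T u (1 : ZMod 2) * T w 1) ^ 3
          = (T u 1 * T w 1 * T u 1) * (T w 1 * T u 1 * T w 1) := by
            simp only [pow_succ, pow_zero, one_mul, mul_assoc]
        _ = 1 := by rw [h1, h3, T_sq]
  · obtain ⟨i⟩ : Nonempty (Fin n) := ⟨⟨0, by omega⟩⟩
    obtain ⟨w₀, hw₀def⟩ : ∃ w₀ : Fin n ⊕ Fin n → ZMod 2, w₀ = Pi.single (Sum.inl i) 1 := ⟨_, rfl⟩
    have hw₀ : w₀ ≠ 0 := by
      intro h
      have := congrFun h (Sum.inl i)
      rw [hw₀def] at this
      simp at this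
    refine ⟨T w₀ 1, (mem_iff _).mpr ⟨w₀, hw₀, rfl⟩, ?_⟩
    ext g
    show ((g : Matrix (Fin n ⊕ Fin n) (Fin n ⊕ Fin n) (ZMod 2)) - 1).rank = 1 ↔ IsConj (T w₀ 1) g
    rw [mem_iff, isConj_iff]
    constructor
    · rintro ⟨w, hw, rfl⟩
      obtain ⟨c, -, hc⟩ := exists_mem_mulVec_eq hw₀ hw
      exact ⟨c, by rw [conj_T, hc]⟩
    · rintro ⟨c, rfl⟩
      refine ⟨(c : Matrix (Fin n ⊕ Fin n) (Fin n ⊕ Fin n) (ZMod 2)) *ᵥ w₀, ?_, conj_T c w₀ 1⟩
      intro h0
      apply hw₀
      have := coe_inv_mulVec_eq c h0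
      rw [Matrix.mulVec_zero] at this
      exact this.symm
  · have hgen := transvectionSubgroup_eq_top n (ZMod 2)
    unfold transvectionSubgroup at hgen
    rw [eq_top_iff, ← hgen, Subgroup.closure_le]
    rintro A ⟨w, c, hA⟩
    have hAT : A = T w c := Subtype.ext hA
    rw [hAT]
    rcases h01 c with rfl | rfl
    · rw [T_zero_right]; exact Subgroup.one_mem _
    · by_cases hw : w = 0
      · rw [hw, T_zero_left]; exact Subgroup.one_mem _
      · exact Subgroup.subset_closure ((mem_iff _).mpr ⟨w, hw, rfl⟩)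

end Cfsg.Agent.S0440
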