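import Cfsg.Statements.S0441
import Cfsg.Agent.Lead.ThreeTransR2

set_option autoImplicit false
open Cfsg

namespace Cfsg.Agent.S0441

/-- Fischer's rank-three property. Let a finite group be generated by a conjugacy class D of 3-transpositions, with non-abelian simple commutator subgroup. Then for a in D there are members of D other than a commuting with a and members not commuting with a, and the centraliser of a acts transitively on each of these two sets. -/
theorem result {G : Type*} [Group G] [Finite G] {D : Set G} (hD : Cfsg.IsThreeTranspositionClass D) (hsimple : IsSimpleGroup (commutator G)) (hnonab : ∃ x y : commutator G, x * y ≠ y * x) {a : G} (ha : a ∈ D) : (∃ b ∈ D, b ≠ a ∧ Commute a b) ∧ (∃ c ∈ D, ¬ Commute a c) ∧ (∀ b ∈ D, ∀ b' ∈ D, b ≠ a → b' ≠ a → Commute a b → Commute a b' → ∃ g : G, Commute g a ∧ g * b * g⁻¹ = b') ∧ (∀ c ∈ D, ∀ c' ∈ D, ¬ Commute a c → ¬ Commute a c' → ∃ g : G, Commute g a ∧ g * c * g⁻¹ = c') := by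
  have hDg := Cfsg.Agent.Lead.TTF.group_of_class hD
  have hT := Cfsg.Agent.Lead.TTW.tt3_of_class hD
  have hc : ¬ ∀ x y : ↥(commutator G), x * y = y * x := by
    intro h
    obtain ⟨x, y, hxy⟩ := hnonab
    exact hxy (h x y)
  have hnsolG : ¬ Group.IsSolvable G := by
    intro hs
    haveI := hs
    haveI := hsimple
    have hs' : Group.IsSolvable ↥(commutator G) := inferInstance
    exact hc (IsSimpleGroup.comm_iff_isSolvable.mpr hs')
  have hw : ∃ a ∈ D, ∃ b ∈ D, a ≠ b ∧ Commute a b := by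
    by_contra hcon
    push Not at hcon
    apply hnsolG
    apply Cfsg.Agent.Lead.TTR.isSolvable_of_width_one hDg ha
    intro x hx y hy hxy
    by_contra hne
    exact hcon x hx y hy hne hxy
  have hD2 : ∃ a ∈ D, ∃ b ∈ D, a ≠ b := by
    obtain ⟨x, hx, y, hy, hne, -⟩ := hw
    exact ⟨x, hx, y, hy, hne⟩
  have hprim := Cfsg.Agent.Lead.TTR.primitive_of_simple_nonab hD hD2 hsimple hc
  refine ⟨?_, Cfsg.Agent.Lead.TTM.exists_not_commute hDg hprim ha, ?_, ?_⟩
  · obtain ⟨x, hx, y, hy, hne, hxy⟩ := hw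
    obtain ⟨g, hg⟩ := hprim.1 x hx a ha
    refine ⟨g * y * g⁻¹, hT.conj g y hy, ?_, ?_⟩
    · intro h
      rw [← hg] at h
      exact hne (mul_left_cancel (mul_right_cancel h)).symm
    · rw [← hg]
      exact (Commute.conj_iff g).mpr hxy
  · intro b hb b' hb' hba hb'a hab hab'
    obtain ⟨g, hg, hgb⟩ := Cfsg.Agent.Lead.TTR.transitive_Da hDg hprim hw ha b ⟨hb, hba, hab⟩
      b' ⟨hb', hb'a, hab'⟩
    refine ⟨g, ?_, hgb⟩
    have hle : Subgroup.closure {y : G | y ∈ D ∧ y ≠ a ∧ Commute a y} ≤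
        Subgroup.centralizer {a} := by
      rw [Subgroup.closure_le]
      intro y hy
      rw [SetLike.mem_coe, Subgroup.mem_centralizer_iff]
      intro z hz
      rw [Set.mem_singleton_iff] at hz
      subst hz
      exact hy.2.2.eq
    have h1 := hle hg
    rw [Subgroup.mem_centralizer_iff] at h1
    exact (h1 a rfl).symm
  · intro c hc' c' hc'' hac hac'
    obtain ⟨h, hh, hhc⟩ := Cfsg.Agent.Lead.TTM.transitive hT hprim hw ha hc' hc'' hac hac'
    exact ⟨h, Cfsg.Agent.Lead.TTM.Hd_commute hh, hhc⟩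

end Cfsg.Agent.S0441
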