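import Cfsg.Statements.S0442
import Mathlib

set_option autoImplicit false
open Cfsg

namespace Cfsg.Agent.S0442

/-- if `a` is an involution and `b` is an involution then `a` inverts powers of `a*b`. -/
theorem invol_conj_pow {G : Type*} [Group G] {a b : G} (ha : a * a = 1) (hb : b * b = 1) (k : ℕ) :
    a * (a * b) ^ k * a = ((a * b) ^ k)⁻¹ := by
  have hai : a⁻¹ = a := inv_eq_of_mul_eq_one_left ha
  have hbi : b⁻¹ = b := inv_eq_of_mul_eq_one_left hb
  have h1 : a * (a * b) * a = (a * b)⁻¹ := by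
    rw [mul_inv_rev, hai, hbi]
    calc a * (a * b) * a = (a * a) * b * a := by simp only [mul_assoc]
      _ = b * a := by rw [ha, one_mul]
  have h2 : a * (a * b) ^ k * a⁻¹ = (a * (a * b) * a⁻¹) ^ k := (conj_pow).symm
  rw [hai] at h2
  rw [h2, h1, _root_.inv_pow]

/-- A standard trick for producing elements of an involution centraliser: for an involution a and an element g, let b be the conjugate g⁻¹ * a * g. If a * b has odd order 2m + 1 then g * (a * b) ^ m commutes with a; if a * b has even order 2m then (a * b) ^ m and (a * (g * a * g⁻¹)) ^ m commute with a. -/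
theorem result {G : Type*} [Group G] (a g : G) (ha : orderOf a = 2) : (∀ m : ℕ, orderOf (a * (g⁻¹ * a * g)) = 2 * m + 1 → Commute (g * (a * (g⁻¹ * a * g)) ^ m) a) ∧ (∀ m : ℕ, orderOf (a * (g⁻¹ * a * g)) = 2 * m → Commute ((a * (g⁻¹ * a * g)) ^ m) a ∧ Commute ((a * (g * a * g⁻¹)) ^ m) a) := by
  have ha2 : a * a = 1 := by
    have := pow_orderOf_eq_one a
    rwa [ha, pow_two] at this
  have hai : a⁻¹ = a := inv_eq_of_mul_eq_one_left ha2
  have hb2 : (g⁻¹ * a * g) * (g⁻¹ * a * g) = 1 := by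
    calc (g⁻¹ * a * g) * (g⁻¹ * a * g) = g⁻¹ * (a * ((g * g⁻¹) * a)) * g := by
          simp only [mul_assoc]
      _ = 1 := by rw [mul_inv_cancel, one_mul, ha2, mul_one, inv_mul_cancel]
  have hb2' : (g * a * g⁻¹) * (g * a * g⁻¹) = 1 := by
    calc (g * a * g⁻¹) * (g * a * g⁻¹) = g * (a * ((g⁻¹ * g) * a)) * g⁻¹ := by
          simp only [mul_assoc]
      _ = 1 := by rw [inv_mul_cancel, one_mul, ha2, mul_one, mul_inv_cancel]
  refine ⟨?_, ?_⟩
  · intro m hm
    set b := g⁻¹ * a * g with hb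
    set u := a * b with hu
    have hu1 : u ^ (2 * m + 1) = 1 := by rw [← hm]; exact pow_orderOf_eq_one u
    -- u^m * a * u^(-m) = b
    have hinv : a * u ^ m * a = (u ^ m)⁻¹ := invol_conj_pow ha2 hb2 m
    have h1 : u ^ m * a * (u ^ m)⁻¹ = b := by
      have e1 : a * (u ^ m)⁻¹ = u ^ m * a := by
        rw [← hinv]
        calc a * (a * u ^ m * a) = (a * a) * u ^ m * a := by simp only [mul_assoc]
          _ = u ^ m * a := by rw [ha2, one_mul]
      have e2 : u ^ m * u ^ m = u⁻¹ := by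
        have : u ^ m * u ^ m * u = 1 := by
          rw [← pow_add, ← pow_succ]
          have : m + m + 1 = 2 * m + 1 := by ring
          rw [this]; exact hu1
        exact eq_inv_of_mul_eq_one_left this
      calc u ^ m * a * (u ^ m)⁻¹ = u ^ m * (a * (u ^ m)⁻¹) := by rw [mul_assoc]
        _ = u ^ m * (u ^ m * a) := by rw [e1]
        _ = (u ^ m * u ^ m) * a := by rw [mul_assoc]
        _ = u⁻¹ * a := by rw [e2]
        _ = b := by
          rw [hu, mul_inv_rev, hai]
          have hbi : b⁻¹ = b := inv_eq_of_mul_eq_one_left hb2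
          rw [hbi, mul_assoc, ha2, mul_one]
    -- now g u^m a = a g u^m
    show (g * u ^ m) * a = a * (g * u ^ m)
    have h2 : u ^ m * a = b * u ^ m := by
      rw [← h1]; simp only [mul_assoc, inv_mul_cancel, mul_one]
    calc (g * u ^ m) * a = g * (u ^ m * a) := by rw [mul_assoc]
      _ = g * (b * u ^ m) := by rw [h2]
      _ = g * (g⁻¹ * a * g * u ^ m) := by rw [hb]
      _ = (g * g⁻¹) * a * (g * u ^ m) := by simp only [mul_assoc]
      _ = a * (g * u ^ m) := by rw [mul_inv_cancel, one_mul]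
  · intro m hm
    have key : ∀ (b : G), b * b = 1 → (a * b) ^ (2 * m) = 1 → Commute ((a * b) ^ m) a := by
      intro b hb2 hu1
      have hinv : a * (a * b) ^ m * a = ((a * b) ^ m)⁻¹ := invol_conj_pow ha2 hb2 m
      have e2 : ((a * b) ^ m)⁻¹ = (a * b) ^ m := by
        apply inv_eq_of_mul_eq_one_left
        rw [← pow_add]
        have : m + m = 2 * m := by ring
        rw [this]; exact hu1
      rw [e2] at hinv
      show (a * b) ^ m * a = a * (a * b) ^ m
      calc (a * b) ^ m * a = (a * a) * ((a * b) ^ m * a) := by rw [ha2, one_mul]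
        _ = a * (a * (a * b) ^ m * a) := by simp only [mul_assoc]
        _ = a * (a * b) ^ m := by rw [hinv]
    have hu1 : (a * (g⁻¹ * a * g)) ^ (2 * m) = 1 := by
      rw [← hm]; exact pow_orderOf_eq_one _
    refine ⟨key _ hb2 hu1, key _ hb2' ?_⟩
    -- a * (g a g⁻¹) = (g * (a * (g⁻¹ a g)) * g⁻¹)⁻¹
    have e : a * (g * a * g⁻¹) = (g * (a * (g⁻¹ * a * g)) * g⁻¹)⁻¹ := by
      apply eq_inv_of_mul_eq_one_right
      calc (g * (a * (g⁻¹ * a * g)) * g⁻¹) * (a * (g * a * g⁻¹))
          = g * (a * (g⁻¹ * (a * ((g * g⁻¹) * a) * (g * (a * g⁻¹))))) := by simp only [mul_assoc]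
        _ = g * (a * (g⁻¹ * ((a * a) * (g * (a * g⁻¹))))) := by rw [mul_inv_cancel, one_mul]
        _ = g * (a * ((g⁻¹ * g) * (a * g⁻¹))) := by rw [ha2, one_mul]; simp only [mul_assoc]
        _ = g * ((a * a) * g⁻¹) := by rw [inv_mul_cancel, one_mul]; simp only [mul_assoc]
        _ = 1 := by rw [ha2, one_mul, mul_inv_cancel]
    rw [e, _root_.inv_pow, conj_pow, hu1]
    simp
end Cfsg.Agent.S0442
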