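import Cfsg.Statements.S0443
import Mathlib

set_option autoImplicit false
open Cfsg

namespace Cfsg.Agent.S0443

/-- if a Sylow 2-subgroup centralizes the involution `t` then it contains `t`. -/
theorem mem_sylow_of_le_centralizer {G : Type*} [Group G] [Finite G] {t : G} (ht : orderOf t = 2)
    (P : Sylow 2 G) (hP : (P : Subgroup G) ≤ Subgroup.centralizer ({t} : Set G)) : t ∈ (P : Subgroup G) := by
  have h2 : IsPGroup 2 (Subgroup.zpowers t) := by
    rw [IsPGroup.iff_card]
    refine ⟨1, ?_⟩
    rw [Nat.card_zpowers, ht, pow_one]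
  have hnorm : Subgroup.zpowers t ≤ Subgroup.normalizer ((P : Subgroup G) : Set G) := by
    rw [Subgroup.zpowers_le]
    rw [Subgroup.mem_normalizer_iff]
    intro h
    have key : ∀ x ∈ (P : Subgroup G), t * x * t⁻¹ = x := by
      intro x hx
      have := Subgroup.mem_centralizer_iff.1 (hP hx) t (Set.mem_singleton t)
      -- this : t * x = x * t
      rw [this, mul_assoc, mul_inv_cancel, mul_one]
    constructor
    · intro hh; rw [key h hh]; exact hh
    · intro hh
      have h3 : t⁻¹ * (t * h * t⁻¹) * t ∈ (P : Subgroup G) := by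
        have hc := hP hh
        have e1 := Subgroup.mem_centralizer_iff.1 hc t (Set.mem_singleton t)
        -- t * (t h t⁻¹) = (t h t⁻¹) * t
        have : t⁻¹ * (t * h * t⁻¹) * t = t * h * t⁻¹ := by
          rw [mul_assoc, ← e1, ← mul_assoc, inv_mul_cancel, one_mul]
        rw [this]; exact hh
      have h4 : t⁻¹ * (t * h * t⁻¹) * t = h := by group
      rwa [h4] at h3
  have hsup : IsPGroup 2 (Subgroup.zpowers t ⊔ (P : Subgroup G) : Subgroup G) :=
    IsPGroup.to_sup_of_normal_right' h2 P.isPGroup' hnorm
  have heq := P.is_maximal' hsup le_sup_right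
  have : t ∈ (Subgroup.zpowers t ⊔ (P : Subgroup G) : Subgroup G) :=
    Subgroup.mem_sup_left (Subgroup.mem_zpowers t)
  rwa [heq] at this

/-- Two definitions of a 2-central involution agree: an element t of order 2 of a finite group lies in the centre of some Sylow 2-subgroup if and only if its centraliser contains some Sylow 2-subgroup. -/
theorem result {G : Type*} [Group G] [Finite G] (t : G) (ht : orderOf t = 2) : Cfsg.IsTwoCentralInvolution t ↔ ∃ P : Sylow 2 G, (P : Subgroup G) ≤ Subgroup.centralizer ({t} : Set G) := by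
  constructor
  · rintro ⟨_, P, htP, hcomm⟩
    refine ⟨P, ?_⟩
    intro x hx
    rw [Subgroup.mem_centralizer_iff]
    intro h hh
    rw [Set.mem_singleton_iff] at hh
    subst hh
    exact (hcomm x hx).symm
  · rintro ⟨P, hP⟩
    refine ⟨ht, P, mem_sylow_of_le_centralizer ht P hP, ?_⟩
    intro x hx
    have := Subgroup.mem_centralizer_iff.1 (hP hx) t (Set.mem_singleton t)
    exact this.symm

end Cfsg.Agent.S0443
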