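import Cfsg.Statements.S0444
import Cfsg.Agent.Helper9.Invol
import Cfsg.Agent.Helper9.S3

set_option autoImplicit false
open Cfsg

namespace Cfsg.Agent.S0444

open Cfsg.Agent.Helper9

/-- Two members of a set of 3-transpositions which do not commute generate a subgroup isomorphic to the symmetric group on three letters. -/
theorem result {G : Type*} [Group G] {E : Set G} (hE : Cfsg.IsThreeTranspositionSet E) {d e : G} (hd : d ∈ E) (he : e ∈ E) (h : ¬ Commute d e) : Nonempty (Subgroup.closure ({d, e} : Set G) ≃* Equiv.Perm (Fin 3)) := by
  have hd2 := mul_self_of_orderOf_two (hE.1 d hd)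
  have he2 := mul_self_of_orderOf_two (hE.1 e he)
  have hbr : d * e * d = e * d * e := by
    rcases commute_or_braid hE hd he with h' | h'
    · exact absurd h' h
    · exact h'
  have hd1 : d ≠ 1 := by
    intro h1
    apply h
    rw [h1]
    exact Commute.one_left e
  have hde : d ≠ e := by
    intro h1
    apply h
    rw [h1]
  exact closure_pair_equiv_perm3 d e hd2 he2 hbr hd1 hde

end Cfsg.Agent.S0444
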