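import Cfsg.Statements.S0460
import Cfsg.Agent.Helper5.ONIso
import Cfsg.Agent.Helper9.ONS.J1Main
import Cfsg.Agent.Helper9.ONS.M11Main

set_option autoImplicit false
open Cfsg

namespace Cfsg.Agent.S0460

/-- The O'Nan group exists as a transitive permutation group of degree 122760: simple of order 460815505920, point stabiliser of order 3753792, and containing simple subgroups of orders 175560 and 7920. -/
theorem result : ∃ H : Subgroup (Equiv.Perm (Fin 122760)), Cfsg.IsON H ∧ MulAction.IsPretransitive H (Fin 122760) ∧ Nat.card (MulAction.stabilizer H (0 : Fin 122760)) = 3753792 ∧ (∃ K : Subgroup H, Cfsg.IsJ1 K) ∧ (∃ K : Subgroup H, Cfsg.IsM11 K) := by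
  have hON : IsON Spor.ON := Cfsg.Agent.Helper5.ONLP.spor_is
  have hs : IsSimpleGroup ↥Cfsg.Agent.Helper9.ON.ONP := by
    have := hON.1
    have e : Spor.ON ≃* ↥Cfsg.Agent.Helper9.ON.ONP :=
      MonoidHom.ofInjective (Cfsg.Agent.Helper9.ON.phi_injective hON.1)
    exact e.symm.isSimpleGroup_congr.2 hON.1
  exact ⟨Cfsg.Agent.Helper9.ON.ONP, ⟨hs, Cfsg.Agent.Helper9.ON.card_ONP hON⟩,
    Cfsg.Agent.Helper9.ON.pretransitive, Cfsg.Agent.Helper9.ON.card_stab hON,
    Cfsg.Agent.Helper9.ONS.J1D.exists_J1, Cfsg.Agent.Helper9.ONS.M11D.exists_M11⟩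

end Cfsg.Agent.S0460
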