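import Cfsg.Statements.S0473
import Cfsg.Agent.Helper5.Fi24TT
import Cfsg.Agent.Helper5.Fi24He

set_option autoImplicit false
open Cfsg

namespace Cfsg.Agent.S0473

open Cfsg.Agent.Helper5

/-- transfer of simplicity and order along an isomorphism. -/
theorem simple_card_congr {A B : Type*} [Group A] [Group B] (e : A ≃* B) {n : ℕ}
    (h : IsSimpleGroup A ∧ Nat.card A = n) : IsSimpleGroup B ∧ Nat.card B = n := by
  have := h.1
  exact ⟨e.symm.isSimpleGroup, by rw [← Nat.card_congr e.toEquiv]; exact h.2⟩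


/-- The largest Fischer 3-transposition group: a group of order 2 · 1255205709190661721292800 generated by a conjugacy class of 306936 3-transpositions, in which a transposition centraliser has order 2 · 4089470473293004800 and contains a simple subgroup of order 4089470473293004800; its subgroup of index 2 is simple and contains simple subgroups of orders 4089470473293004800 and 4030387200. -/
theorem result : ∃ (G : Type) (_ : Group G) (_ : Finite G), Nat.card G = 2 * 1255205709190661721292800 ∧ ∃ D : Set G, Cfsg.IsThreeTranspositionClass D ∧ Nat.card D = 306936 ∧ (∀ d ∈ D, Nat.card (Subgroup.centralizer ({d} : Set G)) = 2 * 4089470473293004800 ∧ ∃ K : Subgroup G, K ≤ Subgroup.centralizer ({d} : Set G) ∧ Cfsg.IsFi23 K) ∧ ∃ H : Subgroup G, H.index = 2 ∧ Cfsg.IsFi24' H ∧ (∃ K : Subgroup H, Cfsg.IsFi23 K) ∧ (∃ K : Subgroup H, Cfsg.IsHe K) := by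
  classical
  refine ⟨Fi24LP.G12, inferInstance, Fi24LP.finG, ?_, conjugatesOf Fi24LP.d0, Fi24LP.tt_class.1,
    Fi24LP.tt_class.2, ?_, Fi24LP.sgn.ker, Fi24LP.index_ker, ⟨Fi24LP.simple_ker, Fi24LP.card_ker⟩, ?_, ?_⟩
  · rw [Fi24LP.cardG]
  · intro d hd
    obtain ⟨c, rfl⟩ := isConj_iff.mp hd
    obtain ⟨e3⟩ := LP.centralizer_conj_equiv Fi24LP.d0 c
    refine ⟨?_, Fi24LP.K23.map (MulAut.conj c).toMonoidHom, ?_, ?_⟩
    · rw [← Nat.card_congr e3.toEquiv]
      exact Fi24LP.card_cent_d0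
    · rintro x ⟨y, hy, rfl⟩
      have hy' := Fi24LP.K23_le hy
      rw [Subgroup.mem_centralizer_iff] at hy' ⊢
      intro w hw
      rw [Set.mem_singleton_iff.mp hw]
      have h1 := hy' Fi24LP.d0 (Set.mem_singleton _)
      show c * Fi24LP.d0 * c⁻¹ * (c * y * c⁻¹) = c * y * c⁻¹ * (c * Fi24LP.d0 * c⁻¹)
      calc c * Fi24LP.d0 * c⁻¹ * (c * y * c⁻¹) = c * (Fi24LP.d0 * y) * c⁻¹ := by group
        _ = c * (y * Fi24LP.d0) * c⁻¹ := by rw [h1]
        _ = c * y * c⁻¹ * (c * Fi24LP.d0 * c⁻¹) := by group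
    · exact simple_card_congr (Fi24LP.K23.equivMapOfInjective (MulAut.conj c).toMonoidHom
        (MulAut.conj c).injective) Fi24LP.isFi23_K23
  · have hs : IsSimpleGroup Fi24LP.K23 := Fi24LP.isFi23_K23.1
    have hle : Fi24LP.K23 ≤ Fi24LP.sgn.ker :=
      LP.simple_le_ker Fi24LP.sgn Fi24LP.K23 (by rw [Fi24LP.isFi23_K23.2]; norm_num)
    exact ⟨Fi24LP.K23.subgroupOf Fi24LP.sgn.ker,
      simple_card_congr (Subgroup.subgroupOfEquivOfLe hle).symm Fi24LP.isFi23_K23⟩
  · obtain ⟨K, hK⟩ := Fi24He.exists_he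
    have hs : IsSimpleGroup K := hK.1
    have hle : K ≤ Fi24LP.sgn.ker :=
      LP.simple_le_ker Fi24LP.sgn K (by rw [hK.2]; norm_num)
    exact ⟨K.subgroupOf Fi24LP.sgn.ker,
      simple_card_congr (Subgroup.subgroupOfEquivOfLe hle).symm hK⟩

end Cfsg.Agent.S0473
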