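import Cfsg.Statements.S0481
import Cfsg.Agent.S0443

set_option autoImplicit false
open Cfsg

namespace Cfsg.Agent.S0481

/-- Large extraspecial subgroups: let z be an involution of a finite group G whose centraliser C contains a normal 2-subgroup Q with centre of order 2 and all squares central, such that every element of G centralising Q lies in Q. Then C contains a Sylow 2-subgroup of G, and any involution of G whose centraliser contains a Sylow 2-subgroup of G is conjugate to z. -/
theorem result {G : Type*} [Group G] [Finite G] (z : G) (hz : orderOf z = 2) (Q : Subgroup G) (hQC : Q ≤ Subgroup.centralizer ({z} : Set G)) (hQn : ∀ g ∈ Subgroup.centralizer ({z} : Set G), ∀ q ∈ Q, g * q * g⁻¹ ∈ Q) (hQ2 : IsPGroup 2 Q) (hZ : Nat.card (Subgroup.center Q) = 2) (hsq : ∀ x : Q, x ^ 2 ∈ Subgroup.center Q) (hlarge : Subgroup.centralizer (Q : Set G) ≤ Q) : (∃ P : Sylow 2 G, (P : Subgroup G) ≤ Subgroup.centralizer ({z} : Set G)) ∧ ∀ u : G, orderOf u = 2 → (∃ P : Sylow 2 G, (P : Subgroup G) ≤ Subgroup.centralizer ({u} : Set G))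 → IsConj z u := by
  haveI : Fact (Nat.Prime 2) := ⟨Nat.prime_two⟩
  have hz1 : z ≠ 1 := by
    intro h; rw [h, orderOf_one] at hz; omega
  -- z commutes with Q
  have hzq : ∀ q ∈ Q, q * z = z * q := by
    intro q hq
    have := Subgroup.mem_centralizer_iff.1 (hQC hq) z (Set.mem_singleton z)
    exact this.symm
  have hzQ : z ∈ Q := by
    apply hlarge
    rw [Subgroup.mem_centralizer_iff]
    intro q hq
    exact hzq q hq
  -- the element z of the centre of Q
  have hzc : (⟨z, hzQ⟩ : Q) ∈ Subgroup.center Q := by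
    rw [Subgroup.mem_center_iff]
    rintro ⟨q, hq⟩
    apply Subtype.ext
    exact hzq q hq
  obtain ⟨y0, hy0, hy0u⟩ := (Nat.card_eq_two_iff' (1 : Subgroup.center Q)).1 hZ
  have hcen : ∀ x : G, (∀ q ∈ Q, q * x = x * q) → x = 1 ∨ x = z := by
    intro x hx
    have hxQ : x ∈ Q := by
      apply hlarge
      rw [Subgroup.mem_centralizer_iff]
      intro q hq
      exact hx q hq
    have hxc : (⟨x, hxQ⟩ : Q) ∈ Subgroup.center Q := by
      rw [Subgroup.mem_center_iff]
      rintro ⟨q, hq⟩
      apply Subtype.ext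
      exact hx q hq
    by_cases h1 : x = 1
    · exact Or.inl h1
    · right
      have e1 : (⟨⟨x, hxQ⟩, hxc⟩ : Subgroup.center Q) = y0 := by
        apply hy0u
        intro h
        apply h1
        have := congrArg (fun t : Subgroup.center Q => ((t : Q) : G)) h
        simpa using this
      have e2 : (⟨⟨z, hzQ⟩, hzc⟩ : Subgroup.center Q) = y0 := by
        apply hy0u
        intro h
        apply hz1
        have := congrArg (fun t : Subgroup.center Q => ((t : Q) : G)) h
        simpa using this
      have := e1.trans e2.symm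
      have := congrArg (fun t : Subgroup.center Q => ((t : Q) : G)) this
      simpa using this
  -- a Sylow 2-subgroup containing Q
  obtain ⟨P, hQP⟩ := hQ2.exists_le_sylow
  have hzP : z ∈ (P : Subgroup G) := hQP hzQ
  -- central elements of P are 1 or z
  have hcenP : ∀ x ∈ (P : Subgroup G), (∀ y ∈ (P : Subgroup G), y * x = x * y) → x = 1 ∨ x = z := by
    intro x _ hx
    exact hcen x (fun q hq => hx q (hQP hq))
  -- z is central in P
  have hzcenP : ∀ y ∈ (P : Subgroup G), y * z = z * y := by
    haveI hnt : Nontrivial (P : Subgroup G) := by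
      refine ⟨⟨⟨z, hzP⟩, 1, ?_⟩⟩
      intro h
      apply hz1
      have := congrArg Subtype.val h
      simpa using this
    have hPp : IsPGroup 2 (P : Subgroup G) := P.isPGroup'
    haveI hcn : Nontrivial (Subgroup.center (P : Subgroup G)) := hPp.center_nontrivial
    obtain ⟨c, hc⟩ := exists_ne (1 : Subgroup.center (P : Subgroup G))
    have hc1 : ((c : (P : Subgroup G)) : G) ≠ 1 := by
      intro h
      apply hc
      apply Subtype.ext
      apply Subtype.ext
      simpa using h
    have hcc : ∀ y ∈ (P : Subgroup G), y * ((c : (P : Subgroup G)) : G) = ((c : (P : Subgroup G)) : G) * y := by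
      intro y hy
      have := Subgroup.mem_center_iff.1 c.2 ⟨y, hy⟩
      have := congrArg Subtype.val this
      simpa using this
    rcases hcenP _ (c : (P : Subgroup G)).2 hcc with h | h
    · exact absurd h hc1
    · rw [← h]; exact hcc
  have hPC : (P : Subgroup G) ≤ Subgroup.centralizer ({z} : Set G) := by
    intro y hy
    rw [Subgroup.mem_centralizer_iff]
    intro t ht
    rw [Set.mem_singleton_iff] at ht
    subst ht
    exact (hzcenP y hy).symm
  refine ⟨⟨P, hPC⟩, ?_⟩
  rintro u hu ⟨P', hP'⟩
  have hu1 : u ≠ 1 := by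
    intro h; rw [h, orderOf_one] at hu; omega
  have huP' : u ∈ (P' : Subgroup G) := Cfsg.Agent.S0443.mem_sylow_of_le_centralizer hu P' hP'
  obtain ⟨g, hg⟩ := MulAction.exists_smul_eq G P P'
  have hmem : ∀ x : G, x ∈ (P' : Subgroup G) ↔ g⁻¹ * x * g ∈ (P : Subgroup G) := by
    intro x
    rw [← hg, Sylow.coe_subgroup_smul, Subgroup.mem_pointwise_smul_iff_inv_smul_mem]
    rw [MulAut.smul_def, ← map_inv, MulAut.conj_apply, inv_inv]
  -- g⁻¹ u g is central in P
  have hw : g⁻¹ * u * g ∈ (P : Subgroup G) := (hmem u).1 huP'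
  have hwc : ∀ y ∈ (P : Subgroup G), y * (g⁻¹ * u * g) = (g⁻¹ * u * g) * y := by
    intro y hy
    have hy' : g * y * g⁻¹ ∈ (P' : Subgroup G) := by
      rw [hmem]
      have : g⁻¹ * (g * y * g⁻¹) * g = y := by group
      rw [this]; exact hy
    have := Subgroup.mem_centralizer_iff.1 (hP' hy') u (Set.mem_singleton u)
    -- this : u * (g y g⁻¹) = (g y g⁻¹) * u
    calc y * (g⁻¹ * u * g) = g⁻¹ * ((g * y * g⁻¹) * u) * g := by group
      _ = g⁻¹ * (u * (g * y * g⁻¹)) * g := by rw [this]
      _ = (g⁻¹ * u * g) * y := by group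
  rcases hcenP _ hw hwc with h | h
  · exfalso
    apply hu1
    have : u = g * (g⁻¹ * u * g) * g⁻¹ := by group
    rw [this, h]; group
  · rw [isConj_iff]
    refine ⟨g, ?_⟩
    rw [← h]; group

end Cfsg.Agent.S0481
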