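import Mathlib
import Cfsg.Statements.S0505
import Cfsg.Agent.Helper2.PConstrained
import Cfsg.Agent.Helper2.CharPLocal2

set_option autoImplicit false
open Cfsg

namespace Cfsg.Agent.S0505

open Cfsg.Agent.Helper2

/-- Let G be a finite group of even order in which the centralizer of every involution is solvable and has trivial
core (no nontrivial normal subgroup of odd order). Then G is of characteristic 2 type. -/
theorem result {G : Type*} [Group G] [Finite G]
    (h2 : Even (Nat.card G))
    (hs : ∀ t : G, orderOf t = 2 → Group.IsSolvable (Subgroup.centralizer ({t} : Set G)))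
    (hc : ∀ t : G, orderOf t = 2 → Cfsg.oddCore (Subgroup.centralizer ({t} : Set G)) = ⊥) :
    Cfsg.IsCharacteristicTwoType G := by
  have : Fact (Nat.Prime 2) := ⟨Nat.prime_two⟩
  have hchar : ∀ t : G, orderOf t = 2 →
      Cfsg.Agent.Helper5.HasCharP 2 ↥(Subgroup.centralizer ({t} : Set G)) := by
    intro t ht
    have hO : Cfsg.pPrimeCore 2 ↥(Subgroup.centralizer ({t} : Set G)) = ⊥ := hc t ht
    have hE : Cfsg.layer ↥(Subgroup.centralizer ({t} : Set G)) = ⊥ := by
      unfold Cfsg.layer
      rw [eq_bot_iff]
      apply sSup_le
      intro K hK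
      exfalso
      have := hs t ht
      apply component_not_solvable hK
      infer_instance
    exact hasCharP_of_layer_eq_bot 2 hO hE
  exact ⟨h2, fun T hT hT1 => hasCharP_normalizer_of_centralizers hchar T hT hT1⟩

end Cfsg.Agent.S0505
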