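import Mathlib
import Cfsg.Statements.S0522
import Cfsg.Agent.Helper2.TransD
import Cfsg.Agent.Helper2.PConstrained5
import Cfsg.Agent.Helper4.SolvPSolv
import Cfsg.Agent.Helper2.Conj

set_option autoImplicit false
open Cfsg

namespace Cfsg.Agent.S0522

open Cfsg.Agent.Helper2

/-- Transitivity Theorem (odd-order setting). Let X be a finite group of odd order in which the normalizer of every
nontrivial p-subgroup is solvable, P a Sylow p-subgroup, and B an abelian subgroup of P, normalized by P, with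
C_P(B) = B and containing an elementary abelian subgroup of order p^3. Then for every prime q ≠ p, any two q-subgroups
that are maximal among the q-subgroups normalized by B are conjugate by an element of the centralizer of B. -/
theorem result {X : Type*} [Group X] [Finite X] (hX : Odd (Nat.card X)) (p : ℕ)
    [Fact p.Prime] (hloc : ∀ T : Subgroup X, IsPGroup p T → T ≠ ⊥ → Group.IsSolvable (Subgroup.normalizer (T : Set X)))
    (P : Sylow p X) (B : Subgroup X) (hBP : B ≤ (P : Subgroup X))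
    (hBn : ∀ x ∈ (P : Subgroup X), ∀ b ∈ B, x * b * x⁻¹ ∈ B) (hBa : IsMulCommutative B)
    (hBc : (P : Subgroup X) ⊓ Subgroup.centralizer (B : Set X) = B)
    (hB3 : ∃ E : Subgroup X, E ≤ B ∧ (∀ e ∈ E, e ^ p = 1) ∧ p ^ 3 ≤ Nat.card E)
    (q : ℕ) [Fact q.Prime] (hqp : q ≠ p) (Q₁ Q₂ : Subgroup X)
    (h₁ : IsPGroup q Q₁ ∧ B ≤ Subgroup.normalizer (Q₁ : Set X) ∧
      ∀ R : Subgroup X, IsPGroup q R → B ≤ Subgroup.normalizer (R : Set X) → Q₁ ≤ R → R = Q₁)
    (h₂ : IsPGroup q Q₂ ∧ B ≤ Subgroup.normalizer (Q₂ : Set X) ∧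
      ∀ R : Subgroup X, IsPGroup q R → B ≤ Subgroup.normalizer (R : Set X) → Q₂ ≤ R → R = Q₂) :
    ∃ c ∈ Subgroup.centralizer (B : Set X), Q₂ = Q₁.map (MulAut.conj c).toMonoidHom := by
  classical
  have hp : p.Prime := Fact.out
  obtain ⟨E₀, hE₀B, hE₀e, hE₀c⟩ := hB3
  have hB : ∀ x ∈ B, ∀ y ∈ B, x * y = y * x := fun x hx y hy =>
    congrArg Subtype.val (hBa.is_comm.comm ⟨x, hx⟩ ⟨y, hy⟩)
  have hBp : IsPGroup p B := P.2.to_le hBP
  -- p is odd
  have hp2 : p ≠ 2 := by
    intro h2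
    obtain ⟨k, hk⟩ := IsPGroup.iff_card.mp hBp
    have h1 : p ^ 3 ≤ p ^ k := by
      rw [← hk]; exact hE₀c.trans (Subgroup.card_le_of_le hE₀B)
    have hk0 : k ≠ 0 := by
      intro h0
      rw [h0, pow_zero] at h1
      have : 2 ^ 3 ≤ p ^ 3 := Nat.pow_le_pow_left hp.two_le 3
      omega
    have hdvd : p ∣ Nat.card X := by
      have h3 : p ∣ Nat.card B := by rw [hk]; exact dvd_pow_self p hk0
      exact h3.trans (Subgroup.card_subgroup_dvd_card B)
    rw [h2] at hdvd
    exact (Nat.not_even_iff_odd.mpr hX) (even_iff_two_dvd.mpr hdvd)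
  have hloc' : ∀ T : Subgroup X, IsPGroup p T → T ≠ ⊥ →
      Cfsg.IsPConstrained p ↥(Subgroup.normalizer (T : Set X)) := by
    intro T hT hT1
    exact (isPConstrained_iff p).mpr (pLayer_eq_bot_of_isPSolvable p
      (Cfsg.Agent.Helper4.SolvPSolv.isPSolvable_of_isSolvable p (hloc T hT hT1)))
  have hE3 : ¬ Cfsg.PRankLE p 2 B := by
    intro h
    have hcomm : IsMulCommutative ↥(E₀.subgroupOf B) :=
      ⟨⟨fun x y => Subtype.ext (Subtype.ext (hB _ x.1.2 _ y.1.2))⟩⟩
    have := h (E₀.subgroupOf B) hcomm (by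
      intro a ha
      apply Subtype.ext
      rw [Subgroup.coe_pow]
      exact hE₀e _ (Subgroup.mem_subgroupOf.mp ha))
    rw [Nat.card_congr (Subgroup.subgroupOfEquivOfLe hE₀B).toEquiv] at this
    have h3 : p ^ 2 < p ^ 3 := Nat.pow_lt_pow_right hp.one_lt (by norm_num)
    omega
  have hEfull : ∀ x ∈ Subgroup.centralizer (B : Set X), IsPGroup p (Subgroup.zpowers x) → x ∈ B := by
    intro x hx hxp
    set N := Subgroup.normalizer (B : Set X) with hN
    have hBN : B ≤ N := Subgroup.le_normalizer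
    have hxN : x ∈ N := Subgroup.centralizer_le_normalizer _ hx
    have hPN : (P : Subgroup X) ≤ N := le_normalizer_of_conj_mem hBn
    have hBnz : B ≤ Subgroup.normalizer ((Subgroup.zpowers x : Subgroup X) : Set X) := by
      intro b hb
      apply Subgroup.centralizer_le_normalizer
      rw [Subgroup.mem_centralizer_iff]
      intro y hy
      obtain ⟨n, rfl⟩ := Subgroup.mem_zpowers_iff.mp hy
      have h1 : Commute b x := Subgroup.mem_centralizer_iff.mp hx b hb
      exact ((h1.zpow_right n).eq).symm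
    set T : Subgroup X := B ⊔ Subgroup.zpowers x with hT
    have hTp : IsPGroup p ↥T := IsPGroup.to_sup_of_normal_right' hBp hxp hBnz
    have hTN : T ≤ N := sup_le hBN (Subgroup.zpowers_le.mpr hxN)
    have hT' : IsPGroup p ↥(T.subgroupOf N) := hTp.comap_subtype
    obtain ⟨c, hcT⟩ := exists_cj_le_sylow (P.subtype hPN) (T.subgroupOf N) hT'
    have hcx : (c : X) * x * (c : X)⁻¹ ∈ (P : Subgroup X) := by
      have hxT : x ∈ T := Subgroup.mem_sup_right (Subgroup.mem_zpowers x)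
      have h1 := (cj_le_iff _ _ c).mp hcT ⟨x, hxN⟩ (Subgroup.mem_subgroupOf.mpr hxT)
      rw [Sylow.coe_subtype] at h1
      exact Subgroup.mem_subgroupOf.mp h1
    have hcN : (c : X) ∈ N := c.2
    have hcxC : (c : X) * x * (c : X)⁻¹ ∈ Subgroup.centralizer (B : Set X) := by
      rw [Subgroup.mem_centralizer_iff]
      intro b hb
      have hb' : (c : X)⁻¹ * b * (c : X) ∈ B := by
        have := (Subgroup.mem_normalizer_iff.mp (Subgroup.inv_mem _ hcN) b).mp hb
        rwa [inv_inv] at this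
      have h1 := Subgroup.mem_centralizer_iff.mp hx _ hb'
      calc b * ((c : X) * x * (c : X)⁻¹) = (c : X) * (((c : X)⁻¹ * b * (c : X)) * x) * (c : X)⁻¹ := by group
        _ = (c : X) * (x * ((c : X)⁻¹ * b * (c : X))) * (c : X)⁻¹ := by rw [h1]
        _ = (c : X) * x * (c : X)⁻¹ * b := by group
    have hcxB : (c : X) * x * (c : X)⁻¹ ∈ B := by
      rw [← hBc]
      exact Subgroup.mem_inf.mpr ⟨hcx, hcxC⟩
    have := (Subgroup.mem_normalizer_iff.mp (Subgroup.inv_mem _ hcN) _).mp hcxB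
    have e : (c : X)⁻¹ * ((c : X) * x * (c : X)⁻¹) * (c : X)⁻¹⁻¹ = x := by group
    rwa [e] at this
  obtain ⟨c, hc, hc'⟩ := Trans.transitivity_aux p hloc' (fun h => absurd h hp2) B hBp hB hE3 hEfull q hqp
    _ Q₁ Q₂ ⟨⟨h₁.1, h₁.2.1⟩, fun R hR hle => h₁.2.2 R hR.1 hR.2 hle⟩
    ⟨⟨h₂.1, h₂.2.1⟩, fun R hR hle => h₂.2.2 R hR.1 hR.2 hle⟩ rfl
  exact ⟨c, Trans.piCoreOf_le _ _ hc, hc'.symm⟩

end Cfsg.Agent.S0522
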