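import Cfsg.Statements.S0547
import Cfsg.Agent.Helper4.SolvablePrimitive

set_option autoImplicit false
open Cfsg

namespace Cfsg.Agent.S0547

/-- Let a finite solvable group G act faithfully and primitively on a set, and let M be a minimal normal subgroup of G. Then M is transitive with trivial point stabilizers, and the number of points equals the order of M, which is a prime power p ^ d with d ≥ 1. -/
theorem result {G : Type*} [Group G] [Finite G] [Group.IsSolvable G] {Ω : Type*} [Nonempty Ω] [MulAction G Ω] [FaithfulSMul G Ω] (hprim : MulAction.IsPreprimitive G Ω) (M : Subgroup G) [M.Normal] (hM : M ≠ ⊥) (hmin : ∀ K : Subgroup G, K.Normal → K ≤ M → K = ⊥ ∨ K = M) : MulAction.IsPretransitive M Ω ∧ (∀ ω : Ω, MulAction.stabilizer M ω = ⊥) ∧ ∃ p d : ℕ, p.Prime ∧ 0 < d ∧ Nat.card Ω = p ^ d ∧ Nat.card M = p ^ d := by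
  haveI := hprim
  haveI hMt : MulAction.IsPretransitive M Ω := Cfsg.Agent.Helper4.normal_isPretransitive M hM
  have hcomm := Cfsg.Agent.Helper4.minNormal_commute_of_solvable M hM hmin
  have hsemi : ∀ m ∈ M, ∀ ω : Ω, m • ω = ω → m = 1 := fun m hm ω hω =>
    Cfsg.Agent.Helper4.eq_one_of_abelian_transitive M hcomm m hm ω hω
  have hstab : ∀ ω : Ω, MulAction.stabilizer M ω = ⊥ := by
    intro ω
    rw [Subgroup.eq_bot_iff_forall]
    intro m hm
    rw [MulAction.mem_stabilizer_iff] at hm
    exact Subtype.ext (hsemi m m.2 ω hm)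
  obtain ⟨p, hp, hexp⟩ :=
    Cfsg.Agent.Helper4.exists_prime_exponent_of_abelian_minNormal M hM hmin hcomm
  haveI : Fact p.Prime := ⟨hp⟩
  have hPG : IsPGroup p M := fun m => ⟨1, by
    rw [pow_one]
    exact Subtype.ext (by simpa using hexp m m.2)⟩
  obtain ⟨d, hd⟩ := IsPGroup.iff_card.mp hPG
  have hd0 : 0 < d := by
    by_contra h0
    have : d = 0 := by omega
    rw [this, pow_zero] at hd
    exact hM (Subgroup.card_eq_one.mp hd)
  have hΩ : Nat.card Ω = Nat.card M := by
    obtain ⟨ω⟩ := ‹Nonempty Ω›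
    have := MulAction.index_stabilizer_of_transitive M ω
    rw [hstab ω, Subgroup.index_bot] at this
    exact this.symm
  exact ⟨hMt, hstab, p, d, hp, hd0, hΩ.trans hd, hd⟩

end Cfsg.Agent.S0547
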