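import Cfsg.Statements.S0548
import Cfsg.Agent.Helper4.SolvablePrimitive
import Cfsg.Agent.Helper1.MinNormal

set_option autoImplicit false
open Cfsg

namespace Cfsg.Agent.S0548

/-- Let a finite solvable group G act faithfully and primitively on a set, let M be a minimal normal subgroup and H the stabilizer of a point. Then H is a complement to M, no non-identity element of H centralizes M, and the only subgroups of M normalized by H are the trivial subgroup and M. -/
theorem result {G : Type*} [Group G] [Finite G] [Group.IsSolvable G] {Ω : Type*} [MulAction G Ω] [FaithfulSMul G Ω] (hprim : MulAction.IsPreprimitive G Ω) (M : Subgroup G) [M.Normal] (hM : M ≠ ⊥) (hmin : ∀ K : Subgroup G, K.Normal → K ≤ M → K = ⊥ ∨ K = M) (ω : Ω) : Subgroup.IsComplement' M (MulAction.stabilizer G ω) ∧ MulAction.stabilizer G ω ⊓ Subgroup.centralizer (M : Set G) = ⊥ ∧ ∀ K : Subgroup G, K ≤ M → MulAction.stabilizer G ω ≤ Subgroup.normalizer (K : Set G) → K = ⊥ ∨ K = M := by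
  haveI := hprim
  haveI hMt : MulAction.IsPretransitive M Ω := Cfsg.Agent.Helper4.normal_isPretransitive M hM
  have hcomm := Cfsg.Agent.Helper4.minNormal_commute_of_solvable M hM hmin
  have hsemi : ∀ m ∈ M, ∀ ω : Ω, m • ω = ω → m = 1 := fun m hm ω hω =>
    Cfsg.Agent.Helper4.eq_one_of_abelian_transitive M hcomm m hm ω hω
  have hinf : MulAction.stabilizer G ω ⊓ M = ⊥ := by
    rw [Subgroup.eq_bot_iff_forall]
    rintro m ⟨hmH, hmM⟩
    exact hsemi m hmM ω hmH
  have hsup : MulAction.stabilizer G ω ⊔ M = ⊤ := by
    rw [eq_top_iff]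
    intro g _
    obtain ⟨m, hm⟩ := MulAction.exists_smul_eq M ω (g • ω)
    have hm' : (m : G) • ω = g • ω := hm
    have h1 : (m : G)⁻¹ * g ∈ MulAction.stabilizer G ω := by
      rw [MulAction.mem_stabilizer_iff, mul_smul, ← hm', inv_smul_smul]
    have : g = (m : G) * ((m : G)⁻¹ * g) := by group
    rw [this]
    exact Subgroup.mul_mem _ (Subgroup.mem_sup_right m.2) (Subgroup.mem_sup_left h1)
  refine ⟨Cfsg.Agent.Helper1.isComplement'_of_sup_inf M _ hsup hinf, ?_, ?_⟩
  · rw [Subgroup.eq_bot_iff_forall]
    rintro c ⟨hcH, hcC⟩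
    exact Cfsg.Agent.Helper4.eq_one_of_commute_transitive M c (fun k hk => (hcC k hk).symm) ω hcH
  · intro K hKM hHK
    have hKn : K.Normal := by
      rw [← Subgroup.normalizer_eq_top_iff, eq_top_iff, ← hsup]
      apply sup_le hHK
      intro m hm
      rw [Subgroup.mem_normalizer_iff]
      intro k
      constructor
      · intro hk
        rw [hcomm m hm k (hKM hk), mul_inv_cancel_right]
        exact hk
      · intro hk
        have hkM : k ∈ M := by
          have := M.mul_mem (M.mul_mem (M.inv_mem hm) (hKM hk)) hm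
          simpa [mul_assoc] using this
        rw [hcomm m hm k hkM, mul_inv_cancel_right] at hk
        exact hk
    exact hmin K hKn hKM

end Cfsg.Agent.S0548
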