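import Cfsg.Statements.S0574
import Cfsg.Agent.Helper1.ScottAB
import Cfsg.Agent.S0564

set_option autoImplicit false
open Cfsg

namespace Cfsg.Agent.S0574

/-- Let the finite group G be the product AB of an abelian subgroup A and a subgroup B of nilpotency class at most two, and let Ω be the number of prime factors, with multiplicity, of the order of the commutator subgroup of B. Then the term of index 2(1 + Ω) of the derived series of G is trivial. -/
theorem result {G : Type*} [Group G] [Finite G] (A B : Subgroup G) [IsMulCommutative A] (hB : commutator ↥B ≤ Subgroup.center ↥B) (hAB : ∀ g : G, ∃ a ∈ A, ∃ b ∈ B, g = a * b) : derivedSeries G (2 * (1 + (Nat.card ↥(commutator ↥B)).primeFactorsList.length)) = ⊥ := by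
  classical
  -- `A` and `B` are nilpotent, so `G` is solvable by Kegel–Wielandt
  have hA' : ∀ a ∈ A, ∀ a' ∈ A, a * a' = a' * a := fun a ha a' ha' =>
    setLike_mul_comm ha ha'
  have hAnil : Group.IsNilpotent A := by
    refine ⟨⟨1, ?_⟩⟩
    rw [Subgroup.upperCentralSeries_one, eq_top_iff]
    intro x _
    rw [Subgroup.mem_center_iff]
    intro y
    exact Subtype.ext (hA' y y.2 x x.2)
  have hBnil : Group.IsNilpotent B := by
    refine ⟨⟨2, ?_⟩⟩
    rw [eq_top_iff]
    intro x _
    rw [Subgroup.mem_upperCentralSeries_succ_iff]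
    intro y
    rw [Subgroup.upperCentralSeries_one]
    apply hB
    rw [commutator_def]
    exact Subgroup.commutator_mem_commutator (Subgroup.mem_top x) (Subgroup.mem_top y)
  haveI : Group.IsSolvable G := Cfsg.Agent.S0564.result A B hAnil hBnil hAB
  have hmap : (commutator ↥B).map B.subtype = ⁅B, B⁆ := Subgroup.map_subtype_commutator B
  have hcent : ∀ x ∈ (⁅B, B⁆ : Subgroup G), ∀ b ∈ B, x * b = b * x := by
    intro x hx b hb
    rw [← hmap] at hx
    obtain ⟨y, hy, rfl⟩ := hx
    have h1 := hB hy
    rw [Subgroup.mem_center_iff] at h1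
    exact (congrArg Subtype.val (h1 ⟨b, hb⟩)).symm
  have hcard : Nat.card (⁅B, B⁆ : Subgroup G) = Nat.card (commutator ↥B) := by
    rw [← hmap, Subgroup.card_map_of_injective B.subtype_injective]
  exact Cfsg.Agent.Helper1.ScottAB.main _ G A B hA' hcent hAB (le_of_eq (by rw [hcard]))

end Cfsg.Agent.S0574
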