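import Mathlib
import Cfsg.Statements.S0633
import Cfsg.Agent.Helper3.ShHHbc
import Cfsg.Agent.Helper3.ShHHgrp
import Cfsg.Agent.Helper1.HallHigmanDual
-- import your own Cfsg.Agent.* helpers here

set_option autoImplicit false
open Cfsg

namespace Cfsg.Agent.S0633

open TensorProduct

set_option maxHeartbeats 2000000 in
/-- Theorem B of Hall and Higman on the minimal polynomial of a p-element of order p^n in a p-solvable linear group on a nonzero vector space in characteristic p with no nontrivial normal p-subgroup: its degree is p^n, except when some p^n₀ - 1 (n₀ ≤ n) is a power of a prime q for which the Sylow q-subgroups are non-abelian, in which case the degree is at least p^(n-n₀)(p^n₀ - 1). -/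
theorem result {F : Type*} [Field F] {p : ℕ} [Fact p.Prime] [CharP F p] {V : Type*} [AddCommGroup V] [Module F V] [FiniteDimensional F V] [Nontrivial V] (H : Subgroup (V ≃ₗ[F] V)) [Finite H] (hsol : Cfsg.IsPSolvable p H) (hOp : Cfsg.pCore p H = ⊥) (x : V ≃ₗ[F] V) (hx : x ∈ H) (n : ℕ) (hn : orderOf x = p ^ n) (r : ℕ) (hr : minpoly F (x : Module.End F V) = (Polynomial.X - 1) ^ r) : r = p ^ n ∨ ∃ n₀ q m : ℕ, 1 ≤ n₀ ∧ n₀ ≤ n ∧ q.Prime ∧ 1 ≤ m ∧ p ^ n₀ - 1 = q ^ m ∧ (∀ Q : Sylow q H, ¬ IsMulCommutative Q) ∧ p ^ (n - n₀) * (p ^ n₀ - 1) ≤ r := by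
  classical
  have hp : p.Prime := Fact.out
  obtain ⟨toE, htoE⟩ : ∃ toE : (V ≃ₗ[F] V) →* Module.End F V,
      ∀ g : V ≃ₗ[F] V, toE g = (g : Module.End F V) :=
    ⟨LinearEquiv.automorphismGroup.toLinearMapMonoidHom, fun g => rfl⟩
  have htoEinj : ∀ g : V ≃ₗ[F] V, toE g = 1 → g = 1 := by
    intro g hg
    rw [htoE] at hg
    apply LinearEquiv.toLinearMap_injective
    exact hg
  haveI : CharP (Module.End F V) p :=
    charP_of_injective_algebraMap (algebraMap F (Module.End F V)).injective p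
  have hxr : ((x : Module.End F V) - 1) ^ r = 0 := by
    have := minpoly.aeval F (x : Module.End F V)
    rw [hr] at this
    simpa using this
  have hxpn : ((x : Module.End F V) - 1) ^ (p ^ n) = 0 := by
    rw [sub_pow_char_pow_of_commute p n (Commute.one_right _), one_pow, ← htoE, ← map_pow, ← hn,
      pow_orderOf_eq_one, map_one, sub_self]
  have hr1 : 1 ≤ r := by
    rcases Nat.eq_zero_or_pos r with h0 | h
    · exfalso
      rw [h0, pow_zero] at hr
      exact minpoly.ne_one F _ hr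
    · exact h
  have hrle : r ≤ p ^ n := by
    have hdvd : minpoly F (x : Module.End F V) ∣ (Polynomial.X - 1) ^ (p ^ n) := by
      apply minpoly.dvd
      simpa using hxpn
    rw [hr] at hdvd
    have hX0 : (Polynomial.X - 1 : Polynomial F) ≠ 0 := by
      have := Polynomial.X_sub_C_ne_zero (1 : F)
      simpa using this
    have hXu : ¬ IsUnit (Polynomial.X - 1 : Polynomial F) := by
      have := Polynomial.not_isUnit_X_sub_C (1 : F)
      simpa using this
    exact (pow_dvd_pow_iff hX0 hXu).1 hdvd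
  by_cases hrn : r = p ^ n
  · exact Or.inl hrn
  right
  have hrlt : r < p ^ n := lt_of_le_of_ne hrle hrn
  have hn1 : 1 ≤ n := by
    rcases Nat.eq_zero_or_pos n with h0 | h
    · exfalso
      rw [h0, pow_zero] at hrlt
      omega
    · exact h
  obtain ⟨xH, hxH⟩ : ∃ xH : ↥H, (xH : V ≃ₗ[F] V) = x := ⟨⟨x, hx⟩, rfl⟩
  have hord : orderOf xH = p ^ n := by rw [← hn, ← hxH, Subgroup.orderOf_coe]
  have hxHpow : xH ^ (p ^ n) = 1 := by rw [← hord]; exact pow_orderOf_eq_one xH
  obtain ⟨y, hy⟩ : ∃ y : ↥H, y = xH ^ (p ^ (n - 1)) := ⟨_, rfl⟩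
  have hy1 : y ≠ 1 := by
    rw [hy]
    apply pow_ne_one_of_lt_orderOf (pow_pos hp.pos _).ne'
    rw [hord]
    exact Nat.pow_lt_pow_right hp.one_lt (by omega)
  have hyp : y ^ p = 1 := by
    rw [hy, ← pow_mul, ← pow_succ, Nat.sub_add_cancel hn1, hxHpow]
  have hyord : orderOf y = p := orderOf_eq_prime hyp hy1
  obtain ⟨N, hNdef⟩ : ∃ N : Subgroup ↥H, N = Cfsg.pPrimeCore p ↥H := ⟨_, rfl⟩
  haveI hNn : N.Normal := by rw [hNdef]; exact Cfsg.Agent.Helper1.pPrimeCore_normal p
  have hNcop : (Nat.card N).Coprime p := by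
    rw [hNdef]; exact Cfsg.Agent.Helper1.card_pPrimeCore_coprime p
  have hNp : ¬ p ∣ Nat.card N := by
    intro h
    have := Nat.Coprime.eq_one_of_dvd hNcop.symm h
    exact hp.one_lt.ne' this
  have hCN : Subgroup.centralizer (N : Set ↥H) ≤ N := by
    rw [hNdef]
    exact Cfsg.Agent.Helper1.centralizer_pPrimeCore_le_of_isPSolvable hsol hOp
  have hnc : ∃ g ∈ N, y * g * y⁻¹ ≠ g := by
    by_contra hcon
    push Not at hcon
    have hyC : y ∈ Subgroup.centralizer (N : Set ↥H) := by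
      rw [Subgroup.mem_centralizer_iff]
      intro g hg
      have := hcon g hg
      rw [mul_inv_eq_iff_eq_mul] at this
      exact this.symm
    have hyN : y ∈ N := hCN hyC
    apply hNp
    rw [← hyord]
    have := orderOf_dvd_natCard (⟨y, hyN⟩ : ↥N)
    rwa [Subgroup.orderOf_mk] at this
  have hxp : IsPGroup p (Subgroup.zpowers xH) := by
    apply IsPGroup.of_card (n := n)
    rw [Nat.card_zpowers, hord]
  have hxN : xH ∈ Subgroup.normalizer (N : Set ↥H) := by
    rw [Subgroup.normalizer_eq_top]; exact Subgroup.mem_top _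
  obtain ⟨q, hq, hqp, S, hSN, hSq, hSx, hSnc⟩ :=
    Cfsg.Agent.Helper3.Shult.exists_invariant_sylow_not_centralized N xH y hxp hxN hNp hnc
  rw [hy] at hSnc
  have hmain := Cfsg.Agent.Helper3.Shult.hh_linear p (toE.comp H.subtype) S q hq hqp hSq xH n hn1
    hxHpow hSx
    (by
      intro g _ hg1
      apply Subtype.ext
      exact htoEinj _ hg1)
    hSnc r
    (by
      change (toE (xH : V ≃ₗ[F] V) - 1) ^ r = 0
      rw [hxH, htoE]
      exact hxr)
  rcases hmain with h | ⟨n₀, m, h1, h2, h3, h4, hnab, h6⟩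
  · exfalso; omega
  refine ⟨n₀, q, m, h1, h2, hq, h3, h4, ?_, h6⟩
  intro P hPc
  haveI : Fact q.Prime := ⟨hq⟩
  obtain ⟨P₀, hP₀⟩ := hSq.exists_le_sylow
  obtain ⟨c, hc⟩ := MulAction.exists_smul_eq ↥H P P₀
  obtain ⟨g, hg, h, hh, hgh⟩ := hnab
  have key : ∀ t ∈ (P₀ : Subgroup ↥H), c⁻¹ * t * c ∈ (P : Subgroup ↥H) := by
    intro t ht
    rw [← hc, Sylow.smul_def, Sylow.pointwise_smul_def, Subgroup.mem_pointwise_smul_iff_inv_smul_mem] at ht
    simpa [MulAut.smul_def] using ht
  apply hgh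
  have h7 := setLike_mul_comm (s := P) (key g (hP₀ hg)) (key h (hP₀ hh))
  have h8 : c⁻¹ * (g * h) * c = c⁻¹ * (h * g) * c := by
    calc c⁻¹ * (g * h) * c = (c⁻¹ * g * c) * (c⁻¹ * h * c) := by group
      _ = (c⁻¹ * h * c) * (c⁻¹ * g * c) := h7
      _ = c⁻¹ * (h * g) * c := by group
  exact mul_left_cancel (mul_right_cancel h8)


end Cfsg.Agent.S0633
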