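import Mathlib
import Cfsg.Statements.S0676
import Cfsg.Agent.Helper2.BurnsidePrimeThree
import Cfsg.Agent.S0672

set_option autoImplicit false
open Cfsg

namespace Cfsg.Agent.S0676

open Cfsg.Agent.Helper2

/-- A non-solvable transitive permutation group of prime degree `p` whose Sylow `p`-normaliser has even order is triply transitive. -/
theorem result {α : Type*} [Fintype α] [DecidableEq α] {p : ℕ} [Fact p.Prime] (hα : Fintype.card α = p) (G : Subgroup (Equiv.Perm α)) [MulAction.IsPretransitive G α] (hG : ¬ Group.IsSolvable G) (P : Sylow p G) (heven : Even (Nat.card (Subgroup.normalizer ((P : Subgroup G) : Set G)))) : MulAction.IsMultiplyPretransitive G α 3 := by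
    classical
    have hp1 : 1 < p := (Fact.out : p.Prime).one_lt
    have hp2 : p ≠ 2 := by
      rintro rfl
      apply hG
      have hcard : Nat.card G ∣ 2 := by
        have h1 : Nat.card G ∣ Nat.card (Equiv.Perm α) := Subgroup.card_subgroup_dvd_card G
        rwa [Nat.card_eq_fintype_card (α := Equiv.Perm α), Fintype.card_perm, hα] at h1
      have hpg : IsPGroup 2 G := by
        rcases (Nat.dvd_prime Nat.prime_two).1 hcard with h | h
        · exact IsPGroup.of_card (n := 0) (by rw [h, pow_zero])
        · exact IsPGroup.of_card (n := 1) (by rw [h, pow_one])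
      haveI := hpg.isNilpotent
      infer_instance
    obtain ⟨τ', s', e, he, hs⟩ := BurnsidePrime.exists_reflection_centered hp2 hα G P heven
    have h2t : MulAction.IsMultiplyPretransitive G α 2 := by
      by_contra h
      exact hG (BurnsidePrime.isSolvable_of_AffG (K := ZMod p) e G
        (BurnsidePrime.AffG_of_not_two_transitive e G τ'.1 τ'.2 he h))
    have h2ne := BurnsidePrime.two_ne_zero_zmod (p := p) hp2
    have hs2 : s' * s' = 1 := by
      apply Subtype.ext
      ext x
      apply e.injective
      show e ((s' : Equiv.Perm α) ((s' : Equiv.Perm α) x)) = e x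
      rw [hs, hs, neg_neg]
    have hs1 : s' ≠ 1 := by
      intro h
      have h3 := hs (e.symm 1)
      rw [h] at h3
      simp only [Subgroup.coe_one, Equiv.Perm.coe_one, id_eq, Equiv.apply_symm_apply] at h3
      apply h2ne
      linear_combination h3
    have hso : orderOf s' = 2 := orderOf_eq_prime (by rw [pow_two]; exact hs2) hs1
    have hfix : s' ∈ MulAction.stabilizer G (e.symm 0) := by
      rw [MulAction.mem_stabilizer_iff]
      apply e.injective
      show e ((s' : Equiv.Perm α) (e.symm 0)) = _
      rw [hs]; simp
    have heven0 : Even (Nat.card (MulAction.stabilizer G (e.symm 0))) := by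
      rw [even_iff_two_dvd, ← hso, ← Subgroup.orderOf_mk s' hfix]
      exact orderOf_dvd_natCard _
    have hevenall : ∀ a : α, Even (Nat.card (MulAction.stabilizer G a)) := by
      intro a
      obtain ⟨g, hg⟩ := MulAction.exists_smul_eq G (e.symm 0) a
      rw [← Nat.card_congr (MulAction.stabilizerEquivStabilizer hg.symm).toEquiv]
      exact heven0
    exact Cfsg.Agent.S0672.result (K := ZMod p) (p := p) h2t (by rw [hα]) hevenall
      (fun f hf => BurnsidePrime.hom_pairs_eq_zero hp2 hα G hG τ' s' e he hs f hf)

end Cfsg.Agent.S0676
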