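import Mathlib
import Cfsg.Statements.S0677
import Cfsg.Agent.Helper2.BurnsidePrimeRefl3

set_option autoImplicit false
open Cfsg

namespace Cfsg.Agent.S0677

open Cfsg.Agent.Helper2

/-- In a transitive permutation group of prime degree `p` whose Sylow `p`-normaliser has even order, the point stabilisers are the only subgroups of index `p`. -/
theorem result {α : Type*} [Fintype α] [DecidableEq α] {p : ℕ} [Fact p.Prime] (hα : Fintype.card α = p) (G : Subgroup (Equiv.Perm α)) [MulAction.IsPretransitive G α] (P : Sylow p G) (heven : Even (Nat.card (Subgroup.normalizer ((P : Subgroup G) : Set G)))) (H : Subgroup G) (hH : H.index = p) : ∃ a : α, H = MulAction.stabilizer G a := by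
    classical
    have hp1 : 1 < p := (Fact.out : p.Prime).one_lt
    haveI : Nonempty α := Fintype.card_pos_iff.1 (by omega)
    have hfin : ∀ a : α, H ≤ MulAction.stabilizer G a → H = MulAction.stabilizer G a := by
      intro a hle
      have h1 : (MulAction.stabilizer G a).index = p := by
        rw [MulAction.index_stabilizer_of_transitive, Nat.card_eq_fintype_card, hα]
      have h2 := Subgroup.relIndex_mul_index hle
      rw [h1, hH] at h2
      have h3 : H.relIndex (MulAction.stabilizer G a) = 1 := by
        have hp0 : 0 < p := by omega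
        exact Nat.eq_of_mul_eq_mul_right hp0 (by rw [h2, one_mul])
      exact le_antisymm hle (Subgroup.relIndex_eq_one.1 h3)
    by_cases hp2 : p = 2
    · obtain ⟨a⟩ := ‹Nonempty α›
      refine ⟨a, hfin a ?_⟩
      have hcard : Nat.card G ∣ 2 := by
        have h1 : Nat.card G ∣ Nat.card (Equiv.Perm α) := Subgroup.card_subgroup_dvd_card G
        rw [Nat.card_eq_fintype_card (α := Equiv.Perm α), Fintype.card_perm, hα, hp2] at h1
        exact h1
      have h2 : Nat.card H * 2 = Nat.card G := by
        rw [← hp2, ← hH]; exact H.card_mul_index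
      have h3 : Nat.card H = 1 := by
        have := Nat.le_of_dvd (by norm_num) hcard
        have hpos : 0 < Nat.card H := Nat.card_pos
        omega
      rw [Subgroup.card_eq_one] at h3
      rw [h3]; exact bot_le
    · obtain ⟨τ', hτ', h₀, hh₀, e, he, hrefl⟩ :=
        BurnsidePrime.exists_reflection_in hp2 hα G P heven H hH
      obtain ⟨hnd, -, hdec⟩ := BurnsidePrime.index_p_facts hα G H hH τ' hτ'
      refine ⟨e.symm 0, hfin _ ?_⟩
      intro h' hh'
      rw [MulAction.mem_stabilizer_iff]
      by_cases h2t : MulAction.IsMultiplyPretransitive G α 2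
      · exact BurnsidePrime.fix_of_two_transitive hp2 G H hnd e τ' he hdec h₀ hh₀ hrefl h2t h' hh'
      · have haff := BurnsidePrime.AffG_of_not_two_transitive (K := ZMod p) e G τ'.1 τ'.2 he h2t
        exact BurnsidePrime.fix_of_AffG hp2 G H hnd e h₀ hh₀ hrefl haff h' hh'

end Cfsg.Agent.S0677
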