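import Cfsg.Statements.S0682
import Cfsg.Agent.Helper4.NearFieldBasic

set_option autoImplicit false
open Cfsg

namespace Cfsg.Agent.S0682

/-- A finite near-field has prime-power order; its additive group is commutative of prime exponent. -/
theorem result {F : Type*} [Cfsg.NearField F] [Finite F] : ∃ p j : ℕ, p.Prime ∧ 1 ≤ j ∧ Nat.card F = p ^ j ∧ (∀ x y : F, x + y = y + x) ∧ ∀ x : F, p • x = 0 := by
  classical
  have hnt : Nontrivial F := ⟨⟨0, 1, Cfsg.NearField.zero_ne_one⟩⟩
  have hcard : 1 < Nat.card F := Finite.one_lt_card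
  obtain ⟨p, hp, hpdvd⟩ := Nat.exists_prime_and_dvd (Nat.ne_of_gt hcard)
  haveI : Fact p.Prime := ⟨hp⟩
  obtain ⟨x₀, hx₀⟩ := exists_prime_addOrderOf_dvd_card' p hpdvd
  have hx₀0 : x₀ ≠ 0 := by
    intro h
    rw [h, addOrderOf_zero] at hx₀
    exact hp.one_lt.ne hx₀
  have hpx₀ : p • x₀ = 0 := by
    rw [← hx₀]; exact addOrderOf_nsmul_eq_zero x₀
  have hpall : ∀ x : F, p • x = 0 := by
    intro x
    obtain ⟨c, hc⟩ := Cfsg.Agent.Helper4.nf_exists_mul_eq (x := x) hx₀0
    rw [← hc, ← Cfsg.Agent.Helper4.nf_nsmul_mul, hpx₀, Cfsg.Agent.Helper4.nf_zero_mul]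
  have hpow : Nat.card F = p ^ (Nat.card F).primeFactorsList.length := by
    apply Nat.eq_prime_pow_of_unique_prime_dvd (Nat.ne_of_gt (lt_trans Nat.zero_lt_one hcard))
    intro q hq hqdvd
    haveI : Fact q.Prime := ⟨hq⟩
    obtain ⟨y, hy⟩ := exists_prime_addOrderOf_dvd_card' q hqdvd
    have : q ∣ p := by
      rw [← hy]; exact addOrderOf_dvd_of_nsmul_eq_zero (hpall y)
    exact (Nat.prime_dvd_prime_iff_eq hq hp).1 this
  refine ⟨p, (Nat.card F).primeFactorsList.length, hp, ?_, hpow, ?_, hpall⟩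
  · by_contra h
    have h0 : (Nat.card F).primeFactorsList.length = 0 := by omega
    rw [h0, pow_zero] at hpow
    omega
  · -- commutativity
    have hPG : IsPGroup p (Multiplicative F) := by
      intro g
      refine ⟨1, ?_⟩
      rw [pow_one]
      have := hpall (Multiplicative.toAdd g)
      exact congrArg Multiplicative.ofAdd this
    obtain ⟨z, hz, hz1⟩ := (Subgroup.nontrivial_iff_exists_ne_one _).1 hPG.center_nontrivial
    have hz0 : Multiplicative.toAdd z ≠ 0 := fun h => hz1 (Multiplicative.toAdd.injective h)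
    have hzc : ∀ y : F, y + Multiplicative.toAdd z = Multiplicative.toAdd z + y := by
      intro y
      have := Subgroup.mem_center_iff.1 hz (Multiplicative.ofAdd y)
      exact congrArg Multiplicative.toAdd this
    intro x y
    by_cases hx : x = 0
    · rw [hx, zero_add, add_zero]
    obtain ⟨c, hc⟩ := Cfsg.Agent.Helper4.nf_exists_mul_eq (x := x) hz0
    have hc0 : c ≠ 0 := by
      intro h
      apply hx
      rw [← hc, h, Cfsg.NearField.mul_zero]
    obtain ⟨d, hd, hd'⟩ := Cfsg.NearField.exists_inv c hc0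
    have hy : y = (y * d) * c := by rw [mul_assoc, hd', mul_one]
    rw [← hc, hy, ← Cfsg.NearField.right_distrib, ← Cfsg.NearField.right_distrib, hzc]

end Cfsg.Agent.S0682
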