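import Cfsg.Statements.S0683
import Cfsg.Agent.Helper4.SharpTwoNF

set_option autoImplicit false
open Cfsg

namespace Cfsg.Agent.S0683

/-- A finite sharply doubly transitive permutation group is the affine group of a near-field: the permuted set carries a near-field structure for which the group consists exactly of the maps `x ↦ x * a + b` with `a ≠ 0`. -/
theorem result {α : Type*} [Fintype α] [DecidableEq α] (H : Subgroup (Equiv.Perm α)) [MulAction.IsMultiplyPretransitive H α 2] (hsharp : ∀ x : Fin 2 ↪ α, MulAction.stabilizer H x = ⊥) (h2 : 2 ≤ Fintype.card α) : ∃ _ : Cfsg.NearField α, ∀ σ : Equiv.Perm α, σ ∈ H ↔ ∃ a b : α, a ≠ 0 ∧ ∀ x : α, σ x = x * a + b := by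
  classical
  have hST : Cfsg.Agent.Helper4.SharpTwo H α := by
    constructor
    · intro a b c d hab hcd
      exact (MulAction.is_two_pretransitive_iff (G := H) (α := α)).1 inferInstance hab hcd
    · intro g a b hab hga hgb
      have hmem : g ∈ MulAction.stabilizer H (Function.Embedding.embFinTwo hab) := by
        rw [MulAction.mem_stabilizer_iff]
        ext i
        fin_cases i
        · exact hga
        · exact hgb
      rw [hsharp] at hmem
      exact Subgroup.mem_bot.1 hmem
  obtain ⟨a0, a1, h01⟩ := Fintype.one_lt_card_iff.1 h2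
  obtain ⟨D⟩ := hST.exists_nfData a0 a1 h01
  refine ⟨D.nearField, ?_⟩
  intro σ
  constructor
  · intro hσ
    obtain ⟨a, b, ha, hab⟩ := D.affine ⟨σ, hσ⟩
    exact ⟨a, b, ha, hab⟩
  · rintro ⟨a, b, ha, hab⟩
    have hσ : σ = ((D.τ b * D.μ a : H) : Equiv.Perm α) := by
      ext x
      rw [hab x]
      exact (D.affine' a b ha x).symm
    rw [hσ]
    exact (D.τ b * D.μ a).2

end Cfsg.Agent.S0683
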