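import Mathlib
import Cfsg.Agent.Helper2.MatGen2
import Cfsg.Statements.S0691

set_option autoImplicit false
open Cfsg

namespace Cfsg.Agent.S0691

open Cfsg.Agent.Helper2.MatGen

/-- generator -/
def mA : M2 (ZMod 5) := ⟨2, 0, 0, -2⟩
/-- generator -/
def mB : M2 (ZMod 5) := ⟨0, -1, 1, 0⟩
/-- generator -/
def mC : M2 (ZMod 5) := ⟨1, 2, 1, -2⟩

/-- the list of elements -/
def lS : List (M2 (ZMod 5)) := [⟨1, 0, 0, 1⟩, ⟨2, 0, 0, 3⟩, ⟨0, 4, 1, 0⟩, ⟨1, 2, 1, 3⟩, ⟨4, 0, 0, 4⟩, ⟨0, 3, 3, 0⟩, ⟨2, 4, 3, 4⟩, ⟨0, 2, 2, 0⟩, ⟨4, 2, 1, 2⟩, ⟨2, 1, 2, 4⟩, ⟨3, 3, 4, 1⟩, ⟨3, 0, 0, 2⟩, ⟨0, 1, 4, 0⟩, ⟨4, 3, 4, 2⟩, ⟨3, 4, 3, 1⟩, ⟨1, 1, 2, 3⟩, ⟨3, 1, 2, 1⟩, ⟨1, 4, 3, 3⟩, ⟨1, 3, 4, 3⟩, ⟨3, 2, 1, 1⟩, ⟨2, 2, 1, 4⟩, ⟨2, 3, 4, 4⟩, ⟨4, 4, 3, 2⟩, ⟨4, 1, 2, 2⟩]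

/-- the recipe -/
def lsteps : List (ℕ × ℕ) := [(0, 0), (0, 1), (0, 2), (1, 0), (1, 1), (1, 2), (2, 0), (2, 2), (3, 0), (3, 2), (4, 0), (4, 1), (4, 2), (5, 2), (6, 2), (8, 0), (8, 2), (9, 1), (9, 2), (13, 2), (14, 2), (16, 2), (18, 2)]

theorem lS_eq : lS = build [mA, mB, mC] lsteps [1] := by decide +kernel
theorem lS_one : (1 : M2 (ZMod 5)) ∈ lS := by decide +kernel
theorem lS_mul : ∀ x ∈ lS, x * mA ∈ lS ∧ x * mB ∈ lS ∧ x * mC ∈ lS := by decide +kernel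
theorem lS_nodup : lS.Nodup := by decide +kernel
theorem lS_len : lS.length = 24 := by decide +kernel
theorem lS_col : ∀ a c : ZMod 5, (a ≠ 0 ∨ c ≠ 0) → ∃ x ∈ lS, x.a = a ∧ x.c = c := by decide +kernel
theorem lS_stab : ∀ x ∈ lS, x.a = 1 → x.c = 0 → x = 1 := by decide +kernel


/-- An exceptional sharply doubly transitive group of degree 5^2: the listed matrices generate a subgroup of GL(2,5) of order 24 acting regularly on the non-zero vectors. -/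
theorem result (A : Matrix.GeneralLinearGroup (Fin 2) (ZMod 5)) (B : Matrix.GeneralLinearGroup (Fin 2) (ZMod 5)) (C : Matrix.GeneralLinearGroup (Fin 2) (ZMod 5)) (hA : (A : Matrix (Fin 2) (Fin 2) (ZMod 5)) = !![2, 0; 0, -2]) (hB : (B : Matrix (Fin 2) (Fin 2) (ZMod 5)) = !![0, -1; 1, 0]) (hC : (C : Matrix (Fin 2) (Fin 2) (ZMod 5)) = !![1, 2; 1, -2]) : Nat.card (Subgroup.closure ({A, B, C} : Set (Matrix.GeneralLinearGroup (Fin 2) (ZMod 5)))) = 24 ∧ ∀ v w : Fin 2 → ZMod 5, v ≠ 0 → w ≠ 0 → ∃! h : Subgroup.closure ({A, B, C} : Set (Matrix.GeneralLinearGroup (Fin 2) (ZMod 5))), Matrix.mulVec ((h : Matrix.GeneralLinearGroup (Fin 2) (ZMod 5)) : Matrix (Fin 2) (Fin 2) (ZMod 5)) v = w := by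
  have hιA : M2.ofGL A = mA := M2.ofGL_eq_of_coe hA
  have hιB : M2.ofGL B = mB := M2.ofGL_eq_of_coe hB
  have hιC : M2.ofGL C = mC := M2.ofGL_eq_of_coe hC
  have hAm : A ∈ Subgroup.closure ({A, B, C} : Set (Matrix.GeneralLinearGroup (Fin 2) (ZMod 5))) :=
    Subgroup.subset_closure (by simp)
  have hBm : B ∈ Subgroup.closure ({A, B, C} : Set (Matrix.GeneralLinearGroup (Fin 2) (ZMod 5))) :=
    Subgroup.subset_closure (by simp)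
  have hCm : C ∈ Subgroup.closure ({A, B, C} : Set (Matrix.GeneralLinearGroup (Fin 2) (ZMod 5))) :=
    Subgroup.subset_closure (by simp)
  have hgen : ∀ x ∈ lS, ∃ h ∈ Subgroup.closure ({A, B, C} : Set (Matrix.GeneralLinearGroup (Fin 2) (ZMod 5))),
      M2.ofGL h = x := by
    rw [lS_eq]
    apply build_forall (fun x => ∃ h ∈ Subgroup.closure ({A, B, C} : Set (Matrix.GeneralLinearGroup (Fin 2) (ZMod 5))),
      M2.ofGL h = x) ⟨1, one_mem _, map_one _⟩ ?_ [mA, mB, mC] ?_ lsteps [1] ?_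
    · rintro x y ⟨h, hh, rfl⟩ ⟨k, hk, rfl⟩
      exact ⟨h * k, mul_mem hh hk, map_mul _ _ _⟩
    · intro g hg
      simp only [List.mem_cons, List.not_mem_nil, or_false] at hg
      rcases hg with rfl | rfl | rfl
      · exact ⟨A, hAm, hιA⟩
      · exact ⟨B, hBm, hιB⟩
      · exact ⟨C, hCm, hιC⟩
    · intro x hx
      simp only [List.mem_cons, List.not_mem_nil, or_false] at hx
      subst hx
      exact ⟨1, one_mem _, map_one _⟩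
  have hmul : ∀ x ∈ lS, ∀ g ∈ ({A, B, C} : Set (Matrix.GeneralLinearGroup (Fin 2) (ZMod 5))),
      x * M2.ofGL g ∈ lS := by
    intro x hx g hg
    simp only [Set.mem_insert_iff, Set.mem_singleton_iff] at hg
    rcases hg with rfl | rfl | rfl
    · rw [hιA]; exact (lS_mul x hx).1
    · rw [hιB]; exact (lS_mul x hx).2.1
    · rw [hιC]; exact (lS_mul x hx).2.2
  obtain ⟨hcard, hmem⟩ := card_closure_eq' M2.ofGL M2.ofGL_injective
    ({A, B, C} : Set (Matrix.GeneralLinearGroup (Fin 2) (ZMod 5))) lS lS_one hmul hgen lS_nodup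
  refine ⟨by rw [hcard]; exact lS_len, ?_⟩
  exact regular_of_base' _ lS hmem hgen lS_col lS_stab

end Cfsg.Agent.S0691
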