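import Mathlib
import Cfsg.Agent.Helper2.MatGen2
import Cfsg.Statements.S0692

set_option autoImplicit false
open Cfsg

namespace Cfsg.Agent.S0692

open Cfsg.Agent.Helper2.MatGen

/-- generator -/
def mA : M2 (ZMod 11) := ⟨0, -1, 1, 0⟩
/-- generator -/
def mB : M2 (ZMod 11) := ⟨2, 4, 1, -3⟩

/-- the list of elements -/
def lS : List (M2 (ZMod 11)) := [⟨1, 0, 0, 1⟩, ⟨0, 10, 1, 0⟩, ⟨2, 4, 1, 8⟩, ⟨10, 0, 0, 10⟩, ⟨10, 3, 2, 4⟩, ⟨4, 9, 8, 10⟩, ⟨8, 7, 10, 2⟩, ⟨0, 1, 10, 0⟩, ⟨9, 7, 10, 3⟩, ⟨3, 1, 4, 9⟩, ⟨1, 9, 8, 7⟩, ⟨6, 0, 4, 2⟩, ⟨7, 3, 2, 1⟩, ⟨1, 8, 9, 7⟩, ⟨7, 2, 3, 1⟩, ⟨3, 4, 1, 9⟩, ⟨7, 9, 6, 0⟩, ⟨9, 10, 7, 3⟩, ⟨0, 5, 2, 7⟩, ⟨1, 2, 10, 10⟩, ⟨6, 8, 5, 5⟩, ⟨8, 10, 7, 2⟩, ⟨10, 2, 3, 4⟩, ⟨5, 0, 7, 9⟩, ⟨4, 8, 9, 10⟩, ⟨9, 4, 0, 5⟩, ⟨1, 1, 1,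 2⟩, ⟨6, 6, 6, 8⟩, ⟨5, 7, 0, 9⟩, ⟨2, 10, 10, 1⟩, ⟨8, 5, 5, 6⟩, ⟨9, 0, 4, 5⟩, ⟨4, 2, 5, 0⟩, ⟨2, 1, 4, 8⟩, ⟨0, 6, 9, 4⟩, ⟨10, 9, 1, 1⟩, ⟨5, 3, 6, 6⟩, ⟨0, 2, 5, 7⟩, ⟨1, 10, 2, 10⟩, ⟨6, 5, 8, 5⟩, ⟨7, 6, 9, 0⟩, ⟨6, 10, 9, 6⟩, ⟨3, 0, 10, 4⟩, ⟨10, 6, 5, 2⟩, ⟨2, 7, 0, 6⟩, ⟨10, 10, 10, 9⟩, ⟨5, 5, 5, 3⟩, ⟨6, 4, 0, 2⟩, ⟨9, 1, 1, 10⟩, ⟨3, 6, 6, 5⟩, ⟨2, 0, 7, 6⟩, ⟨2, 5, 6, 10⟩, ⟨1, 7, 3, 0⟩, ⟨6, 9, 10, 6⟩, ⟨10, 5, 6, 2⟩, ⟨0, 8, 4, 1⟩, ⟨6, 1, 2, 6⟩, ⟨4, 0, 1, 3⟩, ⟨0, 9, 6, 4⟩, ⟨10, 1, 9, 1⟩, ⟨5, 6, 3, 6⟩, ⟨4, 5, 2, 0⟩, ⟨5, 1, 2, 5⟩, ⟨8, 0, 1, 7⟩, ⟨1, 5, 6, 9⟩, ⟨5, 9, 10, 5⟩, ⟨7, 10, 0, 8⟩, ⟨9, 5, 6, 1⟩, ⟨10, 8, 4, 0⟩, ⟨3, 3, 3, 7⟩, ⟨8, 9, 9, 2⟩, ⟨0, 7, 3, 10⟩, ⟨9, 6, 5, 1⟩, ⟨10, 4, 8, 0⟩, ⟨5, 2, 1, 5⟩, ⟨1, 6, 5, 9⟩, ⟨0, 3, 7, 10⟩, ⟨5, 10, 9, 5⟩,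 ⟨7, 0, 10, 8⟩, ⟨8, 4, 3, 3⟩, ⟨2, 9, 8, 9⟩, ⟨8, 1, 0, 7⟩, ⟨3, 8, 7, 8⟩, ⟨9, 3, 2, 2⟩, ⟨3, 5, 9, 8⟩, ⟨7, 1, 5, 4⟩, ⟨6, 2, 1, 6⟩, ⟨4, 1, 0, 3⟩, ⟨2, 6, 5, 10⟩, ⟨1, 3, 7, 0⟩, ⟨8, 8, 8, 4⟩, ⟨3, 2, 2, 9⟩, ⟨0, 4, 8, 1⟩, ⟨4, 3, 3, 8⟩, ⟨9, 9, 9, 3⟩, ⟨2, 3, 3, 5⟩, ⟨6, 7, 7, 1⟩, ⟨3, 10, 0, 4⟩, ⟨5, 8, 8, 2⟩, ⟨1, 4, 4, 6⟩, ⟨3, 7, 8, 8⟩, ⟨9, 2, 3, 2⟩, ⟨8, 3, 4, 3⟩, ⟨2, 8, 9, 9⟩, ⟨8, 6, 2, 3⟩, ⟨4, 10, 6, 7⟩, ⟨3, 9, 5, 8⟩, ⟨7, 5, 1, 4⟩, ⟨5, 4, 4, 10⟩, ⟨7, 7, 7, 4⟩, ⟨6, 3, 3, 9⟩, ⟨7, 8, 8, 3⟩, ⟨2, 2, 2, 8⟩, ⟨9, 8, 8, 6⟩, ⟨10, 7, 7, 5⟩, ⟨4, 7, 7, 7⟩, ⟨8, 2, 6, 3⟩, ⟨4, 6, 10, 7⟩, ⟨7, 4, 4, 4⟩, ⟨4, 4, 4, 7⟩]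

/-- the recipe -/
def lsteps : List (ℕ × ℕ) := [(0, 0), (0, 1), (1, 0), (1, 1), (2, 0), (2, 1), (3, 0), (3, 1), (4, 0), (4, 1), (5, 1), (6, 0), (7, 1), (8, 0), (8, 1), (9, 1), (10, 0), (11, 0), (11, 1), (12, 1), (13, 0), (13, 1), (14, 1), (15, 0), (16, 0), (16, 1), (17, 1), (18, 1), (19, 0), (20, 0), (20, 1), (21, 1), (22, 0), (23, 0), (23, 1), (24, 1), (25, 1), (26, 0), (27, 0), (27, 1), (28, 1), (29, 1), (30, 1), (32, 0), (32, 1), (33, 1), (34, 1), (35, 0), (36, 0), (36, 1), (37, 1), (38, 1), (39, 1), (41, 0), (42, 0), (42, 1), (43, 1), (44, 1), (45, 0), (46, 0), (46, 1), (47, 1), (48, 1), (49, 1), (51, 0), (52, 0), (52, 1), (53, 1), (54, 1), (55, 1), (57, 0), (58, 1), (59, 1), (60, 1), (62, 0), (63, 0), (63, 1), (64, 1), (65,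 1), (66, 1), (68, 0), (69, 0), (69, 1), (70, 1), (71, 1), (72, 0), (73, 0), (73, 1), (74, 1), (75, 1), (76, 1), (78, 0), (79, 0), (79, 1), (80, 1), (81, 1), (82, 1), (84, 0), (85, 0), (86, 1), (87, 1), (90, 0), (90, 1), (91, 1), (92, 1), (95, 0), (96, 0), (97, 1), (98, 1), (99, 1), (100, 0), (100, 1), (101, 1), (105, 0), (106, 1), (107, 1), (108, 0), (109, 0), (110, 1)]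

theorem lS_eq : lS = build [mA, mB] lsteps [1] := by decide +kernel
theorem lS_one : (1 : M2 (ZMod 11)) ∈ lS := by decide +kernel
theorem lS_mul : ∀ x ∈ lS, x * mA ∈ lS ∧ x * mB ∈ lS := by decide +kernel
theorem lS_nodup : lS.Nodup := by decide +kernel
theorem lS_len : lS.length = 120 := by decide +kernel
theorem lS_col : ∀ a c : ZMod 11, (a ≠ 0 ∨ c ≠ 0) → ∃ x ∈ lS, x.a = a ∧ x.c = c := by decide +kernel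
theorem lS_stab : ∀ x ∈ lS, x.a = 1 → x.c = 0 → x = 1 := by decide +kernel


/-- An exceptional sharply doubly transitive group of degree 11^2: the listed matrices generate a subgroup of GL(2,11) of order 120 acting regularly on the non-zero vectors. -/
theorem result (A : Matrix.GeneralLinearGroup (Fin 2) (ZMod 11)) (B : Matrix.GeneralLinearGroup (Fin 2) (ZMod 11)) (hA : (A : Matrix (Fin 2) (Fin 2) (ZMod 11)) = !![0, -1; 1, 0]) (hB : (B : Matrix (Fin 2) (Fin 2) (ZMod 11)) = !![2, 4; 1, -3]) : Nat.card (Subgroup.closure ({A, B} : Set (Matrix.GeneralLinearGroup (Fin 2) (ZMod 11)))) = 120 ∧ ∀ v w : Fin 2 → ZMod 11, v ≠ 0 → w ≠ 0 → ∃! h : Subgroup.closure ({A, B} : Set (Matrix.GeneralLinearGroup (Fin 2) (ZMod 11))), Matrix.mulVec ((h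 : Matrix.GeneralLinearGroup (Fin 2) (ZMod 11)) : Matrix (Fin 2) (Fin 2) (ZMod 11)) v = w := by
  have hιA : M2.ofGL A = mA := M2.ofGL_eq_of_coe hA
  have hιB : M2.ofGL B = mB := M2.ofGL_eq_of_coe hB
  have hAm : A ∈ Subgroup.closure ({A, B} : Set (Matrix.GeneralLinearGroup (Fin 2) (ZMod 11))) :=
    Subgroup.subset_closure (by simp)
  have hBm : B ∈ Subgroup.closure ({A, B} : Set (Matrix.GeneralLinearGroup (Fin 2) (ZMod 11))) :=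
    Subgroup.subset_closure (by simp)
  have hgen : ∀ x ∈ lS, ∃ h ∈ Subgroup.closure ({A, B} : Set (Matrix.GeneralLinearGroup (Fin 2) (ZMod 11))),
      M2.ofGL h = x := by
    rw [lS_eq]
    apply build_forall (fun x => ∃ h ∈ Subgroup.closure ({A, B} : Set (Matrix.GeneralLinearGroup (Fin 2) (ZMod 11))),
      M2.ofGL h = x) ⟨1, one_mem _, map_one _⟩ ?_ [mA, mB] ?_ lsteps [1] ?_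
    · rintro x y ⟨h, hh, rfl⟩ ⟨k, hk, rfl⟩
      exact ⟨h * k, mul_mem hh hk, map_mul _ _ _⟩
    · intro g hg
      simp only [List.mem_cons, List.not_mem_nil, or_false] at hg
      rcases hg with rfl | rfl
      · exact ⟨A, hAm, hιA⟩
      · exact ⟨B, hBm, hιB⟩
    · intro x hx
      simp only [List.mem_cons, List.not_mem_nil, or_false] at hx
      subst hx
      exact ⟨1, one_mem _, map_one _⟩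
  have hmul : ∀ x ∈ lS, ∀ g ∈ ({A, B} : Set (Matrix.GeneralLinearGroup (Fin 2) (ZMod 11))),
      x * M2.ofGL g ∈ lS := by
    intro x hx g hg
    simp only [Set.mem_insert_iff, Set.mem_singleton_iff] at hg
    rcases hg with rfl | rfl
    · rw [hιA]; exact (lS_mul x hx).1
    · rw [hιB]; exact (lS_mul x hx).2
  obtain ⟨hcard, hmem⟩ := card_closure_eq' M2.ofGL M2.ofGL_injective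
    ({A, B} : Set (Matrix.GeneralLinearGroup (Fin 2) (ZMod 11))) lS lS_one hmul hgen lS_nodup
  refine ⟨by rw [hcard]; exact lS_len, ?_⟩
  exact regular_of_base' _ lS hmem hgen lS_col lS_stab

end Cfsg.Agent.S0692
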