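import Mathlib
import Cfsg.Agent.Helper2.MatGen3
import Cfsg.Statements.S0693

set_option autoImplicit false
open Cfsg

namespace Cfsg.Agent.S0693

open Cfsg.Agent.Helper2.MatGen

/-- generator -/
def mA : M2 (ZMod 59) := ⟨0, -1, 1, 0⟩
/-- generator -/
def mB : M2 (ZMod 59) := ⟨9, 15, -10, -10⟩
/-- generator -/
def mC : M2 (ZMod 59) := ⟨4, 0, 0, 4⟩

/-- the list of elements of the subgroup generated by the first two -/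
def lS : List (M2 (ZMod 59)) := [⟨1, 0, 0, 1⟩, ⟨0, 58, 1, 0⟩, ⟨9, 15, 49, 49⟩, ⟨58, 0, 0, 58⟩, ⟨10, 10, 9, 15⟩, ⟨15, 50, 49, 10⟩, ⟨49, 44, 10, 9⟩, ⟨0, 1, 58, 0⟩, ⟨50, 44, 10, 10⟩, ⟨10, 49, 15, 50⟩, ⟨49, 50, 49, 44⟩, ⟨48, 20, 46, 45⟩, ⟨44, 10, 9, 49⟩, ⟨49, 49, 50, 44⟩, ⟨44, 9, 10, 49⟩, ⟨10, 15, 49, 50⟩, ⟨13, 14, 48, 20⟩, ⟨50, 10, 44, 10⟩, ⟨20, 11, 45, 13⟩, ⟨55, 48, 23, 4⟩, ⟨1, 29, 4, 58⟩, ⟨49, 10, 44, 9⟩, ⟨10, 9, 10, 15⟩, ⟨11, 39, 13, 14⟩, ⟨15, 49, 50, 10⟩, ⟨14, 46, 20, 11⟩, ⟨36, 55, 55, 48⟩, ⟨55, 1, 1, 29⟩, ⟨11, 13, 39, 14⟩, ⟨48, 4, 4, 36⟩, ⟨29, 58, 58, 55⟩, ⟨14, 20, 46, 11⟩, ⟨46, 45, 11, 39⟩, ⟨9, 49, 15, 49⟩, ⟨39, 48, 14, 46⟩, ⟨4, 11, 36, 55⟩, ⟨58, 30, 55, 1⟩, ⟨20, 45, 11, 13⟩, ⟨55, 23, 48, 4⟩, ⟨1, 4, 29, 58⟩, ⟨13, 48, 14, 20⟩, ⟨28, 35, 34, 32⟩, ⟨38, 31, 30, 54⟩, ⟨35, 32, 31, 25⟩, ⟨45, 13, 39, 48⟩,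 ⟨23, 4, 4, 11⟩, ⟨4, 58, 58, 30⟩, ⟨48, 46, 20, 45⟩, ⟨11, 55, 55, 23⟩, ⟨30, 1, 1, 4⟩, ⟨45, 39, 13, 48⟩, ⟨25, 27, 28, 35⟩, ⟨29, 5, 38, 31⟩, ⟨28, 34, 35, 32⟩, ⟨35, 31, 32, 25⟩, ⟨31, 21, 54, 29⟩, ⟨32, 24, 25, 28⟩, ⟨54, 28, 29, 38⟩, ⟨39, 14, 48, 46⟩, ⟨4, 36, 11, 55⟩, ⟨58, 55, 30, 1⟩, ⟨46, 11, 45, 39⟩, ⟨31, 24, 25, 27⟩, ⟨21, 28, 29, 5⟩, ⟨24, 27, 28, 34⟩, ⟨27, 34, 35, 31⟩, ⟨5, 30, 31, 21⟩, ⟨34, 31, 32, 24⟩, ⟨30, 21, 54, 28⟩, ⟨5, 38, 38, 53⟩, ⟨10, 19, 19, 48⟩, ⟨28, 5, 38, 30⟩, ⟨34, 32, 31, 24⟩, ⟨30, 54, 21, 28⟩, ⟨31, 25, 24, 27⟩, ⟨24, 28, 27, 34⟩, ⟨28, 38, 5, 30⟩, ⟨27, 35, 34, 31⟩, ⟨5, 31, 30, 21⟩, ⟨21, 6, 5, 38⟩, ⟨40, 11, 10, 19⟩, ⟨21, 29, 28, 5⟩, ⟨38, 54, 53, 21⟩, ⟨19, 49, 48, 40⟩, ⟨18, 19, 45, 41⟩, ⟨25, 16, 42, 34⟩, ⟨32, 25, 24, 28⟩, ⟨54, 29, 28, 38⟩, ⟨25, 28, 27, 35⟩, ⟨29, 38, 5, 31⟩, ⟨54, 21, 21, 6⟩, ⟨49,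 40, 40, 11⟩, ⟨31, 54, 21, 29⟩, ⟨6, 38, 38, 54⟩, ⟨11, 19, 19, 49⟩, ⟨14, 18, 18, 19⟩, ⟨17, 25, 25, 16⟩, ⟨38, 30, 31, 54⟩, ⟨19, 41, 41, 14⟩, ⟨16, 34, 34, 17⟩, ⟨38, 53, 54, 21⟩, ⟨19, 48, 49, 40⟩, ⟨21, 5, 6, 38⟩, ⟨40, 10, 11, 19⟩, ⟨41, 40, 14, 18⟩, ⟨34, 43, 17, 25⟩, ⟨18, 45, 19, 41⟩, ⟨25, 42, 16, 34⟩, ⟨42, 34, 34, 43⟩, ⟨56, 52, 52, 3⟩, ⟨40, 18, 18, 45⟩, ⟨53, 21, 21, 5⟩, ⟨48, 40, 40, 10⟩, ⟨45, 41, 41, 40⟩, ⟨43, 25, 25, 42⟩, ⟨7, 56, 56, 52⟩, ⟨41, 14, 40, 18⟩, ⟨34, 17, 43, 25⟩, ⟨52, 3, 3, 7⟩, ⟨3, 7, 7, 56⟩]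

/-- the recipe -/
def lsteps : List (ℕ × ℕ) := [(0, 0), (0, 1), (1, 0), (1, 1), (2, 0), (2, 1), (3, 0), (3, 1), (4, 0), (4, 1), (5, 1), (6, 0), (7, 1), (8, 0), (8, 1), (9, 1), (10, 0), (11, 0), (11, 1), (12, 1), (13, 0), (13, 1), (14, 1), (15, 0), (16, 0), (16, 1), (17, 1), (18, 1), (19, 0), (20, 0), (20, 1), (21, 1), (22, 0), (23, 0), (23, 1), (24, 1), (25, 1), (26, 0), (27, 0), (27, 1), (28, 1), (29, 1), (30, 1), (32, 0), (32, 1), (33, 1), (34, 1), (35, 0), (36, 0), (36, 1), (37, 1), (38, 1), (39, 1), (41, 0), (42, 0), (42, 1), (43, 1), (44, 1), (45, 0), (46, 0), (46, 1), (47, 1), (48, 1), (49, 1), (51, 0), (52, 0), (52, 1), (53, 1), (54, 1), (55, 1), (57, 0), (58, 1), (59, 1), (60, 1), (62, 0), (63, 0), (63, 1), (64, 1), (65, 1), (66, 1), (68, 0), (69, 0), (69, 1), (70, 1), (71, 1), (72, 0), (73,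 0), (73, 1), (74, 1), (75, 1), (76, 1), (78, 0), (79, 0), (79, 1), (80, 1), (81, 1), (82, 1), (84, 0), (85, 0), (86, 1), (87, 1), (90, 0), (90, 1), (91, 1), (92, 1), (95, 0), (96, 0), (97, 1), (98, 1), (99, 1), (100, 0), (100, 1), (101, 1), (105, 0), (106, 1), (107, 1), (108, 0), (109, 0), (110, 1)]

/-- the list of scalars -/
def lZ : List (M2 (ZMod 59)) := [⟨1, 0, 0, 1⟩, ⟨4, 0, 0, 4⟩, ⟨16, 0, 0, 16⟩, ⟨5, 0, 0, 5⟩, ⟨20, 0, 0, 20⟩, ⟨21, 0, 0, 21⟩, ⟨25, 0, 0, 25⟩, ⟨41, 0, 0, 41⟩, ⟨46, 0, 0, 46⟩, ⟨7, 0, 0, 7⟩, ⟨28, 0, 0, 28⟩, ⟨53, 0, 0, 53⟩, ⟨35, 0, 0, 35⟩, ⟨22, 0, 0, 22⟩, ⟨29, 0, 0, 29⟩, ⟨57, 0, 0, 57⟩, ⟨51, 0, 0, 51⟩, ⟨27, 0, 0, 27⟩, ⟨49, 0, 0, 49⟩, ⟨19, 0, 0, 19⟩, ⟨17, 0, 0, 17⟩, ⟨9, 0, 0, 9⟩, ⟨36, 0, 0, 36⟩, ⟨26, 0, 0, 26⟩, ⟨45, 0, 0, 45⟩, ⟨3, 0, 0, 3⟩, ⟨12, 0, 0, 12⟩, ⟨48, 0, 0, 48⟩, ⟨15, 0, 0, 15⟩]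

/-- the recipe for the scalars -/
def zsteps : List (ℕ × ℕ) := [(0, 0), (1, 0), (2, 0), (3, 0), (4, 0), (5, 0), (6, 0), (7, 0), (8, 0), (9, 0), (10, 0), (11, 0), (12, 0), (13, 0), (14, 0), (15, 0), (16, 0), (17, 0), (18, 0), (19, 0), (20, 0), (21, 0), (22, 0), (23, 0), (24, 0), (25, 0), (26, 0), (27, 0)]

theorem lS_eq : lS = build [mA, mB] lsteps [1] := by decide +kernel
theorem lS_one : (1 : M2 (ZMod 59)) ∈ lS := by decide +kernel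
theorem lS_mul : ∀ x ∈ lS, x * mA ∈ lS ∧ x * mB ∈ lS := by decide +kernel
theorem lS_nodup : lS.Nodup := by decide +kernel
theorem lS_len : lS.length = 120 := by decide +kernel
theorem lZ_eq : lZ = build [mC] zsteps [1] := by decide +kernel
theorem lZ_one : (1 : M2 (ZMod 59)) ∈ lZ := by decide +kernel
theorem lZ_mul : ∀ x ∈ lZ, x * mC ∈ lZ := by decide +kernel
theorem lZ_nodup : lZ.Nodup := by decide +kernel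
theorem lZ_len : lZ.length = 29 := by decide +kernel
theorem l_free : ∀ x ∈ lS, ∀ y ∈ lZ, (x * y).a = 1 → (x * y).c = 0 → x = 1 ∧ y = 1 := by decide +kernel


/-- An exceptional sharply doubly transitive group of degree 59^2: the listed matrices generate a subgroup of GL(2,59) of order 3480 acting regularly on the non-zero vectors. -/
theorem result (A : Matrix.GeneralLinearGroup (Fin 2) (ZMod 59)) (B : Matrix.GeneralLinearGroup (Fin 2) (ZMod 59)) (C : Matrix.GeneralLinearGroup (Fin 2) (ZMod 59)) (hA : (A : Matrix (Fin 2) (Fin 2) (ZMod 59)) = !![0, -1; 1, 0]) (hB : (B : Matrix (Fin 2) (Fin 2) (ZMod 59)) = !![9, 15; -10, -10]) (hC : (C : Matrix (Fin 2) (Fin 2) (ZMod 59)) = !![4, 0; 0, 4]) : Nat.card (Subgroup.closure ({A, B, C} : Set (Matrix.GeneralLinearGroup (Fin 2) (ZMod 59)))) = 3480 ∧ ∀ v w : Fin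 2 → ZMod 59, v ≠ 0 → w ≠ 0 → ∃! h : Subgroup.closure ({A, B, C} : Set (Matrix.GeneralLinearGroup (Fin 2) (ZMod 59))), Matrix.mulVec ((h : Matrix.GeneralLinearGroup (Fin 2) (ZMod 59)) : Matrix (Fin 2) (Fin 2) (ZMod 59)) v = w := by
  have hιA : M2.ofGL A = mA := M2.ofGL_eq_of_coe hA
  have hιB : M2.ofGL B = mB := M2.ofGL_eq_of_coe hB
  have hιC : M2.ofGL C = mC := M2.ofGL_eq_of_coe hC
  have hAm : A ∈ Subgroup.closure ({A, B} : Set (Matrix.GeneralLinearGroup (Fin 2) (ZMod 59))) :=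
    Subgroup.subset_closure (by simp)
  have hBm : B ∈ Subgroup.closure ({A, B} : Set (Matrix.GeneralLinearGroup (Fin 2) (ZMod 59))) :=
    Subgroup.subset_closure (by simp)
  have hCm : C ∈ Subgroup.closure ({C} : Set (Matrix.GeneralLinearGroup (Fin 2) (ZMod 59))) :=
    Subgroup.subset_closure (by simp)
  have hgen : ∀ x ∈ lS, ∃ h ∈ Subgroup.closure ({A, B} : Set (Matrix.GeneralLinearGroup (Fin 2) (ZMod 59))),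
      M2.ofGL h = x := by
    rw [lS_eq]
    apply build_forall (fun x => ∃ h ∈ Subgroup.closure ({A, B} : Set (Matrix.GeneralLinearGroup (Fin 2) (ZMod 59))),
      M2.ofGL h = x) ⟨1, one_mem _, map_one _⟩ ?_ [mA, mB] ?_ lsteps [1] ?_
    · rintro x y ⟨h, hh, rfl⟩ ⟨k, hk, rfl⟩
      exact ⟨h * k, mul_mem hh hk, map_mul _ _ _⟩
    · intro g hg
      simp only [List.mem_cons, List.not_mem_nil, or_false] at hg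
      rcases hg with rfl | rfl
      · exact ⟨A, hAm, hιA⟩
      · exact ⟨B, hBm, hιB⟩
    · intro x hx
      simp only [List.mem_cons, List.not_mem_nil, or_false] at hx
      subst hx
      exact ⟨1, one_mem _, map_one _⟩
  have hmul : ∀ x ∈ lS, ∀ g ∈ ({A, B} : Set (Matrix.GeneralLinearGroup (Fin 2) (ZMod 59))),
      x * M2.ofGL g ∈ lS := by
    intro x hx g hg
    simp only [Set.mem_insert_iff, Set.mem_singleton_iff] at hg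
    rcases hg with rfl | rfl
    · rw [hιA]; exact (lS_mul x hx).1
    · rw [hιB]; exact (lS_mul x hx).2
  obtain ⟨hcard, hmem⟩ := card_closure_eq' M2.ofGL M2.ofGL_injective
    ({A, B} : Set (Matrix.GeneralLinearGroup (Fin 2) (ZMod 59))) lS lS_one hmul hgen lS_nodup
  have hgenZ : ∀ x ∈ lZ, ∃ h ∈ Subgroup.closure ({C} : Set (Matrix.GeneralLinearGroup (Fin 2) (ZMod 59))),
      M2.ofGL h = x := by
    rw [lZ_eq]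
    apply build_forall (fun x => ∃ h ∈ Subgroup.closure ({C} : Set (Matrix.GeneralLinearGroup (Fin 2) (ZMod 59))),
      M2.ofGL h = x) ⟨1, one_mem _, map_one _⟩ ?_ [mC] ?_ zsteps [1] ?_
    · rintro x y ⟨h, hh, rfl⟩ ⟨k, hk, rfl⟩
      exact ⟨h * k, mul_mem hh hk, map_mul _ _ _⟩
    · intro g hg
      simp only [List.mem_cons, List.not_mem_nil, or_false] at hg
      subst hg
      exact ⟨C, hCm, hιC⟩
    · intro x hx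
      simp only [List.mem_cons, List.not_mem_nil, or_false] at hx
      subst hx
      exact ⟨1, one_mem _, map_one _⟩
  have hmulZ : ∀ x ∈ lZ, ∀ g ∈ ({C} : Set (Matrix.GeneralLinearGroup (Fin 2) (ZMod 59))),
      x * M2.ofGL g ∈ lZ := by
    intro x hx g hg
    simp only [Set.mem_singleton_iff] at hg
    subst hg
    rw [hιC]; exact lZ_mul x hx
  obtain ⟨hcardZ, hmemZ⟩ := card_closure_eq' M2.ofGL M2.ofGL_injective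
    ({C} : Set (Matrix.GeneralLinearGroup (Fin 2) (ZMod 59))) lZ lZ_one hmulZ hgenZ lZ_nodup
  rw [lS_len] at hcard
  rw [lZ_len] at hcardZ
  have hcen : ∀ z ∈ ({C} : Set (Matrix.GeneralLinearGroup (Fin 2) (ZMod 59))),
      ∀ g : Matrix.GeneralLinearGroup (Fin 2) (ZMod 59), g * z = z * g := by
    intro z hz g
    simp only [Set.mem_singleton_iff] at hz
    subst hz
    apply M2.ofGL_injective
    rw [map_mul, map_mul, hιC]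
    apply M2.ext' <;> simp only [M2.mul_def, mC] <;> ring
  have hset : ({A, B, C} : Set (Matrix.GeneralLinearGroup (Fin 2) (ZMod 59))) = {A, B} ∪ {C} := by
    ext x
    simp only [Set.mem_insert_iff, Set.mem_singleton_iff, Set.mem_union]
    tauto
  have : Fact (1 < 59) := ⟨by norm_num⟩
  have hmain := sharp_of_central_product ({A, B} : Set (Matrix.GeneralLinearGroup (Fin 2) (ZMod 59)))
    {C} lS lZ hmem hmemZ hcen l_free (by rw [hcard, hcardZ]; decide)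
    (by rw [hcard, hcardZ, ZMod.card]; norm_num)
  rw [ZMod.card] at hmain
  rw [hset]
  exact hmain

end Cfsg.Agent.S0693
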