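import Cfsg.Statements.S0696
import Cfsg.Agent.Helper4.RegularNormalBlocks2

set_option autoImplicit false
open Cfsg

namespace Cfsg.Agent.S0696

/-- A triply primitive group of degree at least 3 having a regular normal subgroup has degree 3 or 4. -/
theorem result {G : Type*} [Group G] {X : Type*} [Fintype X] [MulAction G X] (hX : 3 ≤ Fintype.card X) (h3 : MulAction.IsMultiplyPreprimitive G X 3) (N : Subgroup G) [N.Normal] (htrans : MulAction.IsPretransitive N X) (hreg : ∀ x : X, MulAction.stabilizer N x = ⊥) : Fintype.card X = 3 ∨ Fintype.card X = 4 := by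
  classical
  have hne : Nonempty X := by
    rw [← Fintype.card_pos_iff]; omega
  obtain ⟨x⟩ := hne
  have hα : ((3 : ℕ) : ℕ∞) ≤ ENat.card X := by
    rw [ENat.card_eq_coe_fintype_card]
    exact_mod_cast hX
  have h2 : MulAction.IsMultiplyPreprimitive G X 2 :=
    MulAction.isMultiplyPreprimitive_of_le G X h3 (by norm_num) hα
  rcases Cfsg.Agent.Helper4.sq_eq_one_of_two_preprimitive x h2 N hreg with h | hexp
  · exact Or.inl h
  right
  -- two distinct points different from x
  have hyz : ∃ y z : X, y ≠ x ∧ z ≠ x ∧ z ≠ y := by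
    obtain ⟨a, b, c, hab, hac, hbc⟩ := Fintype.two_lt_card_iff.1 (by omega : 2 < Fintype.card X)
    by_cases ha : a = x
    · subst ha
      exact ⟨b, c, hab.symm, hac.symm, hbc.symm⟩
    by_cases hb : b = x
    · subst hb
      exact ⟨a, c, ha, hbc.symm, hac.symm⟩
    · exact ⟨a, b, ha, hb, hab.symm⟩
  obtain ⟨y, z, hy, hz, hzy⟩ := hyz
  obtain ⟨n, hn⟩ := MulAction.exists_smul_eq N x y
  obtain ⟨m, hm⟩ := MulAction.exists_smul_eq N x z
  have hn' : (n : G) • x = y := hn
  have hm' : (m : G) • x = z := hm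
  apply Cfsg.Agent.Helper4.card_eq_four_of_three_preprimitive x h3 N hreg hexp (n : G) (m : G)
    n.2 m.2
  · intro h
    apply hy
    rw [← hn', h, one_smul]
  · intro h
    apply hz
    rw [← hm', h, one_smul]
  · intro h
    apply hzy
    rw [← hm', ← hn', h]

end Cfsg.Agent.S0696
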