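import Mathlib
import Cfsg.Statements.S0699
import Cfsg.Agent.Helper3.WagnerC
-- import your own Cfsg.Agent.* helpers here

set_option autoImplicit false
open Cfsg

namespace Cfsg.Agent.S0699
open Cfsg

theorem emb_inj {α : Type*} {a b c : α} (hab : a ≠ b) (hac : a ≠ c) (hbc : b ≠ c) :
    Function.Injective (![a, b, c] : Fin 3 → α) := by
  intro i j hij
  fin_cases i <;> fin_cases j <;> simp_all

/-- Wagner's Theorem: a non-trivial normal subgroup of a triply transitive permutation group of odd degree at least 5 is triply transitive. -/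
theorem result {α : Type*} [Fintype α] [DecidableEq α] (G : Subgroup (Equiv.Perm α)) (hodd : Odd (Fintype.card α)) (h5 : 5 ≤ Fintype.card α) (hG : MulAction.IsMultiplyPretransitive G α 3) (N : Subgroup G) [N.Normal] (hN : N ≠ ⊥) : MulAction.IsMultiplyPretransitive N α 3 := by
  classical
  have hT3 : Cfsg.Agent.Helper3.Wagner.T3 G := by
    intro a b c a' b' c' hab hac hbc hab' hac' hbc'
    obtain ⟨g, hg⟩ := MulAction.exists_smul_eq G (⟨![a, b, c], emb_inj hab hac hbc⟩ : Fin 3 ↪ α)
      (⟨![a', b', c'], emb_inj hab' hac' hbc'⟩ : Fin 3 ↪ α)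
    refine ⟨g, g.2, ?_, ?_, ?_⟩
    · have := congrArg (fun z : Fin 3 ↪ α => z 0) hg
      have h' : g • a = a' := by simpa using this
      exact h'
    · have := congrArg (fun z : Fin 3 ↪ α => z 1) hg
      have h' : g • b = b' := by simpa using this
      exact h'
    · have := congrArg (fun z : Fin 3 ↪ α => z 2) hg
      have h' : g • c = c' := by simpa using this
      exact h'
  have H : Cfsg.Agent.Helper3.Wagner.Hyp G (N.map G.subtype) :=
    { odd := hodd
      five := h5
      t3 := hT3
      le := by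
        rintro _ ⟨n, -, rfl⟩
        exact n.2
      normal := by
        rintro g hg _ ⟨n, hn, rfl⟩
        refine ⟨⟨g, hg⟩ * n * ⟨g, hg⟩⁻¹, ?_, rfl⟩
        exact (inferInstance : N.Normal).conj_mem n hn ⟨g, hg⟩
      ne := by
        intro h
        apply hN
        rw [Subgroup.eq_bot_iff_forall]
        intro n hn
        have : G.subtype n ∈ N.map G.subtype := ⟨n, hn, rfl⟩
        rw [h, Subgroup.mem_bot] at this
        exact Subtype.ext this }
  have h3 := H.n_t3
  refine ⟨fun x y => ?_⟩
  have hx : ∀ i j : Fin 3, i ≠ j → x i ≠ x j := fun i j hij h => hij (x.injective h)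
  have hy : ∀ i j : Fin 3, i ≠ j → y i ≠ y j := fun i j hij h => hij (y.injective h)
  obtain ⟨n', hn', h0, h1, h2⟩ := h3 (x 0) (x 1) (x 2) (y 0) (y 1) (y 2)
    (hx 0 1 (by decide)) (hx 0 2 (by decide)) (hx 1 2 (by decide))
    (hy 0 1 (by decide)) (hy 0 2 (by decide)) (hy 1 2 (by decide))
  obtain ⟨n, hnN, rfl⟩ := hn'
  refine ⟨⟨n, hnN⟩, ?_⟩
  ext i
  fin_cases i
  · exact h0
  · exact h1
  · exact h2


end Cfsg.Agent.S0699
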