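import Mathlib
import Cfsg.Statements.S0701

set_option autoImplicit false
open Cfsg

namespace Cfsg.Agent.S0701

/-- The centraliser in the full symmetric group of a transitive permutation group `G` is semiregular, and it is transitive if and only if `G` is regular. -/
theorem result {α : Type*} (G : Subgroup (Equiv.Perm α)) [MulAction.IsPretransitive G α] : (∀ c ∈ Subgroup.centralizer (G : Set (Equiv.Perm α)), ∀ a : α, c a = a → c = 1) ∧ (MulAction.IsPretransitive (Subgroup.centralizer (G : Set (Equiv.Perm α))) α ↔ ∀ a : α, MulAction.stabilizer G a = ⊥) := by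
  have key1 : ∀ c ∈ Subgroup.centralizer (G : Set (Equiv.Perm α)), ∀ a : α, c a = a → c = 1 := by
    intro c hc a hca
    ext b
    obtain ⟨g, hg⟩ := MulAction.exists_smul_eq G a b
    have hg' : (g : Equiv.Perm α) a = b := hg
    have hcomm := hc (g : Equiv.Perm α) g.2
    rw [← hg']
    have : (c * (g : Equiv.Perm α)) a = ((g : Equiv.Perm α) * c) a := by rw [hcomm]
    simpa [Equiv.Perm.mul_apply, hca] using this
  refine ⟨key1, ?_, ?_⟩
  · intro htr a
    rw [eq_bot_iff]
    intro g hg
    rw [MulAction.mem_stabilizer_iff] at hg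
    have hg' : (g : Equiv.Perm α) a = a := hg
    rw [Subgroup.mem_bot]
    apply Subtype.ext
    ext b
    obtain ⟨c, hc⟩ := MulAction.exists_smul_eq (Subgroup.centralizer (G : Set (Equiv.Perm α))) a b
    have hc' : (c : Equiv.Perm α) a = b := hc
    have hcomm := c.2 (g : Equiv.Perm α) g.2
    have : ((g : Equiv.Perm α) * (c : Equiv.Perm α)) a = ((c : Equiv.Perm α) * (g : Equiv.Perm α)) a := by rw [hcomm]
    rw [← hc']
    simpa [Equiv.Perm.mul_apply, hg'] using this
  · intro hstab
    have uniq : ∀ (a : α) (g h : G), (g : Equiv.Perm α) a = (h : Equiv.Perm α) a → g = h := by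
      intro a g h hgh
      have : g⁻¹ * h ∈ MulAction.stabilizer G a := by
        rw [MulAction.mem_stabilizer_iff]
        show ((g⁻¹ * h : G) : Equiv.Perm α) a = a
        simp [Equiv.Perm.mul_apply, ← hgh]
      rw [hstab a, Subgroup.mem_bot] at this
      exact (inv_mul_eq_one.mp this)
    choose! γ hγ using fun (a x : α) => MulAction.exists_smul_eq G a x
    have hγ' : ∀ a x, (γ a x : Equiv.Perm α) a = x := hγ
    have hφ : ∀ a b x, (γ b ((γ a x : Equiv.Perm α) b) : Equiv.Perm α) a = x := by
      intro a b x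
      have h1 : γ b ((γ a x : Equiv.Perm α) b) = γ a x := uniq b _ _ (hγ' b _)
      rw [h1]; exact hγ' a x
    constructor
    intro a b
    refine ⟨⟨⟨fun x => (γ a x : Equiv.Perm α) b, fun x => (γ b x : Equiv.Perm α) a, hφ a b, hφ b a⟩, ?_⟩, ?_⟩
    · rw [Subgroup.mem_centralizer_iff]
      intro h hh
      ext x
      simp only [Equiv.Perm.mul_apply, Equiv.coe_fn_mk]
      have : γ a (h x) = ⟨h, hh⟩ * γ a x := uniq a _ _ (by
        rw [hγ']
        show h x = (h * (γ a x : Equiv.Perm α)) a
        rw [Equiv.Perm.mul_apply, hγ'])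
      rw [this]
      rfl
    · show (γ a a : Equiv.Perm α) b = b
      have : γ a a = 1 := uniq a _ _ (by rw [hγ']; rfl)
      rw [this]; rfl

end Cfsg.Agent.S0701
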