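import Cfsg.Statements.S0703
import Cfsg.Agent.Helper4.TransitiveMinNormal

set_option autoImplicit false
open Cfsg

namespace Cfsg.Agent.S0703

/-- An abelian transitive minimal normal subgroup `M` of a permutation group on a finite set is self-centralising in the symmetric group, regular, elementary abelian, and is the unique minimal normal subgroup. -/
theorem result {α : Type*} [Finite α] (G : Subgroup (Equiv.Perm α)) (M : Subgroup G) [M.Normal] (hM : M ≠ ⊥) (hmin : ∀ L : Subgroup G, L.Normal → L ≤ M → L = ⊥ ∨ L = M) (hab : IsMulCommutative M) (htrans : MulAction.IsPretransitive M α) : Subgroup.centralizer ((M.map G.subtype : Subgroup (Equiv.Perm α)) : Set (Equiv.Perm α)) = M.map G.subtype ∧ (∀ a : α, MulAction.stabilizer M a = ⊥) ∧ (∃ p : ℕ, p.Prime ∧ ∀ m ∈ M, m ^ p = 1) ∧ ∀ L : Subgroup G, L.Normal → L ≠ ⊥ → (∀ L' : Subgroup G, L'.Normal → L' ≤ L → L' = ⊥ ∨ L' = L) → L = M := by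
  classical
  haveI := htrans
  haveI hMt' := Cfsg.Agent.Helper4.isPretransitive_map_subtype G M
  haveI hne : Nonempty α := Cfsg.Agent.Helper4.nonempty_of_ne_bot G M hM
  have hcommM : ∀ a ∈ M, ∀ b ∈ M, a * b = b * a := by
    intro a ha b hb
    have := hab.is_comm.comm (⟨a, ha⟩ : M) ⟨b, hb⟩
    exact congrArg Subtype.val this
  have hCM : ∀ c ∈ Subgroup.centralizer ((M.map G.subtype : Subgroup (Equiv.Perm α)) : Set (Equiv.Perm α)),
      ∀ a : α, c • a = a → c = 1 := by
    intro c hc a ha
    exact Cfsg.Agent.Helper4.eq_one_of_commute_transitive (M.map G.subtype) c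
      (fun k hk => (hc k hk).symm) a ha
  have hMle : M.map G.subtype ≤
      Subgroup.centralizer ((M.map G.subtype : Subgroup (Equiv.Perm α)) : Set (Equiv.Perm α)) := by
    rintro _ ⟨m, hm, rfl⟩ _ ⟨m', hm', rfl⟩
    exact congrArg Subtype.val (hcommM m' hm' m hm)
  have hCMeq : Subgroup.centralizer ((M.map G.subtype : Subgroup (Equiv.Perm α)) : Set (Equiv.Perm α)) =
      M.map G.subtype :=
    (Cfsg.Agent.Helper4.eq_of_le_transitive_semiregular _ _ hMle hCM).symm
  refine ⟨hCMeq, ?_, ?_, ?_⟩
  · intro a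
    rw [Subgroup.eq_bot_iff_forall]
    intro m hm
    rw [MulAction.mem_stabilizer_iff] at hm
    have h1 := hCM ((m : G) : Equiv.Perm α) (hMle ⟨(m : G), m.2, rfl⟩) a hm
    exact Subtype.ext (Subtype.ext h1)
  · haveI hMnt : Nontrivial M := (Subgroup.nontrivial_iff_ne_bot _).mpr hM
    obtain ⟨p, hp, hpM⟩ := Nat.exists_prime_and_dvd (Finite.one_lt_card (α := M)).ne'
    haveI : Fact p.Prime := ⟨hp⟩
    let R : Subgroup G :=
      { carrier := {x | x ∈ M ∧ x ^ p = 1}
        mul_mem' := by
          rintro a b ⟨ha, hap⟩ ⟨hb, hbp⟩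
          refine ⟨M.mul_mem ha hb, ?_⟩
          have hc : Commute a b := hcommM a ha b hb
          rw [hc.mul_pow, hap, hbp, one_mul]
        one_mem' := ⟨M.one_mem, one_pow p⟩
        inv_mem' := by
          rintro a ⟨ha, hap⟩
          exact ⟨M.inv_mem ha, by rw [inv_pow, hap, inv_one]⟩ }
    have hRn : R.Normal := ⟨fun x hx g => ⟨(inferInstance : M.Normal).conj_mem x hx.1 g, by
      rw [conj_pow, hx.2, mul_one, mul_inv_cancel]⟩⟩
    have hRne : R ≠ ⊥ := by
      obtain ⟨x, hx⟩ := exists_prime_orderOf_dvd_card' p hpM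
      intro h
      have hxR : (x : G) ∈ R := ⟨x.2, by
        have : x ^ p = 1 := by rw [← hx]; exact pow_orderOf_eq_one x
        exact_mod_cast congrArg Subtype.val this⟩
      rw [h, Subgroup.mem_bot] at hxR
      have hx1 : x = 1 := Subtype.ext hxR
      rw [hx1, orderOf_one] at hx
      exact hp.one_lt.ne hx
    have hRM : R = M := (hmin R hRn (fun x hx => hx.1)).resolve_left hRne
    refine ⟨p, hp, fun m hm => ?_⟩
    have : m ∈ R := by rw [hRM]; exact hm
    exact this.2
  · intro L hLn hL1 hLmin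
    by_contra hLM
    haveI := hLn
    have hdisj2 : Disjoint L M :=
      Cfsg.Agent.Helper4.disjoint_of_minNormal_ne L M hL1 hLmin hmin hLM
    have hLle : L.map G.subtype ≤ M.map G.subtype := by
      rw [← hCMeq]
      rintro _ ⟨l, hl, rfl⟩ _ ⟨m, hm, rfl⟩
      have := (Subgroup.commute_of_normal_of_disjoint L M inferInstance inferInstance hdisj2 l m
        hl hm).eq
      exact congrArg Subtype.val this.symm
    have hLle' : L ≤ M := by
      intro l hl
      rw [← Cfsg.Agent.Helper4.mem_map_subtype_iff G M]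
      exact hLle ⟨l, hl, rfl⟩
    rcases hmin L hLn hLle' with h | h
    · exact hL1 h
    · exact hLM h

end Cfsg.Agent.S0703
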