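import Cfsg.Statements.S0704
import Cfsg.Agent.Helper4.TransitiveMinNormal

set_option autoImplicit false
open Cfsg

namespace Cfsg.Agent.S0704

/-- Two distinct transitive minimal normal subgroups `M`, `N` of a permutation group are regular, non-abelian, isomorphic, each other's centraliser in the symmetric group, and the only minimal normal subgroups. -/
theorem result {α : Type*} (G : Subgroup (Equiv.Perm α)) (M N : Subgroup G) [M.Normal] [N.Normal] (hM : M ≠ ⊥) (hN : N ≠ ⊥) (hMmin : ∀ L : Subgroup G, L.Normal → L ≤ M → L = ⊥ ∨ L = M) (hNmin : ∀ L : Subgroup G, L.Normal → L ≤ N → L = ⊥ ∨ L = N) (hMN : M ≠ N) (hMt : MulAction.IsPretransitive M α) (hNt : MulAction.IsPretransitive N α) : (∀ a : α, MulAction.stabilizer M a = ⊥) ∧ (∀ a : α, MulAction.stabilizer N a = ⊥) ∧ ¬ IsMulCommutative M ∧ Nonempty (M ≃* N) ∧ Subgroup.centralizer ((M.map G.subtype : Subgroup (Equiv.Perm α)) : Set (Equiv.Perm α)) = N.map G.subtype ∧ Subgroup.centralizer ((N.map G.subtype : Subgroup (Equiv.Perm α)) : Set (Equiv.Perm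 α)) = M.map G.subtype ∧ ∀ L : Subgroup G, L.Normal → L ≠ ⊥ → (∀ L' : Subgroup G, L'.Normal → L' ≤ L → L' = ⊥ ∨ L' = L) → L = M ∨ L = N := by
  classical
  haveI := hMt
  haveI := hNt
  haveI hMt' := Cfsg.Agent.Helper4.isPretransitive_map_subtype G M
  haveI hNt' := Cfsg.Agent.Helper4.isPretransitive_map_subtype G N
  haveI hne : Nonempty α := Cfsg.Agent.Helper4.nonempty_of_ne_bot G M hM
  have hdisj : Disjoint M N :=
    Cfsg.Agent.Helper4.disjoint_of_minNormal_ne M N hM hMmin hNmin hMN
  have hcomm : ∀ m ∈ M, ∀ n ∈ N, m * n = n * m := fun m hm n hn =>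
    (Subgroup.commute_of_normal_of_disjoint M N inferInstance inferInstance hdisj m n hm hn).eq
  have hcomm' : ∀ m ∈ M.map G.subtype, ∀ n ∈ N.map G.subtype, m * n = n * m := by
    rintro _ ⟨m, hm, rfl⟩ _ ⟨n, hn, rfl⟩
    exact congrArg Subtype.val (hcomm m hm n hn)
  -- centralizers are semiregular
  have hCM : ∀ c ∈ Subgroup.centralizer ((M.map G.subtype : Subgroup (Equiv.Perm α)) : Set (Equiv.Perm α)),
      ∀ a : α, c • a = a → c = 1 := by
    intro c hc a ha
    exact Cfsg.Agent.Helper4.eq_one_of_commute_transitive (M.map G.subtype) c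
      (fun k hk => (hc k hk).symm) a ha
  have hCN : ∀ c ∈ Subgroup.centralizer ((N.map G.subtype : Subgroup (Equiv.Perm α)) : Set (Equiv.Perm α)),
      ∀ a : α, c • a = a → c = 1 := by
    intro c hc a ha
    exact Cfsg.Agent.Helper4.eq_one_of_commute_transitive (N.map G.subtype) c
      (fun k hk => (hc k hk).symm) a ha
  have hNle : N.map G.subtype ≤
      Subgroup.centralizer ((M.map G.subtype : Subgroup (Equiv.Perm α)) : Set (Equiv.Perm α)) := by
    intro n hn m hm
    exact hcomm' m hm n hn
  have hMle : M.map G.subtype ≤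
      Subgroup.centralizer ((N.map G.subtype : Subgroup (Equiv.Perm α)) : Set (Equiv.Perm α)) := by
    intro m hm n hn
    exact (hcomm' m hm n hn).symm
  have hCMeq : Subgroup.centralizer ((M.map G.subtype : Subgroup (Equiv.Perm α)) : Set (Equiv.Perm α)) =
      N.map G.subtype :=
    (Cfsg.Agent.Helper4.eq_of_le_transitive_semiregular _ _ hNle hCM).symm
  have hCNeq : Subgroup.centralizer ((N.map G.subtype : Subgroup (Equiv.Perm α)) : Set (Equiv.Perm α)) =
      M.map G.subtype :=
    (Cfsg.Agent.Helper4.eq_of_le_transitive_semiregular _ _ hMle hCN).symm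
  have hMsemi : ∀ m ∈ M.map G.subtype, ∀ a : α, m • a = a → m = 1 := fun m hm a ha =>
    hCN m (hMle hm) a ha
  have hNsemi : ∀ n ∈ N.map G.subtype, ∀ a : α, n • a = a → n = 1 := fun n hn a ha =>
    hCM n (hNle hn) a ha
  refine ⟨?_, ?_, ?_, ?_, hCMeq, hCNeq, ?_⟩
  · intro a
    rw [Subgroup.eq_bot_iff_forall]
    intro m hm
    rw [MulAction.mem_stabilizer_iff] at hm
    have h1 := hMsemi ((m : G) : Equiv.Perm α) ⟨(m : G), m.2, rfl⟩ a hm
    exact Subtype.ext (Subtype.ext h1)
  · intro a
    rw [Subgroup.eq_bot_iff_forall]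
    intro n hn
    rw [MulAction.mem_stabilizer_iff] at hn
    have h1 := hNsemi ((n : G) : Equiv.Perm α) ⟨(n : G), n.2, rfl⟩ a hn
    exact Subtype.ext (Subtype.ext h1)
  · intro hab
    have hle : M.map G.subtype ≤ N.map G.subtype := by
      rw [← hCMeq]
      rintro _ ⟨m, hm, rfl⟩ _ ⟨m', hm', rfl⟩
      have := hab.is_comm.comm (⟨m', hm'⟩ : M) ⟨m, hm⟩
      exact congrArg (fun t : M => ((t : G) : Equiv.Perm α)) this
    have hle' : M ≤ N := by
      intro m hm
      rw [← Cfsg.Agent.Helper4.mem_map_subtype_iff G N]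
      exact hle ⟨m, hm, rfl⟩
    rcases hNmin M inferInstance hle' with h | h
    · exact hM h
    · exact hMN h
  · obtain ⟨a⟩ := hne
    obtain ⟨e⟩ := Cfsg.Agent.Helper4.nonempty_mulEquiv_of_commuting_regular (M.map G.subtype)
      (N.map G.subtype) hcomm' hMsemi hNsemi a
    exact ⟨((Subgroup.equivMapOfInjective M G.subtype G.subtype_injective).trans e).trans
      (Subgroup.equivMapOfInjective N G.subtype G.subtype_injective).symm⟩
  · intro L hLn hL1 hLmin
    by_cases hLM : L = M
    · exact Or.inl hLM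
    · right
      haveI := hLn
      have hdisj2 : Disjoint L M :=
        Cfsg.Agent.Helper4.disjoint_of_minNormal_ne L M hL1 hLmin hMmin hLM
      have hLle : L.map G.subtype ≤ N.map G.subtype := by
        rw [← hCMeq]
        rintro _ ⟨l, hl, rfl⟩ _ ⟨m, hm, rfl⟩
        have := (Subgroup.commute_of_normal_of_disjoint L M inferInstance inferInstance hdisj2 l m
          hl hm).eq
        exact congrArg Subtype.val this.symm
      have hLle' : L ≤ N := by
        intro l hl
        rw [← Cfsg.Agent.Helper4.mem_map_subtype_iff G N]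
        exact hLle ⟨l, hl, rfl⟩
      rcases hNmin L hLn hLle' with h | h
      · exact absurd h hL1
      · exact h

end Cfsg.Agent.S0704
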