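import Cfsg.Statements.S0705
import Cfsg.Agent.Helper4.StepwiseTransitive

set_option autoImplicit false
open scoped Pointwise
open Cfsg

namespace Cfsg.Agent.S0705

/-- A generously `k`-transitive permutation group (every `(k+1)`-subset has its full symmetric group induced by the setwise stabiliser) of degree greater than `k` is `k`-transitive, and for a `k`-subset the setwise and pointwise stabilisers have the same orbits outside it. -/
theorem result {α : Type*} [Fintype α] [DecidableEq α] (G : Subgroup (Equiv.Perm α)) {k : ℕ} (hk : k < Fintype.card α) (hgen : ∀ s : Finset α, s.card = k + 1 → ∀ σ : Equiv.Perm ↥s, ∃ g ∈ G, ∀ x : ↥s, g (x : α) = σ x) : MulAction.IsMultiplyPretransitive G α k ∧ ∀ s : Finset α, s.card = k → ∀ a b : α, a ∉ s → b ∉ s → (∃ g ∈ G, g • s = s ∧ g a = b) → ∃ g ∈ G, (∀ x ∈ s, g x = x) ∧ g a = b := by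
  classical
  constructor
  · apply Cfsg.Agent.Helper4.isMultiplyPretransitive_of_fixing_transitive
    intro t ht a b ha hb
    by_cases hab : a = b
    · exact ⟨1, fun z _ => one_smul _ z, by rw [one_smul, hab]⟩
    have hu₀ : (insert a (insert b t)).card ≤ k + 1 := by
      have hb' : b ∉ t := hb
      have ha' : a ∉ insert b t := by
        rw [Finset.mem_insert, not_or]; exact ⟨hab, ha⟩
      rw [Finset.card_insert_of_notMem ha', Finset.card_insert_of_notMem hb']
      omega
    obtain ⟨u, hsub, hucard⟩ := Finset.exists_superset_card_eq hu₀ (by omega : k + 1 ≤ Fintype.card α)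
    have hau : a ∈ u := hsub (Finset.mem_insert_self _ _)
    have hbu : b ∈ u := hsub (Finset.mem_insert_of_mem (Finset.mem_insert_self _ _))
    have htu : t ⊆ u := fun z hz =>
      hsub (Finset.mem_insert_of_mem (Finset.mem_insert_of_mem hz))
    obtain ⟨g, hgG, hg⟩ := hgen u hucard (Equiv.swap ⟨a, hau⟩ ⟨b, hbu⟩)
    refine ⟨⟨g, hgG⟩, ?_, ?_⟩
    · intro z hz
      show g z = z
      have := hg ⟨z, htu hz⟩
      rw [Equiv.swap_apply_of_ne_of_ne] at this
      · exact this
      · intro h
        have hza : z = a := congrArg Subtype.val h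
        exact ha (hza ▸ hz)
      · intro h
        have hzb : z = b := congrArg Subtype.val h
        exact hb (hzb ▸ hz)
    · show g a = b
      have := hg ⟨a, hau⟩
      rw [Equiv.swap_apply_left] at this
      exact this
  · intro s hs a b ha hb hex
    obtain ⟨g, hgG, hgs, hgab⟩ := hex
    have hgmem : ∀ z ∈ s, g z ∈ s := by
      intro z hz
      rw [← hgs]
      exact Finset.smul_mem_smul_finset hz
    have hginvmem : ∀ z ∈ s, g⁻¹ z ∈ s := by
      intro z hz
      rw [← hgs] at hz
      obtain ⟨y, hy, hyz⟩ := Finset.mem_smul_finset.1 hz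
      have : g⁻¹ z = y := by
        rw [← hyz]; simp
      rw [this]; exact hy
    have hginvb : g⁻¹ b = a := by rw [← hgab]; simp
    obtain ⟨f, hf⟩ : ∃ f : Equiv.Perm α, f = Equiv.swap a b * g⁻¹ := ⟨_, rfl⟩
    have hfs : ∀ z ∈ s, f z = g⁻¹ z := by
      intro z hz
      rw [hf, Equiv.Perm.mul_apply]
      apply Equiv.swap_apply_of_ne_of_ne
      · intro h; exact ha (h ▸ hginvmem z hz)
      · intro h; exact hb (h ▸ hginvmem z hz)
    have hfb : f b = b := by
      rw [hf, Equiv.Perm.mul_apply, hginvb, Equiv.swap_apply_left]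
    have hfu : ∀ x, f x ∈ insert b s ↔ x ∈ insert b s := by
      intro x
      constructor
      · intro hx
        rw [Finset.mem_insert] at hx ⊢
        rcases hx with hx | hx
        · left
          exact f.injective (hx.trans hfb.symm)
        · right
          -- x = g (f x)
          have h1 : f x ≠ a := fun h => ha (h ▸ hx)
          have h2 : f x ≠ b := fun h => hb (h ▸ hx)
          have h3 : g⁻¹ x = f x := by
            have : f x = Equiv.swap a b (g⁻¹ x) := by rw [hf, Equiv.Perm.mul_apply]
            have h4 : Equiv.swap a b (f x) = g⁻¹ x := by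
              rw [this, Equiv.swap_apply_self]
            rw [← h4, Equiv.swap_apply_of_ne_of_ne h1 h2]
          have h5 : x = g (f x) := by rw [← h3]; simp
          rw [h5]
          exact hgmem _ hx
      · intro hx
        rw [Finset.mem_insert] at hx ⊢
        rcases hx with hx | hx
        · left; rw [hx, hfb]
        · right; rw [hfs x hx]; exact hginvmem x hx
    have hucard : (insert b s).card = k + 1 := by
      rw [Finset.card_insert_of_notMem hb, hs]
    obtain ⟨g', hg'G, hg'⟩ := hgen (insert b s) hucard (f.subtypePerm hfu)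
    refine ⟨g' * g, G.mul_mem hg'G hgG, ?_, ?_⟩
    · intro z hz
      rw [Equiv.Perm.mul_apply]
      have h1 := hg' ⟨g z, Finset.mem_insert_of_mem (hgmem z hz)⟩
      rw [Equiv.Perm.subtypePerm_apply] at h1
      have h2 : g' (g z) = f (g z) := h1
      rw [h2, hfs (g z) (hgmem z hz)]
      simp
    · rw [Equiv.Perm.mul_apply, hgab]
      have h1 := hg' ⟨b, Finset.mem_insert_self _ _⟩
      rw [Equiv.Perm.subtypePerm_apply] at h1
      have h2 : g' b = f b := h1
      rw [h2, hfb]

end Cfsg.Agent.S0705
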