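import Mathlib
import Cfsg.Statements.S0707

set_option autoImplicit false
open Cfsg

namespace Cfsg.Agent.S0707

/-- In a primitive permutation group, distinct points have distinct stabilisers unless the group is regular of prime degree. -/
theorem result {α : Type*} (G : Subgroup (Equiv.Perm α)) [MulAction.IsPreprimitive G α] (h : ¬ (Nat.card α).Prime ∨ ∃ a : α, MulAction.stabilizer G a ≠ ⊥) {a b : α} (hab : a ≠ b) : MulAction.stabilizer G a ≠ MulAction.stabilizer G b := by
  intro heq
  have hnt : Nontrivial α := ⟨⟨a, b, hab⟩⟩
  have htr : MulAction.IsPretransitive G α := MulAction.IsPreprimitive.toIsPretransitive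
  set H := MulAction.stabilizer G a with hH
  have hco : IsCoatom H := MulAction.IsPreprimitive.isCoatom_stabilizer_of_isPreprimitive (G := ↥G) a
  obtain ⟨g, hg⟩ := MulAction.exists_smul_eq G a b
  have hconj : ∀ k : ↥G, MulAction.stabilizer G (k • a) = H.map (MulAut.conj k).toMonoidHom :=
    fun k => MulAction.stabilizer_smul_eq_stabilizer_map_conj k a
  have hgH : H.map (MulAut.conj g).toMonoidHom = H := by
    rw [← hconj g, hg, ← heq]
  have hgN : g ∈ Subgroup.normalizer (H : Set ↥G) := by
    rw [Subgroup.mem_normalizer_iff]
    intro x
    constructor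
    · intro hx
      rw [← hgH]
      exact ⟨x, hx, rfl⟩
    · intro hx
      rw [← hgH] at hx
      obtain ⟨y, hy, hyx⟩ := hx
      have : y = x := by
        have h1 : g * y * g⁻¹ = g * x * g⁻¹ := hyx
        exact mul_right_cancel (mul_left_cancel h1)
      rw [← this]; exact hy
  rcases eq_or_lt_of_le (Subgroup.le_normalizer (H := H)) with h1 | h1
  · -- self-normalizing
    rw [← h1] at hgN
    exact hab ((MulAction.mem_stabilizer_iff.mp hgN).symm.trans hg)
  · -- normal
    have htop := hco.2 _ h1
    have hnorm : ∀ k : ↥G, MulAction.stabilizer G (k • a) = H := by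
      intro k
      rw [hconj k]
      have hk : k ∈ Subgroup.normalizer (H : Set ↥G) := by rw [htop]; trivial
      apply le_antisymm
      · rintro _ ⟨y, hy, rfl⟩
        exact (Subgroup.mem_normalizer_iff.mp hk y).mp hy
      · intro y hy
        refine ⟨k⁻¹ * y * k, ?_, ?_⟩
        · have := (Subgroup.mem_normalizer_iff.mp (inv_mem hk) y).mp hy
          rwa [inv_inv] at this
        · change k * (k⁻¹ * y * k) * k⁻¹ = y
          group
    have hstab : ∀ c : α, MulAction.stabilizer G c = H := by
      intro c
      obtain ⟨k, hk⟩ := MulAction.exists_smul_eq G a c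
      rw [← hk]; exact hnorm k
    have hbot : H = ⊥ := by
      rw [eq_bot_iff]
      intro y hy
      rw [Subgroup.mem_bot]
      apply Subtype.ext
      apply Equiv.ext
      intro c
      have : y ∈ MulAction.stabilizer G c := by rw [hstab c]; exact hy
      exact MulAction.mem_stabilizer_iff.mp this
    rw [hbot] at hco hstab
    rcases h with h | ⟨c, hc⟩
    · apply h
      -- `G` is simple cyclic
      have hg1 : g ≠ 1 := by
        rintro rfl
        rw [one_smul] at hg
        exact hab hg
      have hz : Subgroup.zpowers g = ⊤ := by
        apply hco.2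
        rw [bot_lt_iff_ne_bot]
        intro hzb
        apply hg1
        have : g ∈ Subgroup.zpowers g := Subgroup.mem_zpowers g
        rw [hzb, Subgroup.mem_bot] at this
        exact this
      have hcyc : IsCyclic ↥G := ⟨g, fun y => by
        have : y ∈ Subgroup.zpowers g := by rw [hz]; trivial
        exact this⟩
      let _ : CommGroup ↥G := hcyc.commGroup
      have hnG : Nontrivial ↥G := ⟨⟨g, 1, hg1⟩⟩
      have hsimp : IsSimpleGroup ↥G := by
        refine ⟨fun K _ => ?_⟩
        rcases eq_or_lt_of_le (bot_le (a := K)) with h2 | h2
        · left; exact h2.symm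
        · right; exact hco.2 _ h2
      have hprime : (Nat.card ↥G).Prime := IsSimpleGroup.prime_card
      have hequiv : Nat.card ↥G = Nat.card α := by
        apply Nat.card_congr
        refine Equiv.ofBijective (fun k : ↥G => k • a) ⟨?_, ?_⟩
        · intro k k' hkk
          have h3 : (k'⁻¹ * k) • a = a := by
            have hkk' : k • a = k' • a := hkk
            rw [mul_smul, hkk', inv_smul_smul]
          have h4 : k'⁻¹ * k ∈ MulAction.stabilizer G a := MulAction.mem_stabilizer_iff.mpr h3
          rw [hstab a, Subgroup.mem_bot] at h4
          have : k = k' * (k'⁻¹ * k) := by group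
          rw [this, h4, mul_one]
        · intro c
          exact MulAction.exists_smul_eq G a c
      rw [← hequiv]; exact hprime
    · exact hc (hstab c)

end Cfsg.Agent.S0707
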