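import Mathlib
import Cfsg.Statements.S0710
import Cfsg.Agent.Helper2.PermPrime
import Cfsg.Agent.Helper2.SmallOrder
import Cfsg.Agent.Helper2.SylowExact

set_option autoImplicit false
open Cfsg

namespace Cfsg.Agent.S0710

open Cfsg.Agent.Helper2

/-- No transitive permutation group on 13 points has order `13 * 12 * 11 * 10 * 9 * 8`. -/
theorem result {α : Type*} [Fintype α] [DecidableEq α] (hα : Fintype.card α = 13) (G : Subgroup (Equiv.Perm α)) [MulAction.IsPretransitive G α] : Nat.card G ≠ 13 * 12 * 11 * 10 * 9 * 8 := by
    intro hG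
    have hfp : Fact (Nat.Prime 13) := ⟨by norm_num⟩
    let P : Sylow 13 G := default
    have hPcard : Nat.card P = 13 :=
      SylowExact.card_sylow_of_exact (m := 95040) (by rw [hG]) (by norm_num) P
    have hfp' : Fact (Nat.card (P : Subgroup G)).Prime := by rw [hPcard]; exact hfp
    have hPc : IsCyclic (P : Subgroup G) := isCyclic_of_prime_card rfl
    have hrel := SmallOrder.relIndex_centralizer_normalizer_dvd (P : Subgroup G) hPc
    rw [hPcard] at hrel
    have ht : Nat.totient 13 = 12 := by decide
    rw [ht] at hrel
    have hCN : Subgroup.centralizer ((P : Subgroup G) : Set G) ≤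
        Subgroup.normalizer ((P : Subgroup G) : Set G) := Subgroup.centralizer_le_normalizer _
    have hmul := Subgroup.relIndex_mul_relIndex _ _ _ (bot_le (a := Subgroup.centralizer ((P : Subgroup G) : Set G))) hCN
    rw [Subgroup.relIndex_bot_left, Subgroup.relIndex_bot_left] at hmul
    obtain ⟨x, hx⟩ := exists_prime_orderOf_dvd_card' 13
      (show 13 ∣ Nat.card (P : Subgroup G) by rw [hPcard])
    have hσ : orderOf (((x : G) : Equiv.Perm α)) = 13 := by
      rw [Subgroup.orderOf_coe, Subgroup.orderOf_coe]; exact hx
    have hcent := PermPrime.card_centralizer_of_orderOf_prime (p := 13) (by norm_num) hσ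
      (by rw [hα]; norm_num)
    have hCle : (Subgroup.centralizer ((P : Subgroup G) : Set G)).map G.subtype ≤
        Subgroup.centralizer {((x : G) : Equiv.Perm α)} := by
      rintro _ ⟨c, hc, rfl⟩
      rw [Subgroup.mem_centralizer_iff]
      intro y hy
      rw [Set.mem_singleton_iff] at hy
      rw [hy]
      have := Subgroup.mem_centralizer_iff.mp hc (x : G) x.2
      exact congrArg Subtype.val this
    have hCd : Nat.card (Subgroup.centralizer ((P : Subgroup G) : Set G)) ∣ 13 := by
      have h1 := Subgroup.card_dvd_of_le hCle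
      rw [Subgroup.card_map_of_injective G.subtype_injective, hcent] at h1
      exact h1
    have hNd : Nat.card (Subgroup.normalizer ((P : Subgroup G) : Set G)) ∣ 156 := by
      rw [← hmul]; exact Nat.mul_dvd_mul hCd hrel
    have hNS := SmallOrder.card_normalizer_mul_card_sylow P
    rw [hG] at hNS
    have hmod : Nat.card (Sylow 13 G) % 13 = 1 % 13 := card_sylow_modEq_one 13 G
    have hmem : Nat.card (Subgroup.normalizer ((P : Subgroup G) : Set G)) ∈ Nat.divisors 156 :=
      Nat.mem_divisors.mpr ⟨hNd, by norm_num⟩
    have hdiv : Nat.divisors 156 = {1, 2, 3, 4, 6, 12, 13, 26, 39, 52, 78, 156} := by decide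
    rw [hdiv] at hmem
    simp only [Finset.mem_insert, Finset.mem_singleton] at hmem
    rcases hmem with h | h | h | h | h | h | h | h | h | h | h | h <;> rw [h] at hNS <;> omega

end Cfsg.Agent.S0710
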