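import Mathlib
import Cfsg.Statements.S0717
import Cfsg.Agent.Helper2.GenTransD

set_option autoImplicit false
open Cfsg

namespace Cfsg.Agent.S0717

open Cfsg.Agent.Helper2

/-- All suborbits of a transitive group are self-paired (every pair of points is interchanged by some group element) if and only if the permutation character is multiplicity-free and each of its irreducible constituents is real-valued. -/
theorem result {G : Type*} [Group G] [Fintype G] {Ω : Type*} [Fintype Ω] [MulAction G Ω] [MulAction.IsPretransitive G Ω] : (∀ a b : Ω, ∃ g : G, g • a = b ∧ g • b = a) ↔ ∀ χ : G → ℂ, Cfsg.IsIrrCharacter G χ → Cfsg.classInner (fun g : G => (Nat.card (MulAction.fixedBy Ω g) : ℂ)) χ ≠ 0 → Cfsg.classInner (fun g : G => (Nat.card (MulAction.fixedBy Ω g) : ℂ)) χ = 1 ∧ ∀ g : G, (starRingEnd ℂ) (χ g) = χ g := by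
    classical
    haveI : Finite (Cfsg.IrrCharacter G) := Cfsg.Agent.Helper6.irr_finite
    haveI : Fintype (Cfsg.IrrCharacter G) := Fintype.ofFinite _
    constructor
    · intro h χ hχ hne
      refine GenTrans.mult_free_real_of_swap (Ω := Ω) ?_ χ hχ hne
      intro p
      obtain ⟨g, hg1, hg2⟩ := h p.1 p.2
      exact ⟨g, Prod.ext hg1 hg2⟩
    · intro H a b
      obtain ⟨s, hs⟩ := GenTrans.swap_of_mult_free_real (Ω := Ω) H (a, b)
      rw [Prod.ext_iff] at hs
      exact ⟨s, hs.1, hs.2⟩

end Cfsg.Agent.S0717
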