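import Mathlib
import Cfsg.Statements.S0718
import Cfsg.Agent.Helper2.CommEndB

set_option autoImplicit false
open Cfsg

namespace Cfsg.Agent.S0718

open Cfsg.Agent.Helper2

/-- Multiplicity-freeness of the permutation character is equivalent to commutativity of the centraliser ring, i.e. of the algebra of `G`-equivariant endomorphisms of the complex permutation module. -/
theorem result {G : Type*} [Group G] [Fintype G] {Ω : Type*} [Fintype Ω] [MulAction G Ω] : (∀ χ : G → ℂ, Cfsg.IsIrrCharacter G χ → Cfsg.classInner (fun g : G => (Nat.card (MulAction.fixedBy Ω g) : ℂ)) χ = 0 ∨ Cfsg.classInner (fun g : G => (Nat.card (MulAction.fixedBy Ω g) : ℂ)) χ = 1) ↔ ∀ S T : (Ω → ℂ) →ₗ[ℂ] (Ω → ℂ), S ∈ ((Cfsg.permRep ℂ G Ω).linHom (Cfsg.permRep ℂ G Ω)).invariants → T ∈ ((Cfsg.permRep ℂ G Ω).linHom (Cfsg.permRep ℂ G Ω)).invariants → S ∘ₗ T = T ∘ₗ S := by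
    classical
    have hchar : (Cfsg.permRep ℂ G Ω).character =
        (fun g : G => (Nat.card (MulAction.fixedBy Ω g) : ℂ)) := funext CommEnd.permRep_character
    rw [← hchar]
    constructor
    · intro h S T hS hT
      let S' := Representation.invariantsEquivIntertwiningMap (Cfsg.permRep ℂ G Ω)
        (Cfsg.permRep ℂ G Ω) ⟨S, hS⟩
      let T' := Representation.invariantsEquivIntertwiningMap (Cfsg.permRep ℂ G Ω)
        (Cfsg.permRep ℂ G Ω) ⟨T, hT⟩
      apply LinearMap.ext
      intro v
      exact CommEnd.comm_of_multfree (Cfsg.permRep ℂ G Ω) h S' T' v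
    · intro hcomm χ hχ
      obtain ⟨n, σ, hσ, rfl⟩ := hχ
      rw [Cfsg.Agent.Helper6.classInner_eq_finrank_intertwining σ (Cfsg.permRep ℂ G Ω)]
      have key := CommEnd.finrank_le_one_of_comm (Cfsg.permRep ℂ G Ω) σ hσ (by
        intro S T v
        have hS : S.toLinearMap ∈ ((Cfsg.permRep ℂ G Ω).linHom (Cfsg.permRep ℂ G Ω)).invariants :=
          ((Representation.invariantsEquivIntertwiningMap (Cfsg.permRep ℂ G Ω)
            (Cfsg.permRep ℂ G Ω)).symm S).2
        have hT : T.toLinearMap ∈ ((Cfsg.permRep ℂ G Ω).linHom (Cfsg.permRep ℂ G Ω)).invariants :=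
          ((Representation.invariantsEquivIntertwiningMap (Cfsg.permRep ℂ G Ω)
            (Cfsg.permRep ℂ G Ω)).symm T).2
        exact LinearMap.congr_fun (hcomm S.toLinearMap T.toLinearMap hS hT) v)
      rcases key with h0 | h1
      · left
        rw [h0, Nat.cast_zero]
      · right
        rw [h1, Nat.cast_one]

end Cfsg.Agent.S0718
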