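import Cfsg.Statements.S0734
import Mathlib

set_option autoImplicit false
open Cfsg

namespace Cfsg.Agent.S0734

open scoped Pointwise

/-- Higman's criterion for primitivity: a transitive action on a finite set is primitive if and only if every non-trivial orbital graph (edges = images of a fixed pair of distinct points) is connected. -/
theorem result {G : Type*} [Group G] {Ω : Type*} [Finite Ω] [MulAction G Ω] [MulAction.IsPretransitive G Ω] [Nontrivial Ω] : MulAction.IsPreprimitive G Ω ↔ ∀ a b : Ω, a ≠ b → (SimpleGraph.fromRel fun x y : Ω => ∃ g : G, g • a = x ∧ g • b = y).Connected := by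
  classical
  constructor
  · intro hprim a b hab
    obtain ⟨Γ, hΓ⟩ : ∃ Γ : SimpleGraph Ω,
        Γ = SimpleGraph.fromRel fun x y : Ω => ∃ g : G, g • a = x ∧ g • b = y := ⟨_, rfl⟩
    rw [← hΓ]
    have hadj : ∀ (g : G) (x y : Ω), Γ.Adj x y → Γ.Adj (g • x) (g • y) := by
      intro g x y h
      rw [hΓ, SimpleGraph.fromRel_adj] at h ⊢
      obtain ⟨hne, h⟩ := h
      refine ⟨fun hh => hne (MulAction.injective g hh), ?_⟩
      rcases h with ⟨k, hk1, hk2⟩ | ⟨k, hk1, hk2⟩
      · left; exact ⟨g * k, by rw [mul_smul, hk1], by rw [mul_smul, hk2]⟩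
      · right; exact ⟨g * k, by rw [mul_smul, hk1], by rw [mul_smul, hk2]⟩
    have hreach : ∀ (g : G) (x y : Ω), Γ.Reachable x y → Γ.Reachable (g • x) (g • y) := by
      intro g x y h
      let φ : Γ →g Γ := ⟨fun z => g • z, fun {u v} huv => hadj g u v huv⟩
      exact h.map φ
    have hab' : Γ.Adj a b := by
      rw [hΓ, SimpleGraph.fromRel_adj]
      exact ⟨hab, Or.inl ⟨1, one_smul _ _, one_smul _ _⟩⟩
    let C : Set Ω := {x | Γ.Reachable a x}
    have hC : MulAction.IsBlock G C := by
      rw [MulAction.isBlock_iff_smul_eq_of_mem]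
      intro g x hx hgx
      have h1 : Γ.Reachable (g • a) (g • x) := hreach g a x hx
      have h2 : Γ.Reachable a (g • a) := hgx.trans h1.symm
      ext y
      rw [Set.mem_smul_set_iff_inv_smul_mem]
      constructor
      · intro hy
        have h3 : Γ.Reachable (g • a) (g • (g⁻¹ • y)) := hreach g _ _ hy
        rw [smul_inv_smul] at h3
        exact h2.trans h3
      · intro hy
        have h3 : Γ.Reachable (g • a) y := h2.symm.trans hy
        have h4 := hreach g⁻¹ _ _ h3
        rw [inv_smul_smul] at h4
        exact h4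
    have haC : a ∈ C := SimpleGraph.Reachable.refl a
    have hbC : b ∈ C := hab'.reachable
    rcases hprim.isTrivialBlock_of_isBlock hC with hsub | huniv
    · exact absurd (hsub haC hbC) hab
    · rw [SimpleGraph.connected_iff]
      refine ⟨?_, ⟨a⟩⟩
      intro u v
      have hu : u ∈ C := by rw [huniv]; exact Set.mem_univ _
      have hv : v ∈ C := by rw [huniv]; exact Set.mem_univ _
      exact (SimpleGraph.Reachable.symm hu).trans hv
  · intro hconn
    refine ⟨?_⟩
    intro B hB
    by_contra hcon
    unfold MulAction.IsTrivialBlock at hcon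
    rw [not_or] at hcon
    obtain ⟨hsub, huniv⟩ := hcon
    rw [Set.not_subsingleton_iff] at hsub
    obtain ⟨a, ha, b, hb, hab⟩ := hsub
    obtain ⟨c, hc⟩ := (Set.ne_univ_iff_exists_notMem B).1 huniv
    have hΓ := hconn a b hab
    have hstep : ∀ x y : Ω, x ∈ B →
        (SimpleGraph.fromRel fun x y : Ω => ∃ g : G, g • a = x ∧ g • b = y).Adj x y → y ∈ B := by
      intro x y hx hxy
      rw [SimpleGraph.fromRel_adj] at hxy
      obtain ⟨_, h⟩ := hxy
      rcases h with ⟨g, hg1, hg2⟩ | ⟨g, hg1, hg2⟩
      · have hgB : g • B = B := hB.smul_eq_of_mem ha (hg1 ▸ hx)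
        rw [← hgB, ← hg2]
        exact Set.smul_mem_smul_set hb
      · have hgB : g • B = B := hB.smul_eq_of_mem hb (hg2 ▸ hx)
        rw [← hgB, ← hg1]
        exact Set.smul_mem_smul_set ha
    have hreach := hΓ.preconnected a c
    rw [SimpleGraph.reachable_iff_reflTransGen] at hreach
    have hall : ∀ z : Ω, Relation.ReflTransGen
        (SimpleGraph.fromRel fun x y : Ω => ∃ g : G, g • a = x ∧ g • b = y).Adj a z → z ∈ B := by
      intro z hz
      induction hz with
      | refl => exact ha
      | tail _ hyz ih => exact hstep _ _ ih hyz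
    exact hc (hall c hreach)

end Cfsg.Agent.S0734
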