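import Cfsg.Statements.S0722
import Cfsg.Agent.Helper1.Coprime

set_option autoImplicit false
open Cfsg

namespace Cfsg.Agent.S0722

/-- In a primitive group `H`, with `N` a minimal normal subgroup and `K` a point stabiliser, `K ⊓ N` is maximal among proper `K`-invariant subgroups of `N`. -/
theorem result {α : Type*} [Finite α] (H : Subgroup (Equiv.Perm α)) [MulAction.IsPreprimitive H α] (N : Subgroup H) [N.Normal] (hN : N ≠ ⊥) (hmin : ∀ M : Subgroup H, M.Normal → M ≤ N → M = ⊥ ∨ M = N) (a : α) (X : Subgroup H) (hX : X ≤ N) (hKX : MulAction.stabilizer H a ⊓ N ≤ X) (hinv : MulAction.stabilizer H a ≤ Subgroup.normalizer (X : Set H)) : X = MulAction.stabilizer H a ⊓ N ∨ X = N := by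
  classical
  -- α is nontrivial
  haveI hnt : Nontrivial α := by
    rw [Ne, Subgroup.eq_bot_iff_forall] at hN
    push Not at hN
    obtain ⟨m, -, hm1⟩ := hN
    have : ∃ b : α, ((m : H) : Equiv.Perm α) b ≠ b := by
      by_contra hcon
      push Not at hcon
      apply hm1
      apply Subtype.ext
      ext b
      exact hcon b
    obtain ⟨b, hb⟩ := this
    exact ⟨⟨_, b, hb⟩⟩
  have hK : IsCoatom (MulAction.stabilizer H a) :=
    (MulAction.isCoatom_stabilizer_iff_preprimitive H a).mpr inferInstance
  have hle : MulAction.stabilizer H a ≤ X ⊔ MulAction.stabilizer H a := le_sup_right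
  rcases hK.le_iff.mp hle with h | h
  · right
    apply le_antisymm hX
    intro n hn
    have hn' : n ∈ X ⊔ MulAction.stabilizer H a := by rw [h]; trivial
    obtain ⟨x, hx, k, hk, hnk⟩ := Cfsg.Agent.Helper1.mem_sup_of_le_normalizer hinv hn'
    have hkN : k ∈ N := by
      have : k = x⁻¹ * n := by rw [hnk]; group
      rw [this]
      exact N.mul_mem (N.inv_mem (hX hx)) hn
    have hkX : k ∈ X := hKX ⟨hk, hkN⟩
    rw [hnk]
    exact X.mul_mem hx hkX
  · left
    have hXK : X ≤ MulAction.stabilizer H a := by
      rw [← h]; exact le_sup_left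
    exact le_antisymm (le_inf hXK hX) hKX

end Cfsg.Agent.S0722
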