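import Mathlib
import Cfsg.Statements.S0726

set_option autoImplicit false
open Cfsg

namespace Cfsg.Agent.S0726

/-- The left and right regular permutation representations of a group are each other's centralisers in the symmetric group: the centraliser of the left regular image is the right regular image, and a transitive subgroup centralising the left regular image is the whole right regular image. -/
theorem result {G : Type*} [Group G] : Subgroup.centralizer ((MulAction.toPermHom G G).range : Set (Equiv.Perm G)) = (MulAction.toPermHom Gᵐᵒᵖ G).range ∧ ∀ H : Subgroup (Equiv.Perm G), H ≤ Subgroup.centralizer ((MulAction.toPermHom G G).range : Set (Equiv.Perm G)) → MulAction.IsPretransitive H G → H = (MulAction.toPermHom Gᵐᵒᵖ G).range := by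
  have key : Subgroup.centralizer ((MulAction.toPermHom G G).range : Set (Equiv.Perm G)) =
      (MulAction.toPermHom Gᵐᵒᵖ G).range := by
    ext σ
    rw [Subgroup.mem_centralizer_iff]
    constructor
    · intro hσ
      refine ⟨MulOpposite.op (σ 1), ?_⟩
      ext x
      have h1 := hσ (MulAction.toPermHom G G x) ⟨x, rfl⟩
      have h2 := congrArg (fun τ : Equiv.Perm G => τ 1) h1
      simp only [Equiv.Perm.mul_apply, MulAction.toPermHom_apply, MulAction.toPerm_apply,
        smul_eq_mul, mul_one] at h2
      simp only [MulAction.toPermHom_apply, MulAction.toPerm_apply, MulOpposite.smul_eq_mul_unop,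
        MulOpposite.unop_op]
      exact h2
    · rintro ⟨k, rfl⟩ τ ⟨g, rfl⟩
      ext x
      simp only [Equiv.Perm.mul_apply, MulAction.toPermHom_apply, MulAction.toPerm_apply,
        smul_eq_mul, MulOpposite.smul_eq_mul_unop, mul_assoc]
  refine ⟨key, ?_⟩
  intro H hH htr
  rw [key] at hH
  apply le_antisymm hH
  rintro _ ⟨k, rfl⟩
  obtain ⟨h, hh⟩ := MulAction.exists_smul_eq (↥H) (1 : G) (MulOpposite.unop k)
  obtain ⟨k', hk'⟩ := hH h.2
  have h1 : (h : Equiv.Perm G) 1 = MulOpposite.unop k := hh
  rw [← hk'] at h1
  simp only [MulAction.toPermHom_apply, MulAction.toPerm_apply, MulOpposite.smul_eq_mul_unop,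
    one_mul] at h1
  have h2 : k' = k := MulOpposite.unop_injective h1
  rw [← h2, hk']
  exact h.2

end Cfsg.Agent.S0726
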