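import Mathlib
import Cfsg.Statements.S0727
import Cfsg.Agent.Helper2.Sharp3D

set_option autoImplicit false
open Cfsg

namespace Cfsg.Agent.S0727

open Cfsg.Agent.Helper2

/-- A sharply triply transitive permutation group of degree `2^f + 1` is isomorphic to the projective general linear group of degree 2 over the field with `2^f` elements. -/
theorem result {α : Type*} [Fintype α] [DecidableEq α] {f : ℕ} (hf : 1 ≤ f) (hα : Fintype.card α = 2 ^ f + 1) (G : Subgroup (Equiv.Perm α)) (h3 : MulAction.IsMultiplyPretransitive G α 3) (hsharp : ∀ x : Fin 3 ↪ α, MulAction.stabilizer G x = ⊥) : ∃ (F : Type) (_ : Field F) (_ : Fintype F), Fintype.card F = 2 ^ f ∧ Nonempty (G ≃* Matrix.ProjGenLinGroup (Fin 2) F) := by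
    have hS : Sharp3.SharpThree G α := Sharp3.sharpThree_of h3 hsharp
    have hcard : Nat.card α = 2 ^ f + 1 := by rw [Nat.card_eq_fintype_card, hα]
    have h2 : 2 ≤ 2 ^ f := by
      calc 2 = 2 ^ 1 := (pow_one 2).symm
        _ ≤ 2 ^ f := Nat.pow_le_pow_right (by norm_num) hf
    obtain ⟨β, F, FT, hβ, ⟨φ⟩⟩ := hS.exists_pgl
      (by rw [hcard]; exact Even.add_one ((Nat.even_pow).2 ⟨even_two, by omega⟩))
      (by rw [hcard]; omega)
    obtain ⟨F', i1, i2, hF', ⟨ψ⟩⟩ := Mobius.exists_small_field (K := β)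
    refine ⟨F', i1, i2, ?_, ⟨φ.trans ψ⟩⟩
    rw [hF']
    omega

end Cfsg.Agent.S0727
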