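import Cfsg.Statements.S0728
import Cfsg.Agent.Helper4.Sharp3Count

set_option autoImplicit false
open Cfsg

namespace Cfsg.Agent.S0728

/-- In a sharply triply transitive group of even degree at least 6 (degree `q + 1`, `q` odd), a two-point stabiliser has at most one subgroup of order 3. -/
theorem result {α : Type*} [Fintype α] [DecidableEq α] (heven : Even (Fintype.card α)) (h6 : 6 ≤ Fintype.card α) (G : Subgroup (Equiv.Perm α)) (h3 : MulAction.IsMultiplyPretransitive G α 3) (hsharp : ∀ x : Fin 3 ↪ α, MulAction.stabilizer G x = ⊥) {a b : α} (hab : a ≠ b) (A B : Subgroup G) (hA : A ≤ MulAction.stabilizer G a ⊓ MulAction.stabilizer G b) (hB : B ≤ MulAction.stabilizer G a ⊓ MulAction.stabilizer G b) (hA3 : Nat.card A = 3) (hB3 : Nat.card B = 3) : A = B := by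
  classical
  have hS : Cfsg.Agent.Helper2.Sharp3.SharpThree G α :=
    Cfsg.Agent.Helper4.Sharp3Count.sharpThree_of' h3 hsharp
  have hn : 3 ≤ Nat.card α := by rw [Nat.card_eq_fintype_card]; omega
  have hT := Cfsg.Agent.Helper4.Sharp3Count.ncard_order_three_fix_le_two hS hn hab
  set T : Set G := {g : G | g ≠ 1 ∧ g ^ 3 = 1 ∧ g • a = a ∧ g • b = b} with hTdef
  have key : ∀ C : Subgroup G, C ≤ MulAction.stabilizer G a ⊓ MulAction.stabilizer G b →
      Nat.card C = 3 → (C : Set G) \ {1} = T := by
    intro C hC hC3
    have hsub : (C : Set G) \ {1} ⊆ T := by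
      rintro g ⟨hg, hg1⟩
      have hg1' : g ≠ 1 := by simpa using hg1
      have hst := hC hg
      rw [Subgroup.mem_inf, MulAction.mem_stabilizer_iff, MulAction.mem_stabilizer_iff] at hst
      have hpow : g ^ 3 = 1 := by
        have := pow_card_eq_one' (G := C) (x := ⟨g, hg⟩)
        rw [hC3] at this
        have h' := congrArg Subtype.val this
        simpa using h'
      exact ⟨hg1', hpow, hst.1, hst.2⟩
    have hcard : ((C : Set G) \ {1}).ncard = 2 := by
      rw [Set.ncard_diff_singleton_of_mem (show (1 : G) ∈ (C : Set G) from C.one_mem)]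
      have : (C : Set G).ncard = 3 := by
        rw [← Nat.card_coe_set_eq]; exact hC3
      rw [this]
    exact Set.eq_of_subset_of_ncard_le hsub (by rw [hcard]; exact hT) (Set.toFinite _)
  have hAB : (A : Set G) \ {1} = (B : Set G) \ {1} := by
    rw [key A hA hA3, key B hB hB3]
  ext g
  by_cases hg : g = 1
  · subst hg
    exact ⟨fun _ => B.one_mem, fun _ => A.one_mem⟩
  · constructor
    · intro h
      have : g ∈ (A : Set G) \ {1} := ⟨h, by simpa using hg⟩
      rw [hAB] at this
      exact this.1
    · intro h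
      have : g ∈ (B : Set G) \ {1} := ⟨h, by simpa using hg⟩
      rw [← hAB] at this
      exact this.1

end Cfsg.Agent.S0728
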