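import Mathlib
import Cfsg.Statements.S0729
import Cfsg.Agent.Helper2.Sh3SimJ
import Cfsg.Agent.Helper2.Sh3SimK
import Cfsg.Agent.Helper2.Sharp3D

set_option autoImplicit false
open Cfsg

namespace Cfsg.Agent.S0729

open Cfsg.Agent.Helper2

/-- In a sharply triply transitive group of even degree at least 6, the two-point stabiliser `H = G_{a,b}` has a normal subgroup of index 2 that is normalised by the element `s` interchanging `a, b` and fixing a third point `c`. -/
theorem result {α : Type*} [Fintype α] [DecidableEq α] (heven : Even (Fintype.card α)) (h6 : 6 ≤ Fintype.card α) (G : Subgroup (Equiv.Perm α)) (h3 : MulAction.IsMultiplyPretransitive G α 3) (hsharp : ∀ x : Fin 3 ↪ α, MulAction.stabilizer G x = ⊥) {a b c : α} (hab : a ≠ b) (hac : a ≠ c) (hbc : b ≠ c) (s : G) (hsa : s • a = b) (hsb : s • b = a) (hsc : s • c = c) : ∃ N : Subgroup G, N ≤ MulAction.stabilizer G a ⊓ MulAction.stabilizer G b ∧ (N.subgroupOf (MulAction.stabilizer G a ⊓ MulAction.stabilizer G b)).Normal ∧ N.relIndex (MulAction.stabilizer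 G a ⊓ MulAction.stabilizer G b) = 2 ∧ ∀ n ∈ N, s * n * s⁻¹ ∈ N := by
    classical
    have hS := Cfsg.Agent.Helper2.Sharp3.sharpThree_of h3 hsharp
    have hZ := Cfsg.Agent.Helper2.Sh3Sim.zassenhaus_of_sharpThree hS heven h6
    have h4 : 4 ≤ Fintype.card α := by omega
    have he2 := Cfsg.Agent.Helper2.Sh3Sim.card_two_point_sharp hS h4 hab
    have hevenE : Even (Nat.card ↥(MulAction.stabilizer G a ⊓ MulAction.stabilizer G b)) := by
      obtain ⟨k, hk⟩ := heven
      exact ⟨k - 1, by omega⟩
    obtain ⟨E₀, hle, hnorm, hcard, hs⟩ := Cfsg.Agent.Helper2.Sh3Sim.index_two_of_sharp hZ hab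
      (Ne.symm hac) (Ne.symm hbc) hevenE he2 s hsa hsb hsc
    refine ⟨E₀, hle, ?_, ?_, hs⟩
    · constructor
      intro n hn g
      rw [Subgroup.mem_subgroupOf] at hn ⊢
      exact hnorm g g.2 n hn
    · have h1 := Subgroup.relIndex_mul_relIndex (⊥ : Subgroup G) E₀
        (MulAction.stabilizer G a ⊓ MulAction.stabilizer G b) bot_le hle
      rw [Subgroup.relIndex_bot_left, Subgroup.relIndex_bot_left, ← hcard] at h1
      have hpos : 0 < Nat.card E₀ := Nat.card_pos
      have h2 : Nat.card E₀ * E₀.relIndex (MulAction.stabilizer G a ⊓ MulAction.stabilizer G b) =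
          Nat.card E₀ * 2 := by rw [h1]; ring
      exact Nat.eq_of_mul_eq_mul_left hpos h2

end Cfsg.Agent.S0729
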