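import Cfsg.Statements.S0733
import Mathlib

set_option autoImplicit false
open Cfsg

namespace Cfsg.Agent.S0733

open scoped Pointwise

/-- A permutation group of affine type — generated by the translations of a finite vector space `V` over `ZMod p` together with a group `G₀` of linear automorphisms — is primitive on `V` if and only if `G₀` is irreducible on `V`. -/
theorem result {p : ℕ} [Fact p.Prime] {V : Type*} [AddCommGroup V] [Module (ZMod p) V] [Finite V] [Nontrivial V] (G₀ : Subgroup (V ≃ₗ[ZMod p] V)) (G : Subgroup (Equiv.Perm V)) (hG : ∀ σ : Equiv.Perm V, σ ∈ G ↔ ∃ g ∈ G₀, ∃ b : V, ∀ x : V, σ x = (g : V ≃ₗ[ZMod p] V) x + b) : MulAction.IsPreprimitive G V ↔ ∀ W : Submodule (ZMod p) V, (∀ g ∈ G₀, ∀ v ∈ W, (g : V ≃ₗ[ZMod p] V) v ∈ W) → W = ⊥ ∨ W = ⊤ := by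
  classical
  have htransmem : ∀ b : V, Equiv.addRight b ∈ G := by
    intro b
    rw [hG]
    exact ⟨1, G₀.one_mem, b, fun x => by simp⟩
  have hlinmem : ∀ g ∈ G₀, (g : V ≃ₗ[ZMod p] V).toEquiv ∈ G := by
    intro g hg
    rw [hG]
    exact ⟨g, hg, 0, fun x => by simp⟩
  constructor
  · intro hprim W hW
    have hblock : MulAction.IsBlock G (W : Set V) := by
      rw [MulAction.isBlock_iff_smul_eq_or_disjoint]
      intro σ
      obtain ⟨g, hg, b, hσ⟩ := (hG σ.1).1 σ.2
      by_cases hb : b ∈ W
      · left
        ext y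
        rw [Set.mem_smul_set]
        constructor
        · rintro ⟨w, hw, rfl⟩
          show (σ : Equiv.Perm V) w ∈ W
          rw [hσ]
          exact W.add_mem (hW g hg w hw) hb
        · intro hy
          have hy' : (y : V) ∈ W := hy
          refine ⟨(g⁻¹ : V ≃ₗ[ZMod p] V) (y - b), hW g⁻¹ (G₀.inv_mem hg) _ (W.sub_mem hy' hb), ?_⟩
          show (σ : Equiv.Perm V) _ = y
          rw [hσ]
          have : (g : V ≃ₗ[ZMod p] V) ((g⁻¹ : V ≃ₗ[ZMod p] V) (y - b)) = y - b := by
            rw [← LinearEquiv.mul_apply, mul_inv_cancel]; rfl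
          rw [this, sub_add_cancel]
      · right
        rw [Set.disjoint_left]
        rintro y hy1 hy2
        rw [Set.mem_smul_set] at hy1
        obtain ⟨w, hw, rfl⟩ := hy1
        have hy2' : (σ : Equiv.Perm V) w ∈ W := hy2
        rw [hσ] at hy2'
        apply hb
        have := W.sub_mem hy2' (hW g hg w hw)
        rwa [add_sub_cancel_left] at this
    rcases hprim.isTrivialBlock_of_isBlock hblock with hsub | huniv
    · left
      rw [Submodule.eq_bot_iff]
      intro x hx
      exact hsub hx W.zero_mem
    · right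
      rw [Submodule.eq_top_iff']
      intro x
      have : x ∈ (W : Set V) := by rw [huniv]; exact Set.mem_univ _
      exact this
  · intro hirr
    haveI : MulAction.IsPretransitive G V := by
      constructor
      intro x y
      refine ⟨⟨Equiv.addRight (y - x), htransmem _⟩, ?_⟩
      show Equiv.addRight (y - x) x = y
      simp
    apply MulAction.IsPreprimitive.of_isTrivialBlock_base (0 : V)
    intro B h0 hB
    have hadd : ∀ b ∈ B, ∀ x ∈ B, x + b ∈ B := by
      intro b hb x hx
      let σ : G := ⟨Equiv.addRight b, htransmem b⟩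
      have h1 : σ • (0 : V) ∈ B := by
        show Equiv.addRight b 0 ∈ B
        simpa using hb
      have hσB : σ • B = B := hB.smul_eq_of_mem h0 h1
      have h2 : σ • x ∈ σ • B := Set.smul_mem_smul_set hx
      rw [hσB] at h2
      exact h2
    have hneg : ∀ b ∈ B, -b ∈ B := by
      intro b hb
      let σ : G := ⟨Equiv.addRight (-b), htransmem (-b)⟩
      have h1 : σ • b ∈ B := by
        show Equiv.addRight (-b) b ∈ B
        simpa using h0
      have hσB : σ • B = B := hB.smul_eq_of_mem hb h1
      have h2 : σ • (0 : V) ∈ σ • B := Set.smul_mem_smul_set h0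
      rw [hσB] at h2
      have h3 : σ • (0 : V) = -b := by
        show Equiv.addRight (-b) 0 = -b
        simp
      rwa [h3] at h2
    have hlin : ∀ g ∈ G₀, ∀ x ∈ B, (g : V ≃ₗ[ZMod p] V) x ∈ B := by
      intro g hg x hx
      let σ : G := ⟨(g : V ≃ₗ[ZMod p] V).toEquiv, hlinmem g hg⟩
      have h1 : σ • (0 : V) ∈ B := by
        show (g : V ≃ₗ[ZMod p] V).toEquiv 0 ∈ B
        simpa using h0
      have hσB : σ • B = B := hB.smul_eq_of_mem h0 h1
      have h2 : σ • x ∈ σ • B := Set.smul_mem_smul_set hx
      rw [hσB] at h2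
      exact h2
    let S : AddSubgroup V :=
      { carrier := B
        zero_mem' := h0
        add_mem' := fun {a b} ha hb => hadd b hb a ha
        neg_mem' := fun {a} ha => hneg a ha }
    rcases hirr (AddSubgroup.toZModSubmodule p S) (fun g hg v hv => hlin g hg v hv) with h | h
    · left
      intro x hx y hy
      have hx' : x ∈ AddSubgroup.toZModSubmodule p S := hx
      have hy' : y ∈ AddSubgroup.toZModSubmodule p S := hy
      rw [h, Submodule.mem_bot] at hx' hy'
      rw [hx', hy']
    · right
      ext x
      simp only [Set.mem_univ, iff_true]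
      have : x ∈ AddSubgroup.toZModSubmodule p S := by rw [h]; exact Submodule.mem_top
      exact this

end Cfsg.Agent.S0733
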