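import Cfsg.Statements.S0735
import Cfsg.Agent.Helper4.TwoHomogeneous

set_option autoImplicit false
open Cfsg

namespace Cfsg.Agent.S0735

/-- A 2-homogeneous permutation group (transitive on 2-subsets) of even order is doubly transitive; a non-trivial 2-homogeneous group is primitive. -/
theorem result {α : Type*} [Fintype α] [DecidableEq α] (G : Subgroup (Equiv.Perm α)) (h2 : MulAction.IsPretransitive G (Set.powersetCard α 2)) (hα : 3 ≤ Fintype.card α) : (Even (Nat.card G) → MulAction.IsMultiplyPretransitive G α 2) ∧ (G ≠ ⊥ → MulAction.IsPreprimitive G α) := by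
  refine ⟨fun heven => ?_, fun _ => Cfsg.Agent.Helper4.twoHom_isPreprimitive h2 hα⟩
  haveI : Fact (Nat.Prime 2) := ⟨Nat.prime_two⟩
  obtain ⟨t, ht⟩ := exists_prime_orderOf_dvd_card' 2 heven.two_dvd
  have ht1 : t ≠ 1 := by
    intro h
    rw [h, orderOf_one] at ht
    omega
  have ht2 : t * t = 1 := by rw [← sq, ← ht, pow_orderOf_eq_one]
  have hmove : ∃ a : α, t • a ≠ a := by
    by_contra hcon
    rw [not_exists] at hcon
    apply ht1
    apply Subtype.ext
    apply Equiv.ext
    intro a
    have := hcon a
    rw [not_not] at this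
    exact this
  obtain ⟨a, ha⟩ := hmove
  exact Cfsg.Agent.Helper4.twoHom_two_pretransitive_of_swap h2 t a (t • a) (Ne.symm ha) rfl
    (by rw [← mul_smul, ht2, one_smul])

end Cfsg.Agent.S0735
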