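import Mathlib
import Cfsg.Statements.S0736
import Cfsg.Agent.Helper3.HomogA
import Cfsg.Agent.Helper3.HomogB
-- import your own Cfsg.Agent.* helpers here

set_option autoImplicit false
open Cfsg

namespace Cfsg.Agent.S0736
open Cfsg

open scoped Pointwise in
theorem smul_eq_image {α : Type*} [DecidableEq α] (G : Subgroup (Equiv.Perm α))
    (g : G) (s : Finset α) : g • s = s.image (g : Equiv.Perm α) := by
  ext x
  simp only [Finset.mem_smul_finset, Finset.mem_image]
  rfl

theorem hom_of_pretrans {α : Type*} [Fintype α] [DecidableEq α] (G : Subgroup (Equiv.Perm α))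
    {k : ℕ} (hG : MulAction.IsPretransitive G (Set.powersetCard α k)) :
    ∀ Δ Δ' : Finset α, Δ.card = k → Δ'.card = k → ∃ g ∈ G, Δ.image g = Δ' := by
  intro Δ Δ' hΔ hΔ'
  obtain ⟨g, hg⟩ := MulAction.exists_smul_eq G
    (⟨Δ, hΔ⟩ : Set.powersetCard α k) (⟨Δ', hΔ'⟩ : Set.powersetCard α k)
  refine ⟨g.1, g.2, ?_⟩
  have h2 := congrArg (fun s : Set.powersetCard α k => (s : Finset α)) hg
  have h1 := Set.powersetCard.coe_smul (g := g) (s := (⟨Δ, hΔ⟩ : Set.powersetCard α k))
  rw [← smul_eq_image G g Δ]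
  exact h1.symm.trans h2

theorem pretrans_of_hom {α : Type*} [Fintype α] [DecidableEq α] (G : Subgroup (Equiv.Perm α))
    {k : ℕ} (h : ∀ Δ Δ' : Finset α, Δ.card = k → Δ'.card = k → ∃ g ∈ G, Δ.image g = Δ') :
    MulAction.IsPretransitive G (Set.powersetCard α k) := by
  refine ⟨fun s t => ?_⟩
  obtain ⟨g, hg, hgs⟩ := h s.1 t.1 s.2 t.2
  refine ⟨⟨g, hg⟩, ?_⟩
  apply Subtype.ext
  have h1 := Set.powersetCard.coe_smul (g := (⟨g, hg⟩ : G)) (s := s)
  refine h1.trans ?_
  rw [smul_eq_image G ⟨g, hg⟩ s.1]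
  exact hgs

/-- A `k`-homogeneous permutation group of degree `n`, `k ≥ 2`, with `k + q - 1 ≤ n` for every prime power `q` dividing `k`, is `(k-1)`-homogeneous. -/
theorem result {α : Type*} [Fintype α] [DecidableEq α] (G : Subgroup (Equiv.Perm α)) {k : ℕ} (hk : 2 ≤ k) (hG : MulAction.IsPretransitive G (Set.powersetCard α k)) (hq : ∀ q : ℕ, IsPrimePow q → q ∣ k → k + q - 1 ≤ Fintype.card α) : MulAction.IsPretransitive G (Set.powersetCard α (k - 1)) := by
  exact pretrans_of_hom G (Cfsg.Agent.Helper3.Homog.main G hk (hom_of_pretrans G hG) hq)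


end Cfsg.Agent.S0736
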