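import Cfsg.Statements.S0743
import Cfsg.Agent.Helper4.Gleason

set_option autoImplicit false
open Cfsg

namespace Cfsg.Agent.S0743

/-- Gleason's Lemma: let `p` be a prime and `1 ≤ k < n`; if every `k`-subset of the `n` points is exactly the fixed-point set of some `p`-subgroup of `G`, then `G` is `k`-transitive. -/
theorem result {α : Type*} [Fintype α] [DecidableEq α] (G : Subgroup (Equiv.Perm α)) {p k : ℕ} (hp : p.Prime) (hk : 1 ≤ k) (hkn : k < Fintype.card α) (h : ∀ s : Finset α, s.card = k → ∃ P : Subgroup G, IsPGroup p P ∧ MulAction.fixedPoints P α = (s : Set α)) : MulAction.IsMultiplyPretransitive G α k := by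
  classical
  apply Cfsg.Agent.Helper4.isMultiplyPretransitive_of_fixing_transitive
  intro t ht a b ha hb
  by_cases hab : a = b
  · exact ⟨1, fun z _ => one_smul _ z, by rw [one_smul, hab]⟩
  obtain ⟨c, hc⟩ : ∃ c : Finset α, c = (Finset.univ.erase a).erase b := ⟨_, rfl⟩
  have hccard : c.card = Fintype.card α - 2 := by
    rw [hc, Finset.card_erase_of_mem, Finset.card_erase_of_mem (Finset.mem_univ a),
      Finset.card_univ]
    · omega
    · rw [Finset.mem_erase]; exact ⟨Ne.symm hab, Finset.mem_univ b⟩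
  have htc : t ⊆ c := by
    intro z hz
    rw [hc, Finset.mem_erase, Finset.mem_erase]
    refine ⟨fun h => hb (h ▸ hz), fun h => ha (h ▸ hz), Finset.mem_univ z⟩
  obtain ⟨t', htt', ht'c, ht'card⟩ := Finset.exists_subsuperset_card_eq htc
    (by omega : t.card ≤ k - 1) (by omega : k - 1 ≤ c.card)
  have ha' : a ∉ t' := by
    intro h
    have := ht'c h
    rw [hc, Finset.mem_erase, Finset.mem_erase] at this
    exact this.2.1 rfl
  have hb' : b ∉ t' := by
    intro h
    have := ht'c h
    rw [hc, Finset.mem_erase] at this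
    exact this.1 rfl
  obtain ⟨Pa, hPa, hFa⟩ := h (insert a t') (by rw [Finset.card_insert_of_notMem ha', ht'card]; omega)
  obtain ⟨Pb, hPb, hFb⟩ := h (insert b t') (by rw [Finset.card_insert_of_notMem hb', ht'card]; omega)
  obtain ⟨g, hgG, hgt, hgab⟩ := Cfsg.Agent.Helper4.gleason_step G hp t' a b ha' hb' Pa Pb hPa hPb hFa hFb
  exact ⟨⟨g, hgG⟩, fun z hz => hgt z (htt' hz), hgab⟩

end Cfsg.Agent.S0743
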