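import Mathlib
import Cfsg.Statements.S0749

set_option autoImplicit false
open Cfsg

namespace Cfsg.Agent.S0749

open Module

variable {F V : Type*} [Field F] [AddCommGroup V] [Module F V] [FiniteDimensional F V]

/-- The one-step extension: a target for a new vector. -/
theorem exists_target (B : LinearMap.BilinForm F V) (hB : B.Nondegenerate) (hA : B.IsAlt)
    (X : Submodule F V) (h : V →ₗ[F] V)
    (hiso : ∀ x ∈ X, ∀ x' ∈ X, B (h x) (h x') = B x x') (hinj : ∀ x ∈ X, h x = 0 → x = 0)
    {x₀ : V} (hx₀ : x₀ ∉ X) :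
    ∃ y₀ : V, (∀ x ∈ X, B (h x) y₀ = B x x₀) ∧ y₀ ∉ X.map h := by
  set f : X →ₗ[F] V := h.comp X.subtype with hf
  have hfker : LinearMap.ker f = ⊥ := by
    rw [LinearMap.ker_eq_bot']
    intro x hx
    exact Subtype.ext (hinj x x.2 hx)
  obtain ⟨k, hk⟩ := f.exists_leftInverse_of_injective hfker
  have hkapp : ∀ x (hx : x ∈ X), k (h x) = ⟨x, hx⟩ := by
    intro x hx
    have := congrArg (fun g : X →ₗ[F] X => g ⟨x, hx⟩) hk
    simpa [hf] using this
  set lam : V →ₗ[F] F := (B.flip x₀).comp (X.subtype.comp k) with hlam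
  set y₁ : V := -((B.toDual hB).symm lam) with hy₁
  have hy₁app : ∀ v, B v y₁ = lam v := by
    intro v
    rw [hy₁, map_neg, hA.neg_eq, ← LinearMap.BilinForm.toDual_def hB, LinearEquiv.apply_symm_apply]
  have hy₁X : ∀ x ∈ X, B (h x) y₁ = B x x₀ := by
    intro x hx
    rw [hy₁app, hlam]
    simp only [LinearMap.comp_apply, Submodule.subtype_apply, hkapp x hx]
    exact LinearMap.flip_apply B x x₀
  by_contra hcon
  push Not at hcon
  -- (a)
  obtain ⟨x₁, hx₁X, hx₁⟩ := hcon y₁ hy₁X
  -- (b)
  have hYorth : B.orthogonal (X.map h) ≤ X.map h := by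
    intro z hz
    rw [LinearMap.BilinForm.mem_orthogonal_iff] at hz
    have : y₁ + z ∈ X.map h := by
      apply hcon
      intro x hx
      rw [map_add, hy₁X x hx, hz (h x) (Submodule.mem_map_of_mem hx), add_zero]
    have h2 := Submodule.sub_mem _ this (hcon y₁ hy₁X)
    rwa [add_sub_cancel_left] at h2
  -- (c)
  have hle : B.orthogonal (X.map h) ≤ (X ⊓ B.orthogonal X).map h := by
    intro z hz
    obtain ⟨x, hxX, rfl⟩ := hYorth hz
    refine Submodule.mem_map_of_mem ⟨hxX, ?_⟩
    rw [SetLike.mem_coe, LinearMap.BilinForm.mem_orthogonal_iff]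
    intro n hn
    rw [← hiso n hn x hxX]
    exact (LinearMap.BilinForm.mem_orthogonal_iff.mp hz) (h n) (Submodule.mem_map_of_mem hn)
  -- (d)
  have hdimY : finrank F (X.map h) = finrank F X := by
    have h1 : X.map h = LinearMap.range f := by
      rw [hf, LinearMap.range_comp, Submodule.range_subtype]
    rw [h1]
    exact LinearMap.finrank_range_of_inj (LinearMap.ker_eq_bot.mp hfker)
  have hd1 : finrank F (B.orthogonal (X.map h)) = finrank F V - finrank F X := by
    rw [LinearMap.BilinForm.finrank_orthogonal hB, hdimY]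
  have hd2 : finrank F (B.orthogonal X) = finrank F V - finrank F X :=
    LinearMap.BilinForm.finrank_orthogonal hB X
  have hd3 : finrank F ((X ⊓ B.orthogonal X).map h) ≤ finrank F ↥(X ⊓ B.orthogonal X) :=
    Submodule.finrank_map_le _ _
  have hd4 := Submodule.finrank_mono hle
  have heq : X ⊓ B.orthogonal X = B.orthogonal X :=
    Submodule.eq_of_le_of_finrank_le inf_le_right (by omega)
  have hXorth : B.orthogonal X ≤ X := by
    rw [← heq]; exact inf_le_left
  -- (e)
  have hmem : x₁ - x₀ ∈ B.orthogonal X := by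
    rw [LinearMap.BilinForm.mem_orthogonal_iff]
    intro n hn
    rw [map_sub, ← hiso n hn x₁ hx₁X, hx₁, hy₁X n hn, sub_self]
  apply hx₀
  have := Submodule.sub_mem _ hx₁X (hXorth hmem)
  rwa [sub_sub_cancel] at this

/-- Extension of partial isometries, by induction on the codimension. -/
theorem extend_aux (B : LinearMap.BilinForm F V) (hB : B.Nondegenerate) (hA : B.IsAlt) :
    ∀ (k : ℕ) (X : Submodule F V) (h : V →ₗ[F] V), finrank F V - finrank F X = k →
      (∀ x ∈ X, ∀ x' ∈ X, B (h x) (h x') = B x x') → (∀ x ∈ X, h x = 0 → x = 0) →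
      ∃ g : V ≃ₗ[F] V, (∀ u v : V, B (g u) (g v) = B u v) ∧ ∀ x ∈ X, g x = h x := by
  intro k
  induction k using Nat.strong_induction_on with
  | _ k ih =>
    intro X h hk hiso hinj
    by_cases hX : X = ⊤
    · subst hX
      have hinj' : Function.Injective h := by
        rw [← LinearMap.ker_eq_bot, LinearMap.ker_eq_bot']
        intro x hx
        exact hinj x Submodule.mem_top hx
      refine ⟨LinearEquiv.ofInjectiveEndo h hinj', ?_, ?_⟩
      · intro u v
        rw [LinearEquiv.coe_ofInjectiveEndo]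
        exact hiso u Submodule.mem_top v Submodule.mem_top
      · intro x _
        rw [LinearEquiv.coe_ofInjectiveEndo]
    · obtain ⟨x₀, hx₀⟩ : ∃ x₀ : V, x₀ ∉ X := by
        by_contra hall
        push Not at hall
        exact hX (eq_top_iff.mpr fun x _ => hall x)
      obtain ⟨y₀, hy₀, hy₀Y⟩ := exists_target B hB hA X h hiso hinj hx₀
      obtain ⟨h', hh', hh'x₀⟩ := LinearMap.exists_extend_of_notMem (h.comp X.subtype) hx₀ y₀
      have hh'X : ∀ x ∈ X, h' x = h x := by
        intro x hx
        have := congrArg (fun g : X →ₗ[F] V => g ⟨x, hx⟩) hh'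
        simpa using this
      have hlt : X < X ⊔ Submodule.span F {x₀} := by
        refine lt_of_le_of_ne le_sup_left ?_
        intro heq
        apply hx₀
        rw [heq]
        exact Submodule.mem_sup_right (Submodule.mem_span_singleton_self x₀)
      have hfr := Submodule.finrank_lt_finrank_of_lt hlt
      have hfr2 : finrank F ↥(X ⊔ Submodule.span F {x₀}) ≤ finrank F V := Submodule.finrank_le _
      have hdecomp : ∀ p ∈ X ⊔ Submodule.span F {x₀}, ∃ x ∈ X, ∃ c : F, p = x + c • x₀ := by
        intro p hp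
        rw [Submodule.mem_sup] at hp
        obtain ⟨x, hx, y, hy, rfl⟩ := hp
        rw [Submodule.mem_span_singleton] at hy
        obtain ⟨c, rfl⟩ := hy
        exact ⟨x, hx, c, rfl⟩
      have hBx₀ : B x₀ x₀ = 0 := hA x₀
      have hBy₀ : B y₀ y₀ = 0 := hA y₀
      obtain ⟨g, hg1, hg2⟩ := ih (finrank F V - finrank F ↥(X ⊔ Submodule.span F {x₀})) (by omega)
        (X ⊔ Submodule.span F {x₀}) h' rfl
        (by
          intro p hp p' hp'
          obtain ⟨x, hx, c, rfl⟩ := hdecomp p hp
          obtain ⟨x', hx', c', rfl⟩ := hdecomp p' hp'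
          have e1 : B y₀ (h x') = -B x' x₀ := by rw [← hy₀ x' hx', hA.neg_eq]
          have e2 : B x₀ x' = -B x' x₀ := by rw [hA.neg_eq]
          simp only [map_add, map_smul, LinearMap.add_apply, LinearMap.smul_apply, smul_eq_mul,
            hh'X x hx, hh'X x' hx', hh'x₀, hiso x hx x' hx', hy₀ x hx, e1, e2, hBx₀, hBy₀])
        (by
          intro p hp hp0
          obtain ⟨x, hx, c, rfl⟩ := hdecomp p hp
          rw [map_add, map_smul, hh'X x hx, hh'x₀] at hp0
          by_cases hc : c = 0
          · rw [hc, zero_smul, add_zero] at hp0 ⊢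
            exact hinj x hx hp0
          · exfalso
            apply hy₀Y
            refine ⟨(-c⁻¹) • x, X.smul_mem _ hx, ?_⟩
            have e3 : c • y₀ = -h x := by
              rw [eq_neg_iff_add_eq_zero, add_comm]; exact hp0
            calc h ((-c⁻¹) • x) = (-c⁻¹) • h x := map_smul _ _ _
              _ = c⁻¹ • (-h x) := by rw [neg_smul, smul_neg]
              _ = c⁻¹ • (c • y₀) := by rw [e3]
              _ = y₀ := by rw [smul_smul, inv_mul_cancel₀ hc, one_smul])
      refine ⟨g, hg1, ?_⟩
      intro x hx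
      rw [hg2 x (Submodule.mem_sup_left hx), hh'X x hx]

/-- Witt's Lemma for alternating forms. If B is a non-degenerate alternating bilinear form on a finite-dimensional vector space V (over any field) and φ is a linear equivalence between subspaces X and Y of V preserving B, then φ extends to a B-preserving linear automorphism of V. -/
theorem result {F V : Type*} [Field F] [AddCommGroup V] [Module F V] [FiniteDimensional F V] (B : LinearMap.BilinForm F V) (hB : B.Nondegenerate) (hA : B.IsAlt) (X Y : Submodule F V) (φ : X ≃ₗ[F] Y) (hφ : ∀ x x' : X, B (φ x : V) (φ x' : V) = B (x : V) (x' : V)) : ∃ g : V ≃ₗ[F] V, (∀ u v : V, B (g u) (g v) = B u v) ∧ ∀ x : X, g (x : V) = (φ x : V) := by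
  obtain ⟨h, hh⟩ := LinearMap.exists_extend (Y.subtype.comp φ.toLinearMap)
  have hhX : ∀ x : X, h (x : V) = (φ x : V) := by
    intro x
    have := congrArg (fun g : X →ₗ[F] V => g x) hh
    simpa using this
  obtain ⟨g, hg1, hg2⟩ := extend_aux B hB hA _ X h rfl
    (by
      intro x hx x' hx'
      have e1 := hhX ⟨x, hx⟩
      have e2 := hhX ⟨x', hx'⟩
      simp only at e1 e2
      rw [e1, e2]
      exact hφ ⟨x, hx⟩ ⟨x', hx'⟩)
    (by
      intro x hx h0
      have e1 := hhX ⟨x, hx⟩
      simp only at e1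
      rw [e1] at h0
      have : φ ⟨x, hx⟩ = 0 := Subtype.ext h0
      have h2 := φ.map_eq_zero_iff.mp this
      exact congrArg Subtype.val h2)
  refine ⟨g, hg1, ?_⟩
  intro x
  rw [hg2 x x.2, hhX x]

end Cfsg.Agent.S0749
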