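import Mathlib
import Cfsg.Statements.S0753

set_option autoImplicit false
open Cfsg

namespace Cfsg.Agent.S0753

/-- If σ is a ring endomorphism of the field F other than the identity and B is a σ-sesquilinear conjugate-symmetric form with B v v = 0 for every v, then B = 0. -/
theorem result {F V : Type*} [Field F] [AddCommGroup V] [Module F V] (σ : F →+* F) (hσ : σ ≠ RingHom.id F) (B : V →ₛₗ[σ] V →ₗ[F] F) (hS : B.IsSymm) (h0 : ∀ v : V, B v v = 0) : B = 0 := by
  have hsymm : ∀ x y, σ (B x y) = B y x := LinearMap.isSymm_def.mp hS
  -- there is `a` with `σ a ≠ a`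
  obtain ⟨a, ha⟩ : ∃ a : F, σ a ≠ a := by
    by_contra h
    exact hσ (RingHom.ext fun a => by
      by_contra ha
      exact h ⟨a, ha⟩)
  -- B u v + B v u = 0
  have hadd : ∀ u v : V, B u v + B v u = 0 := by
    intro u v
    have h := h0 (u + v)
    simp only [map_add, LinearMap.add_apply, h0, zero_add, add_zero] at h
    rw [add_comm] at h
    exact h
  ext u v
  simp only [LinearMap.zero_apply]
  set x := B u v with hx
  -- σ x = -x
  have h1 : σ x = -x := by
    have := hadd u v
    rw [← hsymm u v] at this
    rw [← hx] at this
    exact (eq_neg_of_add_eq_zero_right this)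
  -- apply to a • u : B (a • u) v = σ a * x
  have h2 : σ (σ a * x) = -(σ a * x) := by
    have := hadd (a • u) v
    rw [← hsymm (a • u) v] at this
    simp only [LinearMap.map_smulₛₗ, LinearMap.smul_apply, smul_eq_mul] at this
    rw [← hx] at this
    exact (eq_neg_of_add_eq_zero_right this)
  -- Also apply to u and a • v: B u (a • v) = a * x
  have h3 : σ (a * x) = -(a * x) := by
    have := hadd u (a • v)
    rw [← hsymm u (a • v)] at this
    simp only [map_smul, smul_eq_mul] at this
    rw [← hx] at this
    exact (eq_neg_of_add_eq_zero_right this)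
  rw [map_mul, h1] at h3
  -- σ a * (-x) = -(a * x)  =>  (σ a - a) * x = 0
  have h4 : (σ a - a) * x = 0 := by
    have : σ a * x = a * x := by
      have := h3
      rw [mul_neg, neg_inj] at this
      exact this
    rw [sub_mul, this, sub_self]
  rcases mul_eq_zero.mp h4 with h | h
  · exact absurd (sub_eq_zero.mp h) ha
  · exact h

end Cfsg.Agent.S0753
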