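import Mathlib
import Cfsg.Statements.S0754

set_option autoImplicit false
open Cfsg

namespace Cfsg.Agent.S0754

/-- In a field F with q^2 elements, every non-zero μ with μ^q = μ (that is, μ in the subfield of order q) has exactly q + 1 solutions λ of λ^(q+1) = μ. -/
theorem result {F : Type*} [Field F] [Fintype F] {q : ℕ} (hF : Fintype.card F = q ^ 2) (μ : F) (hμ : μ ≠ 0) (hμq : μ ^ q = μ) : Nat.card {x : F // x ^ (q + 1) = μ} = q + 1 := by
  classical
  have hq1 : 1 ≤ q := by
    rcases Nat.eq_zero_or_pos q with h | h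
    · subst h
      have := Fintype.one_lt_card (α := F)
      rw [hF] at this
      simp at this
    · exact h
  obtain ⟨k, rfl⟩ : ∃ k, q = k + 1 := ⟨q - 1, by omega⟩
  have hU : Nat.card Fˣ = k * (k + 2) := by
    rw [Nat.card_units, Nat.card_eq_fintype_card, hF]
    apply Nat.sub_eq_of_eq_add
    ring
  have hker : Nat.card (powMonoidHom (k + 1 + 1) : Fˣ →* Fˣ).ker = k + 2 := by
    rw [IsCyclic.card_powMonoidHom_ker, hU]
    exact Nat.gcd_eq_right (Dvd.intro_left k rfl)
  have hrange : Nat.card (powMonoidHom (k + 1 + 1) : Fˣ →* Fˣ).range = k := by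
    rw [IsCyclic.card_powMonoidHom_range, hU]
    have : (k * (k + 2)).gcd (k + 1 + 1) = k + 2 := Nat.gcd_eq_right (Dvd.intro_left k rfl)
    rw [this]
    exact Nat.mul_div_cancel k (by omega)
  have hker' : Nat.card (powMonoidHom k : Fˣ →* Fˣ).ker = k := by
    rw [IsCyclic.card_powMonoidHom_ker, hU]
    exact Nat.gcd_eq_right (Dvd.intro (k + 2) rfl)
  have hle : (powMonoidHom (k + 1 + 1) : Fˣ →* Fˣ).range ≤ (powMonoidHom k : Fˣ →* Fˣ).ker := by
    rintro _ ⟨x, rfl⟩
    rw [MonoidHom.mem_ker, powMonoidHom_apply, powMonoidHom_apply, ← pow_mul]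
    have h1 : (k + 1 + 1) * k = Nat.card Fˣ := by rw [hU]; ring
    rw [h1]
    exact pow_card_eq_one'
  have heq : (powMonoidHom (k + 1 + 1) : Fˣ →* Fˣ).range = (powMonoidHom k : Fˣ →* Fˣ).ker := by
    apply Subgroup.eq_of_le_of_card_ge hle
    rw [hrange, hker']
  -- μ as a unit lies in the kernel of the `k`-th power map
  have hμk : Units.mk0 μ hμ ∈ (powMonoidHom k : Fˣ →* Fˣ).ker := by
    rw [MonoidHom.mem_ker, powMonoidHom_apply]
    apply Units.ext
    simp only [Units.val_pow_eq_pow_val, Units.val_mk0, Units.val_one]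
    have : μ ^ k * μ = μ := by rw [← pow_succ]; exact hμq
    have h2 : μ ^ k * μ = 1 * μ := by rw [this, one_mul]
    exact mul_right_cancel₀ hμ h2
  rw [← heq] at hμk
  obtain ⟨x0, hx0⟩ := hμk
  rw [powMonoidHom_apply] at hx0
  have hx0' : (x0 : F) ^ (k + 1 + 1) = μ := by
    have := congrArg Units.val hx0
    simpa using this
  refine Eq.trans ?_ hker
  apply Nat.card_congr
  refine ⟨fun x => ⟨Units.mk0 x.1 ?_ / x0, ?_⟩, fun u => ⟨((u.1 * x0 : Fˣ) : F), ?_⟩, ?_, ?_⟩
  · intro h0
    have := x.2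
    rw [h0, zero_pow (by omega)] at this
    exact hμ this.symm
  · rw [MonoidHom.mem_ker, powMonoidHom_apply, div_pow, hx0]
    apply Units.ext
    simp only [Units.val_div_eq_div_val, Units.val_pow_eq_pow_val, Units.val_mk0, Units.val_one]
    rw [x.2]
    exact div_self hμ
  · have hu := u.2
    rw [MonoidHom.mem_ker, powMonoidHom_apply] at hu
    rw [Units.val_mul, mul_pow, hx0', ← Units.val_pow_eq_pow_val, hu, Units.val_one, one_mul]
  · intro x
    apply Subtype.ext
    simp
  · intro u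
    apply Subtype.ext
    apply Units.ext
    simp

end Cfsg.Agent.S0754
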