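import Mathlib
import Cfsg.Statements.S0757

set_option autoImplicit false
open Cfsg

namespace Cfsg.Agent.S0757

open QuadraticMap

theorem associated_wss {F : Type*} [Field F] {n : ℕ} [Invertible (2 : F)] (w : Fin n → F)
    (x y : Fin n → F) :
    QuadraticMap.associated (R := F) (weightedSumSquares F w) x y = ∑ k, w k * x k * y k := by
  have h := congrArg (fun B : LinearMap.BilinMap F (Fin n → F) F => B x y)
    (QuadraticMap.two_nsmul_associated F (weightedSumSquares F w))
  simp only [LinearMap.smul_apply, polarBilin_apply_apply, polar, weightedSumSquares_apply,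
    Pi.add_apply, smul_eq_mul, nsmul_eq_mul, Nat.cast_ofNat] at h
  rw [← Finset.sum_sub_distrib, ← Finset.sum_sub_distrib] at h
  have h2 : (2 : F) ≠ 0 := Invertible.ne_zero 2
  apply mul_left_cancel₀ h2
  rw [h, Finset.mul_sum]
  apply Finset.sum_congr rfl
  intro k _
  ring

theorem toMatrix'_wss {F : Type*} [Field F] {n : ℕ} [Invertible (2 : F)] (w : Fin n → F) :
    QuadraticForm.toMatrix' (weightedSumSquares F w) = Matrix.diagonal w := by
  ext i j
  rw [QuadraticForm.toMatrix', LinearMap.toMatrix₂'_apply]
  have := associated_wss w (Pi.single i 1) (Pi.single j 1)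
  rw [this, Matrix.diagonal_apply]
  by_cases hij : i = j
  · subst hij
    rw [if_pos rfl, Finset.sum_eq_single i]
    · simp
    · intro k _ hk
      simp [hk]
    · intro h; exact absurd (Finset.mem_univ i) h
  · rw [if_neg hij]
    apply Finset.sum_eq_zero
    intro k _
    by_cases hk : k = i
    · subst hk
      simp [hij]
    · simp [hk]

theorem discr'_wss {F : Type*} [Field F] {n : ℕ} [Invertible (2 : F)] (w : Fin n → F) :
    QuadraticForm.discr' (weightedSumSquares F w) = ∏ i, w i := by
  rw [QuadraticForm.discr', toMatrix'_wss, Matrix.det_diagonal]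

/-- The two diagonal forms Σ x_i^2 and Σ_(i<n) x_i^2 + α x_n^2 on F^(n+1), with α a non-square and 2 ≠ 0 in F, are inequivalent quadratic forms (so over a finite field of odd order there are exactly two classes of non-singular symmetric bilinear forms in each dimension). -/
theorem result {F : Type*} [Field F] (h2 : (2 : F) ≠ 0) (n : ℕ) (α : F) (hα : ¬ IsSquare α) : ¬ (QuadraticMap.weightedSumSquares F (fun _ : Fin (n + 1) => (1 : F))).Equivalent (QuadraticMap.weightedSumSquares F (fun i : Fin (n + 1) => if i = Fin.last n then α else (1 : F))) := by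
  rintro ⟨e⟩
  let _i : Invertible (2 : F) := invertibleOfNonzero h2
  have hcomp : QuadraticMap.weightedSumSquares F (fun _ : Fin (n + 1) => (1 : F)) =
      (QuadraticMap.weightedSumSquares F
        (fun i : Fin (n + 1) => if i = Fin.last n then α else (1 : F))).comp
        (e.toLinearEquiv : (Fin (n + 1) → F) →ₗ[F] (Fin (n + 1) → F)) := by
    ext x
    rw [QuadraticMap.comp_apply]
    exact (e.map_app x).symm
  have hd := congrArg QuadraticForm.discr' hcomp
  rw [QuadraticForm.discr'_comp, discr'_wss, discr'_wss] at hd
  have h1 : (∏ _i : Fin (n + 1), (1 : F)) = 1 := Finset.prod_const_one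
  have h3 : (∏ i : Fin (n + 1), (if i = Fin.last n then α else (1 : F))) = α := by
    rw [Finset.prod_ite_eq' Finset.univ (Fin.last n) (fun _ => α)]
    simp
  rw [h1, h3] at hd
  set d := (LinearMap.toMatrix' (e.toLinearEquiv : (Fin (n + 1) → F) →ₗ[F] (Fin (n + 1) → F))).det
    with hd'
  have hd0 : d ≠ 0 := by
    intro h0
    rw [h0, zero_mul, zero_mul] at hd
    exact one_ne_zero hd
  apply hα
  refine ⟨d⁻¹, ?_⟩
  field_simp
  linear_combination -hd

end Cfsg.Agent.S0757
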