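import Mathlib
import Cfsg.Statements.S0758

set_option autoImplicit false
open Cfsg

namespace Cfsg.Agent.S0758

/-- For a finite field F of odd order q and a non-square α: the form x² + y² is isotropic iff q ≡ 1 mod 4, and the form x² + α y² is isotropic iff q ≡ 3 mod 4. -/
theorem result {F : Type*} [Field F] [Fintype F] (h2 : (2 : F) ≠ 0) (α : F) (hα : ¬ IsSquare α) : ((∃ x y : F, (x ≠ 0 ∨ y ≠ 0) ∧ x ^ 2 + y ^ 2 = 0) ↔ Fintype.card F % 4 = 1) ∧ ((∃ x y : F, (x ≠ 0 ∨ y ≠ 0) ∧ x ^ 2 + α * y ^ 2 = 0) ↔ Fintype.card F % 4 = 3) := by
  classical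
  have hchar : ringChar F ≠ 2 := by
    intro h
    apply h2
    have : CharP F 2 := ringChar.eq_iff.mp h
    exact CharP.cast_eq_zero F 2
  have hodd : Fintype.card F % 2 = 1 := FiniteField.odd_card_of_char_ne_two hchar
  have hsq := FiniteField.isSquare_neg_one_iff (F := F)
  have hα0 : α ≠ 0 := by
    rintro rfl
    exact hα ⟨0, by ring⟩
  constructor
  · constructor
    · rintro ⟨x, y, hxy, h⟩
      have hy : y ≠ 0 := by
        intro hy
        rw [hy] at h hxy
        have : x = 0 := by
          have : x ^ 2 = 0 := by linear_combination h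
          exact pow_eq_zero_iff (two_ne_zero) |>.mp this
        rcases hxy with h' | h'
        · exact h' this
        · exact h' rfl
      have : IsSquare (-1 : F) := by
        refine ⟨x / y, ?_⟩
        field_simp
        linear_combination -h
      have := hsq.mp this
      omega
    · intro h
      have : IsSquare (-1 : F) := hsq.mpr (by omega)
      obtain ⟨a, ha⟩ := this
      refine ⟨a, 1, Or.inr one_ne_zero, ?_⟩
      linear_combination -ha
  · constructor
    · rintro ⟨x, y, hxy, h⟩
      have hy : y ≠ 0 := by
        intro hy
        rw [hy] at h hxy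
        have : x = 0 := by
          have : x ^ 2 = 0 := by linear_combination h
          exact pow_eq_zero_iff (two_ne_zero) |>.mp this
        rcases hxy with h' | h'
        · exact h' this
        · exact h' rfl
      by_contra hne
      have : IsSquare (-1 : F) := hsq.mpr hne
      obtain ⟨b, hb⟩ := this
      apply hα
      refine ⟨x / y * b, ?_⟩
      field_simp
      linear_combination h + x ^ 2 * hb
    · intro h
      have hn1 : ¬ IsSquare (-1 : F) := by
        intro hs
        exact hsq.mp hs h
      have h1 : quadraticChar F (-1) = -1 := quadraticChar_neg_one_iff_not_isSquare.mpr hn1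
      have h3 : quadraticChar F α = -1 := quadraticChar_neg_one_iff_not_isSquare.mpr hα
      have h4 : quadraticChar F (-α) = 1 := by
        have : -α = (-1) * α := by ring
        rw [this, map_mul, h1, h3]; norm_num
      have h5 : IsSquare (-α) := (quadraticChar_one_iff_isSquare (neg_ne_zero.mpr hα0)).mp h4
      obtain ⟨c, hc⟩ := h5
      refine ⟨c, 1, Or.inr one_ne_zero, ?_⟩
      linear_combination -hc

end Cfsg.Agent.S0758
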