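import Cfsg.Statements.S0759
import Cfsg.Agent.Helper8.QuadForm
import Cfsg.Agent.S2621
import Mathlib

set_option autoImplicit false
open Cfsg

namespace Cfsg.Agent.S0759

open Module Matrix Cfsg.Agent.Helper8 Cfsg.Agent.Helper8.QuadForm

variable {F : Type*} [Field F]

/-- the orthonormal quadratic form. -/
noncomputable def sqForm (F : Type*) [Field F] (n : ℕ) : QuadraticForm F (Fin n → F) :=
  ∑ i : Fin n, QuadraticMap.proj (R := F) (A := F) i i

theorem sqForm_apply (n : ℕ) (v : Fin n → F) : sqForm F n v = ∑ i, v i ^ 2 := by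
  unfold sqForm
  rw [QuadraticMap.sum_apply]
  refine Finset.sum_congr rfl (fun i _ => ?_)
  rw [QuadraticMap.proj_apply, sq]

theorem polar_sqForm (n : ℕ) (u v : Fin n → F) :
    QuadraticMap.polar (sqForm F n) u v = u ⬝ᵥ (((2 : F) • (1 : Matrix (Fin n) (Fin n) F)) *ᵥ v) := by
  unfold QuadraticMap.polar
  rw [sqForm_apply, sqForm_apply, sqForm_apply, smul_mulVec, one_mulVec, dotProduct_smul,
    ← Finset.sum_sub_distrib, ← Finset.sum_sub_distrib]
  unfold dotProduct
  rw [Finset.smul_sum]
  refine Finset.sum_congr rfl (fun i _ => ?_)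
  rw [Pi.add_apply, smul_eq_mul]
  ring

theorem sqForm_nondeg (h2 : (2 : F) ≠ 0) (n : ℕ) : Nondeg (sqForm F n) := by
  intro v hv
  ext i
  have h := hv (Pi.single i 1)
  rw [polar_sqForm, smul_mulVec, one_mulVec, dotProduct_smul, dotProduct_single, mul_one,
    smul_eq_mul] at h
  rcases mul_eq_zero.mp h with h | h
  · exact absurd h h2
  · exact h

/-- a quadratic form vanishes on the span of a totally singular family. -/
theorem ts_sum {V : Type*} [AddCommGroup V] [Module F V] (Q : QuadraticForm F V) {ι : Type*}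
    [DecidableEq ι] (e : ι → V) (h1 : ∀ i, Q (e i) = 0)
    (h2 : ∀ i j, QuadraticMap.polar Q (e i) (e j) = 0) (c : ι → F) (s : Finset ι) :
    Q (∑ i ∈ s, c i • e i) = 0 := by
  induction s using Finset.induction_on with
  | empty => simp
  | insert a s ha ih =>
    rw [Finset.sum_insert ha, QuadraticMap.map_add Q, ih, QuadraticMap.map_smul, h1,
      QuadraticMap.polar_smul_left]
    have : QuadraticMap.polar Q (e a) (∑ i ∈ s, c i • e i) = 0 := by
      have h3 : QuadraticMap.polarBilin Q (e a) (∑ i ∈ s, c i • e i) = 0 := by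
        rw [map_sum]
        apply Finset.sum_eq_zero
        intro i _
        rw [map_smul, QuadraticMap.polarBilin_apply_apply, h2, smul_zero]
      exact h3
    rw [this]
    simp

/-- Type of the orthonormal form: over a finite field of odd order q and for m ≥ 1, the quadratic form Σ_(i<2m) x_i² on F^(2m) admits an m-dimensional subspace on which it vanishes identically if and only if it is not the case that q ≡ 3 (mod 4) and m is odd. -/
theorem result {F : Type*} [Field F] [Fintype F] (h2 : (2 : F) ≠ 0) (m : ℕ) (hm : 1 ≤ m) : (∃ W : Submodule F (Fin (2 * m) → F), Module.finrank F W = m ∧ ∀ w ∈ W, ∑ i, w i ^ 2 = 0) ↔ ¬ (Fintype.card F % 4 = 3 ∧ Odd m) := by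
  classical
  have hnd := sqForm_nondeg h2 (2 * m) (F := F)
  have hV : finrank F (Fin (2 * m) → F) = 2 * m := Module.finrank_fin_fun F
  have hH : ((2 : F) • (1 : Matrix (Fin (2 * m)) (Fin (2 * m)) F)).det = (2 ^ m) ^ 2 := by
    rw [Matrix.det_smul, Matrix.det_one, Fintype.card_fin, mul_one, ← pow_mul, mul_comm]
  have h2m : (2 : F) ^ m ≠ 0 := pow_ne_zero _ h2
  have hiff : IsSquare ((-1 : F) ^ m) ↔ ¬ (Fintype.card F % 4 = 3 ∧ Odd m) := by
    rw [Cfsg.Agent.S2620.isSquare_neg_one_pow]
    constructor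
    · rintro (h | h) ⟨h3, h4⟩
      · exact (Nat.not_even_iff_odd.mpr h4) h
      · exact h h3
    · intro h
      by_cases h3 : Fintype.card F % 4 = 3
      · left
        by_contra h4
        exact h ⟨h3, Nat.not_even_iff_odd.mp h4⟩
      · right; exact h3
  rw [← hiff]
  constructor
  · rintro ⟨W, hWk, hW⟩
    have hW' : ∀ w ∈ W, sqForm F (2 * m) w = 0 := fun w hw => by
      rw [sqForm_apply]; exact hW w hw
    obtain ⟨W', hc⟩ := Submodule.exists_isCompl W
    have hW'dim : finrank F W' = m := by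
      have := Submodule.finrank_add_eq_of_isCompl hc
      rw [hWk, hV] at this
      omega
    let bW : Basis (Fin m) F W := finBasisOfFinrankEq F W hWk
    let bW' : Basis (Fin m) F W' := finBasisOfFinrankEq F W' hW'dim
    let b : Basis (Fin m ⊕ Fin m) F (Fin (2 * m) → F) :=
      (bW.prod bW').map (Submodule.prodEquivOfIsCompl W W' hc)
    have hb_inl : ∀ i, b (Sum.inl i) ∈ W := by
      intro i
      have : b (Sum.inl i) = (bW i : Fin (2 * m) → F) := by
        simp [b, Module.Basis.prod_apply]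
      rw [this]
      exact (bW i).2
    obtain ⟨d, hd, hdet⟩ := gram_det ((2 : F) • (1 : Matrix (Fin (2 * m)) (Fin (2 * m)) F))
      (fun u v => QuadraticMap.polar (sqForm F (2 * m)) u v) (polar_sqForm _) b
    obtain ⟨G, hG⟩ : ∃ G : Matrix (Fin m ⊕ Fin m) (Fin m ⊕ Fin m) F, G = Matrix.of
      (fun i j => QuadraticMap.polar (sqForm F (2 * m)) (b i) (b j)) := ⟨_, rfl⟩
    rw [← hG, hH] at hdet
    have h11 : G.toBlocks₁₁ = 0 := by
      ext i j
      rw [hG]
      show QuadraticMap.polar (sqForm F (2 * m)) (b (Sum.inl i)) (b (Sum.inl j)) = 0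
      unfold QuadraticMap.polar
      rw [hW' _ (hb_inl i), hW' _ (hb_inl j), hW' _ (W.add_mem (hb_inl i) (hb_inl j))]
      ring
    have h21 : G.toBlocks₂₁ = G.toBlocks₁₂ᵀ := by
      ext i j
      rw [hG]
      show QuadraticMap.polar (sqForm F (2 * m)) (b (Sum.inr i)) (b (Sum.inl j))
        = QuadraticMap.polar (sqForm F (2 * m)) (b (Sum.inl j)) (b (Sum.inr i))
      exact QuadraticMap.polar_comm _ _ _
    have hG2 : G = Matrix.fromBlocks 0 G.toBlocks₁₂ G.toBlocks₁₂ᵀ G.toBlocks₂₂ := by
      rw [← h11, ← h21, Matrix.fromBlocks_toBlocks]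
    have hmul : G * hypMat F m = Matrix.fromBlocks G.toBlocks₁₂ 0 G.toBlocks₂₂ G.toBlocks₁₂ᵀ := by
      conv_lhs => rw [hG2]
      rw [hypMat, Matrix.fromBlocks_multiply]
      simp
    have hdet2 := congrArg Matrix.det hmul
    rw [Matrix.det_mul, det_hypMat, Matrix.det_fromBlocks_zero₁₂, Matrix.det_transpose, hdet] at hdet2
    have hs : ((-1 : F) ^ m) * ((-1) ^ m) = 1 := by
      rw [← mul_pow]; simp
    refine ⟨G.toBlocks₁₂.det / (d * 2 ^ m), ?_⟩
    have hne : (d * 2 ^ m) * (d * 2 ^ m) ≠ 0 :=
      mul_ne_zero (mul_ne_zero hd h2m) (mul_ne_zero hd h2m)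
    rw [div_mul_div_comm, ← hdet2, eq_div_iff hne]
    ring
  · intro hsq
    obtain ⟨k, rfl⟩ : ∃ k, m = k + 1 := ⟨m - 1, by omega⟩
    rcases exists_std_family k hV (sqForm F (2 * (k + 1))) hnd with ⟨e, f, hhyp⟩ |
      ⟨e, f, x, y, hhyp, hpx, hpy, hx, hxy, hζ⟩
    · obtain ⟨b, hb⟩ := hhyp.exists_basis _ hV
      obtain ⟨h1, h2', h3⟩ := hhyp
      refine ⟨Submodule.span F (Set.range e), ?_, ?_⟩
      · have hli : LinearIndependent F e := by
          have := b.linearIndependent.comp Sum.inl Sum.inl_injective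
          have he : (⇑b ∘ Sum.inl) = e := by rw [hb]; rfl
          rw [he] at this
          exact this
        rw [finrank_span_eq_card hli, Fintype.card_fin]
      · intro w hw
        rw [← sqForm_apply]
        obtain ⟨c, rfl⟩ := (Submodule.mem_span_range_iff_exists_fun F).mp hw
        exact ts_sum _ e (fun i => (h1 i).1) (fun i j => (h3 i j).1) c Finset.univ
    · exfalso
      obtain ⟨b, hb⟩ := exists_elliptic_basis _ hhyp (by rw [hV]; ring) hpx hpy hx hxy hζ
      obtain ⟨d, hd, hdet⟩ := gram_det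
        ((2 : F) • (1 : Matrix (Fin (2 * (k + 1))) (Fin (2 * (k + 1))) F))
        (fun u v => QuadraticMap.polar (sqForm F (2 * (k + 1))) u v) (polar_sqForm _) b
      obtain ⟨h1, h2', h3⟩ := hhyp
      have hyx : QuadraticMap.polar (sqForm F (2 * (k + 1))) y x = 1 := by
        rw [QuadraticMap.polar_comm]; exact hxy
      have hxe : ∀ i, QuadraticMap.polar (sqForm F (2 * (k + 1))) x (e i) = 0 := fun i => by
        rw [QuadraticMap.polar_comm]; exact (hpx i).1
      have hxf : ∀ i, QuadraticMap.polar (sqForm F (2 * (k + 1))) x (f i) = 0 := fun i => by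
        rw [QuadraticMap.polar_comm]; exact (hpx i).2
      have hye : ∀ i, QuadraticMap.polar (sqForm F (2 * (k + 1))) y (e i) = 0 := fun i => by
        rw [QuadraticMap.polar_comm]; exact (hpy i).1
      have hyf : ∀ i, QuadraticMap.polar (sqForm F (2 * (k + 1))) y (f i) = 0 := fun i => by
        rw [QuadraticMap.polar_comm]; exact (hpy i).2
      have hex : ∀ i, QuadraticMap.polar (sqForm F (2 * (k + 1))) (e i) x = 0 := fun i => (hpx i).1
      have hfx : ∀ i, QuadraticMap.polar (sqForm F (2 * (k + 1))) (f i) x = 0 := fun i => (hpx i).2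
      have hey : ∀ i, QuadraticMap.polar (sqForm F (2 * (k + 1))) (e i) y = 0 := fun i => (hpy i).1
      have hfy : ∀ i, QuadraticMap.polar (sqForm F (2 * (k + 1))) (f i) y = 0 := fun i => (hpy i).2
      have h2'' : ∀ i j, QuadraticMap.polar (sqForm F (2 * (k + 1))) (f i) (e j)
          = if i = j then 1 else 0 := by
        intro i j
        rw [QuadraticMap.polar_comm, h2' j i]
        simp only [eq_comm]
      have h3e : ∀ i j, QuadraticMap.polar (sqForm F (2 * (k + 1))) (e i) (e j) = 0 :=
        fun i j => (h3 i j).1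
      have h3f : ∀ i j, QuadraticMap.polar (sqForm F (2 * (k + 1))) (f i) (f j) = 0 :=
        fun i j => (h3 i j).2
      have hxx : QuadraticMap.polar (sqForm F (2 * (k + 1))) x x = 2 := by
        rw [polar_self', hx, mul_one]
      have hyy : QuadraticMap.polar (sqForm F (2 * (k + 1))) y y
          = 2 * sqForm F (2 * (k + 1)) y := polar_self' _ y
      have hG : Matrix.of (fun i j => QuadraticMap.polar (sqForm F (2 * (k + 1))) (b i) (b j))
          = Cfsg.Agent.S2621.minusMat F k 1 (sqForm F (2 * (k + 1)) y) := by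
        rw [hb]
        ext i j
        rcases i with (i | i) | i <;> rcases j with (j | j) | j
        all_goals try fin_cases i
        all_goals try fin_cases j
        all_goals
          simp [Cfsg.Agent.S2621.minusMat, hypMat, Matrix.one_apply, h3e, h3f, h2', h2'', hex, hfx,
            hey, hfy, hxe, hxf, hye, hyf, hxy, hyx, hxx, hyy]
      rw [hG, Cfsg.Agent.S2621.det_minusMat, hH] at hdet
      obtain ⟨s, hs⟩ := hsq
      obtain ⟨r, hr⟩ : ∃ r, r = s * d * 2 ^ (k + 1) := ⟨_, rfl⟩
      have hkk : ((-1 : F) ^ k) * ((-1) ^ k) = 1 := by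
        rw [← mul_pow]; simp
      have hr2 : r * r = 1 - 4 * sqForm F (2 * (k + 1)) y := by
        rw [hr]
        have : s * d * 2 ^ (k + 1) * (s * d * 2 ^ (k + 1))
            = (s * s) * (d ^ 2 * (2 ^ (k + 1)) ^ 2) := by ring
        rw [this, ← hs, ← hdet, pow_succ]
        linear_combination (-(4 * sqForm F (2 * (k + 1)) y - 1 ^ 2)) * hkk
      apply hζ ((r - 1) / 2)
      field_simp
      linear_combination hr2

end Cfsg.Agent.S0759
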