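import Mathlib
import Cfsg.Statements.S0762

set_option autoImplicit false
open Cfsg

namespace Cfsg.Agent.S0762

open QuadraticMap

/-- If `r ≠ 0`, `polar Q r y = 0` and no `a • r + y` vanishes, then `Q` has a non-zero zero. -/
theorem exists_singular_of_pair {F V : Type*} [Field F] [Finite F] [CharP F 2] [AddCommGroup V]
    [Module F V] (Q : QuadraticForm F V) {r y : V} (hr : r ≠ 0) (hpol : polar Q r y = 0)
    (hind : ∀ a : F, a • r + y ≠ 0) : ∃ v : V, v ≠ 0 ∧ Q v = 0 := by
  by_cases hQr : Q r = 0
  · exact ⟨r, hr, hQr⟩
  · have hchar : ringChar F = 2 := ringChar.eq F 2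
    obtain ⟨a, ha⟩ := FiniteField.isSquare_of_char_two hchar (Q y / Q r)
    refine ⟨a • r + y, hind a, ?_⟩
    rw [QuadraticMap.map_add (⇑Q), QuadraticMap.map_smul, polar_smul_left, hpol, ← ha]
    simp only [smul_eq_mul, mul_zero, add_zero]
    rw [div_mul_cancel₀ _ hQr]
    exact CharTwo.add_self_eq_zero _

/-- In characteristic two over a finite field, a quadratic form on a space of dimension at least 3 vanishes on some non-zero vector. -/
theorem result {F V : Type*} [Field F] [Finite F] [CharP F 2] [AddCommGroup V] [Module F V] [FiniteDimensional F V] (Q : QuadraticForm F V) (h3 : 3 ≤ Module.finrank F V) : ∃ v : V, v ≠ 0 ∧ Q v = 0 := by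
  obtain ⟨f, hf⟩ := exists_linearIndependent_of_le_finrank h3
  rw [Fintype.linearIndependent_iff] at hf
  have hf3 : ∀ a b c : F, a • f 0 + b • f 1 + c • f 2 = 0 → a = 0 ∧ b = 0 ∧ c = 0 := by
    intro a b c h
    have := hf ![a, b, c] (by simpa [Fin.sum_univ_three] using h)
    exact ⟨this 0, this 1, this 2⟩
  have hself : ∀ x : V, polar Q x x = 0 := by
    intro x
    rw [polar_self, two_nsmul, CharTwo.add_self_eq_zero]
  set u := f 0 with hu
  set v := f 1 with hv
  set w := f 2 with hw
  have hu0 : u ≠ 0 := by
    intro h
    have := (hf3 1 0 0 (by rw [h]; simp)).1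
    exact one_ne_zero this
  by_cases hr : polar Q v w • u + polar Q w u • v + polar Q u v • w = 0
  · -- all pairings vanish
    have h := hf3 _ _ _ hr
    apply exists_singular_of_pair Q hu0 h.2.2
    intro a ha
    have := (hf3 a 1 0 (by rw [one_smul, zero_smul, add_zero]; exact ha)).2.1
    exact one_ne_zero this
  · set r := polar Q v w • u + polar Q w u • v + polar Q u v • w with hrdef
    have hru : polar Q r u = 0 := by
      rw [hrdef, polar_add_left, polar_add_left, polar_smul_left, polar_smul_left, polar_smul_left,
        hself u, polar_comm (⇑Q) v u, polar_comm (⇑Q) w u]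
      simp only [smul_eq_mul, mul_zero, zero_add]
      rw [mul_comm]
      exact CharTwo.add_self_eq_zero _
    have hrv : polar Q r v = 0 := by
      rw [hrdef, polar_add_left, polar_add_left, polar_smul_left, polar_smul_left, polar_smul_left,
        hself v, polar_comm (⇑Q) w v, polar_comm (⇑Q) w u]
      simp only [smul_eq_mul, mul_zero, add_zero]
      rw [mul_comm]
      exact CharTwo.add_self_eq_zero _
    by_cases hcase : ∀ a : F, a • r + u ≠ 0
    · exact exists_singular_of_pair Q hr hru hcase
    · push Not at hcase
      obtain ⟨a, ha⟩ := hcase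
      apply exists_singular_of_pair Q hr hrv
      intro b hb
      -- `u = -a r`, `v = -b r` contradict independence
      have hu' : u = -(a • r) := by
        rw [eq_neg_iff_add_eq_zero, add_comm]; exact ha
      have hv' : v = -(b • r) := by
        rw [eq_neg_iff_add_eq_zero, add_comm]; exact hb
      have hdep : b • u + (-a) • v + (0 : F) • w = 0 := by
        have e1 : b • u = -((b * a) • r) := by
          conv_lhs => rw [hu']
          rw [smul_neg, smul_smul]
        have e2 : (-a) • v = (b * a) • r := by
          conv_lhs => rw [hv']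
          rw [smul_neg, neg_smul, neg_neg, smul_smul, mul_comm]
        rw [e1, e2, zero_smul, add_zero, neg_add_cancel]
      have h1 := hf3 _ _ _ hdep
      have ha0 : a = 0 := by
        have := h1.2.1
        simpa using this
      rw [ha0, zero_smul, zero_add] at ha
      exact hu0 ha

end Cfsg.Agent.S0762
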