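import Mathlib
import Cfsg.Statements.S0763

set_option autoImplicit false
open Cfsg

namespace Cfsg.Agent.S0763

open QuadraticMap

variable {F V : Type*} [Field F] [CharP F 2] [AddCommGroup V] [Module F V]

theorem two_eq_zero' : (2 : F) = 0 := CharTwo.two_eq_zero

theorem polar_self_eq_zero (Q : QuadraticForm F V) (v : V) : polar Q v v = 0 := by
  rw [polar_self, two_nsmul, CharTwo.add_self_eq_zero]

/-- Vectors with non-zero polar value are linearly independent in characteristic two. -/
theorem linearIndependent_of_polar (Q : QuadraticForm F V) {v w : V} (h : polar Q v w ≠ 0) :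
    LinearIndependent F ![v, w] := by
  rw [LinearIndependent.pair_iff]
  intro a b hab
  have h1 : polar Q v (a • v + b • w) = 0 := by rw [hab]; simp [polar]
  rw [polar_add_right, polar_smul_right, polar_smul_right, polar_self_eq_zero, smul_zero, zero_add,
    smul_eq_mul] at h1
  have hb : b = 0 := by
    rcases mul_eq_zero.mp h1 with h | h
    · exact h
    · exact absurd h ‹_›
  have h2 : polar Q (a • v + b • w) w = 0 := by rw [hab]; simp [polar]
  rw [polar_add_left, polar_smul_left, polar_smul_left, polar_self_eq_zero, smul_zero, add_zero,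
    smul_eq_mul] at h2
  have ha : a = 0 := by
    rcases mul_eq_zero.mp h2 with h | h
    · exact h
    · exact absurd h ‹_›
  exact ⟨ha, hb⟩

omit [CharP F 2] in
/-- From non-degeneracy: a partner with polar value one. -/
theorem exists_polar_eq_one (Q : QuadraticForm F V) (hQ : (QuadraticMap.polarBilin Q).Nondegenerate)
    {v : V} (hv : v ≠ 0) : ∃ w : V, polar Q v w = 1 := by
  have h1 : ¬ ∀ y, QuadraticMap.polarBilin Q v y = 0 := fun h => hv (hQ.1 v h)
  push Not at h1
  obtain ⟨w₀, hw₀⟩ := h1
  rw [polarBilin_apply_apply] at hw₀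
  refine ⟨(polar Q v w₀)⁻¹ • w₀, ?_⟩
  rw [polar_smul_right, smul_eq_mul, inv_mul_cancel₀ hw₀]

/-- Binary quadratic forms in characteristic two over a finite field: if Q is a quadratic form on a 2-dimensional space whose polar form is non-degenerate, then either there are vectors v, w with Q v = Q w = 0 and polar value 1 (Q is xy in these coordinates), or there are v, w and μ with Q v = 1, Q w = μ, polar value 1 and x² + x + μ without roots in F (Q is x² + xy + μy²). -/
theorem result {F V : Type*} [Field F] [Finite F] [CharP F 2] [AddCommGroup V] [Module F V] (Q : QuadraticForm F V) (h2 : Module.finrank F V = 2) (hQ : (QuadraticMap.polarBilin Q).Nondegenerate) : (∃ v w : V, LinearIndependent F ![v, w] ∧ Q v = 0 ∧ Q w = 0 ∧ QuadraticMap.polar Q v w = 1) ∨ (∃ (v w : V) (μ : F), LinearIndependent F ![v, w] ∧ (∀ x : F, x ^ 2 + x + μ ≠ 0) ∧ Q v = 1 ∧ Q w = μ ∧ QuadraticMap.polar Q v w = 1) := by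
  by_cases hiso : ∃ v : V, v ≠ 0 ∧ Q v = 0
  · left
    obtain ⟨v, hv, hQv⟩ := hiso
    obtain ⟨w₁, hw₁⟩ := exists_polar_eq_one Q hQ hv
    have hpol : polar Q v (w₁ + Q w₁ • v) = 1 := by
      rw [polar_add_right, polar_smul_right, polar_self_eq_zero, smul_zero, add_zero, hw₁]
    refine ⟨v, w₁ + Q w₁ • v, linearIndependent_of_polar Q (by rw [hpol]; exact one_ne_zero), hQv,
      ?_, hpol⟩
    rw [QuadraticMap.map_add (⇑Q), QuadraticMap.map_smul, hQv, polar_smul_right, polar_comm, hw₁]
    simp only [smul_eq_mul, mul_zero, add_zero, mul_one]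
    exact CharTwo.add_self_eq_zero _
  · right
    push Not at hiso
    have hnt : Nontrivial V := by
      apply Module.nontrivial_of_finrank_pos (R := F)
      rw [h2]; norm_num
    obtain ⟨v₀, hv₀⟩ := exists_ne (0 : V)
    have hc : Q v₀ ≠ 0 := hiso v₀ hv₀
    have hchar : ringChar F = 2 := ringChar.eq F 2
    obtain ⟨d, hd⟩ := FiniteField.isSquare_of_char_two hchar (Q v₀)
    have hd0 : d ≠ 0 := by
      rintro rfl
      rw [mul_zero] at hd
      exact hc hd
    have hv : d⁻¹ • v₀ ≠ 0 := smul_ne_zero (inv_ne_zero hd0) hv₀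
    have hQv : Q (d⁻¹ • v₀) = 1 := by
      rw [QuadraticMap.map_smul, hd, smul_eq_mul]
      field_simp
    obtain ⟨w, hw⟩ := exists_polar_eq_one Q hQ hv
    have hli := linearIndependent_of_polar Q (v := d⁻¹ • v₀) (w := w) (by rw [hw]; exact one_ne_zero)
    refine ⟨d⁻¹ • v₀, w, Q w, hli, ?_, hQv, rfl, hw⟩
    intro x hx
    have hne : x • (d⁻¹ • v₀) + w ≠ 0 := by
      intro h0
      rw [LinearIndependent.pair_iff] at hli
      have := (hli x 1 (by rw [one_smul]; exact h0)).2
      exact one_ne_zero this
    apply hiso _ hne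
    rw [QuadraticMap.map_add (⇑Q), QuadraticMap.map_smul, hQv, polar_smul_left, hw]
    simp only [smul_eq_mul, mul_one]
    rw [← hx]; ring

end Cfsg.Agent.S0763
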