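import Mathlib
import Cfsg.Statements.S0769

set_option autoImplicit false
open Cfsg

namespace Cfsg.Agent.S0769

open Matrix

variable {F : Type*} [Field F] {n : ℕ}

/-- The determinant of a lower triangular matrix. -/
theorem det_lower (M : Matrix (Fin n) (Fin n) F) (h : ∀ i j : Fin n, i < j → M i j = 0) :
    M.det = ∏ i, M i i := by
  apply Matrix.det_of_isLowerTriangular
  intro i j hij
  exact h i j (OrderDual.toDual_lt_toDual.mp hij)

/-- Lower triangular invertible matrices as pairs (diagonal, strictly lower part). -/
noncomputable def equivData : {g : Matrix.GeneralLinearGroup (Fin n) F // ∀ i j : Fin n, i < j →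
      (g : Matrix (Fin n) (Fin n) F) i j = 0} ≃
    (Fin n → Fˣ) × ({p : Fin n × Fin n // p.2 < p.1} → F) where
  toFun g := (fun i => Units.mk0 ((g.1 : Matrix (Fin n) (Fin n) F) i i) (by
      have hdet := det_lower (g.1 : Matrix (Fin n) (Fin n) F) g.2
      have hne : (g.1 : Matrix (Fin n) (Fin n) F).det ≠ 0 := Matrix.GeneralLinearGroup.det_ne_zero g.1
      rw [hdet] at hne
      exact fun h0 => hne (Finset.prod_eq_zero (Finset.mem_univ i) h0)),
    fun p => (g.1 : Matrix (Fin n) (Fin n) F) p.1.1 p.1.2)
  invFun d := ⟨Matrix.GeneralLinearGroup.mkOfDetNeZero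
      (Matrix.of fun i j => if i = j then ((d.1 i : Fˣ) : F) else
        if h : j < i then d.2 ⟨(i, j), h⟩ else 0) (by
      rw [det_lower]
      · rw [Finset.prod_ne_zero_iff]
        intro i _
        simp
      · intro i j hij
        simp [hij.ne, not_lt.mpr hij.le]), by
    intro i j hij
    change (Matrix.of fun i j => if i = j then ((d.1 i : Fˣ) : F) else
        if h : j < i then d.2 ⟨(i, j), h⟩ else 0) i j = 0
    simp [hij.ne, not_lt.mpr hij.le]⟩
  left_inv g := by
    apply Subtype.ext
    apply Units.ext
    ext i j
    change (if i = j then _ else if h : j < i then _ else 0) = (g.1 : Matrix (Fin n) (Fin n) F) i j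
    by_cases hij : i = j
    · subst hij
      simp
    · rw [if_neg hij]
      by_cases hlt : j < i
      · rw [dif_pos hlt]
      · rw [dif_neg hlt]
        have : i < j := lt_of_le_of_ne (not_lt.mp hlt) hij
        exact (g.2 i j this).symm
  right_inv d := by
    apply Prod.ext
    · funext i
      apply Units.ext
      change (if i = i then ((d.1 i : Fˣ) : F) else _) = _
      rw [if_pos rfl]
    · funext p
      change (if p.1.1 = p.1.2 then _ else if h : p.1.2 < p.1.1 then d.2 ⟨(p.1.1, p.1.2), h⟩ else 0) = _
      rw [if_neg (ne_of_gt p.2), dif_pos p.2]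

/-- The number of pairs `j < i` in `Fin n`. -/
theorem card_pairs : Nat.card {p : Fin n × Fin n // p.2 < p.1} = n * (n - 1) / 2 := by
  rw [Nat.card_eq_fintype_card, Fintype.card_subtype, Finset.card_filter, Fintype.sum_prod_type]
  have : ∀ i : Fin n, (∑ j : Fin n, if j < i then 1 else 0) = (i : ℕ) := by
    intro i
    rw [← Finset.card_filter]
    have : (Finset.univ.filter fun j : Fin n => j < i) = Finset.Iio i := by
      ext j; simp
    rw [this, Fin.card_Iio]
  simp only [this]
  rw [Fin.sum_univ_eq_sum_range (fun i => i) n, Finset.sum_range_id]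

/-- Order of the Borel subgroup of GL_n(q): the invertible lower-triangular n × n matrices over a field with q elements number q^(n(n-1)/2) (q-1)^n (unitriangular part times the diagonal torus). -/
theorem result {F : Type*} [Field F] [Fintype F] {q : ℕ} (hF : Fintype.card F = q) (n : ℕ) : Nat.card {g : Matrix.GeneralLinearGroup (Fin n) F // ∀ i j : Fin n, i < j → (g : Matrix (Fin n) (Fin n) F) i j = 0} = q ^ (n * (n - 1) / 2) * (q - 1) ^ n := by
  subst hF
  rw [Nat.card_congr equivData, Nat.card_prod, Nat.card_fun, Nat.card_fun, card_pairs, Nat.card_units,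
    Nat.card_eq_fintype_card, Nat.card_eq_fintype_card, Fintype.card_fin, mul_comm]

end Cfsg.Agent.S0769
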