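import Mathlib
import Cfsg.Statements.S0770

set_option autoImplicit false
open Cfsg

namespace Cfsg.Agent.S0770

open Matrix

variable {F : Type*} [Field F] {n : ℕ}

/-- The diagonal torus. -/
abbrev torus (n : ℕ) (F : Type*) [Field F] : Subgroup (Matrix.GeneralLinearGroup (Fin n) F) :=
  (Units.map (Matrix.diagonalRingHom (Fin n) F).toMonoidHom).range

theorem mem_torus {h : Matrix.GeneralLinearGroup (Fin n) F} :
    h ∈ torus n F ↔ ∀ i j, i ≠ j → (h : Matrix (Fin n) (Fin n) F) i j = 0 := by
  constructor
  · rintro ⟨u, rfl⟩ i j hij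
    simp [Matrix.diagonal_apply_ne _ hij]
  · intro hd
    have hdiag : (h : Matrix (Fin n) (Fin n) F) =
        Matrix.diagonal (fun i => (h : Matrix (Fin n) (Fin n) F) i i) := by
      ext i j
      by_cases hij : i = j
      · subst hij; simp
      · rw [Matrix.diagonal_apply_ne _ hij]; exact hd i j hij
    have hdet : (h : Matrix (Fin n) (Fin n) F).det ≠ 0 :=
      ((Matrix.isUnit_iff_isUnit_det _).mp h.isUnit).ne_zero
    rw [hdiag, Matrix.det_diagonal] at hdet
    have hne : ∀ i, (h : Matrix (Fin n) (Fin n) F) i i ≠ 0 := fun i e =>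
      hdet (Finset.prod_eq_zero (Finset.mem_univ i) e)
    refine ⟨⟨fun i => (h : Matrix (Fin n) (Fin n) F) i i,
      fun i => ((h : Matrix (Fin n) (Fin n) F) i i)⁻¹, ?_, ?_⟩, ?_⟩
    · ext i; simp [hne i]
    · ext i; simp [hne i]
    · apply Units.ext
      simp only [Units.coe_map, RingHom.toMonoidHom_eq_coe, MonoidHom.coe_coe,
        Matrix.diagonalRingHom_apply]
      exact hdiag.symm

/-- The data of a monomial pair of mutually inverse matrices. -/
theorem monomial_inv {M M' : Matrix (Fin n) (Fin n) F} (h1 : M * M' = 1)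
    (hM : ∀ i : Fin n, ∃! j : Fin n, M i j ≠ 0) :
    ∃ σ : Fin n → Fin n, Function.Bijective σ ∧ (∀ i j, M i j ≠ 0 ↔ j = σ i) ∧
      (∀ i i', M' (σ i) i' ≠ 0 ↔ i' = i) := by
  choose σ hσ huniq using hM
  have hsupp : ∀ i j, M i j ≠ 0 ↔ j = σ i := by
    intro i j
    constructor
    · exact huniq i j
    · rintro rfl; exact hσ i
  have hprod : ∀ i i', M i (σ i) * M' (σ i) i' = (1 : Matrix (Fin n) (Fin n) F) i i' := by
    intro i i'
    rw [← h1, Matrix.mul_apply]
    symm
    apply Finset.sum_eq_single
    · intro j _ hj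
      have : M i j = 0 := by
        by_contra hne
        exact hj ((hsupp i j).mp hne)
      rw [this, zero_mul]
    · intro h; exact absurd (Finset.mem_univ _) h
  have hM' : ∀ i i', M' (σ i) i' ≠ 0 ↔ i' = i := by
    intro i i'
    constructor
    · intro hne
      by_contra hii
      have := hprod i i'
      rw [Matrix.one_apply_ne (Ne.symm hii)] at this
      rcases mul_eq_zero.mp this with h | h
      · exact hσ i h
      · exact hne h
    · intro e h0
      rw [e] at h0
      have := hprod i i
      rw [h0, mul_zero, Matrix.one_apply_eq] at this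
      exact zero_ne_one this
  have hinj : Function.Injective σ := by
    intro i i₂ e
    have h2 : M' (σ i) i₂ ≠ 0 := by rw [e]; exact (hM' i₂ i₂).mpr rfl
    exact ((hM' i i₂).mp h2).symm
  exact ⟨σ, ⟨hinj, Finite.injective_iff_surjective.mp hinj⟩, hsupp, hM'⟩

theorem monomial_inv' {M M' : Matrix (Fin n) (Fin n) F} (h1 : M * M' = 1)
    (hM : ∀ i : Fin n, ∃! j : Fin n, M i j ≠ 0) : ∀ k : Fin n, ∃! i : Fin n, M' k i ≠ 0 := by
  obtain ⟨σ, hσ, _, hM'⟩ := monomial_inv h1 hM
  intro k
  obtain ⟨i, rfl⟩ := hσ.2 k
  exact ⟨i, (hM' i i).mpr rfl, fun i' hi' => (hM' i i').mp hi'⟩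

theorem conj_diagonal {M M' D : Matrix (Fin n) (Fin n) F} (h1 : M * M' = 1)
    (hM : ∀ i : Fin n, ∃! j : Fin n, M i j ≠ 0) (hD : ∀ i j, i ≠ j → D i j = 0) :
    ∀ i i', i ≠ i' → (M * D * M') i i' = 0 := by
  obtain ⟨σ, _, hsupp, hM'⟩ := monomial_inv h1 hM
  intro i i' hii
  rw [Matrix.mul_apply]
  apply Finset.sum_eq_zero
  intro k _
  rw [Matrix.mul_apply]
  by_cases hk : k = σ i
  · subst hk
    have : M' (σ i) i' = 0 := by
      by_contra hne
      exact hii ((hM' i i').mp hne).symm
    rw [this, mul_zero]
  · have : ∑ j, M i j * D j k = 0 := by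
      apply Finset.sum_eq_zero
      intro j _
      by_cases hj : j = σ i
      · subst hj
        rw [hD _ _ (Ne.symm hk), mul_zero]
      · have : M i j = 0 := by
          by_contra hne
          exact hj ((hsupp i j).mp hne)
        rw [this, zero_mul]
    rw [this, zero_mul]

/-- For a field with at least 3 elements, an invertible matrix normalises the subgroup of invertible diagonal matrices of GL_n if and only if it is monomial (exactly one non-zero entry in each row). -/
theorem result {F : Type*} [Field F] (hF : ∃ a : F, a ≠ 0 ∧ a ≠ 1) (n : ℕ) (g : Matrix.GeneralLinearGroup (Fin n) F) : g ∈ Subgroup.normalizer ((Units.map (Matrix.diagonalRingHom (Fin n) F).toMonoidHom).range : Subgroup (Matrix.GeneralLinearGroup (Fin n) F)) ↔ ∀ i : Fin n, ∃! j : Fin n, (g : Matrix (Fin n) (Fin n) F) i j ≠ 0 := by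
  have hgg' : (g : Matrix (Fin n) (Fin n) F) * ((g⁻¹ : Matrix.GeneralLinearGroup (Fin n) F) :
      Matrix (Fin n) (Fin n) F) = 1 := by
    rw [← Units.val_mul, mul_inv_cancel, Units.val_one]
  have hg'g : ((g⁻¹ : Matrix.GeneralLinearGroup (Fin n) F) : Matrix (Fin n) (Fin n) F) *
      (g : Matrix (Fin n) (Fin n) F) = 1 := by
    rw [← Units.val_mul, inv_mul_cancel, Units.val_one]
  constructor
  · intro hN
    rw [Subgroup.mem_normalizer_iff] at hN
    intro i
    -- existence of a non-zero entry
    have hex : ∃ j, (g : Matrix (Fin n) (Fin n) F) i j ≠ 0 := by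
      by_contra hcon
      push Not at hcon
      have := congrFun (congrFun hgg' i) i
      rw [Matrix.mul_apply, Matrix.one_apply_eq] at this
      rw [Finset.sum_eq_zero (fun j _ => by rw [hcon j, zero_mul])] at this
      exact zero_ne_one this
    obtain ⟨j, hj⟩ := hex
    refine ⟨j, hj, ?_⟩
    intro k hk
    by_contra hkj
    obtain ⟨a, ha0, ha1⟩ := hF
    -- the diagonal element with `a` in position `j`
    let u : (Fin n → F)ˣ := ⟨fun l => if l = j then a else 1, fun l => if l = j then a⁻¹ else 1,
      by ext l; by_cases hl : l = j <;> simp [hl, ha0],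
      by ext l; by_cases hl : l = j <;> simp [hl, ha0]⟩
    let d : Matrix.GeneralLinearGroup (Fin n) F :=
      Units.map (Matrix.diagonalRingHom (Fin n) F).toMonoidHom u
    have hdT : d ∈ torus n F := ⟨u, rfl⟩
    have hd' := (hN d).mp hdT
    rw [mem_torus] at hd'
    set d' := g * d * g⁻¹ with hd'def
    have hcomm : (g : Matrix (Fin n) (Fin n) F) * (d : Matrix (Fin n) (Fin n) F) =
        (d' : Matrix (Fin n) (Fin n) F) * (g : Matrix (Fin n) (Fin n) F) := by
      rw [← Units.val_mul, ← Units.val_mul, hd'def]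
      congr 1
      group
    have hdcoe : (d : Matrix (Fin n) (Fin n) F) =
        Matrix.diagonal (fun l => if l = j then a else 1) := rfl
    have hentry : ∀ c, (g : Matrix (Fin n) (Fin n) F) i c * (if c = j then a else 1) =
        (d' : Matrix (Fin n) (Fin n) F) i i * (g : Matrix (Fin n) (Fin n) F) i c := by
      intro c
      have := congrFun (congrFun hcomm i) c
      rw [hdcoe, Matrix.mul_diagonal, Matrix.mul_apply] at this
      rw [this]
      apply Finset.sum_eq_single
      · intro l _ hl
        rw [hd' i l (Ne.symm hl), zero_mul]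
      · intro h; exact absurd (Finset.mem_univ _) h
    have e1 := hentry j
    have e2 := hentry k
    rw [if_pos rfl] at e1
    rw [if_neg hkj, mul_one] at e2
    have hd1 : (d' : Matrix (Fin n) (Fin n) F) i i = a := by
      have : (g : Matrix (Fin n) (Fin n) F) i j * a =
          (g : Matrix (Fin n) (Fin n) F) i j * (d' : Matrix (Fin n) (Fin n) F) i i := by
        rw [e1, mul_comm]
      exact (mul_left_cancel₀ hj this).symm
    have hd2 : (d' : Matrix (Fin n) (Fin n) F) i i = 1 := by
      have : (g : Matrix (Fin n) (Fin n) F) i k * 1 =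
          (g : Matrix (Fin n) (Fin n) F) i k * (d' : Matrix (Fin n) (Fin n) F) i i := by
        rw [mul_one, mul_comm]; exact e2
      exact (mul_left_cancel₀ hk this).symm
    exact ha1 (hd1.symm.trans hd2)
  · intro hM
    have hM' := monomial_inv' hgg' hM
    rw [Subgroup.mem_normalizer_iff]
    intro h
    constructor
    · intro hT
      rw [mem_torus] at hT ⊢
      have := conj_diagonal hgg' hM hT
      simpa [Units.val_mul] using this
    · intro hT
      rw [mem_torus] at hT ⊢
      have := conj_diagonal hg'g hM' hT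
      intro i j hij
      have h2 := this i j hij
      have e : ((g⁻¹ : Matrix.GeneralLinearGroup (Fin n) F) : Matrix (Fin n) (Fin n) F) *
          ((g * h * g⁻¹ : Matrix.GeneralLinearGroup (Fin n) F) : Matrix (Fin n) (Fin n) F) *
          (g : Matrix (Fin n) (Fin n) F) = (h : Matrix (Fin n) (Fin n) F) := by
        rw [← Units.val_mul, ← Units.val_mul]
        congr 1
        group
      rw [e] at h2
      exact h2

end Cfsg.Agent.S0770
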