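import Mathlib
import Cfsg.Statements.S0771

set_option autoImplicit false
open Cfsg

namespace Cfsg.Agent.S0771

open Matrix

variable {F : Type*} [Field F] {n k : ℕ}

/-- The index equivalence `Fin k ⊕ Fin (n - k) ≃ Fin n`. -/
def idx (hk : k ≤ n) : Fin k ⊕ Fin (n - k) ≃ Fin n :=
  finSumFinEquiv.trans (finCongr (Nat.add_sub_cancel' hk))

theorem idx_inl (hk : k ≤ n) (a : Fin k) : ((idx hk (Sum.inl a) : Fin n) : ℕ) = a := by
  simp [idx]

theorem idx_inr (hk : k ≤ n) (b : Fin (n - k)) : ((idx hk (Sum.inr b) : Fin n) : ℕ) = k + b := by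
  simp [idx]

/-- The coordinate subspace in terms of the index equivalence. -/
theorem mem_S_iff (hk : k ≤ n) (v : Fin n → F) :
    v ∈ {v : Fin n → F | ∀ i : Fin n, k ≤ (i : ℕ) → v i = 0} ↔
      ∀ b : Fin (n - k), v (idx hk (Sum.inr b)) = 0 := by
  constructor
  · intro h b
    apply h
    rw [idx_inr]
    omega
  · intro h i hi
    obtain ⟨s, rfl⟩ := (idx hk).surjective i
    rcases s with a | b
    · rw [idx_inl] at hi
      have := a.2
      omega
    · exact h b

/-- The block form of a matrix. -/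
def blk (hk : k ≤ n) (M : Matrix (Fin n) (Fin n) F) :
    Matrix (Fin k ⊕ Fin (n - k)) (Fin k ⊕ Fin (n - k)) F :=
  M.submatrix (idx hk) (idx hk)

theorem blk_mulVec (hk : k ≤ n) (M : Matrix (Fin n) (Fin n) F) (v : Fin n → F)
    (s : Fin k ⊕ Fin (n - k)) :
    (M *ᵥ v) (idx hk s) = (blk hk M *ᵥ (v ∘ idx hk)) s := by
  simp only [mulVec, dotProduct, blk, submatrix_apply, Function.comp_apply]
  exact (Equiv.sum_comp (idx hk) (fun j => M (idx hk s) j * v j)).symm

theorem det_blk (hk : k ≤ n) (M : Matrix (Fin n) (Fin n) F) : (blk hk M).det = M.det :=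
  Matrix.det_submatrix_equiv_self (idx hk) M

theorem blk_eq (hk : k ≤ n) (M : Matrix (Fin n) (Fin n) F) (h : (blk hk M).toBlocks₂₁ = 0) :
    blk hk M = fromBlocks (blk hk M).toBlocks₁₁ (blk hk M).toBlocks₁₂ 0 (blk hk M).toBlocks₂₂ := by
  conv_lhs => rw [← fromBlocks_toBlocks (blk hk M), h]

theorem eq_zero_of_det_ne_zero {m : ℕ} {D : Matrix (Fin m) (Fin m) F} (hD : D.det ≠ 0)
    {y : Fin m → F} (hy : D *ᵥ y = 0) : y = 0 := by
  have hu : IsUnit D.det := isUnit_iff_ne_zero.mpr hD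
  have := congrArg (fun z => D⁻¹ *ᵥ z) hy
  simpa [mulVec_mulVec, Matrix.nonsing_inv_mul _ hu] using this

/-- Membership in the stabiliser: the lower-left block vanishes. -/
theorem mem_stab_iff (hk : k ≤ n) (g : Matrix.GeneralLinearGroup (Fin n) F) :
    g ∈ Cfsg.stabilizing (Cfsg.glToMat (Fin n) F)
      {v : Fin n → F | ∀ i : Fin n, k ≤ (i : ℕ) → v i = 0} ↔
      (blk hk (g : Matrix (Fin n) (Fin n) F)).toBlocks₂₁ = 0 := by
  have hmem : g ∈ Cfsg.stabilizing (Cfsg.glToMat (Fin n) F)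
      {v : Fin n → F | ∀ i : Fin n, k ≤ (i : ℕ) → v i = 0} ↔
      ∀ v : Fin n → F, v ∈ {v : Fin n → F | ∀ i : Fin n, k ≤ (i : ℕ) → v i = 0} ↔
        (g : Matrix (Fin n) (Fin n) F) *ᵥ v ∈
          {v : Fin n → F | ∀ i : Fin n, k ≤ (i : ℕ) → v i = 0} := Iff.rfl
  rw [hmem]
  simp only [mem_S_iff hk]
  constructor
  · intro h
    ext b a
    have h1 := (h (Pi.single (idx hk (Sum.inl a)) 1)).mp (by
      intro b'
      rw [Pi.single_apply, if_neg]
      intro hh
      exact Sum.inr_ne_inl ((idx hk).injective hh)) b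
    rw [mulVec_single_one] at h1
    exact h1
  · intro h v
    have hdet : (blk hk (g : Matrix (Fin n) (Fin n) F)).det ≠ 0 := by
      rw [det_blk]
      exact Matrix.GeneralLinearGroup.det_ne_zero g
    rw [blk_eq hk _ h, det_fromBlocks_zero₂₁] at hdet
    have hD := right_ne_zero_of_mul hdet
    simp only [blk_mulVec hk]
    rw [blk_eq hk _ h]
    obtain ⟨x, y, hxy⟩ : ∃ (x : Fin k → F) (y : Fin (n - k) → F), v ∘ idx hk = Sum.elim x y :=
      ⟨fun a => v (idx hk (Sum.inl a)), fun b => v (idx hk (Sum.inr b)), by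
        ext (a | b) <;> rfl⟩
    have hy : ∀ b, v (idx hk (Sum.inr b)) = y b := fun b => congrFun hxy (Sum.inr b)
    rw [hxy, fromBlocks_mulVec]
    simp only [hy, Sum.elim_inr, zero_mulVec, zero_add]
    constructor
    · intro h0
      have : y = 0 := funext h0
      subst this
      simp
    · intro h0
      have : y = 0 := eq_zero_of_det_ne_zero hD (funext h0)
      subst this
      simp

/-- The stabiliser as block data. -/
noncomputable def equivData (hk : k ≤ n) :
    ↥(Cfsg.stabilizing (Cfsg.glToMat (Fin n) F)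
      {v : Fin n → F | ∀ i : Fin n, k ≤ (i : ℕ) → v i = 0}) ≃
    (Matrix.GeneralLinearGroup (Fin k) F × Matrix.GeneralLinearGroup (Fin (n - k)) F) ×
      Matrix (Fin k) (Fin (n - k)) F where
  toFun g :=
    have h := (mem_stab_iff hk g.1).mp g.2
    have hdet : (blk hk (g.1 : Matrix (Fin n) (Fin n) F)).toBlocks₁₁.det *
        (blk hk (g.1 : Matrix (Fin n) (Fin n) F)).toBlocks₂₂.det ≠ 0 := by
      rw [← det_fromBlocks_zero₂₁ _ (blk hk (g.1 : Matrix (Fin n) (Fin n) F)).toBlocks₁₂,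
        ← blk_eq hk _ h, det_blk]
      exact Matrix.GeneralLinearGroup.det_ne_zero g.1
    ((Matrix.GeneralLinearGroup.mkOfDetNeZero _ (left_ne_zero_of_mul hdet),
      Matrix.GeneralLinearGroup.mkOfDetNeZero _ (right_ne_zero_of_mul hdet)),
      (blk hk (g.1 : Matrix (Fin n) (Fin n) F)).toBlocks₁₂)
  invFun d :=
    ⟨Matrix.GeneralLinearGroup.mkOfDetNeZero
      ((fromBlocks (d.1.1 : Matrix (Fin k) (Fin k) F) d.2 0
        (d.1.2 : Matrix (Fin (n - k)) (Fin (n - k)) F)).submatrix (idx hk).symm (idx hk).symm) (by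
        rw [Matrix.det_submatrix_equiv_self, det_fromBlocks_zero₂₁]
        exact mul_ne_zero (Matrix.GeneralLinearGroup.det_ne_zero d.1.1)
          (Matrix.GeneralLinearGroup.det_ne_zero d.1.2)), by
      rw [mem_stab_iff hk]
      ext b a
      simp [blk, Matrix.GeneralLinearGroup.mkOfDetNeZero, toBlocks₂₁]⟩
  left_inv g := by
    have h := (mem_stab_iff hk g.1).mp g.2
    apply Subtype.ext
    apply Units.ext
    change (fromBlocks (blk hk (g.1 : Matrix (Fin n) (Fin n) F)).toBlocks₁₁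
      (blk hk (g.1 : Matrix (Fin n) (Fin n) F)).toBlocks₁₂ 0
      (blk hk (g.1 : Matrix (Fin n) (Fin n) F)).toBlocks₂₂).submatrix (idx hk).symm (idx hk).symm =
      (g.1 : Matrix (Fin n) (Fin n) F)
    rw [← blk_eq hk _ h]
    ext i j
    simp [blk]
  right_inv d := by
    refine Prod.ext (Prod.ext ?_ ?_) ?_
    · apply Units.ext
      change (blk hk ((fromBlocks (d.1.1 : Matrix (Fin k) (Fin k) F) d.2 0
        (d.1.2 : Matrix (Fin (n - k)) (Fin (n - k)) F)).submatrix (idx hk).symm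
          (idx hk).symm)).toBlocks₁₁ = _
      ext a a'
      simp [blk, toBlocks₁₁]
    · apply Units.ext
      change (blk hk ((fromBlocks (d.1.1 : Matrix (Fin k) (Fin k) F) d.2 0
        (d.1.2 : Matrix (Fin (n - k)) (Fin (n - k)) F)).submatrix (idx hk).symm
          (idx hk).symm)).toBlocks₂₂ = _
      ext a a'
      simp [blk, toBlocks₂₂]
    · change (blk hk ((fromBlocks (d.1.1 : Matrix (Fin k) (Fin k) F) d.2 0
        (d.1.2 : Matrix (Fin (n - k)) (Fin (n - k)) F)).submatrix (idx hk).symm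
          (idx hk).symm)).toBlocks₁₂ = _
      ext a a'
      simp [blk, toBlocks₁₂]

/-- Maximal parabolic of GL_n(q): the stabiliser of the coordinate subspace spanned by the first k basis vectors has order q^(k(n-k)) · |GL_k(q)| · |GL_(n-k)(q)| (unipotent radical of order q^(k(n-k)) and Levi complement GL_k × GL_(n-k)). -/
theorem result {F : Type*} [Field F] [Fintype F] {q : ℕ} (hF : Fintype.card F = q) (n k : ℕ) (hk : k ≤ n) : Nat.card ↥(Cfsg.stabilizing (Cfsg.glToMat (Fin n) F) {v : Fin n → F | ∀ i : Fin n, k ≤ (i : ℕ) → v i = 0}) = q ^ (k * (n - k)) * (∏ i : Fin k, (q ^ k - q ^ (i : ℕ))) * ∏ i : Fin (n - k), (q ^ (n - k) - q ^ (i : ℕ)) := by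
  subst hF
  rw [Nat.card_congr (equivData hk), Nat.card_prod, Nat.card_prod, Matrix.card_GL_field,
    Matrix.card_GL_field]
  have : Nat.card (Matrix (Fin k) (Fin (n - k)) F) = Fintype.card F ^ (k * (n - k)) := by
    change Nat.card (Fin k → Fin (n - k) → F) = _
    rw [Nat.card_fun, Nat.card_fun, Nat.card_eq_fintype_card, Nat.card_eq_fintype_card,
      Nat.card_eq_fintype_card, Fintype.card_fin, Fintype.card_fin, ← pow_mul, mul_comm]
  rw [this]
  ring

end Cfsg.Agent.S0771
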