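import Mathlib
import Cfsg.Statements.S0773
import Cfsg.Agent.S0771
import Cfsg.Agent.Helper7.TransvectionGL

set_option autoImplicit false
open Cfsg

namespace Cfsg.Agent.S0773

open Matrix

variable {F : Type*} [Field F] {n : ℕ}

/-- The coordinate subspace as a set. -/
abbrev W (n : ℕ) (F : Type*) [Field F] (k : ℕ) : Set (Fin n → F) :=
  {v : Fin n → F | ∀ i : Fin n, k ≤ (i : ℕ) → v i = 0}

/-- The parabolic subgroup. -/
abbrev P (n : ℕ) (F : Type*) [Field F] (k : ℕ) : Subgroup (Matrix.GeneralLinearGroup (Fin n) F) :=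
  Cfsg.stabilizing (Cfsg.glToMat (Fin n) F) (W n F k)

/-- Entrywise description of the parabolic subgroup. -/
theorem mem_P_iff {k : ℕ} (hk : k ≤ n) (g : Matrix.GeneralLinearGroup (Fin n) F) :
    g ∈ P n F k ↔ ∀ i j : Fin n, k ≤ (i : ℕ) → (j : ℕ) < k →
      (g : Matrix (Fin n) (Fin n) F) i j = 0 := by
  rw [Cfsg.Agent.S0771.mem_stab_iff hk]
  constructor
  · intro h i j hi hj
    obtain ⟨s, rfl⟩ := (Cfsg.Agent.S0771.idx hk).surjective i
    obtain ⟨t, rfl⟩ := (Cfsg.Agent.S0771.idx hk).surjective j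
    rcases s with a | b
    · rw [Cfsg.Agent.S0771.idx_inl] at hi
      have := a.2
      omega
    rcases t with a' | b'
    · exact congrFun (congrFun h b) a'
    · rw [Cfsg.Agent.S0771.idx_inr] at hj
      omega
  · intro h
    ext b a
    apply h
    · rw [Cfsg.Agent.S0771.idx_inr]; omega
    · rw [Cfsg.Agent.S0771.idx_inl]; exact a.2

/-- The automorphism `g ↦ R g⁻ᵀ R` with `R` the reversal of coordinates. -/
def theta (n : ℕ) (F : Type*) [Field F] :
    Matrix.GeneralLinearGroup (Fin n) F →* Matrix.GeneralLinearGroup (Fin n) F where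
  toFun g :=
    ⟨((g⁻¹ : Matrix.GeneralLinearGroup (Fin n) F) : Matrix (Fin n) (Fin n) F)ᵀ.submatrix
        Fin.revPerm Fin.revPerm,
      ((g : Matrix (Fin n) (Fin n) F))ᵀ.submatrix Fin.revPerm Fin.revPerm, by
        rw [Matrix.submatrix_mul_equiv, ← transpose_mul]
        have : (g : Matrix (Fin n) (Fin n) F) *
            ((g⁻¹ : Matrix.GeneralLinearGroup (Fin n) F) : Matrix (Fin n) (Fin n) F) = 1 :=
          congrArg Units.val (mul_inv_cancel g)
        rw [this, transpose_one, submatrix_one_equiv], by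
        rw [Matrix.submatrix_mul_equiv, ← transpose_mul]
        have : ((g⁻¹ : Matrix.GeneralLinearGroup (Fin n) F) : Matrix (Fin n) (Fin n) F) *
            (g : Matrix (Fin n) (Fin n) F) = 1 :=
          congrArg Units.val (inv_mul_cancel g)
        rw [this, transpose_one, submatrix_one_equiv]⟩
  map_one' := by
    apply Units.ext
    change ((((1 : Matrix.GeneralLinearGroup (Fin n) F)⁻¹ : Matrix.GeneralLinearGroup (Fin n) F) :
      Matrix (Fin n) (Fin n) F))ᵀ.submatrix Fin.revPerm Fin.revPerm = 1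
    rw [inv_one, Units.val_one, transpose_one, submatrix_one_equiv]
  map_mul' g h := by
    apply Units.ext
    change ((((g * h)⁻¹ : Matrix.GeneralLinearGroup (Fin n) F) :
      Matrix (Fin n) (Fin n) F))ᵀ.submatrix Fin.revPerm Fin.revPerm =
      ((g⁻¹ : Matrix.GeneralLinearGroup (Fin n) F) : Matrix (Fin n) (Fin n) F)ᵀ.submatrix
        Fin.revPerm Fin.revPerm *
      ((h⁻¹ : Matrix.GeneralLinearGroup (Fin n) F) : Matrix (Fin n) (Fin n) F)ᵀ.submatrix
        Fin.revPerm Fin.revPerm
    rw [Matrix.submatrix_mul_equiv, ← transpose_mul, _root_.mul_inv_rev, Units.val_mul]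

theorem theta_apply (g : Matrix.GeneralLinearGroup (Fin n) F) (i j : Fin n) :
    (theta n F g : Matrix (Fin n) (Fin n) F) i j =
      ((g⁻¹ : Matrix.GeneralLinearGroup (Fin n) F) : Matrix (Fin n) (Fin n) F) j.rev i.rev := rfl

theorem theta_theta (g : Matrix.GeneralLinearGroup (Fin n) F) : theta n F (theta n F g) = g := by
  apply Units.ext
  ext i j
  rw [theta_apply]
  change ((g : Matrix (Fin n) (Fin n) F))ᵀ.submatrix Fin.revPerm Fin.revPerm j.rev i.rev = _
  simp

theorem theta_mem {k k' : ℕ} (hkk : k + k' = n) {g : Matrix.GeneralLinearGroup (Fin n) F}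
    (hg : g ∈ P n F k) : theta n F g ∈ P n F k' := by
  have hg' := (P n F k).inv_mem hg
  rw [mem_P_iff (by omega)] at hg' ⊢
  intro i j hi hj
  rw [theta_apply]
  apply hg'
  · rw [Fin.val_rev]; omega
  · rw [Fin.val_rev]; omega

/-- The two parabolic subgroups are isomorphic. -/
def parabolicEquiv {k k' : ℕ} (hkk : k + k' = n) : ↥(P n F k) ≃* ↥(P n F k') where
  toFun g := ⟨theta n F g.1, theta_mem hkk g.2⟩
  invFun g := ⟨theta n F g.1, theta_mem (by omega) g.2⟩
  left_inv g := Subtype.ext (theta_theta g.1)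
  right_inv g := Subtype.ext (theta_theta g.1)
  map_mul' g h := Subtype.ext (map_mul (theta n F) g.1 h.1)

/-- The coordinate subspace as a submodule. -/
def Wsub (n : ℕ) (F : Type*) [Field F] (k : ℕ) : Submodule F (Fin n → F) where
  carrier := W n F k
  add_mem' := by
    intro a b ha hb i hi
    rw [Pi.add_apply, ha i hi, hb i hi, add_zero]
  zero_mem' := fun _ _ => rfl
  smul_mem' := by
    intro c a ha i hi
    rw [Pi.smul_apply, ha i hi, smul_zero]

theorem mem_Wsub {k : ℕ} (v : Fin n → F) : v ∈ Wsub n F k ↔ ∀ i : Fin n, k ≤ (i : ℕ) → v i = 0 :=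
  Iff.rfl

/-- The elementary transvections lying in the parabolic subgroup. -/
theorem elem_mem {k : ℕ} (hk : k ≤ n) {i j : Fin n} (hij : i ≠ j) (hal : ¬ (k ≤ (i : ℕ) ∧ (j : ℕ) < k)) :
    Cfsg.Agent.Helper7.TGL.tau (Pi.single i (1 : F)) (Pi.single j (1 : F))
      (by rw [single_dotProduct, one_mul, Pi.single_apply, if_neg (Ne.symm hij)]) ∈ P n F k := by
  rw [mem_P_iff hk]
  intro a b ha hb
  change (1 + vecMulVec (Pi.single i (1 : F)) (Pi.single j (1 : F))) a b = 0
  have hab : a ≠ b := by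
    intro h
    rw [h] at ha
    omega
  rw [Matrix.add_apply, Matrix.one_apply_ne hab, vecMulVec_apply, zero_add]
  by_cases hai : a = i
  · by_cases hbj : b = j
    · subst hai hbj
      exact absurd ⟨ha, hb⟩ hal
    · rw [Pi.single_eq_of_ne hbj, mul_zero]
  · rw [Pi.single_eq_of_ne hai, zero_mul]

/-- A submodule invariant under the parabolic subgroup containing `x` with `x j ≠ 0` contains the basis
vectors `e_i` for all `i` allowed with `j`. -/
theorem single_mem_of_invariant {k : ℕ} (hk : k ≤ n) (X : Submodule F (Fin n → F))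
    (hX : ∀ h ∈ P n F k, ∀ x ∈ X, (h : Matrix (Fin n) (Fin n) F) *ᵥ x ∈ X)
    {x : Fin n → F} (hx : x ∈ X) {j : Fin n} (hj : x j ≠ 0)
    (hsupp : ∀ i, x i ≠ 0 → ¬ (k ≤ (i : ℕ) ∧ (j : ℕ) < k))
    (i : Fin n) (hi : ¬ (k ≤ (i : ℕ) ∧ (j : ℕ) < k)) : (Pi.single i (1 : F) : Fin n → F) ∈ X := by
  have key : ∀ i : Fin n, i ≠ j → ¬ (k ≤ (i : ℕ) ∧ (j : ℕ) < k) →
      (Pi.single i (1 : F) : Fin n → F) ∈ X := by
    intro i hij hal
    have h1 := hX _ (elem_mem hk hij hal) x hx
    rw [Cfsg.Agent.Helper7.TGL.tau_mulVec, single_dotProduct, one_mul] at h1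
    have h2 := X.sub_mem h1 hx
    rw [add_sub_cancel_left] at h2
    have h3 := X.smul_mem (x j)⁻¹ h2
    rwa [smul_smul, inv_mul_cancel₀ hj, one_smul] at h3
  by_cases hij : i = j
  · subst hij
    have hsum : x = ∑ l, x l • (Pi.single l (1 : F) : Fin n → F) := by
      ext a
      simp [Finset.sum_apply, Pi.single_apply]
    have h1 : x i • (Pi.single i (1 : F) : Fin n → F) =
        x - ∑ l ∈ Finset.univ.erase i, x l • (Pi.single l (1 : F) : Fin n → F) := by
      rw [eq_sub_iff_add_eq,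
        Finset.add_sum_erase Finset.univ (fun l => x l • (Pi.single l (1 : F) : Fin n → F))
          (Finset.mem_univ i)]
      exact hsum.symm
    have h2 : x i • (Pi.single i (1 : F) : Fin n → F) ∈ X := by
      rw [h1]
      apply X.sub_mem hx
      apply X.sum_mem
      intro l hl
      by_cases hxl : x l = 0
      · rw [hxl, zero_smul]; exact X.zero_mem
      · exact X.smul_mem _ (key l (Finset.ne_of_mem_erase hl) (hsupp l hxl))
    have h3 := X.smul_mem (x i)⁻¹ h2
    rwa [smul_smul, inv_mul_cancel₀ hj, one_smul] at h3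
  · exact key i hij hi

/-- An invariant submodule is `⊥`, the coordinate subspace, or `⊤`. -/
theorem invariant_trichotomy {k : ℕ} (hk : k ≤ n) (X : Submodule F (Fin n → F))
    (hX : ∀ h ∈ P n F k, ∀ x ∈ X, (h : Matrix (Fin n) (Fin n) F) *ᵥ x ∈ X) :
    X = ⊥ ∨ X = Wsub n F k ∨ X = ⊤ := by
  by_cases h1 : ∃ x ∈ X, ∃ j : Fin n, k ≤ (j : ℕ) ∧ x j ≠ 0
  · obtain ⟨x, hx, j, hjk, hj⟩ := h1
    right; right
    rw [eq_top_iff]
    intro v _
    have hsum : v = ∑ l, v l • (Pi.single l (1 : F) : Fin n → F) := by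
      ext a
      simp [Finset.sum_apply, Pi.single_apply]
    rw [hsum]
    apply X.sum_mem
    intro l _
    apply X.smul_mem
    exact single_mem_of_invariant hk X hX hx hj (fun i _ h => by omega) l (fun h => by omega)
  · push Not at h1
    have hle : X ≤ Wsub n F k := by
      intro x hx i hi
      exact h1 x hx i hi
    by_cases h2 : X = ⊥
    · left; exact h2
    · right; left
      apply le_antisymm hle
      obtain ⟨x, hx, hx0⟩ := (Submodule.ne_bot_iff X).mp h2
      obtain ⟨j, hj⟩ : ∃ j, x j ≠ 0 := by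
        by_contra hcon
        push Not at hcon
        exact hx0 (funext hcon)
      have hjk : (j : ℕ) < k := by
        by_contra hcon
        exact hj (h1 x hx j (not_lt.mp hcon))
      intro v hv
      have hsum : v = ∑ l, v l • (Pi.single l (1 : F) : Fin n → F) := by
        ext a
        simp [Finset.sum_apply, Pi.single_apply]
      rw [hsum]
      apply X.sum_mem
      intro l _
      by_cases hl : k ≤ (l : ℕ)
      · rw [hv l hl, zero_smul]; exact X.zero_mem
      · apply X.smul_mem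
        refine single_mem_of_invariant hk X hX hx hj (fun i hi h => ?_) l (fun h => hl h.1)
        exact hi (h1 x hx i h.1)

/-- The coordinate subspace has `q^k` elements. -/
noncomputable def equivW {k : ℕ} (hk : k ≤ n) : ↥(W n F k) ≃ (Fin k → F) where
  toFun v a := v.1 (Fin.castLE hk a)
  invFun x := ⟨fun i => if h : (i : ℕ) < k then x ⟨i, h⟩ else 0, fun i hi => by
    change (if h : (i : ℕ) < k then x ⟨i, h⟩ else 0) = 0
    rw [dif_neg (not_lt.mpr hi)]⟩
  left_inv v := by
    apply Subtype.ext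
    funext i
    by_cases h : (i : ℕ) < k
    · change (if h : (i : ℕ) < k then v.1 (Fin.castLE hk ⟨i, h⟩) else 0) = v.1 i
      rw [dif_pos h]
      rfl
    · change (if h : (i : ℕ) < k then v.1 (Fin.castLE hk ⟨i, h⟩) else 0) = v.1 i
      rw [dif_neg h]
      exact (v.2 i (not_lt.mp h)).symm
  right_inv x := by
    funext a
    change (if h : ((Fin.castLE hk a : Fin n) : ℕ) < k then x ⟨(Fin.castLE hk a : Fin n), h⟩ else 0) = x a
    rw [dif_pos (by simp)]
    rfl

theorem mulVec_inv_mulVec (g : Matrix.GeneralLinearGroup (Fin n) F) (y : Fin n → F) :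
    (g : Matrix (Fin n) (Fin n) F) *ᵥ
      (((g⁻¹ : Matrix.GeneralLinearGroup (Fin n) F) : Matrix (Fin n) (Fin n) F) *ᵥ y) = y := by
  rw [mulVec_mulVec, ← Units.val_mul, mul_inv_cancel, Units.val_one, one_mulVec]

theorem inv_mulVec_mulVec (g : Matrix.GeneralLinearGroup (Fin n) F) (y : Fin n → F) :
    ((g⁻¹ : Matrix.GeneralLinearGroup (Fin n) F) : Matrix (Fin n) (Fin n) F) *ᵥ
      ((g : Matrix (Fin n) (Fin n) F) *ᵥ y) = y := by
  rw [mulVec_mulVec, ← Units.val_mul, inv_mul_cancel, Units.val_one, one_mulVec]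

theorem not_conj [Finite F] {k : ℕ} (hk0 : 0 < k) (hkn : k < n) (h2 : 2 * k ≠ n)
    (g : Matrix.GeneralLinearGroup (Fin n) F) :
    (P n F k).map (MulAut.conj g).toMonoidHom ≠ P n F (n - k) := by
  intro heq
  set X : Submodule F (Fin n → F) :=
    Submodule.comap (Matrix.mulVecLin (g : Matrix (Fin n) (Fin n) F)) (Wsub n F (n - k)) with hXdef
  have memX : ∀ x : Fin n → F, x ∈ X ↔ (g : Matrix (Fin n) (Fin n) F) *ᵥ x ∈ W n F (n - k) :=
    fun x => Iff.rfl
  have hX : ∀ h ∈ P n F k, ∀ x ∈ X, (h : Matrix (Fin n) (Fin n) F) *ᵥ x ∈ X := by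
    intro h hh x hx
    have hc : g * h * g⁻¹ ∈ P n F (n - k) := by
      rw [← heq]
      exact ⟨h, hh, by simp [MulAut.conj_apply]⟩
    have hc' : ∀ y : Fin n → F, y ∈ W n F (n - k) ↔
        ((g * h * g⁻¹ : Matrix.GeneralLinearGroup (Fin n) F) : Matrix (Fin n) (Fin n) F) *ᵥ y ∈
          W n F (n - k) := hc
    have h1 := (hc' _).mp ((memX x).mp hx)
    rw [memX]
    have h3 : ((g * h * g⁻¹ : Matrix.GeneralLinearGroup (Fin n) F) : Matrix (Fin n) (Fin n) F) *ᵥ
        ((g : Matrix (Fin n) (Fin n) F) *ᵥ x) =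
        (g : Matrix (Fin n) (Fin n) F) *ᵥ ((h : Matrix (Fin n) (Fin n) F) *ᵥ x) := by
      rw [mulVec_mulVec, ← Units.val_mul, inv_mul_cancel_right, Units.val_mul, ← mulVec_mulVec]
    rw [h3] at h1
    exact h1
  rcases invariant_trichotomy hkn.le X hX with h | h | h
  · -- X = ⊥
    have hy : ((g⁻¹ : Matrix.GeneralLinearGroup (Fin n) F) : Matrix (Fin n) (Fin n) F) *ᵥ
        (Pi.single (⟨0, by omega⟩ : Fin n) (1 : F)) ∈ X := by
      rw [memX, mulVec_inv_mulVec]
      intro i hi
      rw [Pi.single_eq_of_ne]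
      intro hh
      rw [hh] at hi
      simp at hi
      omega
    rw [h, Submodule.mem_bot] at hy
    have := congrArg (fun z => (g : Matrix (Fin n) (Fin n) F) *ᵥ z) hy
    simp only [mulVec_inv_mulVec, mulVec_zero] at this
    have h0 := congrFun this ⟨0, by omega⟩
    simp at h0
  · -- X = Wsub k
    have hcard : Nat.card ↥(W n F k) = Nat.card ↥(W n F (n - k)) := by
      apply Nat.card_congr
      refine ⟨fun x => ⟨(g : Matrix (Fin n) (Fin n) F) *ᵥ x.1, ?_⟩,
        fun y => ⟨((g⁻¹ : Matrix.GeneralLinearGroup (Fin n) F) : Matrix (Fin n) (Fin n) F) *ᵥ y.1,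
          ?_⟩, ?_, ?_⟩
      · have : x.1 ∈ X := by rw [h]; exact x.2
        exact (memX _).mp this
      · have : ((g⁻¹ : Matrix.GeneralLinearGroup (Fin n) F) : Matrix (Fin n) (Fin n) F) *ᵥ y.1 ∈ X := by
          rw [memX, mulVec_inv_mulVec]; exact y.2
        rw [h] at this
        exact this
      · intro x
        apply Subtype.ext
        exact inv_mulVec_mulVec g x.1
      · intro y
        apply Subtype.ext
        exact mulVec_inv_mulVec g y.1
    rw [Nat.card_congr (equivW hkn.le), Nat.card_congr (equivW (Nat.sub_le n k)), Nat.card_fun,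
      Nat.card_fun, Nat.card_fin, Nat.card_fin] at hcard
    have hq : 2 ≤ Nat.card F := by
      have : Nontrivial F := inferInstance
      exact Finite.one_lt_card
    have := Nat.pow_right_injective hq hcard
    omega
  · -- X = ⊤
    have hy : ((g⁻¹ : Matrix.GeneralLinearGroup (Fin n) F) : Matrix (Fin n) (Fin n) F) *ᵥ
        (Pi.single (⟨n - 1, by omega⟩ : Fin n) (1 : F)) ∈ X := by
      rw [h]; exact Submodule.mem_top
    rw [memX, mulVec_inv_mulVec] at hy
    have := hy ⟨n - 1, by omega⟩ (by simp; omega)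
    simp at this

/-- The stabilisers in GL_n(F), F finite, of the coordinate subspaces of dimensions k and n − k are isomorphic groups, but when 2k ≠ n (and 0 < k < n) no element of GL_n conjugates one onto the other. -/
theorem result {F : Type*} [Field F] [Finite F] (n k : ℕ) (hk0 : 0 < k) (hkn : k < n) (h2 : 2 * k ≠ n) : Nonempty (↥(Cfsg.stabilizing (Cfsg.glToMat (Fin n) F) {v : Fin n → F | ∀ i : Fin n, k ≤ (i : ℕ) → v i = 0}) ≃* ↥(Cfsg.stabilizing (Cfsg.glToMat (Fin n) F) {v : Fin n → F | ∀ i : Fin n, n - k ≤ (i : ℕ) → v i = 0})) ∧ ∀ g : Matrix.GeneralLinearGroup (Fin n) F, (Cfsg.stabilizing (Cfsg.glToMat (Fin n) F) {v : Fin n → F | ∀ i : Fin n, k ≤ (i : ℕ) → v i = 0}).map (MulAut.conj g).toMonoidHom ≠ Cfsg.stabilizing (Cfsg.glToMat (Fin n) F) {v : Fin n → F | ∀ i : Fin n, n - k ≤ (i : ℕ) → v i = 0} := by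
  refine ⟨⟨parabolicEquiv (by omega)⟩, fun g => not_conj hk0 hkn h2 g⟩

end Cfsg.Agent.S0773
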