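import Mathlib
import Cfsg.Statements.S0772
import Cfsg.Agent.S0773
import Cfsg.Agent.Helper7.ParabolicMax

set_option autoImplicit false
open Cfsg

namespace Cfsg.Agent.S0772

open Matrix Cfsg.Agent.Helper7.TGL Cfsg.Agent.Helper7.PMax Cfsg.Agent.S0773

variable {F : Type*} [Field F] {n : ℕ}

theorem P_eq (k : ℕ) : P n F k = Cfsg.Geo.subspaceStabilizer (Wsub n F k) := rfl

/-- A diagonal matrix with prescribed determinant. -/
noncomputable def dg (hn : 0 < n) (c : Fˣ) : Matrix.GeneralLinearGroup (Fin n) F :=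
  Matrix.GeneralLinearGroup.mkOfDetNeZero
    (Matrix.diagonal (Function.update (fun _ => (1 : F)) (⟨0, hn⟩ : Fin n) (c : F))) (by
      rw [det_diagonal, Finset.prod_update_of_mem (Finset.mem_univ _)]
      simp)

theorem det_dg (hn : 0 < n) (c : Fˣ) : Matrix.GeneralLinearGroup.det (dg hn c) = c := by
  apply Units.ext
  change (Matrix.diagonal (Function.update (fun _ => (1 : F)) (⟨0, hn⟩ : Fin n) (c : F))).det = c
  rw [det_diagonal, Finset.prod_update_of_mem (Finset.mem_univ _)]
  simp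

theorem dg_mem (hn : 0 < n) (c : Fˣ) {k : ℕ} (hk : k ≤ n) : dg hn c ∈ P n F k := by
  rw [mem_P_iff hk]
  intro i j hi hj
  change (Matrix.diagonal (Function.update (fun _ => (1 : F)) (⟨0, hn⟩ : Fin n) (c : F))) i j = 0
  apply Matrix.diagonal_apply_ne
  intro h
  rw [h] at hi
  omega

/-- Maximal parabolics are maximal: over a finite field, for 0 < k < n the stabiliser in GL_n of the span of the first k coordinate vectors is a maximal proper subgroup. -/
theorem result {F : Type*} [Field F] [Finite F] (n k : ℕ) (hk0 : 0 < k) (hkn : k < n) : IsCoatom (Cfsg.stabilizing (Cfsg.glToMat (Fin n) F) {v : Fin n → F | ∀ i : Fin n, k ≤ (i : ℕ) → v i = 0}) := by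
  change IsCoatom (P n F k)
  have hn : 0 < n := by omega
  refine ⟨?_, ?_⟩
  · intro htop
    have hij : (⟨k, hkn⟩ : Fin n) ≠ ⟨0, hn⟩ := by
      intro h
      have := congrArg Fin.val h
      simp at this
      omega
    have h0 : (Pi.single (⟨0, hn⟩ : Fin n) (1 : F) : Fin n → F) ⬝ᵥ
        (Pi.single (⟨k, hkn⟩ : Fin n) (1 : F) : Fin n → F) = 0 := by
      rw [single_dotProduct, one_mul, Pi.single_apply, if_neg (Ne.symm hij)]
    have hmem : tau (Pi.single (⟨k, hkn⟩ : Fin n) (1 : F)) (Pi.single (⟨0, hn⟩ : Fin n) (1 : F)) h0 ∈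
        P n F k := by rw [htop]; exact Subgroup.mem_top _
    rw [mem_P_iff hkn.le] at hmem
    have := hmem ⟨k, hkn⟩ ⟨0, hn⟩ (le_refl _) hk0
    change (1 + vecMulVec (Pi.single (⟨k, hkn⟩ : Fin n) (1 : F))
      (Pi.single (⟨0, hn⟩ : Fin n) (1 : F))) ⟨k, hkn⟩ ⟨0, hn⟩ = 0 at this
    rw [Matrix.add_apply, Matrix.one_apply_ne hij, vecMulVec_apply, Pi.single_eq_same,
      Pi.single_eq_same] at this
    simp at this
  · intro X hX
    obtain ⟨g, hgX, hgP⟩ := SetLike.exists_of_lt hX
    have hSL : Cfsg.Geo.specialLinear (Fin n) F ≤ X :=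
      specialLinear_le (Wsub n F k) X (le_trans inf_le_left hX.le) hgX hgP
    rw [eq_top_iff]
    intro g' _
    have h1 : g' * (dg hn (Matrix.GeneralLinearGroup.det g'))⁻¹ ∈ Cfsg.Geo.specialLinear (Fin n) F := by
      change _ ∈ (Matrix.GeneralLinearGroup.det : Matrix.GeneralLinearGroup (Fin n) F →* Fˣ).ker
      rw [MonoidHom.mem_ker, map_mul, map_inv, det_dg, mul_inv_cancel]
    have h2 : dg hn (Matrix.GeneralLinearGroup.det g') ∈ X := hX.le (dg_mem hn _ hkn.le)
    have := X.mul_mem (hSL h1) h2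
    rwa [inv_mul_cancel_right] at this

end Cfsg.Agent.S0772
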