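import Mathlib
import Cfsg.Statements.S0774
import Cfsg.Agent.S0769

set_option autoImplicit false
open Cfsg

namespace Cfsg.Agent.S0774

open Matrix

variable {F : Type*} [Field F] {m : ℕ}

/-- The coordinate subspaces. -/
abbrev T (m : ℕ) (F : Type*) [Field F] (k : Fin m) : Set (Fin m ⊕ Fin m → F) :=
  {v : Fin m ⊕ Fin m → F | (∀ i : Fin m, (k : ℕ) < (i : ℕ) → v (Sum.inl i) = 0) ∧
    ∀ i : Fin m, v (Sum.inr i) = 0}

/-- For a finite set, mapping into the set under an injective linear map means stabilising. -/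
theorem stab_of_mapsTo [Finite F] {ι : Type*} [Fintype ι] [DecidableEq ι] (M N : Matrix ι ι F)
    (hNM : N * M = 1) (S : Set (ι → F)) (h : ∀ v ∈ S, M *ᵥ v ∈ S) (v : ι → F) :
    v ∈ S ↔ M *ᵥ v ∈ S := by
  refine ⟨h v, fun hv => ?_⟩
  have hinj : Function.Injective (fun w : S => (⟨M *ᵥ w.1, h w.1 w.2⟩ : S)) := by
    intro w w' hww
    have h1 : M *ᵥ w.1 = M *ᵥ w'.1 := congrArg Subtype.val hww
    have h2 := congrArg (fun z => N *ᵥ z) h1
    simp only [mulVec_mulVec, hNM, one_mulVec] at h2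
    exact Subtype.ext h2
  obtain ⟨w, hw⟩ := Finite.surjective_of_injective hinj ⟨M *ᵥ v, hv⟩
  have h1 : M *ᵥ w.1 = M *ᵥ v := congrArg Subtype.val hw
  have h2 := congrArg (fun z => N *ᵥ z) h1
  simp only [mulVec_mulVec, hNM, one_mulVec] at h2
  rw [← h2]
  exact w.2

theorem inv_mul_coe (g : Matrix.symplecticGroup (Fin m) F) :
    ((g⁻¹ : Matrix.symplecticGroup (Fin m) F) : Matrix (Fin m ⊕ Fin m) (Fin m ⊕ Fin m) F) *
      (g : Matrix (Fin m ⊕ Fin m) (Fin m ⊕ Fin m) F) = 1 := by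
  have := congrArg (fun h : Matrix.symplecticGroup (Fin m) F =>
    (h : Matrix (Fin m ⊕ Fin m) (Fin m ⊕ Fin m) F)) (inv_mul_cancel g)
  exact this

/-- Membership in the Borel subgroup. -/
theorem mem_borel_iff [Finite F] (g : Matrix.symplecticGroup (Fin m) F) :
    g ∈ (⨅ k : Fin m, Cfsg.stabilizing (Cfsg.spToMat m F) (T m F k)) ↔
      ((g : Matrix (Fin m ⊕ Fin m) (Fin m ⊕ Fin m) F).toBlocks₂₁ = 0 ∧
        ∀ i j : Fin m, j < i →
          (g : Matrix (Fin m ⊕ Fin m) (Fin m ⊕ Fin m) F).toBlocks₁₁ i j = 0) := by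
  rw [Subgroup.mem_iInf]
  constructor
  · intro h
    have key : ∀ j : Fin m, (g : Matrix (Fin m ⊕ Fin m) (Fin m ⊕ Fin m) F) *ᵥ
        (Pi.single (Sum.inl j) 1) ∈ T m F j := by
      intro j
      have hj : ∀ v : Fin m ⊕ Fin m → F, v ∈ T m F j ↔
        (g : Matrix (Fin m ⊕ Fin m) (Fin m ⊕ Fin m) F) *ᵥ v ∈ T m F j := h j
      refine (hj _).mp ⟨?_, ?_⟩
      · intro i hi
        rw [Pi.single_apply, if_neg]
        intro hh
        have : i = j := Sum.inl_injective hh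
        subst this
        exact lt_irrefl _ hi
      · intro i
        simp
    constructor
    · ext i j
      have := (key j).2 i
      rw [mulVec_single_one] at this
      exact this
    · intro i j hij
      have := (key j).1 i hij
      rw [mulVec_single_one] at this
      exact this
  · rintro ⟨hC, hA⟩ k
    change ∀ v : Fin m ⊕ Fin m → F, v ∈ T m F k ↔
        (g : Matrix (Fin m ⊕ Fin m) (Fin m ⊕ Fin m) F) *ᵥ v ∈ T m F k
    apply stab_of_mapsTo _ _ (inv_mul_coe g)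
    rintro v ⟨hv1, hv2⟩
    have hC' : ∀ i j : Fin m,
        (g : Matrix (Fin m ⊕ Fin m) (Fin m ⊕ Fin m) F) (Sum.inr i) (Sum.inl j) = 0 :=
      fun i j => congrFun (congrFun hC i) j
    constructor
    · intro i hi
      simp only [mulVec, dotProduct, Fintype.sum_sum_type, hv2, mul_zero, Finset.sum_const_zero,
        add_zero]
      apply Finset.sum_eq_zero
      intro j _
      by_cases hji : j < i
      · have := hA i j hji
        simp only [toBlocks₁₁, of_apply] at this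
        rw [this, zero_mul]
      · rw [hv1 j (by
          have : i ≤ j := not_lt.mp hji
          exact lt_of_lt_of_le hi this), mul_zero]
    · intro i
      simp only [mulVec, dotProduct, Fintype.sum_sum_type, hv2, mul_zero, Finset.sum_const_zero,
        add_zero, hC', zero_mul]

/-- The block relations for a symplectic matrix with vanishing lower-left block. -/
theorem block_relations (g : Matrix.symplecticGroup (Fin m) F)
    (hC : (g : Matrix (Fin m ⊕ Fin m) (Fin m ⊕ Fin m) F).toBlocks₂₁ = 0) :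
    (g : Matrix (Fin m ⊕ Fin m) (Fin m ⊕ Fin m) F).toBlocks₁₁ *
      ((g : Matrix (Fin m ⊕ Fin m) (Fin m ⊕ Fin m) F).toBlocks₂₂)ᵀ = 1 ∧
    (g : Matrix (Fin m ⊕ Fin m) (Fin m ⊕ Fin m) F).toBlocks₁₂ *
      ((g : Matrix (Fin m ⊕ Fin m) (Fin m ⊕ Fin m) F).toBlocks₁₁)ᵀ =
    (g : Matrix (Fin m ⊕ Fin m) (Fin m ⊕ Fin m) F).toBlocks₁₁ *
      ((g : Matrix (Fin m ⊕ Fin m) (Fin m ⊕ Fin m) F).toBlocks₁₂)ᵀ := by
  have hg := g.2
  rw [SymplecticGroup.mem_iff] at hg
  obtain ⟨M, hM⟩ : ∃ M, M = (g : Matrix (Fin m ⊕ Fin m) (Fin m ⊕ Fin m) F) := ⟨_, rfl⟩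
  rw [← hM] at hg hC ⊢
  have hMb : M = fromBlocks M.toBlocks₁₁ M.toBlocks₁₂ 0 M.toBlocks₂₂ := by
    conv_lhs => rw [← fromBlocks_toBlocks M, hC]
  rw [hMb, Matrix.J, fromBlocks_transpose, fromBlocks_multiply, fromBlocks_multiply,
    fromBlocks_inj] at hg
  simp only [Matrix.zero_mul, Matrix.mul_zero, transpose_zero, add_zero, zero_add, Matrix.mul_neg,
    Matrix.mul_one, Matrix.neg_mul, neg_inj] at hg
  obtain ⟨h1, h2, -, -⟩ := hg
  refine ⟨h2, ?_⟩
  rw [← sub_eq_zero, sub_eq_add_neg]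
  exact h1

/-- Block upper triangular matrices `[[A, A S], [0, A⁻ᵀ]]` with `S` symmetric are symplectic. -/
theorem mk_mem (A A' S : Matrix (Fin m) (Fin m) F) (hA : A * A' = 1) (hS : Sᵀ = S) :
    fromBlocks A (A * S) 0 A'ᵀ ∈ Matrix.symplecticGroup (Fin m) F := by
  rw [SymplecticGroup.mem_iff, Matrix.J, fromBlocks_transpose, fromBlocks_multiply,
    fromBlocks_multiply]
  have hA' : A' * A = 1 := (_root_.mul_eq_one_comm).mp hA
  have h1 : A'ᵀ * Aᵀ = 1 := by rw [← transpose_mul, hA, transpose_one]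
  simp only [Matrix.zero_mul, Matrix.mul_zero, transpose_zero, add_zero, zero_add, Matrix.mul_neg,
    Matrix.mul_one, Matrix.neg_mul, transpose_transpose, transpose_mul, hS, hA, h1]
  congr 1
  · rw [Matrix.mul_assoc, add_neg_cancel]
  · simp
  · simp

/-- The Borel subgroup as data: an invertible upper triangular matrix and a symmetric matrix. -/
noncomputable def equivData [Finite F] :
    ↥(⨅ k : Fin m, Cfsg.stabilizing (Cfsg.spToMat m F) (T m F k)) ≃
      {A : Matrix.GeneralLinearGroup (Fin m) F // ∀ i j : Fin m, j < i →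
        (A : Matrix (Fin m) (Fin m) F) i j = 0} ×
      {S : Matrix (Fin m) (Fin m) F // Sᵀ = S} where
  toFun g :=
    have h := (mem_borel_iff g.1).mp g.2
    have hr := block_relations g.1 h.1
    (⟨⟨(g.1 : Matrix (Fin m ⊕ Fin m) (Fin m ⊕ Fin m) F).toBlocks₁₁,
        ((g.1 : Matrix (Fin m ⊕ Fin m) (Fin m ⊕ Fin m) F).toBlocks₂₂)ᵀ, hr.1,
        (_root_.mul_eq_one_comm).mp hr.1⟩, h.2⟩,
      ⟨((g.1 : Matrix (Fin m ⊕ Fin m) (Fin m ⊕ Fin m) F).toBlocks₂₂)ᵀ *
        (g.1 : Matrix (Fin m ⊕ Fin m) (Fin m ⊕ Fin m) F).toBlocks₁₂, by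
        have hDA : ((g.1 : Matrix (Fin m ⊕ Fin m) (Fin m ⊕ Fin m) F).toBlocks₂₂)ᵀ *
            (g.1 : Matrix (Fin m ⊕ Fin m) (Fin m ⊕ Fin m) F).toBlocks₁₁ = 1 :=
          (_root_.mul_eq_one_comm).mp hr.1
        have hAD' : ((g.1 : Matrix (Fin m ⊕ Fin m) (Fin m ⊕ Fin m) F).toBlocks₁₁)ᵀ *
            (g.1 : Matrix (Fin m ⊕ Fin m) (Fin m ⊕ Fin m) F).toBlocks₂₂ = 1 := by
          have := congrArg Matrix.transpose hDA
          rwa [transpose_mul, transpose_transpose, transpose_one] at this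
        rw [transpose_mul, transpose_transpose]
        calc ((g.1 : Matrix (Fin m ⊕ Fin m) (Fin m ⊕ Fin m) F).toBlocks₁₂)ᵀ *
              (g.1 : Matrix (Fin m ⊕ Fin m) (Fin m ⊕ Fin m) F).toBlocks₂₂
            = (((g.1 : Matrix (Fin m ⊕ Fin m) (Fin m ⊕ Fin m) F).toBlocks₂₂)ᵀ *
              (g.1 : Matrix (Fin m ⊕ Fin m) (Fin m ⊕ Fin m) F).toBlocks₁₁) *
              ((g.1 : Matrix (Fin m ⊕ Fin m) (Fin m ⊕ Fin m) F).toBlocks₁₂)ᵀ *
              (g.1 : Matrix (Fin m ⊕ Fin m) (Fin m ⊕ Fin m) F).toBlocks₂₂ := by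
                rw [hDA, Matrix.one_mul]
          _ = ((g.1 : Matrix (Fin m ⊕ Fin m) (Fin m ⊕ Fin m) F).toBlocks₂₂)ᵀ *
              ((g.1 : Matrix (Fin m ⊕ Fin m) (Fin m ⊕ Fin m) F).toBlocks₁₂ *
              ((g.1 : Matrix (Fin m ⊕ Fin m) (Fin m ⊕ Fin m) F).toBlocks₁₁)ᵀ) *
              (g.1 : Matrix (Fin m ⊕ Fin m) (Fin m ⊕ Fin m) F).toBlocks₂₂ := by
                rw [hr.2]; simp only [Matrix.mul_assoc]
          _ = ((g.1 : Matrix (Fin m ⊕ Fin m) (Fin m ⊕ Fin m) F).toBlocks₂₂)ᵀ *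
              (g.1 : Matrix (Fin m ⊕ Fin m) (Fin m ⊕ Fin m) F).toBlocks₁₂ := by
                rw [Matrix.mul_assoc, Matrix.mul_assoc, hAD', Matrix.mul_one]⟩)
  invFun d :=
    ⟨⟨fromBlocks (d.1.1 : Matrix (Fin m) (Fin m) F) ((d.1.1 : Matrix (Fin m) (Fin m) F) * d.2.1) 0
        (((d.1.1⁻¹ : Matrix.GeneralLinearGroup (Fin m) F) : Matrix (Fin m) (Fin m) F))ᵀ,
      mk_mem _ _ _ (congrArg Units.val (mul_inv_cancel d.1.1)) d.2.2⟩, by
      rw [mem_borel_iff]
      refine ⟨?_, ?_⟩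
      · ext i j
        simp [toBlocks₂₁]
      · intro i j hij
        have := d.1.2 i j hij
        simpa [toBlocks₁₁] using this⟩
  left_inv g := by
    have h := (mem_borel_iff g.1).mp g.2
    have hr := block_relations g.1 h.1
    apply Subtype.ext
    apply Subtype.ext
    change fromBlocks (g.1 : Matrix (Fin m ⊕ Fin m) (Fin m ⊕ Fin m) F).toBlocks₁₁
      ((g.1 : Matrix (Fin m ⊕ Fin m) (Fin m ⊕ Fin m) F).toBlocks₁₁ *
        (((g.1 : Matrix (Fin m ⊕ Fin m) (Fin m ⊕ Fin m) F).toBlocks₂₂)ᵀ *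
        (g.1 : Matrix (Fin m ⊕ Fin m) (Fin m ⊕ Fin m) F).toBlocks₁₂)) 0
      ((((g.1 : Matrix (Fin m ⊕ Fin m) (Fin m ⊕ Fin m) F).toBlocks₂₂)ᵀ)ᵀ) =
      (g.1 : Matrix (Fin m ⊕ Fin m) (Fin m ⊕ Fin m) F)
    rw [← Matrix.mul_assoc, hr.1, Matrix.one_mul, transpose_transpose]
    conv_rhs => rw [← fromBlocks_toBlocks (g.1 : Matrix (Fin m ⊕ Fin m) (Fin m ⊕ Fin m) F), h.1]
  right_inv d := by
    refine Prod.ext ?_ ?_
    · apply Subtype.ext
      apply Units.ext
      change (fromBlocks (d.1.1 : Matrix (Fin m) (Fin m) F)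
        ((d.1.1 : Matrix (Fin m) (Fin m) F) * d.2.1) 0
        (((d.1.1⁻¹ : Matrix.GeneralLinearGroup (Fin m) F) :
          Matrix (Fin m) (Fin m) F))ᵀ).toBlocks₁₁ = _
      rw [toBlocks_fromBlocks₁₁]
    · apply Subtype.ext
      change ((fromBlocks (d.1.1 : Matrix (Fin m) (Fin m) F)
        ((d.1.1 : Matrix (Fin m) (Fin m) F) * d.2.1) 0
        (((d.1.1⁻¹ : Matrix.GeneralLinearGroup (Fin m) F) :
          Matrix (Fin m) (Fin m) F))ᵀ).toBlocks₂₂)ᵀ *
        (fromBlocks (d.1.1 : Matrix (Fin m) (Fin m) F)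
        ((d.1.1 : Matrix (Fin m) (Fin m) F) * d.2.1) 0
        (((d.1.1⁻¹ : Matrix.GeneralLinearGroup (Fin m) F) :
          Matrix (Fin m) (Fin m) F))ᵀ).toBlocks₁₂ = d.2.1
      rw [toBlocks_fromBlocks₂₂, toBlocks_fromBlocks₁₂, transpose_transpose, ← Matrix.mul_assoc]
      have : ((d.1.1⁻¹ : Matrix.GeneralLinearGroup (Fin m) F) : Matrix (Fin m) (Fin m) F) *
          (d.1.1 : Matrix (Fin m) (Fin m) F) = 1 := congrArg Units.val (inv_mul_cancel d.1.1)
      rw [this, Matrix.one_mul]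

/-- Transposition exchanges upper and lower triangular invertible matrices. -/
noncomputable def equivTranspose :
    {A : Matrix.GeneralLinearGroup (Fin m) F // ∀ i j : Fin m, j < i →
        (A : Matrix (Fin m) (Fin m) F) i j = 0} ≃
    {A : Matrix.GeneralLinearGroup (Fin m) F // ∀ i j : Fin m, i < j →
        (A : Matrix (Fin m) (Fin m) F) i j = 0} where
  toFun A := ⟨Matrix.GeneralLinearGroup.mkOfDetNeZero ((A.1 : Matrix (Fin m) (Fin m) F)ᵀ) (by
      rw [det_transpose]; exact Matrix.GeneralLinearGroup.det_ne_zero A.1), fun i j hij => by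
    change ((A.1 : Matrix (Fin m) (Fin m) F)ᵀ) i j = 0
    rw [transpose_apply]
    exact A.2 j i hij⟩
  invFun A := ⟨Matrix.GeneralLinearGroup.mkOfDetNeZero ((A.1 : Matrix (Fin m) (Fin m) F)ᵀ) (by
      rw [det_transpose]; exact Matrix.GeneralLinearGroup.det_ne_zero A.1), fun i j hij => by
    change ((A.1 : Matrix (Fin m) (Fin m) F)ᵀ) i j = 0
    rw [transpose_apply]
    exact A.2 j i hij⟩
  left_inv A := by
    apply Subtype.ext
    apply Units.ext
    change (((A.1 : Matrix (Fin m) (Fin m) F)ᵀ)ᵀ) = _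
    rw [transpose_transpose]
  right_inv A := by
    apply Subtype.ext
    apply Units.ext
    change (((A.1 : Matrix (Fin m) (Fin m) F)ᵀ)ᵀ) = _
    rw [transpose_transpose]

/-- Symmetric matrices as functions on the lower triangle. -/
def equivSymm : {S : Matrix (Fin m) (Fin m) F // Sᵀ = S} ≃
    ({p : Fin m × Fin m // p.2 ≤ p.1} → F) where
  toFun S p := S.1 p.1.1 p.1.2
  invFun f := ⟨Matrix.of fun i j => if h : j ≤ i then f ⟨(i, j), h⟩ else
      f ⟨(j, i), (not_le.mp h).le⟩, by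
    ext i j
    rw [transpose_apply, of_apply, of_apply]
    rcases lt_trichotomy i j with h | h | h
    · rw [dif_pos h.le, dif_neg (not_le.mpr h)]
    · subst h; rfl
    · rw [dif_neg (not_le.mpr h), dif_pos h.le]⟩
  left_inv S := by
    apply Subtype.ext
    ext i j
    change (if h : j ≤ i then S.1 i j else S.1 j i) = S.1 i j
    by_cases h : j ≤ i
    · rw [dif_pos h]
    · rw [dif_neg h]
      have := congrFun (congrFun S.2 i) j
      rw [transpose_apply] at this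
      exact this
  right_inv f := by
    funext p
    change (if h : p.1.2 ≤ p.1.1 then f ⟨(p.1.1, p.1.2), h⟩ else _) = f p
    rw [dif_pos p.2]

/-- The number of pairs `j ≤ i` in `Fin m`. -/
theorem card_pairs_le : Nat.card {p : Fin m × Fin m // p.2 ≤ p.1} = m * (m - 1) / 2 + m := by
  rw [Nat.card_eq_fintype_card, Fintype.card_subtype, Finset.card_filter, Fintype.sum_prod_type]
  have : ∀ i : Fin m, (∑ j : Fin m, if j ≤ i then 1 else 0) = (i : ℕ) + 1 := by
    intro i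
    rw [← Finset.card_filter]
    have : (Finset.univ.filter fun j : Fin m => j ≤ i) = Finset.Iic i := by
      ext j; simp
    rw [this, Fin.card_Iic]
  simp only [this]
  rw [Finset.sum_add_distrib, Fin.sum_univ_eq_sum_range (fun i => i) m, Finset.sum_range_id]
  simp

theorem exponent_eq (m : ℕ) : m * (m - 1) / 2 + (m * (m - 1) / 2 + m) = m ^ 2 := by
  have h := Nat.two_mul_div_two_of_even (Nat.even_mul_pred_self m)
  cases m with
  | zero => simp
  | succ k =>
    simp only [Nat.add_sub_cancel] at h ⊢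
    nlinarith [h]

/-- Borel subgroup of the symplectic group: the elements of Sp_2m(q) stabilising each of the totally isotropic coordinate subspaces ⟨e_0, ..., e_k⟩ (k < m) form a subgroup of order q^(m²) (q − 1)^m. -/
theorem result {F : Type*} [Field F] [Fintype F] {q : ℕ} (hF : Fintype.card F = q) (m : ℕ) : Nat.card ↥(⨅ k : Fin m, Cfsg.stabilizing (Cfsg.spToMat m F) {v : Fin m ⊕ Fin m → F | (∀ i : Fin m, (k : ℕ) < (i : ℕ) → v (Sum.inl i) = 0) ∧ ∀ i : Fin m, v (Sum.inr i) = 0}) = q ^ (m ^ 2) * (q - 1) ^ m := by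
  subst hF
  change Nat.card ↥(⨅ k : Fin m, Cfsg.stabilizing (Cfsg.spToMat m F) (T m F k)) = _
  rw [Nat.card_congr equivData, Nat.card_prod, Nat.card_congr equivTranspose,
    Cfsg.Agent.S0769.result rfl, Nat.card_congr equivSymm, Nat.card_fun, card_pairs_le,
    Nat.card_eq_fintype_card (α := F)]
  rw [← exponent_eq m, pow_add]
  ring

end Cfsg.Agent.S0774
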