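import Mathlib
import Cfsg.Statements.S0778

set_option autoImplicit false
open Cfsg

namespace Cfsg.Agent.S0778

open Matrix

variable {F : Type*} [Field F] {m : ℕ}

/-- Block diagonal matrices `diag(A, D)` with `A Dᵀ = 1` are symplectic. -/
theorem diag_mem (A D : Matrix (Fin m) (Fin m) F) (h : A * Dᵀ = 1) :
    fromBlocks A 0 0 D ∈ Matrix.symplecticGroup (Fin m) F := by
  have h' : D * Aᵀ = 1 := by
    have := congrArg Matrix.transpose h
    rwa [transpose_mul, transpose_transpose, transpose_one] at this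
  rw [SymplecticGroup.mem_iff, Matrix.J, fromBlocks_transpose, fromBlocks_multiply,
    fromBlocks_multiply]
  simp [h, h']

/-- The embedding `A ↦ diag(A, A⁻ᵀ)` of `GL_m` into `Sp_2m`. -/
def phi (m : ℕ) (F : Type*) [Field F] :
    Matrix.GeneralLinearGroup (Fin m) F →* Matrix.symplecticGroup (Fin m) F where
  toFun A := ⟨fromBlocks (A : Matrix (Fin m) (Fin m) F) 0 0
      ((A⁻¹ : Matrix.GeneralLinearGroup (Fin m) F) : Matrix (Fin m) (Fin m) F)ᵀ,
    diag_mem _ _ (by
      rw [transpose_transpose]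
      exact congrArg Units.val (mul_inv_cancel A))⟩
  map_one' := by
    apply Subtype.ext
    change fromBlocks ((1 : Matrix.GeneralLinearGroup (Fin m) F) : Matrix (Fin m) (Fin m) F) 0 0
      (((1 : Matrix.GeneralLinearGroup (Fin m) F)⁻¹ : Matrix.GeneralLinearGroup (Fin m) F) :
        Matrix (Fin m) (Fin m) F)ᵀ = 1
    rw [inv_one, Units.val_one, transpose_one, fromBlocks_one]
  map_mul' A B := by
    apply Subtype.ext
    change fromBlocks ((A * B : Matrix.GeneralLinearGroup (Fin m) F) : Matrix (Fin m) (Fin m) F) 0 0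
      (((A * B)⁻¹ : Matrix.GeneralLinearGroup (Fin m) F) : Matrix (Fin m) (Fin m) F)ᵀ =
      fromBlocks (A : Matrix (Fin m) (Fin m) F) 0 0
        ((A⁻¹ : Matrix.GeneralLinearGroup (Fin m) F) : Matrix (Fin m) (Fin m) F)ᵀ *
      fromBlocks (B : Matrix (Fin m) (Fin m) F) 0 0
        ((B⁻¹ : Matrix.GeneralLinearGroup (Fin m) F) : Matrix (Fin m) (Fin m) F)ᵀ
    rw [fromBlocks_multiply, _root_.mul_inv_rev, Units.val_mul, Units.val_mul, transpose_mul]
    simp

theorem phi_coe (A : Matrix.GeneralLinearGroup (Fin m) F) :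
    ((phi m F A : Matrix.symplecticGroup (Fin m) F) : Matrix (Fin m ⊕ Fin m) (Fin m ⊕ Fin m) F) =
      fromBlocks (A : Matrix (Fin m) (Fin m) F) 0 0
      ((A⁻¹ : Matrix.GeneralLinearGroup (Fin m) F) : Matrix (Fin m) (Fin m) F)ᵀ := rfl

theorem phi_injective : Function.Injective (phi m F) := by
  intro A B h
  have h1 := congrArg (fun g : Matrix.symplecticGroup (Fin m) F =>
    (g : Matrix (Fin m ⊕ Fin m) (Fin m ⊕ Fin m) F)) h
  simp only [phi_coe] at h1
  exact Units.ext (fromBlocks_inj.mp h1).1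

theorem eq_zero_of_mulVec {P Q : Matrix (Fin m) (Fin m) F} (h : P * Q = 1) {x : Fin m → F}
    (hx : Q *ᵥ x = 0) : x = 0 := by
  have := congrArg (fun y => P *ᵥ y) hx
  simp only [mulVec_mulVec, h, one_mulVec, mulVec_zero] at this
  exact this

theorem single_inl_mem (j : Fin m) :
    (Pi.single (Sum.inl j) 1 : Fin m ⊕ Fin m → F) ∈
      {v : Fin m ⊕ Fin m → F | ∀ i : Fin m, v (Sum.inr i) = 0} := by
  intro i
  simp

theorem single_inr_mem (j : Fin m) :
    (Pi.single (Sum.inr j) 1 : Fin m ⊕ Fin m → F) ∈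
      {v : Fin m ⊕ Fin m → F | ∀ i : Fin m, v (Sum.inl i) = 0} := by
  intro i
  simp

theorem range_phi :
    (phi m F).range =
      Cfsg.stabilizing (Cfsg.spToMat m F) {v : Fin m ⊕ Fin m → F | ∀ i : Fin m, v (Sum.inr i) = 0} ⊓
      Cfsg.stabilizing (Cfsg.spToMat m F) {v : Fin m ⊕ Fin m → F | ∀ i : Fin m, v (Sum.inl i) = 0} := by
  ext g
  constructor
  · rintro ⟨A, rfl⟩
    have hA1 : ((A⁻¹ : Matrix.GeneralLinearGroup (Fin m) F) : Matrix (Fin m) (Fin m) F) *
        (A : Matrix (Fin m) (Fin m) F) = 1 := congrArg Units.val (inv_mul_cancel A)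
    have hA2 : ((A : Matrix (Fin m) (Fin m) F))ᵀ *
        ((A⁻¹ : Matrix.GeneralLinearGroup (Fin m) F) : Matrix (Fin m) (Fin m) F)ᵀ = 1 := by
      rw [← transpose_mul, hA1, transpose_one]
    constructor
    · intro v
      change (∀ i : Fin m, v (Sum.inr i) = 0) ↔
        ∀ i : Fin m, ((phi m F A : Matrix.symplecticGroup (Fin m) F) :
          Matrix (Fin m ⊕ Fin m) (Fin m ⊕ Fin m) F).mulVec v (Sum.inr i) = 0
      rw [phi_coe]
      obtain ⟨x, y, rfl⟩ : ∃ x y : Fin m → F, v = Sum.elim x y :=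
        ⟨fun i => v (Sum.inl i), fun i => v (Sum.inr i), by ext (i | i) <;> rfl⟩
      rw [fromBlocks_mulVec]
      simp only [Sum.elim_inr, zero_mulVec, zero_add]
      constructor
      · intro h
        have : y = 0 := funext h
        subst this
        simp
      · intro h
        have : y = 0 := eq_zero_of_mulVec hA2 (funext h)
        subst this
        simp
    · intro v
      change (∀ i : Fin m, v (Sum.inl i) = 0) ↔
        ∀ i : Fin m, ((phi m F A : Matrix.symplecticGroup (Fin m) F) :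
          Matrix (Fin m ⊕ Fin m) (Fin m ⊕ Fin m) F).mulVec v (Sum.inl i) = 0
      rw [phi_coe]
      obtain ⟨x, y, rfl⟩ : ∃ x y : Fin m → F, v = Sum.elim x y :=
        ⟨fun i => v (Sum.inl i), fun i => v (Sum.inr i), by ext (i | i) <;> rfl⟩
      rw [fromBlocks_mulVec]
      simp only [Sum.elim_inl, zero_mulVec, add_zero]
      constructor
      · intro h
        have : x = 0 := funext h
        subst this
        simp
      · intro h
        have : x = 0 := eq_zero_of_mulVec hA1 (funext h)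
        subst this
        simp
  · rintro ⟨hW, hU⟩
    have hW' : ∀ v : Fin m ⊕ Fin m → F, (∀ i : Fin m, v (Sum.inr i) = 0) ↔
        ∀ i : Fin m, (g : Matrix (Fin m ⊕ Fin m) (Fin m ⊕ Fin m) F).mulVec v (Sum.inr i) = 0 := hW
    have hU' : ∀ v : Fin m ⊕ Fin m → F, (∀ i : Fin m, v (Sum.inl i) = 0) ↔
        ∀ i : Fin m, (g : Matrix (Fin m ⊕ Fin m) (Fin m ⊕ Fin m) F).mulVec v (Sum.inl i) = 0 := hU
    have hg := g.2
    rw [SymplecticGroup.mem_iff] at hg
    obtain ⟨M, hM⟩ : ∃ M, M = (g : Matrix (Fin m ⊕ Fin m) (Fin m ⊕ Fin m) F) := ⟨_, rfl⟩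
    rw [← hM] at hg
    simp only [← hM] at hW' hU'
    have hC : M.toBlocks₂₁ = 0 := by
      ext i j
      have := (hW' (Pi.single (Sum.inl j) 1)).mp (single_inl_mem j) i
      rw [mulVec_single_one] at this
      simpa [toBlocks₂₁] using this
    have hB : M.toBlocks₁₂ = 0 := by
      ext i j
      have := (hU' (Pi.single (Sum.inr j) 1)).mp (single_inr_mem j) i
      rw [mulVec_single_one] at this
      simpa [toBlocks₁₂] using this
    have hMb : M = fromBlocks M.toBlocks₁₁ 0 0 M.toBlocks₂₂ := by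
      conv_lhs => rw [← fromBlocks_toBlocks M, hC, hB]
    rw [hMb, Matrix.J, fromBlocks_transpose, fromBlocks_multiply, fromBlocks_multiply,
      fromBlocks_inj] at hg
    simp only [Matrix.zero_mul, Matrix.mul_zero, transpose_zero, add_zero, zero_add, Matrix.mul_neg,
      Matrix.mul_one, Matrix.neg_mul, neg_inj] at hg
    obtain ⟨-, hAD, -, -⟩ := hg
    have hAD'' : M.toBlocks₁₁ * M.toBlocks₂₂ᵀ = 1 := hAD
    have hAD' : M.toBlocks₂₂ᵀ * M.toBlocks₁₁ = 1 := (_root_.mul_eq_one_comm).mp hAD''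
    refine ⟨⟨M.toBlocks₁₁, M.toBlocks₂₂ᵀ, hAD'', hAD'⟩, ?_⟩
    apply Subtype.ext
    rw [phi_coe, ← hM]
    conv_rhs => rw [hMb]
    congr 1

/-- The elements of Sp_2m(F) stabilising both W = ⟨e_1..e_m⟩ and U = ⟨f_1..f_m⟩ form a subgroup isomorphic to GL_m(F) (block-diagonal matrices diag(X, X^(−ᵀ)) up to the sign convention of J), for m ≥ 1 or m = 0 alike. -/
theorem result {F : Type*} [Field F] (m : ℕ) : Nonempty (↥(Cfsg.stabilizing (Cfsg.spToMat m F) {v : Fin m ⊕ Fin m → F | ∀ i : Fin m, v (Sum.inr i) = 0} ⊓ Cfsg.stabilizing (Cfsg.spToMat m F) {v : Fin m ⊕ Fin m → F | ∀ i : Fin m, v (Sum.inl i) = 0}) ≃* Matrix.GeneralLinearGroup (Fin m) F) := by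
  rw [← range_phi]
  exact ⟨(MonoidHom.ofInjective phi_injective).symm⟩

end Cfsg.Agent.S0778
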