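import Mathlib
import Cfsg.Statements.S0779
import Cfsg.Agent.Helper7.Hermitian

set_option autoImplicit false
open Cfsg

namespace Cfsg.Agent.S0779

open Matrix Cfsg.Agent.Helper7.Herm

/-- Unitary transvections: let |F| = q², h the standard Hermitian form Σ x_i y_i^q and v ≠ 0 with h(v, v) = 0. The linear map x ↦ x + c h(x, v) v is an isometry of h if and only if c = 0 or c^(q−1) = −1. -/
theorem result {F : Type*} [Field F] [Fintype F] {q : ℕ} (hF : Fintype.card F = q ^ 2) (n : ℕ) (v : Fin n → F) (hv : v ≠ 0) (hv0 : Cfsg.hermForm n F q v v = 0) (c : F) : (∀ x y : Fin n → F, Cfsg.hermForm n F q ((Cfsg.unitaryTransvection n q v c).mulVec x) ((Cfsg.unitaryTransvection n q v c).mulVec y) = Cfsg.hermForm n F q x y) ↔ (c = 0 ∨ c ^ (q - 1) = -1) := by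
  have hq : 1 ≤ q := one_le_q hF
  have hcq : c ^ q = c * c ^ (q - 1) := by
    rw [← pow_succ']
    congr 1
    omega
  constructor
  · intro h
    obtain ⟨i, hi⟩ : ∃ i, v i ≠ 0 := by
      by_contra hcon
      push Not at hcon
      exact hv (funext hcon)
    have h1 := h (Pi.single i 1) (Pi.single i 1)
    rw [hermForm_transvection hF v hv0] at h1
    have h2 : hermForm n F q (Pi.single i 1) v = (v i) ^ q := by
      unfold hermForm
      rw [Finset.sum_eq_single i]
      · rw [Pi.single_eq_same, one_mul]
      · intro j _ hj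
        rw [Pi.single_eq_of_ne hj, zero_mul]
      · intro hh; exact absurd (Finset.mem_univ i) hh
    rw [h2] at h1
    have h3 : (c ^ q + c) * ((v i) ^ q * ((v i) ^ q) ^ q) = 0 := by
      have := h1
      rw [add_eq_left] at this
      exact this
    have h4 : (v i) ^ q * ((v i) ^ q) ^ q ≠ 0 :=
      mul_ne_zero (pow_ne_zero _ hi) (pow_ne_zero _ (pow_ne_zero _ hi))
    have h5 : c ^ q + c = 0 := by
      rcases mul_eq_zero.mp h3 with h' | h'
      · exact h'
      · exact absurd h' h4
    rw [hcq] at h5
    have h6 : c * (c ^ (q - 1) + 1) = 0 := by linear_combination h5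
    rcases mul_eq_zero.mp h6 with h' | h'
    · left; exact h'
    · right; linear_combination h'
  · intro h x y
    rw [hermForm_transvection hF v hv0]
    have : c ^ q + c = 0 := by
      rcases h with h | h
      · rw [h, zero_pow (by omega), add_zero]
      · rw [hcq, h]; ring
    rw [this, zero_mul, add_zero]

end Cfsg.Agent.S0779
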