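import Mathlib
import Cfsg.Statements.S0785
import Cfsg.Agent.Helper7.QuadFormMatrices

set_option autoImplicit false
open Cfsg

namespace Cfsg.Agent.S0785

open Matrix in
theorem det_sq_eq_one {F : Type*} [Field F] {n : ℕ} (Q : QuadraticForm F (Fin n → F)) (hQ : (QuadraticMap.polarBilin Q).Nondegenerate)
    (A : Matrix (Fin n) (Fin n) F) (hA : ∀ x, Q (A *ᵥ x) = Q x) : A.det * A.det = 1 := by
  set B : LinearMap.BilinForm F (Fin n → F) := QuadraticMap.polarBilin Q with hB
  have hcomp : LinearMap.BilinForm.comp B (Matrix.toLin' A) (Matrix.toLin' A) = B := by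
    refine LinearMap.ext fun x => LinearMap.ext fun y => ?_
    rw [LinearMap.BilinForm.comp_apply, Matrix.toLin'_apply, Matrix.toLin'_apply]
    change QuadraticMap.polar (⇑Q) (A *ᵥ x) (A *ᵥ y) = QuadraticMap.polar (⇑Q) x y
    unfold QuadraticMap.polar
    rw [← Matrix.mulVec_add, hA, hA, hA]
  have hM := congrArg LinearMap.BilinForm.toMatrix' hcomp
  rw [LinearMap.BilinForm.toMatrix'_comp, LinearMap.toMatrix'_toLin'] at hM
  have hdet := congrArg Matrix.det hM
  rw [Matrix.det_mul, Matrix.det_mul, Matrix.det_transpose] at hdet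
  have hne : (LinearMap.BilinForm.toMatrix' B).det ≠ 0 := by
    rw [← LinearMap.BilinForm.nondegenerate_toBilin'_iff_det_ne_zero, Matrix.toBilin'_toMatrix']
    exact hQ
  have : (A.det * A.det) * (LinearMap.BilinForm.toMatrix' B).det = 1 * (LinearMap.BilinForm.toMatrix' B).det := by
    rw [one_mul]
    conv_rhs => rw [← hdet]
    ring
  exact mul_right_cancel₀ hne this

/-- det(I) = {±1}: for a quadratic form on F^n whose polar form is non-degenerate, every element of the isometry group has determinant 1 or −1, and as soon as Q takes a non-zero value some isometry has determinant −1. -/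
theorem result {F : Type*} [Field F] {n : ℕ} (Q : QuadraticForm F (Fin n → F)) (hQ : (QuadraticMap.polarBilin Q).Nondegenerate) : (∀ g : ↥(Cfsg.isometryGroup F ⇑Q), ((g : Matrix.GeneralLinearGroup (Fin n) F) : Matrix (Fin n) (Fin n) F).det = 1 ∨ ((g : Matrix.GeneralLinearGroup (Fin n) F) : Matrix (Fin n) (Fin n) F).det = -1) ∧ ((∃ v, Q v ≠ 0) → ∃ g : ↥(Cfsg.isometryGroup F ⇑Q), ((g : Matrix.GeneralLinearGroup (Fin n) F) : Matrix (Fin n) (Fin n) F).det = -1) := by
  constructor
  · intro g
    have hg : ∀ x, Q (((g : Matrix.GeneralLinearGroup (Fin n) F) : Matrix (Fin n) (Fin n) F).mulVec x) = Q x := by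
      intro x
      exact g.2 x x
    exact mul_self_eq_one_iff.mp (det_sq_eq_one Q hQ _ hg)
  · rintro ⟨v, hv⟩
    obtain ⟨h1, _, _, h4⟩ := Cfsg.Agent.Helper7.QF.reflection_spec Q v hv
    have hdet : (Cfsg.reflectionMatrix ⇑Q v).det ≠ 0 := by
      rw [h4]; simp
    refine ⟨⟨Matrix.GeneralLinearGroup.mkOfDetNeZero _ hdet, ?_⟩, ?_⟩
    · intro u _
      exact h1 u
    · exact h4

end Cfsg.Agent.S0785
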