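import Mathlib
import Cfsg.Statements.S0792
import Cfsg.Agent.Helper8.ReflMatrix

set_option autoImplicit false
open Cfsg

namespace Cfsg.Agent.S0792

open Cfsg.Agent.Helper8.ReflMatrix

/-- For q odd and Q with non-degenerate polar form on F^n, the determinant-one isometries form the subgroup generated by all products r_u r_v of two reflections (Q(u), Q(v) ≠ 0). -/
theorem result {F : Type*} [Field F] [Fintype F] (h2 : (2 : F) ≠ 0) {n : ℕ} (Q : QuadraticForm F (Fin n → F)) (hQ : (QuadraticMap.polarBilin Q).Nondegenerate) : Cfsg.specialIsometryGroup F ⇑Q = Subgroup.closure {g : ↥(Cfsg.isometryGroup F ⇑Q) | ∃ u v : Fin n → F, Q u ≠ 0 ∧ Q v ≠ 0 ∧ ((g : Matrix.GeneralLinearGroup (Fin n) F) : Matrix (Fin n) (Fin n) F) = Cfsg.reflectionMatrix ⇑Q u * Cfsg.reflectionMatrix ⇑Q v} := by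
  classical
  obtain ⟨P, hP⟩ : ∃ P : Subgroup ↥(Cfsg.isometryGroup F ⇑Q), P = Subgroup.closure
      {g : ↥(Cfsg.isometryGroup F ⇑Q) | ∃ u v : Fin n → F, Q u ≠ 0 ∧ Q v ≠ 0 ∧
        ((g : Matrix.GeneralLinearGroup (Fin n) F) : Matrix (Fin n) (Fin n) F)
          = Cfsg.reflectionMatrix ⇑Q u * Cfsg.reflectionMatrix ⇑Q v} := ⟨_, rfl⟩
  rw [← hP]
  have hmemSO : ∀ g : ↥(Cfsg.isometryGroup F ⇑Q), g ∈ Cfsg.specialIsometryGroup F ⇑Q ↔
      ((g : Matrix.GeneralLinearGroup (Fin n) F) : Matrix (Fin n) (Fin n) F).det = 1 := by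
    intro g
    unfold Cfsg.specialIsometryGroup
    rw [MonoidHom.mem_ker]
    constructor
    · intro h
      have := congrArg Units.val h
      exact this
    · intro h
      apply Units.ext
      exact h
  have hpair : ∀ u v : Fin n → F, Q u ≠ 0 → Q v ≠ 0 → reflElt Q u * reflElt Q v ∈ P := by
    intro u v hu hv
    rw [hP]
    apply Subgroup.subset_closure
    refine ⟨u, v, hu, hv, ?_⟩
    rw [Subgroup.coe_mul, Units.val_mul, reflElt_val, reflElt_val]
  apply le_antisymm
  · intro g hg
    rw [hmemSO] at hg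
    obtain ⟨l, hl, rfl⟩ := exists_list_reflElt Q h2 hQ g
    rw [det_prod_reflElt Q l hl] at hg
    have hne : (-1 : F) ≠ 1 := by
      intro h
      apply h2
      have : (2 : F) = 1 - (-1) := by norm_num
      rw [this, h, sub_self]
    have heven : Even l.length := (neg_one_pow_eq_one_iff_even hne).mp hg
    -- products of an even number of reflections lie in `P`
    have key : ∀ l : List (Fin n → F), (∀ z ∈ l, Q z ≠ 0) →
        (Even l.length → (l.map (reflElt Q)).prod ∈ P) ∧
        (Odd l.length → ∀ r : Fin n → F, Q r ≠ 0 → reflElt Q r * (l.map (reflElt Q)).prod ∈ P) := by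
      intro l
      induction l with
      | nil =>
        intro _
        refine ⟨fun _ => ?_, fun h => ?_⟩
        · simp only [List.map_nil, List.prod_nil]
          exact Subgroup.one_mem P
        · simp at h
      | cons z t ih =>
        intro hl
        have iht := ih (fun w hw => hl w (by simp [hw]))
        have hz := hl z (by simp)
        refine ⟨fun h => ?_, fun h r hr => ?_⟩
        · rw [List.length_cons, Nat.even_add_one, Nat.not_even_iff_odd] at h
          rw [List.map_cons, List.prod_cons]
          exact iht.2 h z hz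
        · rw [List.length_cons, Nat.odd_add_one, Nat.not_odd_iff_even] at h
          rw [List.map_cons, List.prod_cons, ← mul_assoc]
          exact Subgroup.mul_mem P (hpair r z hr hz) (iht.1 h)
    exact (key l hl).1 heven
  · rw [hP, Subgroup.closure_le]
    rintro g ⟨u, v, hu, hv, hg⟩
    rw [SetLike.mem_coe, hmemSO, hg, Matrix.det_mul, det_reflectionMatrix Q hu,
      det_reflectionMatrix Q hv]
    ring

end Cfsg.Agent.S0792
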