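import Mathlib
import Cfsg.Statements.S0794
import Cfsg.Agent.Helper7.QuadFormMatrices
import Cfsg.Agent.S0761

set_option autoImplicit false
open Cfsg

namespace Cfsg.Agent.S0794

open Matrix QuadraticMap Cfsg.Agent.Helper7.QF

variable {F : Type*} [Field F] {ι : Type} [Fintype ι] [DecidableEq ι]

/-- A matrix preserving `Q` preserves its polar form. -/
theorem polar_mulVec (Q : QuadraticForm F (ι → F)) (M : Matrix ι ι F)
    (hM : ∀ x, Q (M *ᵥ x) = Q x) (x y : ι → F) :
    polar (⇑Q) (M *ᵥ x) (M *ᵥ y) = polar (⇑Q) x y := by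
  unfold polar
  rw [← mulVec_add, hM, hM, hM]

/-- Conjugating a Siegel transformation by an isometry. -/
theorem siegel_conj (Q : QuadraticForm F (ι → F)) (M : Matrix ι ι F)
    (hM : ∀ x, Q (M *ᵥ x) = Q x) (u v : ι → F) (d : F) :
    Cfsg.siegelMatrix (⇑Q) (M *ᵥ u) (M *ᵥ v) d * M = M * Cfsg.siegelMatrix (⇑Q) u v d := by
  apply Matrix.ext_of_mulVec_single
  intro j
  rw [← mulVec_mulVec, ← mulVec_mulVec, siegel_mulVec, siegel_mulVec, polar_mulVec Q M hM,
    polar_mulVec Q M hM, mulVec_add, mulVec_add, mulVec_smul, mulVec_smul]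

theorem siegel_neg_left (Q : QuadraticForm F (ι → F)) (u v : ι → F) (d : F) :
    Cfsg.siegelMatrix (⇑Q) (-u) v d = Cfsg.siegelMatrix (⇑Q) u v (-d) := by
  apply Matrix.ext_of_mulVec_single
  intro j
  rw [siegel_mulVec, siegel_mulVec, polar_neg_left]
  congr 1
  module

theorem siegel_zero (Q : QuadraticForm F (ι → F)) (u v : ι → F) :
    Cfsg.siegelMatrix (⇑Q) u v 0 = 1 := by
  unfold Cfsg.siegelMatrix
  rw [zero_smul, add_zero]

/-- The Siegel transformation is trivial when `u` is a multiple of `v`. -/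
theorem siegel_eq_one_of_smul (Q : QuadraticForm F (ι → F)) (v : ι → F) (b d : F) :
    Cfsg.siegelMatrix (⇑Q) (b • v) v d = 1 := by
  apply Matrix.ext_of_mulVec_single
  intro j
  rw [siegel_mulVec, one_mulVec, polar_smul_left, smul_smul, smul_eq_mul]
  have : (d * (b * polar (⇑Q) v (Pi.single j 1))) • v +
      (-(d * polar (⇑Q) v (Pi.single j 1)) * b) • v = 0 := by
    rw [← add_smul]
    have : d * (b * polar (⇑Q) v (Pi.single j 1)) + -(d * polar (⇑Q) v (Pi.single j 1)) * b = 0 := by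
      ring
    rw [this, zero_smul]
  rw [this, add_zero]

/-- The involution `x ↦ x - 2 f(w, x) u - 2 f(u, x) w` for a hyperbolic pair `u, w`. -/
def hypMatrix (Q : QuadraticForm F (ι → F)) (u w : ι → F) : Matrix ι ι F :=
  1 + (-2 : F) • (vecMulVec u (Cfsg.polarVec (⇑Q) w) + vecMulVec w (Cfsg.polarVec (⇑Q) u))

theorem hypMatrix_mulVec (Q : QuadraticForm F (ι → F)) (u w x : ι → F) :
    hypMatrix Q u w *ᵥ x =
      x + ((-2 * polar (⇑Q) w x) • u + (-2 * polar (⇑Q) u x) • w) := by
  unfold hypMatrix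
  rw [add_mulVec, one_mulVec, smul_mulVec, add_mulVec, vecMulVec_mulVec, vecMulVec_mulVec,
    polarVec_dotProduct, polarVec_dotProduct, op_smul_eq_smul, op_smul_eq_smul, smul_add, smul_smul,
    smul_smul]

theorem hypMatrix_preserves (Q : QuadraticForm F (ι → F)) {u w : ι → F} (hu : Q u = 0) (hw : Q w = 0)
    (huw : polar (⇑Q) u w = 1) (x : ι → F) : Q (hypMatrix Q u w *ᵥ x) = Q x := by
  have hwu : polar (⇑Q) w u = 1 := by rw [polar_comm]; exact huw
  rw [hypMatrix_mulVec, QuadraticMap.map_add (⇑Q) x, QuadraticMap.map_add (⇑Q) (_ • u) (_ • w),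
    QuadraticMap.map_smul, QuadraticMap.map_smul, hu, hw, polar_smul_left, polar_smul_right, huw,
    polar_add_right, polar_smul_right, polar_smul_right, polar_comm (⇑Q) x u, polar_comm (⇑Q) x w]
  simp only [smul_eq_mul, mul_zero, add_zero, mul_one]
  ring

theorem hypMatrix_mulVec_left (Q : QuadraticForm F (ι → F)) {u w : ι → F} (hu : Q u = 0)
    (huw : polar (⇑Q) u w = 1) : hypMatrix Q u w *ᵥ u = -u := by
  have hwu : polar (⇑Q) w u = 1 := by rw [polar_comm]; exact huw
  have huu : polar (⇑Q) u u = 0 := by rw [polar_self, hu, smul_zero]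
  rw [hypMatrix_mulVec, hwu, huu, mul_zero, zero_smul, add_zero, mul_one]
  rw [neg_smul, two_smul]
  abel

theorem hypMatrix_mulVec_fix (Q : QuadraticForm F (ι → F)) {u w v : ι → F}
    (huv : polar (⇑Q) u v = 0) (hwv : polar (⇑Q) w v = 0) : hypMatrix Q u w *ᵥ v = v := by
  rw [hypMatrix_mulVec, huv, hwv, mul_zero, zero_smul, zero_smul, add_zero, add_zero]

theorem hypMatrix_sq (Q : QuadraticForm F (ι → F)) {u w : ι → F} (hu : Q u = 0) (hw : Q w = 0)
    (huw : polar (⇑Q) u w = 1) : hypMatrix Q u w * hypMatrix Q u w = 1 := by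
  have hwu : polar (⇑Q) w u = 1 := by rw [polar_comm]; exact huw
  have huu : polar (⇑Q) u u = 0 := by rw [polar_self, hu, smul_zero]
  have hww : polar (⇑Q) w w = 0 := by rw [polar_self, hw, smul_zero]
  apply Matrix.ext_of_mulVec_single
  intro j
  rw [← mulVec_mulVec, one_mulVec]
  generalize (Pi.single j 1 : ι → F) = x
  rw [hypMatrix_mulVec Q u w (hypMatrix Q u w *ᵥ x), hypMatrix_mulVec Q u w x]
  simp only [polar_add_right, polar_smul_right, huu, hww, huw, hwu, smul_eq_mul, mul_zero, mul_one,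
    add_zero, zero_add]
  module

/-- For q odd, n ≥ 5 and Q with non-degenerate polar form: an isometry whose matrix is a Siegel transformation T_(u,v)(c) (u, v singular and orthogonal) is a commutator in the isometry group, so lies in Ω. -/
theorem result {F : Type*} [Field F] [Fintype F] (h2 : (2 : F) ≠ 0) {n : ℕ} (hn : 5 ≤ n) (Q : QuadraticForm F (Fin n → F)) (hQ : (QuadraticMap.polarBilin Q).Nondegenerate) (u v : Fin n → F) (hu : Q u = 0) (hv : Q v = 0) (huv : QuadraticMap.polar ⇑Q u v = 0) (c : F) (g : ↥(Cfsg.isometryGroup F ⇑Q)) (hg : ((g : Matrix.GeneralLinearGroup (Fin n) F) : Matrix (Fin n) (Fin n) F) = Cfsg.siegelMatrix ⇑Q u v c) : g ∈ commutatorSet ↥(Cfsg.isometryGroup F ⇑Q) ∧ g ∈ Cfsg.Omega F ⇑Q := by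
  suffices h : g ∈ commutatorSet ↥(Cfsg.isometryGroup F ⇑Q) by
    refine ⟨h, ?_⟩
    change g ∈ commutator ↥(Cfsg.isometryGroup F ⇑Q)
    rw [commutator_eq_closure]
    exact Subgroup.subset_closure h
  by_cases hspan : u ∈ Submodule.span F {v}
  · obtain ⟨b, rfl⟩ := Submodule.mem_span_singleton.mp hspan
    have h1 : g = 1 := by
      apply Subtype.ext
      apply Units.ext
      rw [hg, siegel_eq_one_of_smul]
      rfl
    rw [h1]
    exact ⟨1, 1, by simp⟩
  · have huu : polar (⇑Q) u u = 0 := by rw [polar_self, hu, smul_zero]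
    have hvv : polar (⇑Q) v v = 0 := by rw [polar_self, hv, smul_zero]
    obtain ⟨w, hww, huw, hzw⟩ := Cfsg.Agent.S0761.result (QuadraticMap.polarBilin Q) hQ
      (Or.inr ⟨⟨fun x y => by
        rw [polarBilin_apply_apply, polarBilin_apply_apply, polar_comm]⟩, h2⟩) u
      (Submodule.span F {v}) hspan
      (by rw [polarBilin_apply_apply]; exact huu)
      (by
        intro z hz
        obtain ⟨b, rfl⟩ := Submodule.mem_span_singleton.mp hz
        rw [polarBilin_apply_apply, polar_smul_right, huv, smul_zero])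
      (by
        intro z hz z' hz'
        obtain ⟨b, rfl⟩ := Submodule.mem_span_singleton.mp hz
        obtain ⟨b', rfl⟩ := Submodule.mem_span_singleton.mp hz'
        rw [polarBilin_apply_apply, polar_smul_right, polar_smul_left, hvv, smul_zero, smul_zero])
    rw [polarBilin_apply_apply] at hww huw
    have hw : Q w = 0 := by
      rw [polar_self, two_smul, ← two_mul] at hww
      exact (mul_eq_zero.mp hww).resolve_left h2
    have hwv : polar (⇑Q) w v = 0 := by
      have := hzw v (Submodule.mem_span_singleton_self v)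
      rw [polarBilin_apply_apply] at this
      rw [polar_comm]
      exact this
    obtain ⟨M, hM⟩ : ∃ M, M = hypMatrix Q u w := ⟨_, rfl⟩
    have hMM : M * M = 1 := by rw [hM]; exact hypMatrix_sq Q hu hw huw
    have hMQ : ∀ x, Q (M *ᵥ x) = Q x := by rw [hM]; exact hypMatrix_preserves Q hu hw huw
    have hMu : M *ᵥ u = -u := by rw [hM]; exact hypMatrix_mulVec_left Q hu huw
    have hMv : M *ᵥ v = v := by rw [hM]; exact hypMatrix_mulVec_fix Q huv hwv
    obtain ⟨hS1, -, hS3⟩ := siegel_spec Q u v hu hv huv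
    obtain ⟨d, hd⟩ : ∃ d : F, d = -c / 2 := ⟨_, rfl⟩
    have hdd : -d + -d = c := by
      rw [hd]
      field_simp
      ring
    have hT1 : Cfsg.siegelMatrix (⇑Q) u v d * Cfsg.siegelMatrix (⇑Q) u v (-d) = 1 := by
      rw [hS3, add_neg_cancel, siegel_zero]
    have hT2 : Cfsg.siegelMatrix (⇑Q) u v (-d) * Cfsg.siegelMatrix (⇑Q) u v d = 1 := by
      rw [hS3, neg_add_cancel, siegel_zero]
    let h0 : GL (Fin n) F := ⟨M, M, hMM, hMM⟩
    let t0 : GL (Fin n) F := ⟨Cfsg.siegelMatrix (⇑Q) u v d, Cfsg.siegelMatrix (⇑Q) u v (-d), hT1, hT2⟩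
    have hh : h0 ∈ Cfsg.isometryGroup F ⇑Q := fun x _ => hMQ x
    have ht : t0 ∈ Cfsg.isometryGroup F ⇑Q := fun x _ => hS1 d x
    refine ⟨⟨h0, hh⟩, ⟨t0, ht⟩, ?_⟩
    apply Subtype.ext
    apply Units.ext
    rw [hg]
    change M * Cfsg.siegelMatrix (⇑Q) u v d * M * Cfsg.siegelMatrix (⇑Q) u v (-d) = _
    have hconj := siegel_conj Q M hMQ u v d
    rw [hMu, hMv, siegel_neg_left] at hconj
    rw [← hconj, mul_assoc (Cfsg.siegelMatrix (⇑Q) u v (-d)), hMM, mul_one, hS3, hdd]

end Cfsg.Agent.S0794
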