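import Mathlib
import Cfsg.Statements.S0795
import Cfsg.Agent.Helper8.OmegaSimple

set_option autoImplicit false
open Cfsg

namespace Cfsg.Agent.S0795

open Module Cfsg.Agent.Helper8.QuadForm Cfsg.Agent.Helper8.WittQuad Cfsg.Agent.Helper8.OrthOrder
  Cfsg.Agent.Helper8.Siegel Cfsg.Agent.Helper8.SiegelGeom Cfsg.Agent.Helper8.SiegelGroup
  Cfsg.Agent.Helper8.OmegaSimple Cfsg.Agent.Helper8.ReflMatrix

variable {F : Type*} [Field F] {ι : Type} [Fintype ι] [DecidableEq ι]
  (Q : QuadraticForm F (ι → F))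

/-- the Siegel matrix acts as the Siegel transformation. -/
theorem siegelMatrix_mulVec {u v : ι → F} (c : F) (hu : Q u = 0) (hv : Q v = 0)
    (huv : QuadraticMap.polar Q u v = 0) (x : ι → F) :
    (Cfsg.siegelMatrix ⇑Q u v c).mulVec x = siegE Q u ((-c) • v) x := by
  rw [siegE_apply Q hu (by rw [QuadraticMap.polar_smul_right, huv, smul_zero]), sieg_apply,
    QuadraticMap.map_smul, hv]
  unfold Cfsg.siegelMatrix
  rw [Matrix.add_mulVec, Matrix.one_mulVec, Matrix.smul_mulVec, Matrix.sub_mulVec,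
    Matrix.vecMulVec_mulVec, Matrix.vecMulVec_mulVec, polarVec_dotProduct, polarVec_dotProduct,
    op_smul_eq_smul, op_smul_eq_smul, QuadraticMap.polar_smul_right, QuadraticMap.polar_comm Q x v,
    QuadraticMap.polar_comm Q x u]
  simp only [smul_eq_mul, mul_zero, zero_mul, zero_smul, sub_zero]
  module

/-- Generation of Ω by root elements: for q odd, n ≥ 5 and Q with non-degenerate polar form on F^n, the commutator subgroup of the isometry group equals the subgroup generated by the isometries whose matrices are Siegel transformations T_(u,v)(c) with u, v singular and orthogonal. -/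
theorem result {F : Type*} [Field F] [Fintype F] (h2 : (2 : F) ≠ 0) {n : ℕ} (hn : 5 ≤ n) (Q : QuadraticForm F (Fin n → F)) (hQ : (QuadraticMap.polarBilin Q).Nondegenerate) : Cfsg.Omega F ⇑Q = Subgroup.closure {g : ↥(Cfsg.isometryGroup F ⇑Q) | ∃ (u v : Fin n → F) (c : F), Q u = 0 ∧ Q v = 0 ∧ QuadraticMap.polar ⇑Q u v = 0 ∧ ((g : Matrix.GeneralLinearGroup (Fin n) F) : Matrix (Fin n) (Fin n) F) = Cfsg.siegelMatrix ⇑Q u v c} := by
  classical
  have h5 : 5 ≤ Fintype.card (Fin n) := by rw [Fintype.card_fin]; exact hn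
  apply Subgroup.map_injective (f := (isomEquiv Q).toMonoidHom) (isomEquiv Q).injective
  rw [map_Omega Q hQ h5, SG_eq_SL Q ((nondeg_iff Q).mp hQ) (by rw [finrank_fun]; exact h5),
    MonoidHom.map_closure]
  unfold SL
  congr 1
  ext g
  constructor
  · rintro ⟨u, v, hu, hv, huv, rfl⟩
    refine ⟨(isomEquiv Q).symm (siegG Q u v), ⟨u, v, -1, hu, hv, huv, ?_⟩,
      MulEquiv.apply_symm_apply _ _⟩
    apply matrix_ext
    intro x
    rw [siegelMatrix_mulVec Q (-1) hu hv huv, ← isomEquiv_apply, MulEquiv.apply_symm_apply, neg_neg,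
      one_smul]
    rfl
  · rintro ⟨g₀, ⟨u, v, c, hu, hv, huv, hg₀⟩, rfl⟩
    refine ⟨u, (-c) • v, hu, by rw [QuadraticMap.map_smul, hv, smul_zero],
      by rw [QuadraticMap.polar_smul_right, huv, smul_zero], ?_⟩
    apply Subtype.ext
    apply LinearEquiv.ext
    intro x
    show (isomEquiv Q g₀).1 x = siegE Q u ((-c) • v) x
    rw [isomEquiv_apply, hg₀, siegelMatrix_mulVec Q c hu hv huv]

end Cfsg.Agent.S0795
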