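import Mathlib
import Cfsg.Statements.S0796

set_option autoImplicit false
open Cfsg

namespace Cfsg.Agent.S0796

/-- If G is finite and acts faithfully and primitively on X, H is the stabiliser of a point, A is a normal subgroup of H whose normal closure in G is G, then for every non-trivial normal subgroup K of G the quotient G ⧸ K is isomorphic to A ⧸ B for some normal subgroup B of A. -/
theorem result {G X : Type*} [Group G] [Finite G] [MulAction G X] [FaithfulSMul G X] (hprim : MulAction.IsPreprimitive G X) (x : X) (A : Subgroup G) (hA : A ≤ MulAction.stabilizer G x) (hAn : (A.subgroupOf (MulAction.stabilizer G x)).Normal) (hgen : Subgroup.normalClosure (A : Set G) = ⊤) (K : Subgroup G) [K.Normal] (hK : K ≠ ⊥) : ∃ (B : Subgroup A) (_ : B.Normal), Nonempty (G ⧸ K ≃* A ⧸ B) := by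
  have hKn : K.Normal := inferInstance
  -- K acts nontrivially
  have hfix : MulAction.fixedPoints K X ≠ Set.univ := by
    intro h
    apply hK
    rw [Subgroup.eq_bot_iff_forall]
    intro k hk
    apply FaithfulSMul.eq_of_smul_eq_smul (α := X)
    intro y
    rw [one_smul]
    have hy : y ∈ MulAction.fixedPoints K X := by rw [h]; trivial
    exact hy ⟨k, hk⟩
  have htrans : MulAction.IsPretransitive K X :=
    MulAction.IsQuasiPreprimitive.isPretransitive_of_normal hfix
  -- every element is a product k h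
  have hdecomp : ∀ g : G, ∃ k ∈ K, ∃ h ∈ MulAction.stabilizer G x, g = k * h := by
    intro g
    obtain ⟨k, hk⟩ := MulAction.exists_smul_eq K x (g • x)
    refine ⟨k, k.2, (k : G)⁻¹ * g, ?_, by group⟩
    rw [MulAction.mem_stabilizer_iff, mul_smul, inv_smul_eq_iff]
    exact hk.symm
  -- conjugation by the stabiliser preserves A
  have hconjA : ∀ h ∈ MulAction.stabilizer G x, ∀ a ∈ A, h * a * h⁻¹ ∈ A := by
    intro h hh a ha
    have := hAn.conj_mem ⟨a, hA ha⟩ (by rw [Subgroup.mem_subgroupOf]; exact ha) ⟨h, hh⟩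
    rw [Subgroup.mem_subgroupOf] at this
    simpa using this
  -- L = A ⊔ K is normal
  have hLn : (A ⊔ K).Normal := by
    constructor
    intro n hn g
    have hn' : n ∈ ((A ⊔ K : Subgroup G) : Set G) := hn
    rw [Subgroup.mul_normal, Set.mem_mul] at hn'
    obtain ⟨a, ha, k, hk, rfl⟩ := hn'
    obtain ⟨k', hk', h, hh, rfl⟩ := hdecomp g
    have e : k' * h * (a * k) * (k' * h)⁻¹ = k' * (h * a * h⁻¹) * k'⁻¹ * ((k' * h) * k * (k' * h)⁻¹) := by
      group
    rw [e]
    have hk'L : k' ∈ A ⊔ K := (le_sup_right : K ≤ A ⊔ K) hk'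
    refine Subgroup.mul_mem _ (Subgroup.mul_mem _ (Subgroup.mul_mem _ hk'L ?_) (Subgroup.inv_mem _ hk'L)) ?_
    · exact (le_sup_left : A ≤ A ⊔ K) (hconjA h hh a ha)
    · exact (le_sup_right : K ≤ A ⊔ K) (hKn.conj_mem k hk _)
  have hL : A ⊔ K = ⊤ := by
    rw [eq_top_iff, ← hgen]
    exact Subgroup.normalClosure_le_normal (le_sup_left : A ≤ A ⊔ K)
  -- the quotient map restricted to A
  let φ : A →* G ⧸ K := (QuotientGroup.mk' K).comp A.subtype
  have hφ : Function.Surjective φ := by
    intro q
    induction q using QuotientGroup.induction_on with | _ g => ?_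
    have hg : g ∈ ((A ⊔ K : Subgroup G) : Set G) := by rw [hL]; trivial
    rw [Subgroup.mul_normal, Set.mem_mul] at hg
    obtain ⟨a, ha, k, hk, rfl⟩ := hg
    refine ⟨⟨a, ha⟩, ?_⟩
    change ((a : G) : G ⧸ K) = ((a * k : G) : G ⧸ K)
    rw [QuotientGroup.eq]
    simpa using hk
  exact ⟨φ.ker, inferInstance, ⟨(QuotientGroup.quotientKerEquivOfSurjective φ hφ).symm⟩⟩

end Cfsg.Agent.S0796
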