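import Mathlib
import Cfsg.Statements.S0797
import Cfsg.Agent.Helper8.OmegaOdd

set_option autoImplicit false
open Cfsg

namespace Cfsg.Agent.S0797

open Cfsg.Agent.Helper8.OmegaOdd

/-- the subgroups of index two of the four-group. -/
theorem card_index_two_four :
    Nat.card {K : Subgroup (ℤˣ × ℤˣ) // K.index = 2} = 3 := by
  classical
  have hsq : ∀ t : ℤˣ × ℤˣ, t * t = 1 := by decide
  have hcard4 : Nat.card (ℤˣ × ℤˣ) = 4 := by
    rw [Nat.card_eq_fintype_card]
    rfl
  have hK2 : ∀ K : Subgroup (ℤˣ × ℤˣ), K.index = 2 ↔ Nat.card K = 2 := by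
    intro K
    have := K.card_mul_index
    rw [hcard4] at this
    constructor
    · intro h
      rw [h] at this
      omega
    · intro h
      rw [h] at this
      omega
  have hz : ∀ t : ℤˣ × ℤˣ, t ≠ 1 → Nat.card (Subgroup.zpowers t) = 2 := by
    intro t ht
    rw [Nat.card_zpowers]
    exact orderOf_eq_prime (by rw [pow_two]; exact hsq t) ht
  have key : {K : Subgroup (ℤˣ × ℤˣ) // K.index = 2} ≃ {t : ℤˣ × ℤˣ // t ≠ 1} := by
    symm
    refine Equiv.ofBijective (fun t => ⟨Subgroup.zpowers t.1, (hK2 _).mpr (hz t.1 t.2)⟩) ⟨?_, ?_⟩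
    · intro t t' h
      have h1 : Subgroup.zpowers t.1 = Subgroup.zpowers t'.1 := congrArg Subtype.val h
      have h3 : t'.1 ∈ Subgroup.zpowers t.1 := by
        rw [h1]
        exact Subgroup.mem_zpowers _
      obtain ⟨k, hk⟩ := Subgroup.mem_zpowers_iff.mp h3
      have hk' : t.1 ^ k = t.1 ^ (k % 2) := zpow_eq_zpow_emod k (by rw [zpow_two]; exact hsq t.1)
      rcases Int.emod_two_eq_zero_or_one k with h | h
      · rw [hk', h, zpow_zero] at hk
        exact absurd hk.symm t'.2
      · rw [hk', h, zpow_one] at hk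
        exact Subtype.ext hk
    · rintro ⟨K, hK⟩
      have hK' := (hK2 K).mp hK
      have hne : K ≠ ⊥ := by
        rintro rfl
        rw [Subgroup.card_bot] at hK'
        omega
      obtain ⟨⟨t, ht⟩, htK⟩ := (Subgroup.ne_bot_iff_exists_ne_one).mp hne
      have ht1' : t ≠ 1 := fun h => htK (Subtype.ext h)
      refine ⟨⟨t, ht1'⟩, ?_⟩
      apply Subtype.ext
      show Subgroup.zpowers t = K
      apply Subgroup.eq_of_le_of_card_ge
      · rw [Subgroup.zpowers_le]
        exact ht
      · rw [hK', hz t ht1']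
  rw [Nat.card_congr key, Nat.card_eq_fintype_card]
  rfl

/-- a finite group whose commutator subgroup is the kernel of a surjection onto the four-group has
exactly three subgroups of index two. -/
theorem card_index_two {G : Type*} [Group G] [Finite G] (φ : G →* ℤˣ × ℤˣ)
    (hφ : Function.Surjective φ) (hker : φ.ker = commutator G) :
    Nat.card {H : Subgroup G // H.index = 2} = 3 := by
  rw [← card_index_two_four]
  have hle : ∀ H : Subgroup G, H.index = 2 → φ.ker ≤ H := by
    intro H hH
    haveI : H.Normal := Subgroup.normal_of_index_eq_two hH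
    rw [hker, ← Subgroup.Normal.quotient_commutative_iff_commutator_le]
    have hc : Nat.card (G ⧸ H) = 2 := hH
    haveI : Fact (Nat.Prime 2) := ⟨Nat.prime_two⟩
    haveI : IsCyclic (G ⧸ H) := isCyclic_of_prime_card hc
    exact ⟨⟨fun a b => IsCyclic.commGroup.mul_comm a b⟩⟩
  refine Nat.card_congr ⟨fun H => ⟨H.1.map φ, ?_⟩, fun K => ⟨K.1.comap φ, ?_⟩, ?_, ?_⟩
  · rw [Subgroup.index_map_eq _ hφ (hle H.1 H.2)]
    exact H.2
  · rw [Subgroup.index_comap_of_surjective _ hφ]
    exact K.2
  · intro H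
    apply Subtype.ext
    exact Subgroup.comap_map_eq_self (hle H.1 H.2)
  · intro K
    apply Subtype.ext
    exact Subgroup.map_comap_eq_self_of_surjective hφ K.1

/-- O^ε_2m(q) ≅ Ω.2² for q odd: if F is finite of odd characteristic, n ≥ 2 is even and Q has non-degenerate polar form on F^n, the isometry group of Q has exactly three subgroups of index 2. -/
theorem result {F : Type*} [Field F] [Fintype F] (h2 : (2 : F) ≠ 0) {n : ℕ} (hn : 2 ≤ n) (heven : Even n) (Q : QuadraticForm F (Fin n → F)) (hQ : (QuadraticMap.polarBilin Q).Nondegenerate) : Nat.card {H : Subgroup ↥(Cfsg.isometryGroup F ⇑Q) // H.index = 2} = 3 := by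
  classical
  obtain ⟨e, he⟩ := exists_nonsquare h2
  obtain ⟨hindex, hmem⟩ := commutator_eq Q h2 hQ (by rw [Fintype.card_fin]; exact hn) he
  obtain ⟨φ, hφ⟩ : ∃ φ : ↥(Cfsg.isometryGroup F ⇑Q) →* ℤˣ × ℤˣ, φ = (chi Q 1).prod (chi Q e) :=
    ⟨_, rfl⟩
  have hker : φ.ker = commutator ↥(Cfsg.isometryGroup F ⇑Q) := by
    ext g
    rw [hmem, MonoidHom.mem_ker, hφ, MonoidHom.prod_apply, Prod.mk_eq_one]
  have hsurj : Function.Surjective φ := by
    rw [← MonoidHom.range_eq_top]
    apply (Subgroup.card_eq_iff_eq_top _).mp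
    rw [← Subgroup.index_ker, hker, hindex, Nat.card_eq_fintype_card]
    rfl
  exact card_index_two φ hsurj hker

end Cfsg.Agent.S0797
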