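import Mathlib
import Cfsg.Statements.S0800

set_option autoImplicit false
open Cfsg

namespace Cfsg.Agent.S0800

open Polynomial

section general

variable {K : Type*} [Field K]

/-- `(X - l)(X - m) ∣ X ^ n - 1` when `l ≠ m` are `n`-th roots of unity. -/
theorem split_dvd {l m : K} (hlm : l ≠ m) (n : ℕ) (hl : l ^ n = 1) (hm : m ^ n = 1) :
    (X - C l) * (X - C m) ∣ (X ^ n - 1 : K[X]) := by
  refine IsCoprime.mul_dvd (isCoprime_X_sub_C_of_isUnit_sub ?_) ?_ ?_
  · exact (sub_ne_zero.mpr hlm).isUnit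
  · rw [dvd_iff_isRoot]; simp [IsRoot, hl]
  · rw [dvd_iff_isRoot]; simp [IsRoot, hm]

/-- `(X - l)^2 ∣ X ^ (2p) - 1` in characteristic `p` when `l ^ 2 = 1`. -/
theorem double_dvd (p : ℕ) [Fact p.Prime] [CharP K p] {l : K} (hl : l ^ 2 = 1) :
    (X - C l) * (X - C l) ∣ (X ^ (2 * p) - 1 : K[X]) := by
  have hp2 : 2 ≤ p := (Fact.out : p.Prime).two_le
  have h1 : (X - C l) * (X - C l) ∣ (X - C l) ^ p := by
    rw [← sq]; exact pow_dvd_pow _ hp2
  have h2 : (X - C l : K[X]) ^ p = X ^ p - C (l ^ p) := by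
    rw [sub_pow_char, C_pow]
  have h3 : (X ^ p - C (l ^ p) : K[X]) ∣ (X ^ p) ^ 2 - (C (l ^ p)) ^ 2 :=
    sub_dvd_pow_sub_pow _ _ 2
  have h4 : ((X ^ p) ^ 2 - (C (l ^ p)) ^ 2 : K[X]) = X ^ (2 * p) - 1 := by
    have e1 : ((X : K[X]) ^ p) ^ 2 = X ^ (2 * p) := by rw [← pow_mul, mul_comm]
    have e2 : (C (l ^ p) : K[X]) ^ 2 = 1 := by
      rw [← C_pow, ← pow_mul, mul_comm, pow_mul, hl, one_pow, C_1]
    rw [e1, e2]
  rw [h2] at h1
  rw [← h4]
  exact h1.trans h3

end general

/-- The characteristic polynomial of a determinant-one `2 × 2` matrix over a finite field of order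
`q` and characteristic `p` divides `X^(q-1) - 1`, `X^(q+1) - 1` or `X^(2p) - 1`. -/
theorem charpoly_dvd {F : Type*} [Field F] [Fintype F] (p : ℕ) [Fact p.Prime] [CharP F p] (t : F) :
    ((X ^ 2 - C t * X + C 1 : F[X]) ∣ X ^ (Fintype.card F - 1) - 1) ∨
    ((X ^ 2 - C t * X + C 1 : F[X]) ∣ X ^ (Fintype.card F + 1) - 1) ∨
    ((X ^ 2 - C t * X + C 1 : F[X]) ∣ X ^ (2 * p) - 1) := by
  classical
  set K := AlgebraicClosure F with hK
  set ι : F →+* K := algebraMap F K with hι
  have : CharP K p := charP_of_injective_algebraMap (algebraMap F K).injective p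
  have : ExpChar K p := ExpChar.prime (Fact.out : p.Prime)
  obtain ⟨k, -, hq⟩ := FiniteField.card F p
  set t' : K := ι t with ht'
  have ht'q : t' ^ (Fintype.card F) = t' := by
    rw [ht', ← map_pow, FiniteField.pow_card]
  -- a root
  have hdeg : (C (1 : K) * X ^ 2 + C (-t') * X + C 1 : K[X]).degree ≠ 0 := by
    rw [degree_quadratic one_ne_zero]; decide
  obtain ⟨l, hl⟩ := IsAlgClosed.exists_root _ hdeg
  have hl' : l ^ 2 - t' * l + 1 = 0 := by
    have := hl
    simp only [IsRoot, eval_add, eval_mul, eval_C, eval_pow, eval_X] at this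
    linear_combination this
  set m : K := t' - l with hm
  have hlm1 : l * m = 1 := by rw [hm]; linear_combination (-1 : K) * hl'
  have hl0 : l ≠ 0 := left_ne_zero_of_mul_eq_one hlm1
  have hfac : (X ^ 2 - C t * X + C 1 : F[X]).map ι = (X - C l) * (X - C m) := by
    have e1 : (X ^ 2 - C t * X + C 1 : F[X]).map ι = X ^ 2 - C t' * X + C 1 := by
      simp [ht']
    rw [e1]
    have e2 : (X - C l) * (X - C m) = (X ^ 2 - C (l + m) * X + C (l * m) : K[X]) := by
      rw [C_add, C_mul]; ring
    rw [e2, hlm1]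
    have : l + m = t' := by rw [hm]; ring
    rw [this]
  have key : ∀ n : ℕ, ((X - C l) * (X - C m) ∣ (X ^ n - 1 : K[X])) →
      ((X ^ 2 - C t * X + C 1 : F[X]) ∣ X ^ n - 1) := by
    intro n hn
    rw [← map_dvd_map' ι, hfac]
    simpa using hn
  -- Frobenius
  have hfrob : (l ^ Fintype.card F) ^ 2 - t' * (l ^ Fintype.card F) + 1 = 0 := by
    have h1 := congrArg (iterateFrobenius K p k) hl'
    simp only [map_add, map_sub, map_mul, map_pow, map_one, map_zero, iterateFrobenius_def] at h1
    rw [← hq] at h1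
    rw [ht'q] at h1
    exact h1
  have hor : l ^ Fintype.card F = l ∨ l ^ Fintype.card F = m := by
    have : (l ^ Fintype.card F - l) * (l ^ Fintype.card F - m) = 0 := by
      rw [hm]; linear_combination hfrob - hl'
    rcases mul_eq_zero.mp this with h | h
    · left; exact sub_eq_zero.mp h
    · right; exact sub_eq_zero.mp h
  have hqpos : 0 < Fintype.card F := Fintype.card_pos
  by_cases hlm : l = m
  · right; right
    apply key
    rw [← hlm]
    apply double_dvd p
    rw [sq]; nth_rw 2 [hlm]; exact hlm1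
  · rcases hor with h | h
    · left
      apply key
      have h1 : l ^ (Fintype.card F - 1) = 1 := by
        have : l ^ (Fintype.card F - 1) * l = l := by
          rw [← pow_succ, Nat.sub_add_cancel hqpos, h]
        exact mul_right_cancel₀ hl0 (by rw [this, one_mul])
      have h2 : m ^ (Fintype.card F - 1) = 1 := by
        have : l ^ (Fintype.card F - 1) * m ^ (Fintype.card F - 1) = 1 := by
          rw [← mul_pow, hlm1, one_pow]
        rwa [h1, one_mul] at this
      exact split_dvd hlm _ h1 h2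
    · right; left
      apply key
      have h1 : l ^ (Fintype.card F + 1) = 1 := by
        rw [pow_succ, h, mul_comm, hlm1]
      have h2 : m ^ (Fintype.card F + 1) = 1 := by
        have : l ^ (Fintype.card F + 1) * m ^ (Fintype.card F + 1) = 1 := by
          rw [← mul_pow, hlm1, one_pow]
        rwa [h1, one_mul] at this
      exact split_dvd hlm _ h1 h2

/-- If the characteristic polynomial of `g` divides `X ^ n - 1` then `g ^ n = 1`. -/
theorem pow_eq_one_of_dvd {F : Type*} [Field F] (g : Matrix.SpecialLinearGroup (Fin 2) F) (n : ℕ)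
    (h : (X ^ 2 - C (g : Matrix (Fin 2) (Fin 2) F).trace * X + C 1 : F[X]) ∣ X ^ n - 1) :
    g ^ n = 1 := by
  have hcp : (g : Matrix (Fin 2) (Fin 2) F).charpoly =
      X ^ 2 - C (g : Matrix (Fin 2) (Fin 2) F).trace * X + C 1 := by
    rw [Matrix.charpoly_fin_two, g.2]
  obtain ⟨r, hr⟩ := h
  have h0 := Matrix.aeval_self_charpoly (g : Matrix (Fin 2) (Fin 2) F)
  rw [hcp] at h0
  have h1 := congrArg (aeval (g : Matrix (Fin 2) (Fin 2) F)) hr
  rw [map_mul, h0, zero_mul] at h1
  simp only [map_sub, map_pow, aeval_X, map_one] at h1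
  apply Subtype.ext
  rw [Matrix.SpecialLinearGroup.coe_pow, Matrix.SpecialLinearGroup.coe_one]
  exact sub_eq_zero.mp h1

/-- Tori of SL_2(q): if g ∈ SL_2(q) has order coprime to the characteristic p, then the order of g divides q − 1 or q + 1. -/
theorem result {F : Type*} [Field F] [Fintype F] {q : ℕ} (hF : Fintype.card F = q) (p : ℕ) [Fact p.Prime] [CharP F p] (g : Matrix.SpecialLinearGroup (Fin 2) F) (hg : Nat.Coprime (orderOf g) p) : orderOf g ∣ q - 1 ∨ orderOf g ∣ q + 1 := by
  subst hF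
  rcases charpoly_dvd p (g : Matrix (Fin 2) (Fin 2) F).trace with h | h | h
  · left; exact orderOf_dvd_of_pow_eq_one (pow_eq_one_of_dvd g _ h)
  · right; exact orderOf_dvd_of_pow_eq_one (pow_eq_one_of_dvd g _ h)
  · have h2p : orderOf g ∣ 2 * p := orderOf_dvd_of_pow_eq_one (pow_eq_one_of_dvd g _ h)
    have h2 : orderOf g ∣ 2 := hg.dvd_of_dvd_mul_right h2p
    by_cases hp2 : p = 2
    · -- order is 1
      have : orderOf g = 1 := by
        have hc : Nat.Coprime (orderOf g) 2 := hp2 ▸ hg
        exact hc.eq_one_of_dvd h2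
      left; rw [this]; exact one_dvd _
    · left
      refine h2.trans ?_
      have hodd : Odd (Fintype.card F) := by
        have : ringChar F ≠ 2 := by rwa [ringChar.eq F p]
        exact Nat.odd_iff.mpr (FiniteField.odd_card_of_char_ne_two this)
      obtain ⟨r, hr⟩ := hodd
      rw [hr]; exact ⟨r, by omega⟩

end Cfsg.Agent.S0800
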