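import Mathlib
import Cfsg.Statements.S0806
import Cfsg.Agent.Helper8.DkIdx

set_option autoImplicit false
open Cfsg

namespace Cfsg.Agent.S0806

/-- Minimal index (Galois): if q ∉ {2, 3, 5, 7, 9, 11} then every proper subgroup of PSL_2(q) has index ≥ q + 1, and some subgroup has index exactly q + 1. -/
theorem result {F : Type*} [Field F] [Fintype F] {q : ℕ} (hF : Fintype.card F = q) (hq : q ∉ ({2, 3, 5, 7, 9, 11} : Finset ℕ)) : (∀ H : Subgroup (Matrix.ProjectiveSpecialLinearGroup (Fin 2) F), H ≠ ⊤ → q + 1 ≤ H.index) ∧ ∃ H : Subgroup (Matrix.ProjectiveSpecialLinearGroup (Fin 2) F), H.index = q + 1 := by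
  subst hF
  obtain ⟨p, hp⟩ := CharP.exists F
  haveI : Fact p.Prime := ⟨CharP.char_is_prime F p⟩
  have hG := Cfsg.Agent.Helper8.Dk.card_center_mul_card_PSL2 (F := F)
  have hq2 : 2 ≤ Fintype.card F := Fintype.one_lt_card
  rw [Cfsg.Agent.Helper8.Dk.sq_sub_one_eq _ (by omega)] at hG
  have hpos : 0 < Fintype.card F * (Fintype.card F - 1) := Nat.mul_pos (by omega) (by omega)
  constructor
  · intro H hH
    have h1 := Cfsg.Agent.Helper8.Dk.card_mul_le_of_ne_top p hq H hH
    have h2 := Subgroup.card_mul_index H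
    by_contra hlt
    push Not at hlt
    have h3 : Nat.card (Subgroup.center (Matrix.SpecialLinearGroup (Fin 2) F)) * Nat.card H * H.index =
        Fintype.card F * ((Fintype.card F - 1) * (Fintype.card F + 1)) := by
      rw [mul_assoc, h2, hG]
    have h4 : Nat.card (Subgroup.center (Matrix.SpecialLinearGroup (Fin 2) F)) * Nat.card H * H.index ≤
        Fintype.card F * (Fintype.card F - 1) * Fintype.card F :=
      Nat.mul_le_mul h1 (by omega)
    have h5 : Fintype.card F * (Fintype.card F - 1) * Fintype.card F <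
        Fintype.card F * (Fintype.card F - 1) * (Fintype.card F + 1) :=
      Nat.mul_lt_mul_of_pos_left (by omega) hpos
    rw [h3] at h4
    have h6 : Fintype.card F * ((Fintype.card F - 1) * (Fintype.card F + 1)) =
        Fintype.card F * (Fintype.card F - 1) * (Fintype.card F + 1) := by ring
    omega
  · refine ⟨Subgroup.normalizer ((Cfsg.Agent.Helper8.Dk.M0 F :
      Subgroup (Matrix.ProjectiveSpecialLinearGroup (Fin 2) F)) :
        Set (Matrix.ProjectiveSpecialLinearGroup (Fin 2) F)), ?_⟩
    have h1 := Cfsg.Agent.Helper8.Dk.card_normalizer_GU (Cfsg.Agent.Helper8.Dk.M0_mem_GU (F := F))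
    have h2 := Subgroup.card_mul_index (Subgroup.normalizer ((Cfsg.Agent.Helper8.Dk.M0 F :
      Subgroup (Matrix.ProjectiveSpecialLinearGroup (Fin 2) F)) :
        Set (Matrix.ProjectiveSpecialLinearGroup (Fin 2) F)))
    apply Nat.eq_of_mul_eq_mul_left hpos
    rw [← h1, mul_assoc, h2, hG, h1]
    ring

end Cfsg.Agent.S0806
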