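import Mathlib
import Cfsg.Statements.S0810
import Cfsg.Agent.Helper8.DkMin
import Cfsg.Agent.Helper8.DkMinArith

set_option autoImplicit false
open Cfsg

namespace Cfsg.Agent.S0810

open Cfsg.Agent.Helper8.Dk

/-- PSL_2(q) is minimal simple iff q is 2^r (r prime), 3^r (r an odd prime), a prime greater than 5 congruent to 2 or 3 mod 5, or 5. -/
theorem result {F : Type*} [Field F] [Fintype F] {q : ℕ} (hF : Fintype.card F = q) : Cfsg.IsMinimalSimple (Matrix.ProjectiveSpecialLinearGroup (Fin 2) F) ↔ ((∃ r : ℕ, r.Prime ∧ q = 2 ^ r) ∨ (∃ r : ℕ, r.Prime ∧ r ≠ 2 ∧ q = 3 ^ r) ∨ (q.Prime ∧ 5 < q ∧ (q % 5 = 2 ∨ q % 5 = 3)) ∨ q = 5) := by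
  subst hF
  obtain ⟨p, hpF⟩ := CharP.exists F
  haveI hp : Fact p.Prime := ⟨CharP.char_is_prime F p⟩
  obtain ⟨n, -, hq⟩ := FiniteField.card F p
  obtain ⟨q, hqF⟩ : ∃ q, q = Fintype.card F := ⟨_, rfl⟩
  rw [← hqF] at hq ⊢
  have hp2 : 2 ≤ p := hp.out.two_le
  have hn1 : 1 ≤ (n : ℕ) := n.pos
  constructor
  · intro hmin
    have hq4 : 4 ≤ q := hqF ▸ four_le_of_minimal hmin
    have hB : 5 ∣ q * (q ^ 2 - 1) → q * (q ^ 2 - 1) ≤ 120 := by
      rw [hqF]; exact card_le_of_minimal_of_five_dvd hmin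
    have hA : ∀ s t : ℕ, s ≠ 0 → 2 ≤ t → s * t = n → p ^ s ≤ 3 := by
      intro s t hs0 ht hst
      letI : Fintype (GaloisField p s) := Fintype.ofFinite _
      have hc : Fintype.card (GaloisField p s) = p ^ s := by
        rw [← Nat.card_eq_fintype_card, GaloisField.card p s hs0]
      have := card_le_three_of_minimal hmin (K := GaloisField p s) t ht
        (by rw [hc, ← pow_mul, hst, ← hqF, hq])
      rwa [hc] at this
    exact arith_only_if p n q hp.out hn1 hq hq4 hB hA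
  · intro hlist
    obtain ⟨hq4, hA5, hsub⟩ := arith_if q hlist
    have hG := Cfsg.Agent.Lead.PSL2Sub.card_mul (F := F) hqF.symm
    apply isMinimalSimple_PSL2 p (hqF ▸ hq4)
    · rw [← hqF]
      intro h5
      have := hA5 h5
      rcases this with rfl | rfl
      · have e1 : Nat.gcd 2 (4 - 1) = 1 := by norm_num
        rw [e1] at hG; omega
      · have e1 : Nat.gcd 2 (5 - 1) = 2 := by norm_num
        rw [e1] at hG; omega
    · rw [← hqF]; exact hsub

end Cfsg.Agent.S0810
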