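import Mathlib
import Cfsg.Statements.S0817
import Cfsg.Agent.Helper8.AutD4A
import Cfsg.Agent.Helper8.AutD4B

set_option autoImplicit false
open Cfsg

namespace Cfsg.Agent.S0817

/-- |Aut(PΩ⁺_2m(q))| for q = p^f, m ≥ 4: |PΩ⁺_2m(q)| times f, times 3 when m = 4, times 2 if p = 2, and times 8 or 4 if p is odd according as m(q−1)/2 is even or odd. -/
theorem result {F : Type*} [Field F] [Fintype F] (p f : ℕ) [Fact p.Prime] (hf : 1 ≤ f) (hF : Fintype.card F = p ^ f) (m : ℕ) (hm : 4 ≤ m) : Nat.card (MulAut (Cfsg.POmega F (Cfsg.quadFormPlus m F))) = (if m = 4 then 3 else 1) * (if p = 2 then 2 else (if Even (m * (p ^ f - 1) / 2) then 8 else 4)) * f * Nat.card (Cfsg.POmega F (Cfsg.quadFormPlus m F)) := by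
  by_cases h4 : m = 4
  · subst h4
    rw [Cfsg.Agent.Helper8.AutD4.card_aut_plus_four p f hF, if_pos rfl]
    by_cases hp2 : p = 2
    · rw [if_pos hp2]
      subst hp2
      have hodd : Odd (2 ^ f - 1) := by
        obtain ⟨k, rfl⟩ : ∃ k, f = k + 1 := ⟨f - 1, by omega⟩
        rw [pow_succ]
        have : 0 < 2 ^ k := Nat.pos_of_ne_zero (by positivity)
        exact ⟨2 ^ k - 1, by omega⟩
      have hg : Nat.gcd 2 (2 ^ f - 1) = 1 := Nat.coprime_two_left.mpr hodd
      rw [hg]
      ring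
    · rw [if_neg hp2]
      have hpodd : Odd p := (Fact.out : p.Prime).odd_of_ne_two hp2
      have hqodd : Odd (p ^ f) := hpodd.pow
      have hev : Even (p ^ f - 1) := by
        obtain ⟨k, hk⟩ := hqodd
        exact ⟨k, by omega⟩
      have hg : Nat.gcd 2 (p ^ f - 1) = 2 := Nat.gcd_eq_left hev.two_dvd
      have hE : Even (4 * (p ^ f - 1) / 2) := by
        obtain ⟨k, hk⟩ := hev
        rw [hk]
        exact ⟨2 * k, by omega⟩
      rw [hg, if_pos hE]
      ring
  · rw [if_neg h4, one_mul]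
    exact Cfsg.Agent.Helper8.AutD4.card_aut_plus_big p f hF (by omega)

end Cfsg.Agent.S0817
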