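import Mathlib
import Cfsg.Statements.S0818
import Cfsg.Agent.Helper8.AutOza
import Cfsg.Agent.Helper8.OmegaStd

set_option autoImplicit false
open Cfsg

namespace Cfsg.Agent.S0818

open Cfsg.Agent.Helper8.StdForms

/-- |Aut(PΩ⁻_2m(q))| for q = p^f, m ≥ 4 (form quadFormMinus (m−1) with anisotropic binary part): |PΩ⁻_2m(q)| times f, times 2 if p = 2, and times 4 or 8 if p is odd according as m(q−1)/2 is even or odd. -/
theorem result {F : Type*} [Field F] [Fintype F] (p f : ℕ) [Fact p.Prime] (hf : 1 ≤ f) (hF : Fintype.card F = p ^ f) (m : ℕ) (hm : 4 ≤ m) (a b : F) (hab : ∀ z₁ z₂ : F, z₁ ^ 2 + a * z₁ * z₂ + b * z₂ ^ 2 = 0 → z₁ = 0 ∧ z₂ = 0) : Nat.card (MulAut (Cfsg.POmega F (Cfsg.quadFormMinus (m - 1) F a b))) = (if p = 2 then 2 else (if Even (m * (p ^ f - 1) / 2) then 4 else 8)) * f * Nat.card (Cfsg.POmega F (Cfsg.quadFormMinus (m - 1) F a b)) := by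
  obtain ⟨k, rfl⟩ : ∃ k, m = k + 1 := ⟨m - 1, by omega⟩
  have hk : 3 ≤ k := by omega
  rw [Nat.add_sub_cancel]
  have hc : CharP F p := charP_of_card_eq_prime_pow hF
  rw [Cfsg.Agent.Helper8.AutO.card_aut_POmega_minus hk a b hab,
    Cfsg.Agent.Helper7.FieldAutCard.card_ringAut p f hF]
  have e : ⇑(minusForm F k a b) = Cfsg.quadFormMinus k F a b := funext (minusForm_apply F k a b)
  have hcard : Fintype.card ((Fin k ⊕ Fin k) ⊕ Fin 2) = 2 * k + 2 := by
    simp only [Fintype.card_sum, Fintype.card_fin]; ring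
  have hQ := minusForm_nondeg F k hab
  by_cases hp2 : p = 2
  · rw [if_pos hp2]
    subst hp2
    have h2 : (2 : F) = 0 := by
      have := CharP.cast_eq_zero F 2
      exact_mod_cast this
    have h1 := Cfsg.Agent.Helper8.POmegaCard.card_pomega_even (minusForm F k a b) h2 hQ
      (by rw [hcard]; omega) (Or.inr (by rw [hcard]; omega))
    rw [e] at h1
    rw [← h1]
    ring
  · rw [if_neg hp2]
    have hpodd : Odd p := (Fact.out : p.Prime).odd_of_ne_two hp2
    have hqodd : Odd (Fintype.card F) := by rw [hF]; exact hpodd.pow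
    have h2 : (2 : F) ≠ 0 := by
      intro h0
      have h1 : ((2 : ℕ) : F) = 0 := by exact_mod_cast h0
      have h3 := (CharP.cast_eq_zero_iff F p 2).mp h1
      exact hp2 ((Nat.prime_dvd_prime_iff_eq Fact.out Nat.prime_two).mp h3)
    obtain ⟨hA, hB⟩ := Cfsg.Agent.Helper8.POmegaCard.card_pomega_odd (minusForm F k a b) h2 hQ
      (by rw [hcard]; omega)
    rw [e] at hA hB
    have hiff := Cfsg.Agent.S0791.result (F := F) rfl hqodd (k + 1) (by omega) a b hab
    rw [Nat.add_sub_cancel] at hiff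
    have hev := Cfsg.Agent.S2620.even_iff (k + 1) (Fintype.card F) hqodd
    have hpm := Cfsg.Agent.Helper8.OmegaStd.pow_mod_four (Fintype.card F) (k + 1) hqodd
    have hq13 : Fintype.card F ^ (k + 1) % 4 = 1 ∨ Fintype.card F ^ (k + 1) % 4 = 3 := by
      obtain ⟨r, hr⟩ : Odd (Fintype.card F ^ (k + 1)) := hqodd.pow
      omega
    rw [← hF]
    by_cases hE : Even ((k + 1) * (Fintype.card F - 1) / 2)
    · rw [if_pos hE]
      have h1 : Fintype.card F ^ (k + 1) % 4 = 1 := hpm.mpr (hev.mp hE)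
      have h3 := hB (fun hex => by
        have := hiff.mp hex
        omega)
      rw [← h3]
      ring
    · rw [if_neg hE]
      have h1 : ¬ Fintype.card F ^ (k + 1) % 4 = 1 := fun h => hE (hev.mpr (hpm.mp h))
      have h3 := hA (hiff.mpr (by omega))
      rw [← h3]
      ring

end Cfsg.Agent.S0818
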