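import Cfsg.Statements.S0819
import Cfsg.Agent.Helper7.F4Batch
import Cfsg.Agent.Helper7.SLTransfer

set_option autoImplicit false
open Cfsg

namespace Cfsg.Agent.S0819

open Cfsg.Agent.Helper7 Cfsg.Agent.Helper7.F4Mat Matrix

/-- The number of matrices. -/
def NN : Nat := 2 ^ 18

/-- The third power. -/
def pw3 (x : M9) : M9 := (x.mul x).mul x
/-- The fifth power. -/
def pw5 (x : M9) : M9 := (pw3 x).mul (x.mul x)
/-- The fifteenth power. -/
def pw15 (x : M9) : M9 := ((pw5 x).mul (pw5 x)).mul (pw5 x)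

/-- The third power. -/
def bw3 (x : PM9) : PM9 := (x.mul x).mul x
/-- The fifth power. -/
def bw5 (x : PM9) : PM9 := (bw3 x).mul (x.mul x)
/-- The fifteenth power. -/
def bw15 (x : PM9) : PM9 := ((bw5 x).mul (bw5 x)).mul (bw5 x)

theorem get_bw3 (x : PM9) (m : Nat) : (bw3 x).get m = pw3 (x.get m) := by
  simp only [bw3, pw3, PM9.get_mul]

theorem get_bw5 (x : PM9) (m : Nat) : (bw5 x).get m = pw5 (x.get m) := by
  simp only [bw5, pw5, PM9.get_mul, get_bw3]

theorem get_bw15 (x : PM9) (m : Nat) : (bw15 x).get m = pw15 (x.get m) := by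
  simp only [bw15, pw15, PM9.get_mul, get_bw5]

theorem toMat_pw3 (x : M9) : (pw3 x).toMat = x.toMat ^ 3 := by
  rw [pw3, M9.toMat_mul, M9.toMat_mul, pow_succ, pow_two]

theorem toMat_pw5 (x : M9) : (pw5 x).toMat = x.toMat ^ 5 := by
  rw [pw5, M9.toMat_mul, M9.toMat_mul, toMat_pw3, ← pow_two, ← pow_add]

theorem toMat_pw15 (x : M9) : (pw15 x).toMat = x.toMat ^ 15 := by
  rw [pw15, M9.toMat_mul, M9.toMat_mul, toMat_pw5, ← pow_add, ← pow_add]

/-- The mask of the matrices of determinant one whose fifteenth power is scalar but whose third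
and fifth powers are not. -/
def bad15 (X : PM9) : Nat :=
  oneMask NN X.det &&& (PM9.scalMask NN (bw15 X) &&&
    (ones NN ^^^ (PM9.scalMask NN (bw5 X) ||| PM9.scalMask NN (bw3 X))))

set_option maxRecDepth 100000 in
theorem bad15_zero : bad15 X0 = 0 := by decide +kernel

theorem key (x : M9) : x.det = 1 → (pw15 x).isScal = true →
    (pw5 x).isScal = true ∨ (pw3 x).isScal = true := by
  refine forall_of_mask (bad15 X0) (fun x => x.det = 1 → (pw15 x).isScal = true →
    (pw5 x).isScal = true ∨ (pw3 x).isScal = true) ?_ bad15_zero x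
  intro m hm hbit h1 h2
  have hm' : m < NN := hm
  simp only [bad15, Nat.testBit_and, Nat.testBit_xor, Nat.testBit_or, testBit_oneMask hm',
    PM9.testBit_scalMask hm', testBit_ones hm', PM9.get_det, get_bw3, get_bw5, get_bw15, h1, h2,
    decide_true, Bool.true_and, Bool.true_xor, Bool.not_eq_false', Bool.or_eq_true] at hbit
  exact hbit

theorem det_scalar_three (r : F4) : (Matrix.scalar (Fin 3) r).det = r ^ 3 := by
  simp [pow_succ]

/-- No element of `PSL_3(4)` has order 15, over the model of the field. -/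
theorem no15 (g : Matrix.ProjectiveSpecialLinearGroup (Fin 3) F4) : orderOf g ≠ 15 := by
  intro h15
  obtain ⟨A, rfl⟩ := QuotientGroup.mk_surjective g
  have hpow : ∀ k : ℕ, (QuotientGroup.mk A : Matrix.ProjectiveSpecialLinearGroup (Fin 3) F4) ^ k = 1 ↔
      ∃ r : F4, (A.1 ^ k) = Matrix.scalar (Fin 3) r := by
    intro k
    rw [← QuotientGroup.mk_pow, QuotientGroup.eq_one_iff, Matrix.SpecialLinearGroup.mem_center_iff]
    constructor
    · rintro ⟨r, _, hr⟩
      exact ⟨r, by rw [hr]; rfl⟩
    · rintro ⟨r, hr⟩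
      refine ⟨r, ?_, by rw [← hr]; rfl⟩
      have hd : (A.1 ^ k).det = 1 := by rw [Matrix.det_pow, A.2, one_pow]
      rw [hr, det_scalar_three] at hd
      simpa using hd
  set x := M9.ofMat A.1 with hx
  have hxm : x.toMat = A.1 := M9.toMat_ofMat _
  have hdet : x.det = 1 := by rw [← M9.det_toMat, hxm]; exact A.2
  have h1 : (pw15 x).isScal = true := by
    rw [M9.isScal_iff, toMat_pw15, hxm]
    exact (hpow 15).1 (by rw [← h15]; exact pow_orderOf_eq_one _)
  rcases key x hdet h1 with h | h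
  · rw [M9.isScal_iff, toMat_pw5, hxm] at h
    have := orderOf_dvd_of_pow_eq_one ((hpow 5).2 h)
    rw [h15] at this
    norm_num at this
  · rw [M9.isScal_iff, toMat_pw3, hxm] at h
    have := orderOf_dvd_of_pow_eq_one ((hpow 3).2 h)
    rw [h15] at this
    norm_num at this

/-- No element of PSL_3(4) has order 15. -/
theorem result {F : Type*} [Field F] [Fintype F] (hF : Fintype.card F = 4) (g : Matrix.ProjectiveSpecialLinearGroup (Fin 3) F) : orderOf g ≠ 15 := by
  have φ : F ≃+* F4 := FiniteField.ringEquivOfCardEq (by rw [hF, F4.card])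
  have h := no15 (SLTransfer.pslEquiv φ g)
  rwa [MulEquiv.orderOf_eq] at h

end Cfsg.Agent.S0819
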