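import Cfsg.Statements.S0820
import Cfsg.Agent.Helper7.F4Cert
import Cfsg.Agent.Helper7.SLTransfer

set_option autoImplicit false
open Cfsg

namespace Cfsg.Agent.S0820

open Cfsg.Agent.Helper7 Cfsg.Agent.Helper7.F4Mat Matrix

/-- The number of matrices. -/
def NN : Nat := 2 ^ 18

/-- The standard involution. -/
def A0 : M9 := ⟨.o, .z, .o, .z, .o, .z, .z, .z, .o⟩

/-- The mask of the indices where the matrix is the identity. -/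
def isOneMask (N : Nat) (x : PM9) : Nat :=
  oneMask N x.a &&& (zeroMask N x.b &&& (zeroMask N x.c &&& (zeroMask N x.d &&&
    (oneMask N x.e &&& (zeroMask N x.f &&& (zeroMask N x.g &&& (zeroMask N x.h &&&
      oneMask N x.i)))))))

theorem testBit_isOneMask {N m : Nat} (h : m < N) (x : PM9) :
    (isOneMask N x).testBit m = decide (x.get m = M9.one) := by
  simp only [isOneMask, Nat.testBit_and, testBit_zeroMask h, testBit_oneMask h, PM9.get, M9.one,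
    M9.mk.injEq]
  rw [Bool.eq_iff_iff]
  simp only [Bool.and_eq_true, decide_eq_true_eq]

/-- The mask of the involutions. -/
def invMask (X : PM9) : Nat := isOneMask NN (X.mul X) &&& (ones NN ^^^ isOneMask NN X)

/-- The involutions, by their indices, with matrices conjugating them to the standard one. -/
def cert : List (Nat × M9) := [
  (4368, ⟨.o, .z, .z, .z, .o, .z, .o, .z, .o⟩),
  (5456, ⟨.o, .z, .z, .o, .o, .z, .o, .z, .o⟩),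
  (6544, ⟨.o, .z, .z, .w, .o, .z, .o, .z, .o⟩),
  (7632, ⟨.o, .z, .z, .v, .o, .z, .o, .z, .o⟩),
  (8496, ⟨.o, .z, .o, .z, .o, .z, .v, .z, .w⟩),
  (9648, ⟨.o, .w, .z, .o, .v, .z, .w, .z, .o⟩),
  (10736, ⟨.o, .o, .z, .w, .v, .z, .w, .z, .o⟩),
  (11632, ⟨.o, .w, .v, .o, .v, .o, .w, .z, .o⟩),
  (12576, ⟨.o, .z, .o, .z, .o, .z, .w, .z, .v⟩),
  (13792, ⟨.o, .z, .o, .w, .o, .w, .w, .z, .v⟩),
  (14688, ⟨.o, .z, .o, .o, .o, .z, .w, .z, .v⟩),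
  (15776, ⟨.o, .z, .o, .o, .o, .o, .w, .z, .v⟩),
  (17409, ⟨.o, .o, .z, .o, .z, .z, .z, .o, .o⟩),
  (17429, ⟨.o, .z, .z, .o, .o, .z, .z, .o, .o⟩),
  (17449, ⟨.o, .z, .z, .w, .o, .w, .z, .w, .w⟩),
  (17469, ⟨.o, .w, .z, .o, .v, .z, .z, .o, .o⟩),
  (20756, ⟨.o, .o, .z, .z, .o, .z, .o, .o, .o⟩),
  (21569, ⟨.o, .o, .z, .o, .z, .z, .o, .o, .o⟩),
  (23486, ⟨.o, .o, .z, .w, .v, .z, .o, .o, .o⟩),
  (24299, ⟨.o, .o, .z, .v, .w, .z, .o, .o, .o⟩),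
  (24892, ⟨.w, .w, .z, .z, .v, .z, .w, .o, .o⟩),
  (25729, ⟨.o, .o, .z, .o, .z, .z, .w, .o, .o⟩),
  (27626, ⟨.o, .w, .z, .w, .w, .z, .w, .o, .o⟩),
  (28247, ⟨.o, .z, .z, .v, .o, .z, .w, .o, .o⟩),
  (28968, ⟨.o, .w, .o, .z, .o, .z, .w, .v, .v⟩),
  (29889, ⟨.v, .o, .z, .o, .z, .z, .v, .o, .o⟩),
  (31574, ⟨.v, .o, .z, .w, .o, .z, .v, .o, .o⟩),
  (32447, ⟨.o, .w, .o, .o, .v, .o, .w, .v, .v⟩),
  (35841, ⟨.o, .w, .z, .v, .z, .z, .z, .w, .o⟩),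
  (35865, ⟨.o, .z, .z, .v, .o, .z, .z, .w, .o⟩),
  (35885, ⟨.o, .o, .z, .v, .w, .z, .z, .w, .o⟩),
  (35893, ⟨.o, .z, .z, .w, .o, .w, .z, .o, .v⟩),
  (37144, ⟨.o, .w, .z, .z, .o, .z, .o, .w, .o⟩),
  (38774, ⟨.o, .w, .z, .o, .v, .z, .o, .w, .o⟩),
  (39599, ⟨.o, .w, .z, .w, .w, .z, .o, .w, .o⟩),
  (40129, ⟨.o, .w, .z, .v, .z, .z, .o, .w, .o⟩),
  (41268, ⟨.o, .z, .z, .v, .o, .w, .o, .o, .v⟩),
  (42926, ⟨.o, .v, .z, .o, .w, .z, .w, .w, .o⟩),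
  (43739, ⟨.o, .z, .z, .w, .o, .z, .w, .w, .o⟩),
  (44097, ⟨.o, .w, .z, .v, .z, .z, .w, .w, .o⟩),
  (45356, ⟨.o, .w, .o, .z, .o, .z, .w, .o, .v⟩),
  (47066, ⟨.v, .w, .z, .o, .o, .z, .v, .w, .o⟩),
  (47735, ⟨.o, .z, .z, .z, .o, .w, .w, .o, .v⟩),
  (48257, ⟨.o, .v, .o, .o, .w, .o, .w, .o, .v⟩),
  (51201, ⟨.o, .o, .o, .o, .z, .z, .z, .w, .v⟩),
  (51229, ⟨.o, .z, .z, .w, .o, .z, .z, .v, .o⟩),
  (51237, ⟨.o, .w, .w, .o, .v, .v, .z, .w, .v⟩),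
  (51257, ⟨.o, .z, .z, .o, .o, .o, .z, .w, .v⟩),
  (53532, ⟨.o, .v, .z, .z, .o, .z, .o, .v, .o⟩),
  (54887, ⟨.o, .v, .z, .o, .w, .z, .o, .v, .o⟩),
  (55425, ⟨.o, .z, .w, .o, .o, .w, .w, .o, .w⟩),
  (57338, ⟨.o, .z, .z, .v, .o, .o, .v, .w, .v⟩),
  (57656, ⟨.o, .z, .z, .w, .o, .o, .o, .w, .v⟩),
  (59039, ⟨.o, .z, .z, .o, .o, .z, .w, .v, .o⟩),
  (59585, ⟨.o, .v, .z, .w, .z, .z, .w, .v, .o⟩),
  (61286, ⟨.o, .o, .z, .v, .w, .z, .w, .v, .o⟩),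
  (61732, ⟨.o, .o, .o, .z, .o, .z, .w, .w, .v⟩),
  (63227, ⟨.o, .o, .o, .z, .o, .o, .w, .w, .v⟩),
  (63553, ⟨.o, .o, .o, .o, .z, .z, .w, .w, .v⟩),
  (65438, ⟨.o, .o, .o, .o, .z, .o, .w, .w, .v⟩),
  (65604, ⟨.o, .z, .o, .o, .o, .o, .o, .o, .z⟩),
  (65676, ⟨.o, .z, .o, .w, .o, .w, .o, .v, .z⟩),
  (65736, ⟨.o, .o, .w, .w, .v, .o, .w, .v, .z⟩),
  (65797, ⟨.o, .z, .z, .z, .o, .o, .z, .o, .z⟩),
  (65801, ⟨.o, .z, .z, .z, .o, .v, .z, .w, .z⟩),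
  (65805, ⟨.o, .z, .z, .z, .o, .w, .z, .v, .z⟩),
  (65809, ⟨.o, .z, .z, .z, .o, .z, .z, .z, .o⟩),
  (65813, ⟨.o, .z, .z, .z, .o, .z, .z, .o, .o⟩),
  (65817, ⟨.o, .z, .z, .z, .o, .z, .z, .w, .o⟩),
  (65821, ⟨.o, .z, .z, .z, .o, .z, .z, .v, .o⟩),
  (65825, ⟨.v, .w, .z, .z, .w, .z, .z, .z, .o⟩),
  (65829, ⟨.o, .z, .z, .z, .o, .v, .z, .o, .w⟩),
  (65833, ⟨.o, .z, .z, .z, .o, .w, .z, .w, .w⟩),
  (65837, ⟨.o, .z, .z, .z, .o, .o, .z, .v, .w⟩),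
  (65841, ⟨.w, .w, .z, .z, .v, .z, .z, .z, .o⟩),
  (65845, ⟨.o, .z, .z, .z, .o, .w, .z, .o, .v⟩),
  (65849, ⟨.o, .z, .z, .z, .o, .o, .z, .w, .v⟩),
  (65853, ⟨.o, .z, .z, .z, .v, .o, .z, .v, .v⟩),
  (65857, ⟨.o, .o, .o, .o, .z, .o, .o, .z, .z⟩),
  (65921, ⟨.o, .o, .v, .o, .z, .v, .w, .z, .z⟩),
  (65985, ⟨.o, .o, .w, .o, .z, .w, .v, .z, .z⟩),
  (66122, ⟨.o, .z, .w, .w, .o, .v, .v, .w, .z⟩),
  (66182, ⟨.o, .z, .o, .v, .o, .o, .v, .o, .z⟩),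
  (66254, ⟨.o, .w, .z, .w, .w, .o, .w, .w, .z⟩),
  (66383, ⟨.z, .w, .v, .v, .o, .w, .w, .v, .z⟩),
  (66443, ⟨.o, .z, .v, .o, .o, .v, .w, .w, .z⟩),
  (66503, ⟨.o, .z, .z, .w, .o, .o, .w, .o, .z⟩),
  (66644, ⟨.o, .z, .z, .o, .o, .z, .o, .o, .o⟩),
  (66748, ⟨.o, .w, .z, .o, .v, .z, .w, .o, .o⟩),
  (66792, ⟨.o, .o, .o, .w, .v, .w, .w, .v, .v⟩),
  (66817, ⟨.o, .o, .z, .o, .z, .z, .z, .z, .o⟩),
  (66833, ⟨.o, .z, .z, .o, .o, .z, .z, .z, .o⟩),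
  (66849, ⟨.o, .v, .z, .o, .w, .z, .z, .z, .o⟩),
  (66865, ⟨.o, .w, .z, .o, .v, .z, .z, .z, .o⟩),
  (66881, ⟨.o, .o, .z, .o, .z, .z, .o, .z, .o⟩),
  (66945, ⟨.o, .o, .z, .o, .z, .z, .w, .z, .o⟩),
  (67009, ⟨.o, .o, .z, .o, .z, .z, .v, .z, .o⟩),
  (67194, ⟨.o, .w, .z, .o, .v, .z, .o, .v, .o⟩),
  (67238, ⟨.o, .v, .z, .o, .w, .z, .w, .v, .o⟩),
  (67294, ⟨.o, .z, .z, .o, .o, .z, .v, .v, .o⟩),
  (67439, ⟨.o, .v, .z, .o, .w, .z, .o, .w, .o⟩),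
  (67483, ⟨.o, .z, .z, .o, .o, .z, .w, .w, .o⟩),
  (67575, ⟨.o, .z, .o, .w, .o, .w, .w, .o, .v⟩),
  (67684, ⟨.o, .w, .z, .w, .w, .z, .v, .v, .o⟩),
  (67740, ⟨.o, .z, .z, .w, .o, .z, .o, .v, .o⟩),
  (67832, ⟨.o, .o, .z, .w, .v, .z, .w, .v, .o⟩),
  (67841, ⟨.o, .v, .z, .w, .z, .z, .z, .z, .o⟩),
  (67857, ⟨.o, .z, .z, .w, .o, .z, .z, .z, .o⟩),
  (67873, ⟨.o, .w, .z, .w, .w, .z, .z, .z, .o⟩),
  (67889, ⟨.o, .o, .z, .w, .v, .z, .z, .z, .o⟩),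
  (67905, ⟨.o, .v, .z, .w, .z, .z, .v, .z, .o⟩),
  (67969, ⟨.o, .o, .w, .o, .z, .w, .w, .z, .w⟩),
  (68033, ⟨.o, .v, .z, .w, .z, .z, .w, .z, .o⟩),
  (68186, ⟨.o, .z, .z, .w, .o, .z, .v, .w, .o⟩),
  (68278, ⟨.o, .v, .w, .o, .w, .w, .w, .v, .w⟩),
  (68334, ⟨.o, .w, .z, .w, .w, .z, .w, .w, .o⟩),
  (68479, ⟨.o, .o, .z, .w, .v, .z, .v, .o, .o⟩),
  (68523, ⟨.o, .z, .w, .o, .o, .w, .w, .w, .w⟩),
  (68567, ⟨.o, .z, .z, .w, .o, .z, .w, .o, .o⟩),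
  (68724, ⟨.o, .z, .w, .o, .o, .w, .o, .o, .v⟩),
  (68780, ⟨.o, .w, .o, .o, .v, .o, .w, .o, .v⟩),
  (68824, ⟨.o, .z, .z, .v, .o, .z, .o, .w, .o⟩),
  (68865, ⟨.o, .w, .z, .v, .z, .z, .z, .z, .o⟩),
  (68881, ⟨.o, .z, .z, .v, .o, .z, .z, .z, .o⟩),
  (68897, ⟨.o, .o, .z, .v, .w, .z, .z, .z, .o⟩),
  (68913, ⟨.v, .o, .z, .v, .v, .z, .z, .z, .o⟩),
  (68929, ⟨.o, .o, .w, .o, .z, .w, .o, .z, .v⟩),
  (68993, ⟨.o, .o, .o, .o, .z, .o, .w, .z, .v⟩),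
  (69057, ⟨.o, .w, .z, .v, .z, .z, .o, .z, .o⟩),
  (69226, ⟨.o, .z, .o, .w, .o, .w, .v, .w, .w⟩),
  (69270, ⟨.o, .z, .z, .v, .o, .z, .v, .o, .o⟩),
  (69374, ⟨.o, .w, .w, .w, .w, .v, .w, .w, .w⟩),
  (69471, ⟨.o, .z, .z, .v, .o, .z, .w, .v, .o⟩),
  (69563, ⟨.o, .z, .o, .o, .o, .o, .w, .w, .v⟩),
  (69607, ⟨.o, .z, .w, .w, .o, .v, .w, .o, .w⟩),
  (69889, ⟨.o, .z, .o, .z, .o, .z, .o, .z, .z⟩),
  (69953, ⟨.o, .z, .o, .o, .o, .o, .o, .z, .z⟩),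
  (70017, ⟨.o, .z, .o, .w, .o, .w, .o, .z, .z⟩),
  (70081, ⟨.o, .z, .o, .v, .o, .v, .o, .z, .z⟩),
  (73985, ⟨.o, .z, .w, .z, .o, .z, .v, .z, .z⟩),
  (74049, ⟨.o, .z, .w, .w, .o, .v, .v, .z, .z⟩),
  (74113, ⟨.o, .w, .o, .w, .w, .w, .o, .z, .z⟩),
  (74177, ⟨.o, .z, .w, .o, .o, .w, .v, .z, .z⟩),
  (78081, ⟨.o, .z, .v, .z, .o, .z, .w, .z, .z⟩),
  (78145, ⟨.o, .w, .o, .o, .v, .o, .o, .z, .z⟩),
  (78209, ⟨.o, .z, .v, .o, .o, .v, .w, .z, .z⟩),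
  (78273, ⟨.o, .z, .v, .w, .o, .o, .w, .z, .z⟩),
  (82177, ⟨.o, .o, .o, .o, .z, .z, .z, .o, .z⟩),
  (82181, ⟨.o, .z, .z, .o, .o, .o, .z, .o, .z⟩),
  (82185, ⟨.o, .z, .z, .w, .o, .v, .z, .w, .z⟩),
  (82189, ⟨.o, .w, .w, .o, .v, .v, .z, .o, .z⟩),
  (86084, ⟨.o, .o, .o, .z, .o, .o, .o, .o, .z⟩),
  (86273, ⟨.o, .o, .o, .z, .o, .z, .o, .o, .z⟩),
  (86734, ⟨.o, .o, .o, .w, .v, .v, .o, .o, .z⟩),
  (86923, ⟨.o, .o, .o, .w, .v, .w, .o, .o, .z⟩),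
  (90252, ⟨.v, .w, .v, .o, .o, .w, .o, .v, .z⟩),
  (90369, ⟨.o, .z, .w, .z, .o, .z, .v, .w, .z⟩),
  (90698, ⟨.v, .w, .v, .o, .o, .o, .o, .v, .z⟩),
  (91079, ⟨.o, .z, .z, .v, .o, .o, .w, .o, .z⟩),
  (94408, ⟨.o, .w, .v, .o, .v, .o, .w, .v, .z⟩),
  (94465, ⟨.v, .o, .o, .w, .o, .z, .v, .o, .z⟩),
  (94854, ⟨.o, .w, .v, .w, .w, .v, .w, .v, .z⟩),
  (95055, ⟨.o, .w, .v, .z, .o, .w, .w, .v, .z⟩),
  (98561, ⟨.o, .o, .w, .o, .z, .z, .z, .v, .z⟩),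
  (98565, ⟨.o, .z, .z, .w, .o, .o, .z, .o, .z⟩),
  (98569, ⟨.o, .w, .w, .w, .w, .w, .z, .o, .z⟩),
  (98573, ⟨.o, .z, .z, .o, .o, .w, .z, .v, .z⟩),
  (102600, ⟨.o, .w, .o, .z, .o, .v, .o, .w, .z⟩),
  (102657, ⟨.o, .w, .o, .z, .o, .z, .o, .w, .z⟩),
  (103046, ⟨.o, .w, .o, .w, .w, .w, .o, .w, .z⟩),
  (103247, ⟨.o, .w, .o, .o, .v, .o, .o, .w, .z⟩),
  (106564, ⟨.o, .z, .z, .v, .o, .o, .o, .o, .z⟩),
  (106753, ⟨.w, .w, .o, .w, .o, .z, .w, .w, .z⟩),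
  (107214, ⟨.o, .z, .o, .v, .o, .v, .o, .o, .z⟩),
  (107403, ⟨.o, .z, .z, .w, .o, .v, .w, .w, .z⟩),
  (110732, ⟨.v, .w, .o, .w, .v, .o, .v, .w, .z⟩),
  (110849, ⟨.v, .w, .o, .o, .o, .z, .v, .w, .z⟩),
  (111178, ⟨.o, .v, .v, .z, .o, .w, .w, .o, .z⟩),
  (111559, ⟨.o, .z, .z, .z, .o, .o, .w, .o, .z⟩),
  (114945, ⟨.o, .o, .v, .o, .z, .z, .z, .w, .z⟩),
  (114949, ⟨.o, .z, .z, .v, .o, .o, .z, .o, .z⟩),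
  (114953, ⟨.o, .z, .z, .o, .o, .v, .z, .w, .z⟩),
  (114957, ⟨.o, .z, .z, .w, .o, .w, .z, .v, .z⟩),
  (118924, ⟨.o, .z, .w, .v, .o, .o, .v, .w, .z⟩),
  (119041, ⟨.o, .v, .o, .z, .o, .z, .o, .v, .z⟩),
  (119370, ⟨.o, .v, .o, .z, .o, .o, .o, .v, .z⟩),
  (119751, ⟨.o, .z, .z, .o, .o, .o, .w, .o, .z⟩),
  (123080, ⟨.o, .z, .z, .w, .o, .v, .o, .w, .z⟩),
  (123137, ⟨.o, .o, .w, .z, .o, .z, .v, .o, .z⟩),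
  (123526, ⟨.o, .z, .o, .w, .o, .w, .o, .w, .z⟩),
  (123727, ⟨.o, .o, .v, .z, .v, .w, .w, .v, .z⟩),
  (127044, ⟨.o, .z, .z, .w, .o, .o, .o, .o, .z⟩),
  (127233, ⟨.o, .o, .v, .z, .o, .z, .w, .w, .z⟩),
  (127694, ⟨.o, .o, .v, .z, .o, .o, .w, .w, .z⟩),
  (127883, ⟨.o, .z, .o, .w, .o, .w, .o, .o, .z⟩),
  (135458, ⟨.o, .z, .w, .z, .o, .z, .o, .z, .v⟩),
  (136610, ⟨.o, .z, .w, .w, .o, .v, .o, .z, .v⟩),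
  (137698, ⟨.o, .w, .z, .w, .w, .z, .w, .z, .o⟩),
  (138594, ⟨.o, .z, .w, .o, .o, .w, .o, .z, .v⟩),
  (139538, ⟨.o, .z, .z, .z, .o, .z, .v, .z, .o⟩),
  (140754, ⟨.o, .z, .z, .o, .o, .z, .v, .z, .o⟩),
  (141650, ⟨.o, .z, .z, .w, .o, .z, .v, .z, .o⟩),
  (142738, ⟨.o, .z, .z, .z, .o, .o, .v, .z, .o⟩),
  (143666, ⟨.o, .z, .w, .z, .o, .z, .w, .z, .w⟩),
  (144754, ⟨.o, .w, .z, .o, .v, .z, .o, .z, .o⟩),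
  (145842, ⟨.o, .z, .w, .o, .o, .w, .w, .z, .w⟩),
  (146930, ⟨.o, .z, .w, .w, .o, .v, .w, .z, .w⟩),
  (150017, ⟨.o, .z, .w, .w, .o, .v, .z, .w, .o⟩),
  (150041, ⟨.o, .z, .z, .w, .o, .z, .z, .w, .o⟩),
  (150061, ⟨.o, .w, .z, .w, .w, .z, .z, .w, .o⟩),
  (150069, ⟨.o, .z, .z, .o, .o, .w, .z, .o, .v⟩),
  (151854, ⟨.o, .o, .w, .z, .o, .z, .o, .o, .v⟩),
  (153524, ⟨.o, .o, .w, .z, .o, .w, .o, .o, .v⟩),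
  (154305, ⟨.o, .o, .w, .o, .z, .z, .o, .o, .v⟩),
  (154715, ⟨.o, .z, .z, .v, .o, .z, .w, .w, .o⟩),
  (155930, ⟨.o, .z, .z, .z, .o, .z, .v, .w, .o⟩),
  (157676, ⟨.w, .w, .z, .o, .w, .z, .v, .w, .o⟩),
  (158273, ⟨.o, .z, .o, .v, .o, .v, .w, .o, .v⟩),
  (158903, ⟨.o, .z, .z, .v, .o, .w, .w, .o, .v⟩),
  (160054, ⟨.o, .w, .w, .z, .o, .z, .w, .v, .w⟩),
  (161624, ⟨.o, .z, .z, .o, .o, .z, .o, .w, .o⟩),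
  (162433, ⟨.o, .w, .w, .o, .v, .w, .w, .v, .w⟩),
  (163055, ⟨.o, .w, .w, .z, .o, .o, .w, .v, .w⟩),
  (165377, ⟨.o, .o, .z, .o, .z, .z, .z, .v, .o⟩),
  (165405, ⟨.o, .z, .z, .o, .o, .z, .z, .v, .o⟩),
  (165413, ⟨.o, .z, .o, .o, .o, .o, .z, .v, .o⟩),
  (165433, ⟨.o, .w, .z, .o, .v, .z, .z, .v, .o⟩),
  (168230, ⟨.o, .w, .w, .z, .o, .z, .o, .w, .v⟩),
  (169601, ⟨.o, .o, .z, .o, .z, .z, .w, .v, .o⟩),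
  (170207, ⟨.o, .z, .z, .w, .o, .z, .w, .v, .o⟩),
  (171896, ⟨.o, .w, .w, .z, .o, .o, .o, .w, .v⟩),
  (172318, ⟨.o, .o, .z, .z, .o, .z, .v, .v, .o⟩),
  (173761, ⟨.o, .o, .z, .o, .z, .z, .v, .v, .o⟩),
  (174203, ⟨.o, .o, .z, .w, .v, .z, .v, .v, .o⟩),
  (176036, ⟨.w, .w, .w, .w, .o, .z, .w, .w, .v⟩),
  (176442, ⟨.o, .z, .w, .z, .o, .z, .w, .o, .w⟩),
  (177729, ⟨.o, .o, .z, .o, .z, .z, .o, .v, .o⟩),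
  (178343, ⟨.o, .w, .z, .w, .w, .z, .o, .v, .o⟩),
  (180188, ⟨.o, .z, .z, .v, .o, .z, .o, .v, .o⟩),
  (183809, ⟨.o, .o, .w, .o, .z, .z, .z, .w, .w⟩),
  (183829, ⟨.o, .z, .z, .v, .o, .z, .z, .o, .o⟩),
  (183849, ⟨.o, .z, .z, .o, .o, .w, .z, .w, .w⟩),
  (183869, ⟨.o, .z, .w, .o, .o, .z, .z, .w, .w⟩),
  (184618, ⟨.o, .w, .w, .z, .o, .z, .o, .v, .v⟩),
  (185495, ⟨.o, .z, .z, .o, .o, .z, .w, .o, .o⟩),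
  (187388, ⟨.o, .o, .z, .w, .v, .z, .w, .o, .o⟩),
  (187969, ⟨.o, .w, .z, .v, .z, .z, .w, .o, .o⟩),
  (188694, ⟨.o, .o, .z, .z, .o, .z, .v, .o, .o⟩),
  (189695, ⟨.o, .w, .z, .o, .v, .z, .v, .o, .o⟩),
  (191336, ⟨.o, .w, .z, .w, .w, .z, .v, .o, .o⟩),
  (192129, ⟨.o, .w, .z, .z, .o, .o, .v, .o, .o⟩),
  (192830, ⟨.o, .o, .w, .z, .o, .z, .w, .w, .w⟩),
  (193643, ⟨.o, .o, .w, .z, .o, .w, .w, .w, .w⟩),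
  (195476, ⟨.o, .z, .z, .w, .o, .z, .o, .o, .o⟩),
  (196289, ⟨.o, .o, .w, .o, .z, .z, .w, .w, .w⟩),
  (201011, ⟨.o, .z, .v, .z, .o, .z, .o, .z, .w⟩),
  (202227, ⟨.o, .w, .z, .o, .v, .z, .v, .z, .o⟩),
  (203123, ⟨.o, .z, .v, .o, .o, .v, .o, .z, .w⟩),
  (204211, ⟨.o, .z, .v, .w, .o, .o, .o, .z, .w⟩),
  (205091, ⟨.v, .z, .o, .z, .o, .z, .v, .z, .v⟩),
  (206179, ⟨.o, .v, .z, .o, .w, .z, .o, .z, .o⟩),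
  (207267, ⟨.o, .w, .z, .w, .w, .z, .o, .z, .o⟩),
  (208355, ⟨.o, .o, .z, .v, .w, .z, .o, .z, .o⟩),
  (209171, ⟨.o, .z, .z, .z, .o, .z, .w, .z, .o⟩),
  (210323, ⟨.o, .z, .z, .o, .o, .z, .w, .z, .o⟩),
  (211411, ⟨.o, .z, .z, .w, .o, .z, .w, .z, .o⟩),
  (212307, ⟨.o, .z, .z, .z, .o, .w, .w, .z, .o⟩),
  (216833, ⟨.o, .z, .w, .w, .o, .w, .z, .w, .v⟩),
  (216861, ⟨.o, .z, .z, .v, .o, .z, .z, .v, .o⟩),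
  (216869, ⟨.o, .z, .z, .o, .o, .v, .z, .o, .w⟩),
  (216889, ⟨.o, .z, .z, .w, .o, .o, .z, .w, .v⟩),
  (217403, ⟨.w, .w, .z, .z, .v, .z, .v, .v, .o⟩),
  (218852, ⟨.w, .w, .z, .o, .w, .z, .v, .v, .o⟩),
  (219230, ⟨.w, .w, .z, .w, .o, .z, .v, .v, .o⟩),
  (221057, ⟨.o, .w, .z, .v, .z, .z, .v, .v, .o⟩),
  (221479, ⟨.v, .w, .z, .z, .w, .z, .o, .v, .o⟩),
  (222812, ⟨.v, .w, .z, .o, .o, .z, .o, .v, .o⟩),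
  (223418, ⟨.v, .w, .z, .w, .v, .z, .o, .v, .o⟩),
  (225217, ⟨.o, .w, .z, .v, .z, .z, .o, .v, .o⟩),
  (225567, ⟨.o, .w, .z, .z, .o, .z, .w, .v, .o⟩),
  (227000, ⟨.o, .w, .z, .o, .v, .z, .w, .v, .o⟩),
  (227558, ⟨.o, .w, .z, .w, .w, .z, .w, .v, .o⟩),
  (229185, ⟨.o, .w, .z, .z, .o, .w, .w, .v, .o⟩),
  (232193, ⟨.o, .v, .z, .w, .z, .z, .z, .o, .o⟩),
  (232213, ⟨.o, .z, .z, .w, .o, .z, .z, .o, .o⟩),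
  (232233, ⟨.o, .w, .z, .w, .w, .z, .z, .o, .o⟩),
  (232253, ⟨.o, .o, .z, .w, .v, .z, .z, .o, .o⟩),
  (233791, ⟨.o, .w, .v, .w, .w, .v, .o, .w, .w⟩),
  (234710, ⟨.o, .z, .z, .o, .o, .z, .v, .o, .o⟩),
  (236353, ⟨.o, .w, .v, .z, .o, .o, .o, .w, .w⟩),
  (237224, ⟨.o, .w, .v, .z, .o, .w, .o, .w, .w⟩),
  (237867, ⟨.o, .z, .z, .w, .o, .w, .w, .w, .w⟩),
  (238718, ⟨.o, .w, .z, .o, .v, .z, .o, .o, .o⟩),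
  (240513, ⟨.o, .v, .z, .w, .z, .z, .o, .o, .o⟩),
  (241364, ⟨.o, .z, .z, .v, .o, .z, .o, .o, .o⟩),
  (241943, ⟨.o, .z, .z, .z, .o, .z, .w, .o, .o⟩),
  (242858, ⟨.o, .v, .z, .o, .w, .z, .w, .o, .o⟩),
  (244673, ⟨.o, .v, .z, .w, .z, .z, .w, .o, .o⟩),
  (245372, ⟨.v, .o, .z, .v, .v, .z, .w, .o, .o⟩),
  (247553, ⟨.o, .o, .z, .o, .z, .z, .z, .w, .o⟩),
  (247577, ⟨.o, .z, .z, .o, .o, .z, .z, .w, .o⟩),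
  (247597, ⟨.o, .z, .w, .o, .o, .w, .z, .w, .o⟩),
  (247605, ⟨.o, .w, .z, .o, .v, .z, .z, .w, .o⟩),
  (250167, ⟨.w, .w, .z, .z, .v, .z, .v, .w, .o⟩),
  (251841, ⟨.v, .o, .z, .o, .z, .z, .v, .w, .o⟩),
  (252524, ⟨.o, .z, .w, .v, .o, .w, .v, .w, .o⟩),
  (253082, ⟨.o, .z, .z, .v, .o, .z, .v, .w, .o⟩),
  (254255, ⟨.v, .o, .o, .z, .o, .z, .v, .o, .v⟩),
  (255809, ⟨.o, .o, .z, .o, .z, .z, .o, .w, .o⟩),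
  (256664, ⟨.o, .z, .z, .w, .o, .z, .o, .w, .o⟩),
  (257270, ⟨.v, .o, .z, .v, .v, .z, .o, .w, .o⟩),
  (258331, ⟨.o, .o, .z, .z, .o, .z, .w, .w, .o⟩),
  (259969, ⟨.o, .o, .z, .o, .z, .z, .w, .w, .o⟩),
  (260852, ⟨.o, .o, .z, .w, .v, .z, .w, .w, .o⟩),
  (261230, ⟨.o, .o, .z, .z, .o, .w, .w, .w, .o⟩)]

set_option maxRecDepth 100000 in
theorem cert_mask : invMask X0 = certMask cert := by decide +kernel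

set_option maxRecDepth 100000 in
theorem cert_ok : cert.all (fun p => decide (p.2.det = 1) &&
    decide (p.2.mul (M9.ofCode p.1) = A0.mul p.2)) = true := by decide +kernel

theorem conj_A0 (x : M9) (h1 : x.mul x = M9.one) (h2 : x ≠ M9.one) :
    ∃ G : M9, G.det = 1 ∧ G.mul x = A0.mul G := by
  have hm : M9.code x < NN := M9.code_lt x
  have hget : X0.get (M9.code x) = x := X0_get_code x
  have hbit : (invMask X0).testBit (M9.code x) = true := by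
    simp only [invMask, Nat.testBit_and, Nat.testBit_xor, testBit_isOneMask hm, testBit_ones hm,
      PM9.get_mul, hget, h1, h2, decide_true, decide_false, Bool.true_xor, Bool.not_false,
      Bool.and_self]
  rw [cert_mask] at hbit
  obtain ⟨p, hp, hpm⟩ := testBit_certMask _ _ hbit
  have hok := List.all_eq_true.1 cert_ok p hp
  rw [Bool.and_eq_true, decide_eq_true_eq, decide_eq_true_eq, hpm, M9.ofCode_code] at hok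
  exact ⟨p.2, hok.1, hok.2⟩

theorem det_scalar_three (r : F4) : (Matrix.scalar (Fin 3) r).det = r ^ 3 := by
  simp [pow_succ]

/-- The standard involution in the special linear group. -/
def A0sl : Matrix.SpecialLinearGroup (Fin 3) F4 := ⟨A0.toMat, by rw [M9.det_toMat]; rfl⟩

/-- Every involution of `PSL_3(4)` is conjugate to the standard one, over the model of the
field. -/
theorem conj_std (x : Matrix.ProjectiveSpecialLinearGroup (Fin 3) F4) (hx : orderOf x = 2) :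
    IsConj x (QuotientGroup.mk A0sl) := by
  obtain ⟨A, rfl⟩ := QuotientGroup.mk_surjective x
  have h2 : (QuotientGroup.mk A : Matrix.ProjectiveSpecialLinearGroup (Fin 3) F4) ^ 2 = 1 := by
    rw [← hx]; exact pow_orderOf_eq_one _
  have hne : (QuotientGroup.mk A : Matrix.ProjectiveSpecialLinearGroup (Fin 3) F4) ≠ 1 := by
    intro h
    rw [h, orderOf_one] at hx
    norm_num at hx
  rw [← QuotientGroup.mk_pow, QuotientGroup.eq_one_iff,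
    Matrix.SpecialLinearGroup.mem_center_iff] at h2
  obtain ⟨r, hr3, hr⟩ := h2
  have hr3' : r ^ 3 = 1 := by simpa using hr3
  let Z : Matrix.SpecialLinearGroup (Fin 3) F4 :=
    ⟨Matrix.scalar (Fin 3) r, by rw [det_scalar_three, hr3']⟩
  have hZ : Z ∈ Subgroup.center (Matrix.SpecialLinearGroup (Fin 3) F4) :=
    Matrix.SpecialLinearGroup.mem_center_iff.2 ⟨r, hr3, rfl⟩
  have hmk : (QuotientGroup.mk (Z * A) : Matrix.ProjectiveSpecialLinearGroup (Fin 3) F4) =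
      QuotientGroup.mk A := by
    rw [QuotientGroup.mk_mul, (QuotientGroup.eq_one_iff Z).2 hZ, one_mul]
  have hA2 : A.1 * A.1 = r • (1 : Matrix (Fin 3) (Fin 3) F4) := by
    have : (A ^ 2).1 = A.1 * A.1 := by rw [pow_two]; rfl
    rw [← this, ← hr, Matrix.scalar_apply, Matrix.smul_one_eq_diagonal]
  have hZA : (Z * A).1 = r • A.1 := by
    show Matrix.scalar (Fin 3) r * A.1 = r • A.1
    rw [Matrix.scalar_apply, Matrix.smul_eq_diagonal_mul]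
  have hsq : (Z * A).1 * (Z * A).1 = 1 := by
    rw [hZA, Matrix.smul_mul, Matrix.mul_smul, hA2, smul_smul, smul_smul, ← pow_two, ← pow_succ,
      hr3', one_smul]
  set x := M9.ofMat (Z * A).1 with hxdef
  have hxm : x.toMat = (Z * A).1 := M9.toMat_ofMat _
  have h1 : x.mul x = M9.one := by
    apply M9.toMat_injective
    rw [M9.toMat_mul, hxm, hsq, M9.toMat_one]
  have h2 : x ≠ M9.one := by
    intro h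
    apply hne
    rw [← hmk]
    have : Z * A = 1 := by
      apply Subtype.ext
      rw [← hxm, h, M9.toMat_one]
      rfl
    rw [this]
    rfl
  obtain ⟨G, hGdet, hG⟩ := conj_A0 x h1 h2
  let Gsl : Matrix.SpecialLinearGroup (Fin 3) F4 := ⟨G.toMat, by rw [M9.det_toMat]; exact hGdet⟩
  have hconj : Gsl * (Z * A) = A0sl * Gsl := by
    apply Subtype.ext
    show G.toMat * (Z * A).1 = A0.toMat * G.toMat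
    rw [← hxm, ← M9.toMat_mul, ← M9.toMat_mul, hG]
  rw [← hmk, isConj_iff]
  refine ⟨QuotientGroup.mk Gsl, ?_⟩
  rw [← QuotientGroup.mk_mul, hconj, QuotientGroup.mk_mul, mul_inv_cancel_right]

/-- Any two elements of order 2 of PSL_3(4) are conjugate. -/
theorem result {F : Type*} [Field F] [Fintype F] (hF : Fintype.card F = 4) (x y : Matrix.ProjectiveSpecialLinearGroup (Fin 3) F) (hx : orderOf x = 2) (hy : orderOf y = 2) : IsConj x y := by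
  have φ : F ≃+* F4 := FiniteField.ringEquivOfCardEq (by rw [hF, F4.card])
  have h1 := conj_std (SLTransfer.pslEquiv φ x) (by rw [MulEquiv.orderOf_eq]; exact hx)
  have h2 := conj_std (SLTransfer.pslEquiv φ y) (by rw [MulEquiv.orderOf_eq]; exact hy)
  have h := h1.trans h2.symm
  have h' := (SLTransfer.pslEquiv (n := Fin 3) φ).symm.toMonoidHom.map_isConj h
  simpa using h'

end Cfsg.Agent.S0820
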