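import Mathlib
import Cfsg.Statements.S0821
import Cfsg.Agent.Helper8.BCIsoB
import Cfsg.Agent.Helper8.AutOzd
import Cfsg.Agent.Helper8.OmegaStd2

set_option autoImplicit false
open Cfsg

namespace Cfsg.Agent.S0821

open Module Cfsg.Agent.Helper8.QuadForm Cfsg.Agent.Helper8.StdForms Cfsg.Agent.Helper8.BCIso

/-- PSp_2m(q) ≇ PΩ_(2m+1)(q) for q odd and m ≥ 3 (they have the same order). -/
theorem result {F : Type*} [Field F] [Fintype F] (hodd : Odd (Fintype.card F)) (m : ℕ) (hm : 3 ≤ m) : IsEmpty (Cfsg.PSp m F ≃* Cfsg.POmega F (Cfsg.quadFormOdd m F)) := by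
  classical
  have h2 : (2 : F) ≠ 0 := Cfsg.Agent.Helper8.OmegaStd.two_ne_zero_of_odd hodd
  have e : ⇑(oddForm F m) = Cfsg.quadFormOdd m F := funext (oddForm_apply F m)
  rw [← e]
  refine ⟨fun φ => ?_⟩
  have hc : CharP F (ringChar F) := ringChar.charP F
  have hp : Fact (ringChar F).Prime := ⟨CharP.char_is_prime F _⟩
  have hcard : Fintype.card (Unit ⊕ (Fin m ⊕ Fin m)) = 2 * m + 1 := by
    simp only [Fintype.card_sum, Fintype.card_unique, Fintype.card_fin]; ring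
  have hQ := oddForm_nondeg F m h2
  have h5 : 5 ≤ Fintype.card (Unit ⊕ (Fin m ⊕ Fin m)) := by rw [hcard]; omega
  have hH : HeisProp (ringChar F) (Cfsg.Agent.Helper8.AutO.PG (oddForm F m)) :=
    heisProp_PG ((nondeg_iff _).mp hQ) (by rw [finrank_odd]; omega) (ringChar F)
      (Cfsg.Agent.Helper8.OmegaStd2.odd_isHyp F m)
      (i := ⟨0, by omega⟩) (j := ⟨1, by omega⟩) (l := ⟨2, by omega⟩)
      (by simp [Fin.ext_iff]) (by simp [Fin.ext_iff]) (by simp [Fin.ext_iff])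
  have h3 := HeisProp.of_equiv
    (φ.trans (Cfsg.Agent.Helper8.AutO.EPG (oddForm F m) hQ h5)).symm hH
  exact not_heisProp_PSp (ringChar F) h2 (by omega) h3

end Cfsg.Agent.S0821
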