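import Mathlib
import Cfsg.Statements.S0823
import Cfsg.Agent.Helper7.IsomTransfer
import Cfsg.Agent.Helper7.SO33Data

set_option autoImplicit false
open Cfsg

namespace Cfsg.Agent.S0823

open Matrix Cfsg.Agent.Helper7.SO33 Cfsg.Agent.Helper7.IsomTransfer

/-- The special orthogonal group over `ZMod 3`. -/
abbrev G := ↥(specialIsometryGroup (ZMod 3) (quadFormOdd 1 (ZMod 3)))

/-- The underlying matrix. -/
def mat (g : G) : Matrix I3 I3 (ZMod 3) := g.1.1.1

theorem mat_mul (g h : G) : mat (g * h) = mat g * mat h := rfl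
theorem mat_one : mat 1 = 1 := rfl
theorem mat_iso (g : G) (v : V3) : Q3 (mat g *ᵥ v) = Q3 v := g.1.2 v v
theorem mat_det (g : G) : (mat g).det = 1 := (mem_special_iff _ g.1).mp g.2

theorem mat_inv_mulVec (g : G) (v : V3) : mat g⁻¹ *ᵥ (mat g *ᵥ v) = v := by
  rw [Matrix.mulVec_mulVec, ← mat_mul, inv_mul_cancel, mat_one, Matrix.one_mulVec]

theorem mat_injective {g h : G} (e : mat g = mat h) : g = h :=
  Subtype.ext (Subtype.ext (Units.ext e))

/-- The four singular points. -/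
abbrev X4 := {v : V3 // IsNrm v}

set_option maxRecDepth 1000000 in
theorem card_X4 : Fintype.card X4 = 4 := by
  decide +kernel

theorem mulVec_ne (g : G) (x : X4) : mat g *ᵥ x.1 ≠ 0 := by
  intro h
  have h2 := mat_inv_mulVec g x.1
  rw [h, Matrix.mulVec_zero] at h2
  exact x.2.1 h2.symm

theorem smul_isNrm (g : G) (x : X4) : IsNrm (nrm (mat g *ᵥ x.1)) :=
  isNrm_nrm _ ⟨mulVec_ne g x, by rw [mat_iso]; exact x.2.2.1⟩

instance actX : MulAction G X4 where
  smul g x := ⟨nrm (mat g *ᵥ x.1), smul_isNrm g x⟩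
  one_smul x := by
    apply Subtype.ext
    show nrm (mat 1 *ᵥ x.1) = x.1
    rw [mat_one, Matrix.one_mulVec, nrm_self _ x.2]
  mul_smul g h x := by
    apply Subtype.ext
    show nrm (mat (g * h) *ᵥ x.1) = nrm (mat g *ᵥ nrm (mat h *ᵥ x.1))
    rw [mat_mul, ← Matrix.mulVec_mulVec]
    show _ = nrm (mat g *ᵥ (lead (mat h *ᵥ x.1) • (mat h *ᵥ x.1)))
    rw [Matrix.mulVec_smul, nrm_smul _ _ (lead_ne _ (mulVec_ne h x))]

theorem smul_val (g : G) (x : X4) : (g • x).1 = nrm (mat g *ᵥ x.1) := rfl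

/-- The permutation representation. -/
def rho : G →* Equiv.Perm X4 := MulAction.toPermHom G X4

theorem rho_apply (g : G) (x : X4) : rho g x = g • x := rfl

theorem mk9_eta (M : Matrix I3 I3 (ZMod 3)) :
    M = mk9 (M (.inl ()) (.inl ())) (M (.inl ()) (.inr (.inl 0))) (M (.inl ()) (.inr (.inr 0)))
      (M (.inr (.inl 0)) (.inl ())) (M (.inr (.inl 0)) (.inr (.inl 0)))
      (M (.inr (.inl 0)) (.inr (.inr 0)))
      (M (.inr (.inr 0)) (.inl ())) (M (.inr (.inr 0)) (.inr (.inl 0)))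
      (M (.inr (.inr 0)) (.inr (.inr 0))) := by
  ext r s
  rcases r with _ | r | r <;> rcases s with _ | s | s <;> (try fin_cases r) <;>
    (try fin_cases s) <;> rfl

theorem rho_injective : Function.Injective rho := by
  rw [injective_iff_map_eq_one]
  intro g hg
  have hfix : ∀ x : X4, nrm (mat g *ᵥ x.1) = x.1 := by
    intro x
    have := congrArg (fun σ : Equiv.Perm X4 => (σ x).1) hg
    simpa [rho_apply, smul_val] using this
  apply mat_injective
  rw [mat_one]
  have h1 := hfix ⟨x1, isNrm_x.1⟩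
  have h2 := hfix ⟨x2, isNrm_x.2.1⟩
  have h3 := hfix ⟨x3, isNrm_x.2.2.1⟩
  have h4 := hfix ⟨x4, isNrm_x.2.2.2⟩
  have hd := mat_det g
  rw [mk9_eta (mat g)] at h1 h2 h3 h4 hd ⊢
  exact ker_aux _ _ _ _ _ _ _ _ _ ⟨h1, h2, h3, h4, hd⟩

theorem hyp2 (s t : X4) (hst : s ≠ t) : IsNrm s.1 ∧ IsNrm t.1 ∧ s.1 ≠ t.1 :=
  ⟨s.2, t.2, fun h => hst (Subtype.ext h)⟩

/-- The half-turn as an element of the group. -/
def halfTurn (s t : X4) (hst : s ≠ t) : G :=
  ⟨⟨⟨T s.1 t.1, T s.1 t.1, T_mul_self _ _ (hyp2 s t hst), T_mul_self _ _ (hyp2 s t hst)⟩,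
    fun u _ => T_iso s.1 t.1 u (hyp2 s t hst)⟩,
    (mem_special_iff _ _).mpr (T_det _ _ (hyp2 s t hst))⟩

theorem mat_halfTurn (s t : X4) (hst : s ≠ t) : mat (halfTurn s t hst) = T s.1 t.1 := rfl

theorem halfTurn_smul (s t : X4) (hst : s ≠ t) (x : X4) :
    halfTurn s t hst • x = Equiv.swap s t x := by
  apply Subtype.ext
  rw [smul_val, mat_halfTurn, T_act s.1 t.1 x.1 ⟨s.2, t.2, x.2, fun h => hst (Subtype.ext h)⟩]
  unfold sw
  by_cases hxs : x = s
  · subst hxs
    rw [if_pos rfl, Equiv.swap_apply_left]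
  · by_cases hxt : x = t
    · subst hxt
      rw [if_neg (fun h => hxs (Subtype.ext h)), if_pos rfl, Equiv.swap_apply_right]
    · rw [if_neg (fun h => hxs (Subtype.ext h)), if_neg (fun h => hxt (Subtype.ext h)),
        Equiv.swap_apply_of_ne_of_ne hxs hxt]

theorem rho_surjective : Function.Surjective rho := by
  rw [← MonoidHom.range_eq_top, eq_top_iff, ← Equiv.Perm.closure_isSwap, Subgroup.closure_le]
  rintro σ ⟨s, t, hst, rfl⟩
  refine ⟨halfTurn s t hst, ?_⟩
  ext x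
  rw [rho_apply, halfTurn_smul s t hst x]

theorem main : Nonempty (G ≃* Equiv.Perm (Fin 4)) := by
  have e1 : G ≃* Equiv.Perm X4 := MulEquiv.ofBijective rho ⟨rho_injective, rho_surjective⟩
  have e2 : X4 ≃ Fin 4 := Fintype.equivFinOfCardEq card_X4
  exact ⟨e1.trans e2.permCongrHom⟩

/-- SO_3(3) ≅ S_4: the determinant-one isometries of the form x_0² + x_1y_1 over the field with 3 elements form a group isomorphic to the symmetric group on 4 letters. -/
theorem result {F : Type*} [Field F] [Fintype F] (hF : Fintype.card F = 3) : Nonempty (↥(Cfsg.specialIsometryGroup F (Cfsg.quadFormOdd 1 F)) ≃* Equiv.Perm (Fin 4)) := by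
  have φ : F ≃+* ZMod 3 := (ZMod.ringEquivOfPrime F Nat.prime_three hF).symm
  obtain ⟨e⟩ := special_equiv φ (quadFormOdd 1 F) (quadFormOdd 1 (ZMod 3)) (by
    intro v
    simp [quadFormOdd, map_add, map_mul, map_pow])
  obtain ⟨e2⟩ := main
  exact ⟨e.trans e2⟩

end Cfsg.Agent.S0823
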