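import Mathlib
import Cfsg.Statements.S0825
import Cfsg.Agent.Helper7.IsomTransfer
import Cfsg.Agent.Helper7.SymSp
import Cfsg.Agent.S0287

set_option autoImplicit false
open Cfsg

namespace Cfsg.Agent.S0825

open Matrix Cfsg.Agent.Helper7.SymSp

/-- The index type. -/
abbrev I6 := Fin 3 ⊕ Fin 3
/-- The vectors over the field with two elements. -/
abbrev V6 := I6 → ZMod 2

instance charP2 : CharP (ZMod 2) 2 := ZMod.charP 2

/-- The quadratic form over `ZMod 2`. -/
def Q6 : V6 → ZMod 2 := quadFormPlus 3 (ZMod 2)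

/-- A change of basis from the hyperbolic basis to the symplectic basis of the even-weight vectors. -/
def P : Matrix I6 I6 (ZMod 2) :=
  Matrix.fromBlocks (Matrix.of ![![0, 0, 1], ![1, 1, 1], ![1, 1, 0]]) (Matrix.of ![![1, 0, 1], ![1, 1, 0], ![1, 0, 1]])
    (Matrix.of ![![1, 0, 0], ![1, 0, 0], ![1, 0, 0]]) (Matrix.of ![![1, 0, 0], ![1, 0, 1], ![1, 1, 1]])

/-- The inverse change of basis. -/
def Pinv : Matrix I6 I6 (ZMod 2) :=
  Matrix.fromBlocks (Matrix.of ![![1, 1, 1], ![0, 0, 1], ![0, 1, 1]]) (Matrix.of ![![1, 1, 1], ![0, 1, 0], ![1, 0, 1]])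
    (Matrix.of ![![1, 1, 1], ![0, 0, 0], ![0, 0, 0]]) (Matrix.of ![![0, 1, 1], ![0, 1, 1], ![1, 1, 0]])

set_option maxRecDepth 1000000 in
theorem P_mul_Pinv : P * Pinv = 1 := by decide +kernel

set_option maxRecDepth 1000000 in
theorem Pinv_mul_P : Pinv * P = 1 := by decide +kernel

/-- The symmetric group on eight letters. -/
abbrev S8 := Equiv.Perm (Fin (2 * 3 + 2))

/-- The representation as matrices. -/
def psi0 : S8 →* Matrix I6 I6 (ZMod 2) where
  toFun σ := Pinv * M (ZMod 2) 3 σ * P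
  map_one' := by rw [M_one, Matrix.mul_one, Pinv_mul_P]
  map_mul' σ τ := by
    rw [M_mul]
    calc Pinv * (M (ZMod 2) 3 σ * M (ZMod 2) 3 τ) * P
        = Pinv * M (ZMod 2) 3 σ * 1 * M (ZMod 2) 3 τ * P := by
          simp only [Matrix.mul_one, Matrix.mul_assoc]
      _ = Pinv * M (ZMod 2) 3 σ * P * (Pinv * M (ZMod 2) 3 τ * P) := by
          rw [← P_mul_Pinv]
          simp only [Matrix.mul_assoc]

theorem psi0_apply (σ : S8) : psi0 σ = Pinv * M (ZMod 2) 3 σ * P := rfl

/-- The representation in the general linear group. -/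
def psi : S8 →* Matrix.GeneralLinearGroup I6 (ZMod 2) := psi0.toHomUnits

theorem psi_val (σ : S8) : (psi σ).1 = Pinv * M (ZMod 2) 3 σ * P := rfl

theorem psi_injective : Function.Injective psi := by
  intro σ τ h
  have h1 : Pinv * M (ZMod 2) 3 σ * P = Pinv * M (ZMod 2) 3 τ * P := by
    rw [← psi_val, ← psi_val, h]
  have h2 : M (ZMod 2) 3 σ = M (ZMod 2) 3 τ := by
    have : P * (Pinv * M (ZMod 2) 3 σ * P) * Pinv = P * (Pinv * M (ZMod 2) 3 τ * P) * Pinv := by
      rw [h1]
    rw [← Matrix.mul_assoc, ← Matrix.mul_assoc, P_mul_Pinv, Matrix.one_mul, Matrix.mul_assoc,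
      P_mul_Pinv, Matrix.mul_one] at this
    rw [← Matrix.mul_assoc, ← Matrix.mul_assoc, P_mul_Pinv, Matrix.one_mul, Matrix.mul_assoc,
      P_mul_Pinv, Matrix.mul_one] at this
    exact this
  apply symHom_injective (F := ZMod 2) 3 (by norm_num)
  exact Subtype.ext h2

/-- The isometry group over `ZMod 2`. -/
abbrev H := isometryGroup (ZMod 2) (quadFormPlus 3 (ZMod 2))

theorem mem_iff (g : Matrix.GeneralLinearGroup I6 (ZMod 2)) :
    g ∈ H ↔ ∀ v : V6, Q6 (g.1 *ᵥ v) = Q6 v := by
  constructor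
  · intro h v; exact h v v
  · intro h u v; exact h u

/-- The rotation. -/
def rot : S8 := finRotate (2 * 3 + 2)

/-- The transposition. -/
def tr : S8 := Equiv.swap 0 (rot 0)

/-- The action of a permutation on the hyperbolic coordinates. -/
def act (σ : S8) (x : V6) : V6 := Pinv *ᵥ proj 3 (iota 3 (P *ᵥ x) ∘ ⇑σ⁻¹)

theorem psi_mulVec (σ : S8) (x : V6) : (psi σ).1 *ᵥ x = act σ x := by
  rw [psi_val, ← Matrix.mulVec_mulVec, ← Matrix.mulVec_mulVec, M_mulVec]
  rfl

set_option maxRecDepth 1000000 in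
theorem act_rot : ∀ x : V6, Q6 (act rot x) = Q6 x := by decide +kernel

set_option maxRecDepth 1000000 in
theorem act_tr : ∀ x : V6, Q6 (act tr x) = Q6 x := by decide +kernel

theorem closure_gens : Subgroup.closure ({rot, tr} : Set S8) = ⊤ := by
  apply Equiv.Perm.closure_cycle_adjacent_swap
  · exact isCycle_finRotate
  · exact support_finRotate

theorem range_le : psi.range ≤ H := by
  rw [MonoidHom.range_eq_map, ← closure_gens, MonoidHom.map_closure, Subgroup.closure_le]
  rintro g ⟨σ, hσ, rfl⟩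
  rw [SetLike.mem_coe, mem_iff]
  intro v
  rw [psi_mulVec]
  rcases hσ with rfl | rfl
  · exact act_rot v
  · exact act_tr v

/-- The representation in the isometry group. -/
def psiH : S8 →* H := psi.codRestrict H (fun σ => range_le ⟨σ, rfl⟩)

theorem psiH_injective : Function.Injective psiH := by
  intro σ τ h
  apply psi_injective
  exact congrArg Subtype.val h

theorem card_H : Nat.card H = 40320 := by
  have h := Cfsg.Agent.S0287.result (F := ZMod 2) (q := 2) (ZMod.card 2) 3 (by norm_num)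
  rw [h]
  simp [Finset.prod_range_succ]

theorem card_S8 : Nat.card S8 = 40320 := by
  rw [Nat.card_perm, Nat.card_eq_fintype_card, Fintype.card_fin]
  rfl

theorem main2 : Nonempty (H ≃* Equiv.Perm (Fin 8)) := by
  have : Finite H := Nat.finite_of_card_ne_zero (by rw [card_H]; norm_num)
  have hbij : Function.Bijective psiH :=
    (Nat.bijective_iff_injective_and_card psiH).mpr ⟨psiH_injective, by rw [card_H, card_S8]⟩
  have e1 : S8 ≃* H := MulEquiv.ofBijective psiH hbij
  have e2 : Fin (2 * 3 + 2) ≃ Fin 8 := finCongr (by norm_num)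
  exact ⟨e1.symm.trans e2.permCongrHom⟩

/-- O⁺_6(2) ≅ S_8: the isometry group of the hyperbolic form x_1y_1 + x_2y_2 + x_3y_3 over the field with 2 elements is isomorphic to the symmetric group on 8 letters. -/
theorem result {F : Type*} [Field F] [Fintype F] (hF : Fintype.card F = 2) : Nonempty (↥(Cfsg.isometryGroup F (Cfsg.quadFormPlus 3 F)) ≃* Equiv.Perm (Fin 8)) := by
  have φ : F ≃+* ZMod 2 := (ZMod.ringEquivOfPrime F Nat.prime_two hF).symm
  obtain ⟨e⟩ := Helper7.IsomTransfer.isometryGroup_equiv φ (quadFormPlus 3 F)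
    (quadFormPlus 3 (ZMod 2)) (by
      intro v
      simp [quadFormPlus, map_sum, map_mul])
  obtain ⟨e2⟩ := main2
  exact ⟨e.trans e2⟩

end Cfsg.Agent.S0825
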