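import Cfsg.Statements.S0828
import Cfsg.Agent.Helper7.SympTransitive
import Mathlib

set_option autoImplicit false
open Cfsg

namespace Cfsg.Agent.S0828

open Module Cfsg.Agent.Helper7.Symp

variable {F : Type*} [Field F] {m : ℕ}

/-- `w ↦ B(v, w)` as a linear map. -/
def BL (v : Fin m ⊕ Fin m → F) : (Fin m ⊕ Fin m → F) →ₗ[F] F where
  toFun w := sympForm m F v w
  map_add' := sympForm_add_right v
  map_smul' c w := sympForm_smul_right c v w

theorem BL_apply (v w : Fin m ⊕ Fin m → F) : BL v w = sympForm m F v w := rfl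

theorem card_ker_BL [Fintype F] {v : Fin m ⊕ Fin m → F} (hv : v ≠ 0) :
    Nat.card (LinearMap.ker (BL v)) = Fintype.card F ^ (2 * m - 1) := by
  classical
  have hsurj : Function.Surjective (BL v) := by
    obtain ⟨y, hy⟩ := exists_sympForm_ne_zero hv
    intro c
    refine ⟨(c / sympForm m F v y) • y, ?_⟩
    rw [map_smul, BL_apply, smul_eq_mul, div_mul_cancel₀ _ hy]
  have h1 := LinearMap.finrank_range_add_finrank_ker (BL v)
  rw [LinearMap.range_eq_top.mpr hsurj, finrank_top, Module.finrank_self,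
    Module.finrank_fintype_fun_eq_card, Fintype.card_sum, Fintype.card_fin] at h1
  rw [Nat.card_eq_fintype_card, Module.card_eq_pow_finrank (K := F)]
  congr 1
  omega

theorem card_diff {V : Type*} [AddCommGroup V] [Module F V] [Finite V] (S T : Submodule F V)
    (h : S ≤ T) : Nat.card {w : V // w ∈ T ∧ w ∉ S} + Nat.card S = Nat.card T := by
  have h1 : Nat.card {w : V // w ∈ T ∧ w ∉ S} = ((T : Set V) \ (S : Set V)).ncard := by
    rw [← Nat.card_coe_set_eq]
    rfl
  have h2 : Nat.card S = (S : Set V).ncard := by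
    rw [← Nat.card_coe_set_eq]
    rfl
  have h3 : Nat.card T = (T : Set V).ncard := by
    rw [← Nat.card_coe_set_eq]
    rfl
  rw [h1, h2, h3]
  exact Set.ncard_sdiff_add_ncard_of_subset h (Set.toFinite _)

theorem card_submodule [Fintype F] {V : Type*} [AddCommGroup V] [Module F V] [Finite V]
    (W : Submodule F V) {k : ℕ} (hk : finrank F W = k) : Nat.card W = Fintype.card F ^ k := by
  classical
  have : Fintype W := Fintype.ofFinite _
  rw [Nat.card_eq_fintype_card, Module.card_eq_pow_finrank (K := F), hk]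

/-- the totally isotropic planes through `v`. -/
abbrev LinesV (v : Fin m ⊕ Fin m → F) :=
  {W : Submodule F (Fin m ⊕ Fin m → F) // finrank F W = 2 ∧ v ∈ W ∧
    ∀ u ∈ W, ∀ w ∈ W, sympForm m F u w = 0}

/-- the vectors orthogonal to `v` outside its span. -/
abbrev XV (v : Fin m ⊕ Fin m → F) :=
  {w : Fin m ⊕ Fin m → F // w ∈ LinearMap.ker (BL v) ∧ w ∉ Submodule.span F {v}}

theorem finrank_span_pair {v w : Fin m ⊕ Fin m → F} (hv : v ≠ 0)
    (hw : w ∉ Submodule.span F {v}) : finrank F (Submodule.span F {v, w}) = 2 := by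
  have hli : LinearIndependent F ![v, w] := by
    rw [LinearIndependent.pair_iff' hv]
    intro a ha
    exact hw (Submodule.mem_span_singleton.mpr ⟨a, ha⟩)
  have h1 := finrank_span_eq_card hli
  have h2 : Set.range ![v, w] = {v, w} := by
    ext x
    simp only [Set.mem_range, Set.mem_insert_iff, Set.mem_singleton_iff]
    constructor
    · rintro ⟨i, rfl⟩
      fin_cases i
      · left; rfl
      · right; rfl
    · rintro (rfl | rfl)
      · exact ⟨0, rfl⟩
      · exact ⟨1, rfl⟩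
  rw [h2] at h1
  rw [h1, Fintype.card_fin]

theorem ti_span_pair {v w : Fin m ⊕ Fin m → F} (hvw : sympForm m F v w = 0) :
    ∀ a ∈ Submodule.span F {v, w}, ∀ b ∈ Submodule.span F {v, w}, sympForm m F a b = 0 := by
  intro a ha b hb
  rw [Submodule.mem_span_pair] at ha hb
  obtain ⟨a1, a2, rfl⟩ := ha
  obtain ⟨b1, b2, rfl⟩ := hb
  have hwv : sympForm m F w v = 0 := by rw [sympForm_swap, hvw, neg_zero]
  simp only [sympForm_add_left, sympForm_add_right, sympForm_smul_left, sympForm_smul_right,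
    sympForm_self, hvw, hwv, mul_zero, add_zero]

/-- the plane spanned by `v` and `w`. -/
def psi {v : Fin m ⊕ Fin m → F} (hv : v ≠ 0) (w : XV v) : LinesV v :=
  ⟨Submodule.span F {v, w.1}, finrank_span_pair hv w.2.2,
    Submodule.subset_span (Set.mem_insert _ _), ti_span_pair w.2.1⟩

/-- the fibres of `psi`. -/
def fiberEquiv {v : Fin m ⊕ Fin m → F} (hv : v ≠ 0) (W : LinesV v) :
    {x : XV v // psi hv x = W} ≃
      {w : Fin m ⊕ Fin m → F // w ∈ W.1 ∧ w ∉ Submodule.span F {v}} where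
  toFun x := ⟨x.1.1, by
    have h := congrArg Subtype.val x.2
    change Submodule.span F {v, x.1.1} = W.1 at h
    rw [← h]
    exact Submodule.subset_span (Set.mem_insert_of_mem _ rfl), x.1.2.2⟩
  invFun w := ⟨⟨w.1, W.2.2.2 v W.2.2.1 w.1 w.2.1, w.2.2⟩, by
    apply Subtype.ext
    change Submodule.span F {v, w.1} = W.1
    have hle : Submodule.span F {v, w.1} ≤ W.1 := by
      rw [Submodule.span_le]
      rintro x (rfl | rfl)
      · exact W.2.2.1
      · exact w.2.1
    have : FiniteDimensional F W.1 := inferInstance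
    exact Submodule.eq_of_le_of_finrank_eq hle (by rw [finrank_span_pair hv w.2.2, W.2.1])⟩
  left_inv x := rfl
  right_inv w := rfl

theorem card_linesV [Fintype F] {v : Fin m ⊕ Fin m → F} (hv : v ≠ 0) :
    Nat.card (LinesV v) * (Fintype.card F ^ 2 - Fintype.card F)
      = Fintype.card F ^ (2 * m - 1) - Fintype.card F := by
  classical
  have hq : 2 ≤ Fintype.card F := Fintype.one_lt_card
  have hspan : Nat.card (Submodule.span F {v}) = Fintype.card F := by
    have h0 : finrank F (Submodule.span F {v}) = 1 := finrank_span_singleton hv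
    have h1 := card_submodule (Submodule.span F {v}) h0
    rw [h1, pow_one]
  have hX : Nat.card (XV v) + Fintype.card F = Fintype.card F ^ (2 * m - 1) := by
    rw [← card_ker_BL hv, ← hspan]
    apply card_diff
    rw [Submodule.span_singleton_le_iff_mem, LinearMap.mem_ker, BL_apply, sympForm_self]
  have : Fintype (LinesV v) := Fintype.ofFinite _
  have hfib : ∀ W : LinesV v, Nat.card {x : XV v // psi hv x = W}
      = Fintype.card F ^ 2 - Fintype.card F := by
    intro W
    rw [Nat.card_congr (fiberEquiv hv W)]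
    have h1 := card_diff (Submodule.span F {v}) W.1
      (by rw [Submodule.span_singleton_le_iff_mem]; exact W.2.2.1)
    rw [hspan, card_submodule W.1 W.2.1] at h1
    omega
  have h2 : Nat.card (XV v) = Nat.card (LinesV v) * (Fintype.card F ^ 2 - Fintype.card F) := by
    rw [Nat.card_congr (Equiv.sigmaFiberEquiv (psi hv)).symm, Nat.card_sigma]
    simp only [hfib, Finset.sum_const, Finset.card_univ, smul_eq_mul, Nat.card_eq_fintype_card]
  rw [← h2]
  omega

/-- all totally isotropic planes. -/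
abbrev Lines (m : ℕ) (F : Type*) [Field F] :=
  {W : Submodule F (Fin m ⊕ Fin m → F) // finrank F W = 2 ∧
    ∀ u ∈ W, ∀ w ∈ W, sympForm m F u w = 0}

/-- the incidence double count. -/
def flagEquiv (m : ℕ) (F : Type*) [Field F] :
    (Σ W : Lines m F, {v : Fin m ⊕ Fin m → F // v ∈ W.1 ∧ v ∉ (⊥ : Submodule F _)}) ≃
      Σ v : {v : Fin m ⊕ Fin m → F // v ∈ (⊤ : Submodule F _) ∧ v ∉ (⊥ : Submodule F _)},
        LinesV v.1 where
  toFun x := ⟨⟨x.2.1, Submodule.mem_top, x.2.2.2⟩, ⟨x.1.1, x.1.2.1, x.2.2.1, x.1.2.2⟩⟩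
  invFun y := ⟨⟨y.2.1, y.2.2.1, y.2.2.2.2⟩, ⟨y.1.1, y.2.2.2.1, y.1.2.2⟩⟩
  left_inv x := rfl
  right_inv y := rfl

theorem result {F : Type*} [Field F] [Fintype F] {q : ℕ} (hF : Fintype.card F = q) : Nat.card {W : Submodule F (Fin 2 ⊕ Fin 2 → F) // Module.finrank F W = 2 ∧ ∀ u ∈ W, ∀ v ∈ W, Cfsg.sympForm 2 F u v = 0} = (q + 1) * (q ^ 2 + 1) ∧ ∀ v : Fin 2 ⊕ Fin 2 → F, v ≠ 0 → Nat.card {W : Submodule F (Fin 2 ⊕ Fin 2 → F) // Module.finrank F W = 2 ∧ v ∈ W ∧ ∀ u ∈ W, ∀ w ∈ W, Cfsg.sympForm 2 F u w = 0} = q + 1 := by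
  classical
  have hq : 2 ≤ q := by rw [← hF]; exact Fintype.one_lt_card
  have hpt : ∀ v : Fin 2 ⊕ Fin 2 → F, v ≠ 0 → Nat.card (LinesV v) = q + 1 := by
    intro v hv
    have h1 := card_linesV hv
    rw [hF] at h1
    have h2 : q ^ (2 * 2 - 1) - q = (q + 1) * (q ^ 2 - q) := by
      have h3 : q ≤ q ^ 2 := by nlinarith
      have h4 : q ≤ q ^ (2 * 2 - 1) := by
        calc q = q ^ 1 := (pow_one q).symm
          _ ≤ q ^ (2 * 2 - 1) := Nat.pow_le_pow_right (by omega) (by norm_num)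
      zify [h3, h4]
      ring
    rw [h2] at h1
    have h5 : 0 < q ^ 2 - q := by
      have : q < q ^ 2 := by nlinarith
      omega
    exact Nat.eq_of_mul_eq_mul_right h5 h1
  refine ⟨?_, hpt⟩
  have : Fintype (Lines 2 F) := Fintype.ofFinite _
  have e := Nat.card_congr (flagEquiv 2 F)
  rw [Nat.card_sigma, Nat.card_sigma] at e
  have h1 : ∀ W : Lines 2 F, Nat.card {v : Fin 2 ⊕ Fin 2 → F // v ∈ W.1 ∧ v ∉ (⊥ : Submodule F _)}
      = q ^ 2 - 1 := by
    intro W
    have h2 := card_diff (⊥ : Submodule F (Fin 2 ⊕ Fin 2 → F)) W.1 bot_le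
    rw [card_submodule W.1 W.2.1, card_submodule ⊥ (finrank_bot F _), pow_zero, hF] at h2
    omega
  have h3 : ∀ v : {v : Fin 2 ⊕ Fin 2 → F // v ∈ (⊤ : Submodule F _) ∧ v ∉ (⊥ : Submodule F _)},
      Nat.card (LinesV v.1) = q + 1 := fun v => hpt v.1 (by
    intro h
    exact v.2.2 (by rw [h]; exact Submodule.zero_mem _))
  have h4 : Nat.card {v : Fin 2 ⊕ Fin 2 → F // v ∈ (⊤ : Submodule F _) ∧ v ∉ (⊥ : Submodule F _)}
      = q ^ 4 - 1 := by
    have h2 := card_diff (⊥ : Submodule F (Fin 2 ⊕ Fin 2 → F)) ⊤ bot_le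
    rw [card_submodule ⊥ (finrank_bot F _), pow_zero,
      card_submodule (⊤ : Submodule F (Fin 2 ⊕ Fin 2 → F)) (k := 4) (by
        rw [finrank_top, Module.finrank_fintype_fun_eq_card, Fintype.card_sum, Fintype.card_fin]),
      hF] at h2
    omega
  simp only [h1, h3, Finset.sum_const, Finset.card_univ, smul_eq_mul] at e
  rw [← Nat.card_eq_fintype_card, ← Nat.card_eq_fintype_card, h4] at e
  have h5 : q ^ 4 - 1 = (q ^ 2 - 1) * (q ^ 2 + 1) := by
    have : 1 ≤ q ^ 2 := Nat.one_le_pow _ _ (by omega)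
    have : 1 ≤ q ^ 4 := Nat.one_le_pow _ _ (by omega)
    zify [*]
    ring
  have h6 : 0 < q ^ 2 - 1 := by
    have : 1 < q ^ 2 := by nlinarith
    omega
  have h7 : (q ^ 2 - 1) * Nat.card (Lines 2 F) = (q ^ 2 - 1) * ((q + 1) * (q ^ 2 + 1)) := by
    rw [mul_comm, e, h5]
    ring
  exact Nat.eq_of_mul_eq_mul_left h6 h7

end Cfsg.Agent.S0828
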