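import Cfsg.Statements.S0830
import Cfsg.Agent.Helper8.UnitaryLines
import Mathlib

set_option autoImplicit false
open Cfsg

namespace Cfsg.Agent.S0830

open Cfsg.Agent.Helper8.GUOrder Cfsg.Agent.Helper8.UnitaryLines

/-- The unitary quadrangle of PSU_5(q): with |F| = q², the number of 2-dimensional subspaces of F^5 on which the Hermitian form vanishes is (q³ + 1)(q⁵ + 1). -/
theorem result {F : Type*} [Field F] [Fintype F] {q : ℕ} (hF : Fintype.card F = q ^ 2) : Nat.card {W : Submodule F (Fin 5 → F) // Module.finrank F W = 2 ∧ ∀ u ∈ W, ∀ v ∈ W, Cfsg.hermForm 5 F q u v = 0} = (q ^ 3 + 1) * (q ^ 5 + 1) := by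
  have hq := two_le_q hF
  have hqz : (2 : ℤ) ≤ q := by exact_mod_cast hq
  have hq0 : (q : ℤ) ≠ 0 := by omega
  have hle1 : 1 ≤ q ^ 2 := Nat.one_le_pow _ _ (by omega)
  have hle2 : q ^ 2 ≤ (q ^ 2) ^ 2 := by nlinarith
  have hle3 : 1 ≤ (q ^ 2) ^ 2 := Nat.one_le_pow _ _ (by omega)
  obtain ⟨hA, _⟩ := A_closed hF 5
  have hA' : (A 5 F q 0 : ℤ) = (q : ℤ) ^ 9 - (q : ℤ) ^ 5 + (q : ℤ) ^ 4 := by
    apply mul_left_cancel₀ hq0
    rw [hA]
    ring
  have hpt : ∀ u : Fin 5 → F, u ≠ 0 → hermForm 5 F q u u = 0 →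
      Nat.card (LinesU 5 F q u) = q ^ 3 + 1 := by
    intro u hu0 hu
    have h1 := congrArg (Nat.cast : ℕ → ℤ) (D_zero hF hu0 hu)
    have h2 := congrArg (Nat.cast : ℕ → ℤ) (card_linesU hF hu0 hu)
    push_cast [Nat.cast_sub hle1, Nat.cast_sub hle2] at h1 h2
    rw [hA'] at h1
    have hD : (D 5 F q u 0 0 : ℤ) = (q : ℤ) ^ 7 - (q : ℤ) ^ 5 + (q : ℤ) ^ 4 := by
      apply mul_left_cancel₀ hq0
      linear_combination -h1
    rw [hD] at h2
    have hne : ((q : ℤ) ^ 2) ^ 2 - (q : ℤ) ^ 2 ≠ 0 := by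
      have : (q : ℤ) ^ 2 < ((q : ℤ) ^ 2) ^ 2 := by nlinarith
      omega
    have h3 : (Nat.card (LinesU 5 F q u) : ℤ) = ((q ^ 3 + 1 : ℕ) : ℤ) := by
      apply mul_right_cancel₀ hne
      push_cast
      linear_combination h2
    exact_mod_cast h3
  have h4 := congrArg (Nat.cast : ℕ → ℤ) (card_lines hF (q ^ 3 + 1) hpt)
  push_cast [Nat.cast_sub hle3] at h4
  rw [hA'] at h4
  have hne : ((q : ℤ) ^ 2) ^ 2 - 1 ≠ 0 := by
    have : 1 < ((q : ℤ) ^ 2) ^ 2 := by nlinarith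
    omega
  have h5 : (Nat.card (Lines 5 F q) : ℤ) = (((q ^ 3 + 1) * (q ^ 5 + 1) : ℕ) : ℤ) := by
    apply mul_right_cancel₀ hne
    push_cast
    linear_combination h4
  exact_mod_cast h5

end Cfsg.Agent.S0830
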