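import Mathlib
import Cfsg.Statements.S0832
import Cfsg.Agent.Helper7.TwoExtensions

set_option autoImplicit false
open Cfsg

namespace Cfsg.Agent.S0832

open QuadraticMap Module

variable {F : Type*} [Field F] {m : ℕ}

/-- The hyperbolic form as a quadratic form. -/
def QP (m : ℕ) (F : Type*) [Field F] : QuadraticForm F (Fin m ⊕ Fin m → F) :=
  ∑ i : Fin m, QuadraticMap.proj (Sum.inl i) (Sum.inr i)

theorem QP_apply (v : Fin m ⊕ Fin m → F) : QP m F v = Cfsg.quadFormPlus m F v := by
  unfold QP Cfsg.quadFormPlus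
  rw [QuadraticMap.sum_apply]
  rfl

theorem polar_QP (x y : Fin m ⊕ Fin m → F) :
    polar (QP m F) x y = ∑ i : Fin m, (x (Sum.inl i) * y (Sum.inr i) + y (Sum.inl i) * x (Sum.inr i)) := by
  unfold polar
  rw [QP_apply, QP_apply, QP_apply]
  unfold Cfsg.quadFormPlus
  rw [← Finset.sum_sub_distrib, ← Finset.sum_sub_distrib]
  apply Finset.sum_congr rfl
  intro i _
  simp only [Pi.add_apply]
  ring

theorem polar_QP_single_inr (x : Fin m ⊕ Fin m → F) (j : Fin m) :
    polar (QP m F) x (Pi.single (Sum.inr j) 1) = x (Sum.inl j) := by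
  rw [polar_QP, Finset.sum_eq_single j]
  · simp
  · intro i _ hij
    have : (Sum.inr j : Fin m ⊕ Fin m) ≠ Sum.inr i := fun h => hij (Sum.inr.inj h).symm
    simp [Pi.single_apply, this.symm]
  · intro h; exact absurd (Finset.mem_univ j) h

theorem polar_QP_single_inl (x : Fin m ⊕ Fin m → F) (j : Fin m) :
    polar (QP m F) x (Pi.single (Sum.inl j) 1) = x (Sum.inr j) := by
  rw [polar_QP, Finset.sum_eq_single j]
  · simp
  · intro i _ hij
    have : (Sum.inl j : Fin m ⊕ Fin m) ≠ Sum.inl i := fun h => hij (Sum.inl.inj h).symm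
    simp [Pi.single_apply, this.symm]
  · intro h; exact absurd (Finset.mem_univ j) h

theorem eq_zero_of_polar (x : Fin m ⊕ Fin m → F) (h : ∀ y, polar (QP m F) x y = 0) : x = 0 := by
  ext k
  rcases k with j | j
  · rw [← polar_QP_single_inr x j, h]; rfl
  · rw [← polar_QP_single_inl x j, h]; rfl

theorem nondegenerate_QP : (QuadraticMap.polarBilin (QP m F)).Nondegenerate := by
  constructor
  · intro x hx
    apply eq_zero_of_polar
    intro y
    have := hx y
    rwa [polarBilin_apply_apply] at this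
  · intro y hy
    apply eq_zero_of_polar
    intro x
    have := hy x
    rwa [polarBilin_apply_apply, polar_comm] at this

/-- The totally singular subspace spanned by the first half of the basis. -/
def E (m : ℕ) (F : Type*) [Field F] : Submodule F (Fin m ⊕ Fin m → F) :=
  Submodule.span F (Set.range (fun i : Fin m => (Pi.single (Sum.inl i) 1 : Fin m ⊕ Fin m → F)))

theorem finrank_E : finrank F (E m F) = m := by
  unfold E
  have hli : LinearIndependent F (fun i : Fin m => (Pi.single (Sum.inl i) 1 : Fin m ⊕ Fin m → F)) := by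
    have := (Pi.basisFun F (Fin m ⊕ Fin m)).linearIndependent.comp (Sum.inl : Fin m → Fin m ⊕ Fin m)
      Sum.inl_injective
    convert this using 1
    ext i k
    simp [Pi.basisFun_apply]
  rw [finrank_span_eq_card hli, Fintype.card_fin]

theorem singular_E : ∀ e ∈ E m F, QP m F e = 0 := by
  intro e he
  have hzero : ∀ j : Fin m, e (Sum.inr j) = 0 := by
    intro j
    unfold E at he
    induction he using Submodule.span_induction with
    | mem x hx =>
      obtain ⟨i, rfl⟩ := hx
      simp
    | zero => rfl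
    | add x y _ _ hx hy => rw [Pi.add_apply, hx, hy, add_zero]
    | smul a x _ hx => rw [Pi.smul_apply, hx, smul_zero]
  rw [QP_apply]
  unfold Cfsg.quadFormPlus
  apply Finset.sum_eq_zero
  intro i _
  rw [hzero i, mul_zero]

/-- For the form Σ x_i y_i on F^(2m) over a finite field, m ≥ 1: an (m−1)-dimensional subspace on which the form vanishes is contained in exactly two m-dimensional subspaces on which it vanishes. -/
theorem result {F : Type*} [Field F] [Finite F] (m : ℕ) (hm : 1 ≤ m) (U : Submodule F (Fin m ⊕ Fin m → F)) (hU : Module.finrank F U + 1 = m ∧ ∀ u ∈ U, Cfsg.quadFormPlus m F u = 0) : Nat.card {W : Submodule F (Fin m ⊕ Fin m → F) // Module.finrank F W = m ∧ (∀ w ∈ W, Cfsg.quadFormPlus m F w = 0) ∧ U ≤ W} = 2 := by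
  have hV : finrank F (Fin m ⊕ Fin m → F) = 2 * m := by
    rw [Module.finrank_pi, Fintype.card_sum, Fintype.card_fin]; ring
  obtain ⟨W₀, W₁, hne, hiff⟩ := Cfsg.Agent.Helper7.TwoExt.two_extensions (QP m F) nondegenerate_QP hV U
    hU.1 (fun u hu => by rw [QP_apply]; exact hU.2 u hu) (E m F) finrank_E singular_E
  have hP : ∀ W : Submodule F (Fin m ⊕ Fin m → F),
      (Module.finrank F W = m ∧ (∀ w ∈ W, Cfsg.quadFormPlus m F w = 0) ∧ U ≤ W) ↔
        (W = W₀ ∨ W = W₁) := by
    intro W
    rw [← hiff W]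
    simp only [QP_apply]
  rw [Nat.card_eq_two_iff]
  refine ⟨⟨W₀, (hP W₀).mpr (Or.inl rfl)⟩, ⟨W₁, (hP W₁).mpr (Or.inr rfl)⟩, ?_, ?_⟩
  · intro h
    exact hne (congrArg Subtype.val h)
  · ext ⟨W, hW⟩
    simp only [Set.mem_insert_iff, Set.mem_singleton_iff, Set.mem_univ, iff_true, Subtype.mk.injEq]
    exact (hP W).mp hW

end Cfsg.Agent.S0832
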