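import Mathlib
import Cfsg.Statements.S0834
import Cfsg.Agent.Helper8.TensorForms

set_option autoImplicit false
open Cfsg

namespace Cfsg.Agent.S0834

open Module TensorProduct Cfsg.Agent.Helper8.TensorForms

/-- Over a finite field with 2 ≠ 0: if B₁ on U (dim 2k, k ≥ 1) and B₂ on W (dim 2l, l ≥ 1) are non-degenerate symmetric forms admitting no totally isotropic subspaces of dimensions k, resp. l (minus type), then B₁ ⊗ B₂ admits a totally isotropic subspace of dimension 2kl (plus type). -/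
theorem result {F U W : Type*} [Field F] [Fintype F] [AddCommGroup U] [Module F U] [FiniteDimensional F U] [AddCommGroup W] [Module F W] [FiniteDimensional F W] (h2 : (2 : F) ≠ 0) (B₁ : LinearMap.BilinForm F U) (B₂ : LinearMap.BilinForm F W) (h₁ : B₁.Nondegenerate) (h₂ : B₂.Nondegenerate) (hS₁ : B₁.IsSymm) (hS₂ : B₂.IsSymm) (k l : ℕ) (hk : 1 ≤ k) (hl : 1 ≤ l) (hU : Module.finrank F U = 2 * k) (hW : Module.finrank F W = 2 * l) (hm₁ : ¬ (∃ X : Submodule F (U), Module.finrank F X = k ∧ ∀ x ∈ X, ∀ y ∈ X, (B₁) x y = 0)) (hm₂ : ¬ (∃ X : Submodule F (W), Module.finrank F X = l ∧ ∀ x ∈ X, ∀ y ∈ X, (B₂) x y = 0)) : (∃ X : Submodule F (TensorProduct F U W), Module.finrank F X = 2 * k * l ∧ ∀ x ∈ X, ∀ y ∈ X, (B₁.tmul B₂) x y = 0) := by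
  classical
  haveI : Invertible (2 : F) := invertibleOfNonzero h2
  obtain ⟨v₀, hv₀⟩ := LinearMap.BilinForm.exists_orthogonal_basis (LinearMap.BilinForm.isSymm_iff.1 hS₂)
  obtain ⟨v, hv⟩ : ∃ v : Basis (Fin (2 * l)) F W, ∀ c d, c ≠ d → B₂ (v c) (v d) = 0 := by
    refine ⟨v₀.reindex (finCongr hW), ?_⟩
    intro c d hcd
    rw [Basis.reindex_apply, Basis.reindex_apply]
    apply hv₀
    intro h
    exact hcd ((finCongr hW).symm.injective h)
  have hv0 : ∀ c, B₂ (v c) (v c) ≠ 0 := by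
    intro c
    have hO : B₂.iIsOrtho v := fun i j hij => hv i j hij
    exact hO.not_isOrtho_basis_self_of_nondegenerate h₂ c
  obtain ⟨X, hX1, hX2, -⟩ := exists_ti h2 B₁ h₁ hS₁ hk hU B₂ v hv hv0
    (fun j : Fin l => (⟨2 * (j : ℕ), by have := j.2; omega⟩ : Fin (2 * l)))
    (fun j : Fin l => (⟨2 * (j : ℕ) + 1, by have := j.2; omega⟩ : Fin (2 * l)))
    (by
      intro i j h
      have := Fin.mk.inj_iff.1 h
      exact Fin.ext (by omega))
    (by
      intro i j h
      have := Fin.mk.inj_iff.1 h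
      exact Fin.ext (by omega))
    (by
      intro i j h
      have := Fin.mk.inj_iff.1 h
      omega)
  refine ⟨X, ?_, hX2⟩
  rw [hX1, Fintype.card_fin]
  ring

end Cfsg.Agent.S0834
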