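import Mathlib
import Cfsg.Statements.S0835
import Cfsg.Agent.Helper8.TensorMinus

set_option autoImplicit false
open Cfsg

namespace Cfsg.Agent.S0835

open Module TensorProduct Cfsg.Agent.Helper8.TensorForms

/-- Over a finite field with 2 ≠ 0: if B₁ on U (dim 2k, k ≥ 1) is non-degenerate symmetric of minus type (no totally isotropic k-subspace) and B₂ on W (dim 2l + 1) is non-degenerate symmetric, then B₁ ⊗ B₂ (dimension 2k(2l+1)) admits no totally isotropic subspace of dimension k(2l+1) (minus type). -/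
theorem result {F U W : Type*} [Field F] [Fintype F] [AddCommGroup U] [Module F U] [FiniteDimensional F U] [AddCommGroup W] [Module F W] [FiniteDimensional F W] (h2 : (2 : F) ≠ 0) (B₁ : LinearMap.BilinForm F U) (B₂ : LinearMap.BilinForm F W) (h₁ : B₁.Nondegenerate) (h₂ : B₂.Nondegenerate) (hS₁ : B₁.IsSymm) (hS₂ : B₂.IsSymm) (k l : ℕ) (hk : 1 ≤ k) (hU : Module.finrank F U = 2 * k) (hW : Module.finrank F W = 2 * l + 1) (hm₁ : ¬ (∃ X : Submodule F (U), Module.finrank F X = k ∧ ∀ x ∈ X, ∀ y ∈ X, (B₁) x y = 0)) : ¬ (∃ X : Submodule F (TensorProduct F U W), Module.finrank F X = k * (2 * l + 1) ∧ ∀ x ∈ X, ∀ y ∈ X, (B₁.tmul B₂) x y = 0) := by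
  classical
  rintro ⟨X, hXdim, hXti⟩
  haveI : Invertible (2 : F) := invertibleOfNonzero h2
  obtain ⟨v₀, hv₀⟩ := LinearMap.BilinForm.exists_orthogonal_basis
    (LinearMap.BilinForm.isSymm_iff.1 hS₂)
  obtain ⟨v, hv⟩ : ∃ v : Basis (Fin (2 * l + 1)) F W, ∀ c d, c ≠ d → B₂ (v c) (v d) = 0 := by
    refine ⟨v₀.reindex (finCongr hW), ?_⟩
    intro c d hcd
    rw [Basis.reindex_apply, Basis.reindex_apply]
    apply hv₀
    intro h
    exact hcd ((finCongr hW).symm.injective h)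
  have hv0 : ∀ c, B₂ (v c) (v c) ≠ 0 := by
    intro c
    have hO : B₂.iIsOrtho v := fun i j hij => hv i j hij
    exact hO.not_isOrtho_basis_self_of_nondegenerate h₂ c
  obtain ⟨Y, hY1, hY2, hY3⟩ := exists_ti h2 B₁ h₁ hS₁ hk hU B₂ v hv hv0
    (fun j : Fin l => (⟨2 * (j : ℕ), by have := j.2; omega⟩ : Fin (2 * l + 1)))
    (fun j : Fin l => (⟨2 * (j : ℕ) + 1, by have := j.2; omega⟩ : Fin (2 * l + 1)))
    (by
      intro i j h
      have := Fin.mk.inj_iff.1 h
      exact Fin.ext (by omega))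
    (by
      intro i j h
      have := Fin.mk.inj_iff.1 h
      exact Fin.ext (by omega))
    (by
      intro i j h
      have := Fin.mk.inj_iff.1 h
      omega)
  rw [Fintype.card_fin] at hY1
  obtain ⟨c₀, hc₀⟩ : ∃ c₀ : Fin (2 * l + 1), c₀ = ⟨2 * l, by omega⟩ := ⟨_, rfl⟩
  have hY3' : ∀ x ∈ Y, ∀ u : U, (B₁.tmul B₂) x (u ⊗ₜ[F] v c₀) = 0 := by
    apply hY3
    intro i
    have := i.2
    rw [hc₀]
    constructor
    · intro h
      have := Fin.mk.inj_iff.1 h
      omega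
    · intro h
      have := Fin.mk.inj_iff.1 h
      omega
  -- the embedding of `U` as `U ⊗ v c₀`
  obtain ⟨ι₀, hι₀⟩ : ∃ ι₀ : U →ₗ[F] U ⊗[F] W, ι₀ = (TensorProduct.mk F U W).flip (v c₀) :=
    ⟨_, rfl⟩
  have hι₀app : ∀ u, ι₀ u = u ⊗ₜ[F] v c₀ := fun u => by rw [hι₀]; rfl
  have hι₀inj : Function.Injective ι₀ := by
    intro u u' h
    have := congrArg (coordProj v c₀) h
    rw [hι₀app, hι₀app, coordProj_tmul, coordProj_tmul, Basis.coord_apply, Basis.repr_self,
      Finsupp.single_eq_same, one_smul, one_smul] at this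
    exact this
  have hMdim : finrank F ↥(LinearMap.range ι₀) = 2 * k := by
    rw [LinearMap.finrank_range_of_inj hι₀inj, hU]
  have hnd : LinearMap.BilinForm.Nondegenerate (B₁.tmul B₂) := Cfsg.Agent.S0833.tmul_nondegenerate h₁ h₂
  have hsymm : LinearMap.BilinForm.IsSymm (B₁.tmul B₂) :=
    LinearMap.BilinForm.isSymm_iff.2 (LinearMap.IsSymm.tmul
      (LinearMap.BilinForm.isSymm_iff.1 hS₁) (LinearMap.BilinForm.isSymm_iff.1 hS₂))
  have hMle : LinearMap.range ι₀ ≤ LinearMap.BilinForm.orthogonal (B₁.tmul B₂) Y := by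
    rintro _ ⟨u, rfl⟩
    rw [LinearMap.BilinForm.mem_orthogonal_iff]
    intro y hy
    rw [hι₀app]
    exact hY3' y hy u
  have hT : finrank F (U ⊗[F] W) = 2 * k * (2 * l + 1) := by
    rw [Module.finrank_tensorProduct, hU, hW]
  obtain ⟨K, hKM, hKti, hKdim⟩ := exists_ti_in_complement (B₁.tmul B₂) hnd hsymm hXti hY2 hMle
    (by rw [hT, hY1, hMdim]; ring_nf; exact le_refl _)
  -- pull back to `U`
  have hK0dim : finrank F ↥(K.comap ι₀) = finrank F K := by
    have h1 : (K.comap ι₀).map ι₀ = K := Submodule.map_comap_eq_of_le hKM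
    have h2 := (Submodule.equivMapOfInjective ι₀ hι₀inj (K.comap ι₀)).finrank_eq
    rw [h1] at h2
    exact h2
  have hK0ti : ∀ x ∈ K.comap ι₀, ∀ y ∈ K.comap ι₀, B₁ x y = 0 := by
    intro x hx y hy
    have := hKti (ι₀ x) hx (ι₀ y) hy
    rw [hι₀app, hι₀app, tmul_apply_tmul] at this
    rcases mul_eq_zero.1 this with h | h
    · exact h
    · exact absurd h (hv0 c₀)
  have hkle : k ≤ finrank F ↥(K.comap ι₀) := by
    rw [hK0dim]
    rw [hXdim, hY1] at hKdim
    have : k * (2 * l + 1) = l * (2 * k) + k := by ring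
    omega
  obtain ⟨K', hK'le, hK'dim⟩ := exists_le_finrank_eq (K.comap ι₀) hkle
  exact hm₁ ⟨K', hK'dim, fun x hx y hy => hK0ti x (hK'le hx) y (hK'le hy)⟩

end Cfsg.Agent.S0835
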