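import Cfsg.Statements.S0837
import Cfsg.Agent.Helper8.GUOrder
import Cfsg.Agent.S0755
import Mathlib

set_option autoImplicit false
open Cfsg

namespace Cfsg.Agent.S0837

open Matrix Module Cfsg.Agent.Helper8.GUOrder Cfsg.Agent.Helper7.Herm

variable {F : Type*} [Field F] [Fintype F] {q n : ℕ}

/-- the Frobenius `x ↦ x ^ q` as a ring hom. -/
def frobQ (hF : Fintype.card F = q ^ 2) : F →+* F where
  toFun x := x ^ q
  map_one' := one_pow q
  map_mul' a b := mul_pow a b q
  map_zero' := zero_pow (by have := two_le_q hF; omega)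
  map_add' a b := add_pow_q hF a b

theorem frobQ_apply (hF : Fintype.card F = q ^ 2) (x : F) : frobQ hF x = x ^ q := rfl

/-- the form on a submodule, semilinear in the first variable. -/
def formOn (hF : Fintype.card F = q ^ 2) (U : Submodule F (Fin n → F)) :
    U →ₛₗ[frobQ hF] U →ₗ[F] F :=
  LinearMap.mk₂'ₛₗ (frobQ hF) (RingHom.id F) (fun u v => hermForm n F q v.1 u.1)
    (fun u u' v => hermForm_add_right hF v.1 u.1 u'.1)
    (fun c u v => hermForm_smul_right c v.1 u.1)
    (fun u v v' => hermForm_add_left v.1 v'.1 u.1)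
    (fun c u v => hermForm_smul_left c v.1 u.1)

theorem formOn_apply (hF : Fintype.card F = q ^ 2) (U : Submodule F (Fin n → F)) (u v : U) :
    formOn hF U u v = hermForm n F q v.1 u.1 := rfl

/-- orthonormal bases of nondegenerate subspaces. -/
theorem exists_orthonormal (hF : Fintype.card F = q ^ 2) (U : Submodule F (Fin n → F))
    (hU : ∀ u ∈ U, (∀ v ∈ U, hermForm n F q u v = 0) → u = 0) (m : ℕ)
    (hm : finrank F U = m) :
    ∃ b : Fin m → (Fin n → F), (∀ i, b i ∈ U) ∧
      (∀ i j, hermForm n F q (b i) (b j) = if i = j then 1 else 0) ∧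
      ∀ v ∈ U, ∃ x : Fin m → F, v = ∑ i, x i • b i := by
  subst hm
  have hq := two_le_q hF
  have hσ : frobQ hF ≠ RingHom.id F := by
    obtain ⟨a, ha⟩ := exists_not_fixed hF
    intro h
    apply ha
    have := congrArg (fun f : F →+* F => f a) h
    exact this
  have hσ2 : ∀ a : F, frobQ hF (frobQ hF a) = a := fun a => pow_q_pow_q hF a
  have hS : (formOn hF U).IsSymm := ⟨fun x y => by
    rw [formOn_apply, formOn_apply, frobQ_apply, ← hermForm_swap hF]⟩
  have hB : (formOn hF U).Nondegenerate := by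
    constructor
    · intro x hx
      apply Subtype.ext
      apply hU x.1 x.2
      intro v hv
      have := hx ⟨v, hv⟩
      rw [formOn_apply] at this
      rw [hermForm_swap hF, this, zero_pow (by omega)]
    · intro y hy
      apply Subtype.ext
      apply hU y.1 y.2
      intro v hv
      exact hy ⟨v, hv⟩
  obtain ⟨b, hb⟩ := Cfsg.Agent.S0755.result (frobQ hF) hσ hσ2 (formOn hF U) hS hB
  refine ⟨fun i => (b i).1, fun i => (b i).2, fun i j => ?_, fun v hv => ?_⟩
  · have := hb j i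
    rw [formOn_apply] at this
    rw [this]
    by_cases h : i = j
    · rw [if_pos h, if_pos h.symm]
    · rw [if_neg h, if_neg (fun h' => h h'.symm)]
  · refine ⟨fun i => b.repr ⟨v, hv⟩ i, ?_⟩
    have := congrArg Subtype.val (b.sum_repr ⟨v, hv⟩)
    simp only [Submodule.coe_sum, Submodule.coe_smul] at this
    exact this.symm

omit [Fintype F] in
theorem hermForm_zero_left (w : Fin n → F) : hermForm n F q 0 w = 0 := by
  unfold hermForm
  simp

theorem hermForm_sum_left {ι : Type*} (s : Finset ι) (f : ι → Fin n → F) (w : Fin n → F) :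
    hermForm n F q (∑ i ∈ s, f i) w = ∑ i ∈ s, hermForm n F q (f i) w := by
  classical
  induction s using Finset.induction_on with
  | empty => simp [hermForm_zero_left]
  | insert a s ha ih => rw [Finset.sum_insert ha, Finset.sum_insert ha, hermForm_add_left, ih]

theorem hermForm_sum_right (hF : Fintype.card F = q ^ 2) {ι : Type*} (s : Finset ι)
    (f : ι → Fin n → F) (w : Fin n → F) :
    hermForm n F q w (∑ i ∈ s, f i) = ∑ i ∈ s, hermForm n F q w (f i) := by
  classical
  have hq := two_le_q hF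
  induction s using Finset.induction_on with
  | empty =>
    simp only [Finset.sum_empty]
    unfold hermForm
    simp [zero_pow (show q ≠ 0 by omega)]
  | insert a s ha ih =>
    rw [Finset.sum_insert ha, Finset.sum_insert ha, hermForm_add_right hF, ih]

/-- the orthogonal complement. -/
def perp (W : Submodule F (Fin n → F)) (q : ℕ) : Submodule F (Fin n → F) where
  carrier := {v | ∀ w ∈ W, hermForm n F q v w = 0}
  add_mem' := fun {a b} ha hb w hw => by rw [hermForm_add_left, ha w hw, hb w hw, add_zero]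
  zero_mem' := fun w _ => hermForm_zero_left w
  smul_mem' := fun c a ha w hw => by rw [hermForm_smul_left, ha w hw, mul_zero]

theorem mem_perp (W : Submodule F (Fin n → F)) (v : Fin n → F) :
    v ∈ perp W q ↔ ∀ w ∈ W, hermForm n F q v w = 0 := Iff.rfl

section ortho
variable (hF : Fintype.card F = q ^ 2) {W : Submodule F (Fin n → F)} {k : ℕ}
  {b : Fin k → (Fin n → F)} (hbW : ∀ i, b i ∈ W)
  (hb : ∀ i j, hermForm n F q (b i) (b j) = if i = j then 1 else 0)
  (hsp : ∀ v ∈ W, ∃ x : Fin k → F, v = ∑ i, x i • b i)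

include hF hbW hsp in
theorem mem_perp_iff (v : Fin n → F) : v ∈ perp W q ↔ ∀ j, hermForm n F q v (b j) = 0 := by
  constructor
  · intro h j
    exact h _ (hbW j)
  · intro h w hw
    obtain ⟨x, rfl⟩ := hsp w hw
    rw [hermForm_sum_right hF]
    apply Finset.sum_eq_zero
    intro j _
    rw [hermForm_smul_right, h j, mul_zero]

include hF hbW hb hsp in
theorem sub_proj_mem (v : Fin n → F) :
    v - ∑ i, hermForm n F q v (b i) • b i ∈ perp W q := by
  rw [mem_perp_iff hF hbW hsp]
  intro j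
  rw [hermForm_sub_left, hermForm_sum_left]
  simp only [hermForm_smul_left, hb, mul_ite, mul_one, mul_zero, Finset.sum_ite_eq',
    Finset.mem_univ, if_true, sub_self]

include hbW in
theorem proj_mem (v : Fin n → F) : ∑ i, hermForm n F q v (b i) • b i ∈ W :=
  Submodule.sum_mem _ fun i _ => Submodule.smul_mem _ _ (hbW i)

include hF hbW hb hsp in
theorem sup_perp : W ⊔ perp W q = ⊤ := by
  rw [eq_top_iff]
  intro v _
  have h1 := sub_proj_mem hF hbW hb hsp v
  have h2 := proj_mem (q := q) hbW v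
  have : v = ∑ i, hermForm n F q v (b i) • b i + (v - ∑ i, hermForm n F q v (b i) • b i) := by
    abel
  rw [this]
  exact Submodule.add_mem_sup h2 h1

include hF hbW hb hsp in
theorem perp_nondeg (u : Fin n → F) (hu : u ∈ perp W q)
    (h : ∀ v ∈ perp W q, hermForm n F q u v = 0) : u = 0 := by
  have hall : ∀ z : Fin n → F, hermForm n F q u z = 0 := by
    intro z
    have h1 := sub_proj_mem hF hbW hb hsp z
    have h2 := proj_mem (q := q) hbW z
    have : z = ∑ i, hermForm n F q z (b i) • b i + (z - ∑ i, hermForm n F q z (b i) • b i) := by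
      abel
    rw [this, hermForm_add_right hF, hu _ h2, h _ h1, add_zero]
  ext i
  have := hall (Pi.single i 1)
  unfold hermForm at this
  rw [Finset.sum_eq_single i] at this
  · simpa using this
  · intro j _ hji
    rw [Pi.single_eq_of_ne hji, zero_pow (by have := two_le_q hF; omega), mul_zero]
  · intro h
    exact absurd (Finset.mem_univ i) h

end ortho

theorem inf_perp (W : Submodule F (Fin n → F))
    (hW : ∀ u ∈ W, (∀ v ∈ W, hermForm n F q u v = 0) → u = 0) : W ⊓ perp W q = ⊥ := by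
  rw [eq_bot_iff]
  intro u hu
  rw [Submodule.mem_inf] at hu
  rw [Submodule.mem_bot]
  exact hW u hu.1 hu.2

section mat
variable (hF : Fintype.card F = q ^ 2) {ι : Type*} [Fintype ι] [DecidableEq ι]
  (hι : Fintype.card ι = n) (C : Matrix (Fin n) ι F)
  (hC : Cᵀ * C.map (frobQ hF) = 1)

theorem map_map_frobQ {α β : Type*} (M : Matrix α β F) :
    (M.map (frobQ hF)).map (frobQ hF) = M := by
  ext i j
  exact pow_q_pow_q hF _

include hC in
theorem Cs_mul_C : (C.map (frobQ hF))ᵀ * C = 1 := by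
  have h : (Cᵀ * C.map (frobQ hF)).map (frobQ hF) = (1 : Matrix ι ι F).map (frobQ hF) := by
    rw [hC]
  rw [Matrix.map_mul, Matrix.map_one _ (map_zero _) (map_one _), map_map_frobQ,
    Matrix.transpose_map] at h
  exact h

include hC hι in
theorem C_mul_Cs : C * (C.map (frobQ hF))ᵀ = 1 := by
  have h := Cs_mul_C hF C hC
  exact (Matrix.mul_eq_one_comm_of_card_eq _ _ _ (by rw [hι, Fintype.card_fin])).mp h

include hC hι in
theorem Cphi_mul_Ct : C.map (frobQ hF) * Cᵀ = 1 :=
  (Matrix.mul_eq_one_comm_of_card_eq _ _ _ (by rw [hι, Fintype.card_fin])).mp hC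

include hC hι in
/-- conjugating a unitary `ι × ι` matrix gives a unitary matrix. -/
theorem conj_unitary {B : Matrix ι ι F} (hB : Bᵀ * B.map (frobQ hF) = 1) :
    (C * B * (C.map (frobQ hF))ᵀ)ᵀ * (C * B * (C.map (frobQ hF))ᵀ).map (frobQ hF) = 1 := by
  rw [Matrix.transpose_mul, Matrix.transpose_mul, Matrix.transpose_transpose, Matrix.map_mul,
    Matrix.map_mul, Matrix.transpose_map, map_map_frobQ]
  calc C.map (frobQ hF) * (Bᵀ * Cᵀ) * (C.map (frobQ hF) * B.map (frobQ hF) * Cᵀ)
      = C.map (frobQ hF) * (Bᵀ * ((Cᵀ * C.map (frobQ hF)) * B.map (frobQ hF))) * Cᵀ := by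
        simp only [Matrix.mul_assoc]
    _ = 1 := by
        rw [hC, Matrix.one_mul, hB, Matrix.mul_one, Cphi_mul_Ct hF hι C hC]

include hC hι in
/-- conjugating back. -/
theorem conj_unitary' {g : Matrix (Fin n) (Fin n) F} (hg : gᵀ * g.map (frobQ hF) = 1) :
    ((C.map (frobQ hF))ᵀ * g * C)ᵀ * ((C.map (frobQ hF))ᵀ * g * C).map (frobQ hF) = 1 := by
  rw [Matrix.transpose_mul, Matrix.transpose_mul, Matrix.transpose_transpose, Matrix.map_mul,
    Matrix.map_mul, Matrix.transpose_map, map_map_frobQ]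
  calc Cᵀ * (gᵀ * C.map (frobQ hF)) * (Cᵀ * g.map (frobQ hF) * C.map (frobQ hF))
      = Cᵀ * (gᵀ * ((C.map (frobQ hF) * Cᵀ) * g.map (frobQ hF))) * C.map (frobQ hF) := by
        simp only [Matrix.mul_assoc]
    _ = 1 := by
        rw [Cphi_mul_Ct hF hι C hC, Matrix.one_mul, hg, Matrix.mul_one, hC]

end mat

section blocks
variable (hF : Fintype.card F = q ^ 2) {k m : ℕ}

theorem blocks_unitary {A : Matrix (Fin k) (Fin k) F} {D : Matrix (Fin m) (Fin m) F}
    (hA : Aᵀ * A.map (frobQ hF) = 1) (hD : Dᵀ * D.map (frobQ hF) = 1) :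
    (fromBlocks A 0 0 D)ᵀ * (fromBlocks A 0 0 D).map (frobQ hF) = 1 := by
  rw [Matrix.fromBlocks_transpose, Matrix.fromBlocks_map, Matrix.fromBlocks_multiply]
  simp only [Matrix.transpose_zero, Matrix.map_zero _ (map_zero (frobQ hF)), Matrix.zero_mul,
    Matrix.mul_zero, add_zero, zero_add, hA, hD]
  exact Matrix.fromBlocks_one

theorem unitary_blocks {A : Matrix (Fin k) (Fin k) F} {X : Matrix (Fin k) (Fin m) F}
    {D : Matrix (Fin m) (Fin m) F}
    (h : (fromBlocks A X 0 D)ᵀ * (fromBlocks A X 0 D).map (frobQ hF) = 1) :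
    Aᵀ * A.map (frobQ hF) = 1 ∧ X = 0 ∧ Dᵀ * D.map (frobQ hF) = 1 := by
  rw [Matrix.fromBlocks_transpose, Matrix.fromBlocks_map, Matrix.fromBlocks_multiply,
    ← Matrix.fromBlocks_one, Matrix.fromBlocks_inj] at h
  simp only [Matrix.transpose_zero, Matrix.map_zero _ (map_zero (frobQ hF)), Matrix.zero_mul,
    Matrix.mul_zero, add_zero, zero_add] at h
  obtain ⟨h1, h2, h3, h4⟩ := h
  have h5 : A.map (frobQ hF) * Aᵀ = 1 := mul_eq_one_comm.mp h1
  have hX : X.map (frobQ hF) = 0 := by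
    calc X.map (frobQ hF) = (A.map (frobQ hF) * Aᵀ) * X.map (frobQ hF) := by
          rw [h5, Matrix.one_mul]
      _ = A.map (frobQ hF) * (Aᵀ * X.map (frobQ hF)) := by rw [Matrix.mul_assoc]
      _ = 0 := by rw [h2, Matrix.mul_zero]
  have hX0 : X = 0 := by
    rw [← map_map_frobQ hF X, hX, Matrix.map_zero _ (map_zero (frobQ hF))]
  refine ⟨h1, hX0, ?_⟩
  rw [hX0, Matrix.transpose_zero, Matrix.zero_mul, zero_add] at h4
  exact h4

end blocks

section assemble
variable (hF : Fintype.card F = q ^ 2) {k m : ℕ} (hkm : k + m = n)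
  (c : Fin k ⊕ Fin m → (Fin n → F))
  (hc : ∀ a a', hermForm n F q (c a) (c a') = if a = a' then 1 else 0)

/-- the matrix with columns `c`. -/
def Cmat : Matrix (Fin n) (Fin k ⊕ Fin m) F := Matrix.of fun l a => c a l

include hc in
theorem Cmat_unitary : (Cmat c)ᵀ * (Cmat c).map (frobQ hF) = 1 := by
  ext a a'
  rw [Matrix.mul_apply, Matrix.one_apply, ← hc a a']
  rfl

omit [Fintype F] in
theorem Cmat_mulVec_single (a : Fin k ⊕ Fin m) : Cmat c *ᵥ Pi.single a 1 = c a := by
  rw [Matrix.mulVec_single_one]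
  ext l
  rfl

theorem entry_formula (g : Matrix (Fin n) (Fin n) F) (a a' : Fin k ⊕ Fin m) :
    (((Cmat c).map (frobQ hF))ᵀ * g * Cmat c) a a' = hermForm n F q (g *ᵥ c a') (c a) := by
  rw [Matrix.mul_apply]
  unfold hermForm
  simp only [Matrix.mul_apply, Matrix.mulVec, dotProduct, Matrix.transpose_apply,
    Matrix.map_apply, Cmat, Matrix.of_apply, frobQ_apply, Finset.sum_mul]
  rw [Finset.sum_comm]
  refine Finset.sum_congr rfl fun l _ => Finset.sum_congr rfl fun l' _ => ?_
  ring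

/-- the conjugated block matrix. -/
def PsiMat (A : Matrix (Fin k) (Fin k) F) (D : Matrix (Fin m) (Fin m) F) :
    Matrix (Fin n) (Fin n) F :=
  Cmat c * fromBlocks A 0 0 D * ((Cmat c).map (frobQ hF))ᵀ

include hc in
theorem PsiMat_mulVec (A : Matrix (Fin k) (Fin k) F) (D : Matrix (Fin m) (Fin m) F)
    (i : Fin k) : PsiMat hF c A D *ᵥ c (Sum.inl i) = ∑ l, A l i • c (Sum.inl l) := by
  have h1 := Cs_mul_C hF (Cmat c) (Cmat_unitary hF c hc)
  rw [← Cmat_mulVec_single c (Sum.inl i), PsiMat, Matrix.mulVec_mulVec]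
  have h2 : Cmat c * fromBlocks A 0 0 D * ((Cmat c).map (frobQ hF))ᵀ * Cmat c
      = Cmat c * fromBlocks A 0 0 D := by
    rw [Matrix.mul_assoc, h1, Matrix.mul_one]
  rw [h2, Matrix.mulVec_single_one]
  ext l
  rw [Matrix.col_apply, Matrix.mul_apply, Fintype.sum_sum_type]
  simp only [Matrix.fromBlocks_apply₁₁, Matrix.fromBlocks_apply₂₁, Matrix.zero_apply, mul_zero,
    Finset.sum_const_zero, add_zero, Finset.sum_apply, Pi.smul_apply, smul_eq_mul]
  refine Finset.sum_congr rfl fun l' _ => ?_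
  rw [mul_comm]
  rfl

end assemble

section final
variable (hF : Fintype.card F = q ^ 2) {k m : ℕ} (hkm : k + m = n)
  (c : Fin k ⊕ Fin m → (Fin n → F))
  (hc : ∀ a a', hermForm n F q (c a) (c a') = if a = a' then 1 else 0)

include hkm in
omit [Fintype F] in
theorem card_idx : Fintype.card (Fin k ⊕ Fin m) = n := by
  rw [Fintype.card_sum, Fintype.card_fin, Fintype.card_fin, hkm]

include hkm hc in
theorem PsiMat_unitary {A : Matrix (Fin k) (Fin k) F} {D : Matrix (Fin m) (Fin m) F}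
    (hA : Aᵀ * A.map (· ^ q) = 1) (hD : Dᵀ * D.map (· ^ q) = 1) :
    (PsiMat hF c A D)ᵀ * (PsiMat hF c A D).map (· ^ q) = 1 :=
  conj_unitary hF (card_idx hkm) (Cmat c) (Cmat_unitary hF c hc) (blocks_unitary hF hA hD)

include hkm hc in
theorem PsiMat_one : PsiMat hF c 1 1 = 1 := by
  rw [PsiMat, Matrix.fromBlocks_one, Matrix.mul_one]
  exact C_mul_Cs hF (card_idx hkm) (Cmat c) (Cmat_unitary hF c hc)

include hc in
theorem PsiMat_mul (A A' : Matrix (Fin k) (Fin k) F) (D D' : Matrix (Fin m) (Fin m) F) :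
    PsiMat hF c (A * A') (D * D') = PsiMat hF c A D * PsiMat hF c A' D' := by
  unfold PsiMat
  have h1 := Cs_mul_C hF (Cmat c) (Cmat_unitary hF c hc)
  have h2 : fromBlocks (A * A') 0 0 (D * D') = fromBlocks A 0 0 D * fromBlocks A' 0 0 D' := by
    rw [Matrix.fromBlocks_multiply]
    simp
  rw [h2]
  calc Cmat c * (fromBlocks A 0 0 D * fromBlocks A' 0 0 D') * ((Cmat c).map (frobQ hF))ᵀ
      = Cmat c * fromBlocks A 0 0 D * (((Cmat c).map (frobQ hF))ᵀ * Cmat c) *
          fromBlocks A' 0 0 D' * ((Cmat c).map (frobQ hF))ᵀ := by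
        rw [h1, Matrix.mul_one]
        simp only [Matrix.mul_assoc]
    _ = _ := by simp only [Matrix.mul_assoc]

include hkm hc in
theorem PsiMat_inj {A A' : Matrix (Fin k) (Fin k) F} {D D' : Matrix (Fin m) (Fin m) F}
    (h : PsiMat hF c A D = PsiMat hF c A' D') : A = A' ∧ D = D' := by
  have h1 := Cs_mul_C hF (Cmat c) (Cmat_unitary hF c hc)
  have key : ∀ (A : Matrix (Fin k) (Fin k) F) (D : Matrix (Fin m) (Fin m) F),
      ((Cmat c).map (frobQ hF))ᵀ * PsiMat hF c A D * Cmat c = fromBlocks A 0 0 D := by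
    intro A D
    unfold PsiMat
    calc ((Cmat c).map (frobQ hF))ᵀ * (Cmat c * fromBlocks A 0 0 D *
          ((Cmat c).map (frobQ hF))ᵀ) * Cmat c
        = (((Cmat c).map (frobQ hF))ᵀ * Cmat c) * fromBlocks A 0 0 D *
          (((Cmat c).map (frobQ hF))ᵀ * Cmat c) := by simp only [Matrix.mul_assoc]
      _ = fromBlocks A 0 0 D := by rw [h1, Matrix.one_mul, Matrix.mul_one]
  have h2 : fromBlocks A 0 0 D = fromBlocks A' 0 0 D' := by rw [← key A D, ← key A' D', h]
  rw [Matrix.fromBlocks_inj] at h2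
  exact ⟨h2.1, h2.2.2.2⟩

/-- the embedding of the product of unitary groups. -/
def PsiHom : GU k F q × GU m F q →* GU n F q where
  toFun AD := (guEquiv hF).symm ⟨PsiMat hF c (AD.1.1 : Matrix (Fin k) (Fin k) F)
      (AD.2.1 : Matrix (Fin m) (Fin m) F),
    PsiMat_unitary hF hkm c hc ((mem_GU_iff hF _).mp AD.1.2) ((mem_GU_iff hF _).mp AD.2.2)⟩
  map_one' := by
    apply Subtype.ext
    apply Units.ext
    show PsiMat hF c 1 1 = 1
    exact PsiMat_one hF hkm c hc
  map_mul' AD AD' := by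
    apply Subtype.ext
    apply Units.ext
    show PsiMat hF c ((AD.1.1 : Matrix (Fin k) (Fin k) F) * (AD'.1.1 : Matrix (Fin k) (Fin k) F))
      ((AD.2.1 : Matrix (Fin m) (Fin m) F) * (AD'.2.1 : Matrix (Fin m) (Fin m) F)) = _
    exact PsiMat_mul hF c hc _ _ _ _

theorem PsiHom_val (AD : GU k F q × GU m F q) :
    (((PsiHom hF hkm c hc AD : GU n F q) : GL (Fin n) F) : Matrix (Fin n) (Fin n) F) =
      PsiMat hF c (AD.1.1 : Matrix (Fin k) (Fin k) F) (AD.2.1 : Matrix (Fin m) (Fin m) F) := rfl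

theorem PsiHom_injective : Function.Injective (PsiHom hF hkm c hc) := by
  intro AD AD' h
  have h1 : PsiMat hF c (AD.1.1 : Matrix (Fin k) (Fin k) F) (AD.2.1 : Matrix (Fin m) (Fin m) F)
      = PsiMat hF c (AD'.1.1 : Matrix (Fin k) (Fin k) F)
        (AD'.2.1 : Matrix (Fin m) (Fin m) F) := by
    rw [← PsiHom_val hF hkm c hc AD, ← PsiHom_val hF hkm c hc AD', h]
  obtain ⟨h2, h3⟩ := PsiMat_inj hF hkm c hc h1
  apply Prod.ext
  · exact Subtype.ext (Units.ext h2)
  · exact Subtype.ext (Units.ext h3)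

variable {W : Submodule F (Fin n → F)} (hbW : ∀ i, c (Sum.inl i) ∈ W)
  (hsp : ∀ v ∈ W, ∃ x : Fin k → F, v = ∑ i, x i • c (Sum.inl i))
  (hperp : ∀ j, ∀ w ∈ W, hermForm n F q w (c (Sum.inr j)) = 0)

include hbW hsp in
theorem PsiHom_mapsTo (AD : GU k F q × GU m F q) (v : Fin n → F) (hv : v ∈ W) :
    (((PsiHom hF hkm c hc AD : GU n F q) : GL (Fin n) F) : Matrix (Fin n) (Fin n) F) *ᵥ v
      ∈ W := by
  obtain ⟨x, rfl⟩ := hsp v hv
  rw [PsiHom_val, Matrix.mulVec_sum]
  apply Submodule.sum_mem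
  intro i _
  rw [Matrix.mulVec_smul, PsiMat_mulVec hF c hc]
  apply Submodule.smul_mem
  apply Submodule.sum_mem
  intro l _
  exact Submodule.smul_mem _ _ (hbW l)

include hbW hperp in
theorem exists_PsiHom (g : GU n F q)
    (hg : ∀ v ∈ W, ((g : GL (Fin n) F) : Matrix (Fin n) (Fin n) F) *ᵥ v ∈ W) :
    ∃ AD, PsiHom hF hkm c hc AD = g := by
  set gm : Matrix (Fin n) (Fin n) F := ((g : GL (Fin n) F) : Matrix (Fin n) (Fin n) F) with hgm
  have hgu : gmᵀ * gm.map (frobQ hF) = 1 := (mem_GU_iff hF g.1).mp g.2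
  have hCu := Cmat_unitary hF c hc
  set G' := ((Cmat c).map (frobQ hF))ᵀ * gm * Cmat c with hG'
  have hG'u : G'ᵀ * G'.map (frobQ hF) = 1 := conj_unitary' hF (card_idx hkm) (Cmat c) hCu hgu
  have h21 : G'.toBlocks₂₁ = 0 := by
    ext j i
    rw [Matrix.toBlocks₂₁, Matrix.of_apply, hG', entry_formula]
    exact hperp j _ (hg _ (hbW i))
  have hfb : G' = fromBlocks G'.toBlocks₁₁ G'.toBlocks₁₂ 0 G'.toBlocks₂₂ := by
    rw [← h21, Matrix.fromBlocks_toBlocks]
  rw [hfb] at hG'u
  obtain ⟨hA, hX, hD⟩ := unitary_blocks hF hG'u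
  refine ⟨((guEquiv hF).symm ⟨G'.toBlocks₁₁, hA⟩, (guEquiv hF).symm ⟨G'.toBlocks₂₂, hD⟩), ?_⟩
  apply Subtype.ext
  apply Units.ext
  rw [PsiHom_val]
  show PsiMat hF c G'.toBlocks₁₁ G'.toBlocks₂₂ = gm
  unfold PsiMat
  have h3 : fromBlocks G'.toBlocks₁₁ 0 0 G'.toBlocks₂₂ = G' := by
    rw [hfb, hX]
    simp [Matrix.toBlocks₁₁, Matrix.toBlocks₂₂]
  have h4 := C_mul_Cs hF (card_idx hkm) (Cmat c) hCu
  rw [h3, hG']
  calc Cmat c * (((Cmat c).map (frobQ hF))ᵀ * gm * Cmat c) * ((Cmat c).map (frobQ hF))ᵀ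
      = (Cmat c * ((Cmat c).map (frobQ hF))ᵀ) * gm * (Cmat c * ((Cmat c).map (frobQ hF))ᵀ) := by
        simp only [Matrix.mul_assoc]
    _ = gm := by rw [h4, Matrix.one_mul, Matrix.mul_one]

end final

/-- If W ≤ F^n (|F| = q²) is a k-dimensional subspace on which the Hermitian form Σ x_i y_i^q is non-degenerate, then the stabiliser of W in GU_n(q) is isomorphic to GU_k(q) × GU_(n−k)(q). -/
theorem result {F : Type*} [Field F] [Fintype F] {q : ℕ} (hF : Fintype.card F = q ^ 2) (n k : ℕ) (hk : k ≤ n) (W : Submodule F (Fin n → F)) (hWk : Module.finrank F W = k) (hW : ∀ u ∈ W, (∀ v ∈ W, Cfsg.hermForm n F q u v = 0) → u = 0) : Nonempty (↥((Cfsg.stabilizing (Cfsg.glToMat (Fin n) F) (W : Set (Fin n → F))).subgroupOf (Cfsg.GU n F q)) ≃* ↥(Cfsg.GU k F q) × ↥(Cfsg.GU (n - k) F q)) := by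
  classical
  subst hWk
  have hq := two_le_q hF
  obtain ⟨b, hbW, hb, hsp⟩ := exists_orthonormal hF W hW (finrank F W) rfl
  have hsup := sup_perp hF hbW hb hsp
  have hinf := inf_perp W hW
  have hdim : finrank F (perp W q) = n - finrank F W := by
    have h1 := Submodule.finrank_sup_add_finrank_inf_eq W (perp W q)
    rw [hsup, hinf, finrank_top, finrank_bot, add_zero, Module.finrank_fintype_fun_eq_card,
      Fintype.card_fin] at h1
    omega
  obtain ⟨b', hb'W, hb', _⟩ := exists_orthonormal hF (perp W q)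
    (perp_nondeg hF hbW hb hsp) (n - finrank F W) hdim
  have hkm : finrank F W + (n - finrank F W) = n := by omega
  set c : Fin (finrank F W) ⊕ Fin (n - finrank F W) → (Fin n → F) := Sum.elim b b' with hcdef
  have hc : ∀ a a', hermForm n F q (c a) (c a') = if a = a' then 1 else 0 := by
    rintro (i | j) (i' | j')
    · simp only [hcdef, Sum.elim_inl, hb, Sum.inl.injEq]
    · simp only [hcdef, Sum.elim_inl, Sum.elim_inr, reduceCtorEq, if_false]
      rw [hermForm_swap hF, hb'W j' _ (hbW i), zero_pow (by omega)]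
    · simp only [hcdef, Sum.elim_inl, Sum.elim_inr, reduceCtorEq, if_false]
      exact hb'W j _ (hbW i')
    · simp only [hcdef, Sum.elim_inr, hb', Sum.inr.injEq]
  have hperp : ∀ j, ∀ w ∈ W, hermForm n F q w (c (Sum.inr j)) = 0 := by
    intro j w hw
    rw [hermForm_swap hF]
    show (hermForm n F q (b' j) w) ^ q = 0
    rw [hb'W j w hw, zero_pow (by omega)]
  have hinj := PsiHom_injective hF hkm c hc
  have hrange : (PsiHom hF hkm c hc).range
      = (stabilizing (glToMat (Fin n) F) (W : Set (Fin n → F))).subgroupOf (GU n F q) := by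
    ext g
    rw [Subgroup.mem_subgroupOf]
    constructor
    · rintro ⟨AD, rfl⟩
      intro v
      constructor
      · intro hv
        exact PsiHom_mapsTo hF hkm c hc hbW hsp AD v hv
      · intro hv
        have h1 := PsiHom_mapsTo hF hkm c hc hbW hsp AD⁻¹ _ hv
        rw [map_inv] at h1
        change (((PsiHom hF hkm c hc AD)⁻¹ : GU n F q) : GL (Fin n) F).1 *ᵥ
          ((PsiHom hF hkm c hc AD : GU n F q) : GL (Fin n) F).1 *ᵥ v ∈ W at h1
        rw [Matrix.mulVec_mulVec, Subgroup.coe_inv, ← Units.val_mul, inv_mul_cancel,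
          Units.val_one, Matrix.one_mulVec] at h1
        exact h1
    · intro hg
      exact exists_PsiHom hF hkm c hc hbW hperp g (fun v hv => (hg v).mp hv)
  exact ⟨(MulEquiv.subgroupCongr hrange).symm.trans (MonoidHom.ofInjective hinj).symm⟩

end Cfsg.Agent.S0837
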