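import Mathlib
import Cfsg.Statements.S0838
import Cfsg.Agent.S0756

set_option autoImplicit false
open Cfsg

namespace Cfsg.Agent.S0838

open Module Matrix

variable {F : Type*} [Field F]

/-- The standard diagonal values. -/
def dvals (k : ℕ) (ε : F) (i : Fin (k + 1)) : F := if i = Fin.last k then ε else 1

theorem prod_dvals (k : ℕ) (ε : F) : ∏ i, dvals k ε i = ε := by
  unfold dvals
  rw [Finset.prod_ite_eq' Finset.univ (Fin.last k) (fun _ => ε)]
  simp

/-- A form and its multiple by a non-square cannot have the same diagonal shape in odd dimension. -/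
theorem shape_ne {V : Type*} [AddCommGroup V] [Module F V] {m : ℕ} {α : F} (hα : ¬ IsSquare α)
    (B : LinearMap.BilinForm F V) (b b' : Basis (Fin (2 * m + 1)) F V) (ε : F) (hε : ε ≠ 0)
    (hb : ∀ i j, B (b i) (b j) = if i = j then dvals (2 * m) ε i else 0)
    (hb' : ∀ i j, (α • B) (b' i) (b' j) = if i = j then dvals (2 * m) ε i else 0) : False := by
  have h1 : LinearMap.BilinForm.toMatrix b B = diagonal (dvals (2 * m) ε) := by
    ext i j
    rw [LinearMap.BilinForm.toMatrix_apply, hb, diagonal_apply]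
  have h2 : LinearMap.BilinForm.toMatrix b' (α • B) = diagonal (dvals (2 * m) ε) := by
    ext i j
    rw [LinearMap.BilinForm.toMatrix_apply, hb', diagonal_apply]
  have h3 := LinearMap.BilinForm.toMatrix_mul_basis_toMatrix b b' B
  rw [map_smul, ← h3, h1] at h2
  have h4 := congrArg Matrix.det h2
  rw [det_smul, det_mul, det_mul, det_transpose, det_diagonal, prod_dvals, Fintype.card_fin] at h4
  set D := (b.toMatrix b').det with hD
  have h5 : α ^ (2 * m + 1) * (D * D) = 1 := by
    have : (α ^ (2 * m + 1) * (D * D)) * ε = 1 * ε := by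
      rw [one_mul]
      linear_combination h4
    exact mul_right_cancel₀ hε this
  apply hα
  have hα0 : α ≠ 0 := by
    rintro rfl
    rw [zero_pow (by omega), zero_mul] at h5
    exact zero_ne_one h5
  have hne : α ^ m * D ≠ 0 := by
    intro h0
    have : α ^ (2 * m + 1) * (D * D) = α * (α ^ m * D) ^ 2 := by ring
    rw [this, h0] at h5
    simp at h5
  refine ⟨(α ^ m * D)⁻¹, ?_⟩
  have : α * ((α ^ m * D) * (α ^ m * D)) = 1 := by
    rw [← h5]; ring
  rw [← mul_inv]
  exact eq_inv_of_mul_eq_one_left this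

/-- Two forms with bases of the same diagonal shape are isometric. -/
theorem isometric_of_shape {V : Type*} [AddCommGroup V] [Module F V] {k : ℕ}
    (C B₂ : LinearMap.BilinForm F V) (b b₂ : Basis (Fin (k + 1)) F V) (ε : F)
    (hb : ∀ i j, C (b i) (b j) = if i = j then dvals k ε i else 0)
    (hb₂ : ∀ i j, B₂ (b₂ i) (b₂ j) = if i = j then dvals k ε i else 0) (v : V) :
    B₂ (b.equiv b₂ (Equiv.refl _) v) (b.equiv b₂ (Equiv.refl _) v) = C v v := by
  have : B₂.compl₁₂ (b.equiv b₂ (Equiv.refl _) : V →ₗ[F] V) (b.equiv b₂ (Equiv.refl _) : V →ₗ[F] V) =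
      C := by
    apply LinearMap.BilinForm.ext_basis b
    intro i j
    rw [LinearMap.compl₁₂_apply, LinearEquiv.coe_coe, Basis.equiv_apply, Basis.equiv_apply,
      Equiv.refl_apply, Equiv.refl_apply, hb₂, hb]
  rw [← this, LinearMap.compl₁₂_apply]
  rfl

variable [Fintype F]

/-- The normal form of S0756 in terms of `dvals`. -/
theorem exists_shape (h2 : (2 : F) ≠ 0) {α : F} (hα : ¬ IsSquare α) {V : Type*} [AddCommGroup V]
    [Module F V] [FiniteDimensional F V] {k : ℕ} (hk : finrank F V = k + 1)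
    (B : LinearMap.BilinForm F V) (hS : B.IsSymm) (hB : B.Nondegenerate) :
    ∃ (b : Basis (Fin (k + 1)) F V) (ε : F), (ε = 1 ∨ ε = α) ∧
      ∀ i j, B (b i) (b j) = if i = j then dvals k ε i else 0 := by
  obtain ⟨b, h1, h2', h3⟩ := Cfsg.Agent.S0756.result h2 B hS hB hk α hα
  refine ⟨b, B (b (Fin.last k)) (b (Fin.last k)), h3, ?_⟩
  intro i j
  by_cases hij : i = j
  · subst hij
    rw [if_pos rfl]
    unfold dvals
    by_cases hi : i = Fin.last k
    · rw [if_pos hi, hi]
    · rw [if_neg hi, h2' i hi]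
  · rw [if_neg hij, h1 i j hij]

/-- Over a finite field with 2 ≠ 0 and n odd: two quadratic forms Q₁, Q₂ on F^n with non-degenerate polar forms are similar — there are an invertible linear map g and a scalar c ≠ 0 with Q₂ (g v) = c · Q₁ v for all v. -/
theorem result {F : Type*} [Field F] [Fintype F] (h2 : (2 : F) ≠ 0) {n : ℕ} (hn : Odd n) (Q₁ Q₂ : QuadraticForm F (Fin n → F)) (h₁ : (QuadraticMap.polarBilin Q₁).Nondegenerate) (h₂ : (QuadraticMap.polarBilin Q₂).Nondegenerate) : ∃ (g : (Fin n → F) ≃ₗ[F] (Fin n → F)) (c : F), c ≠ 0 ∧ ∀ v, Q₂ (g v) = c * Q₁ v := by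
  obtain ⟨m, rfl⟩ := hn
  have hF : ringChar F ≠ 2 := by
    intro h
    have : CharP F 2 := ringChar.of_eq h
    exact h2 (CharP.cast_eq_zero F 2)
  obtain ⟨α, hα⟩ := FiniteField.exists_nonsquare hF
  have hα0 : α ≠ 0 := by
    rintro rfl
    exact hα ⟨0, by simp⟩
  have hk : finrank F (Fin (2 * m + 1) → F) = 2 * m + 1 := by simp
  set B₁ := QuadraticMap.polarBilin Q₁ with hB₁
  set B₂ := QuadraticMap.polarBilin Q₂ with hB₂
  have hS₁ : LinearMap.BilinForm.IsSymm B₁ := ⟨fun x y => QuadraticMap.polar_comm _ x y⟩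
  have hS₂ : LinearMap.BilinForm.IsSymm B₂ := ⟨fun x y => QuadraticMap.polar_comm _ x y⟩
  have hSα : LinearMap.BilinForm.IsSymm (α • B₁) := hS₁.smul α
  have hNα : (α • B₁).Nondegenerate := by
    constructor
    · intro x hx
      apply h₁.1 x
      intro y
      have := hx y
      rw [LinearMap.smul_apply, LinearMap.smul_apply, smul_eq_mul] at this
      exact (mul_eq_zero.mp this).resolve_left hα0
    · intro y hy
      apply h₁.2 y
      intro x
      have := hy x
      rw [LinearMap.smul_apply, LinearMap.smul_apply, smul_eq_mul] at this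
      exact (mul_eq_zero.mp this).resolve_left hα0
  obtain ⟨b₁, ε₁, hε₁, hb₁⟩ := exists_shape h2 hα hk B₁ hS₁ h₁
  obtain ⟨b₁', ε₁', hε₁', hb₁'⟩ := exists_shape h2 hα hk (α • B₁) hSα hNα
  obtain ⟨b₂, ε₂, hε₂, hb₂⟩ := exists_shape h2 hα hk B₂ hS₂ h₂
  have hne : ε₁ ≠ ε₁' := by
    intro h
    have hε0 : ε₁ ≠ 0 := by
      rcases hε₁ with h' | h' <;> rw [h']
      · exact one_ne_zero
      · exact hα0
    rw [← h] at hb₁'
    exact shape_ne hα B₁ b₁ b₁' ε₁ hε0 hb₁ hb₁'
  have hQ : ∀ (Q : QuadraticForm F (Fin (2 * m + 1) → F)) (v : Fin (2 * m + 1) → F),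
      Q v = (2 : F)⁻¹ * QuadraticMap.polarBilin Q v v := by
    intro Q v
    rw [QuadraticMap.polarBilin_apply_apply, QuadraticMap.polar_self, two_smul, ← two_mul,
      ← mul_assoc, inv_mul_cancel₀ h2, one_mul]
  by_cases h12 : ε₂ = ε₁
  · refine ⟨b₁.equiv b₂ (Equiv.refl _), 1, one_ne_zero, ?_⟩
    intro v
    rw [hQ Q₂, hQ Q₁, one_mul]
    congr 1
    rw [h12] at hb₂
    exact isometric_of_shape B₁ B₂ b₁ b₂ ε₁ hb₁ hb₂ v
  · have h12' : ε₂ = ε₁' := by
      rcases hε₁ with h' | h' <;> rcases hε₁' with h'' | h'' <;> rcases hε₂ with h''' | h''' <;>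
        simp_all
    refine ⟨b₁'.equiv b₂ (Equiv.refl _), α, hα0, ?_⟩
    intro v
    rw [hQ Q₂, hQ Q₁]
    rw [h12'] at hb₂
    have := isometric_of_shape (α • B₁) B₂ b₁' b₂ ε₁' hb₁' hb₂ v
    rw [hB₂] at this
    rw [this, LinearMap.smul_apply, LinearMap.smul_apply, smul_eq_mul]
    ring

end Cfsg.Agent.S0838
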