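import Mathlib
import Cfsg.Statements.S0839

set_option autoImplicit false
open Cfsg

namespace Cfsg.Agent.S0839

open scoped LinearAlgebra.Projectivization
open Matrix

variable {F : Type*} [Field F] {ι : Type*} [Fintype ι] [DecidableEq ι]

/-- A matrix of rank one is an outer product. -/
theorem exists_vecMulVec_of_rank_one (N : Matrix ι ι F) (h : N.rank = 1) :
    ∃ u c : ι → F, N = vecMulVec u c := by
  unfold Matrix.rank at h
  obtain ⟨u', -, hu'⟩ := finrank_eq_one_iff'.mp h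
  have hex : ∀ j : ι, ∃ c : F, c • (u' : ι → F) = N *ᵥ Pi.single j 1 := by
    intro j
    obtain ⟨c, hc⟩ := hu' ⟨N *ᵥ Pi.single j 1, ⟨Pi.single j 1, rfl⟩⟩
    exact ⟨c, congrArg Subtype.val hc⟩
  choose c hc using hex
  refine ⟨(u' : ι → F), c, ?_⟩
  ext i j
  have := congrFun (hc j) i
  rw [Matrix.mulVec_single_one] at this
  rw [Matrix.vecMulVec_apply, mul_comm]
  exact this.symm

theorem sl_smul_mk (g : Matrix.SpecialLinearGroup ι F) {v : ι → F} (hv : v ≠ 0)
    (hv' : (g : Matrix ι ι F) *ᵥ v ≠ 0) :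
    g • Projectivization.mk F v hv = Projectivization.mk F ((g : Matrix ι ι F) *ᵥ v) hv' :=
  rfl

theorem sl_mulVec_ne_zero (g : Matrix.SpecialLinearGroup ι F) {v : ι → F} (hv : v ≠ 0) :
    (g : Matrix ι ι F) *ᵥ v ≠ 0 := by
  intro h
  apply hv
  have := congrArg (fun w => ((g⁻¹ : Matrix.SpecialLinearGroup ι F) : Matrix ι ι F) *ᵥ w) h
  simp only [Matrix.mulVec_mulVec, Matrix.mulVec_zero] at this
  rw [← Matrix.SpecialLinearGroup.coe_mul, inv_mul_cancel, Matrix.SpecialLinearGroup.coe_one,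
    Matrix.one_mulVec] at this
  exact this

/-- Every transvection t ∈ SL_(n+2)(F) (rank(t − 1) = 1, (t − 1)² = 0) is conjugate in SL_(n+2)(F) to 1 + v·e_0ᵀ for some column vector v with v_0 = 0 (the group A of matrices that are the identity except in the first column below the diagonal); the dimension is written n + 2 ≥ 2. -/
theorem result {F : Type*} [Field F] (n : ℕ) (t : Matrix.SpecialLinearGroup (Fin (n + 2)) F) (ht : Cfsg.IsTransvection (t : Matrix (Fin (n + 2)) (Fin (n + 2)) F)) : ∃ (g : Matrix.SpecialLinearGroup (Fin (n + 2)) F) (v : Fin (n + 2) → F), v 0 = 0 ∧ ((g⁻¹ * t * g : Matrix.SpecialLinearGroup (Fin (n + 2)) F) : Matrix (Fin (n + 2)) (Fin (n + 2)) F) = 1 + Matrix.vecMulVec v (Pi.single 0 1) := by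
  obtain ⟨hrank, hsq⟩ := ht
  obtain ⟨u, c, hN⟩ := exists_vecMulVec_of_rank_one _ hrank
  have hN0 : vecMulVec u c ≠ 0 := by
    intro h0
    rw [hN, h0, Matrix.rank_zero] at hrank
    exact zero_ne_one hrank
  have hc0 : c ≠ 0 := by
    rintro rfl
    apply hN0
    ext i j
    simp [vecMulVec_apply]
  have hcu : c ⬝ᵥ u = 0 := by
    rw [hN, vecMulVec_mul_vecMulVec] at hsq
    by_contra hne
    apply hN0
    ext i j
    have := congrFun (congrFun hsq i) j
    simp only [vecMulVec_apply, Pi.smul_apply, smul_eq_mul, Matrix.zero_apply] at this ⊢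
    have h2 : (c ⬝ᵥ u) * (u i * c j) = 0 := by rw [← this]; ring
    exact (mul_eq_zero.mp h2).resolve_left hne
  have he0 : (Pi.single 0 1 : Fin (n + 2) → F) ≠ 0 := by
    intro h
    have := congrFun h 0
    simp at this
  obtain ⟨k, hk⟩ := MulAction.exists_smul_eq (Matrix.SpecialLinearGroup (Fin (n + 2)) F)
    (Projectivization.mk F (Pi.single 0 1 : Fin (n + 2) → F) he0) (Projectivization.mk F c hc0)
  rw [sl_smul_mk k he0 (sl_mulVec_ne_zero k he0), Projectivization.mk_eq_mk_iff'] at hk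
  obtain ⟨a, ha⟩ := hk
  have ha0 : a ≠ 0 := by
    rintro rfl
    rw [zero_smul] at ha
    exact sl_mulVec_ne_zero k he0 ha.symm
  have hc : c = a⁻¹ • ((k : Matrix (Fin (n + 2)) (Fin (n + 2)) F) *ᵥ Pi.single 0 1) := by
    rw [← ha, smul_smul, inv_mul_cancel₀ ha0, one_smul]
  obtain ⟨h, hh⟩ : ∃ h : Matrix.SpecialLinearGroup (Fin (n + 2)) F,
      (h : Matrix (Fin (n + 2)) (Fin (n + 2)) F) = (k : Matrix (Fin (n + 2)) (Fin (n + 2)) F)ᵀ :=
    ⟨⟨(k : Matrix (Fin (n + 2)) (Fin (n + 2)) F)ᵀ, by rw [det_transpose]; exact k.2⟩, rfl⟩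
  refine ⟨h⁻¹, a⁻¹ • ((h : Matrix (Fin (n + 2)) (Fin (n + 2)) F) *ᵥ u), ?_, ?_⟩
  · rw [Pi.smul_apply, hh, Matrix.mulVec, smul_eq_mul]
    have h1 : (fun j => (k : Matrix (Fin (n + 2)) (Fin (n + 2)) F)ᵀ 0 j) =
        (k : Matrix (Fin (n + 2)) (Fin (n + 2)) F) *ᵥ Pi.single 0 1 := by
      rw [Matrix.mulVec_single_one]
      rfl
    rw [h1, ← ha, smul_dotProduct, hcu, smul_zero, mul_zero]
  · rw [inv_inv]
    have ht : (t : Matrix (Fin (n + 2)) (Fin (n + 2)) F) = 1 + vecMulVec u c := by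
      rw [← hN]; abel
    have hinv : (h : Matrix (Fin (n + 2)) (Fin (n + 2)) F) *
        ((h⁻¹ : Matrix.SpecialLinearGroup (Fin (n + 2)) F) : Matrix (Fin (n + 2)) (Fin (n + 2)) F) = 1 := by
      rw [← Matrix.SpecialLinearGroup.coe_mul, mul_inv_cancel, Matrix.SpecialLinearGroup.coe_one]
    have hcv : c ᵥ* ((h⁻¹ : Matrix.SpecialLinearGroup (Fin (n + 2)) F) :
        Matrix (Fin (n + 2)) (Fin (n + 2)) F) = a⁻¹ • Pi.single 0 1 := by
      rw [hc, ← Matrix.vecMul_transpose, ← hh, Matrix.smul_vecMul, Matrix.vecMul_vecMul, hinv,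
        Matrix.vecMul_one]
    change (h : Matrix (Fin (n + 2)) (Fin (n + 2)) F) * (t : Matrix (Fin (n + 2)) (Fin (n + 2)) F) *
      ((h⁻¹ : Matrix.SpecialLinearGroup (Fin (n + 2)) F) : Matrix (Fin (n + 2)) (Fin (n + 2)) F) = _
    rw [ht, mul_add, mul_one, add_mul, hinv, Matrix.mul_vecMulVec, Matrix.vecMulVec_mul, hcv]
    congr 1
    ext i j
    simp only [vecMulVec_apply, Pi.smul_apply, smul_eq_mul]
    ring

end Cfsg.Agent.S0839
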