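import Cfsg.Statements.S0840
import Mathlib
import Cfsg.Agent.Helper6.ClassMult
import Cfsg.Agent.Helper6.IrrBasis
-- import your own Cfsg.Agent.* helpers here

set_option autoImplicit false
open scoped ComplexConjugate
open Cfsg

namespace Cfsg.Agent.S0840

/-- Class multiplication coefficients from the character table: for elements a, b, c of a finite group G, the number of ordered pairs (x, y) with x conjugate to a, y conjugate to b and x * y = c equals the product of the sizes of the conjugacy classes of a and b, divided by the order of G, times the sum over the irreducible characters χ of χ a * χ b * conj (χ c) / χ 1. -/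
theorem result {G : Type*} [Group G] [Finite G] (a b c : G) : (Nat.card {p : G × G // IsConj a p.1 ∧ IsConj b p.2 ∧ p.1 * p.2 = c} : ℂ) = (Nat.card {x : G // IsConj a x} : ℂ) * (Nat.card {x : G // IsConj b x} : ℂ) / (Nat.card G : ℂ) * ∑ᶠ χ : Cfsg.IrrCharacter G, (χ : G → ℂ) a * (χ : G → ℂ) b * conj ((χ : G → ℂ) c) / (χ : G → ℂ) 1 := by
  classical
  haveI := Fintype.ofFinite G
  haveI : Finite (Cfsg.IrrCharacter G) := Cfsg.Agent.Helper6.irr_finite
  haveI : Fintype (Cfsg.IrrCharacter G) := Fintype.ofFinite _
  rw [finsum_eq_sum_of_fintype]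
  have hA : ∀ g : G, Nat.card {x : G // IsConj g x} = (Cfsg.Agent.Helper6.classFinset g).card := by
    intro g
    rw [Nat.card_eq_fintype_card, Fintype.card_subtype]
    congr 1
  rw [hA a, hA b, ← Cfsg.Agent.Helper6.class_mult_count a b c]
  rw [Nat.card_eq_fintype_card, Fintype.card_subtype]
  rw [Finset.card_filter, Nat.cast_sum, Fintype.sum_prod_type]
  have hx : ∀ x : G, ∑ y : G, ((if IsConj a (x, y).1 ∧ IsConj b (x, y).2 ∧ (x, y).1 * (x, y).2 = c
      then (1 : ℕ) else 0 : ℕ) : ℂ) =
      if IsConj a x then ∑ y ∈ Cfsg.Agent.Helper6.classFinset b,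
        (if x * y = c then (1 : ℂ) else 0) else 0 := by
    intro x
    by_cases hxa : IsConj a x
    · rw [if_pos hxa]
      have : Cfsg.Agent.Helper6.classFinset b = Finset.univ.filter (fun y => IsConj b y) := by
        ext y
        simp [Cfsg.Agent.Helper6.mem_classFinset]
      rw [this, Finset.sum_filter]
      apply Finset.sum_congr rfl
      intro y _
      by_cases hyb : IsConj b y
      · rw [if_pos hyb]
        by_cases hc : x * y = c
        · rw [if_pos hc, if_pos ⟨hxa, hyb, hc⟩, Nat.cast_one]
        · rw [if_neg hc, if_neg (fun h => hc h.2.2), Nat.cast_zero]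
      · rw [if_neg hyb, if_neg (fun h => hyb h.2.1), Nat.cast_zero]
    · rw [if_neg hxa]
      apply Finset.sum_eq_zero
      intro y _
      rw [if_neg (fun h => hxa h.1), Nat.cast_zero]
  simp_rw [hx]
  have : Cfsg.Agent.Helper6.classFinset a = Finset.univ.filter (fun y => IsConj a y) := by
    ext y
    simp [Cfsg.Agent.Helper6.mem_classFinset]
  rw [this, Finset.sum_filter]

end Cfsg.Agent.S0840
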