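import Mathlib
import Cfsg.Statements.S0844
import Cfsg.Agent.Helper2.BSuzJ
import Cfsg.Agent.Helper2.BSuzM

set_option autoImplicit false
open Cfsg

namespace Cfsg.Agent.S0844

open Cfsg.Agent.Helper2

/-- Suppose a Sylow 2-subgroup S of the finite group G is generalized quaternion of order at least 16. Then G has two non-principal irreducible characters χ₁ and χ₂ with χ₁ 1 = χ₂ 1 + 1 such that χ₁ g - χ₂ g = 1 for every element g whose order is not divisible by 4. -/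
theorem result {G : Type*} [Group G] [Fintype G] (S : Sylow 2 G) (n : ℕ) (e : (S : Subgroup G) ≃* QuaternionGroup (2 ^ (n + 2))) : ∃ χ₁ χ₂ : G → ℂ, Cfsg.IsIrrCharacter G χ₁ ∧ Cfsg.IsIrrCharacter G χ₂ ∧ χ₁ ≠ (fun _ => 1) ∧ χ₂ ≠ (fun _ => 1) ∧ χ₁ 1 = χ₂ 1 + 1 ∧ ∀ g : G, ¬ 4 ∣ orderOf g → χ₁ g - χ₂ g = 1 := by
    classical
    obtain ⟨H, X, θ, χ₁, χ₂, z, hTI, hXinv, hX4, hθX, hθ1, hz2, hzuniq, h1, h2, h3, h4, h5, h6⟩ :=
      Cfsg.Agent.Helper2.BSuzJ.bs_main S n e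
    refine ⟨χ₁, χ₂, h1, h2, h3, h4, h5, ?_⟩
    intro g hg
    have h7 := Cfsg.Agent.Helper2.BSuzM.indFun_eq_zero H X θ hX4 hθX g hg
    rw [h6] at h7
    simp only [Pi.add_apply, Pi.sub_apply] at h7
    linear_combination -h7

end Cfsg.Agent.S0844
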