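import Cfsg.Statements.S0855
import Mathlib
import Cfsg.Agent.S4456
import Cfsg.Agent.Helper6.Ito
import Cfsg.Agent.Helper6.Linear
import Cfsg.Agent.Helper6.IrrOver
import Cfsg.Agent.Helper6.CliffordCorr
-- import your own Cfsg.Agent.* helpers here

set_option autoImplicit false
open Cfsg

namespace Cfsg.Agent.S0855

/-- For a finite group G and a prime p: every irreducible character of G has degree a power of p if and only if G has an abelian normal subgroup whose order is prime to p and whose index is a power of p. -/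
theorem result {G : Type*} [Group G] [Finite G] (p : ℕ) (hp : p.Prime) : (∀ χ : Cfsg.IrrCharacter G, ∃ k : ℕ, (χ : G → ℂ) 1 = (p : ℂ) ^ k) ↔ ∃ A : Subgroup G, A.Normal ∧ (∀ a ∈ A, ∀ b ∈ A, a * b = b * a) ∧ Nat.Coprime (Nat.card A) p ∧ ∃ k : ℕ, A.index = p ^ k := by
  classical
  haveI := Fintype.ofFinite G
  constructor
  · intro hall
    have hdeg : ∀ χ : Cfsg.IrrCharacter G, Cfsg.charDegree (χ : G → ℂ) ≠ 1 →
        p ∣ Cfsg.charDegree (χ : G → ℂ) := by
      intro χ hne
      obtain ⟨k, hk⟩ := hall χ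
      have hcast := Helper6.charDegree_cast_of_isCharacter (Helper6.IsIrrCharacter.isCharacter χ.2)
      have h1 : Cfsg.charDegree (χ : G → ℂ) = p ^ k := by
        have : (Cfsg.charDegree (χ : G → ℂ) : ℂ) = ((p ^ k : ℕ) : ℂ) := by
          rw [hcast, hk]; push_cast; rfl
        exact_mod_cast this
      rw [h1] at hne ⊢
      rcases Nat.eq_zero_or_pos k with h0 | hpos
      · rw [h0, pow_zero] at hne
        exact absurd rfl hne
      · exact dvd_pow_self p hpos.ne'
    obtain ⟨N, hNn, hcop, k, hidx⟩ := Cfsg.Agent.S4456.result (G := G) p hp hdeg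
    haveI := hNn
    haveI : Fintype N := Fintype.ofFinite _
    refine ⟨N, hNn, ?_, hcop, k, hidx⟩
    have hlin : ∀ θ : Cfsg.IrrCharacter N, (θ : N → ℂ) 1 = 1 := by
      intro θ
      obtain ⟨χ, hne⟩ := Helper6.exists_irr_over N θ
      obtain ⟨j, hj⟩ := hall χ
      have hcl := Helper6.clifford_degree N (χ : G → ℂ) χ.2 (θ : N → ℂ) θ.2 hne
        (Helper6.conjStab N (θ : N → ℂ)) (fun g => Iff.rfl)
      have hres : Cfsg.IsCharacter N (fun n : N => (χ : G → ℂ) n) :=
        Helper6.IsCharacter.restrict N (Helper6.IsIrrCharacter.isCharacter χ.2)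
      obtain ⟨m, hm⟩ := Helper6.classInner_char_char_nat hres (Helper6.IsIrrCharacter.isCharacter θ.2)
      obtain ⟨d, hd, hdvd, hdpos⟩ := Helper6.IsIrrCharacter.degree_dvd_card θ.2
      rw [hm, hd, hj] at hcl
      have hnat : p ^ j = m * (Helper6.conjStab N (θ : N → ℂ)).index * d := by
        exact_mod_cast hcl
      have hdp : d ∣ p ^ j := ⟨m * (Helper6.conjStab N (θ : N → ℂ)).index, by rw [hnat]; ring⟩
      obtain ⟨i, -, hi⟩ := (Nat.dvd_prime_pow hp).mp hdp
      have hi0 : i = 0 := by
        by_contra h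
        have : p ∣ d := by rw [hi]; exact dvd_pow_self p h
        have h2 : p ∣ Nat.card N := this.trans hdvd
        have h3 := Nat.Coprime.eq_one_of_dvd hcop.symm h2
        exact hp.one_lt.ne' h3
      rw [hd, hi, hi0, pow_zero, Nat.cast_one]
    have hcomm := (Helper6.comm_iff_forall_irr_degree_one (G := N)).mpr hlin
    intro a ha b hb
    have := hcomm ⟨a, ha⟩ ⟨b, hb⟩
    exact congrArg Subtype.val this
  · rintro ⟨A, hAn, hab, hcop, k, hidx⟩ χ
    haveI := hAn
    obtain ⟨n, ρ, hirr, hρ⟩ := χ.2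
    haveI := hirr
    have hito := Helper6.ito ρ A hab
    rw [hidx, Module.finrank_fin_fun] at hito
    obtain ⟨j, -, hj⟩ := (Nat.dvd_prime_pow hp).mp hito
    refine ⟨j, ?_⟩
    rw [← hρ, Representation.char_one, Module.finrank_fin_fun, hj]
    push_cast
    rfl

end Cfsg.Agent.S0855
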