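import Cfsg.Statements.S0859
import Mathlib
import Cfsg.Agent.Helper6.RelMC
-- import your own Cfsg.Agent.* helpers here

set_option autoImplicit false
open Cfsg

namespace Cfsg.Agent.S0859

/-- Let G be a finite solvable group and N a normal subgroup such that for every prime p every Sylow p-subgroup of N is abelian. Suppose every irreducible character of G is induced from an irreducible character of some subgroup containing N whose restriction to N is irreducible. Then every irreducible character of G is induced from a character of degree 1 of some subgroup. -/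
theorem result {G : Type*} [Group G] [Fintype G] [Group.IsSolvable G] (N : Subgroup G) [N.Normal] (hab : ∀ (p : ℕ) [Fact p.Prime] (P : Sylow p N), ∀ a ∈ P, ∀ b ∈ P, a * b = b * a) (hrel : ∀ χ : G → ℂ, Cfsg.IsIrrCharacter G χ → ∃ (H : Subgroup G) (hNH : N ≤ H) (ψ : H → ℂ), Cfsg.IsIrrCharacter H ψ ∧ Cfsg.indFun H ψ = χ ∧ Cfsg.IsIrrCharacter N (fun n : N => ψ ⟨(n : G), hNH n.2⟩)) (χ : G → ℂ) (hχ : Cfsg.IsIrrCharacter G χ) : ∃ (U : Subgroup G) (lam : U → ℂ), Cfsg.IsCharacter U lam ∧ lam 1 = 1 ∧ Cfsg.indFun U lam = χ := by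
  classical
  obtain ⟨H, hNH, ψ, hψ, hind, hθ⟩ := hrel χ hχ
  haveI : Fintype H := Fintype.ofFinite _
  have hAS : ∀ (p : ℕ) [Fact p.Prime] (Q : Subgroup H), Q ≤ N.subgroupOf H → IsPGroup p Q →
      ∀ a ∈ Q, ∀ b ∈ Q, a * b = b * a := by
    intro p _ Q hQN hQp a ha b hb
    have hQ'' : IsPGroup p ((Q.map H.subtype).comap N.subtype) :=
      (hQp.map H.subtype).comap_subtype
    obtain ⟨P, hP⟩ := hQ''.exists_le_sylow
    have haN : ((a : H) : G) ∈ N := Subgroup.mem_subgroupOf.mp (hQN ha)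
    have hbN : ((b : H) : G) ∈ N := Subgroup.mem_subgroupOf.mp (hQN hb)
    have haP : (⟨((a : H) : G), haN⟩ : N) ∈ P := hP ⟨a, ha, rfl⟩
    have hbP : (⟨((b : H) : G), hbN⟩ : N) ∈ P := hP ⟨b, hb, rfl⟩
    have h1 := hab p P _ haP _ hbP
    have h2 := congrArg (Subtype.val : N → G) h1
    apply Subtype.ext
    exact h2
  have hθ' : Cfsg.IsIrrCharacter (N.subgroupOf H) (fun x : N.subgroupOf H => ψ x) := by
    have h1 := Helper6.IsIrrCharacter.comp_mulEquiv (Subgroup.subgroupOfEquivOfLe hNH) hθ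
    exact h1
  obtain ⟨U', lam', hψ'⟩ := Helper6.relM_aux _ H rfl (N.subgroupOf H) hAS ψ hψ hθ'
  refine ⟨U'.map H.subtype, fun h => ((lam'
    ((Subgroup.equivMapOfInjective U' H.subtype H.subtype_injective).symm h) : ℂˣ) : ℂ), ?_, ?_, ?_⟩
  · exact Helper6.IsIrrCharacter.isCharacter (Helper6.isIrrCharacter_of_hom (lam'.comp
      (Subgroup.equivMapOfInjective U' H.subtype H.subtype_injective).symm.toMonoidHom))
  · simp
  · rw [← hind, hψ', Helper6.indFun_indFun_subtype]

end Cfsg.Agent.S0859
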