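import Cfsg.Statements.S0860
import Mathlib
import Cfsg.Agent.Helper6.BrauerPerm
-- import your own Cfsg.Agent.* helpers here

set_option autoImplicit false
open Cfsg

namespace Cfsg.Agent.S0860

/-- Let a group A act on the set of irreducible characters and on the set of conjugacy classes of a finite group G in such a way that (a • χ) evaluated on the class a • C equals χ evaluated on C, for all a, χ and C. Then every element of A fixes exactly as many irreducible characters as it fixes conjugacy classes. -/
theorem result {G : Type*} [Group G] [Finite G] {A : Type*} [Group A] [MulAction A (Cfsg.IrrCharacter G)] [MulAction A (ConjClasses G)] (hcompat : ∀ (a : A) (χ : Cfsg.IrrCharacter G) (g g' : G), ConjClasses.mk g' = a • ConjClasses.mk g → ((a • χ : Cfsg.IrrCharacter G) : G → ℂ) g' = (χ : G → ℂ) g) (a : A) : Nat.card {χ : Cfsg.IrrCharacter G // a • χ = χ} = Nat.card {C : ConjClasses G // a • C = C} := by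
  classical
  haveI := Fintype.ofFinite G
  haveI : Finite (Cfsg.IrrCharacter G) := Cfsg.Agent.Helper6.irr_finite
  haveI : Fintype (Cfsg.IrrCharacter G) := Fintype.ofFinite _
  -- a representative of the class a⁻¹ • [g]
  have hσ : ∀ g : G, ∃ g₀ : G, ConjClasses.mk g₀ = a⁻¹ • ConjClasses.mk g := fun g =>
    ConjClasses.mk_surjective _
  choose σ hσ using hσ
  have hval : ∀ (χ : Cfsg.IrrCharacter G) (g : G),
      ((a • χ : Cfsg.IrrCharacter G) : G → ℂ) g = (χ : G → ℂ) (σ g) := by
    intro χ g
    apply hcompat
    rw [hσ, smul_inv_smul]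
  -- character side
  have hchar : ∑ χ : Cfsg.IrrCharacter G,
      Cfsg.classInner ((a • χ : Cfsg.IrrCharacter G) : G → ℂ) (χ : G → ℂ) =
      (Nat.card {χ : Cfsg.IrrCharacter G // a • χ = χ} : ℂ) := by
    have : ∀ χ : Cfsg.IrrCharacter G,
        Cfsg.classInner ((a • χ : Cfsg.IrrCharacter G) : G → ℂ) (χ : G → ℂ) =
        if a • χ = χ then 1 else 0 := by
      intro χ
      split_ifs with h
      · rw [h, Cfsg.Agent.Helper6.classInner_irr_self χ.2]
      · exact Cfsg.Agent.Helper6.classInner_irr_ne (a • χ).2 χ.2 (fun e => h (Subtype.ext e))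
    simp_rw [this]
    rw [Finset.sum_boole, Nat.card_eq_fintype_card, Fintype.card_subtype]
  -- class side
  let F : ConjClasses G → ℂ := fun C => if a • C = C then 1 else 0
  have hF : ∀ g : G, F (ConjClasses.mk g) = if IsConj (σ g) g then 1 else 0 := by
    intro g
    have hiff : a • ConjClasses.mk g = ConjClasses.mk g ↔ IsConj (σ g) g := by
      rw [← ConjClasses.mk_eq_mk_iff_isConj, hσ]
      constructor
      · intro h
        rw [inv_smul_eq_iff, h]
      · intro h
        rw [inv_smul_eq_iff] at h
        exact h.symm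
    simp only [F, hiff]
  have hclass : ∑ χ : Cfsg.IrrCharacter G,
      Cfsg.classInner ((a • χ : Cfsg.IrrCharacter G) : G → ℂ) (χ : G → ℂ) =
      ∑ C : ConjClasses G, F C := by
    rw [← Cfsg.Agent.Helper6.sum_div_card_class F]
    simp_rw [Cfsg.Agent.Helper6.classInner_def, ← Finset.mul_sum]
    rw [Finset.sum_comm, Finset.mul_sum]
    apply Finset.sum_congr rfl
    intro g _
    simp only [hval]
    have hco := Cfsg.Agent.Helper6.column_orthogonality_aux g (σ g)
    have hco2 : ∑ χ : Cfsg.IrrCharacter G, (χ : G → ℂ) (σ g) * (starRingEnd ℂ) ((χ : G → ℂ) g) =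
        if IsConj g (σ g) then (Nat.card (Subgroup.centralizer ({g} : Set G)) : ℂ) else 0 := by
      have := congrArg (starRingEnd ℂ) hco
      rw [map_sum] at this
      simp only [map_mul, Complex.conj_conj] at this
      rw [apply_ite (starRingEnd ℂ), Complex.conj_natCast, map_zero] at this
      rw [← this]
      apply Finset.sum_congr rfl
      intro χ _
      ring
    rw [hco2, hF]
    by_cases h : IsConj (σ g) g
    · rw [if_pos h, if_pos h.symm]
      ring
    · rw [if_neg h, if_neg (fun h' => h h'.symm)]
      ring
  have hfin : ∑ C : ConjClasses G, F C =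
      (Nat.card {C : ConjClasses G // a • C = C} : ℂ) := by
    simp only [F]
    rw [Finset.sum_boole, Nat.card_eq_fintype_card, Fintype.card_subtype]
  have := hchar.symm.trans (hclass.trans hfin)
  exact_mod_cast this

end Cfsg.Agent.S0860
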