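import Cfsg.Statements.S0869
import Mathlib
-- import your own Cfsg.Agent.* helpers here

set_option autoImplicit false
open Cfsg

namespace Cfsg.Agent.S0869

/-- Let S be a nonempty finite type and R an additive subgroup of the integer-valued functions on S that is closed under pointwise multiplication. If the constant function 1 is not in R, then there exist a point x of S and a prime p such that p divides f x for every f in R. -/
theorem result {S : Type*} [Finite S] [Nonempty S] (R : AddSubgroup (S → ℤ)) (hmul : ∀ f ∈ R, ∀ g ∈ R, f * g ∈ R) (h1 : (1 : S → ℤ) ∉ R) : ∃ (x : S) (p : ℕ), p.Prime ∧ ∀ f ∈ R, (p : ℤ) ∣ f x := by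
  classical
  by_contra hcon
  push Not at hcon
  -- every evaluation is onto
  have hone : ∀ x : S, ∃ f ∈ R, f x = 1 := by
    intro x
    let I : AddSubgroup ℤ := R.map (Pi.evalAddMonoidHom (fun _ : S => ℤ) x)
    obtain ⟨a, ha⟩ := Int.subgroup_cyclic I
    have hI : ∀ f ∈ R, a ∣ f x := by
      intro f hf
      have hmem : f x ∈ I := ⟨f, hf, rfl⟩
      rw [ha, ← AddSubgroup.zmultiples_eq_closure, AddSubgroup.mem_zmultiples_iff] at hmem
      obtain ⟨k, hk⟩ := hmem
      exact ⟨k, by rw [← hk, smul_eq_mul, mul_comm]⟩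
    have haI : a ∈ I := by
      rw [ha]
      exact AddSubgroup.subset_closure (Set.mem_singleton a)
    obtain ⟨f, hf, hfa⟩ := haI
    by_cases h1a : a.natAbs = 1
    · rcases Int.natAbs_eq a with h | h
      · refine ⟨f, hf, ?_⟩
        show f x = 1
        have : (Pi.evalAddMonoidHom (fun _ : S => ℤ) x) f = f x := rfl
        rw [← this, hfa, h, h1a]
        rfl
      · refine ⟨-f, R.neg_mem hf, ?_⟩
        have : (Pi.evalAddMonoidHom (fun _ : S => ℤ) x) f = f x := rfl
        rw [Pi.neg_apply, ← this, hfa, h, h1a]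
        rfl
    · exfalso
      obtain ⟨p, hp, hpa⟩ := Nat.exists_prime_and_dvd h1a
      obtain ⟨g, hg, hgp⟩ := hcon x p hp
      apply hgp
      have hpa' : (p : ℤ) ∣ a := Int.natCast_dvd.mpr hpa
      exact hpa'.trans (hI g hg)
  choose F hFR hF1 using hone
  haveI : Fintype S := Fintype.ofFinite S
  have hprod : ∀ T : Finset S, (1 : S → ℤ) - ∏ x ∈ T, (1 - F x) ∈ R := by
    intro T
    induction T using Finset.induction_on with
    | empty =>
      rw [Finset.prod_empty, sub_self]
      exact R.zero_mem
    | insert a T haT ih =>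
      rw [Finset.prod_insert haT]
      have : (1 : S → ℤ) - (1 - F a) * ∏ x ∈ T, (1 - F x) =
          (1 - ∏ x ∈ T, (1 - F x)) + F a - F a * (1 - ∏ x ∈ T, (1 - F x)) := by ring
      rw [this]
      exact R.sub_mem (R.add_mem ih (hFR a)) (hmul _ (hFR a) _ ih)
  have hzero : ∏ x : S, (1 - F x) = (0 : S → ℤ) := by
    funext y
    rw [Finset.prod_apply]
    apply Finset.prod_eq_zero (Finset.mem_univ y)
    rw [Pi.sub_apply, Pi.one_apply, hF1 y, sub_self]
  have := hprod Finset.univ
  rw [hzero, sub_zero] at this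
  exact h1 this

end Cfsg.Agent.S0869
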