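import Cfsg.Statements.S0873
import Mathlib
import Cfsg.Agent.Helper6.Linear
-- import your own Cfsg.Agent.* helpers here

set_option autoImplicit false
open Cfsg

namespace Cfsg.Agent.S0873

/-- Let C be a normal subgroup of the finite group G of order prime to p and P a p-subgroup with C ⊔ P = G. Let λ be a character of C of degree 1 invariant under conjugation by G and equal to 1 at every element of C centralized by P. Then λ is identically 1. -/
theorem result {G : Type*} [Group G] [Finite G] (p : ℕ) [Fact p.Prime] (C P : Subgroup G) [hC : C.Normal] (hP : IsPGroup p P) (hcop : Nat.Coprime (Nat.card C) p) (hCP : C ⊔ P = ⊤) (lam : C → ℂ) (hlam : Cfsg.IsCharacter C lam ∧ lam 1 = 1) (hinv : ∀ (g : G) (c : C), lam ⟨g * c * g⁻¹, hC.conj_mem (c : G) c.2 g⟩ = lam c) (hker : ∀ c : C, (c : G) ∈ Subgroup.centralizer (P : Set G) → lam c = 1) : lam = fun _ => 1 := by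
  classical
  have hp : p.Prime := Fact.out
  obtain ⟨hchar, h1⟩ := hlam
  -- lam is a homomorphism
  have hirr : Cfsg.IsIrrCharacter C lam := by
    obtain ⟨n, ρ, hρ⟩ := hchar
    have hn : n = 1 := by
      have : ρ.character 1 = (Module.finrank ℂ (Fin n → ℂ) : ℂ) := Representation.char_one ρ
      rw [hρ, h1] at this
      simp at this
      exact_mod_cast this.symm
    subst hn
    refine ⟨1, ρ, ?_, hρ⟩
    apply Cfsg.Agent.Helper6.isIrreducible_of_finrank_eq_one
    simp
  obtain ⟨μ, hμ⟩ := Cfsg.Agent.Helper6.exists_hom_of_irr_degree_one hirr h1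
  have hμinv : ∀ (g : G) (c : C), μ ⟨g * c * g⁻¹, hC.conj_mem (c : G) c.2 g⟩ = μ c := by
    intro g c
    have := hinv g c
    rw [hμ] at this
    exact Units.ext this
  ext c
  -- the fibre of μ through c
  let T : Set C := {y | μ y = μ c}
  letI : MulAction P T :=
    { smul := fun u y => ⟨⟨(u : G) * (y : C) * (u : G)⁻¹, hC.conj_mem _ (y : C).2 _⟩, by
        show μ _ = μ c
        rw [hμinv]; exact y.2⟩
      one_smul := by
        rintro ⟨y, hy⟩
        apply Subtype.ext; apply Subtype.ext
        show ((1 : P) : G) * (y : G) * ((1 : P) : G)⁻¹ = y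
        simp
      mul_smul := by
        rintro u v ⟨y, hy⟩
        apply Subtype.ext; apply Subtype.ext
        show ((u * v : P) : G) * (y : G) * ((u * v : P) : G)⁻¹ =
          (u : G) * ((v : G) * (y : G) * (v : G)⁻¹) * (u : G)⁻¹
        simp only [Subgroup.coe_mul]
        group }
  have hsmul : ∀ (u : P) (y : T), (((u • y : T) : C) : G) = (u : G) * ((y : C) : G) * (u : G)⁻¹ :=
    fun _ _ => rfl
  -- the fibre has the size of the kernel
  have hcardT : Nat.card T = Nat.card μ.ker := by
    symm
    apply Nat.card_congr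
    refine
      { toFun := fun k => ⟨c * k, by
          show μ (c * k) = μ c
          rw [map_mul, MonoidHom.mem_ker.mp k.2, mul_one]⟩
        invFun := fun y => ⟨c⁻¹ * y, by
          rw [MonoidHom.mem_ker, map_mul, map_inv, y.2, inv_mul_cancel]⟩
        left_inv := fun k => by apply Subtype.ext; simp
        right_inv := fun y => by apply Subtype.ext; simp }
  have hnd : ¬ p ∣ Nat.card T := by
    rw [hcardT]
    intro hd
    have h2 : p ∣ Nat.card C := hd.trans (Subgroup.card_subgroup_dvd_card _)
    have := Nat.Coprime.eq_one_of_dvd hcop.symm h2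
    exact hp.one_lt.ne' this
  obtain ⟨y, hy⟩ := hP.nonempty_fixed_point_of_prime_not_dvd_card T hnd
  have hycent : (((y : T) : C) : G) ∈ Subgroup.centralizer (P : Set G) := by
    rw [Subgroup.mem_centralizer_iff]
    intro u hu
    have := hy ⟨u, hu⟩
    have h3 := congrArg (fun t : T => ((t : C) : G)) this
    simp only [hsmul] at h3
    exact eq_mul_of_mul_inv_eq h3
  have hy1 := hker (y : C) hycent
  rw [hμ] at hy1 ⊢
  have hyc : μ (y : C) = μ c := y.2
  show ((μ c : ℂˣ) : ℂ) = 1
  rw [← hyc]
  exact hy1

end Cfsg.Agent.S0873
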