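import Cfsg.Statements.S0875
import Mathlib
import Cfsg.Agent.Helper6.PiSection
import Cfsg.Agent.Helper6.Expansion
-- import your own Cfsg.Agent.* helpers here

set_option autoImplicit false
open Cfsg

namespace Cfsg.Agent.S0875

/-- Let G be a finite group of order m * n with m and n coprime, and g an element whose order is coprime to m. Every x in G factors uniquely as x = u * v with u, v commuting, the order of u coprime to n and the order of v coprime to m; let ϑ be the function on G equal to n at those x whose factor v is conjugate to g and equal to 0 elsewhere. Then ϑ is a linear combination of the irreducible characters of G with algebraic-integer coefficients. -/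
theorem result {G : Type*} [Group G] [Fintype G] (m n : ℕ) (hmn : Nat.card G = m * n) (hcop : Nat.Coprime m n) (g : G) (hg : Nat.Coprime (orderOf g) m) (ϑ : G → ℂ) (hϑ1 : ∀ x : G, (∃ v : G, IsConj v g ∧ (∃ u : G, x = u * v ∧ Commute u v ∧ Nat.Coprime (orderOf u) n ∧ Nat.Coprime (orderOf v) m)) → ϑ x = n) (hϑ0 : ∀ x : G, (¬ ∃ v : G, IsConj v g ∧ (∃ u : G, x = u * v ∧ Commute u v ∧ Nat.Coprime (orderOf u) n ∧ Nat.Coprime (orderOf v) m)) → ϑ x = 0) : ∃ c : Cfsg.IrrCharacter G → ℂ, (∀ χ, c χ ∈ Cfsg.AlgInt) ∧ ϑ = ∑ᶠ χ : Cfsg.IrrCharacter G, c χ • (χ : G → ℂ) := by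
  classical
  have hpowm : ∀ z : G, Nat.Coprime (orderOf z) n → z ^ m = 1 := by
    intro z hz
    apply orderOf_dvd_iff_pow_eq_one.mp
    have h1 : orderOf z ∣ m * n := by rw [← hmn]; exact orderOf_dvd_natCard z
    exact Nat.Coprime.dvd_of_dvd_mul_right hz h1
  have hpown : ∀ z : G, Nat.Coprime (orderOf z) m → z ^ n = 1 := by
    intro z hz
    apply orderOf_dvd_iff_pow_eq_one.mp
    have h1 : orderOf z ∣ m * n := by rw [← hmn]; exact orderOf_dvd_natCard z
    exact Nat.Coprime.dvd_of_dvd_mul_left hz h1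
  have hoc : ∀ y z : G, orderOf (y * z * y⁻¹) = orderOf z := by
    intro y z
    have := MulEquiv.orderOf_eq (MulAut.conj y) z
    simpa using this
  have hSecConj : ∀ x y : G,
      (∃ v : G, IsConj v g ∧ (∃ u : G, x = u * v ∧ Commute u v ∧ Nat.Coprime (orderOf u) n ∧
        Nat.Coprime (orderOf v) m)) →
      (∃ v : G, IsConj v g ∧ (∃ u : G, y * x * y⁻¹ = u * v ∧ Commute u v ∧
        Nat.Coprime (orderOf u) n ∧ Nat.Coprime (orderOf v) m)) := by
    rintro x y ⟨v, hv, u, rfl, huv, hu, hv'⟩
    refine ⟨y * v * y⁻¹, ?_, y * u * y⁻¹, ?_, ?_, ?_, ?_⟩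
    · exact (isConj_iff.mpr ⟨y, rfl⟩ : IsConj v (y * v * y⁻¹)).symm.trans hv
    · group
    · have h1 : (y * u * y⁻¹) * (y * v * y⁻¹) = y * (u * v) * y⁻¹ := by group
      have h2 : (y * v * y⁻¹) * (y * u * y⁻¹) = y * (v * u) * y⁻¹ := by group
      change (y * u * y⁻¹) * (y * v * y⁻¹) = (y * v * y⁻¹) * (y * u * y⁻¹)
      rw [h1, h2, huv.eq]
    · rw [hoc]; exact hu
    · rw [hoc]; exact hv'
  have hcf : Cfsg.IsClassFunction G ϑ := by
    intro x y
    by_cases h : ∃ v : G, IsConj v g ∧ (∃ u : G, x = u * v ∧ Commute u v ∧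
        Nat.Coprime (orderOf u) n ∧ Nat.Coprime (orderOf v) m)
    · rw [hϑ1 x h, hϑ1 _ (hSecConj x y h)]
    · have h' : ¬ ∃ v : G, IsConj v g ∧ (∃ u : G, y * x * y⁻¹ = u * v ∧ Commute u v ∧
          Nat.Coprime (orderOf u) n ∧ Nat.Coprime (orderOf v) m) := by
        intro h2
        apply h
        have h3 := hSecConj _ y⁻¹ h2
        have h4 : y⁻¹ * (y * x * y⁻¹) * y⁻¹⁻¹ = x := by group
        rwa [h4] at h3
      rw [hϑ0 x h, hϑ0 _ h']
  have key : ∀ f ∈ Helper6.BrauerSpanAll G, IsIntegral ℤ (Cfsg.classInner f ϑ) := by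
    intro f hf
    unfold Helper6.BrauerSpanAll at hf
    induction hf using AddSubgroup.closure_induction with
    | mem f hf =>
      obtain ⟨E, lam, ⟨q, hq, hEq⟩, rfl⟩ := hf
      haveI : Fintype E := Fintype.ofFinite _
      rw [Helper6.frobenius_reciprocity E _ ϑ hcf]
      apply Helper6.elementary_section_inner_isIntegral hq hEq m n hcop ?_ lam
        {b : E | IsConj (b : G) g}
      · intro a b ha hb hab
        have ha' : Nat.Coprime (orderOf (a : G)) n := by rwa [Subgroup.orderOf_coe]
        have hb' : Nat.Coprime (orderOf (b : G)) m := by rwa [Subgroup.orderOf_coe]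
        have hab' : Commute (a : G) (b : G) := by
          have := congrArg (fun z : E => (z : G)) hab.eq
          exact this
        by_cases hbg : IsConj (b : G) g
        · rw [if_pos (show b ∈ {b : E | IsConj (b : G) g} from hbg)]
          apply hϑ1
          exact ⟨(b : G), hbg, (a : G), by simp, hab', ha', hb'⟩
        · rw [if_neg (show ¬ b ∈ {b : E | IsConj (b : G) g} from hbg)]
          apply hϑ0
          rintro ⟨v, hv, u, hx, huv, hu, hv'⟩
          apply hbg
          have hx' : (a : G) * (b : G) = u * v := by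
            rw [← hx]; simp
          obtain ⟨-, h2⟩ := Helper6.pi_decomposition_unique m n hcop hab' huv hx'
            (hpowm _ ha') (hpowm _ hu) (hpown _ hb') (hpown _ hv')
          rw [h2]
          exact hv
      · rw [← hmn]
        exact Subgroup.card_subgroup_dvd_card E
    | zero => rw [Helper6.classInner_zero_left]; exact isIntegral_zero
    | add f g _ _ hf hg => rw [Helper6.classInner_add_left]; exact hf.add hg
    | neg f _ hf => rw [Helper6.classInner_neg_left]; exact hf.neg
  refine ⟨fun χ => Cfsg.classInner ϑ (χ : G → ℂ), ?_, Helper6.classFunction_expansion_finsum ϑ hcf⟩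
  intro χ
  rw [mem_integralClosure_iff]
  change IsIntegral ℤ (Cfsg.classInner ϑ (χ : G → ℂ))
  rw [Helper6.classInner_conj_symm (χ : G → ℂ) ϑ]
  have h0 : (χ : G → ℂ) ∈ Helper6.BrauerSpanAll G :=
    Helper6.global_brauer (χ : G → ℂ) (Helper6.IsIrrCharacter.isCharacter χ.2)
  have h1 := key (χ : G → ℂ) h0
  exact map_isIntegral_int (starRingEnd ℂ) h1

end Cfsg.Agent.S0875
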