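import Cfsg.Statements.S0876
import Mathlib
import Cfsg.Agent.S0875
import Cfsg.Agent.Helper6.PiSection
import Cfsg.Agent.Helper6.CharCongr
import Cfsg.Agent.Helper6.InducedPart
import Cfsg.Agent.Helper6.IrrBasis
-- import your own Cfsg.Agent.* helpers here

set_option autoImplicit false
open Cfsg

namespace Cfsg.Agent.S0876

/-- Let G be a finite group, p a prime and M a maximal ideal of the ring of algebraic integers containing p. Let x, y be elements with p-parts a and b (so a⁻¹ * x and b⁻¹ * y are their p-regular parts). Then a⁻¹ * x and b⁻¹ * y are conjugate in G if and only if, for every irreducible character χ, the difference χ x - χ y lies in the local ideal at M. -/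
theorem result {G : Type*} [Group G] [Finite G] (p : ℕ) (M : Ideal Cfsg.AlgInt) (hM : Cfsg.IsPModular p M) (x y a b : G) (ha : Cfsg.IsPPart p x a) (hb : Cfsg.IsPPart p y b) : IsConj (a⁻¹ * x) (b⁻¹ * y) ↔ ∀ χ : Cfsg.IrrCharacter G, Cfsg.MemLocalIdeal M ((χ : G → ℂ) x - (χ : G → ℂ) y) := by
  classical
  haveI : Fact p.Prime := ⟨hM.1⟩
  haveI : Fintype G := Fintype.ofFinite G
  obtain ⟨x', hax, hcx, ⟨ka, hka⟩, hx'⟩ := ha
  obtain ⟨y', hby, hcy, ⟨kb, hkb⟩, hy'⟩ := hb
  have hx'eq : a⁻¹ * x = x' := by rw [← hax]; group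
  have hy'eq : b⁻¹ * y = y' := by rw [← hby]; group
  rw [hx'eq, hy'eq]
  constructor
  · intro hconj χ
    have hχ := Helper6.IsIrrCharacter.isCharacter χ.2
    have hcf := Helper6.IsCharacter.isClassFunction hχ
    have h1 := Helper6.char_mul_sub_memLocalIdeal hM.2.1 p hM.1 hM.2.2 hχ a x' hcx.eq
      ⟨ka, hka⟩ hx'
    have h2 := Helper6.char_mul_sub_memLocalIdeal hM.2.1 p hM.1 hM.2.2 hχ b y' hcy.eq
      ⟨kb, hkb⟩ hy'
    have h3 : (χ : G → ℂ) x' = (χ : G → ℂ) y' :=
      Helper6.IsClassFunction.eq_of_isConj hcf hconj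
    have h4 : (χ : G → ℂ) x - (χ : G → ℂ) y =
        ((χ : G → ℂ) (a * x') - (χ : G → ℂ) x') - ((χ : G → ℂ) (b * y') - (χ : G → ℂ) y') := by
      rw [hax, hby, h3]; ring
    rw [h4]
    exact Helper6.MemLocalIdeal.sub hM.2.1 h1 h2
  · intro hall
    by_contra hnc
    obtain ⟨k, n, hn, hGcard⟩ := Nat.exists_eq_pow_mul_and_not_dvd
      (Nat.card_pos (α := G)).ne' p hM.1.ne_one
    have hcop : Nat.Coprime (p ^ k) n :=
      Nat.Coprime.pow_left k ((Nat.Prime.coprime_iff_not_dvd hM.1).mpr hn)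
    have hpn : Nat.Coprime p n := (Nat.Prime.coprime_iff_not_dvd hM.1).mpr hn
    have hgx : Nat.Coprime (orderOf x') (p ^ k) :=
      Nat.Coprime.pow_right k ((Nat.Prime.coprime_iff_not_dvd hM.1).mpr hx').symm
    have hgy : Nat.Coprime (orderOf y') (p ^ k) :=
      Nat.Coprime.pow_right k ((Nat.Prime.coprime_iff_not_dvd hM.1).mpr hy').symm
    have hpowm : ∀ z : G, Nat.Coprime (orderOf z) n → z ^ (p ^ k) = 1 := by
      intro z hz
      apply orderOf_dvd_iff_pow_eq_one.mp
      have h1 : orderOf z ∣ p ^ k * n := by rw [← hGcard]; exact orderOf_dvd_natCard z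
      exact Nat.Coprime.dvd_of_dvd_mul_right hz h1
    have hpown : ∀ z : G, Nat.Coprime (orderOf z) (p ^ k) → z ^ n = 1 := by
      intro z hz
      apply orderOf_dvd_iff_pow_eq_one.mp
      have h1 : orderOf z ∣ p ^ k * n := by rw [← hGcard]; exact orderOf_dvd_natCard z
      exact Nat.Coprime.dvd_of_dvd_mul_left hz h1
    obtain ⟨c, hc, hϑ⟩ := Cfsg.Agent.S0875.result (G := G) (p ^ k) n hGcard hcop x' hgx
      (fun z => if (∃ v : G, IsConj v x' ∧ (∃ u : G, z = u * v ∧ Commute u v ∧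
        Nat.Coprime (orderOf u) n ∧ Nat.Coprime (orderOf v) (p ^ k))) then (n : ℂ) else 0)
      (fun z hz => if_pos hz) (fun z hz => if_neg hz)
    have hxval : (if (∃ v : G, IsConj v x' ∧ (∃ u : G, x = u * v ∧ Commute u v ∧
        Nat.Coprime (orderOf u) n ∧ Nat.Coprime (orderOf v) (p ^ k))) then (n : ℂ) else 0) = n := by
      apply if_pos
      refine ⟨x', IsConj.refl x', a, hax.symm, hcx, ?_, hgx⟩
      rw [hka]
      exact Nat.Coprime.pow_left ka hpn
    have hyval : (if (∃ v : G, IsConj v x' ∧ (∃ u : G, y = u * v ∧ Commute u v ∧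
        Nat.Coprime (orderOf u) n ∧ Nat.Coprime (orderOf v) (p ^ k))) then (n : ℂ) else 0) = 0 := by
      apply if_neg
      rintro ⟨v, hv, u, hyuv, huv, hu, hv'⟩
      apply hnc
      have hbn : Nat.Coprime (orderOf b) n := by
        rw [hkb]; exact Nat.Coprime.pow_left kb hpn
      have h1 : b * y' = u * v := by rw [hby]; exact hyuv
      obtain ⟨-, h2⟩ := Helper6.pi_decomposition_unique (p ^ k) n hcop hcy huv h1
        (hpowm _ hbn) (hpowm _ hu) (hpown _ hgy) (hpown _ hv')
      rw [h2]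
      exact hv.symm
    haveI : Finite (Cfsg.IrrCharacter G) := Helper6.irr_finite
    haveI : Fintype (Cfsg.IrrCharacter G) := Fintype.ofFinite _
    rw [finsum_eq_sum_of_fintype] at hϑ
    have hxe := congrFun hϑ x
    have hye := congrFun hϑ y
    simp only [hxval, hyval, Finset.sum_apply, Pi.smul_apply, smul_eq_mul] at hxe hye
    have hdiff : (n : ℂ) = ∑ χ : Cfsg.IrrCharacter G,
        c χ * ((χ : G → ℂ) x - (χ : G → ℂ) y) := by
      simp only [mul_sub, Finset.sum_sub_distrib]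
      rw [← hxe, ← hye, sub_zero]
    have hnJ : Cfsg.MemLocalIdeal M (n : ℂ) := by
      rw [hdiff]
      apply Helper6.MemLocalIdeal.sum hM.2.1
      intro χ _
      apply Helper6.MemLocalIdeal.mul_left hM.2.1 _ (hall χ)
      exact Helper6.memLocalRing_of_isIntegral hM.2.1 ((mem_integralClosure_iff ℤ ℂ).mp (hc χ))
    exact hn (Helper6.dvd_of_memLocalIdeal_natCast hM n hnJ)

end Cfsg.Agent.S0876
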