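import Cfsg.Statements.S0878
import Cfsg.Agent.Helper7.ZassKernel

set_option autoImplicit false
open Cfsg

namespace Cfsg.Agent.S0878

open Cfsg.Agent.Helper7.Zass

/-- Let G be a Zassenhaus group on the finite set Ω, a a point, and let H be the subgroup of the stabilizer of a consisting of the identity and the elements fixing no point other than a (given here as a subgroup of the stabilizer of order one less than the number of points whose non-identity elements fix only a; it is the Frobenius kernel of the stabilizer). Then an element outside the stabilizer of a conjugates no non-identity element of H into H, and the normalizer of H is exactly the stabilizer of a. -/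
theorem result {G Ω : Type*} [Group G] [Finite G] [MulAction G Ω] [Fintype Ω] (hZ : Cfsg.IsZassenhausGroup G Ω) (a : Ω) (H : Subgroup G) (hHa : H ≤ MulAction.stabilizer G a) (hHcard : Nat.card H + 1 = Fintype.card Ω) (hHfix : ∀ u ∈ H, u ≠ 1 → ∀ c : Ω, u • c = c → c = a) : (∀ g : G, g ∉ MulAction.stabilizer G a → ∀ u ∈ H, g * u * g⁻¹ ∈ H → u = 1) ∧ Subgroup.normalizer (H : Set G) = MulAction.stabilizer G a := by
  obtain ⟨hfaith, h2t, hp3, hfix, hnoreg⟩ := hZ
  have hZH : ZHyp G Ω :=
    { t2 := fun a b c d hab hcd => (MulAction.is_two_pretransitive_iff.1 h2t) hab hcd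
      p3 := hp3
      fix2 := hfix
      noreg := hnoreg }
  have part1 : ∀ g : G, g ∉ MulAction.stabilizer G a → ∀ u ∈ H, g * u * g⁻¹ ∈ H → u = 1 := by
    intro g hg u hu hgu
    by_contra hu1
    have h1 : g * u * g⁻¹ ≠ 1 := by
      intro e
      apply hu1
      have : u = g⁻¹ * (g * u * g⁻¹) * g := by group
      rw [this, e]
      group
    have hua : u • a = a := hHa hu
    have h2 : (g * u * g⁻¹) • (g • a) = g • a := by
      rw [mul_smul, mul_smul, inv_smul_smul, hua]
    exact hg (hHfix _ hgu h1 _ h2)
  refine ⟨part1, ?_⟩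
  -- `H` is the Frobenius kernel
  obtain ⟨Kg, hKset, hKcard⟩ := exists_kernel_subgroup hZH a
  have hHK : H ≤ Kg := by
    intro u hu
    rw [← SetLike.mem_coe, hKset]
    refine ⟨hHa hu, ?_⟩
    by_cases hu1 : u = 1
    · exact Or.inl hu1
    · right
      intro d hd hud
      exact hd (hHfix u hu hu1 d hud)
  have hcard : Nat.card Kg ≤ Nat.card H := by
    rw [Nat.card_eq_fintype_card (α := Ω)] at hKcard
    omega
  have hHeq : H = Kg := Subgroup.eq_of_le_of_card_ge hHK hcard
  -- `H` is non-trivial
  have hH1 : ∃ u ∈ H, u ≠ 1 := by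
    by_contra hcon
    have hbot : H = ⊥ := by
      rw [eq_bot_iff]
      intro u hu
      rw [Subgroup.mem_bot]
      by_contra hu1
      exact hcon ⟨u, hu, hu1⟩
    rw [hbot, Subgroup.card_bot] at hHcard
    obtain ⟨g, hg1, a', b', hab', hga, hgb⟩ := hfix
    obtain ⟨c, hc⟩ := exists_moved (Ω := Ω) hg1
    have hca : c ≠ a' := fun e => hc (by rw [e, hga])
    have hcb : c ≠ b' := fun e => hc (by rw [e, hgb])
    have : 2 < Fintype.card Ω := by
      rw [← Finset.card_univ, Finset.two_lt_card]
      exact ⟨a', Finset.mem_univ _, b', Finset.mem_univ _, c, Finset.mem_univ _, hab',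
        Ne.symm hca, Ne.symm hcb⟩
    omega
  ext g
  rw [Subgroup.mem_normalizer_iff, MulAction.mem_stabilizer_iff]
  constructor
  · intro hg
    by_contra hga
    obtain ⟨u, hu, hu1⟩ := hH1
    have : g * u * g⁻¹ ∈ H := (hg u).1 hu
    exact hu1 (part1 g hga u hu this)
  · intro hga u
    have key : ∀ g : G, g • a = a → ∀ u ∈ H, g * u * g⁻¹ ∈ H := by
      intro g hga u hu
      rw [hHeq, ← SetLike.mem_coe, hKset] at hu ⊢
      have := conj_mem_Kset hu g
      rwa [hga] at this
    constructor
    · exact key g hga u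
    · intro hu
      have hga' : g⁻¹ • a = a := by rw [inv_smul_eq_iff, hga]
      have := key g⁻¹ hga' _ hu
      have e : g⁻¹ * (g * u * g⁻¹) * g⁻¹⁻¹ = u := by group
      rwa [e] at this

end Cfsg.Agent.S0878
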