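import Cfsg.Statements.S0879
import Cfsg.Agent.Helper7.ZassKernel

set_option autoImplicit false
open Cfsg

namespace Cfsg.Agent.S0879

open Cfsg.Agent.Helper7.Zass

/-- A non-identity element fixing `a ≠ b` and `c ≠ d` has `{c, d} = {a, b}`. -/
theorem pair_eq {G Ω : Type*} [Group G] [MulAction G Ω] (hP : P3 G Ω) {y : G} (hy1 : y ≠ 1)
    {a b c d : Ω} (hab : a ≠ b) (hcd : c ≠ d) (ha : y • a = a) (hb : y • b = b)
    (hc : y • c = c) (hd : y • d = d) : (c = a ∧ d = b) ∨ (c = b ∧ d = a) := by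
  have h1 : ∀ e : Ω, y • e = e → e = a ∨ e = b := by
    intro e he
    by_contra hcon
    rw [not_or] at hcon
    exact hy1 (hP y a b e hab (Ne.symm hcon.2) (Ne.symm hcon.1) ha hb he)
  rcases h1 c hc with e1 | e1 <;> rcases h1 d hd with e2 | e2
  · exact absurd (e1.trans e2.symm) hcd
  · exact Or.inl ⟨e1, e2⟩
  · exact Or.inr ⟨e1, e2⟩
  · exact absurd (e1.trans e2.symm) hcd

theorem mem_E {G Ω : Type*} [Group G] [MulAction G Ω] {a b : Ω} (x : G) :
    x ∈ (MulAction.stabilizer G a ⊓ MulAction.stabilizer G b : Subgroup G) ↔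
      x • a = a ∧ x • b = b := by
  rw [Subgroup.mem_inf, MulAction.mem_stabilizer_iff, MulAction.mem_stabilizer_iff]

theorem conj_mem_E {G Ω : Type*} [Group G] [MulAction G Ω] {a b : Ω} {g : G}
    (hg : (g • a = a ∧ g • b = b) ∨ (g • a = b ∧ g • b = a)) {x : G}
    (hx : x ∈ (MulAction.stabilizer G a ⊓ MulAction.stabilizer G b : Subgroup G)) :
    g * x * g⁻¹ ∈ (MulAction.stabilizer G a ⊓ MulAction.stabilizer G b : Subgroup G) := by
  rw [mem_E] at hx ⊢
  obtain ⟨hxa, hxb⟩ := hx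
  rcases hg with ⟨hga, hgb⟩ | ⟨hga, hgb⟩
  · constructor
    · nth_rewrite 1 [← hga]
      rw [mul_smul, mul_smul, inv_smul_smul, hxa, hga]
    · nth_rewrite 1 [← hgb]
      rw [mul_smul, mul_smul, inv_smul_smul, hxb, hgb]
  · constructor
    · nth_rewrite 1 [← hgb]
      rw [mul_smul, mul_smul, inv_smul_smul, hxb, hgb]
    · nth_rewrite 1 [← hga]
      rw [mul_smul, mul_smul, inv_smul_smul, hxa, hga]

theorem mem_normalizer_E {G Ω : Type*} [Group G] [MulAction G Ω] (hP : P3 G Ω) {a b : Ω}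
    (hab : a ≠ b) (hfix : ∃ h' : G, h' ≠ 1 ∧ h' • a = a ∧ h' • b = b) (g : G) :
    g ∈ Subgroup.normalizer
        ((MulAction.stabilizer G a ⊓ MulAction.stabilizer G b : Subgroup G) : Set G) ↔
      (g • a = a ∧ g • b = b) ∨ (g • a = b ∧ g • b = a) := by
  rw [Subgroup.mem_normalizer_iff]
  constructor
  · intro hg
    obtain ⟨x, hx1, hxa, hxb⟩ := hfix
    have hxE : x ∈ (MulAction.stabilizer G a ⊓ MulAction.stabilizer G b : Subgroup G) :=
      (mem_E x).2 ⟨hxa, hxb⟩
    have hy := (hg x).1 hxE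
    rw [mem_E] at hy
    have hy1 : g * x * g⁻¹ ≠ 1 := by
      intro e
      apply hx1
      have : x = g⁻¹ * (g * x * g⁻¹) * g := by group
      rw [this, e]
      group
    have hgab : g • a ≠ g • b := fun e => hab (smul_left_cancel _ e)
    have h3 : (g * x * g⁻¹) • (g • a) = g • a := by
      rw [mul_smul, mul_smul, inv_smul_smul, hxa]
    have h4 : (g * x * g⁻¹) • (g • b) = g • b := by
      rw [mul_smul, mul_smul, inv_smul_smul, hxb]
    exact pair_eq hP hy1 hab hgab hy.1 hy.2 h3 h4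
  · intro hg x
    constructor
    · exact conj_mem_E hg
    · intro hx
      have hg' : (g⁻¹ • a = a ∧ g⁻¹ • b = b) ∨ (g⁻¹ • a = b ∧ g⁻¹ • b = a) := by
        rcases hg with ⟨hga, hgb⟩ | ⟨hga, hgb⟩
        · left
          exact ⟨by rw [inv_smul_eq_iff, hga], by rw [inv_smul_eq_iff, hgb]⟩
        · right
          exact ⟨by rw [inv_smul_eq_iff, hgb], by rw [inv_smul_eq_iff, hga]⟩
      have := conj_mem_E hg' hx
      have e : g⁻¹ * (g * x * g⁻¹) * g⁻¹⁻¹ = x := by group
      rwa [e] at this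

/-- Let G be a Zassenhaus group on the finite set Ω and E the stabilizer of two distinct points a, b. Then an element outside the normalizer of E conjugates no non-identity element of E into E, and E has index 2 in its normalizer. -/
theorem result {G Ω : Type*} [Group G] [Finite G] [MulAction G Ω] [Fintype Ω] (hZ : Cfsg.IsZassenhausGroup G Ω) {a b : Ω} (hab : a ≠ b) : (∀ g : G, g ∉ Subgroup.normalizer ((MulAction.stabilizer G a ⊓ MulAction.stabilizer G b : Subgroup G) : Set G) → ∀ x ∈ (MulAction.stabilizer G a ⊓ MulAction.stabilizer G b : Subgroup G), g * x * g⁻¹ ∈ (MulAction.stabilizer G a ⊓ MulAction.stabilizer G b : Subgroup G) → x = 1) ∧ ((MulAction.stabilizer G a ⊓ MulAction.stabilizer G b : Subgroup G).subgroupOf (Subgroup.normalizer ((MulAction.stabilizer G a ⊓ MulAction.stabilizer G b : Subgroup G) : Set G))).index = 2 := by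
  obtain ⟨hfaith, h2t, hp3, hfix, hnoreg⟩ := hZ
  have hZH : ZHyp G Ω :=
    { t2 := fun a b c d hab hcd => (MulAction.is_two_pretransitive_iff.1 h2t) hab hcd
      p3 := hp3
      fix2 := hfix
      noreg := hnoreg }
  have hfix' := hZH.exists_fix hab
  have hN := mem_normalizer_E hp3 hab hfix'
  constructor
  · intro g hg x hx hgx
    by_contra hx1
    apply hg
    rw [hN]
    rw [mem_E] at hx hgx
    have hy1 : g * x * g⁻¹ ≠ 1 := by
      intro e
      apply hx1
      have : x = g⁻¹ * (g * x * g⁻¹) * g := by group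
      rw [this, e]
      group
    have hgab : g • a ≠ g • b := fun e => hab (smul_left_cancel _ e)
    have h3 : (g * x * g⁻¹) • (g • a) = g • a := by
      rw [mul_smul, mul_smul, inv_smul_smul, hx.1]
    have h4 : (g * x * g⁻¹) • (g • b) = g • b := by
      rw [mul_smul, mul_smul, inv_smul_smul, hx.2]
    exact pair_eq hp3 hy1 hab hgab hgx.1 hgx.2 h3 h4
  · rw [Subgroup.index_eq_two_iff]
    obtain ⟨s, hsa, hsb⟩ := hZH.t2 a b b a hab (Ne.symm hab)
    have hsN : s ∈ Subgroup.normalizer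
        ((MulAction.stabilizer G a ⊓ MulAction.stabilizer G b : Subgroup G) : Set G) :=
      (hN s).2 (Or.inr ⟨hsa, hsb⟩)
    refine ⟨⟨s, hsN⟩, ?_⟩
    intro y
    have hy := (hN y).1 y.2
    rw [Subgroup.mem_subgroupOf, Subgroup.mem_subgroupOf, mem_E, mem_E, Subgroup.coe_mul,
      mul_smul, mul_smul]
    show Xor ((y : G) • s • a = a ∧ (y : G) • s • b = b) _
    rw [hsa, hsb]
    rcases hy with ⟨hya, hyb⟩ | ⟨hya, hyb⟩
    · right
      refine ⟨⟨hya, hyb⟩, ?_⟩
      rintro ⟨h1, -⟩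
      rw [hyb] at h1
      exact hab h1.symm
    · left
      refine ⟨⟨hyb, hya⟩, ?_⟩
      rintro ⟨h1, -⟩
      rw [hya] at h1
      exact hab h1.symm

end Cfsg.Agent.S0879
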