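import Cfsg.Statements.S0898
import Mathlib
import Cfsg.Agent.Helper6.FTLemF
-- import your own Cfsg.Agent.* helpers here

set_option autoImplicit false
open Cfsg

namespace Cfsg.Agent.S0898

/-- Let H be an abelian subgroup of the finite group G meeting the centre of G trivially, such that for every non-central g the centralizer of g has nontrivial intersection with at most one conjugate of H. Let χ be an irreducible character of G with χ h ≠ χ 1 for some h in H, and let c be the inner product of the restriction of χ to H with the principal character. Then χ(1)² > (order of H)·c²; and if in addition χ 1 ≠ 1 and no proper normal subgroup of G contains H, then (1 + χ 1)² > order of H (both sides read as real numbers). -/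
theorem result {G : Type*} [Group G] [Fintype G] (H : Subgroup G) [Fintype H] (hab : ∀ a ∈ H, ∀ b ∈ H, a * b = b * a) (hZ : H ⊓ Subgroup.center G = ⊥) (hone : ∀ g : G, g ∉ Subgroup.center G → ∀ a b : G, Subgroup.centralizer ({g} : Set G) ⊓ H.map (MulAut.conj a).toMonoidHom ≠ ⊥ → Subgroup.centralizer ({g} : Set G) ⊓ H.map (MulAut.conj b).toMonoidHom ≠ ⊥ → H.map (MulAut.conj a).toMonoidHom = H.map (MulAut.conj b).toMonoidHom) (χ : G → ℂ) (hχ : Cfsg.IsIrrCharacter G χ) (hker : ∃ h ∈ H, χ h ≠ χ 1) : (χ 1).re ^ 2 > (Nat.card H : ℝ) * (Cfsg.classInner (fun h : H => χ h) (fun _ => 1)).re ^ 2 ∧ (χ 1 ≠ 1 → (∀ M : Subgroup G, M.Normal → H ≤ M → M = ⊤) → (1 + (χ 1).re) ^ 2 > (Nat.card H : ℝ)) := by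
  classical
  have hχc := Helper6.IsIrrCharacter.isCharacter hχ
  obtain ⟨n, hn⟩ := Helper6.IsCharacter.apply_one hχc
  obtain ⟨c, hc⟩ := Helper6.classInner_char_char_nat
    (Helper6.IsCharacter.restrict H hχc) (Helper6.isCharacter_one (G := H))
  have hcardH : (Nat.card H : ℂ) ≠ 0 := by exact_mod_cast Nat.card_pos.ne'
  have hsum : ∑ h : H, χ h = (Nat.card H : ℂ) * c := by
    have hc' := hc
    rw [Helper6.classInner_def] at hc'
    rw [← hc', ← mul_assoc, mul_inv_cancel₀ hcardH, one_mul]
    apply Finset.sum_congr rfl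
    intro h _
    rw [map_one, mul_one]
  have h1 := Helper6.ft_part_one H hZ hone χ hχ hker n c hn hsum
  refine ⟨?_, ?_⟩
  · rw [hn, hc]
    simp only [Complex.natCast_re]
    exact_mod_cast h1
  · intro hne hnormal
    have hn1 : n ≠ 1 := by
      rintro rfl
      exact hne (by rw [hn]; simp)
    have h2 := Helper6.ft_part_two H hab hZ hone χ hχ n hn hn1 hnormal
    rw [hn]
    simp only [Complex.natCast_re]
    exact_mod_cast h2

end Cfsg.Agent.S0898
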