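import Cfsg.Statements.S0903
import Mathlib
-- import your own Cfsg.Agent.* helpers here

set_option autoImplicit false
open Cfsg

namespace Cfsg.Agent.S0903

/-- Let P be a p-subgroup of the finite group G, let c centralize P and let g, h ∈ G. The number of pairs (x, y) with x conjugate to g, y conjugate to h and x * y = c is congruent modulo p to the number of such pairs in which x and y both centralize P. (This is why the Brauer map on class sums is multiplicative.) -/
theorem result {G : Type*} [Group G] [Finite G] (p : ℕ) [Fact p.Prime] (P : Subgroup G) (hP : IsPGroup p P) (c : G) (hc : c ∈ Subgroup.centralizer (P : Set G)) (g h : G) : Nat.card {xy : G × G // IsConj g xy.1 ∧ IsConj h xy.2 ∧ xy.1 * xy.2 = c} ≡ Nat.card {xy : G × G // IsConj g xy.1 ∧ IsConj h xy.2 ∧ xy.1 * xy.2 = c ∧ xy.1 ∈ Subgroup.centralizer (P : Set G) ∧ xy.2 ∈ Subgroup.centralizer (P : Set G)} [MOD p] := by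
  classical
  have hcc : ∀ u : P, (u : G) * c * (u : G)⁻¹ = c := by
    intro u
    rw [Subgroup.mem_centralizer_iff] at hc
    have := hc (u : G) u.2
    rw [this, mul_inv_cancel_right]
  let X := {xy : G × G // IsConj g xy.1 ∧ IsConj h xy.2 ∧ xy.1 * xy.2 = c}
  letI : MulAction P X :=
    { smul := fun u xy => ⟨((u : G) * xy.1.1 * (u : G)⁻¹, (u : G) * xy.1.2 * (u : G)⁻¹), by
        obtain ⟨⟨x, y⟩, h1, h2, h3⟩ := xy
        refine ⟨?_, ?_, ?_⟩
        · exact h1.trans (isConj_iff.mpr ⟨(u : G), rfl⟩)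
        · exact h2.trans (isConj_iff.mpr ⟨(u : G), rfl⟩)
        · simp only at h3 ⊢
          rw [← hcc u, ← h3]; group⟩
      one_smul := by
        rintro ⟨⟨x, y⟩, h1⟩
        apply Subtype.ext
        show (((1 : P) : G) * x * ((1 : P) : G)⁻¹, ((1 : P) : G) * y * ((1 : P) : G)⁻¹) = (x, y)
        simp
      mul_smul := by
        rintro u v ⟨⟨x, y⟩, h1⟩
        apply Subtype.ext
        show (((u * v : P) : G) * x * ((u * v : P) : G)⁻¹, ((u * v : P) : G) * y * ((u * v : P) : G)⁻¹)
          = ((u : G) * ((v : G) * x * (v : G)⁻¹) * (u : G)⁻¹, (u : G) * ((v : G) * y * (v : G)⁻¹) * (u : G)⁻¹)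
        simp [mul_assoc] }
  have hsmul : ∀ (u : P) (xy : X), ((u • xy : X) : G × G) =
      ((u : G) * xy.1.1 * (u : G)⁻¹, (u : G) * xy.1.2 * (u : G)⁻¹) := fun _ _ => rfl
  have key := hP.card_modEq_card_fixedPoints X
  refine key.trans (congrArg (· % p) ?_)
  apply Nat.card_congr
  refine
    { toFun := fun z => ⟨z.1.1, z.1.2.1, z.1.2.2.1, z.1.2.2.2, ?_, ?_⟩
      invFun := fun w => ⟨⟨w.1, w.2.1, w.2.2.1, w.2.2.2.1⟩, ?_⟩
      left_inv := fun z => rfl
      right_inv := fun w => rfl }
  · rw [Subgroup.mem_centralizer_iff]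
    intro u hu
    have := z.2 ⟨u, hu⟩
    have h2 := congrArg (fun t : X => (t : G × G).1) this
    simp only [hsmul] at h2
    exact (eq_mul_of_mul_inv_eq h2)
  · rw [Subgroup.mem_centralizer_iff]
    intro u hu
    have := z.2 ⟨u, hu⟩
    have h2 := congrArg (fun t : X => (t : G × G).2) this
    simp only [hsmul] at h2
    exact (eq_mul_of_mul_inv_eq h2)
  · intro u
    apply Subtype.ext
    rw [hsmul]
    have h1 := w.2.2.2.2.1
    have h2 := w.2.2.2.2.2
    rw [Subgroup.mem_centralizer_iff] at h1 h2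
    apply Prod.ext
    · show (u : G) * w.1.1 * (u : G)⁻¹ = w.1.1
      rw [h1 u u.2, mul_inv_cancel_right]
    · show (u : G) * w.1.2 * (u : G)⁻¹ = w.1.2
      rw [h2 u u.2, mul_inv_cancel_right]

end Cfsg.Agent.S0903
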