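import Cfsg.Statements.S0911
import Mathlib
import Cfsg.Agent.Helper6.MinMax2
-- import your own Cfsg.Agent.* helpers here

set_option autoImplicit false
open Cfsg

namespace Cfsg.Agent.S0911

/-- The min–max Theorem for defect classes. Let B be a block of the finite group G relative to a maximal ideal M of the algebraic integers containing the prime p, let g represent a defect class of B and let D be a Sylow p-subgroup of the centralizer of g (viewed in G). For any h: (a) if the idempotent coefficient of B at h is a local integer outside the local ideal, then some conjugate of D contains a Sylow p-subgroup of the centralizer of h; (b) if the central character of some member of B at h is outside the local ideal, then some conjugate of D is contained in a Sylow p-subgroup of the centralizer of h. -/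
theorem result {G : Type*} [Group G] [Finite G] (p : ℕ) [Fact p.Prime] (M : Ideal Cfsg.AlgInt) (hM : Cfsg.IsPModular p M) (B : Set (Cfsg.IrrCharacter G)) (hB : Cfsg.IsPBlock M B) (g : G) (hg : Cfsg.IsDefectClass M B g) (D : Sylow p (Subgroup.centralizer ({g} : Set G))) (h : G) : (Cfsg.MemLocalRing M (Cfsg.blockCoeff B h) → ¬ Cfsg.MemLocalIdeal M (Cfsg.blockCoeff B h) → ∃ (x : G) (Q : Sylow p (Subgroup.centralizer ({h} : Set G))), (Q : Subgroup (Subgroup.centralizer ({h} : Set G))).map (Subgroup.centralizer ({h} : Set G)).subtype ≤ ((D : Subgroup (Subgroup.centralizer ({g} : Set G))).map (Subgroup.centralizer ({g} : Set G)).subtype).map (MulAut.conj x).toMonoidHom) ∧ ((∃ χ ∈ B, ¬ Cfsg.MemLocalIdeal M (Cfsg.centralChar (χ : G → ℂ) h)) → ∃ (x : G) (Q : Sylow p (Subgroup.centralizer ({h} : Set G))), ((D : Subgroup (Subgroup.centralizer ({g} : Set G))).map (Subgroup.centralizer ({g} : Set G)).subtype).map (MulAut.conj x).toMonoidHom ≤ (Q : Subgroup (Subgroup.centralizer ({h} : Set G))).map (Subgroup.centralizer ({h} : Set G)).subtype) := by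
  classical
  constructor
  · intro _ hnot
    obtain ⟨Q⟩ : Nonempty (Sylow p (Subgroup.centralizer ({h} : Set G))) := inferInstance
    obtain ⟨e, he⟩ := Helper6.exists_conj_sylow_le_defectGroup hM B hB g hg D h hnot Q
    refine ⟨e, Q, ?_⟩
    intro w hw
    rw [Subgroup.mem_map] at hw
    obtain ⟨q, hq, rfl⟩ := hw
    obtain ⟨u, hu, hueq⟩ := he q hq
    rw [Subgroup.mem_map]
    refine ⟨(u : G), ?_, ?_⟩
    · rw [Subgroup.mem_map]
      exact ⟨u, hu, rfl⟩
    · simpa [MulAut.conj_apply] using hueq
  · rintro ⟨χ, hχ, hne⟩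
    obtain ⟨e, he⟩ := Helper6.exists_conj_defectGroup_le_centralizer hM B hB g hg D χ hχ h hne
    obtain ⟨T, hTdef⟩ : ∃ T : Subgroup G, T =
      ((D : Subgroup (Subgroup.centralizer ({g} : Set G))).map
        (Subgroup.centralizer ({g} : Set G)).subtype).map (MulAut.conj e).toMonoidHom := ⟨_, rfl⟩
    have hTle : T ≤ Subgroup.centralizer ({h} : Set G) := by
      intro w hw
      rw [hTdef, Subgroup.mem_map] at hw
      obtain ⟨v, hv, rfl⟩ := hw
      rw [Subgroup.mem_map] at hv
      obtain ⟨u, hu, rfl⟩ := hv
      have := he u hu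
      simpa [MulAut.conj_apply] using this
    have hTp : IsPGroup p T := by
      rw [hTdef]
      exact (D.isPGroup'.map _).map _
    have hRp : IsPGroup p (T.subgroupOf (Subgroup.centralizer ({h} : Set G))) := hTp.comap_subtype
    obtain ⟨Q, hQ⟩ := hRp.exists_le_sylow
    refine ⟨e, Q, ?_⟩
    rw [← hTdef]
    intro w hw
    rw [Subgroup.mem_map]
    exact ⟨⟨w, hTle hw⟩, hQ (by rw [Subgroup.mem_subgroupOf]; exact hw), rfl⟩

end Cfsg.Agent.S0911
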