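import Cfsg.Statements.S0912
import Mathlib
import Cfsg.Agent.Helper6.PCoreChar
import Cfsg.Agent.Helper6.DefectClass
import Cfsg.Agent.Helper1.Cores
import Cfsg.Agent.Helper1.Fitting
-- import your own Cfsg.Agent.* helpers here

set_option autoImplicit false
open Cfsg

namespace Cfsg.Agent.S0912

/-- Let B be a block of the finite group G relative to a maximal ideal M of the algebraic integers containing the prime p. Every defect group of B contains the largest normal p-subgroup O_p(G). -/
theorem result {G : Type*} [Group G] [Finite G] (p : ℕ) [Fact p.Prime] (M : Ideal Cfsg.AlgInt) (hM : Cfsg.IsPModular p M) (B : Set (Cfsg.IrrCharacter G)) (hB : Cfsg.IsPBlock M B) (D : Subgroup G) (hD : Cfsg.IsDefectGroup p M B D) : Cfsg.pCore p G ≤ D := by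
  classical
  obtain ⟨g, hdc, P, rfl⟩ := hD
  obtain ⟨χ0, rfl⟩ := hB
  have hχ0 := Helper6.mem_blockOf_self hM.2.1 χ0
  have hnot := hdc.2.2 χ0 hχ0
  have hgc : g ∈ Subgroup.centralizer ((Cfsg.pCore p G : Subgroup G) : Set G) := by
    by_contra hcon
    exact hnot (Helper6.centralChar_memLocalIdeal_of_not_mem_centralizer hM (Cfsg.pCore p G)
      (Helper1.pCore_isPGroup p) χ0 g hcon)
  have hle : Cfsg.pCore p G ≤ Subgroup.centralizer ({g} : Set G) := by
    intro u hu
    rw [Subgroup.mem_centralizer_iff]
    intro h hh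
    rw [Set.mem_singleton_iff] at hh
    subst hh
    exact (Subgroup.mem_centralizer_iff.mp hgc u hu).symm
  have hQ' : IsPGroup p ((Cfsg.pCore p G).subgroupOf (Subgroup.centralizer ({g} : Set G))) :=
    (Helper1.pCore_isPGroup p).comap_subtype
  have hle2 := hQ'.le_sylow_of_normal P
  intro u hu
  rw [Subgroup.mem_map]
  exact ⟨⟨u, hle hu⟩, hle2 (by rw [Subgroup.mem_subgroupOf]; exact hu), rfl⟩

end Cfsg.Agent.S0912
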