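import Cfsg.Statements.S0916
import Mathlib
import Cfsg.Agent.Helper6.SylowFusion
-- import your own Cfsg.Agent.* helpers here

set_option autoImplicit false
open Cfsg

namespace Cfsg.Agent.S0916

/-- Let P be a p-subgroup of the finite group G, C its centralizer and N its normalizer. Say that a conjugacy class (of G, or of N) has defect group P when P is a Sylow p-subgroup of the centralizer (in G, respectively in N) of some element of the class. Then: (i) if the class of g in G has defect group P, the elements of that class lying in C form a single N-class, again with defect group P; (ii) every N-class with defect group P arises this way from exactly one G-class with defect group P. -/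
theorem result {G : Type*} [Group G] [Finite G] (p : ℕ) [Fact p.Prime] (P : Subgroup G) (hP : IsPGroup p P) : (∀ g : G, (∃ S : Sylow p (Subgroup.centralizer ({g} : Set G)), (S : Subgroup (Subgroup.centralizer ({g} : Set G))).map (Subgroup.centralizer ({g} : Set G)).subtype = P) → (∃ c : G, IsConj g c ∧ c ∈ Subgroup.centralizer (P : Set G)) ∧ (∀ c₁ c₂ : G, IsConj g c₁ → IsConj g c₂ → c₁ ∈ Subgroup.centralizer (P : Set G) → c₂ ∈ Subgroup.centralizer (P : Set G) → ∃ n ∈ Subgroup.normalizer (P : Set G), n * c₁ * n⁻¹ = c₂)) ∧ (∀ c : G, c ∈ Subgroup.centralizer (P : Set G) → (∃ S : Sylow p (Subgroup.centralizer ({c} : Set G) ⊓ Subgroup.normalizer (P : Set G) : Subgroup G), (S : Subgroup ↥(Subgroup.centralizer ({c} : Set G) ⊓ Subgroup.normalizer (P : Set G))).map (Subgroup.centralizer ({c} : Set G) ⊓ Subgroup.normalizer (P : Set G)).subtype = P) → ∃ S : Sylow p (Subgroup.centralizer ({c} : Set G)), (S : Subgroup (Subgroup.centralizer ({c} : Set G))).map (Subgroup.centralizer ({c} : Set G)).subtype = P) := by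
  classical
  constructor
  · rintro g ⟨S, rfl⟩
    have hPg := Helper6.sylow_map_le S
    have hcard := Helper6.card_sylow_map S
    have hgc : g ∈ Subgroup.centralizer
        (((S : Subgroup _).map (Subgroup.centralizer ({g} : Set G)).subtype : Subgroup G) :
          Set G) := by
      rw [Subgroup.mem_centralizer_iff]
      intro u hu
      exact (Subgroup.mem_centralizer_iff.mp (hPg hu) g (Set.mem_singleton g)).symm
    refine ⟨⟨g, IsConj.refl g, hgc⟩, ?_⟩
    intro c₁ c₂ h1 h2 hc1 hc2
    obtain ⟨a₁, ha₁⟩ := isConj_iff.mp h1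
    obtain ⟨a₂, ha₂⟩ := isConj_iff.mp h2
    rw [← ha₁] at hc1
    rw [← ha₂] at hc2
    obtain ⟨n₁, hn₁, e₁⟩ := Helper6.exists_normalizer_conj_of_sylow_centralizer _ g hPg hcard a₁ hc1
    obtain ⟨n₂, hn₂, e₂⟩ := Helper6.exists_normalizer_conj_of_sylow_centralizer _ g hPg hcard a₂ hc2
    refine ⟨n₂ * n₁⁻¹, Subgroup.mul_mem _ hn₂ (Subgroup.inv_mem _ hn₁), ?_⟩
    rw [← ha₁, ← ha₂, ← e₁, ← e₂]
    group
  · rintro c hc ⟨S, hS⟩
    have hle := Helper6.sylow_map_le S
    have hcard := Helper6.card_sylow_map S
    rw [hS] at hle hcard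
    have hPX : P ≤ Subgroup.centralizer ({c} : Set G) := le_trans hle inf_le_left
    exact Helper6.exists_sylow_map_eq P _ hPX
      (Helper6.card_eq_of_sylow_inf_normalizer P _ hPX hcard)

end Cfsg.Agent.S0916
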