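import Cfsg.Statements.S0928
import Mathlib
import Cfsg.Agent.Helper6.VanishOrderPB
import Cfsg.Agent.Helper6.HeightZeroTrunc
-- import your own Cfsg.Agent.* helpers here

set_option autoImplicit false
open Cfsg

namespace Cfsg.Agent.S0928

/-- Let χ be an irreducible character of the finite group G and p a prime. If χ g = 0 for every element g of order p, then the exponent of p in the degree χ(1) equals the exponent of p in the order of G (χ has p-defect zero). -/
theorem result {G : Type*} [Group G] [Finite G] (p : ℕ) [Fact p.Prime] (χ : Cfsg.IrrCharacter G) (hvan : ∀ g : G, orderOf g = p → (χ : G → ℂ) g = 0) : (Cfsg.charDegree (χ : G → ℂ)).factorization p = (Nat.card G).factorization p := by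
  classical
  haveI := Fintype.ofFinite G
  have hp : Fact p.Prime := inferInstance
  obtain ⟨M, hM⟩ := Helper6.exists_isPModular p hp.out
  have hMm := hM.2.1
  obtain ⟨B, hBdef⟩ : ∃ B, B = Cfsg.blockOf M (χ : G → ℂ) := ⟨_, rfl⟩
  have hB : Cfsg.IsPBlock M B := ⟨χ, hBdef⟩
  have hχB : χ ∈ B := by rw [hBdef]; exact Helper6.mem_blockOf_self hMm χ
  by_cases hdef : Cfsg.blockDefect p B = 0
  · unfold Cfsg.blockDefect at hdef
    have h1 : sInf ((fun χ : Cfsg.IrrCharacter G =>
        (Cfsg.charDegree (χ : G → ℂ)).factorization p) '' B) ≤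
        (Cfsg.charDegree (χ : G → ℂ)).factorization p := Nat.sInf_le ⟨χ, hχB, rfl⟩
    have h2 : (Cfsg.charDegree (χ : G → ℂ)).factorization p ≤ (Nat.card G).factorization p := by
      have hdvd := Helper6.charDegree_dvd_card χ.2
      exact (Nat.factorization_le_iff_dvd (Helper6.charDegree_ne_zero_of_irr χ.2)
        Nat.card_pos.ne').mpr hdvd p
    omega
  · exfalso
    have h := Helper6.sum_pow_eq_one_memLocalIdeal_of_defect hM B hB hdef χ hχB
    have hone : ∑ g ∈ Finset.univ.filter (fun g : G => g ^ p = 1),
        (χ : G → ℂ) g / (χ : G → ℂ) 1 = 1 := by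
      rw [Finset.sum_eq_single 1]
      · exact div_self (Helper6.IsIrrCharacter.apply_one_ne_zero χ.2)
      · intro g hg hg1
        rw [Finset.mem_filter] at hg
        have hd := orderOf_dvd_of_pow_eq_one hg.2
        rcases (Nat.dvd_prime hp.out).mp hd with h | h
        · exact absurd (orderOf_eq_one_iff.mp h) hg1
        · rw [hvan g h, zero_div]
      · intro h
        exfalso
        apply h
        simp
    rw [hone] at h
    exact Helper6.not_memLocalIdeal_one h

end Cfsg.Agent.S0928
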