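import Cfsg.Statements.S0933
import Mathlib
import Cfsg.Agent.Helper6.BlockBasic
import Cfsg.Agent.Helper6.IrrDegree
-- import your own Cfsg.Agent.* helpers here

set_option autoImplicit false
open Cfsg

namespace Cfsg.Agent.S0933

/-- Let H be a subgroup of the finite group G and ξ an irreducible character of H such that the induced function ξ^G is an irreducible character of G. Then, relative to any maximal ideal M of the algebraic integers containing the prime p, the block of ξ induces the block of ξ^G. -/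
theorem result {G : Type*} [Group G] [Fintype G] (p : ℕ) [Fact p.Prime] (M : Ideal Cfsg.AlgInt) (hM : Cfsg.IsPModular p M) (H : Subgroup G) (ξ : Cfsg.IrrCharacter H) (hind : Cfsg.IsIrrCharacter G (Cfsg.indFun H (ξ : H → ℂ))) : Cfsg.IsInducedBlock M H (Cfsg.blockOf M (ξ : H → ℂ)) (Cfsg.blockOf M (Cfsg.indFun H (ξ : H → ℂ))) := by
  classical
  haveI : Fintype H := Fintype.ofFinite H
  obtain ⟨-, hMmax, -⟩ := hM
  refine ⟨⟨ξ, rfl⟩, ⟨⟨_, hind⟩, rfl⟩, ?_⟩
  intro ξ' hξ' χ hχ g
  -- ξ' lies in the block of ξ, χ in the block of the induced character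
  have hsame : ∀ h : H, Cfsg.MemLocalIdeal M
      (Cfsg.centralChar (ξ : H → ℂ) h - Cfsg.centralChar (ξ' : H → ℂ) h) := hξ'
  have hsameG : ∀ g : G, Cfsg.MemLocalIdeal M
      (Cfsg.centralChar (Cfsg.indFun H (ξ : H → ℂ)) g - Cfsg.centralChar (χ : G → ℂ) g) := hχ
  have hξ1 : (ξ : H → ℂ) 1 ≠ 0 := Cfsg.Agent.Helper6.IsIrrCharacter.apply_one_ne_zero ξ.2
  have hξcf := Cfsg.Agent.Helper6.IsCharacter.isClassFunction
    (Cfsg.Agent.Helper6.IsIrrCharacter.isCharacter ξ.2)
  have hξ'cf := Cfsg.Agent.Helper6.IsCharacter.isClassFunction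
    (Cfsg.Agent.Helper6.IsIrrCharacter.isCharacter ξ'.2)
  -- the difference of the induced central characters
  set d : H → ℂ := fun h => (ξ' : H → ℂ) h / (ξ' : H → ℂ) 1 - (ξ : H → ℂ) h / (ξ : H → ℂ) 1
    with hd
  have hdcf : Cfsg.IsClassFunction H d := by
    intro a b
    simp only [hd, hξcf a b, hξ'cf a b]
  have hJ : ∀ h : H, Cfsg.MemLocalIdeal M
      (((Subgroup.centralizer ({h} : Set H)).index : ℂ) * d h) := by
    intro h
    have := Cfsg.Agent.Helper6.MemLocalIdeal.neg (hsame h)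
    convert this using 1
    simp only [hd, Cfsg.centralChar]
    ring
  have hsum := Cfsg.Agent.Helper6.sum_mem_of_conj_closed (Cfsg.MemLocalIdeal M)
    (Cfsg.Agent.Helper6.memLocalIdeal_zero hMmax)
    (fun x y hx hy => Cfsg.Agent.Helper6.MemLocalIdeal.add hMmax hx hy) d hdcf hJ _
    (Finset.univ.filter (fun h : H => IsConj g (h : G))) rfl (by
      intro h hh x
      rw [Finset.mem_filter] at hh ⊢
      refine ⟨Finset.mem_univ _, ?_⟩
      exact hh.2.trans (isConj_iff.mpr ⟨(x : G), by simp⟩))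
  have h1 : Cfsg.inducedCentralChar H (ξ' : H → ℂ) g - Cfsg.centralChar (χ : G → ℂ) g =
      (∑ h ∈ Finset.univ.filter (fun h : H => IsConj g (h : G)), d h) +
      (Cfsg.centralChar (Cfsg.indFun H (ξ : H → ℂ)) g - Cfsg.centralChar (χ : G → ℂ) g) := by
    rw [Cfsg.Agent.Helper6.inducedCentralChar_eq_sum,
      Cfsg.Agent.Helper6.centralChar_indFun H _ hξ1, Finset.sum_sub_distrib]
    ring
  rw [h1]
  exact Cfsg.Agent.Helper6.MemLocalIdeal.add hMmax hsum (hsameG g)

end Cfsg.Agent.S0933
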