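import Cfsg.Statements.S0940
import Mathlib
import Cfsg.Agent.Helper6.FrobTrickF
-- import your own Cfsg.Agent.* helpers here

set_option autoImplicit false
open Cfsg

namespace Cfsg.Agent.S0940

/-- Let G be a finite group and M a maximal ideal of the algebraic integers containing the prime p. For every p-regular g, the idempotent coefficient of the principal block at g (the inverse of the group order times the sum over χ in the principal block of χ 1 * conj (χ g)) is congruent modulo the local ideal at M to N / R, where N is the number of pairs (x, y) with x of p-power order, y of order prime to p and x * y = g, and R is the number of elements of G of order prime to p. -/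
theorem result {G : Type*} [Group G] [Finite G] (p : ℕ) [Fact p.Prime] (M : Ideal Cfsg.AlgInt) (hM : Cfsg.IsPModular p M) (g : G) (hg : ¬ p ∣ orderOf g) : Cfsg.MemLocalIdeal M (Cfsg.blockCoeff (Cfsg.principalBlock M G) g - (Nat.card {xy : G × G // (∃ k : ℕ, orderOf xy.1 = p ^ k) ∧ ¬ p ∣ orderOf xy.2 ∧ xy.1 * xy.2 = g} : ℂ) / (Nat.card {y : G // ¬ p ∣ orderOf y} : ℂ)) := by
  classical
  haveI := Fintype.ofFinite G
  have hp : Fact p.Prime := inferInstance
  have hMm := hM.2.1
  obtain ⟨hpR, hmain⟩ := Helper6.principal_blockCoeff_mul_card hM g hg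
  have hconj : ∀ a b : G, orderOf (b * a * b⁻¹) = orderOf a := by
    intro a b
    have := MulEquiv.orderOf_eq (MulAut.conj b) a
    rw [MulAut.conj_apply] at this
    exact this
  have hcardR : Nat.card {y : G // ¬ p ∣ orderOf y} =
      (Finset.univ.filter (fun y : G => ¬ p ∣ orderOf y)).card := by
    rw [Nat.card_eq_fintype_card, Fintype.card_subtype]
  have hcardN : Nat.card {xy : G × G // (∃ k : ℕ, orderOf xy.1 = p ^ k) ∧ ¬ p ∣ orderOf xy.2 ∧
      xy.1 * xy.2 = g} = (Finset.univ.filter (fun h : G => (∃ j : ℕ, orderOf h = p ^ j) ∧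
          ¬ p ∣ orderOf (g * h))).card := by
    rw [← Fintype.card_subtype, ← Nat.card_eq_fintype_card]
    apply Nat.card_congr
    refine ⟨fun xy => ⟨g⁻¹ * xy.1.2, ?_, ?_⟩, fun h => ⟨(g * h.1⁻¹ * g⁻¹, g * h.1), ?_, ?_, ?_⟩,
      ?_, ?_⟩
    · obtain ⟨⟨x, y⟩, ⟨k, hk⟩, hy, hxy⟩ := xy
      simp only at hk hy hxy ⊢
      refine ⟨k, ?_⟩
      have : g⁻¹ * y = g⁻¹ * x⁻¹ * g⁻¹⁻¹ := by
        rw [← hxy]
        group
      rw [this, hconj, orderOf_inv, hk]
    · obtain ⟨⟨x, y⟩, ⟨k, hk⟩, hy, hxy⟩ := xy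
      simp only at hk hy hxy ⊢
      rw [mul_inv_cancel_left]
      exact hy
    · obtain ⟨j, hj⟩ := h.2.1
      exact ⟨j, by simp only; rw [hconj, orderOf_inv, hj]⟩
    · exact h.2.2
    · simp only
      group
    · rintro ⟨⟨x, y⟩, ⟨k, hk⟩, hy, hxy⟩
      apply Subtype.ext
      simp only at hxy ⊢
      apply Prod.ext
      · simp only
        rw [← hxy]
        group
      · simp only
        rw [mul_inv_cancel_left]
    · rintro ⟨h, hh⟩
      apply Subtype.ext
      simp only
      rw [inv_mul_cancel_left]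
  rw [hcardR, hcardN]
  obtain ⟨R, hR⟩ : ∃ R : ℕ, R = (Finset.univ.filter (fun y : G => ¬ p ∣ orderOf y)).card :=
    ⟨_, rfl⟩
  rw [← hR] at hpR hmain ⊢
  have hR0 : (R : ℂ) ≠ 0 := by
    have : R ≠ 0 := by
      rintro rfl
      exact hpR (dvd_zero p)
    exact_mod_cast this
  have hinv : Cfsg.MemLocalRing M ((1 : ℕ) / (R : ℂ)) :=
    Helper6.memLocalRing_natCast_div hMm p hp.out hM.2.2 1 R hpR
  have := Helper6.MemLocalIdeal.mul_left hMm hinv hmain
  convert this using 1
  rw [Nat.cast_one]
  field_simp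

end Cfsg.Agent.S0940
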