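import Cfsg.Statements.S0943
import Mathlib
import Cfsg.Agent.Helper6.ClassMult
-- import your own Cfsg.Agent.* helpers here

set_option autoImplicit false
open Cfsg

namespace Cfsg.Agent.S0943

/-- Let χ be an irreducible character of the finite group G and u, v ∈ G. If χ (x * y) = χ (u * v) whenever x is conjugate to u and y is conjugate to v, then χ u * χ v = χ 1 * χ (u * v). (Multiply the class sums of u and v and apply the central character of χ.) -/
theorem result {G : Type*} [Group G] [Finite G] (χ : Cfsg.IrrCharacter G) (u v : G) (hc : ∀ x y : G, IsConj u x → IsConj v y → (χ : G → ℂ) (x * y) = (χ : G → ℂ) (u * v)) : (χ : G → ℂ) u * (χ : G → ℂ) v = (χ : G → ℂ) 1 * (χ : G → ℂ) (u * v) := by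
  classical
  haveI := Fintype.ofFinite G
  obtain ⟨n, ρ, hirr, hρ⟩ := χ.2
  haveI := hirr
  haveI : Nontrivial (Fin n → ℂ) := Cfsg.Agent.Helper6.irr_nontrivial ρ
  have hd : (Module.finrank ℂ (Fin n → ℂ) : ℂ) ≠ 0 := by
    have : Module.finrank ℂ (Fin n → ℂ) ≠ 0 := Module.finrank_pos.ne'
    exact_mod_cast this
  have h := Cfsg.Agent.Helper6.class_mult_rep ρ u v 1
  simp only [mul_one] at h
  have hlhs : ∑ x ∈ Cfsg.Agent.Helper6.classFinset u, ∑ y ∈ Cfsg.Agent.Helper6.classFinset v,
      ρ.character (x * y) =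
      ((Cfsg.Agent.Helper6.classFinset u).card : ℂ) *
        ((Cfsg.Agent.Helper6.classFinset v).card : ℂ) * ρ.character (u * v) := by
    have : ∀ x ∈ Cfsg.Agent.Helper6.classFinset u, ∑ y ∈ Cfsg.Agent.Helper6.classFinset v,
        ρ.character (x * y) =
        ((Cfsg.Agent.Helper6.classFinset v).card : ℂ) * ρ.character (u * v) := by
      intro x hx
      rw [Cfsg.Agent.Helper6.mem_classFinset] at hx
      rw [← nsmul_eq_mul, ← Finset.sum_const]
      apply Finset.sum_congr rfl
      intro y hy
      rw [Cfsg.Agent.Helper6.mem_classFinset] at hy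
      have := hc x y hx hy
      rw [← hρ] at this
      exact this
    rw [Finset.sum_congr rfl this, Finset.sum_const, nsmul_eq_mul]
    ring
  rw [hlhs, Representation.char_one] at h
  have hu0 : ((Cfsg.Agent.Helper6.classFinset u).card : ℂ) ≠ 0 := by
    have : (Cfsg.Agent.Helper6.classFinset u).card ≠ 0 := by
      rw [Finset.card_ne_zero]
      exact ⟨u, (Cfsg.Agent.Helper6.mem_classFinset u u).mpr (IsConj.refl u)⟩
    exact_mod_cast this
  have hv0 : ((Cfsg.Agent.Helper6.classFinset v).card : ℂ) ≠ 0 := by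
    have : (Cfsg.Agent.Helper6.classFinset v).card ≠ 0 := by
      rw [Finset.card_ne_zero]
      exact ⟨v, (Cfsg.Agent.Helper6.mem_classFinset v v).mpr (IsConj.refl v)⟩
    exact_mod_cast this
  rw [← hρ, Representation.char_one]
  field_simp at h
  rw [← h]
  ring

end Cfsg.Agent.S0943
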