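import Cfsg.Statements.S0944
import Mathlib
import Cfsg.Agent.Helper6.RepEigen
-- import your own Cfsg.Agent.* helpers here

set_option autoImplicit false
open Cfsg

namespace Cfsg.Agent.S0944

/-- Let χ be an irreducible character of the finite group G and u an involution. Then χ u is a rational integer n with n ≡ χ 1 (mod 2). -/
theorem result {G : Type*} [Group G] [Finite G] (χ : Cfsg.IrrCharacter G) (u : G) (hu : orderOf u = 2) : ∃ n : ℤ, (χ : G → ℂ) u = (n : ℂ) ∧ (2 : ℤ) ∣ (Cfsg.charDegree (χ : G → ℂ) : ℤ) - n := by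
  classical
  obtain ⟨n, ρ, hirr, hρ⟩ := χ.2
  obtain ⟨ι, hι, b, μ, h1, h2, hcard⟩ := Cfsg.Agent.Helper6.exists_eigenbasis_rep ρ u
  rw [hu] at h2
  have hμ : ∀ i, μ i = 1 ∨ μ i = -1 := by
    intro i
    have : (μ i - 1) * (μ i + 1) = 0 := by
      have := h2 i
      linear_combination this
    rcases mul_eq_zero.mp this with h | h
    · left; exact sub_eq_zero.mp h
    · right; exact eq_neg_of_add_eq_zero_left h
  have htr : ρ.character u = ∑ i, μ i := by
    unfold Representation.character
    exact Cfsg.Agent.Helper6.trace_eq_sum_of_eigenbasis b (ρ u) μ h1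
  have hdeg : Cfsg.charDegree (χ : G → ℂ) = Fintype.card ι := by
    unfold Cfsg.charDegree
    rw [← hρ, Representation.char_one, hcard]
    simp
  refine ⟨∑ i, (if μ i = 1 then (1 : ℤ) else -1), ?_, ?_⟩
  · rw [← hρ, htr]
    push_cast
    apply Finset.sum_congr rfl
    intro i _
    rcases hμ i with h | h
    · rw [if_pos h, h]
    · have hne : μ i ≠ 1 := by
        rw [h]
        norm_num
      rw [if_neg hne, h]
  · rw [hdeg, Fintype.card_eq_sum_ones]
    push_cast
    rw [← Finset.sum_sub_distrib]
    apply Finset.dvd_sum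
    intro i _
    split_ifs
    · norm_num
    · norm_num

end Cfsg.Agent.S0944
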