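import Mathlib
import Cfsg.Statements.S0945
import Cfsg.Agent.Helper2.Homocyclic
import Cfsg.Agent.Helper2.DihSylow

set_option autoImplicit false
open Cfsg

namespace Cfsg.Agent.S0945

open Cfsg.Agent.Helper2

/-- Let P be a Sylow 2-subgroup of the finite group G isomorphic to Z/2^m × Z/2^m with m ≥ 1. Then (i) the index of C_G(P) in N_G(P) is 1 or 3, and (ii) if it is not 1, then for every z ≠ 1 in P, C_G(z) ∩ N_G(P) = C_G(P). -/
theorem result {G : Type*} [Group G] [Finite G] (P : Sylow 2 G) (m : ℕ) (hm : 1 ≤ m) (e : (P : Subgroup G) ≃* Multiplicative (ZMod (2 ^ m) × ZMod (2 ^ m))) : ((Subgroup.centralizer (P : Set G)).relIndex (Subgroup.normalizer (P : Set G)) = 1 ∨ (Subgroup.centralizer (P : Set G)).relIndex (Subgroup.normalizer (P : Set G)) = 3) ∧ ((Subgroup.centralizer (P : Set G)).relIndex (Subgroup.normalizer (P : Set G)) ≠ 1 → ∀ z ∈ (P : Subgroup G), z ≠ 1 → Subgroup.centralizer ({z} : Set G) ⊓ Subgroup.normalizer (P : Set G) = Subgroup.centralizer (P : Set G)) := by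
  classical
  haveI : Fact (Nat.Prime 2) := ⟨Nat.prime_two⟩
  haveI : NeZero (2 ^ m) := ⟨by positivity⟩
  have hcomm : ∀ a b : ↥(P : Subgroup G), a * b = b * a := by
    intro a b
    apply e.injective
    rw [map_mul, map_mul, mul_comm]
  have hP2 : IsPGroup 2 ↥(P : Subgroup G) := P.2
  -- at most four elements of order dividing two
  have hT : Nat.card {a : Multiplicative (ZMod (2 ^ m)) // a ^ 2 = 1} ≤ 2 := by
    rw [Nat.card_eq_fintype_card, Fintype.card_subtype]
    exact IsCyclic.card_pow_eq_one_le (by norm_num)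
  have hΩ : Nat.card (Homocyclic.omega ↥(P : Subgroup G) hcomm) ≤ 4 := by
    have hsq : ∀ x : Homocyclic.omega ↥(P : Subgroup G) hcomm, (e x.1) ^ 2 = 1 := by
      intro x
      have hx : (x.1 : ↥(P : Subgroup G)) ^ 2 = 1 := x.2
      rw [← map_pow, hx, map_one]
    let f : Homocyclic.omega ↥(P : Subgroup G) hcomm →
        {a : Multiplicative (ZMod (2 ^ m)) // a ^ 2 = 1} ×
          {a : Multiplicative (ZMod (2 ^ m)) // a ^ 2 = 1} := fun x =>
      (⟨Multiplicative.ofAdd (Multiplicative.toAdd (e x.1)).1, by
          have h1 := congrArg (fun y => (Multiplicative.toAdd y).1) (hsq x)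
          simp only [toAdd_pow, Prod.smul_fst, toAdd_one, Prod.fst_zero] at h1
          rw [← ofAdd_nsmul, h1, ofAdd_zero]⟩,
       ⟨Multiplicative.ofAdd (Multiplicative.toAdd (e x.1)).2, by
          have h1 := congrArg (fun y => (Multiplicative.toAdd y).2) (hsq x)
          simp only [toAdd_pow, Prod.smul_snd, toAdd_one, Prod.snd_zero] at h1
          rw [← ofAdd_nsmul, h1, ofAdd_zero]⟩)
    have hf : Function.Injective f := by
      intro x y hxy
      have h1 : (Multiplicative.toAdd (e x.1)).1 = (Multiplicative.toAdd (e y.1)).1 := by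
        have := congrArg (fun p => Multiplicative.toAdd (p.1 : Multiplicative (ZMod (2 ^ m)))) hxy
        exact this
      have h2 : (Multiplicative.toAdd (e x.1)).2 = (Multiplicative.toAdd (e y.1)).2 := by
        have := congrArg (fun p => Multiplicative.toAdd (p.2 : Multiplicative (ZMod (2 ^ m)))) hxy
        exact this
      have h3 : e x.1 = e y.1 := by
        apply Multiplicative.toAdd.injective
        exact Prod.ext h1 h2
      exact Subtype.ext (e.injective h3)
    have h1 := Nat.card_le_card_of_injective f hf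
    rw [Nat.card_prod] at h1
    calc Nat.card (Homocyclic.omega ↥(P : Subgroup G) hcomm) ≤ _ := h1
      _ ≤ 2 * 2 := Nat.mul_le_mul hT hT
  -- the automorphism group induced by the normalizer
  set C := Subgroup.centralizer ((P : Subgroup G) : Set G) with hC
  set N := Subgroup.normalizer ((P : Subgroup G) : Set G) with hN
  have hPC : (P : Subgroup G) ≤ C := by
    intro g hg
    rw [hC, Subgroup.mem_centralizer_iff]
    intro h hh
    exact congrArg Subtype.val (hcomm ⟨h, hh⟩ ⟨g, hg⟩)
  have hker : (P : Subgroup G).normalizerMonoidHom.ker = C.subgroupOf N :=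
    Subgroup.normalizerMonoidHom_ker (P : Subgroup G)
  have hcardA : Nat.card (P : Subgroup G).normalizerMonoidHom.range = C.relIndex N := by
    rw [← Subgroup.index_ker, hker]; rfl
  have hodd : Odd (Nat.card (P : Subgroup G).normalizerMonoidHom.range) := by
    rw [hcardA]
    have h1 : C.relIndex N ∣ (P : Subgroup G).relIndex N := Subgroup.relIndex_dvd_of_le_left N hPC
    have h2 : (P : Subgroup G).relIndex N ∣ (P : Subgroup G).index :=
      Subgroup.relIndex_dvd_index_of_le Subgroup.le_normalizer
    have h3 : ¬ 2 ∣ (P : Subgroup G).index := P.not_dvd_index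
    rw [← Nat.not_even_iff_odd, even_iff_two_dvd]
    exact fun h => h3 (h.trans (h1.trans h2))
  obtain ⟨h13, hfix⟩ := Homocyclic.card_odd_aut_subgroup hcomm hP2 hΩ _ hodd
  rw [hcardA] at h13
  refine ⟨h13, ?_⟩
  intro hne z hzP hz1
  apply le_antisymm
  · rintro g ⟨hgz, hgN⟩
    apply DihSylow.mem_centralizer_of_aut_eq_one (P : Subgroup G) g hgN
    apply hfix _ ⟨⟨g, hgN⟩, rfl⟩ ⟨z, hzP⟩
    · intro h
      exact hz1 (congrArg Subtype.val h)
    · apply Subtype.ext
      rw [Subgroup.normalizerMonoidHom_apply_apply_coe]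
      have h1 : z * g = g * z := (Subgroup.mem_centralizer_iff.mp hgz) z (Set.mem_singleton z)
      change g * z * g⁻¹ = z
      rw [← h1]; group
  · apply le_inf
    · intro g hg
      rw [Subgroup.mem_centralizer_iff]
      intro y hy
      rw [Set.mem_singleton_iff] at hy
      subst hy
      exact (Subgroup.mem_centralizer_iff.mp hg) y hzP
    · exact Subgroup.centralizer_le_normalizer _

end Cfsg.Agent.S0945
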