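import Cfsg.Statements.S0957
import Mathlib
-- import your own Cfsg.Agent.* helpers here

set_option autoImplicit false
open Cfsg

namespace Cfsg.Agent.S0957

/-- Let P be a Sylow p-subgroup of the finite group G, let g, h ∈ G and let p ^ d be the order of a Sylow p-subgroup of the centralizer of g. Then the number of pairs (y, z) with y conjugate to g, z conjugate to h and z * y⁻¹ ∈ P is divisible by the order of P divided by p ^ d. -/
theorem result {G : Type*} [Group G] [Finite G] (p : ℕ) [Fact p.Prime] (P : Sylow p G) (g h : G) (S : Sylow p (Subgroup.centralizer ({g} : Set G))) : Nat.card P / Nat.card S ∣ Nat.card {yz : G × G // IsConj g yz.1 ∧ IsConj h yz.2 ∧ yz.2 * yz.1⁻¹ ∈ (P : Subgroup G)} := by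
  classical
  have hp : p.Prime := Fact.out
  haveI : Fintype G := Fintype.ofFinite G
  let X := {yz : G × G // IsConj g yz.1 ∧ IsConj h yz.2 ∧ yz.2 * yz.1⁻¹ ∈ (P : Subgroup G)}
  letI : MulAction (P : Subgroup G) X :=
    { smul := fun u x => ⟨((u : G) * x.1.1 * (u : G)⁻¹, (u : G) * x.1.2 * (u : G)⁻¹), by
        obtain ⟨⟨y, z⟩, h1, h2, h3⟩ := x
        refine ⟨?_, ?_, ?_⟩
        · exact h1.trans (isConj_iff.mpr ⟨(u : G), rfl⟩)
        · exact h2.trans (isConj_iff.mpr ⟨(u : G), rfl⟩)
        · simp only at h3 ⊢
          have : (u : G) * z * (u : G)⁻¹ * ((u : G) * y * (u : G)⁻¹)⁻¹ =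
              (u : G) * (z * y⁻¹) * (u : G)⁻¹ := by group
          rw [this]
          exact (P : Subgroup G).mul_mem ((P : Subgroup G).mul_mem u.2 h3)
            ((P : Subgroup G).inv_mem u.2)⟩
      one_smul := by
        rintro ⟨⟨y, z⟩, h1⟩
        apply Subtype.ext
        show (((1 : (P : Subgroup G)) : G) * y * ((1 : (P : Subgroup G)) : G)⁻¹,
          ((1 : (P : Subgroup G)) : G) * z * ((1 : (P : Subgroup G)) : G)⁻¹) = (y, z)
        simp
      mul_smul := by
        rintro u v ⟨⟨y, z⟩, h1⟩
        apply Subtype.ext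
        show (((u * v : (P : Subgroup G)) : G) * y * ((u * v : (P : Subgroup G)) : G)⁻¹,
            ((u * v : (P : Subgroup G)) : G) * z * ((u * v : (P : Subgroup G)) : G)⁻¹)
          = ((u : G) * ((v : G) * y * (v : G)⁻¹) * (u : G)⁻¹,
            (u : G) * ((v : G) * z * (v : G)⁻¹) * (u : G)⁻¹)
        simp [mul_assoc] }
  have hsmul : ∀ (u : (P : Subgroup G)) (x : X), ((u • x : X) : G × G) =
      ((u : G) * x.1.1 * (u : G)⁻¹, (u : G) * x.1.2 * (u : G)⁻¹) := fun _ _ => rfl
  -- cardinalities
  have hPcard : Nat.card (P : Subgroup G) = p ^ (Nat.card G).factorization p :=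
    P.card_eq_multiplicity
  have hScard : Nat.card S = p ^ (Nat.card (Subgroup.centralizer ({g} : Set G))).factorization p :=
    S.card_eq_multiplicity
  have hSP : Nat.card S ∣ Nat.card (P : Subgroup G) := by
    rw [hPcard, hScard]
    apply pow_dvd_pow
    have hd : Nat.card (Subgroup.centralizer ({g} : Set G)) ∣ Nat.card G :=
      Subgroup.card_subgroup_dvd_card _
    exact (Nat.factorization_le_iff_dvd Nat.card_pos.ne' Nat.card_pos.ne').mpr hd p
  -- stabilizers have order dividing |S|
  have hstab : ∀ x : X, Nat.card (MulAction.stabilizer (P : Subgroup G) x) ∣ Nat.card S := by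
    intro x
    obtain ⟨c, hc⟩ := isConj_iff.mp x.2.1
    -- centralizers of g and of y have the same order
    have hcentcard : Nat.card (Subgroup.centralizer ({x.1.1} : Set G)) =
        Nat.card (Subgroup.centralizer ({g} : Set G)) := by
      symm
      apply Nat.card_congr
      refine (MulAut.conj c).toEquiv.subtypeEquiv ?_
      intro z
      simp only [MulEquiv.toEquiv_eq_coe, MulEquiv.coe_toEquiv, MulAut.conj_apply]
      rw [Subgroup.mem_centralizer_iff, Subgroup.mem_centralizer_iff]
      constructor
      · intro hz w hw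
        rw [Set.mem_singleton_iff.mp hw, ← hc]
        have := hz g rfl
        calc c * g * c⁻¹ * (c * z * c⁻¹) = c * (g * z) * c⁻¹ := by group
          _ = c * (z * g) * c⁻¹ := by rw [this]
          _ = c * z * c⁻¹ * (c * g * c⁻¹) := by group
      · intro hz w hw
        rw [Set.mem_singleton_iff.mp hw]
        have := hz x.1.1 rfl
        rw [← hc] at this
        calc g * z = c⁻¹ * (c * g * c⁻¹ * (c * z * c⁻¹)) * c := by group
          _ = c⁻¹ * (c * z * c⁻¹ * (c * g * c⁻¹)) * c := by rw [this]
          _ = z * g := by group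
    -- the stabilizer embeds into the centralizer of y
    let f : MulAction.stabilizer (P : Subgroup G) x →* Subgroup.centralizer ({x.1.1} : Set G) :=
      { toFun := fun u => ⟨((u : (P : Subgroup G)) : G), by
          rw [Subgroup.mem_centralizer_iff]
          intro w hw
          rw [Set.mem_singleton_iff.mp hw]
          have h1 := u.2
          rw [MulAction.mem_stabilizer_iff] at h1
          have h2 := congrArg (fun t : X => (t : G × G).1) h1
          simp only [hsmul] at h2
          exact (eq_mul_of_mul_inv_eq h2).symm⟩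
        map_one' := rfl
        map_mul' := fun _ _ => rfl }
    have hfinj : Function.Injective f := by
      intro u v huv
      apply Subtype.ext; apply Subtype.ext
      exact congrArg (fun t : Subgroup.centralizer ({x.1.1} : Set G) => (t : G)) huv
    have hd1 : Nat.card (MulAction.stabilizer (P : Subgroup G) x) ∣
        Nat.card (Subgroup.centralizer ({g} : Set G)) := by
      rw [← hcentcard]
      exact Subgroup.card_dvd_of_injective f hfinj
    have hpg : IsPGroup p (MulAction.stabilizer (P : Subgroup G) x) := P.isPGroup'.to_subgroup _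
    obtain ⟨k, hk⟩ := IsPGroup.iff_card.mp hpg
    rw [hk] at hd1 ⊢
    rw [hScard]
    apply pow_dvd_pow
    exact (hp.pow_dvd_iff_le_factorization Nat.card_pos.ne').mp hd1
  -- the class formula
  have hX : Nat.card X = ∑ ω : Quotient (MulAction.orbitRel (P : Subgroup G) X),
      (MulAction.stabilizer (P : Subgroup G) ω.out).index := by
    rw [Nat.card_congr (MulAction.selfEquivSigmaOrbitsQuotientStabilizer (P : Subgroup G) X),
      Nat.card_sigma]
    rfl
  show Nat.card (P : Subgroup G) / Nat.card S ∣ Nat.card X
  rw [hX]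
  apply Finset.dvd_sum
  intro ω _
  obtain ⟨m, hm⟩ := hstab ω.out
  have hidx := Subgroup.index_mul_card (MulAction.stabilizer (P : Subgroup G) ω.out)
  have hspos : 0 < Nat.card (MulAction.stabilizer (P : Subgroup G) ω.out) := Nat.card_pos
  rw [← hidx, hm, mul_comm _ (Nat.card _), Nat.mul_div_mul_left _ _ hspos]
  have hmdvd : m ∣ (MulAction.stabilizer (P : Subgroup G) ω.out).index := by
    have h3 := hSP
    rw [hm, ← hidx, mul_comm (Subgroup.index _)] at h3
    exact (Nat.mul_dvd_mul_iff_left hspos).mp h3
  exact Nat.div_dvd_of_dvd hmdvd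

end Cfsg.Agent.S0957
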