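import Cfsg.Statements.S0959
import Mathlib
import Cfsg.Agent.Helper6.MinMax2
import Cfsg.Agent.Helper6.BlockUnion
-- import your own Cfsg.Agent.* helpers here

set_option autoImplicit false
open Cfsg

namespace Cfsg.Agent.S0959

/-- Let B be a block of the finite group G with defect group D (relative to a maximal ideal M of the algebraic integers containing the prime p), and let P be a p-subgroup. Then there is an element g whose idempotent coefficient for B is a local integer outside the local ideal at M and which has a conjugate centralizing P, if and only if some conjugate of P is contained in D. -/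
theorem result {G : Type*} [Group G] [Finite G] (p : ℕ) [Fact p.Prime] (M : Ideal Cfsg.AlgInt) (hM : Cfsg.IsPModular p M) (B : Set (Cfsg.IrrCharacter G)) (hB : Cfsg.IsPBlock M B) (D : Subgroup G) (hD : Cfsg.IsDefectGroup p M B D) (P : Subgroup G) (hP : IsPGroup p P) : (∃ g : G, Cfsg.MemLocalRing M (Cfsg.blockCoeff B g) ∧ ¬ Cfsg.MemLocalIdeal M (Cfsg.blockCoeff B g) ∧ ∃ c : G, IsConj g c ∧ c ∈ Subgroup.centralizer (P : Set G)) ↔ ∃ x : G, P.map (MulAut.conj x).toMonoidHom ≤ D := by
  classical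
  obtain ⟨g₀, hg₀, S₀, hDdef⟩ := hD
  constructor
  · rintro ⟨g, _, hnot, c, hgc, hcP⟩
    -- `P` centralizes `c`
    have hPle : P ≤ Subgroup.centralizer ({c} : Set G) := by
      intro u hu
      rw [Subgroup.mem_centralizer_iff]
      intro w hw
      rw [Set.mem_singleton_iff] at hw
      subst hw
      exact (Subgroup.mem_centralizer_iff.mp hcP u hu).symm
    have hRp : IsPGroup p (P.subgroupOf (Subgroup.centralizer ({c} : Set G))) := hP.comap_subtype
    obtain ⟨Q, hQ⟩ := hRp.exists_le_sylow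
    have hnotc : ¬ Cfsg.MemLocalIdeal M (Cfsg.blockCoeff B c) := by
      obtain ⟨a, ha⟩ := isConj_iff.mp hgc
      rw [← ha, Helper6.blockCoeff_isClassFunction B g a]
      exact hnot
    obtain ⟨e, he⟩ := Helper6.exists_conj_sylow_le_defectGroup hM B hB g₀ hg₀ S₀ c hnotc Q
    refine ⟨e⁻¹, ?_⟩
    intro w hw
    rw [Subgroup.mem_map] at hw
    obtain ⟨u, hu, rfl⟩ := hw
    have huQ : (⟨u, hPle hu⟩ : Subgroup.centralizer ({c} : Set G)) ∈ Q :=
      hQ (by rw [Subgroup.mem_subgroupOf]; exact hu)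
    obtain ⟨s, hs, hseq⟩ := he _ huQ
    rw [hDdef, Subgroup.mem_map]
    refine ⟨s, hs, ?_⟩
    have h1 : (s : G) = e⁻¹ * u * e := by
      have : e * (s : G) * e⁻¹ = u := hseq
      rw [← this]; group
    simp only [MulEquiv.coe_toMonoidHom, MulAut.conj_apply, inv_inv]
    exact h1
  · rintro ⟨x, hx⟩
    refine ⟨g₀, hg₀.1, hg₀.2.1, x⁻¹ * g₀ * x, isConj_iff.mpr ⟨x⁻¹, by simp⟩, ?_⟩
    rw [Subgroup.mem_centralizer_iff]
    intro u hu
    have h1 : x * u * x⁻¹ ∈ D := hx (by
      rw [Subgroup.mem_map]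
      exact ⟨u, hu, by simp [MulAut.conj_apply]⟩)
    rw [hDdef, Subgroup.mem_map] at h1
    obtain ⟨s, _, hs⟩ := h1
    have h2 : g₀ * (x * u * x⁻¹) = (x * u * x⁻¹) * g₀ := by
      rw [← hs]
      have := s.2
      rw [Subgroup.mem_centralizer_iff] at this
      exact this g₀ (Set.mem_singleton g₀)
    calc u * (x⁻¹ * g₀ * x) = x⁻¹ * ((x * u * x⁻¹) * g₀) * x := by group
      _ = x⁻¹ * (g₀ * (x * u * x⁻¹)) * x := by rw [h2]
      _ = x⁻¹ * g₀ * x * u := by group

end Cfsg.Agent.S0959
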