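import Cfsg.Statements.S0961
import Mathlib
import Cfsg.Agent.Helper6.Brauer9
-- import your own Cfsg.Agent.* helpers here

set_option autoImplicit false
open Cfsg

namespace Cfsg.Agent.S0961

/-- Let χ be an irreducible character of the finite group G and let p ^ a be the largest power of the prime p dividing the order of G. Then the function equal to p ^ a * χ x at elements x of order prime to p and to 0 elsewhere is a generalized character (a difference of characters). -/
theorem result {G : Type*} [Group G] [Finite G] (p : ℕ) [Fact p.Prime] (χ : Cfsg.IrrCharacter G) : Cfsg.IsGeneralizedCharacter G (fun x : G => if p ∣ orderOf x then 0 else ((p ^ (Nat.card G).factorization p : ℕ) : ℂ) * (χ : G → ℂ) x) := by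
  classical
  haveI : Fintype G := Fintype.ofFinite G
  have hp := (Fact.out : p.Prime)
  have hχc := Helper6.IsIrrCharacter.isCharacter χ.2
  have hχcf := Helper6.IsCharacter.isClassFunction hχc
  apply Helper6.brauer_characterization
  · intro g h
    have ho : orderOf (h * g * h⁻¹) = orderOf g := by
      have := MulEquiv.orderOf_eq (MulAut.conj h) g
      simpa using this
    simp only [ho, hχcf g h]
  · intro E q hq hEq
    haveI : Fintype E := Fintype.ofFinite _
    obtain ⟨B, hBn, hcop, b, hb⟩ := Helper6.exists_normal_p_complement hq hEq p
    haveI := hBn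
    have hφc : Cfsg.IsCharacter E (fun e : E => (χ : G → ℂ) e) := Helper6.IsCharacter.restrict E hχc
    have hφcf := Helper6.IsCharacter.isClassFunction hφc
    have hind := Helper6.indFun_normal_complement B hcop hb (fun e : E => (χ : G → ℂ) e) hφcf
    have hba : b ≤ (Nat.card G).factorization p := by
      rw [← Nat.Prime.pow_dvd_iff_le_factorization hp Nat.card_pos.ne', ← hb]
      exact (Subgroup.index_dvd_card B).trans (Subgroup.card_subgroup_dvd_card E)
    have heq : (fun e : E => if p ∣ orderOf (e : G) then (0 : ℂ) else
        ((p ^ (Nat.card G).factorization p : ℕ) : ℂ) * (χ : G → ℂ) e) =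
        (p ^ ((Nat.card G).factorization p - b)) •
          Cfsg.indFun B (fun x : B => (fun e : E => (χ : G → ℂ) e) x) := by
      rw [hind]
      funext e
      rw [Pi.smul_apply, Subgroup.orderOf_coe]
      by_cases hd : p ∣ orderOf e
      · simp [hd]
      · simp only [hd, if_false, nsmul_eq_mul]
        rw [← mul_assoc]
        congr 1
        rw [← Nat.cast_mul, ← pow_add, Nat.sub_add_cancel hba]
    rw [heq]
    apply Helper6.IsGeneralizedCharacter.of_isCharacter
    apply Helper6.IsCharacter.nsmul
    exact Helper6.isCharacter_indFun B _ (Helper6.IsCharacter.restrict B hφc)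

end Cfsg.Agent.S0961
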