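import Cfsg.Statements.S0963
import Mathlib
import Cfsg.Agent.Helper6.IndCentral
import Cfsg.Agent.Helper6.Clifford
import Cfsg.Agent.Helper6.SmallDegree
-- import your own Cfsg.Agent.* helpers here

set_option autoImplicit false
open Cfsg

namespace Cfsg.Agent.S0963

/-- Let N be a normal subgroup of the finite group G, χ an irreducible character of G and θ an irreducible character of N. Then θ occurs in the restriction of χ to N if and only if, for every n ∈ N, the central character of χ at n (class size in G times χ n over χ 1) equals the sum of θ m / θ 1 over the elements m of N conjugate in G to n. -/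
theorem result {G : Type*} [Group G] [Fintype G] (N : Subgroup G) [N.Normal] [Fintype N] (χ : Cfsg.IrrCharacter G) (θ : Cfsg.IrrCharacter N) : Cfsg.classInner (fun n : N => (χ : G → ℂ) n) (θ : N → ℂ) ≠ 0 ↔ ∀ n : N, Cfsg.centralChar (χ : G → ℂ) (n : G) = Cfsg.inducedCentralChar N (θ : N → ℂ) (n : G) := by
  classical
  have hχ := χ.2
  have hθ := θ.2
  have hχchar := Cfsg.Agent.Helper6.IsIrrCharacter.isCharacter hχ
  have hχcf := Cfsg.Agent.Helper6.IsCharacter.isClassFunction hχchar
  obtain ⟨dχ, hdχ, -, hdχpos⟩ := Cfsg.Agent.Helper6.IsIrrCharacter.degree_dvd_card hχ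
  obtain ⟨dθ, hdθ, -, hdθpos⟩ := Cfsg.Agent.Helper6.IsIrrCharacter.degree_dvd_card hθ
  have hχ1 : (χ : G → ℂ) 1 ≠ 0 := by
    rw [hdχ]
    exact_mod_cast hdχpos.ne'
  have hind1 : Cfsg.indFun N (θ : N → ℂ) 1 ≠ 0 := by
    rw [Cfsg.Agent.Helper6.indFun_apply_one, hdθ]
    have hidx : N.index ≠ 0 := Subgroup.index_ne_zero_of_finite
    have : N.index * dθ ≠ 0 := Nat.mul_ne_zero hidx hdθpos.ne'
    exact_mod_cast this
  -- reformulate the condition
  have hcond : (∀ n : N, Cfsg.centralChar (χ : G → ℂ) (n : G) =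
      Cfsg.inducedCentralChar N (θ : N → ℂ) (n : G)) ↔
      ∀ n : N, (χ : G → ℂ) n / (χ : G → ℂ) 1 =
        Cfsg.indFun N (θ : N → ℂ) n / Cfsg.indFun N (θ : N → ℂ) 1 := by
    apply forall_congr'
    intro n
    rw [Cfsg.Agent.Helper6.inducedCentralChar_eq_centralChar]
    unfold Cfsg.centralChar
    have hidx : ((Subgroup.centralizer ({(n : G)} : Set G)).index : ℂ) ≠ 0 := by
      have : (Subgroup.centralizer ({(n : G)} : Set G)).index ≠ 0 :=
        Subgroup.index_ne_zero_of_finite
      exact_mod_cast this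
    rw [mul_div_assoc, mul_div_assoc]
    exact ⟨fun h => mul_left_cancel₀ hidx h, fun h => by rw [h]⟩
  rw [hcond]
  have hrestr := Cfsg.Agent.Helper6.indFun_normal_restrict N (θ : N → ℂ)
  set S := ∑ᶠ ψ ∈ {ψ : N → ℂ | ∃ g : G, ψ = Cfsg.Agent.Helper6.conjFun N (θ : N → ℂ) g}, ψ
    with hS
  set c := (Nat.card {g : G // Cfsg.Agent.Helper6.conjFun N (θ : N → ℂ) g = (θ : N → ℂ)} : ℂ) /
    (Nat.card N : ℂ) with hc
  have hindv : ∀ n : N, Cfsg.indFun N (θ : N → ℂ) n = c * S n := by
    intro n
    have := congrFun hrestr n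
    rw [Pi.smul_apply, smul_eq_mul] at this
    exact this
  have hc0 : c ≠ 0 := by
    intro h0
    apply hind1
    have := hindv 1
    rw [h0, zero_mul] at this
    exact this
  constructor
  · intro hne n
    have hcl := Cfsg.Agent.Helper6.clifford N (χ : G → ℂ) hχ (θ : N → ℂ) hθ hne
    have hχv : ∀ m : N, (χ : G → ℂ) m =
        Cfsg.classInner (fun n : N => (χ : G → ℂ) n) (θ : N → ℂ) * S m := by
      intro m
      have := congrFun hcl m
      rw [Pi.smul_apply, smul_eq_mul] at this
      exact this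
    have h1 : (χ : G → ℂ) 1 = (χ : G → ℂ) ((1 : N) : G) := rfl
    have h2 : Cfsg.indFun N (θ : N → ℂ) 1 = Cfsg.indFun N (θ : N → ℂ) ((1 : N) : G) := rfl
    rw [h1, h2, hχv n, hχv 1, hindv n, hindv 1, mul_div_mul_left _ _ hne, mul_div_mul_left _ _ hc0]
  · intro hall
    have hfun : (fun n : N => (χ : G → ℂ) n) =
        ((χ : G → ℂ) 1 / Cfsg.indFun N (θ : N → ℂ) 1) •
          (fun n : N => Cfsg.indFun N (θ : N → ℂ) n) := by
      funext n
      have := hall n
      rw [Pi.smul_apply, smul_eq_mul]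
      field_simp
      field_simp at this
      linear_combination this
    rw [hfun, Cfsg.Agent.Helper6.classInner_smul_left]
    apply mul_ne_zero (div_ne_zero hχ1 hind1)
    rw [Cfsg.Agent.Helper6.classInner_conj_symm,
      ← Cfsg.Agent.Helper6.frobenius_reciprocity N (θ : N → ℂ) _
        (Cfsg.Agent.Helper6.indFun_isClassFunction N _)]
    intro h
    have h3 := (map_eq_zero (starRingEnd ℂ)).mp h
    have h4 := Cfsg.Agent.Helper6.classInner_self_eq_zero h3
    apply hind1
    rw [h4]
    rfl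

end Cfsg.Agent.S0963
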