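import Cfsg.Statements.S0971
import Mathlib
import Cfsg.Agent.Helper6.IrrOver
import Cfsg.Agent.Helper6.DefectClass
-- import your own Cfsg.Agent.* helpers here

set_option autoImplicit false
open Cfsg

namespace Cfsg.Agent.S0971

/-- Let Q be a normal p-subgroup of the finite group G, let N = Q ⊔ C_G(Q) (a normal subgroup) and let b be a block of N relative to a maximal ideal M of the algebraic integers containing p. Then b induces some block of G, and every block B of G containing a character whose restriction to N has a constituent in b is induced by b. -/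
theorem result {G : Type*} [Group G] [Fintype G] (p : ℕ) [Fact p.Prime] (M : Ideal Cfsg.AlgInt) (hM : Cfsg.IsPModular p M) (Q : Subgroup G) [Q.Normal] (hQ : IsPGroup p Q) [Fintype ↥(Q ⊔ Subgroup.centralizer (Q : Set G))] (b : Set (Cfsg.IrrCharacter ↥(Q ⊔ Subgroup.centralizer (Q : Set G)))) (hb : Cfsg.IsPBlock M b) : Cfsg.InducedBlockDefined M (Q ⊔ Subgroup.centralizer (Q : Set G)) b ∧ ∀ B : Set (Cfsg.IrrCharacter G), Cfsg.IsPBlock M B → (∃ χ ∈ B, ∃ θ ∈ b, Cfsg.classInner (fun n : ↥(Q ⊔ Subgroup.centralizer (Q : Set G)) => (χ : G → ℂ) n) (θ : ↥(Q ⊔ Subgroup.centralizer (Q : Set G)) → ℂ) ≠ 0) → Cfsg.IsInducedBlock M (Q ⊔ Subgroup.centralizer (Q : Set G)) b B := by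
  classical
  haveI hHn : (Q ⊔ Subgroup.centralizer (Q : Set G)).Normal := inferInstance
  have hCH : Subgroup.centralizer (Q : Set G) ≤ Q ⊔ Subgroup.centralizer (Q : Set G) := le_sup_right
  have key : ∀ B : Set (Cfsg.IrrCharacter G), Cfsg.IsPBlock M B →
      (∃ χ ∈ B, ∃ θ ∈ b, Cfsg.classInner
        (fun n : ↥(Q ⊔ Subgroup.centralizer (Q : Set G)) => (χ : G → ℂ) n)
        (θ : ↥(Q ⊔ Subgroup.centralizer (Q : Set G)) → ℂ) ≠ 0) →
      Cfsg.IsInducedBlock M (Q ⊔ Subgroup.centralizer (Q : Set G)) b B :=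
    fun B hB hcov => Helper6.isInducedBlock_of_covering hM Q hQ _ hCH b hb B hB hcov
  refine ⟨?_, key⟩
  obtain ⟨θ₀, hθ₀⟩ := hb
  have hθ₀b : θ₀ ∈ b := by rw [hθ₀]; exact Helper6.mem_blockOf_self hM.2.1 θ₀
  obtain ⟨χ₁, hχ₁⟩ := Helper6.exists_irr_over (Q ⊔ Subgroup.centralizer (Q : Set G)) θ₀
  exact ⟨Cfsg.blockOf M (χ₁ : G → ℂ), key _ ⟨χ₁, rfl⟩
    ⟨χ₁, Helper6.mem_blockOf_self hM.2.1 χ₁, θ₀, hθ₀b, hχ₁⟩⟩

end Cfsg.Agent.S0971
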