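import Cfsg.Statements.S0972
import Mathlib
import Cfsg.Agent.Helper6.NormalDefectA
-- import your own Cfsg.Agent.* helpers here

set_option autoImplicit false
open Cfsg

namespace Cfsg.Agent.S0972

/-- Let B be a block of the finite group G (relative to a maximal ideal M of the algebraic integers containing the prime p) with a defect group P that is normal in G. Then P is commutative if and only if every member of B has height zero. -/
theorem result {G : Type*} [Group G] [Finite G] (p : ℕ) [Fact p.Prime] (M : Ideal Cfsg.AlgInt) (hM : Cfsg.IsPModular p M) (B : Set (Cfsg.IrrCharacter G)) (hB : Cfsg.IsPBlock M B) (P : Subgroup G) [P.Normal] (hP : Cfsg.IsDefectGroup p M B P) : (∀ a ∈ P, ∀ c ∈ P, a * c = c * a) ↔ ∀ χ ∈ B, Cfsg.blockHeight p B (χ : G → ℂ) = 0 := by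
  classical
  haveI := Fintype.ofFinite G
  have hM' := hM
  have hP' := hP
  obtain ⟨hpp, hMmax, hpM⟩ := hM
  constructor
  · intro hab χ hχ
    have hcard := Helper6.card_defectGroup hMmax p hpM B hB P hP
    obtain ⟨n, ρ, hirr, hρ⟩ := χ.2
    haveI := hirr
    have hdvd := Helper6.ito ρ P hab
    have hfr : Module.finrank ℂ (Fin n → ℂ) = n := by simp
    rw [hfr] at hdvd
    have hdeg : Cfsg.charDegree (χ : G → ℂ) = n := by
      rw [← hρ]
      exact Helper6.charDegree_rep ρ
    have hidx0 : P.index ≠ 0 := Subgroup.index_ne_zero_of_finite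
    have hP0 : Nat.card P ≠ 0 := Nat.card_pos.ne'
    have hmul : Nat.card P * P.index = Nat.card G := Subgroup.card_mul_index P
    have hadd : (Nat.card G).factorization p =
        (Nat.card P).factorization p + P.index.factorization p := by
      rw [← hmul, Nat.factorization_mul hP0 hidx0]
      rfl
    have hPfac : (Nat.card P).factorization p = Cfsg.blockDefect p B := by
      rw [hcard, Nat.Prime.factorization_pow hpp]
      simp
    have hn0 : n ≠ 0 := by
      intro h0
      rw [h0] at hdvd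
      exact hidx0 (Nat.eq_zero_of_zero_dvd hdvd)
    have hle : n.factorization p ≤ P.index.factorization p :=
      (Nat.factorization_le_iff_dvd hn0 hidx0).mpr hdvd p
    obtain ⟨s, hs⟩ : ∃ s : ℕ, s = sInf ((fun ξ : Cfsg.IrrCharacter G =>
        (Cfsg.charDegree (ξ : G → ℂ)).factorization p) '' B) := ⟨_, rfl⟩
    have hdef : Cfsg.blockDefect p B = (Nat.card G).factorization p - s := by
      rw [hs]; rfl
    have hht : Cfsg.blockHeight p B (χ : G → ℂ) =
        (Cfsg.charDegree (χ : G → ℂ)).factorization p - s := by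
      rw [hs]; rfl
    have hsle : s ≤ (Cfsg.charDegree (χ : G → ℂ)).factorization p := by
      rw [hs]
      exact Nat.sInf_le ⟨χ, hχ, rfl⟩
    rw [hht, hdeg]
    rw [hdeg] at hsle
    omega
  · intro h a ha c hc
    by_contra hne
    obtain ⟨y, hcls, S, hPS⟩ := hP
    have hDcent : ∀ d ∈ P, d * y = y * d := by
      intro d hd
      rw [hPS] at hd
      obtain ⟨k, -, rfl⟩ := Subgroup.mem_map.mp hd
      exact Subgroup.mem_centralizer_singleton_iff.mp k.2
    have hDp : IsPGroup p P := by
      rw [hPS]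
      exact S.isPGroup'.map _
    have hzP : a * c * a⁻¹ * c⁻¹ ∈ P :=
      P.mul_mem (P.mul_mem (P.mul_mem ha hc) (P.inv_mem ha)) (P.inv_mem hc)
    have hz1 : a * c * a⁻¹ * c⁻¹ ≠ 1 := by
      intro h1
      apply hne
      have := congrArg (fun t => t * c * a) h1
      simpa [mul_assoc] using this
    have hker : ∀ χ ∈ B, (χ : G → ℂ) (a * c * a⁻¹ * c⁻¹) = (χ : G → ℂ) 1 :=
      fun χ hχ => Helper6.height_zero_commutator_ker hM' B hB P hP' χ hχ (h χ hχ) a c ha hc
    have hcoef : Cfsg.blockCoeff B (y * (a * c * a⁻¹ * c⁻¹)) = Cfsg.blockCoeff B y := by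
      unfold Cfsg.blockCoeff
      congr 1
      apply finsum_mem_congr rfl
      intro χ hχ
      rw [Helper6.IsCharacter.apply_mul_of_apply_eq_one
        (Helper6.IsIrrCharacter.isCharacter χ.2) (hker χ hχ) y]
    have hreg := Helper6.IsDefectClass.not_dvd_orderOf hMmax p hpM B hB y hcls
    have hzord : ∃ k : ℕ, orderOf (a * c * a⁻¹ * c⁻¹) = p ^ k := by
      obtain ⟨k, hk⟩ := hDp ⟨a * c * a⁻¹ * c⁻¹, hzP⟩
      have h1 : (a * c * a⁻¹ * c⁻¹) ^ p ^ k = 1 := by
        have := congrArg (fun t : P => (t : G)) hk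
        simpa using this
      obtain ⟨j, -, hj⟩ := (Nat.dvd_prime_pow hpp).mp (orderOf_dvd_of_pow_eq_one h1)
      exact ⟨j, hj⟩
    have hyz : y * (a * c * a⁻¹ * c⁻¹) = (a * c * a⁻¹ * c⁻¹) * y := (hDcent _ hzP).symm
    have hsing := Helper6.dvd_orderOf_mul_of_pgroup p y _ hreg hzord hz1 hyz
    have h0 := Helper6.blockCoeff_eq_zero_of_singular hMmax p hpM B hB _ hsing
    rw [hcoef] at h0
    apply hcls.2.1
    rw [h0]
    exact Helper6.memLocalIdeal_zero hMmax

end Cfsg.Agent.S0972
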