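import Cfsg.Statements.S0973
import Mathlib
import Cfsg.Agent.Helper6.LocalBlockConj
-- import your own Cfsg.Agent.* helpers here

set_option autoImplicit false
open Cfsg

namespace Cfsg.Agent.S0973

/-- Let B be a block of the finite group G with defect group P (relative to a maximal ideal M of the algebraic integers containing p), and let L = P ⊔ C_G(P). Then (i) some block b of L with defect group P (viewed in L) induces B, and (ii) if b and b' are blocks of L both inducing B, there is n ∈ N_G(P) carrying b to b': for every θ ∈ b there is θ' ∈ b' with θ' x = θ (n x n⁻¹) for all x ∈ L. -/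
theorem result {G : Type*} [Group G] [Finite G] (p : ℕ) [Fact p.Prime] (M : Ideal Cfsg.AlgInt) (hM : Cfsg.IsPModular p M) (B : Set (Cfsg.IrrCharacter G)) (hB : Cfsg.IsPBlock M B) (P : Subgroup G) (hP : Cfsg.IsDefectGroup p M B P) : (∃ b : Set (Cfsg.IrrCharacter ↥(P ⊔ Subgroup.centralizer (P : Set G))), Cfsg.IsDefectGroup p M b (P.subgroupOf (P ⊔ Subgroup.centralizer (P : Set G))) ∧ Cfsg.IsInducedBlock M (P ⊔ Subgroup.centralizer (P : Set G)) b B) ∧ ∀ b b' : Set (Cfsg.IrrCharacter ↥(P ⊔ Subgroup.centralizer (P : Set G))), Cfsg.IsInducedBlock M (P ⊔ Subgroup.centralizer (P : Set G)) b B → Cfsg.IsInducedBlock M (P ⊔ Subgroup.centralizer (P : Set G)) b' B → ∃ n ∈ Subgroup.normalizer (P : Set G), ∀ θ ∈ b, ∃ θ' ∈ b', ∀ x : ↥(P ⊔ Subgroup.centralizer (P : Set G)), ∀ hx : n * (x : G) * n⁻¹ ∈ P ⊔ Subgroup.centralizer (P : Set G), (θ' : ↥(P ⊔ Subgroup.centralizer (P : Set G)) → ℂ) x = (θ : ↥(P ⊔ Subgroup.centralizer (P : Set G)) → ℂ) ⟨n * (x : G) * n⁻¹, hx⟩ := by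
  classical
  haveI : Fintype G := Fintype.ofFinite G
  have hPp : IsPGroup p P :=
    IsPGroup.of_card (Helper6.card_defectGroup hM.2.1 p hM.2.2 B hB P hP)
  have hPL : P ≤ P ⊔ Subgroup.centralizer (P : Set G) := le_sup_left
  have hCL : Subgroup.centralizer (P : Set G) ≤ P ⊔ Subgroup.centralizer (P : Set G) :=
    le_sup_right
  have hLN : P ⊔ Subgroup.centralizer (P : Set G) ≤ Subgroup.normalizer (P : Set G) :=
    sup_le Subgroup.le_normalizer (Subgroup.centralizer_le_normalizer _)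
  have hNL := Helper6.normalizer_le_normalizer_sup_centralizer P
  constructor
  · obtain ⟨b, hb⟩ := Helper6.exists_block_inducing_local hM P _ hPp hPL hCL hLN B hB hP
    exact ⟨b, Helper6.isDefectGroup_of_induced_local hM P _ hPp hPL hLN B hP b hb, hb⟩
  · intro b b' hind hind'
    obtain ⟨n, hn, hn', hconj⟩ := Helper6.local_blocks_conj hM P _ hPp hCL hLN hNL B hP b b'
      hind hind'
    refine ⟨n, hn, fun θ hθ => ⟨_, hconj θ hθ, fun x hx => ?_⟩⟩
    rw [Helper6.nconjIrr_apply]
    refine congrArg (θ : ↥(P ⊔ Subgroup.centralizer (P : Set G)) → ℂ) ?_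
    apply Subtype.ext
    rw [Helper6.coe_nconjHom, inv_inv]

end Cfsg.Agent.S0973
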