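import Cfsg.Statements.S0976
import Cfsg.Agent.Helper4.Ord4032_n288
import Cfsg.Agent.Helper2.Ord4032_n36
import Cfsg.Agent.Helper8.Ord4032_n64

set_option autoImplicit false
open Cfsg

namespace Cfsg.Agent.S0976

/-- the possible numbers of Sylow 7-subgroups -/
theorem h4_div_cases : ∀ n ∈ Nat.divisors 576, n % 7 = 1 →
    n = 1 ∨ n = 8 ∨ n = 36 ∨ n = 64 ∨ n = 288 := by
  decide

/-- No finite simple group has order 4032 = 2^6 * 3^2 * 7. -/
theorem result {G : Type*} [Group G] [Finite G] [IsSimpleGroup G] : Nat.card G ≠ 4032 := by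
  intro h
  haveI : Fact (Nat.Prime 7) := ⟨by norm_num⟩
  obtain ⟨P⟩ := (Sylow.nonempty : Nonempty (Sylow 7 G))
  have hP7 : Nat.card (P : Subgroup G) = 7 := by
    rw [Sylow.card_eq_multiplicity, h, Cfsg.Agent.Helper4.Ord4032.h4_fact4032, pow_one]
  have hidx : (P : Subgroup G).index = 576 := by
    have := Subgroup.card_mul_index (P : Subgroup G)
    rw [hP7, h] at this
    omega
  have hdvd : Nat.card (Sylow 7 G) ∣ 576 := hidx ▸ Sylow.card_dvd_index P
  have hmod : Nat.card (Sylow 7 G) % 7 = 1 := card_sylow_modEq_one (p := 7) (G := G)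
  rcases h4_div_cases _ (Nat.mem_divisors.mpr ⟨hdvd, by norm_num⟩) hmod with
    h1 | h1 | h1 | h1 | h1
  · haveI : Subsingleton (Sylow 7 G) := (Nat.card_eq_one_iff_unique.mp h1).1
    have hnorm : (P : Subgroup G).Normal := Sylow.normal_of_subsingleton P
    rcases hnorm.eq_bot_or_eq_top with hk | hk
    · rw [hk, Subgroup.card_bot] at hP7
      omega
    · rw [hk, Subgroup.card_top, h] at hP7
      omega
  · exact Cfsg.Agent.Helper8.Ord4032.index_ne_eight h _
      ((Sylow.card_eq_index_normalizer P).symm.trans h1)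
  · exact Cfsg.Agent.Helper2.Ord4032.n7_ne_36 h h1
  · exact Cfsg.Agent.Helper8.Ord4032.n7_ne_64 h h1
  · exact Cfsg.Agent.Helper4.Ord4032.n7_ne_288 h h1

end Cfsg.Agent.S0976
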