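import Cfsg.Statements.S0977
import Cfsg.Agent.O57.Front
import Cfsg.Agent.O57.EFour
import Cfsg.Agent.O57.Invert
import Cfsg.Agent.O57.CharData
import Cfsg.Agent.O57.Arith4320
import Cfsg.Agent.Helper2.BrTIH

set_option autoImplicit false
set_option linter.style.haveILetI false
open Cfsg

namespace Cfsg.Agent.S0977

open Cfsg.Agent.O57 Cfsg.Agent.Helper2 Cfsg.Agent.Helper6 Cfsg.Agent.BR

/-- No finite simple group has order 4320 = 2^5 * 3^3 * 5. -/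
theorem result {G : Type*} [Group G] [Finite G] [IsSimpleGroup G] : Nat.card G ≠ 4320 := by
  classical
  intro hG
  haveI : Fact (Nat.Prime 5) := ⟨by norm_num⟩
  haveI : Fintype G := Fintype.ofFinite G
  have hperf : commutator G = ⊤ := BrTI.perfect_of_simple (by rw [hG]; norm_num)
  let P : Sylow 5 G := default
  obtain ⟨hP, X, Y, dl, ep, O, h⟩ :=
    o57_front 5 3 5 (by norm_num) (by norm_num) (by rw [hG]; norm_num) P
  -- `e = 4`, `n_5 = 216`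
  have hen : (P : Subgroup G).relIndex (Subgroup.normalizer ((P : Subgroup G) : Set G)) = 4 ∧
      Nat.card (Sylow 5 G) = 216 := by
    have hcard := o57_card_eq h
    have hmod : Nat.card (Sylow 5 G) % 5 = 1 := card_sylow_modEq_one 5 G
    have hcY := h.card_Y
    rw [hG] at hcard
    generalize (P : Subgroup G).relIndex (Subgroup.normalizer ((P : Subgroup G) : Set G)) = e
      at hcard hcY ⊢
    generalize Nat.card (Sylow 5 G) = n at hcard hmod ⊢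
    have he4 : e ∣ 4 := ⟨Nat.card Y, by rw [mul_comm]; omega⟩
    have he5 : e ≤ 4 := Nat.le_of_dvd (by norm_num) he4
    interval_cases e <;> omega
  obtain ⟨he, hn⟩ := hen
  obtain ⟨χ₂, χ₃, χ₄, ψ, h2t, h3t, h4t, hψt, h23, h24, h34, hψ2, hψ3, hψ4, hXeq, hYeq⟩ :=
    o57_efour h rfl he
  have hχ2X : χ₂ ∈ X := by rw [hXeq]; simp
  have hχ3X : χ₃ ∈ X := by rw [hXeq]; simp
  have hχ4X : χ₄ ∈ X := by rw [hXeq]; simp
  have hψY : ψ ∈ Y := by rw [hYeq]; rfl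
  -- a generator `x` of `P` and an involution `t` inverting it
  obtain ⟨x, hxP, hx1, -, -, hcent⟩ := br_redb_generator 5 (P : Subgroup G) hP
  obtain ⟨t, ht, hinv⟩ := o57_invert h (by rw [he]; norm_num)
  have hN := o57_pairs_card h (by norm_num) t ht hinv x hxP hx1 hcent
  have htt : t * t = 1 := by
    have := pow_orderOf_eq_one t
    rwa [ht, pow_two] at this
  have ht5 : ¬ 5 ∣ orderOf t := by rw [ht]; norm_num
  -- the data of the four characters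
  obtain ⟨d2, b2, e21, e2t, hd2, h2, hm2, hb2, hl2⟩ := o57_X_data hperf h χ₂ hχ2X h2t t htt
  obtain ⟨d3, b3, e31, e3t, hd3, h3, hm3, hb3, hl3⟩ := o57_X_data hperf h χ₃ hχ3X h3t t htt
  obtain ⟨d4, b4, e41, e4t, hd4, h4, hm4, hb4, hl4⟩ := o57_X_data hperf h χ₄ hχ4X h4t t htt
  obtain ⟨d5, b5, e51, e5t, hd5, h5, hm5, hb5, hl5⟩ := o57_Y_data hperf h ψ hψY t htt
  rw [he, hn] at hd2 hd3 hd4 hd5
  rw [he] at hm5
  have hdl1 := o57_dl_triv h
  have htriv : ∀ g : G, ((trivIrr G : IrrCharacter G) : G → ℂ) g = 1 := fun _ => rfl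
  -- the relations at `1` and `t`
  have hrel1 := o57_rel h 1 o57_reg_one ψ hψY
  rw [hXeq, o57_finsum_four _ _ _ _ h2t.symm h3t.symm h4t.symm h23 h24 h34, hdl1, htriv, e21,
    e31, e41, e51] at hrel1
  have hrelt := o57_rel h t ht5 ψ hψY
  rw [hXeq, o57_finsum_four _ _ _ _ h2t.symm h3t.symm h4t.symm h23 h24 h34, hdl1, htriv, e2t,
    e3t, e4t, e5t] at hrelt
  have hdeg : 1 + dl χ₂ * (d2 : ℤ) + dl χ₃ * (d3 : ℤ) + dl χ₄ * (d4 : ℤ) + (-ep) * (d5 : ℤ) = 0 := by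
    have : ((1 + dl χ₂ * (d2 : ℤ) + dl χ₃ * (d3 : ℤ) + dl χ₄ * (d4 : ℤ) + (-ep) * (d5 : ℤ) : ℤ) : ℂ)
        = 0 := by
      push_cast
      linear_combination -hrel1
    exact_mod_cast this
  have hval : 1 + dl χ₂ * b2 + dl χ₃ * b3 + dl χ₄ * b4 + (-ep) * b5 = 0 := by
    have : ((1 + dl χ₂ * b2 + dl χ₃ * b3 + dl χ₄ * b4 + (-ep) * b5 : ℤ) : ℂ) = 0 := by
      push_cast
      linear_combination -hrelt
    exact_mod_cast this
  -- the count
  have hcnt := o57_count h x hxP hx1 t t ht5 ht5 ψ hψY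
  rw [hXeq, o57_finsum_four _ _ _ _ h2t.symm h3t.symm h4t.symm h23 h24 h34, hdl1, htriv, htriv,
    e21, e31, e41, e51, e2t, e3t, e4t, e5t, hN, hG] at hcnt
  obtain ⟨C, hCdef⟩ : ∃ C : ℕ, C = Nat.card (Subgroup.centralizer ({t} : Set G)) := ⟨_, rfl⟩
  rw [← hCdef] at hcnt
  have hd2' : (d2 : ℂ) ≠ 0 := by have : 0 < d2 := by omega
                                 exact_mod_cast this.ne'
  have hd3' : (d3 : ℂ) ≠ 0 := by have : 0 < d3 := by omega
                                 exact_mod_cast this.ne'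
  have hd4' : (d4 : ℂ) ≠ 0 := by have : 0 < d4 := by omega
                                 exact_mod_cast this.ne'
  have hd5' : (d5 : ℂ) ≠ 0 := by have : 0 < d5 := by omega
                                 exact_mod_cast this.ne'
  have hcount : 5 * (C : ℤ) ^ 2 * ((d2 : ℤ) * d3 * d4 * d5) =
      4320 * ((d2 : ℤ) * d3 * d4 * d5 + dl χ₂ * b2 ^ 2 * ((d3 : ℤ) * d4 * d5) +
        dl χ₃ * b3 ^ 2 * ((d2 : ℤ) * d4 * d5) + dl χ₄ * b4 ^ 2 * ((d2 : ℤ) * d3 * d5) +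
        (-ep) * b5 ^ 2 * ((d2 : ℤ) * d3 * d4)) := by
    have : ((5 * (C : ℤ) ^ 2 * ((d2 : ℤ) * d3 * d4 * d5) : ℤ) : ℂ) =
        ((4320 * ((d2 : ℤ) * d3 * d4 * d5 + dl χ₂ * b2 ^ 2 * ((d3 : ℤ) * d4 * d5) +
        dl χ₃ * b3 ^ 2 * ((d2 : ℤ) * d4 * d5) + dl χ₄ * b4 ^ 2 * ((d2 : ℤ) * d3 * d5) +
        (-ep) * b5 ^ 2 * ((d2 : ℤ) * d3 * d4)) : ℤ) : ℂ) := by
      push_cast
      have h0 : (5 : ℂ) * (C : ℂ) ^ 2 = ((5 : ℕ) : ℂ) * (C : ℂ) * (C : ℂ) := by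
        push_cast; ring
      rw [h0, hcnt]
      field_simp
      ring
    exact_mod_cast this
  -- the column bound
  have hcol : 1 + b2 ^ 2 + b3 ^ 2 + b4 ^ 2 + b5 ^ 2 ≤ (C : ℤ) := by
    have h1 := o57_col_bound t ({trivIrr G, χ₂, χ₃, χ₄, ψ} : Finset (IrrCharacter G))
    rw [Finset.sum_insert (by simp [h2t.symm, h3t.symm, h4t.symm, hψt.symm]),
      Finset.sum_insert (by simp [h23, h24, hψ2.symm]),
      Finset.sum_insert (by simp [h34, hψ3.symm]),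
      Finset.sum_insert (by simp [hψ4.symm]), Finset.sum_singleton, htriv, e2t, e3t, e4t, e5t,
      ← hCdef] at h1
    have h2' : ∀ b : ℤ, Complex.normSq ((b : ℂ)) = ((b ^ 2 : ℤ) : ℝ) := by
      intro b
      rw [← Complex.ofReal_intCast, Complex.normSq_ofReal]
      push_cast
      ring
    rw [h2', h2', h2', h2', map_one] at h1
    have h3' : ((1 + (b2 ^ 2 + (b3 ^ 2 + (b4 ^ 2 + b5 ^ 2))) : ℤ) : ℝ) ≤ ((C : ℤ) : ℝ) := by
      push_cast
      exact_mod_cast h1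
    have h4' : 1 + (b2 ^ 2 + (b3 ^ 2 + (b4 ^ 2 + b5 ^ 2))) ≤ (C : ℤ) := by exact_mod_cast h3'
    linarith
  -- the congruence of `ψ(1)`
  have hm5' : (d5 : ℤ) ≡ -ep [ZMOD 5] := by
    refine hm5.trans ?_
    rw [Int.modEq_iff_dvd]
    exact ⟨-ep, by push_cast; ring⟩
  have hs5 : -ep = 1 ∨ -ep = -1 := by
    rcases h.ep_sign with h0 | h0 <;> rw [h0] <;> norm_num
  exact o57_arith4320 d2 d3 d4 d5 (dl χ₂) (dl χ₃) (dl χ₄) (-ep) b2 b3 b4 b5 C hd2 hd3 hd4 hd5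
    h2 h3 h4 h5 (h.dl_sign χ₂) (h.dl_sign χ₃) (h.dl_sign χ₄) hs5 hm2 hm3 hm4 hm5' hdeg
    hb2 hb3 hb4 hb5 hl2 hl3 hl4 hl5 hval hcol hcount

end Cfsg.Agent.S0977
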