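import Cfsg.Statements.S0978
import Cfsg.Agent.O50.Arith
import Cfsg.Agent.O50.SylSmall
import Cfsg.Agent.O50.CaseVal
import Cfsg.Agent.O50.CaseE2
import Cfsg.Agent.O50.Main6
import Cfsg.Agent.BR.RedK
import Cfsg.Agent.D1C.ValPMain
import Cfsg.Agent.D1C.Principal
import Cfsg.Agent.Helper6.PowCongr
import Cfsg.Agent.Helper2.SmallOrder

set_option autoImplicit false
set_option linter.style.haveILetI false
open Cfsg

namespace Cfsg.Agent.S0978

open Cfsg.Agent.O50 Cfsg.Agent.Helper2 Cfsg.Agent.Helper6 Cfsg.Agent.BR Cfsg.Agent.D1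

/-- No finite simple group has order 5040 = 2^4 * 3^2 * 5 * 7. -/
theorem result {G : Type*} [Group G] [Finite G] [IsSimpleGroup G] : Nat.card G ≠ 5040 := by
  classical
  intro hG
  haveI : Fact (Nat.Prime 7) := ⟨by norm_num⟩
  have hperf : commutator G = ⊤ := o50_cv_perfect hG
  let P : Sylow 7 G := default
  have hP : Nat.card (P : Subgroup G) = 7 := o50_cv_cardP hG P
  obtain ⟨M, hM⟩ := exists_isPModular 7 (by norm_num)
  -- the index `e = |N : C|`
  obtain ⟨e, he⟩ : ∃ e : ℕ, (Subgroup.centralizer ((P : Subgroup G) : Set G)).relIndex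
      (Subgroup.normalizer ((P : Subgroup G) : Set G)) = e := ⟨_, rfl⟩
  have hP1 : (P : Subgroup G) ≠ ⊥ := by
    intro h
    rw [h, Subgroup.card_bot] at hP
    omega
  have he1 : e ≠ 1 := by
    intro h1
    rw [h1, Subgroup.relIndex_eq_one] at he
    exact hP1 (br_redK_transfer hperf 7 P he)
  have he6 : e ∣ 6 := by
    obtain ⟨J, iF, -, -, -, hJ, -⟩ := d1_valp_main (M := M) 7 hM P hP e he
    exact ⟨Fintype.card J, by rw [mul_comm]; exact hJ.symm⟩
  -- the orders of `N` and `C`
  obtain ⟨a, ha⟩ : ∃ a : ℕ,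
      Nat.card ↥(Subgroup.normalizer ((P : Subgroup G) : Set G)) = a := ⟨_, rfl⟩
  obtain ⟨c, hc⟩ : ∃ c : ℕ,
      Nat.card ↥(Subgroup.centralizer ((P : Subgroup G) : Set G)) = c := ⟨_, rfl⟩
  obtain ⟨hcnt, hce⟩ := o50_cv_counts hG P a c ha hc
  rw [he] at hce
  have h7c : 7 ∣ c := by
    have h := Subgroup.card_dvd_of_le (d1_fin_le_centralizer (P : Subgroup G) hP)
    rwa [hP, hc] at h
  -- the number of Sylow `7`-subgroups
  have hdvd : Nat.card (Sylow 7 G) ∣ 720 := by
    have hidx : (P : Subgroup G).index = 720 := by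
      have h1 := (P : Subgroup G).card_mul_index
      rw [hP, hG] at h1
      omega
    exact hidx ▸ Sylow.card_dvd_index P
  have hmod : Nat.card (Sylow 7 G) % 7 = 1 := card_sylow_modEq_one 7 G
  have hne1 : Nat.card (Sylow 7 G) ≠ 1 := by
    apply SmallOrder.card_sylow_ne_one P
    · rw [hP]; norm_num
    · rw [hP, hG]; norm_num
  have he236 : e = 2 ∨ e = 3 ∨ e = 6 := by
    have h4 : e ≤ 6 := Nat.le_of_dvd (by norm_num) he6
    obtain ⟨k, hk⟩ := he6
    interval_cases e <;> omega
  obtain ⟨c', rfl⟩ := h7c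
  rcases o50_sylow_cands _ hdvd hmod with h1 | h8 | h15 | h36 | h120
  · exact hne1 h1
  · exact o50_n7_small hG (Or.inl h8)
  · exact o50_n7_small hG (Or.inr h15)
  · -- `n_7 = 36`, `|N| = 140`
    rw [h36] at hcnt
    have ha140 : a = 140 := by omega
    rw [ha140] at hce ha
    have he2 : e = 2 := by
      rcases he236 with h | h | h
      · exact h
      · rw [h] at hce; omega
      · rw [h] at hce; omega
    rw [he2] at hce
    exact o50_caseN36 hG P ha (by rw [hc]; omega)
  · -- `n_7 = 120`, `|N| = 42`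
    rw [h120] at hcnt
    have ha42 : a = 42 := by omega
    rw [ha42] at hce ha
    rcases he236 with h | h | h <;> rw [h] at hce
    · exact o50_caseE2 hG P ha (by rw [hc]; omega)
    · exact o50_caseE3 hG P ha (by rw [hc]; omega)
    · exact o50_main6 hG P ha (by rw [hc]; omega)

end Cfsg.Agent.S0978
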