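import Cfsg.Statements.S0980
import Cfsg.Agent.O57.Front
import Cfsg.Agent.O57.ETwo
import Cfsg.Agent.O57.TwoCentral
import Cfsg.Agent.Helper2.BrTIH
import Cfsg.Agent.Helper6.KleinFourB
import Cfsg.Agent.Helper6.BlockKernel
import Cfsg.Agent.Helper6.NormalInd2

set_option autoImplicit false
set_option linter.style.haveILetI false
open Cfsg

namespace Cfsg.Agent.S0980

open Cfsg.Agent.O57 Cfsg.Agent.Helper2 Cfsg.Agent.Helper6 Cfsg.Agent.BR

/-- the arithmetic: `N C² f (f + δ) = 5760 (f - c)²` is impossible for `N ≥ 5`, `C ≥ 128`,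
`f ≥ 2`, `|c| ≤ f` -/
theorem arith (N C f : ℕ) (δ c : ℤ) (hN : 5 ≤ N) (hC : 128 ≤ C) (hf : 2 ≤ f)
    (hδ : δ = 1 ∨ δ = -1) (hc1 : -(f : ℤ) ≤ c) (hc2 : c ≤ (f : ℤ))
    (h : (N : ℤ) * C * C * f * (f + δ) = 5760 * ((f : ℤ) - c) * ((f : ℤ) - c)) : False := by
  have hN' : (5 : ℤ) ≤ N := by exact_mod_cast hN
  have hC' : (128 : ℤ) ≤ C := by exact_mod_cast hC
  have hf' : (2 : ℤ) ≤ f := by exact_mod_cast hf
  have h1 : (5 : ℤ) * 128 * 128 ≤ (N : ℤ) * C * C := by
    have h2 : (5 : ℤ) * 128 ≤ (N : ℤ) * C := mul_le_mul hN' hC' (by norm_num) (by linarith)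
    exact mul_le_mul h2 hC' (by norm_num) (by nlinarith)
  have h3 : (f : ℤ) * ((f : ℤ) - 1) ≤ (f : ℤ) * ((f : ℤ) + δ) := by
    apply mul_le_mul_of_nonneg_left _ (by linarith)
    rcases hδ with h | h <;> rw [h] <;> linarith
  have h4 : (0 : ℤ) ≤ (f : ℤ) * ((f : ℤ) - 1) := mul_nonneg (by linarith) (by linarith)
  have h5 : (5 : ℤ) * 128 * 128 * ((f : ℤ) * ((f : ℤ) - 1)) ≤
      (N : ℤ) * C * C * ((f : ℤ) * ((f : ℤ) + δ)) :=
    mul_le_mul h1 h3 h4 (by nlinarith)
  have h6 : ((f : ℤ) - c) * ((f : ℤ) - c) ≤ (2 * (f : ℤ)) * (2 * (f : ℤ)) :=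
    mul_le_mul (by linarith) (by linarith) (by linarith) (by linarith)
  have h7 : (5 : ℤ) * 128 * 128 * ((f : ℤ) * ((f : ℤ) - 1)) ≤
      5760 * ((2 * (f : ℤ)) * (2 * (f : ℤ))) := by
    calc (5 : ℤ) * 128 * 128 * ((f : ℤ) * ((f : ℤ) - 1))
        ≤ (N : ℤ) * C * C * ((f : ℤ) * ((f : ℤ) + δ)) := h5
      _ = 5760 * (((f : ℤ) - c) * ((f : ℤ) - c)) := by linear_combination h
      _ ≤ 5760 * ((2 * (f : ℤ)) * (2 * (f : ℤ))) := by linarith
  nlinarith

/-- No finite simple group has order 5760 = 2^7 * 3^2 * 5. -/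
theorem result {G : Type*} [Group G] [Finite G] [IsSimpleGroup G] : Nat.card G ≠ 5760 := by
  classical
  intro hG
  haveI : Fact (Nat.Prime 5) := ⟨by norm_num⟩
  haveI : Fintype G := Fintype.ofFinite G
  have hperf : commutator G = ⊤ := BrTI.perfect_of_simple (by rw [hG]; norm_num)
  let P : Sylow 5 G := default
  obtain ⟨hP, X, Y, dl, ep, O, h⟩ :=
    o57_front 5 2 7 (by norm_num) (by norm_num) (by rw [hG]; norm_num) P
  -- `e = 2`
  have he : (P : Subgroup G).relIndex (Subgroup.normalizer ((P : Subgroup G) : Set G)) = 2 := by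
    have hcard := o57_card_eq h
    have hmod : Nat.card (Sylow 5 G) % 5 = 1 := card_sylow_modEq_one 5 G
    have hcY := h.card_Y
    rw [hG] at hcard
    generalize (P : Subgroup G).relIndex (Subgroup.normalizer ((P : Subgroup G) : Set G)) = e
      at hcard hcY ⊢
    generalize Nat.card (Sylow 5 G) = n at hcard hmod
    have he4 : e ∣ 4 := ⟨Nat.card Y, by rw [mul_comm]; omega⟩
    have he5 : e ≤ 4 := Nat.le_of_dvd (by norm_num) he4
    interval_cases e <;> omega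
  obtain ⟨χ, δ, hχ1, hδ, hχx, hform⟩ := o57_etwo h he
  obtain ⟨x, hx⟩ := br_blk_exists_ne_one h
  have hx1 : (x : G) ≠ 1 := br_blk_ne_one_coe x hx
  obtain ⟨z, hz, hzC⟩ := o57_central_invol (G := G) 7 45 (by norm_num)
    (by rw [hG]; norm_num) (by norm_num)
  have hz5 : ¬ 5 ∣ orderOf z := by rw [hz]; norm_num
  have hz1 : z ≠ 1 := by
    intro h0
    rw [h0, orderOf_one] at hz
    omega
  have key := hform (x : G) x.2 hx1 z z hz5 hz5
  have hdvd := o57_dvd_count h (x : G) x.2 z z hz5 hz1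
  have hchar := IsIrrCharacter.isCharacter χ.2
  obtain ⟨c, hc⟩ := char_involution_int hchar z hz
  obtain ⟨hfpos, hf⟩ := br_redb_degree χ
  obtain ⟨f, hfdef⟩ : ∃ f : ℕ, f = Cfsg.charDegree (χ : G → ℂ) := ⟨_, rfl⟩
  rw [← hfdef] at hfpos hf
  -- `f ≥ 2`
  have hf2 : 2 ≤ f := by
    by_contra hlt
    have hf1 : f = 1 := by omega
    apply hχ1
    apply br_redb_eq_triv hperf
    rw [hf, hf1, Nat.cast_one]
  -- `|c| ≤ f`
  have hnorm := IsCharacter.norm_le hchar z
  rw [hc, hf, Complex.norm_intCast, Complex.natCast_re] at hnorm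
  have habs : |c| ≤ (f : ℤ) := by exact_mod_cast hnorm
  have hc1 := (abs_le.mp habs).1
  have hc2 := (abs_le.mp habs).2
  -- the integer equation
  rw [hc, hf, hG] at key
  have keyZ : (((classPairs z z (x : G)).card : ℕ) : ℤ) *
      (Nat.card (Subgroup.centralizer ({z} : Set G)) : ℤ) *
      (Nat.card (Subgroup.centralizer ({z} : Set G)) : ℤ) * (f : ℤ) * ((f : ℤ) + δ) =
      5760 * ((f : ℤ) - c) * ((f : ℤ) - c) := by
    exact_mod_cast key
  -- the count is not `0`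
  have hN0 : (classPairs z z (x : G)).card ≠ 0 := by
    intro h0
    rw [h0] at keyZ
    have h0' : 5760 * (((f : ℤ) - c) * ((f : ℤ) - c)) = 0 := by
      rw [← mul_assoc, ← keyZ]
      push_cast
      ring
    have h1 : ((f : ℤ) - c) * ((f : ℤ) - c) = 0 :=
      (mul_eq_zero.mp h0').resolve_left (by norm_num)
    have h2 : (f : ℤ) = c := by
      have := mul_self_eq_zero.mp h1
      linarith
    -- `z` lies in the kernel of `χ`
    have hzk : z ∈ kerSub χ := by
      rw [mem_kerSub, hc, hf, ← h2]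
      push_cast
      rfl
    haveI := kerSub_normal χ
    rcases (kerSub_normal χ).eq_bot_or_eq_top with hk | hk
    · rw [hk, Subgroup.mem_bot] at hzk
      exact hz1 hzk
    · have hxk : (x : G) ∈ kerSub χ := by rw [hk]; exact Subgroup.mem_top _
      rw [mem_kerSub, hχx (x : G) x.2 hx1, hf] at hxk
      have h3 : δ = (f : ℤ) := by exact_mod_cast hxk
      rcases hδ with h4 | h4 <;> omega
  have hN5 : 5 ≤ (classPairs z z (x : G)).card :=
    Nat.le_of_dvd (Nat.pos_of_ne_zero hN0) hdvd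
  have hC128 : 128 ≤ Nat.card (Subgroup.centralizer ({z} : Set G)) :=
    Nat.le_of_dvd Nat.card_pos hzC
  exact arith _ _ f δ c hN5 hC128 hf2 hδ hc1 hc2 keyZ

end Cfsg.Agent.S0980
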