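import Mathlib
import Cfsg.Statements.S0981
import Mathlib
import Cfsg.Agent.Helper2.S4080E
import Cfsg.Agent.S1230
import Cfsg.Agent.Helper7.SLTransfer

set_option autoImplicit false
open Cfsg

namespace Cfsg.Agent.S0981

open Cfsg.Agent.Helper2

/-- A simple group of order 4080 is isomorphic to the projective special linear group of dimension 2 over the field with 16 elements. -/
theorem result {G : Type*} [Group G] [Finite G] [IsSimpleGroup G] (h : Nat.card G = 4080) {F : Type*} [Field F] [Fintype F] (hF : Fintype.card F = 16) : Nonempty (G ≃* Matrix.ProjectiveSpecialLinearGroup (Fin 2) F) := by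
      haveI : Fact (Nat.Prime 2) := ⟨Nat.prime_two⟩
      let T : Sylow 2 G := default
      obtain ⟨hT, hnc, hnn⟩ := Cfsg.Agent.Helper2.S4080.sylow2_facts h T
      obtain ⟨F', _, _, hF', ⟨e⟩⟩ := Cfsg.Agent.S1230.result T hnc hnn
        (fun t ht => Cfsg.Agent.Helper2.S4080.centralizer_invol h t ht)
      have hcard : Fintype.card F' = Fintype.card F := by rw [hF', hT, hF]
      exact ⟨e.trans (Cfsg.Agent.Helper7.SLTransfer.pslEquiv (FiniteField.ringEquivOfCardEq hcard))⟩

end Cfsg.Agent.S0981
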