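import Cfsg.Statements.S0983
import Cfsg.Agent.O83.Large
import Cfsg.Agent.O83.Smooth
import Cfsg.Agent.O83.TrivA
import Cfsg.Agent.O83.TrivB
import Cfsg.Agent.O83.TrivC
import Cfsg.Agent.O83.N3675
import Cfsg.Agent.O83.N3696
import Cfsg.Agent.O83.N3780
import Cfsg.Agent.O83.N3840
import Cfsg.Agent.O83.N3900
import Cfsg.Agent.O83.N3960
import Cfsg.Agent.O83.N4004
import Cfsg.Agent.O83.N4095
import Cfsg.Agent.O83.N4160
import Cfsg.Agent.O83.N4200
import Cfsg.Agent.O83.N4212
import Cfsg.Agent.O83.N4224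
import Cfsg.Agent.O83.N4312
import Cfsg.Agent.O83.N4368
import Cfsg.Agent.O83.N4400
import Cfsg.Agent.O83.N4455
import Cfsg.Agent.O83.N4480
import Cfsg.Agent.O83.N4500
import Cfsg.Agent.O83.N4536
import Cfsg.Agent.O83.N4620
import Cfsg.Agent.O83.N4680
import Cfsg.Agent.O83.N4725
import Cfsg.Agent.O83.N4752
import Cfsg.Agent.O83.N4800
import Cfsg.Agent.O83.N4851
import Cfsg.Agent.O83.N4900
import Cfsg.Agent.O83.N4928
import Cfsg.Agent.O83.N5148
import Cfsg.Agent.O83.N5200
import Cfsg.Agent.O83.N5236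
import Cfsg.Agent.O83.N5265
import Cfsg.Agent.O83.N5280
import Cfsg.Agent.O83.N5292
import Cfsg.Agent.O83.N5355
import Cfsg.Agent.O83.N5376
import Cfsg.Agent.O83.N5400
import Cfsg.Agent.O83.N5445
import Cfsg.Agent.O83.N5460
import Cfsg.Agent.O83.N5508
import Cfsg.Agent.O83.N5544
import Cfsg.Agent.O83.N5600
import Cfsg.Agent.O83.N5824
import Cfsg.Agent.O83.N5880
import Cfsg.Agent.O83.N5940
import Cfsg.Agent.O83.N6000
import Cfsg.Agent.O83.N6120
import Cfsg.Agent.O83.N6160
import Cfsg.Agent.S0975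
import Cfsg.Agent.O83.N4032
import Cfsg.Agent.S0977
import Cfsg.Agent.S0978
import Cfsg.Agent.S0980

set_option autoImplicit false
set_option maxRecDepth 8192
open Cfsg

namespace Cfsg.Agent.S0983

/-- A non-abelian finite simple group of order greater than 3640 and at most 6232 has order 4080, 5616, 6048 or 6072. -/
theorem result {G : Type*} [Group G] [Finite G] [IsSimpleGroup G] (hG : ¬ IsMulCommutative G) (h1 : 3640 < Nat.card G) (h2 : Nat.card G ≤ 6232) : Nat.card G = 4080 ∨ Nat.card G = 5616 ∨ Nat.card G = 6048 ∨ Nat.card G = 6072 := by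
  rcases Cfsg.Agent.O83.o83_smooth (Nat.card G) h1 h2 with hmem | ⟨p, hp, hdvd, hbig⟩
  swap
  · rcases Cfsg.Agent.O83.o83_large hG p hp hdvd hbig h1 h2 with h | h
    · exact Or.inl h
    · exact Or.inr (Or.inr (Or.inr h))
  simp only [Cfsg.Agent.O83.o83_list, List.mem_cons, List.mem_nil_iff, or_false] at hmem
  rcases hmem with h | h | h | h | h | h | h | h | h | h | h | h | h | h | h | h | h | h | h | h | h | h | h | h | h | h | h | h | h | h | h | h | h | h | h | h | h | h | h | h | h | h | h | h | h | h | h | h | h | h | h | h | h | h | h | h | h | h | h | h | h | h | h | h | h | h | h | h | h | h | h | h | h | h | h | h | h | h | h | h | h | h | h | h | h | h | h | h | h | h | h | h | h | h | h | h | h | h | h | h | h | h | h | h | h | h | h | h | h | h | h | h | h | h | h | h | h | h | h | h | h | h | h | h | h | h | h | h | h | h | h | h | h | h | h | h | h | h | h | h | h | h | h | h | h | h | h | h | h | h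
  · exact absurd h Cfsg.Agent.O83.o83_n3645
  · exact absurd h Cfsg.Agent.O83.o83_n3675
  · exact absurd h Cfsg.Agent.O83.o83_n3696
  · exact absurd h Cfsg.Agent.O83.o83_n3718
  · exact absurd h Cfsg.Agent.S0975.result
  · exact absurd h Cfsg.Agent.O83.o83_n3750
  · exact absurd h Cfsg.Agent.O83.o83_n3773
  · exact absurd h Cfsg.Agent.O83.o83_n3780
  · exact absurd h Cfsg.Agent.O83.o83_n3822
  · exact absurd h Cfsg.Agent.O83.o83_n3840
  · exact absurd h Cfsg.Agent.O83.o83_n3850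
  · exact absurd h Cfsg.Agent.O83.o83_n3861
  · exact absurd h Cfsg.Agent.O83.o83_n3872
  · exact absurd h Cfsg.Agent.O83.o83_n3888
  · exact absurd h Cfsg.Agent.O83.o83_n3900
  · exact absurd h Cfsg.Agent.O83.o83_n3920
  · exact absurd h Cfsg.Agent.O83.o83_n3960
  · exact absurd h Cfsg.Agent.O83.o83_n3969
  · exact absurd h Cfsg.Agent.O83.o83_n3993
  · exact absurd h Cfsg.Agent.O83.o83_n4000
  · exact absurd h Cfsg.Agent.O83.o83_n4004
  · exact absurd h Cfsg.Agent.O83.o83_n4032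
  · exact absurd h Cfsg.Agent.O83.o83_n4050
  · exact absurd h Cfsg.Agent.O83.o83_n4056
  · exact absurd h Cfsg.Agent.O83.o83_n4095
  · exact absurd h Cfsg.Agent.O83.o83_n4096
  · exact absurd h Cfsg.Agent.O83.o83_n4116
  · exact absurd h Cfsg.Agent.O83.o83_n4125
  · exact absurd h Cfsg.Agent.O83.o83_n4158
  · exact absurd h Cfsg.Agent.O83.o83_n4160
  · exact absurd h Cfsg.Agent.O83.o83_n4200
  · exact absurd h Cfsg.Agent.O83.o83_n4212
  · exact absurd h Cfsg.Agent.O83.o83_n4224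
  · exact absurd h Cfsg.Agent.O83.o83_n4225
  · exact absurd h Cfsg.Agent.O83.o83_n4235
  · exact absurd h Cfsg.Agent.O83.o83_n4290
  · exact absurd h Cfsg.Agent.O83.o83_n4312
  · exact absurd h Cfsg.Agent.S0977.result
  · exact absurd h Cfsg.Agent.O83.o83_n4356
  · exact absurd h Cfsg.Agent.O83.o83_n4368
  · exact absurd h Cfsg.Agent.O83.o83_n4374
  · exact absurd h Cfsg.Agent.O83.o83_n4375
  · exact absurd h Cfsg.Agent.O83.o83_n4394
  · exact absurd h Cfsg.Agent.O83.o83_n4400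
  · exact absurd h Cfsg.Agent.O83.o83_n4410
  · exact absurd h Cfsg.Agent.O83.o83_n4455
  · exact absurd h Cfsg.Agent.O83.o83_n4459
  · exact absurd h Cfsg.Agent.O83.o83_n4480
  · exact absurd h Cfsg.Agent.O83.o83_n4500
  · exact absurd h Cfsg.Agent.O83.o83_n4536
  · exact absurd h Cfsg.Agent.O83.o83_n4550
  · exact absurd h Cfsg.Agent.O83.o83_n4563
  · exact absurd h Cfsg.Agent.O83.o83_n4576
  · exact absurd h Cfsg.Agent.O83.o83_n4608
  · exact absurd h Cfsg.Agent.O83.o83_n4620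
  · exact absurd h Cfsg.Agent.O83.o83_n4680
  · exact absurd h Cfsg.Agent.O83.o83_n4704
  · exact absurd h Cfsg.Agent.O83.o83_n4719
  · exact absurd h Cfsg.Agent.O83.o83_n4725
  · exact absurd h Cfsg.Agent.O83.o83_n4732
  · exact absurd h Cfsg.Agent.O83.o83_n4752
  · exact absurd h Cfsg.Agent.O83.o83_n4800
  · exact absurd h Cfsg.Agent.O83.o83_n4802
  · exact absurd h Cfsg.Agent.O83.o83_n4840
  · exact absurd h Cfsg.Agent.O83.o83_n4851
  · exact absurd h Cfsg.Agent.O83.o83_n4860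
  · exact absurd h Cfsg.Agent.O83.o83_n4875
  · exact absurd h Cfsg.Agent.O83.o83_n4900
  · exact absurd h Cfsg.Agent.O83.o83_n4913
  · exact absurd h Cfsg.Agent.O83.o83_n4914
  · exact absurd h Cfsg.Agent.O83.o83_n4928
  · exact absurd h Cfsg.Agent.O83.o83_n4950
  · exact absurd h Cfsg.Agent.O83.o83_n4992
  · exact absurd h Cfsg.Agent.O83.o83_n4998
  · exact absurd h Cfsg.Agent.O83.o83_n5000
  · exact absurd h Cfsg.Agent.O83.o83_n5005
  · exact absurd h Cfsg.Agent.S0978.result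
  · exact absurd h Cfsg.Agent.O83.o83_n5049
  · exact absurd h Cfsg.Agent.O83.o83_n5070
  · exact absurd h Cfsg.Agent.O83.o83_n5082
  · exact absurd h Cfsg.Agent.O83.o83_n5096
  · exact absurd h Cfsg.Agent.O83.o83_n5100
  · exact absurd h Cfsg.Agent.O83.o83_n5103
  · exact absurd h Cfsg.Agent.O83.o83_n5120
  · exact absurd h Cfsg.Agent.O83.o83_n5145
  · exact absurd h Cfsg.Agent.O83.o83_n5148
  · exact absurd h Cfsg.Agent.O83.o83_n5184
  · exact absurd h Cfsg.Agent.O83.o83_n5200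
  · exact absurd h Cfsg.Agent.O83.o83_n5202
  · exact absurd h Cfsg.Agent.O83.o83_n5236
  · exact absurd h Cfsg.Agent.O83.o83_n5250
  · exact absurd h Cfsg.Agent.O83.o83_n5265
  · exact absurd h Cfsg.Agent.O83.o83_n5280
  · exact absurd h Cfsg.Agent.O83.o83_n5292
  · exact absurd h Cfsg.Agent.O83.o83_n5304
  · exact absurd h Cfsg.Agent.O83.o83_n5324
  · exact absurd h Cfsg.Agent.O83.o83_n5346
  · exact absurd h Cfsg.Agent.O83.o83_n5355
  · exact absurd h Cfsg.Agent.O83.o83_n5376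
  · exact absurd h Cfsg.Agent.O83.o83_n5390
  · exact absurd h Cfsg.Agent.O83.o83_n5400
  · exact absurd h Cfsg.Agent.O83.o83_n5408
  · exact absurd h Cfsg.Agent.O83.o83_n5440
  · exact absurd h Cfsg.Agent.O83.o83_n5445
  · exact absurd h Cfsg.Agent.O83.o83_n5460
  · exact absurd h Cfsg.Agent.O83.o83_n5488
  · exact absurd h Cfsg.Agent.O83.o83_n5500
  · exact absurd h Cfsg.Agent.O83.o83_n5508
  · exact absurd h Cfsg.Agent.O83.o83_n5525
  · exact absurd h Cfsg.Agent.O83.o83_n5544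
  · exact absurd h Cfsg.Agent.O83.o83_n5577
  · exact absurd h Cfsg.Agent.O83.o83_n5600
  · exact absurd h Cfsg.Agent.O83.o83_n5610
  · exact Or.inr (Or.inl h)
  · exact absurd h Cfsg.Agent.O83.o83_n5625
  · exact absurd h Cfsg.Agent.O83.o83_n5632
  · exact absurd h Cfsg.Agent.O83.o83_n5670
  · exact absurd h Cfsg.Agent.O83.o83_n5712
  · exact absurd h Cfsg.Agent.O83.o83_n5720
  · exact absurd h Cfsg.Agent.O83.o83_n5733
  · exact absurd h Cfsg.Agent.O83.o83_n5746
  · exact absurd h Cfsg.Agent.S0980.result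
  · exact absurd h Cfsg.Agent.O83.o83_n5775
  · exact absurd h Cfsg.Agent.O83.o83_n5780
  · exact absurd h Cfsg.Agent.O83.o83_n5808
  · exact absurd h Cfsg.Agent.O83.o83_n5824
  · exact absurd h Cfsg.Agent.O83.o83_n5831
  · exact absurd h Cfsg.Agent.O83.o83_n5832
  · exact absurd h Cfsg.Agent.O83.o83_n5850
  · exact absurd h Cfsg.Agent.O83.o83_n5880
  · exact absurd h Cfsg.Agent.O83.o83_n5915
  · exact absurd h Cfsg.Agent.O83.o83_n5929
  · exact absurd h Cfsg.Agent.O83.o83_n5940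
  · exact absurd h Cfsg.Agent.O83.o83_n5950
  · exact absurd h Cfsg.Agent.O83.o83_n5967
  · exact absurd h Cfsg.Agent.O83.o83_n5984
  · exact absurd h Cfsg.Agent.O83.o83_n6000
  · exact absurd h Cfsg.Agent.O83.o83_n6006
  · exact Or.inr (Or.inr (Or.inl h))
  · exact absurd h Cfsg.Agent.O83.o83_n6050
  · exact absurd h Cfsg.Agent.O83.o83_n6069
  · exact absurd h Cfsg.Agent.O83.o83_n6075
  · exact absurd h Cfsg.Agent.O83.o83_n6084
  · exact absurd h Cfsg.Agent.O83.o83_n6120
  · exact absurd h Cfsg.Agent.O83.o83_n6125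
  · exact absurd h Cfsg.Agent.O83.o83_n6144
  · exact absurd h Cfsg.Agent.O83.o83_n6160
  · exact absurd h Cfsg.Agent.O83.o83_n6171
  · exact absurd h Cfsg.Agent.O83.o83_n6174
  · exact absurd h Cfsg.Agent.O83.o83_n6188

end Cfsg.Agent.S0983
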