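import Mathlib
import Cfsg.Statements.S0986
import Cfsg.Agent.Helper2.SylowInt

set_option autoImplicit false
open Cfsg

namespace Cfsg.Agent.S0986

open Cfsg.Agent.Helper2

/-- Let P and Q be distinct Sylow p-subgroups of a finite group G chosen so that the order of P ∩ Q is as large as possible among intersections of two distinct Sylow p-subgroups, and let N be the normalizer of P ∩ Q. Then N has more than one Sylow p-subgroup, any two distinct Sylow p-subgroups of N intersect exactly in P ∩ Q, and each Sylow p-subgroup of N lies in exactly one Sylow p-subgroup of G. -/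
theorem result {G : Type*} [Group G] [Finite G] (p : ℕ) [Fact p.Prime] (P Q : Sylow p G) (hPQ : P ≠ Q) (hmax : ∀ P' Q' : Sylow p G, P' ≠ Q' → Nat.card ↥((P' : Subgroup G) ⊓ (Q' : Subgroup G)) ≤ Nat.card ↥((P : Subgroup G) ⊓ (Q : Subgroup G))) : 1 < Nat.card (Sylow p ↥(Subgroup.normalizer (((P : Subgroup G) ⊓ (Q : Subgroup G) : Subgroup G) : Set G))) ∧ (∀ S T : Sylow p ↥(Subgroup.normalizer (((P : Subgroup G) ⊓ (Q : Subgroup G) : Subgroup G) : Set G)), S ≠ T → (S : Subgroup _) ⊓ (T : Subgroup _) = ((P : Subgroup G) ⊓ (Q : Subgroup G)).subgroupOf (Subgroup.normalizer (((P : Subgroup G) ⊓ (Q : Subgroup G) : Subgroup G) : Set G))) ∧ ∀ S : Sylow p ↥(Subgroup.normalizer (((P : Subgroup G) ⊓ (Q : Subgroup G) : Subgroup G) : Set G)), ∃! T : Sylow p G, (S : Subgroup _).map (Subgroup.normalizer (((P : Subgroup G) ⊓ (Q : Subgroup G) : Subgroup G) : Set G)).subtype ≤ (T : Subgroup G) := by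
    classical
    set D : Subgroup G := (P : Subgroup G) ⊓ (Q : Subgroup G) with hD
    set N : Subgroup G := Subgroup.normalizer (D : Set G) with hN
    have hDP : D ≤ (P : Subgroup G) := inf_le_left
    have hDQ : D ≤ (Q : Subgroup G) := inf_le_right
    have hDN : D ≤ N := Subgroup.le_normalizer
    have hsyl_eq : ∀ A B : Sylow p G, (A : Subgroup G) ≤ B → A = B := by
      intro A B h
      apply Sylow.ext
      exact (A.is_maximal' B.isPGroup' h).symm
    have hDneP : D ≠ (P : Subgroup G) := fun h => hPQ (hsyl_eq P Q (h ▸ hDQ))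
    have hDneQ : D ≠ (Q : Subgroup G) := fun h => hPQ (hsyl_eq Q P (h ▸ hDP)).symm
    obtain ⟨x, hxP, hxN, hxD⟩ :=
      SylowInt.exists_mem_normalizer_not_mem (P : Subgroup G) P.isPGroup' D hDP hDneP
    obtain ⟨y, hyQ, hyN, hyD⟩ :=
      SylowInt.exists_mem_normalizer_not_mem (Q : Subgroup G) Q.isPGroup' D hDQ hDneQ
    have hkey : ∀ (A R : Sylow p G) (z : G), D ≤ (A : Subgroup G) → z ∈ (A : Subgroup G) → z ∉ D →
        D ≤ (R : Subgroup G) → z ∈ (R : Subgroup G) → A = R := by
      intro A R z hDA hzA hzD hDR hzR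
      by_contra hne
      have h1 := hmax A R hne
      have h2 : D ≤ (A : Subgroup G) ⊓ (R : Subgroup G) := le_inf hDA hDR
      have h3 := Subgroup.eq_of_le_of_card_ge h2 h1
      apply hzD
      rw [h3]
      exact ⟨hzA, hzR⟩
    have hDn : (D.subgroupOf N).Normal := Subgroup.normal_in_normalizer
    have hDp : IsPGroup p D := P.isPGroup'.to_le hDP
    have hD'p : IsPGroup p (D.subgroupOf N) := hDp.comap_subtype
    have hDleS : ∀ S : Sylow p N, D.subgroupOf N ≤ (S : Subgroup N) :=
      fun S => SylowInt.normal_le_sylow _ hD'p S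
    have himg_p : ∀ S : Sylow p N, IsPGroup p ((S : Subgroup N).map N.subtype) :=
      fun S => S.isPGroup'.map _
    have hPNp : IsPGroup p ((P : Subgroup G) ⊓ N : Subgroup G) := P.isPGroup'.to_le inf_le_left
    have hQNp : IsPGroup p ((Q : Subgroup G) ⊓ N : Subgroup G) := Q.isPGroup'.to_le inf_le_left
    refine ⟨?_, ?_, ?_⟩
    · by_contra hle
      push Not at hle
      have hsub : Subsingleton (Sylow p N) := Finite.card_le_one_iff_subsingleton.mp hle
      obtain ⟨S₁, hS₁⟩ := SylowInt.exists_sylow_ge N _ hPNp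
      obtain ⟨S₂, hS₂⟩ := SylowInt.exists_sylow_ge N _ hQNp
      have hS12 : S₂ = S₁ := Subsingleton.elim _ _
      rw [hS12] at hS₂
      obtain ⟨R, hR⟩ := (himg_p S₁).exists_le_sylow
      have hxR : x ∈ (R : Subgroup G) :=
        hR ⟨⟨x, hxN⟩, hS₁ (Subgroup.mem_subgroupOf.mpr ⟨hxP, hxN⟩), rfl⟩
      have hyR : y ∈ (R : Subgroup G) :=
        hR ⟨⟨y, hyN⟩, hS₂ (Subgroup.mem_subgroupOf.mpr ⟨hyQ, hyN⟩), rfl⟩
      have hDR : D ≤ (R : Subgroup G) := fun d hd =>
        hR ⟨⟨d, hDN hd⟩, hDleS S₁ (Subgroup.mem_subgroupOf.mpr hd), rfl⟩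
      have e1 := hkey P R x hDP hxP hxD hDR hxR
      have e2 := hkey Q R y hDQ hyQ hyD hDR hyR
      exact hPQ (e1.trans e2.symm)
    · intro S T hST
      obtain ⟨S', hS'⟩ := (himg_p S).exists_le_sylow
      obtain ⟨T', hT'⟩ := (himg_p T).exists_le_sylow
      have hST' : S' ≠ T' := by
        rintro rfl
        have hX : IsPGroup p (((S' : Subgroup G) ⊓ N).subgroupOf N) :=
          (S'.isPGroup'.to_le inf_le_left).comap_subtype
        have hSX : (S : Subgroup N) ≤ ((S' : Subgroup G) ⊓ N).subgroupOf N := by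
          intro z hz
          rw [Subgroup.mem_subgroupOf]
          exact ⟨hS' ⟨z, hz, rfl⟩, z.2⟩
        have hTX : (T : Subgroup N) ≤ ((S' : Subgroup G) ⊓ N).subgroupOf N := by
          intro z hz
          rw [Subgroup.mem_subgroupOf]
          exact ⟨hT' ⟨z, hz, rfl⟩, z.2⟩
        have e1 := S.is_maximal' hX hSX
        have e2 := T.is_maximal' hX hTX
        exact hST (Sylow.ext (e1.symm.trans e2))
      have hcard := hmax S' T' hST'
      have hDS' : D ≤ (S' : Subgroup G) := fun d hd =>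
        hS' ⟨⟨d, hDN hd⟩, hDleS S (Subgroup.mem_subgroupOf.mpr hd), rfl⟩
      have hDT' : D ≤ (T' : Subgroup G) := fun d hd =>
        hT' ⟨⟨d, hDN hd⟩, hDleS T (Subgroup.mem_subgroupOf.mpr hd), rfl⟩
      have heq : D = (S' : Subgroup G) ⊓ (T' : Subgroup G) :=
        Subgroup.eq_of_le_of_card_ge (le_inf hDS' hDT') hcard
      apply le_antisymm
      · intro z hz
        rw [Subgroup.mem_subgroupOf, heq]
        exact ⟨hS' ⟨z, hz.1, rfl⟩, hT' ⟨z, hz.2, rfl⟩⟩
      · exact le_inf (hDleS S) (hDleS T)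
    · intro S
      obtain ⟨T, hT⟩ := (himg_p S).exists_le_sylow
      refine ⟨T, hT, ?_⟩
      intro T₂ hT₂
      by_contra hne
      have hcard := hmax T₂ T hne
      have h1 : (S : Subgroup N).map N.subtype ≤ (T₂ : Subgroup G) ⊓ (T : Subgroup G) := le_inf hT₂ hT
      have h2 : Nat.card ((S : Subgroup N).map N.subtype) = Nat.card (S : Subgroup N) :=
        Subgroup.card_map_of_injective N.subtype_injective
      have h3 : Nat.card (((P : Subgroup G) ⊓ N).subgroupOf N) ≤ Nat.card (S : Subgroup N) :=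
        SylowInt.card_le_card_sylow _ hPNp.comap_subtype S
      have h4 : Nat.card (((P : Subgroup G) ⊓ N).subgroupOf N) = Nat.card ((P : Subgroup G) ⊓ N : Subgroup G) :=
        Nat.card_congr (Subgroup.subgroupOfEquivOfLe inf_le_right).toEquiv
      have h5 : Nat.card D < Nat.card ((P : Subgroup G) ⊓ N : Subgroup G) := by
        by_contra hcon
        push Not at hcon
        have hle : D ≤ (P : Subgroup G) ⊓ N := le_inf hDP hDN
        have := Subgroup.eq_of_le_of_card_ge hle hcon
        apply hxD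
        rw [this]
        exact ⟨hxP, hxN⟩
      have h6 := Subgroup.card_le_of_le h1
      omega

end Cfsg.Agent.S0986
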