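import Mathlib
import Cfsg.Statements.S0987
import Cfsg.Agent.Helper2.SylowExact

set_option autoImplicit false
open Cfsg

namespace Cfsg.Agent.S0987

open Cfsg.Agent.Helper2

/-- If a finite group has order pqr for primes p < q < r, then its Sylow r-subgroups are normal. -/
theorem result {G : Type*} [Group G] [Finite G] (p q r : ℕ) (hp : p.Prime) (hq : q.Prime) [Fact r.Prime] (hpq : p < q) (hqr : q < r) (hG : Nat.card G = p * q * r) (R : Sylow r G) : (R : Subgroup G).Normal := by
    classical
    have hr : r.Prime := Fact.out
    have hpr : p < r := hpq.trans hqr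
    have hp2 := hp.two_le
    have hq2 := hq.two_le
    have hr2 := hr.two_le
    have hGne1 : p * q * r ≠ 1 := by
      have h1 : 2 * 2 ≤ p * q := Nat.mul_le_mul hp2 hq2
      have h2 : 2 * 2 * 2 ≤ p * q * r := Nat.mul_le_mul h1 hr2
      omega
    have hmin : (Nat.card G).minFac = p := by
      rw [hG]
      have h1 : (p * q * r).minFac ∣ p * q * r := Nat.minFac_dvd _
      have hmp : (p * q * r).minFac.Prime := Nat.minFac_prime hGne1
      have hle : (p * q * r).minFac ≤ p := Nat.minFac_le_of_dvd hp2 ⟨q * r, by ring⟩
      rcases (Nat.Prime.dvd_mul hmp).mp h1 with h | h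
      · rcases (Nat.Prime.dvd_mul hmp).mp h with h | h
        · exact (Nat.prime_dvd_prime_iff_eq hmp hp).mp h
        · have := (Nat.prime_dvd_prime_iff_eq hmp hq).mp h
          omega
      · have := (Nat.prime_dvd_prime_iff_eq hmp hr).mp h
        omega
    have hfp : Fact p.Prime := ⟨hp⟩
    have hnpq : ¬ p ∣ q := fun h => by
      have := (Nat.prime_dvd_prime_iff_eq hp hq).mp h; omega
    have hnpr : ¬ p ∣ r := fun h => by
      have := (Nat.prime_dvd_prime_iff_eq hp hr).mp h; omega
    have hnrq : ¬ r ∣ q := fun h => by
      have := (Nat.prime_dvd_prime_iff_eq hr hq).mp h; omega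
    have hnrp : ¬ r ∣ p := fun h => by
      have := (Nat.prime_dvd_prime_iff_eq hr hp).mp h; omega
    let P : Sylow p G := default
    have hPcard : Nat.card P = p := by
      apply SylowExact.card_sylow_of_exact (m := q * r) (by rw [hG]; ring)
      intro h
      rcases (Nat.Prime.dvd_mul hp).mp h with h | h
      · exact hnpq h
      · exact hnpr h
    have hfp' : Fact (Nat.card P).Prime := by rw [hPcard]; exact hfp
    have hPc : IsCyclic P := isCyclic_of_prime_card rfl
    have hcomp := IsCyclic.isComplement' hmin hPc
    set K := (MonoidHom.transferSylow P (hPc.normalizer_le_centralizer hmin)).ker with hK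
    have hKn : K.Normal := MonoidHom.normal_ker _
    have hKidx : K.index = p := by rw [hcomp.symm.index_eq_card, hPcard]
    have hKcard : Nat.card K = r * q := by
      have h1 := K.card_mul_index
      rw [hKidx, hG] at h1
      have h2 : p * q * r = (r * q) * p := by ring
      rw [h2] at h1
      exact Nat.eq_of_mul_eq_mul_right hp.pos h1
    have hcop : Nat.Coprime K.index r := by
      rw [hKidx]
      exact (Nat.coprime_primes hp hr).mpr (by omega)
    have hle : ∀ R' : Sylow r G, (R' : Subgroup G) ≤ K :=
      fun R' => SylowExact.sylow_le_of_normal_of_coprime_index K hcop R'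
    apply SylowExact.sylow_normal_of_unique_in_normal K hle _ R
    let R0 : Sylow r K := R.subtype (hle R)
    have hR0 : Nat.card R0 = r := SylowExact.card_sylow_of_exact hKcard hnrq R0
    have hidx : (R0 : Subgroup K).index = q := by
      have h1 := (R0 : Subgroup K).card_mul_index
      rw [hR0, hKcard] at h1
      exact Nat.eq_of_mul_eq_mul_left hr.pos h1
    have hdvd : Nat.card (Sylow r K) ∣ q := hidx ▸ Sylow.card_dvd_index R0
    have hmod : Nat.card (Sylow r K) ≡ 1 [MOD r] := card_sylow_modEq_one r K
    rcases (Nat.dvd_prime hq).mp hdvd with h | h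
    · exact h
    · exfalso
      rw [h] at hmod
      have h1 : q % r = 1 % r := hmod
      rw [Nat.mod_eq_of_lt hqr, Nat.mod_eq_of_lt hr.one_lt] at h1
      omega

end Cfsg.Agent.S0987
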