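import Mathlib
import Cfsg.Statements.S0988
import Cfsg.Agent.Helper1.SimpleOrder
import Cfsg.Agent.Helper6.BurnsidePQ
import Cfsg.Agent.Helper2.SylowExact
-- import your own Cfsg.Agent.* helpers here

set_option autoImplicit false
open Cfsg

namespace Cfsg.Agent.S0988
open Cfsg

universe u

theorem arith (n r : ℕ) (hr5 : 5 ≤ r) (hn : n ∣ 12) (hrn : r ∣ n - 1) (hn1 : n ≠ 1) :
    (n = 6 ∧ r = 5) ∨ (n = 12 ∧ r = 11) := by
  have hnle : n ≤ 12 := Nat.le_of_dvd (by norm_num) hn
  have hn0 : n ≠ 0 := by rintro rfl; simp at hn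
  have hn2 : 2 ≤ n := by omega
  have hrle : r ≤ n - 1 := Nat.le_of_dvd (by omega) hrn
  have hr11 : r ≤ 11 := by omega
  interval_cases n <;> interval_cases r <;> omega

/-- A simple group of order `12 r` with `r ≥ 5` prime has order `60`. -/
theorem card_of_twelve {G : Type u} [Group G] [Finite G] [IsSimpleGroup G] (r : ℕ) (hr : r.Prime)
    (hr5 : 5 ≤ r) (hG : Nat.card G = 12 * r) : Nat.card G = 60 := by
  haveI : Fact r.Prime := ⟨hr⟩
  obtain ⟨R⟩ : Nonempty (Sylow r G) := inferInstance
  have hr12 : ¬ r ∣ 12 := by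
    intro h
    have := Nat.le_of_dvd (by norm_num) h
    interval_cases r <;> first | omega | (exact absurd hr (by norm_num))
  have hRcard : Nat.card R = r :=
    Cfsg.Agent.Helper2.SylowExact.card_sylow_of_exact (by rw [hG, mul_comm]) hr12 R
  have hindex : (R : Subgroup G).index = 12 := by
    have := (R : Subgroup G).card_mul_index
    rw [hRcard, hG, mul_comm 12 r] at this
    exact Nat.eq_of_mul_eq_mul_left hr.pos this
  have hn_dvd : Nat.card (Sylow r G) ∣ 12 := hindex ▸ Sylow.card_dvd_index R
  have hn_mod : Nat.card (Sylow r G) ≡ 1 [MOD r] := card_sylow_modEq_one r G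
  have hn_ne : Nat.card (Sylow r G) ≠ 1 := by
    intro h1
    haveI : Subsingleton (Sylow r G) := (Nat.card_eq_one_iff_unique.mp h1).1
    have hnorm : (R : Subgroup G).Normal := Sylow.normal_of_subsingleton R
    rcases hnorm.eq_bot_or_eq_top with h | h
    · rw [h, Subgroup.card_bot] at hRcard; omega
    · have := Subgroup.card_top (G := G)
      rw [← h, hRcard, hG] at this
      omega
  have hnpos : 0 < Nat.card (Sylow r G) := Nat.pos_of_dvd_of_pos hn_dvd (by norm_num)
  have hrn : r ∣ Nat.card (Sylow r G) - 1 := (Nat.modEq_iff_dvd' hnpos).mp hn_mod.symm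
  have hcases := arith _ r hr5 hn_dvd hrn hn_ne
  rcases hcases with ⟨_, hr⟩ | ⟨hn12, hr11⟩
  · rw [hG, hr]
  · exfalso
    -- normalizer of R is R
    have hNcard : Nat.card (Subgroup.normalizer ((R : Subgroup G) : Set G)) = r := by
      have h1 : Nat.card (Sylow r G) = (Subgroup.normalizer ((R : Subgroup G) : Set G)).index :=
        Sylow.card_eq_index_normalizer R
      have h2 := (Subgroup.normalizer ((R : Subgroup G) : Set G)).card_mul_index
      rw [← h1, hn12, hG, mul_comm] at h2
      exact Nat.eq_of_mul_eq_mul_left (by norm_num) h2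
    have hNR : Subgroup.normalizer ((R : Subgroup G) : Set G) = (R : Subgroup G) := by
      symm
      apply Subgroup.eq_of_le_of_card_ge Subgroup.le_normalizer
      rw [hNcard, hRcard]
    have hRc : IsMulCommutative (R : Subgroup G) := by
      have : IsCyclic (R : Subgroup G) := isCyclic_of_prime_card hRcard
      exact IsCyclic.isMulCommutative
    have hNC : Subgroup.normalizer ((R : Subgroup G) : Set G) ≤
        Subgroup.centralizer ((R : Subgroup G) : Set G) := by
      rw [hNR]
      exact Subgroup.le_centralizer_iff_isMulCommutative.mpr hRc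
    obtain ⟨R', K, hKn, hK⟩ :=
      Cfsg.Agent.Helper1.hasNormalPComplement_of_normalizer_le_centralizer R hNC
    have hK' := Cfsg.Agent.Helper1.isComplement'_sylow_of_isComplement'_sylow R' R K hK
    have hKcard : Nat.card K * r = 12 * r := by
      have := hK'.card_mul_card
      rw [hRcard, hG] at this
      exact this
    have hK12 : Nat.card K = 12 := Nat.eq_of_mul_eq_mul_right hr.pos hKcard
    rcases hKn.eq_bot_or_eq_top with h | h
    · rw [h, Subgroup.card_bot] at hK12; omega
    · have := Subgroup.card_top (G := G)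
      rw [← h, hK12, hG] at this
      omega

theorem prime_ge_five (r : ℕ) (hr : r.Prime) (h2 : r ≠ 2) (h3 : r ≠ 3) : 5 ≤ r := by
  by_contra h
  push Not at h
  have := hr.two_le
  interval_cases r
  · exact h2 rfl
  · exact h3 rfl
  · exact absurd hr (by norm_num)

/-- If a finite simple group has order p^2 * q * r with p, q and r prime, then its order is 60. -/
theorem result {G : Type*} [Group G] [Finite G] [IsSimpleGroup G] (p q r : ℕ) (hp : p.Prime) (hq : q.Prime) (hr : r.Prime) (hG : Nat.card G = p ^ 2 * q * r) : Nat.card G = 60 := by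
  -- non-abelian
  have hna : ∃ x y : G, x * y ≠ y * x := by
    by_contra hcon
    push Not at hcon
    haveI : IsMulCommutative G := ⟨⟨hcon⟩⟩
    have hprime : (Nat.card G).Prime := Group.is_simple_iff_prime_card.mp inferInstance
    rw [hG, mul_assoc, pow_two, mul_assoc] at hprime
    have h1 : p ≠ 1 := hp.one_lt.ne'
    have h2 : p * (q * r) ≠ 1 := by
      have := hp.two_le
      have := hq.pos
      have := hr.pos
      have : 0 < q * r := Nat.mul_pos hq.pos hr.pos
      nlinarith
    exact Nat.not_prime_mul h1 h2 hprime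
  have hns : ¬ Group.IsSolvable G := by
    intro hs
    obtain ⟨x, y, hxy⟩ := hna
    exact hxy (IsSimpleGroup.comm_iff_isSolvable.mpr hs x y)
  -- distinct primes
  have hpq : p ≠ q := by
    intro h
    apply hns
    exact Cfsg.Agent.Helper6.burnside_pq p r 3 1 hp hr (by rw [hG, ← h]; ring)
  have hpr : p ≠ r := by
    intro h
    apply hns
    exact Cfsg.Agent.Helper6.burnside_pq p q 3 1 hp hq (by rw [hG, ← h]; ring)
  have hqr : q ≠ r := by
    intro h
    apply hns
    exact Cfsg.Agent.Helper6.burnside_pq p q 2 2 hp hq (by rw [hG, ← h]; ring)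
  have hcop_pq : Nat.Coprime p q := (Nat.coprime_primes hp hq).mpr hpq
  have hcop_pr : Nat.Coprime p r := (Nat.coprime_primes hp hr).mpr hpr
  have hcop_qr : Nat.Coprime q r := (Nat.coprime_primes hq hr).mpr hqr
  rcases Cfsg.Agent.Helper1.simple_order_dvd hna with hcube | h12
  · exfalso
    set m := (Nat.card G).minFac with hm
    have hcard1 : Nat.card G ≠ 1 := by
      intro h
      obtain ⟨x, y, hxy⟩ := hna
      haveI := (Nat.card_eq_one_iff_unique.mp h).1
      exact hxy (Subsingleton.elim _ _)
    have hmp : m.Prime := Nat.minFac_prime hcard1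
    have hmdvd : m ∣ p ^ 2 * q * r := hG ▸ Nat.minFac_dvd _
    rw [hG] at hcube
    have hm_cases : m = p ∨ m = q ∨ m = r := by
      rcases (Nat.Prime.dvd_mul hmp).mp hmdvd with h | h
      · rcases (Nat.Prime.dvd_mul hmp).mp h with h | h
        · left; exact (Nat.prime_dvd_prime_iff_eq hmp hp).mp (hmp.dvd_of_dvd_pow h)
        · right; left; exact (Nat.prime_dvd_prime_iff_eq hmp hq).mp h
      · right; right; exact (Nat.prime_dvd_prime_iff_eq hmp hr).mp h
    rcases hm_cases with h | h | h
    · rw [h] at hcube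
      have h1 : p ^ 2 * p ∣ p ^ 2 * (q * r) := by
        rw [← pow_succ, ← mul_assoc]; exact hcube
      have h2 : p ∣ q * r := Nat.dvd_of_mul_dvd_mul_left (pow_pos hp.pos 2) h1
      rcases (Nat.Prime.dvd_mul hp).mp h2 with h3 | h3
      · exact hpq ((Nat.prime_dvd_prime_iff_eq hp hq).mp h3)
      · exact hpr ((Nat.prime_dvd_prime_iff_eq hp hr).mp h3)
    · rw [h] at hcube
      have h1 : q * q ^ 2 ∣ q * (p ^ 2 * r) := by
        rw [← pow_succ']
        have : q * (p ^ 2 * r) = p ^ 2 * q * r := by ring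
        rw [this]; exact hcube
      have h2 : q ^ 2 ∣ p ^ 2 * r := Nat.dvd_of_mul_dvd_mul_left hq.pos h1
      have h3 : q ∣ p ^ 2 * r := (dvd_pow_self q (by norm_num)).trans h2
      rcases (Nat.Prime.dvd_mul hq).mp h3 with h4 | h4
      · exact hpq ((Nat.prime_dvd_prime_iff_eq hq hp).mp (hq.dvd_of_dvd_pow h4)).symm
      · exact hqr ((Nat.prime_dvd_prime_iff_eq hq hr).mp h4)
    · rw [h] at hcube
      have h1 : r * r ^ 2 ∣ r * (p ^ 2 * q) := by
        rw [← pow_succ']
        have : r * (p ^ 2 * q) = p ^ 2 * q * r := by ring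
        rw [this]; exact hcube
      have h2 : r ^ 2 ∣ p ^ 2 * q := Nat.dvd_of_mul_dvd_mul_left hr.pos h1
      have h3 : r ∣ p ^ 2 * q := (dvd_pow_self r (by norm_num)).trans h2
      rcases (Nat.Prime.dvd_mul hr).mp h3 with h4 | h4
      · exact hpr ((Nat.prime_dvd_prime_iff_eq hr hp).mp (hr.dvd_of_dvd_pow h4)).symm
      · exact hqr ((Nat.prime_dvd_prime_iff_eq hr hq).mp h4).symm
  · rw [hG] at h12
    have h4 : 4 ∣ p ^ 2 * q * r := (by norm_num : (4 : ℕ) ∣ 12).trans h12
    have h3 : 3 ∣ p ^ 2 * q * r := (by norm_num : (3 : ℕ) ∣ 12).trans h12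
    have hp2 : p = 2 := by
      by_contra hp2
      have hpodd : Nat.Coprime 2 p := (Nat.coprime_primes Nat.prime_two hp).mpr (Ne.symm hp2)
      have hc4 : Nat.Coprime 4 (p ^ 2) := by
        have : (4 : ℕ) = 2 ^ 2 := by norm_num
        rw [this]; exact Nat.Coprime.pow 2 2 hpodd
      have h4' : 4 ∣ q * r := by
        rw [mul_assoc] at h4
        exact hc4.dvd_of_dvd_mul_left h4
      have h2' : 2 ∣ q * r := (by norm_num : (2 : ℕ) ∣ 4).trans h4'
      rcases (Nat.Prime.dvd_mul Nat.prime_two).mp h2' with h | h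
      · have hq2 : q = 2 := ((Nat.prime_dvd_prime_iff_eq Nat.prime_two hq).mp h).symm
        rw [hq2] at h4'
        have : 2 * 2 ∣ 2 * r := h4'
        have h5 : 2 ∣ r := Nat.dvd_of_mul_dvd_mul_left (by norm_num) this
        exact hqr (hq2.trans ((Nat.prime_dvd_prime_iff_eq Nat.prime_two hr).mp h5))
      · have hr2 : r = 2 := ((Nat.prime_dvd_prime_iff_eq Nat.prime_two hr).mp h).symm
        rw [hr2] at h4'
        have : 2 * 2 ∣ q * 2 := h4'
        rw [mul_comm q 2] at this
        have h5 : 2 ∣ q := Nat.dvd_of_mul_dvd_mul_left (by norm_num) this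
        exact hqr (((Nat.prime_dvd_prime_iff_eq Nat.prime_two hq).mp h5).symm.trans hr2.symm)
    subst hp2
    have h3' : 3 ∣ q * r := by
      rw [mul_assoc] at h3
      exact (by norm_num : Nat.Coprime 3 (2 ^ 2)).dvd_of_dvd_mul_left h3
    rcases (Nat.Prime.dvd_mul Nat.prime_three).mp h3' with h | h
    · have hq3 : q = 3 := ((Nat.prime_dvd_prime_iff_eq Nat.prime_three hq).mp h).symm
      subst hq3
      exact card_of_twelve r hr (prime_ge_five r hr (Ne.symm hpr) (Ne.symm hqr)) (by rw [hG]; norm_num)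
    · have hr3 : r = 3 := ((Nat.prime_dvd_prime_iff_eq Nat.prime_three hr).mp h).symm
      subst hr3
      exact card_of_twelve q hq (prime_ge_five q hq (Ne.symm hpq) hqr) (by rw [hG]; ring)


end Cfsg.Agent.S0988
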