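import Mathlib
import Cfsg.Statements.S0994
import Cfsg.Agent.Helper2.SmallOrder

set_option autoImplicit false
open Cfsg

namespace Cfsg.Agent.S0994

open Cfsg.Agent.Helper2

/-- No finite simple group has order 1188 = 2^2 * 3^3 * 11. -/
theorem result {G : Type*} [Group G] [Finite G] [IsSimpleGroup G] : Nat.card G ≠ 1188 := by
    intro hG
    have hfp : Fact (Nat.Prime 11) := ⟨by norm_num⟩
    let P : Sylow 11 G := default
    have hPcard : Nat.card P = 11 :=
      SylowExact.card_sylow_of_exact (m := 108) (by rw [hG]) (by norm_num) P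
    have hidx : (P : Subgroup G).index = 108 := by
      have h1 := (P : Subgroup G).card_mul_index
      rw [hPcard, hG] at h1
      omega
    have hdvd : Nat.card (Sylow 11 G) ∣ 108 := hidx ▸ Sylow.card_dvd_index P
    have hmod : Nat.card (Sylow 11 G) ≡ 1 [MOD 11] := card_sylow_modEq_one 11 G
    have hne1 : Nat.card (Sylow 11 G) ≠ 1 :=
      SmallOrder.card_sylow_ne_one P (by rw [hPcard]; norm_num) (by rw [hPcard, hG]; norm_num)
    have hmem : Nat.card (Sylow 11 G) ∈ Nat.divisors 108 := Nat.mem_divisors.mpr ⟨hdvd, by norm_num⟩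
    have hdiv : Nat.divisors 108 = {1, 2, 3, 4, 6, 9, 12, 18, 27, 36, 54, 108} := by decide
    rw [hdiv] at hmem
    have h12 : Nat.card (Sylow 11 G) = 12 := by
      have h1 : Nat.card (Sylow 11 G) % 11 = 1 % 11 := hmod
      simp only [Finset.mem_insert, Finset.mem_singleton] at hmem
      rcases hmem with h | h | h | h | h | h | h | h | h | h | h | h <;> rw [h] at h1 hne1 <;>
        first | exact absurd rfl hne1 | exact h | (exfalso; revert h1; decide)
    have hN := SmallOrder.card_normalizer_mul_card_sylow P
    rw [h12, hG] at hN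
    have hN99 : Nat.card (Subgroup.normalizer ((P : Subgroup G) : Set G)) = 99 := by omega
    obtain ⟨K, hKn, hKi⟩ := SmallOrder.exists_normal_index_of_prime_sylow P hPcard
      (by rw [hN99]; decide)
    exact SmallOrder.false_of_normal_index K (by rw [hKi]; norm_num) (by rw [hKi, hG]; norm_num)

end Cfsg.Agent.S0994
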