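import Mathlib
import Cfsg.Statements.S1002
import Cfsg.Agent.Helper2.BrTIH
import Cfsg.Agent.Helper2.SylowExact2

set_option autoImplicit false
open Cfsg

namespace Cfsg.Agent.S1002

open Cfsg.Agent.Helper2

/-- No finite simple group has order 1004913 = 3^3 * 7 * 13 * 409. -/
theorem result {G : Type*} [Group G] [Finite G] [IsSimpleGroup G] : Nat.card G ≠ 1004913 := by
      intro h
      haveI : Fact (Nat.Prime 409) := ⟨by norm_num⟩
      let P : Sylow 409 G := default
      have hP : Nat.card P = 409 := by
        have := SylowExact.card_sylow_of_exact_pow (s := 409) (k := 1) (m := 2457)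
          (by rw [h]; norm_num) (by norm_num) P
        simpa using this
      have hidx : (P : Subgroup G).index = 2457 := by
        have h1 := (P : Subgroup G).card_mul_index
        rw [hP, h] at h1
        omega
      have hdvd : Nat.card (Sylow 409 G) ∣ 2457 := hidx ▸ Sylow.card_dvd_index P
      have hmod : Nat.card (Sylow 409 G) % 409 = 1 := card_sylow_modEq_one 409 G
      have hne1 : Nat.card (Sylow 409 G) ≠ 1 := by
        apply SmallOrder.card_sylow_ne_one P
        · rw [hP]; norm_num
        · rw [hP, h]; norm_num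
      have hn : Nat.card (Sylow 409 G) = 819 := by
        have h3 : Nat.card (Sylow 409 G) ∈ Nat.divisors 2457 := Nat.mem_divisors.mpr ⟨hdvd, by norm_num⟩
        generalize Nat.card (Sylow 409 G) = n at *
        simp only [Nat.divisors_ofNat, Finset.mem_insert, Finset.mem_singleton] at h3
        rcases h3 with rfl | rfl | rfl | rfl | rfl | rfl | rfl | rfl | rfl | rfl | rfl | rfl | rfl | rfl | rfl | rfl <;> omega
      have hN : Nat.card (Subgroup.normalizer ((P : Subgroup G) : Set G)) = 3 * 409 := by
        have := SmallOrder.card_normalizer_mul_card_sylow P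
        rw [hn, h] at this
        omega
      obtain ⟨n₁, n₂, d, δ₁, δ₂, εz, hδ₁, hδ₂, hε, hn1, hn2, hnd1, hnd2, hdd, hnm1, hnm2, hdm, heq⟩ :=
        BrTI.simple_e3 P hP 2457 (by rw [h]) (by norm_num) hN (by norm_num)
      have key : ∀ (n : ℕ) (δ : ℤ), (δ = 1 ∨ δ = -1) → 1 < n → n ∣ 2457 → (409 : ℤ) ∣ (n : ℤ) - δ →
          δ * n = 819 := by
        intro n δ hδ hn1 hnd hnm
        have h3 : n ∈ Nat.divisors 2457 := Nat.mem_divisors.mpr ⟨hnd, by norm_num⟩
        simp only [Nat.divisors_ofNat, Finset.mem_insert, Finset.mem_singleton] at h3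
        rcases hδ with rfl | rfl <;> rcases h3 with rfl | rfl | rfl | rfl | rfl | rfl | rfl | rfl | rfl | rfl | rfl | rfl | rfl | rfl | rfl | rfl <;> omega
      have k1 := key n₁ δ₁ hδ₁ hn1 hnd1 hnm1
      have k2 := key n₂ δ₂ hδ₂ hn2 hnd2 hnm2
      have h4 : d ∈ Nat.divisors 2457 := Nat.mem_divisors.mpr ⟨hdd, by norm_num⟩
      simp only [Nat.divisors_ofNat, Finset.mem_insert, Finset.mem_singleton] at h4
      rcases hε with rfl | rfl <;> rcases h4 with rfl | rfl | rfl | rfl | rfl | rfl | rfl | rfl | rfl | rfl | rfl | rfl | rfl | rfl | rfl | rfl <;> omega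

end Cfsg.Agent.S1002
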