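import Mathlib
import Cfsg.Statements.S1014
import Cfsg.Agent.Helper2.SignArg
import Cfsg.Agent.Helper2.SylowExact2

set_option autoImplicit false
open Cfsg

namespace Cfsg.Agent.S1014

open Cfsg.Agent.Helper2

/-- No finite simple group has order 1104 = 2^4 * 3 * 23. -/
theorem result {G : Type*} [Group G] [Finite G] [IsSimpleGroup G] : Nat.card G ≠ 1104 := by
    intro h
    haveI : Fact (Nat.Prime 23) := ⟨by norm_num⟩
    let P : Sylow 23 G := default
    have hP : Nat.card P = 23 := by
      have := SylowExact.card_sylow_of_exact_pow (s := 23) (k := 1) (m := 48)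
        (by rw [h]; norm_num) (by norm_num) P
      simpa using this
    have hidx : (P : Subgroup G).index = 48 := by
      have h1 := (P : Subgroup G).card_mul_index
      rw [hP, h] at h1
      omega
    have hdvd : Nat.card (Sylow 23 G) ∣ 48 := hidx ▸ Sylow.card_dvd_index P
    have hmod : Nat.card (Sylow 23 G) % 23 = 1 := by
      have := card_sylow_modEq_one 23 G
      exact this
    have hne1 : Nat.card (Sylow 23 G) ≠ 1 := by
      apply SmallOrder.card_sylow_ne_one P
      · rw [hP]; norm_num
      · rw [hP, h]; norm_num
    have hle : Nat.card (Sylow 23 G) ≤ 48 := Nat.le_of_dvd (by norm_num) hdvd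
    have hn : Nat.card (Sylow 23 G) = 23 + 1 := by
      generalize Nat.card (Sylow 23 G) = n at *
      interval_cases n <;> omega
    have hN : Nat.card (Subgroup.normalizer ((P : Subgroup G) : Set G)) = 2 * 23 := by
      have := SmallOrder.card_normalizer_mul_card_sylow P
      rw [hn, h] at this
      omega
    exact SignArg.false_of_sylow_succ P (by norm_num) hP hn hN

end Cfsg.Agent.S1014
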