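import Mathlib
import Cfsg.Statements.S1015
import Cfsg.Agent.Helper2.SmallOrder
import Cfsg.Agent.S0985

set_option autoImplicit false
open Cfsg

namespace Cfsg.Agent.S1015

open Cfsg.Agent.Helper2

/-- No finite simple group has order 1200 = 2^4 * 3 * 5^2. -/
theorem result {G : Type*} [Group G] [Finite G] [IsSimpleGroup G] : Nat.card G ≠ 1200 := by
    intro hG
    classical
    have hfp : Fact (Nat.Prime 5) := ⟨by norm_num⟩
    have hcard25 : ∀ Q : Sylow 5 G, Nat.card Q = 25 := by
      intro Q
      rw [Sylow.card_eq_multiplicity, hG]
      have : Nat.factorization 1200 5 = 2 := by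
        have h1 : (1200 : ℕ) = 5 ^ 2 * 48 := by norm_num
        rw [h1, Nat.factorization_mul (by norm_num) (by norm_num), Finsupp.add_apply,
          Nat.factorization_pow, Finsupp.smul_apply, Nat.Prime.factorization_self hfp.out,
          Nat.factorization_eq_zero_of_not_dvd (by norm_num : ¬ 5 ∣ 48)]
        rfl
      rw [this]; norm_num
    let P : Sylow 5 G := default
    have hidx : (P : Subgroup G).index = 48 := by
      have h1 := (P : Subgroup G).card_mul_index
      rw [hcard25 P, hG] at h1
      omega
    have hdvd : Nat.card (Sylow 5 G) ∣ 48 := hidx ▸ Sylow.card_dvd_index P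
    have hmod : Nat.card (Sylow 5 G) ≡ 1 [MOD 5] := card_sylow_modEq_one 5 G
    have hne1 : Nat.card (Sylow 5 G) ≠ 1 :=
      SmallOrder.card_sylow_ne_one P (by rw [hcard25]; norm_num) (by rw [hcard25, hG]; norm_num)
    have hmem : Nat.card (Sylow 5 G) ∈ Nat.divisors 48 := Nat.mem_divisors.mpr ⟨hdvd, by norm_num⟩
    have hdiv : Nat.divisors 48 = {1, 2, 3, 4, 6, 8, 12, 16, 24, 48} := by decide
    rw [hdiv] at hmem
    have h616 : Nat.card (Sylow 5 G) = 6 ∨ Nat.card (Sylow 5 G) = 16 := by
      have h1 : Nat.card (Sylow 5 G) % 5 = 1 % 5 := hmod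
      simp only [Finset.mem_insert, Finset.mem_singleton] at hmem
      rcases hmem with h | h | h | h | h | h | h | h | h | h <;> rw [h] at h1 hne1 <;>
        first | exact absurd rfl hne1 | exact Or.inl h | exact Or.inr h | (exfalso; revert h1; decide)
    rcases h616 with h6 | h16
    · -- index 6 normalizer
      have hN : (Subgroup.normalizer ((P : Subgroup G) : Set G)).index = 6 := by
        have := Sylow.card_eq_index_normalizer P
        rw [h6] at this
        exact this.symm
      have hne : Subgroup.normalizer ((P : Subgroup G) : Set G) ≠ ⊤ := by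
        intro h
        rw [h, Subgroup.index_top] at hN
        norm_num at hN
      have := SmallOrder.card_dvd_factorial_index _ hne
      rw [hN, hG] at this
      revert this
      decide
    · -- two Sylow subgroups with large intersection
      have hnot : ¬ Nat.card (Sylow 5 G) ≡ 1 [MOD 5 ^ 2] := by
        rw [h16]; decide
      obtain ⟨P', R', hPR, hle5⟩ := Cfsg.Agent.S0985.result 5 2 hnot
      have hle5' : ((R' : Subgroup G).subgroupOf (P' : Subgroup G)).index ≤ 5 := by
        simpa using hle5
      set D : Subgroup G := (P' : Subgroup G) ⊓ (R' : Subgroup G) with hD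
      have hDsub : (R' : Subgroup G).subgroupOf (P' : Subgroup G) = D.subgroupOf (P' : Subgroup G) := by
        rw [hD, Subgroup.inf_subgroupOf_left]
      have hDP : D ≤ (P' : Subgroup G) := inf_le_left
      have hDR : D ≤ (R' : Subgroup G) := inf_le_right
      have hDcardidx : Nat.card D * (D.subgroupOf (P' : Subgroup G)).index = 25 := by
        have h1 := (D.subgroupOf (P' : Subgroup G)).card_mul_index
        rw [Nat.card_congr (Subgroup.subgroupOfEquivOfLe hDP).toEquiv, hcard25 P'] at h1
        exact h1
      have hidx_ne1 : (D.subgroupOf (P' : Subgroup G)).index ≠ 1 := by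
        intro h1
        rw [Subgroup.index_eq_one, Subgroup.subgroupOf_eq_top] at h1
        have hPR' : (P' : Subgroup G) ≤ (R' : Subgroup G) := h1.trans hDR
        have heq : (P' : Subgroup G) = (R' : Subgroup G) :=
          Subgroup.eq_of_le_of_card_ge hPR' (by rw [hcard25 P', hcard25 R'])
        exact hPR (Sylow.ext heq)
      have hidx5 : (D.subgroupOf (P' : Subgroup G)).index = 5 := by
        rw [hDsub] at hle5'
        have hdvd25 : (D.subgroupOf (P' : Subgroup G)).index ∣ 25 := Dvd.intro_left _ hDcardidx
        have hmem' : (D.subgroupOf (P' : Subgroup G)).index ∈ Nat.divisors 25 :=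
          Nat.mem_divisors.mpr ⟨hdvd25, by norm_num⟩
        have hd25 : Nat.divisors 25 = {1, 5, 25} := by decide
        rw [hd25] at hmem'
        simp only [Finset.mem_insert, Finset.mem_singleton] at hmem'
        rcases hmem' with h | h | h
        · exact absurd h hidx_ne1
        · exact h
        · omega
      have hDcard : Nat.card D = 5 := by
        rw [hidx5] at hDcardidx
        omega
      -- P' and R' normalize D
      have hcommP : ∀ Q : Sylow 5 G, ∀ a ∈ (Q : Subgroup G), ∀ b ∈ (Q : Subgroup G), a * b = b * a := by
        intro Q a ha b hb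
        have hQ : Nat.card (Q : Subgroup G) = 5 ^ 2 := by rw [hcard25 Q]; norm_num
        have := (IsPGroup.isMulCommutative_of_card_eq_prime_sq hQ).is_comm.comm ⟨a, ha⟩ ⟨b, hb⟩
        exact congrArg Subtype.val this
      have hnorm : ∀ Q : Sylow 5 G, D ≤ (Q : Subgroup G) →
          (Q : Subgroup G) ≤ Subgroup.normalizer (D : Set G) := by
        intro Q hDQ x hx
        rw [Subgroup.mem_normalizer_iff]
        intro d
        have key : ∀ e : G, e ∈ (Q : Subgroup G) → x * e * x⁻¹ = e := by
          intro e he
          rw [hcommP Q x hx e he, mul_assoc, mul_inv_cancel, mul_one]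
        constructor
        · intro hd
          rw [key d (hDQ hd)]
          exact hd
        · intro hd
          have h1 : x * d * x⁻¹ ∈ (Q : Subgroup G) := hDQ hd
          have h2 : d ∈ (Q : Subgroup G) := by
            have : d = x⁻¹ * (x * d * x⁻¹) * x := by group
            rw [this]
            exact mul_mem (mul_mem (inv_mem hx) h1) hx
          rw [key d h2] at hd
          exact hd
      set M := Subgroup.normalizer (D : Set G) with hM
      have hPM : (P' : Subgroup G) ≤ M := hnorm P' hDP
      have hRM : (R' : Subgroup G) ≤ M := hnorm R' hDR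
      have hMtop : M ≠ ⊤ := by
        intro h
        have hDn : D.Normal := Subgroup.normalizer_eq_top_iff.mp h
        rcases hDn.eq_bot_or_eq_top with h' | h'
        · rw [h', Subgroup.card_bot] at hDcard
          norm_num at hDcard
        · rw [h', Subgroup.card_top, hG] at hDcard
          norm_num at hDcard
      -- Sylow counting inside M
      let P0 : Sylow 5 M := P'.subtype hPM
      let R0 : Sylow 5 M := R'.subtype hRM
      have hP0R0 : P0 ≠ R0 := fun h => hPR (Sylow.subtype_injective h)
      have hne1M : Nat.card (Sylow 5 M) ≠ 1 := by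
        intro h
        have hsub : Subsingleton (Sylow 5 M) := (Nat.card_eq_one_iff_unique.mp h).1
        exact hP0R0 (Subsingleton.elim _ _)
      have hmodM : Nat.card (Sylow 5 M) ≡ 1 [MOD 5] := card_sylow_modEq_one 5 M
      have hge6 : 6 ≤ Nat.card (Sylow 5 M) := by
        have h1 : Nat.card (Sylow 5 M) % 5 = 1 % 5 := hmodM
        have hpos : 0 < Nat.card (Sylow 5 M) := Nat.card_pos
        omega
      have hP0card : Nat.card (P0 : Subgroup M) = 25 := by
        show Nat.card ((P' : Subgroup G).subgroupOf M) = 25
        rw [Nat.card_congr (Subgroup.subgroupOfEquivOfLe hPM).toEquiv, hcard25 P']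
      have hdvdM : Nat.card (Sylow 5 M) ∣ (P0 : Subgroup M).index := Sylow.card_dvd_index P0
      have hidxpos : 0 < (P0 : Subgroup M).index := Nat.pos_of_ne_zero (Subgroup.index_ne_zero_of_finite)
      have hidxge : 6 ≤ (P0 : Subgroup M).index := hge6.trans (Nat.le_of_dvd hidxpos hdvdM)
      have hMcard : 150 ≤ Nat.card M := by
        have h1 := (P0 : Subgroup M).card_mul_index
        rw [hP0card] at h1
        rw [← h1]
        omega
      have hMidx : M.index ≤ 8 := by
        have h1 := M.card_mul_index
        rw [hG] at h1
        by_contra hcon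
        push Not at hcon
        have : 150 * 9 ≤ Nat.card M * M.index := Nat.mul_le_mul hMcard hcon
        omega
      have hfin := SmallOrder.card_dvd_factorial_index M hMtop
      have h8 : (M.index).factorial ∣ (8).factorial := Nat.factorial_dvd_factorial hMidx
      have := hfin.trans h8
      rw [hG] at this
      revert this
      decide

end Cfsg.Agent.S1015
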