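import Mathlib
import Cfsg.Statements.S1017
import Cfsg.Agent.Helper2.Ord2016B
import Cfsg.Agent.Helper2.SylowExact2

set_option autoImplicit false
open Cfsg

namespace Cfsg.Agent.S1017

open Cfsg.Agent.Helper2

/-- No finite simple group has order 2016 = 2^5 * 3^2 * 7. -/
theorem result {G : Type*} [Group G] [Finite G] [IsSimpleGroup G] : Nat.card G ≠ 2016 := by
        intro h
        haveI : Fact (Nat.Prime 7) := ⟨by norm_num⟩
        let P : Sylow 7 G := default
        have hP : Nat.card P = 7 := by
          have := SylowExact.card_sylow_of_exact_pow (s := 7) (k := 1) (m := 288)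
            (by rw [h]; norm_num) (by norm_num) P
          simpa using this
        have hidx : (P : Subgroup G).index = 288 := by
          have h1 := (P : Subgroup G).card_mul_index
          rw [hP, h] at h1
          omega
        have hdvd : Nat.card (Sylow 7 G) ∣ 288 := hidx ▸ Sylow.card_dvd_index P
        have hmod : Nat.card (Sylow 7 G) % 7 = 1 := card_sylow_modEq_one 7 G
        have hne1 : Nat.card (Sylow 7 G) ≠ 1 := by
          apply SmallOrder.card_sylow_ne_one P
          · rw [hP]; norm_num
          · rw [hP, h]; norm_num
        have hn : Nat.card (Sylow 7 G) = 8 ∨ Nat.card (Sylow 7 G) = 36 ∨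
            Nat.card (Sylow 7 G) = 288 := by
          have h3 : Nat.card (Sylow 7 G) ∈ Nat.divisors 288 := Nat.mem_divisors.mpr ⟨hdvd, by norm_num⟩
          generalize Nat.card (Sylow 7 G) = n at *
          simp only [Nat.divisors_ofNat, Finset.mem_insert, Finset.mem_singleton] at h3
          rcases h3 with rfl | rfl | rfl | rfl | rfl | rfl | rfl | rfl | rfl | rfl | rfl | rfl | rfl | rfl | rfl | rfl | rfl | rfl <;> omega
        rcases hn with hn | hn | hn
        · exact Ord2016B.false_of_card_sylow_8 h P hP hn
        · exact Ord2016B.false_of_card_sylow_36 h P hP hn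
        · exact Ord2016B.false_of_card_sylow_288 h P hP hn

end Cfsg.Agent.S1017
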