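import Cfsg.Statements.S1022
import Cfsg.Agent.O459.Arith
import Cfsg.Agent.O459.Val
import Cfsg.Agent.O459.Cent
import Cfsg.Agent.O459.Syl
import Cfsg.Agent.O459.Block
import Cfsg.Agent.S4700
import Cfsg.Agent.BR.RedK
import Cfsg.Agent.Helper6.ColumnOrth
import Cfsg.Agent.Helper6.PowCongr
import Cfsg.Agent.Helper2.BrTIH
import Cfsg.Agent.Helper2.SylowExact2

set_option autoImplicit false
set_option linter.style.haveILetI false
open Cfsg

namespace Cfsg.Agent.S1022

open Cfsg.Agent.O459 Cfsg.Agent.Helper2 Cfsg.Agent.Helper6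
open scoped ComplexConjugate

universe u

/-- the lower bound for `∑ χ(v) conj χ(v)` from a set of at least four characters with integer values
of absolute value at least `18` -/
theorem sum_lower {ι : Type u} [Fintype ι] (F : ι → ℂ) (S : Finset ι) (hS : 4 ≤ S.card)
    (h : ∀ i ∈ S, ∃ m : ℤ, F i = (m : ℂ) ∧ 18 ≤ |m|) :
    (1296 : ℝ) ≤ (∑ i, F i * conj (F i)).re := by
  have hnn : ∀ i, 0 ≤ (F i * conj (F i)).re := by
    intro i
    rw [Complex.mul_conj]
    exact_mod_cast Complex.normSq_nonneg _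
  have hbig : ∀ i ∈ S, (324 : ℝ) ≤ (F i * conj (F i)).re := by
    intro i hi
    obtain ⟨m, hm, h18⟩ := h i hi
    rw [hm, Complex.mul_conj, Complex.normSq_intCast]
    have h1 : (18 : ℝ) ≤ |(m : ℝ)| := by exact_mod_cast h18
    have h2 : ((m : ℝ)) * (m : ℝ) = |(m : ℝ)| * |(m : ℝ)| := (abs_mul_abs_self _).symm
    have h3 : ((((m : ℝ) * (m : ℝ) : ℝ) : ℂ)).re = (m : ℝ) * (m : ℝ) := Complex.ofReal_re _
    rw [h3, h2]
    nlinarith [abs_nonneg (m : ℝ)]
  rw [Complex.re_sum]
  have h1 := Finset.sum_le_sum_of_subset_of_nonneg (Finset.subset_univ S)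
    (f := fun i => (F i * conj (F i)).re) (fun i _ _ => hnn i)
  refine le_trans ?_ h1
  have h2 : ∑ i ∈ S, (324 : ℝ) ≤ ∑ i ∈ S, (F i * conj (F i)).re := Finset.sum_le_sum hbig
  rw [Finset.sum_const, nsmul_eq_mul] at h2
  have h3 : (4 : ℝ) ≤ (S.card : ℝ) := by exact_mod_cast hS
  nlinarith

/-- No finite simple group has order 459648 = 2^7 * 3^3 * 7 * 19. -/
theorem result {G : Type*} [Group G] [Finite G] [IsSimpleGroup G] : Nat.card G ≠ 459648 := by
  classical
  intro h
  haveI : Fact (Nat.Prime 19) := ⟨by norm_num⟩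
  haveI : Fintype G := Fintype.ofFinite G
  haveI : Finite (Cfsg.IrrCharacter G) := irr_finite
  haveI : Fintype (Cfsg.IrrCharacter G) := Fintype.ofFinite _
  have hperf : commutator G = ⊤ := BrTI.perfect_of_simple (by rw [h]; norm_num)
  let P : Sylow 19 G := default
  have hP : Nat.card (P : Subgroup G) = 19 := by
    have := SylowExact.card_sylow_of_exact_pow (s := 19) (k := 1) (m := 24192)
      (by rw [h]; norm_num) (by norm_num) P
    simpa using this
  have hidx : (P : Subgroup G).index = 24192 := by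
    have h1 := (P : Subgroup G).card_mul_index
    rw [hP, h] at h1
    omega
  have hdvd : Nat.card (Sylow 19 G) ∣ 24192 := hidx ▸ Sylow.card_dvd_index P
  have hmod : Nat.card (Sylow 19 G) % 19 = 1 := card_sylow_modEq_one 19 G
  have hne1 : Nat.card (Sylow 19 G) ≠ 1 := by
    apply SmallOrder.card_sylow_ne_one P
    · rw [hP]; norm_num
    · rw [hP, h]; norm_num
  rcases o459_sylow_cands _ hdvd hmod with h1 | h96 | h1008
  · exact hne1 h1
  · -- `n_19 = 96`: S4700
    rcases Cfsg.Agent.S4700.result hperf 19 P hP 5 (by rw [h96]) with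
      ⟨F, _, _, hF, -, ⟨e⟩⟩ | ⟨m, F, _, _, -, hp, -, -⟩ | ⟨hh, u, hh0, hu0, heq⟩
    · have hc := Cfsg.Agent.BR.br_redK_card_psl_odd (F := F) hF (by decide)
      have h2 : Nat.card (G ⧸ Cfsg.pPrimeCore 19 G) =
          Nat.card (Matrix.ProjectiveSpecialLinearGroup (Fin 2) F) := Nat.card_congr e.toEquiv
      have h3 : Nat.card (G ⧸ Cfsg.pPrimeCore 19 G) ∣ Nat.card G :=
        Subgroup.card_quotient_dvd_card _
      rw [h2, h] at h3
      have h4 : Nat.card (Matrix.ProjectiveSpecialLinearGroup (Fin 2) F) = 3420 := by omega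
      rw [h4] at h3
      norm_num at h3
    · have h2 : 2 ^ m = 18 := by omega
      have hm5 : m < 5 := by
        by_contra hcon
        have : 2 ^ 5 ≤ 2 ^ m := Nat.pow_le_pow_right (by norm_num) (by omega)
        omega
      interval_cases m <;> omega
    · exact o459_no_fform hh u hh0 hu0 heq
  · -- `n_19 = 1008`
    have hN : Nat.card (Subgroup.normalizer ((P : Subgroup G) : Set G)) = 456 := by
      have := SmallOrder.card_normalizer_mul_card_sylow P
      rw [h1008, h] at this
      omega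
    set C := Subgroup.centralizer ((P : Subgroup G) : Set G) with hCdef
    obtain ⟨hC76, S, hS4, hχ⟩ := o459_block hperf P hP h1008 hN
    -- an involution in `C`
    haveI : Fact (Nat.Prime 2) := ⟨Nat.prime_two⟩
    obtain ⟨v', hv'⟩ := exists_prime_orderOf_dvd_card' (G := C) 2 (by rw [hC76]; norm_num)
    set v : G := (v' : G) with hvdef
    have hv : orderOf v = 2 := by rw [hvdef, Subgroup.orderOf_coe]; exact hv'
    have hvC : v ∈ C := v'.2
    have hv2 : v ^ 2 = 1 := by rw [← hv]; exact pow_orderOf_eq_one v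
    have hv19 : ¬ 19 ∣ orderOf v := by rw [hv]; norm_num
    -- a generator of `P`
    obtain ⟨x', hx'⟩ := exists_prime_orderOf_dvd_card' (G := (P : Subgroup G)) 19
      (by rw [hP])
    set x : G := (x' : G) with hxdef
    have hx : orderOf x = 19 := by rw [hxdef, Subgroup.orderOf_coe]; exact hx'
    have hxP : x ∈ (P : Subgroup G) := x'.2
    have hx19 : x ^ 19 = 1 := by rw [← hx]; exact pow_orderOf_eq_one x
    have hxv : x * v = v * x := by
      rw [hCdef, Subgroup.mem_centralizer_iff] at hvC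
      exact hvC x hxP
    -- the values at `v`
    have hvals : ∀ χ ∈ S, ∃ m : ℤ, (χ : G → ℂ) v = (m : ℂ) ∧ 18 ≤ |m| := by
      intro χ hχmem
      obtain ⟨heven, ε, hε, hval⟩ := hχ χ hχmem
      have hchar : Cfsg.IsCharacter G (χ : G → ℂ) := by
        obtain ⟨n, ρ, -, hρ⟩ := χ.2
        exact ⟨n, ρ, hρ⟩
      refine o459_val_abs hchar x v hx19 hv2 hxv ε hε heven ?_
      intro j hj
      refine hval (x ^ j) (Subgroup.pow_mem _ hxP j) ?_ v hvC hv19
      intro hxj
      exact hj (hx ▸ orderOf_dvd_of_pow_eq_one hxj)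
    have hlow := sum_lower (fun χ : Cfsg.IrrCharacter G => (χ : G → ℂ) v) S hS4 hvals
    have hcol := column_orthogonality_aux (G := G) v v
    rw [if_pos (IsConj.refl v)] at hcol
    rw [hcol, Complex.natCast_re] at hlow
    have hcent := o459_cent h P h1008 v hv hvC o459_sylow_cands
      (fun H _ _ hH => o459_syl_ne96 hH)
    have : (Nat.card (Subgroup.centralizer ({v} : Set G)) : ℝ) ≤ 456 := by exact_mod_cast hcent
    linarith

end Cfsg.Agent.S1022
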