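import Mathlib
import Cfsg.Statements.S1058
import Cfsg.Agent.Helper7.IsomTransfer
import Cfsg.Agent.Helper7.ChevFieldAut
import Cfsg.Agent.Helper7.ChevX
import Cfsg.Agent.Helper7.B22Data

set_option autoImplicit false
open Cfsg

namespace Cfsg.Agent.S1058

open Matrix Cfsg.Lie Cfsg.Agent.Helper7 Cfsg.Agent.Helper7.B22

section transfer

variable {F K : Type*} [Field F] [Field K]

theorem map_group (D : ChevalleyDatum) (φ : F ≃+* K) :
    (D.group F).map (IsomTransfer.glEquiv φ : GL D.Idx F ≃* GL D.Idx K).toMonoidHom = D.group K := by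
  unfold ChevalleyDatum.group
  rw [MonoidHom.map_closure]
  congr 1
  ext g
  constructor
  · rintro ⟨h, ⟨r, t, hh⟩, rfl⟩
    refine ⟨r, φ t, ?_⟩
    change ((IsomTransfer.glEquiv φ h : GL D.Idx K) : Matrix D.Idx D.Idx K) = _
    rw [IsomTransfer.glEquiv_coe, hh]
    exact xMat_map D (φ : F →+* K) r t
  · rintro ⟨r, t, hg⟩
    refine ⟨(IsomTransfer.glEquiv φ).symm g, ⟨r, φ.symm t, ?_⟩, ?_⟩
    · have h1 : (((IsomTransfer.glEquiv φ).symm g : GL D.Idx F) : Matrix D.Idx D.Idx F) =
          (g : Matrix D.Idx D.Idx K).map φ.symm := rfl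
      rw [h1, hg]
      exact xMat_map D (φ.symm : K →+* F) r t
    · exact (IsomTransfer.glEquiv φ).apply_symm_apply g

/-- The isomorphism of Chevalley groups induced by a field isomorphism. -/
noncomputable def groupEquiv (D : ChevalleyDatum) (φ : F ≃+* K) : ↥(D.group F) ≃* ↥(D.group K) :=
  ((IsomTransfer.glEquiv φ).subgroupMap (D.group F)).trans (MulEquiv.subgroupCongr (map_group D φ))

end transfer

/-- A bit as an element of the field with two elements. -/
def zb (b : Bool) : ZMod 2 := cond b 1 0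

theorem zb_xor (a b : Bool) : zb (xor a b) = zb a + zb b := by cases a <;> cases b <;> decide

/-- Decoding of a number as a matrix. -/
def dec (X : Nat) : Matrix (Fin 10) (Fin 10) (ZMod 2) :=
  fun i j => zb (X.testBit (10 * i.val + j.val))

theorem colOp_testBit (X k j : Nat) (hj : j < 10) (i j' : Nat) (hi : i < 10)
    (hj' : j' < 10) :
    (colOp X k j).testBit (10 * i + j') = (decide (j' = j) && X.testBit (10 * i + k)) := by
  unfold colOp
  rw [Nat.testBit_shiftLeft, Nat.testBit_and, Nat.testBit_shiftRight]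
  by_cases h : j' = j
  · subst h
    have h2 : 10 * i + j' - j' = 10 * i := by omega
    have h3 : (10 * i) % 10 = 0 ∧ 10 * i < 100 := by omega
    rw [h2, colmask_testBit _ (by omega)]
    simp [h3, Nat.add_comm]
  · have h3 : ¬ (10 * i + j' ≥ j ∧ ((10 * i + j' - j) % 10 = 0 ∧ 10 * i + j' - j < 100)) := by omega
    by_cases h4 : 10 * i + j' ≥ j
    · rw [colmask_testBit _ (by omega)]
      have h5 : ¬ ((10 * i + j' - j) % 10 = 0 ∧ 10 * i + j' - j < 100) := fun h5 => h3 ⟨h4, h5⟩
      simp [h, h5]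
    · simp [h, h4]

theorem dec_xor (A B : Nat) : dec (A ^^^ B) = dec A + dec B := by
  ext i j
  simp only [dec, Matrix.add_apply, Nat.testBit_xor, zb_xor]

theorem dec_colOp (X : Nat) (k j : Fin 10) :
    dec (colOp X k.val j.val) = dec X * Matrix.single k j (1 : ZMod 2) := by
  ext i j'
  have h0 : dec (colOp X k.val j.val) i j' =
      zb ((colOp X k.val j.val).testBit (10 * i.val + j'.val)) := rfl
  rw [h0, colOp_testBit X k.val j.val j.2 i.val j'.val i.2 j'.2]
  by_cases h : j' = j
  · subst h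
    rw [Matrix.mul_single_apply_same, mul_one]
    simp [dec]
  · rw [Matrix.mul_single_apply_of_ne (hbj := h)]
    have : j'.val ≠ j.val := fun h' => h (Fin.ext h')
    simp [this, zb]

/-- The unipotent matrix with the given off-diagonal entries. -/
def genMat : List (Nat × Nat) → Matrix (Fin 10) (Fin 10) (ZMod 2)
  | [] => 1
  | kj :: l => genMat l + Matrix.single (Fin.ofNat 10 kj.1) (Fin.ofNat 10 kj.2) 1

theorem dec_mulGen (X : Nat) : ∀ l : List (Nat × Nat), (∀ kj ∈ l, kj.1 < 10 ∧ kj.2 < 10) →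
    dec (mulGen X l) = dec X * genMat l := by
  intro l
  induction l with
  | nil => intro _; rw [mulGen, genMat, Matrix.mul_one]
  | cons kj l ih =>
    intro h
    have h1 := h kj List.mem_cons_self
    rw [mulGen, genMat, dec_xor, ih (fun x hx => h x (List.mem_cons_of_mem _ hx)), Matrix.mul_add]
    congr 1
    have e1 : kj.1 = (Fin.ofNat 10 kj.1).val := by
      show kj.1 = kj.1 % 10
      rw [Nat.mod_eq_of_lt h1.1]
    have e2 : kj.2 = (Fin.ofNat 10 kj.2).val := by
      show kj.2 = kj.2 % 10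
      rw [Nat.mod_eq_of_lt h1.2]
    conv_lhs => rw [e1, e2]
    exact dec_colOp X _ _

theorem gens_lt : ∀ l ∈ gens, ∀ kj ∈ l, kj.1 < 10 ∧ kj.2 < 10 := by decide

/-- The index type of the adjoint representation. -/
abbrev Idx := Fin 2 ⊕ Fin 8

/-- The numbering of the indices. -/
def eI : Idx ≃ Fin 10 := finSumFinEquiv

/-- The entries of a root element agree with the coded generator. -/
def entryOk (r : Fin 8) (a b : Idx) : Prop :=
  chevB2.xMat (ZMod 2) r 1 a b = genMat (gens.getD r.val []) (eI a) (eI b)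

instance (r : Fin 8) (a b : Idx) : Decidable (entryOk r a b) := by
  unfold entryOk; infer_instance

set_option maxRecDepth 1000000 in
theorem entry_ok : ∀ (r : Fin 8) (a b : Idx), entryOk r a b := by decide +kernel


/-- The Chevalley group over the field with two elements. -/
abbrev G := chevB2.group (ZMod 2)

/-- Matrices over the index type. -/
abbrev MI := Matrix Idx Idx (ZMod 2)

/-- Decoding of a number as a matrix over the index type. -/
def decI (X : Nat) : MI := (dec X).submatrix eI eI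

/-- The coded generators over the index type. -/
def genI (r : Fin 8) : MI := (genMat (gens.getD r.val [])).submatrix eI eI

theorem xMat_eq (r : Fin 8) : chevB2.xMat (ZMod 2) r 1 = genI r := by
  ext a b
  exact entry_ok r a b

theorem getD_mem (r : Fin 8) : gens.getD r.val [] ∈ gens := by
  revert r; decide

theorem decI_mulGen (X : Nat) (r : Fin 8) : decI (mulGen X (gens.getD r.val [])) = decI X * genI r := by
  rw [decI, dec_mulGen X _ (gens_lt _ (getD_mem r)), decI, genI, Matrix.submatrix_mul_equiv]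

/-- The codes of the elements of the group. -/
def keys : List Nat := tree.toList

theorem closed {X : Nat} (hX : X ∈ keys) (r : Fin 8) : mulGen X (gens.getD r.val []) ∈ keys := by
  have h := Tr.all_spec nodeOk tree tree_ok X hX
  rw [nodeOk, List.all_eq_true] at h
  exact Tr.mem_spec tree _ (h _ (getD_mem r))

/-- The entries of the decoded identity. -/
def oneOk (i j : Fin 10) : Prop := dec oneCode i j = (1 : Matrix (Fin 10) (Fin 10) (ZMod 2)) i j

instance (i j : Fin 10) : Decidable (oneOk i j) := by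
  unfold oneOk; infer_instance

set_option maxRecDepth 1000000 in
theorem one_ok : ∀ i j : Fin 10, oneOk i j := by decide +kernel

theorem dec_one : dec oneCode = 1 := by
  ext i j
  exact one_ok i j

theorem decI_one : decI oneCode = 1 := by
  rw [decI, dec_one, Matrix.submatrix_one_equiv]

/-- The square of a root element. -/
def sqOk (r : Fin 8) (a b : Idx) : Prop :=
  (chevB2.xMat (ZMod 2) r 1 * chevB2.xMat (ZMod 2) r 1) a b = (1 : MI) a b

instance (r : Fin 8) (a b : Idx) : Decidable (sqOk r a b) := by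
  unfold sqOk; infer_instance

set_option maxRecDepth 1000000 in
theorem sq_ok : ∀ (r : Fin 8) (a b : Idx), sqOk r a b := by decide +kernel

theorem xMat_sq (r : Fin 8) : chevB2.xMat (ZMod 2) r 1 * chevB2.xMat (ZMod 2) r 1 = 1 := by
  ext a b
  exact sq_ok r a b

theorem zmod2_cases : ∀ t : ZMod 2, t = 0 ∨ t = 1 := by decide

theorem xMat_zero' (r : Fin 8) : chevB2.xMat (ZMod 2) r 0 = 1 := xMat_zero chevB2 r

/-- Every generator is the identity or a root element with parameter one. -/
theorem gen_cases (y : GL chevB2.Idx (ZMod 2))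
    (hy : ∃ (r : Fin chevB2.nroots) (t : ZMod 2), (y : Matrix chevB2.Idx chevB2.Idx (ZMod 2)) = chevB2.xMat (ZMod 2) r t) :
    y = 1 ∨ ∃ r : Fin 8, (y.1 : MI) = chevB2.xMat (ZMod 2) r 1 := by
  obtain ⟨r, t, h⟩ := hy
  rcases zmod2_cases t with rfl | rfl
  · left
    apply Units.ext
    rw [h]
    exact xMat_zero' r
  · exact Or.inr ⟨r, h⟩

theorem gen_inv (y : GL chevB2.Idx (ZMod 2)) (r : Fin 8) (h : (y.1 : MI) = chevB2.xMat (ZMod 2) r 1) :
    y⁻¹ = y := by
  apply inv_eq_of_mul_eq_one_right
  apply Units.ext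
  rw [Units.val_mul, Units.val_one]
  have := xMat_sq r
  rw [← h] at this
  exact this

/-- Every element of the group has its code in the tree. -/
theorem exists_key (g : GL chevB2.Idx (ZMod 2)) (hg : g ∈ G) : ∃ X ∈ keys, decI X = (g.1 : MI) := by
  induction hg using Subgroup.closure_induction_right with
  | one => exact ⟨oneCode, Tr.mem_spec tree _ one_mem, decI_one⟩
  | mul_right x hx y hy ih =>
    obtain ⟨X, hX, hXx⟩ := ih
    rcases gen_cases y hy with rfl | ⟨r, hr⟩
    · exact ⟨X, hX, by rw [mul_one]; exact hXx⟩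
    · refine ⟨mulGen X (gens.getD r.val []), closed hX r, ?_⟩
      rw [decI_mulGen, hXx, ← xMat_eq, ← hr]
      rfl
  | mul_inv_cancel x hx y hy ih =>
    obtain ⟨X, hX, hXx⟩ := ih
    rcases gen_cases y hy with rfl | ⟨r, hr⟩
    · exact ⟨X, hX, by rw [inv_one, mul_one]; exact hXx⟩
    · refine ⟨mulGen X (gens.getD r.val []), closed hX r, ?_⟩
      rw [gen_inv y r hr, decI_mulGen, hXx, ← xMat_eq, ← hr]
      rfl

theorem card_G_le : Nat.card G ≤ 720 := by
  classical
  let f : G → {X : Nat // X ∈ keys} := fun g =>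
    ⟨(exists_key g.1 g.2).choose, (exists_key g.1 g.2).choose_spec.1⟩
  have hf : Function.Injective f := by
    intro g h hgh
    apply Subtype.ext
    apply Units.ext
    have h1 := (exists_key g.1 g.2).choose_spec.2
    have h2 := (exists_key h.1 h.2).choose_spec.2
    have h3 : (exists_key g.1 g.2).choose = (exists_key h.1 h.2).choose := congrArg Subtype.val hgh
    rw [h3] at h1
    exact h1.symm.trans h2
  have h1 := Nat.card_le_card_of_injective f hf
  have h2 : Nat.card {X : Nat // X ∈ keys} ≤ 720 := by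
    rw [Nat.card_eq_fintype_card, Fintype.card_of_subtype keys.toFinset (by simp)]
    exact (List.toFinset_card_le keys).trans (le_of_eq tree_length)
  exact h1.trans h2

/-- Six row vectors permuted by the group. -/
def rows6 : List (List (ZMod 2)) := [[0, 1, 0, 0, 0, 1, 1, 0, 0, 0], [0, 1, 0, 0, 0, 1, 1, 0, 0, 1], [0, 1, 1, 0, 0, 0, 0, 0, 0, 1], [0, 1, 1, 0, 0, 0, 1, 0, 0, 1], [0, 1, 1, 0, 0, 1, 0, 0, 0, 1], [0, 1, 1, 0, 0, 1, 1, 0, 0, 0]]

/-- The matrix of the six row vectors. -/
def A6 : Matrix (Fin 6) Idx (ZMod 2) := fun i a => (rows6.getD i.val []).getD (eI a).val 0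

/-- The permutations of the six row vectors induced by the root elements. -/
def piL : List (Equiv.Perm (Fin 6)) :=
  [Equiv.swap 0 1, Equiv.swap 0 1 * Equiv.swap 2 3 * Equiv.swap 4 5,
   Equiv.swap 0 1 * Equiv.swap 2 4 * Equiv.swap 3 5, Equiv.swap 2 3, Equiv.swap 2 4,
   Equiv.swap 0 5 * Equiv.swap 1 4 * Equiv.swap 2 3, Equiv.swap 0 5 * Equiv.swap 1 3 * Equiv.swap 2 4,
   Equiv.swap 0 5]

/-- The permutation induced by a root element. -/
def pi (r : Fin 8) : Equiv.Perm (Fin 6) := piL.getD r.val 1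

/-- A root element as a matrix over the index type. -/
def xM (r : Fin 8) : MI := chevB2.xMat (ZMod 2) r 1

/-- A matrix over the index type of the datum as a matrix over the index type. -/
def toMI (A : Matrix chevB2.Idx chevB2.Idx (ZMod 2)) : MI := A

/-- The action of a root element on the six row vectors. -/
def actOk (r : Fin 8) (i : Fin 6) (b : Idx) : Prop :=
  (A6 * xM r) i b = A6 (pi r i) b

instance (r : Fin 8) (i : Fin 6) (b : Idx) : Decidable (actOk r i b) := by
  unfold actOk; infer_instance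

set_option maxRecDepth 1000000 in
theorem act_ok : ∀ (r : Fin 8) (i : Fin 6) (b : Idx), actOk r i b := by decide +kernel

/-- The rows are distinct. -/
def injOk (i j : Fin 6) : Prop := (∀ b : Idx, A6 i b = A6 j b) → i = j

instance (i j : Fin 6) : Decidable (injOk i j) := by
  unfold injOk; infer_instance

theorem A6_inj' : ∀ i j : Fin 6, injOk i j := by decide

theorem A6_inj (i j : Fin 6) (h : A6 i = A6 j) : i = j := A6_inj' i j (fun b => congrFun h b)

/-- The relation between a matrix and the permutation it induces on the six row vectors. -/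
def Rel (g : MI) (σ : Equiv.Perm (Fin 6)) : Prop := ∀ i, (A6 * g) i = A6 (σ i)

theorem Rel.unique {g : MI} {σ τ : Equiv.Perm (Fin 6)} (h1 : Rel g σ) (h2 : Rel g τ) : σ = τ := by
  ext i
  exact congrArg Fin.val (A6_inj _ _ ((h1 i).symm.trans (h2 i)))

theorem Rel.one : Rel 1 1 := fun i => by rw [Matrix.mul_one]; rfl

theorem Rel.mul {g h : MI} {σ τ : Equiv.Perm (Fin 6)} (h1 : Rel g σ) (h2 : Rel h τ) :
    Rel (g * h) (τ * σ) := by
  intro i
  rw [← Matrix.mul_assoc]
  have e1 : (A6 * g * h) i = (A6 * g) i ᵥ* h := by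
    ext b
    rfl
  have e2 : (A6 * h) (σ i) = A6 (σ i) ᵥ* h := by
    ext b
    rfl
  rw [e1, h1 i, ← e2, h2 (σ i)]
  rfl

theorem Rel.inv {g g' : MI} (hgg : g * g' = 1) {σ : Equiv.Perm (Fin 6)} (h1 : Rel g σ) :
    Rel g' σ⁻¹ := by
  intro i
  have h2 := h1 (σ⁻¹ i)
  have h3 : σ (σ⁻¹ i) = i := by simp
  rw [h3] at h2
  have e1 : (A6 * g') i = A6 i ᵥ* g' := by
    ext b
    rfl
  have e2 : (A6 * g) (σ⁻¹ i) = A6 (σ⁻¹ i) ᵥ* g := by
    ext b
    rfl
  rw [e1, ← h2, e2, Matrix.vecMul_vecMul, hgg, Matrix.vecMul_one]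

theorem Rel.gen (r : Fin 8) : Rel (xM r) (pi r) := by
  intro i
  ext b
  exact act_ok r i b

theorem exists_rel (g : GL chevB2.Idx (ZMod 2)) (hg : g ∈ G) : ∃ σ, Rel (g.1 : MI) σ := by
  induction hg using Subgroup.closure_induction_right with
  | one => exact ⟨1, Rel.one⟩
  | mul_right x hx y hy ih =>
    obtain ⟨σ, hσ⟩ := ih
    rcases gen_cases y hy with rfl | ⟨r, hr⟩
    · exact ⟨σ, by rw [mul_one]; exact hσ⟩
    · refine ⟨pi r * σ, ?_⟩
      have : ((x * y).1 : MI) = toMI x.1 * xM r := by
        show toMI x.1 * toMI y.1 = toMI x.1 * xM r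
        congr 1
      rw [this]
      exact hσ.mul (Rel.gen r)
  | mul_inv_cancel x hx y hy ih =>
    obtain ⟨σ, hσ⟩ := ih
    rcases gen_cases y hy with rfl | ⟨r, hr⟩
    · exact ⟨σ, by rw [inv_one, mul_one]; exact hσ⟩
    · refine ⟨pi r * σ, ?_⟩
      have : ((x * y⁻¹).1 : MI) = toMI x.1 * xM r := by
        rw [gen_inv y r hr]
        show toMI x.1 * toMI y.1 = toMI x.1 * xM r
        congr 1
      rw [this]
      exact hσ.mul (Rel.gen r)

/-- The permutation induced by an element of the group. -/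
noncomputable def sig (g : G) : Equiv.Perm (Fin 6) := (exists_rel g.1 g.2).choose

theorem sig_spec (g : G) : Rel (g.1.1 : MI) (sig g) := (exists_rel g.1 g.2).choose_spec

/-- The permutation representation of degree six. -/
noncomputable def rho : G →* Equiv.Perm (Fin 6) where
  toFun g := (sig g)⁻¹
  map_one' := by
    have : sig 1 = 1 := (sig_spec 1).unique Rel.one
    rw [this, inv_one]
  map_mul' g h := by
    have : sig (g * h) = sig h * sig g := (sig_spec (g * h)).unique ((sig_spec g).mul (sig_spec h))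
    rw [this, _root_.mul_inv_rev]

/-- A root element as an element of the group. -/
def xG (r : Fin 8) : G :=
  ⟨⟨chevB2.xMat (ZMod 2) r 1, chevB2.xMat (ZMod 2) r 1, xMat_sq r, xMat_sq r⟩,
    Subgroup.subset_closure ⟨r, 1, rfl⟩⟩

theorem rho_xG (r : Fin 8) : rho (xG r) = (pi r)⁻¹ := by
  have : sig (xG r) = pi r := (sig_spec (xG r)).unique (Rel.gen r)
  show (sig (xG r))⁻¹ = _
  rw [this]

theorem rot_eq : finRotate 6 = (pi 0)⁻¹ * (pi 4)⁻¹ * (pi 1)⁻¹ * (pi 7)⁻¹ * (pi 0)⁻¹ := by decide

theorem swap_eq : Equiv.swap (0 : Fin 6) (finRotate 6 0) = (pi 0)⁻¹ := by decide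

theorem rho_surjective : Function.Surjective rho := by
  rw [← MonoidHom.range_eq_top, eq_top_iff,
    ← Equiv.Perm.closure_cycle_adjacent_swap (isCycle_finRotate (n := 4))
      (support_finRotate (n := 4)) (0 : Fin 6), Subgroup.closure_le]
  rintro σ (rfl | rfl)
  · rw [rot_eq, ← rho_xG, ← rho_xG, ← rho_xG, ← rho_xG, ← map_mul, ← map_mul, ← map_mul, ← map_mul]
    exact ⟨_, rfl⟩
  · rw [swap_eq, ← rho_xG]
    exact ⟨_, rfl⟩

theorem main : Nonempty (G ≃* Equiv.Perm (Fin 6)) := by
  have hfin : Finite G := by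
    have : Finite (GL chevB2.Idx (ZMod 2)) := inferInstance
    exact Subtype.finite
  have h1 : Nat.card (Equiv.Perm (Fin 6)) = 720 := by
    rw [Nat.card_perm, Nat.card_eq_fintype_card, Fintype.card_fin]; rfl
  have h2 : Nat.card (Equiv.Perm (Fin 6)) ≤ Nat.card G := Nat.card_le_card_of_surjective rho rho_surjective
  have h3 : Nat.card G = Nat.card (Equiv.Perm (Fin 6)) := le_antisymm (h1 ▸ card_G_le) h2
  have hbij : Function.Bijective rho :=
    (Nat.bijective_iff_surjective_and_card rho).mpr ⟨rho_surjective, h3⟩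
  exact ⟨MulEquiv.ofBijective rho hbij⟩

/-- B₂(2) ≅ S₆. -/
theorem result {F : Type*} [Field F] [Fintype F] (hF : Fintype.card F = 2) :
    Nonempty (↥(Cfsg.Lie.chevB2.group F) ≃* Equiv.Perm (Fin 6)) := by
  have φ : F ≃+* ZMod 2 := (ZMod.ringEquivOfPrime F Nat.prime_two hF).symm
  obtain ⟨e⟩ := main
  exact ⟨(groupEquiv chevB2 φ).trans e⟩

end Cfsg.Agent.S1058
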