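import Cfsg.Statements.S1084
import Cfsg.Agent.S1077
import Cfsg.Agent.S1054
import Cfsg.Agent.E6C.Eq
import Cfsg.Agent.E6C.NonComm
import Cfsg.Agent.E6C.BQuot

set_option autoImplicit false
open Cfsg

namespace Cfsg.Agent.S1084

/-- E₆ via the 27-dimensional cubic form: for a finite field with at least three elements, (isometries of the cubic form) / centre ≅ the Chevalley group E₆(F). -/
theorem result {F : Type*} [Field F] [Fintype F] (hF : 3 ≤ Fintype.card F) : Nonempty (Cfsg.Lie.E6 F ≃* ↥(Cfsg.Lie.chevE6.group F)) := by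
  obtain ⟨ψ, hψ, hker, -⟩ := Cfsg.Agent.S1077.result (K := F) Cfsg.Lie.chevE6 (by simp)
  have : IsSimpleGroup ↥(Cfsg.Lie.chevE6.group F) :=
    (Cfsg.Agent.S1054.result (F := F) Cfsg.Lie.chevE6 (by simp)).1
  have hmem : ∀ s : Cfsg.Lie.chevE6.SteinbergGroup F,
      Cfsg.Agent.E6C.e6c_phi (F := F) s ∈ Cfsg.Lie.E6univ F := by
    intro s
    rw [← Cfsg.Agent.E6C.e6c_phi_range_univ hF]
    exact ⟨s, rfl⟩
  have hφ : Function.Surjective
      ((Cfsg.Agent.E6C.e6c_phi (F := F)).codRestrict (Cfsg.Lie.E6univ F) hmem) := by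
    rintro ⟨g, hg⟩
    rw [← Cfsg.Agent.E6C.e6c_phi_range_univ hF] at hg
    obtain ⟨s, rfl⟩ := hg
    exact ⟨s, rfl⟩
  exact Cfsg.Agent.E6C.e6cb_nonempty_equiv_quot_center ψ hψ hker _ hφ
    Cfsg.Agent.E6C.e6c_not_comm

end Cfsg.Agent.S1084
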