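import Cfsg.Statements.S1094
import Cfsg.Agent.Helper7.CoxElt
import Cfsg.Agent.Helper7.CoxB2
import Cfsg.Agent.Helper7.CoxG2
import Cfsg.Agent.Helper7.CoxD4
import Cfsg.Agent.Helper7.CoxF4
import Cfsg.Agent.Helper7.CoxE6
import Cfsg.Agent.Helper7.CoxE7
import Cfsg.Agent.Helper7.CoxE8

set_option autoImplicit false
set_option maxRecDepth 100000
open Cfsg

namespace Cfsg.Agent.S1094

open Cfsg.Agent.Helper7 Cfsg.Agent.Helper7.CoxEnum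

theorem ordB2 : coxMat 2 CoxB2.A ^ 4 = 1 ∧ ∀ q < 4, 0 < q → coxMat 2 CoxB2.A ^ q ≠ 1 := by
  decide +kernel

theorem ordG2 : coxMat 2 CoxG2.A ^ 6 = 1 ∧ ∀ q < 6, 0 < q → coxMat 2 CoxG2.A ^ q ≠ 1 := by
  decide +kernel

theorem ordD4 : coxMat 4 CoxD4.A ^ 6 = 1 ∧ ∀ q < 6, 0 < q → coxMat 4 CoxD4.A ^ q ≠ 1 := by
  decide +kernel

theorem ordF4 : coxMat 4 CoxF4.A ^ 12 = 1 ∧ ∀ q < 12, 0 < q → coxMat 4 CoxF4.A ^ q ≠ 1 := by
  decide +kernel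

theorem ordE6 : coxMat 6 CoxE6.A ^ 12 = 1 ∧ ∀ q < 12, 0 < q → coxMat 6 CoxE6.A ^ q ≠ 1 := by
  decide +kernel

theorem ordE7 : coxMat 7 CoxE7.A ^ 18 = 1 ∧ ∀ q < 18, 0 < q → coxMat 7 CoxE7.A ^ q ≠ 1 := by
  decide +kernel

theorem ordE8 : coxMat 8 CoxE8.A ^ 30 = 1 ∧ ∀ q < 30, 0 < q → coxMat 8 CoxE8.A ^ q ≠ 1 := by
  decide +kernel

/-- The Coxeter element `s₁ s₂ ⋯ s_l` of the Coxeter group of type B₂, G₂, D₄, F₄, E₆, E₇, E₈ has order `h = 2N/l` = 4, 6, 6, 12, 12, 18, 30. -/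
theorem result (p : (Σ n : ℕ, CoxeterMatrix (Fin n)) × ℕ)
    (hp : p ∈ [(⟨2, CoxeterMatrix.B 2⟩, 4), (⟨2, CoxeterMatrix.G₂⟩, 6), (⟨4, Cfsg.Lie.coxeterD4⟩, 6), (⟨4, CoxeterMatrix.F₄⟩, 12),
      (⟨6, CoxeterMatrix.E₆⟩, 12), (⟨7, CoxeterMatrix.E₇⟩, 18), (⟨8, CoxeterMatrix.E₈⟩, 30)]) :
    orderOf ((List.finRange p.1.1).map p.1.2.simple).prod = p.2 := by
  simp only [List.mem_cons, List.mem_nil_iff, or_false] at hp
  rcases hp with rfl | rfl | rfl | rfl | rfl | rfl | rfl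
  · exact orderOf_coxeter_element _ CoxB2.A CoxB2.main.2 4 (by norm_num) ordB2
  · exact orderOf_coxeter_element _ CoxG2.A CoxG2.main.2 6 (by norm_num) ordG2
  · exact orderOf_coxeter_element _ CoxD4.A CoxD4.main.2 6 (by norm_num) ordD4
  · exact orderOf_coxeter_element _ CoxF4.A CoxF4.main.2 12 (by norm_num) ordF4
  · exact orderOf_coxeter_element _ CoxE6.A CoxE6.main.2 12 (by norm_num) ordE6
  · exact orderOf_coxeter_element _ CoxE7.A CoxE7.main.2 18 (by norm_num) ordE7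
  · exact orderOf_coxeter_element _ CoxE8.A CoxE8.main.2 30 (by norm_num) ordE8

end Cfsg.Agent.S1094
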