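import Cfsg.Statements.S1097
import Cfsg.Agent.Helper7.StM
import Cfsg.Agent.Helper7.ChevT21

set_option autoImplicit false
open Cfsg

namespace Cfsg.Agent.S1097

open Cfsg.Agent.Helper7 Cfsg.Agent.Helper7.Chev Cfsg.Agent.Helper7.St in
/-- Any homomorphism from the presented group to the Chevalley group with `x̄_r(t) ↦ x_r(t)` has kernel contained in `H̄ = ⟨h̄_p(t) : p fundamental, t ≠ 0⟩`. -/
theorem result {K : Type*} [Field K] (D : Cfsg.Lie.ChevalleyDatum) (hD : D ∈ [Cfsg.Lie.chevG2, Cfsg.Lie.chevB2, Cfsg.Lie.chevD4, Cfsg.Lie.chevF4, Cfsg.Lie.chevE6, Cfsg.Lie.chevE7, Cfsg.Lie.chevE8]) (θ : D.SteinbergGroup K →* ↥(D.group K))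
    (hθ : ∀ (r : ℕ) (t : K), r < D.nroots → ((θ (D.stGen K r t) : GL D.Idx K) : Matrix D.Idx D.Idx K) = D.x K r t) :
    θ.ker ≤ Subgroup.closure {h | ∃ (i : ℕ) (t : K), i < D.rank ∧ t ≠ 0 ∧ h = PresentedGroup.mk (D.steinbergRels K) (D.stH (D.simple i) t)} := by
  have hD' := hD
  simp only [List.mem_cons, List.not_mem_nil, or_false] at hD'
  rcases hD' with rfl | rfl | rfl | rfl | rfl | rfl | rfl
  · exact steinberg_ker_le hD rfl CoxeterMatrix.G₂ CoxG2.hm T21_G2 T38_G2 θ hθ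
  · exact steinberg_ker_le hD rfl (CoxeterMatrix.B 2) CoxB2.hm T21_B2 T38_B2 θ hθ
  · exact steinberg_ker_le hD rfl Cfsg.Lie.coxeterD4 CoxD4.hm T21_D4 T38_D4 θ hθ
  · exact steinberg_ker_le hD rfl CoxeterMatrix.F₄ CoxF4.hm T21_F4 T38_F4 θ hθ
  · exact steinberg_ker_le hD rfl CoxeterMatrix.E₆ CoxE6.hm T21_E6 T38_E6 θ hθ
  · exact steinberg_ker_le hD rfl CoxeterMatrix.E₇ CoxE7.hm T21_E7 T38_E7 θ hθ
  · exact steinberg_ker_le hD rfl CoxeterMatrix.E₈ CoxE8.hm T21_E8 T38_E8 θ hθ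

end Cfsg.Agent.S1097
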