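import Cfsg.Statements.S1104
import Cfsg.Agent.Helper7.ChevTwE6

set_option autoImplicit false
open Cfsg

namespace Cfsg.Agent.S1104

open Cfsg.Agent.Helper7.Chev in
/-- ²E₆(q) equals its derived subgroup. -/
theorem result {K : Type*} [Field K] [Fintype K] {q : ℕ} (hq : IsPrimePow q) (hK : Fintype.card K = q ^ 2) : commutator ↥(Cfsg.Lie.twistedE6 K q) = ⊤ := by
  obtain ⟨f, hf, hf2, e⟩ := twistedE6_eq hq hK
  rw [e]
  have h2 : 2 ≤ q := hq.two_le
  have hK4 : 4 ≤ Fintype.card K := by rw [hK]; nlinarith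
  exact twE6_perfect hK4 f hf2

end Cfsg.Agent.S1104
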