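import Cfsg.Statements.S1105
import Cfsg.Agent.Helper7.ChevTwE6

set_option autoImplicit false
open Cfsg

namespace Cfsg.Agent.S1105

open Cfsg.Agent.Helper7.Chev in
/-- The normal core of `B¹ = G¹ ∩ B` in ²E₆(q) is trivial. -/
theorem result {K : Type*} [Field K] [Fintype K] {q : ℕ} (hq : IsPrimePow q) (hK : Fintype.card K = q ^ 2) :
    ((Cfsg.Lie.chevE6.borelSubgroup K ⊓ Cfsg.Lie.twistedE6 K q).subgroupOf (Cfsg.Lie.twistedE6 K q)).normalCore = ⊥ := by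
  obtain ⟨f, hf, hf2, e⟩ := twistedE6_eq hq hK
  rw [e]
  exact tw_normalCore_eq_bot good2_E6 T0_E6 T3_E6 T4_E6 T5_E6 T6_E6 T7_E6 T8_E6 T9_E6
    T18_E6 T19_E6 T20_E6 f w0clsE6_mem W0cls_E6

end Cfsg.Agent.S1105
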