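import Cfsg.Statements.S1108
import Cfsg.Agent.Helper7.ChevTwD4

set_option autoImplicit false
open Cfsg

namespace Cfsg.Agent.S1108

open Cfsg.Agent.Helper7.Chev in
/-- ³D₄(q) equals its derived subgroup. -/
theorem result {K : Type*} [Field K] [Fintype K] {q : ℕ} (hq : IsPrimePow q) (hK : Fintype.card K = q ^ 3) : commutator ↥(Cfsg.Lie.twistedD4 K q) = ⊤ := by
  obtain ⟨f, hf, hf3, e⟩ := twistedD4_eq hq hK
  rw [e]
  have h2 : 2 ≤ q := hq.two_le
  have hK4 : 4 ≤ Fintype.card K := by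
    rw [hK]
    calc 4 ≤ 2 ^ 3 := by norm_num
      _ ≤ q ^ 3 := Nat.pow_le_pow_left h2 3
  exact twD4_perfect hK4 f hf3

end Cfsg.Agent.S1108
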