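import Cfsg.Statements.S1109
import Cfsg.Agent.Helper7.ChevTwD4

set_option autoImplicit false
open Cfsg

namespace Cfsg.Agent.S1109

open Cfsg.Agent.Helper7.Chev in
/-- The normal core of `B¹ = G¹ ∩ B` in ³D₄(q) is trivial. -/
theorem result {K : Type*} [Field K] [Fintype K] {q : ℕ} (hq : IsPrimePow q) (hK : Fintype.card K = q ^ 3) :
    ((Cfsg.Lie.chevD4.borelSubgroup K ⊓ Cfsg.Lie.twistedD4 K q).subgroupOf (Cfsg.Lie.twistedD4 K q)).normalCore = ⊥ := by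
  obtain ⟨f, hf, hf3, e⟩ := twistedD4_eq hq hK
  rw [e]
  exact tw_normalCore_eq_bot good2_D4 T0_D4 T3_D4 T4_D4 T5_D4 T6_D4 T7_D4 T8_D4 T9_D4
    T18_D4a T19_D4 T20_D4 f w0clsD4_mem W0cls_D4

end Cfsg.Agent.S1109
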