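import Mathlib
import Cfsg.Statements.S1118
import Cfsg.Agent.Helper7.RankOneSetup

set_option autoImplicit false
open Cfsg

namespace Cfsg.Agent.S1118

open Cfsg.Agent.Helper7.ROS MulAction

theorem normalizer_le {G Ω : Type*} [Group G] [MulAction G Ω] {a : Ω} {t : G} {Q : Subgroup G}
    (hS : Cfsg.IsRankOneSetup G Ω a t Q) (X : Set G) (hX : X ⊆ (Q : Set G))
    (hne : ∃ x ∈ X, x ≠ 1) : Subgroup.normalizer X ≤ MulAction.stabilizer G a := by
  intro g hg
  obtain ⟨x, hx, hx1⟩ := hne
  have h1 : g * x * g⁻¹ ∈ X := (hg x).mp hx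
  have h2 : g * x * g⁻¹ ≠ 1 := by
    intro e
    apply hx1
    have := congrArg (fun z => g⁻¹ * z * g) e
    simpa [mul_assoc] using this
  have h3 : (g * x * g⁻¹) • (g • a) = g • a := by
    rw [smul_smul, mul_assoc, mul_assoc, inv_mul_cancel, mul_one, mul_smul, Q_smul_a hS (hX hx)]
  exact mem_stabilizer_iff.mpr (eq_a_of_Q_smul hS (hX h1) h2 h3)

/-- In the rank-one set-up (`G` finite and doubly transitive on `Ω`, `t` an involution moving `a`, `Q` normal in `G_a` with `G_a = Q D`, `Q ⊓ D = 1` for the two-point stabiliser `D = G_a ⊓ G_{t • a}`, `|Q|` even, `|D|` odd), the normaliser of a subset of `Q` containing a non-identity element lies in `G_a`; consequently `N_G(Q) = N_G(G_a) = G_a`. -/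
theorem result {G Ω : Type*} [Group G] [Finite G] [MulAction G Ω] {a : Ω} {t : G} {Q : Subgroup G}
    (hS : Cfsg.IsRankOneSetup G Ω a t Q) :
    (∀ X : Set G, X ⊆ (Q : Set G) → (∃ x ∈ X, x ≠ 1) → Subgroup.normalizer X ≤ MulAction.stabilizer G a) ∧
      Subgroup.normalizer (Q : Set G) = MulAction.stabilizer G a ∧
      Subgroup.normalizer (MulAction.stabilizer G a : Set G) = MulAction.stabilizer G a := by
  refine ⟨fun X hX hne => normalizer_le hS X hX hne, ?_, ?_⟩
  · apply le_antisymm
    · exact normalizer_le hS Q (le_refl _) (exists_ne_one hS)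
    · intro g hg n
      constructor
      · intro hn; exact hS.conj_mem g hg n hn
      · intro hn
        have := conj_mem' hS hg hn
        have e : g⁻¹ * (g * n * g⁻¹) * g = n := by group
        rwa [e] at this
  · apply le_antisymm
    · intro g hg
      obtain ⟨x, hx, hx1⟩ := exists_ne_one hS
      have h1 : g * x * g⁻¹ ∈ (MulAction.stabilizer G a : Set G) := (hg x).mp (hS.le hx)
      have h2 : x • (g⁻¹ • a) = g⁻¹ • a := by
        have h3 : (g * x * g⁻¹) • a = a := mem_stabilizer_iff.mp h1
        have := congrArg (fun z => g⁻¹ • z) h3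
        simp only [smul_smul] at this
        rw [← mul_smul]
        convert this using 2
        group
      have h4 := eq_a_of_Q_smul hS hx hx1 h2
      rw [mem_stabilizer_iff]
      have := congrArg (fun z => g • z) h4
      simp only [smul_smul, mul_inv_cancel, one_smul] at this
      exact this.symm
    · exact Subgroup.le_normalizer

end Cfsg.Agent.S1118
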