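import Mathlib
import Cfsg.Statements.S1120
import Cfsg.Agent.Helper7.RankOneSetup2

set_option autoImplicit false
open Cfsg

namespace Cfsg.Agent.S1120

open Cfsg.Agent.Helper7.ROS MulAction

variable {G Ω : Type*} [Group G] [Finite G] [MulAction G Ω] {a : Ω} {t : G} {Q : Subgroup G}

/-- A normal subgroup of odd order fixes the common fixed point of a four-group. -/
theorem odd_normal_fixes (hS : IsRankOneSetup G Ω a t Q) {x y : G} (hx1 : x ≠ 1) (hy1 : y ≠ 1)
    (hxy : x ≠ y) (hx : x * x = 1) (hy : y * y = 1) (hc : x * y = y * x)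
    {M : Subgroup G} [hM : M.Normal] (hodd : (Nat.card M).Coprime 2) {p : Ω} (hp : x • p = p)
    {m : G} (hm : m ∈ M) : m • p = p := by
  by_contra hne
  have hyp : y • p = p := smul_eq_of_commute hS hx hx1 hp hc.symm
  -- `v = m y m⁻¹` fixes `m • p`
  have hv : (m * y * m⁻¹) * (m * y * m⁻¹) = 1 := by
    calc (m * y * m⁻¹) * (m * y * m⁻¹) = m * (y * y) * m⁻¹ := by group
      _ = 1 := by rw [hy]; group
  have hv1 : m * y * m⁻¹ ≠ 1 := by
    intro e
    apply hy1
    have := congrArg (fun z => m⁻¹ * z * m) e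
    simpa [mul_assoc] using this
  have hvp : (m * y * m⁻¹) • (m • p) = m • p := by
    rw [smul_smul, mul_assoc, mul_assoc, inv_mul_cancel, mul_one, mul_smul, hyp]
  have hoddord := odd_orderOf_mul hS hx hx1 hv hv1 hp hvp (Ne.symm hne)
  -- pass to the quotient
  have hmk : (QuotientGroup.mk' M) (x * (m * y * m⁻¹)) = (QuotientGroup.mk' M) (x * y) := by
    have h1 : (QuotientGroup.mk' M) m = 1 := (QuotientGroup.eq_one_iff m).mpr hm
    simp only [map_mul, map_inv, h1, one_mul, inv_one, mul_one]
  have hpow : ((QuotientGroup.mk' M) (x * y)) ^ orderOf (x * (m * y * m⁻¹)) = 1 := by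
    rw [← hmk, ← map_pow, pow_orderOf_eq_one, map_one]
  have hsq : ((QuotientGroup.mk' M) (x * y)) ^ 2 = 1 := by
    rw [← map_pow, pow_two]
    have : x * y * (x * y) = 1 := by
      calc x * y * (x * y) = x * (y * x) * y := by group
        _ = x * (x * y) * y := by rw [hc]
        _ = (x * x) * (y * y) := by group
        _ = 1 := by rw [hx, hy, one_mul]
    rw [this, map_one]
  have hone : (QuotientGroup.mk' M) (x * y) = 1 := by
    obtain ⟨k, hk⟩ := hoddord
    rw [hk, pow_succ, pow_mul, hsq, one_pow, one_mul] at hpow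
    exact hpow
  have hzM : x * y ∈ M := (QuotientGroup.eq_one_iff _).mp hone
  have hz1 : x * y ≠ 1 := by
    intro e
    apply hxy
    have : x = y⁻¹ := eq_inv_of_mul_eq_one_left e
    rw [this, inv_eq_of_mul_eq_one_left hy]
  have hzz : (x * y) ^ 2 = 1 := by
    rw [pow_two]
    calc x * y * (x * y) = x * (y * x) * y := by group
      _ = x * (x * y) * y := by rw [hc]
      _ = (x * x) * (y * y) := by group
      _ = 1 := by rw [hx, hy, one_mul]
  have hord : orderOf (x * y) = 2 := orderOf_eq_prime hzz hz1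
  have hdvd : orderOf (⟨x * y, hzM⟩ : M) ∣ Nat.card M := orderOf_dvd_natCard _
  rw [Subgroup.orderOf_mk, hord] at hdvd
  have := Nat.Coprime.eq_one_of_dvd hodd.symm hdvd
  omega

/-- In the rank-one set-up (`G` finite and doubly transitive on `Ω`, `t` an involution moving `a`, `Q` normal in `G_a` with `G_a = Q D`, `Q ⊓ D = 1` for the two-point stabiliser `D = G_a ⊓ G_{t • a}`, `|Q|` even, `|D|` odd), if `G` has 2-rank at least 2 then `O_{2'}(G)` equals the normal core of `G_a`. -/
theorem result {G Ω : Type*} [Group G] [Finite G] [MulAction G Ω] {a : Ω} {t : G} {Q : Subgroup G}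
    (hS : Cfsg.IsRankOneSetup G Ω a t Q)
    (h2 : ∃ x y : G, x ≠ 1 ∧ y ≠ 1 ∧ x ≠ y ∧ x * x = 1 ∧ y * y = 1 ∧ x * y = y * x) :
    Cfsg.pPrimeCore 2 G = (MulAction.stabilizer G a).normalCore := by
  obtain ⟨x, y, hx1, hy1, hxy, hx, hy, hc⟩ := h2
  have htrans := isPretransitive hS
  apply le_antisymm
  · apply sSup_le
    rintro M ⟨hMn, hMc⟩
    rw [Subgroup.normal_le_normalCore]
    obtain ⟨p, hp, _⟩ := existsUnique_fixed_of_involution hS hx hx1
    intro m hm
    obtain ⟨g, rfl⟩ := MulAction.exists_smul_eq G p a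
    have h1 : g⁻¹ * m * g ∈ M := by
      have := hMn.conj_mem m hm g⁻¹
      rwa [inv_inv] at this
    have h2 := odd_normal_fixes hS hx1 hy1 hxy hx hy hc hMc hp h1
    rw [mem_stabilizer_iff]
    calc m • g • p = g • (g⁻¹ * m * g) • p := by simp only [smul_smul]; congr 1; group
      _ = g • p := by rw [h2]
  · apply le_sSup
    refine ⟨inferInstance, ?_⟩
    have hle : (stabilizer G a).normalCore ≤ stabilizer G a ⊓ stabilizer G (t • a) := by
      refine le_inf (Subgroup.normalCore_le _) ?_
      intro n hn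
      have h1 : t⁻¹ * n * t ∈ (stabilizer G a).normalCore := by
        have := (Subgroup.normalCore_normal (stabilizer G a)).conj_mem n hn t⁻¹
        rwa [inv_inv] at this
      have h2 := Subgroup.normalCore_le _ h1
      rw [mem_stabilizer_iff] at h2 ⊢
      rw [mul_smul, mul_smul, inv_smul_eq_iff] at h2
      exact h2
    have hdvd := Subgroup.card_dvd_of_le hle
    have hodd : Odd (Nat.card ↥(stabilizer G a).normalCore) := hS.odd_card.of_dvd_nat hdvd
    exact Nat.Coprime.symm (Nat.coprime_two_left.mpr hodd)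

end Cfsg.Agent.S1120
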