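import Mathlib
import Cfsg.Statements.S1123
import Cfsg.Agent.Helper7.RankOneSetup2

set_option autoImplicit false
open Cfsg

namespace Cfsg.Agent.S1123

open Cfsg.Agent.Helper7.ROS MulAction

/-- In the rank-one set-up (`G` finite and doubly transitive on `Ω`, `t` an involution moving `a`, `Q` normal in `G_a` with `G_a = Q D`, `Q ⊓ D = 1` for the two-point stabiliser `D = G_a ⊓ G_{t • a}`, `|Q|` even, `|D|` odd), there is a unique pair `(s, r)` with `s` an involution of `G_a`, `r ∈ Q` and `t s t = r⁻¹ t r`. -/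
theorem result {G Ω : Type*} [Group G] [Finite G] [MulAction G Ω] {a : Ω} {t : G} {Q : Subgroup G}
    (hS : Cfsg.IsRankOneSetup G Ω a t Q) :
    ∃! p : G × G, p.1 ∈ Cfsg.involutionsIn (MulAction.stabilizer G a : Set G) ∧ p.2 ∈ Q ∧
      t * p.1 * t = p.2⁻¹ * t * p.2 := by
  obtain ⟨c₀, hc₀, huniq⟩ := existsUnique_fixed_of_involution hS hS.mul_self hS.ne_one
  have hc₀a : c₀ ≠ a := by
    rintro rfl
    exact hS.not_mem (mem_stabilizer_iff.mpr hc₀)
  obtain ⟨r, hr, hrb⟩ := exists_Q_smul_b hS hc₀a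
  have htt := hS.mul_self
  have key : ∀ r' : G, t * (t * r'⁻¹ * t * r' * t) * t = r'⁻¹ * t * r' := by
    intro r'
    calc t * (t * r'⁻¹ * t * r' * t) * t = (t * t) * r'⁻¹ * t * r' * (t * t) := by group
      _ = r'⁻¹ * t * r' := by rw [htt]; group
  have hconj : t * r⁻¹ * t * r * t = (t * r⁻¹) * t * (t * r⁻¹)⁻¹ := by
    rw [mul_inv_rev, inv_inv, t_inv hS]; group
  have hrc : r⁻¹ • c₀ = t • a := by rw [← hrb, smul_smul, inv_mul_cancel, one_smul]
  refine ⟨(t * r⁻¹ * t * r * t, r), ⟨⟨?_, ?_, ?_⟩, hr, key r⟩, ?_⟩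
  · change t * r⁻¹ * t * r * t ∈ stabilizer G a
    rw [mem_stabilizer_iff]
    have : (t * r⁻¹ * t * r * t) • a = t • r⁻¹ • t • r • t • a := by simp only [mul_smul]
    rw [this, hrb, hc₀, hrc, t_smul_t_smul hS]
  · intro e
    apply hS.ne_one
    rw [hconj] at e
    have := congrArg (fun z => (t * r⁻¹)⁻¹ * z * (t * r⁻¹)) e
    simpa [mul_assoc] using this
  · rw [hconj]
    calc (t * r⁻¹) * t * (t * r⁻¹)⁻¹ * ((t * r⁻¹) * t * (t * r⁻¹)⁻¹)
        = (t * r⁻¹) * (t * t) * (t * r⁻¹)⁻¹ := by group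
      _ = 1 := by rw [htt]; group
  · rintro ⟨s', r'⟩ ⟨⟨hs', hs'1, hs's'⟩, hr', he⟩
    change s' ∈ stabilizer G a at hs'
    change t * s' * t = r'⁻¹ * t * r' at he
    -- both sides are involutions; compare fixed points
    have h1 : (t * s' * t) • (t • a) = t • a := by
      rw [mul_smul, mul_smul, t_smul_t_smul hS, mem_stabilizer_iff.mp hs']
    have h2 : (r'⁻¹ * t * r') • (r'⁻¹ • c₀) = r'⁻¹ • c₀ := by
      rw [smul_smul, mul_assoc, mul_assoc, mul_inv_cancel, mul_one, mul_smul, hc₀]
    have h3 : (t * s' * t) * (t * s' * t) = 1 := by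
      calc (t * s' * t) * (t * s' * t) = t * s' * (t * t) * s' * t := by group
        _ = t * (s' * s') * t := by rw [htt]; group
        _ = 1 := by rw [hs's', mul_one, htt]
    have h4 : t * s' * t ≠ 1 := by
      intro e
      apply hs'1
      have := congrArg (fun z => t * z * t) e
      simp only [mul_one] at this
      rw [htt] at this
      rw [← this]
      calc s' = (t * t) * s' * (t * t) := by rw [htt]; group
        _ = t * (t * s' * t) * t := by group
    obtain ⟨c', _, huniq'⟩ := existsUnique_fixed_of_involution hS h3 h4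
    rw [← he] at h2
    have h5 : r'⁻¹ • c₀ = t • a := (huniq' _ h2).trans (huniq' _ h1).symm
    have h6 : r' • t • a = c₀ := by
      rw [← h5, smul_smul, mul_inv_cancel, one_smul]
    have hrr : r' = r := Q_eq_of_smul_eq hS hr' hr (b_ne_a hS) (by rw [h6, hrb])
    subst hrr
    have hs : s' = t * r'⁻¹ * t * r' * t := by
      have := congrArg (fun z => t * z * t) he
      beta_reduce at this
      calc s' = (t * t) * s' * (t * t) := by rw [htt]; group
        _ = t * (t * s' * t) * t := by group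
        _ = t * (r'⁻¹ * t * r') * t := this
        _ = t * r'⁻¹ * t * r' * t := by group
    rw [hs]

end Cfsg.Agent.S1123
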