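import Mathlib
import Cfsg.Statements.S1124

set_option autoImplicit false
open Cfsg

namespace Cfsg.Agent.S1124

open scoped Pointwise

variable {M : Type*} [Group M]

/-- In a finite group of odd order `2m + 1`, `w ↦ w ^ (m + 1)` inverts squaring. -/
theorem sq_pow {X : Subgroup M} [Finite X] {m : ℕ} (hm : Nat.card X = 2 * m + 1) {z : M}
    (hz : z ∈ X) : (z * z) ^ (m + 1) = z := by
  have h1 : z ^ (2 * m + 1) = 1 := by
    have := pow_card_eq_one' (G := X) (x := ⟨z, hz⟩)
    rw [hm] at this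
    exact congrArg Subtype.val this
  calc (z * z) ^ (m + 1) = z ^ (2 * m + 1) * z := by
        rw [← pow_two, ← pow_mul, ← pow_succ]; congr 1
    _ = z := by rw [h1, one_mul]

theorem pow_sq {X : Subgroup M} [Finite X] {m : ℕ} (hm : Nat.card X = 2 * m + 1) {w : M}
    (hw : w ∈ X) : w ^ (m + 1) * w ^ (m + 1) = w := by
  have h1 : w ^ (2 * m + 1) = 1 := by
    have := pow_card_eq_one' (G := X) (x := ⟨w, hw⟩)
    rw [hm] at this
    exact congrArg Subtype.val this
  calc w ^ (m + 1) * w ^ (m + 1) = w ^ (2 * m + 1) * w := by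
        rw [← pow_add, ← pow_succ]; congr 1; omega
    _ = w := by rw [h1, one_mul]

theorem mem_cent {t y : M} : y ∈ Subgroup.centralizer ({t} : Set M) ↔ t * y * t⁻¹ = y := by
  rw [Subgroup.mem_centralizer_iff]
  constructor
  · intro h
    rw [h t rfl]; group
  · intro h g hg
    rw [Set.mem_singleton_iff] at hg
    rw [hg]
    have := congrArg (fun z => z * t) h
    simpa [mul_assoc] using this

/-- Let `t` be an element of order 2 of a finite group normalising a subgroup `X` of odd order, `Y = C_X(t)` and `Z` the set of elements of `X` inverted by `t`. Then `(y, z) ↦ y z` is a bijection `Y × Z → X`, so `|X| = |Y| |Z|`, and the subgroup generated by `Z` is normal in `X`. -/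
theorem result {M : Type*} [Group M] [Finite M]
    (t : M) (ht : orderOf t = 2) (X : Subgroup M) (hodd : Odd (Nat.card X))
    (hnorm : ∀ x ∈ X, t * x * t⁻¹ ∈ X) :
    (∀ x ∈ X, ∃! p : M × M, p.1 ∈ X ⊓ Subgroup.centralizer {t} ∧ p.2 ∈ Cfsg.invertedBy X t ∧ x = p.1 * p.2) ∧
      Nat.card X = Nat.card ↥(X ⊓ Subgroup.centralizer {t}) * Nat.card (Cfsg.invertedBy X t) ∧
      ∀ x ∈ X, MulAut.conj x • Subgroup.closure (Cfsg.invertedBy X t) = Subgroup.closure (Cfsg.invertedBy X t) := by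
  obtain ⟨m, hm⟩ := hodd
  have htt : t * t = 1 := by
    have := pow_orderOf_eq_one t
    rwa [ht, pow_two] at this
  -- the automorphism `τ`
  set τ : M → M := fun x => t * x * t⁻¹ with hτ
  have τmul : ∀ x y, τ (x * y) = τ x * τ y := fun x y => by simp only [hτ]; group
  have τinv : ∀ x, τ x⁻¹ = (τ x)⁻¹ := fun x => by simp only [hτ]; group
  have τpow : ∀ x (k : ℕ), τ (x ^ k) = τ x ^ k := by
    intro x k
    induction k with
    | zero => simp [hτ]
    | succ k ih => rw [pow_succ, τmul, ih, pow_succ]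
  have ττ : ∀ x, τ (τ x) = x := by
    intro x
    simp only [hτ]
    have e : t⁻¹ = t := inv_eq_of_mul_eq_one_left htt
    rw [e]
    calc t * (t * x * t) * t = (t * t) * x * (t * t) := by group
      _ = x := by rw [htt]; group
  have hZmem : ∀ z, z ∈ invertedBy X t ↔ z ∈ X ∧ τ z = z⁻¹ := fun z => Iff.rfl
  -- existence and uniqueness of the decomposition
  have hdecomp : ∀ x ∈ X, ∃! p : M × M, p.1 ∈ X ⊓ Subgroup.centralizer {t} ∧
      p.2 ∈ Cfsg.invertedBy X t ∧ x = p.1 * p.2 := by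
    intro x hx
    set w := (τ x)⁻¹ * x with hw
    have hwX : w ∈ X := X.mul_mem (X.inv_mem (hnorm x hx)) hx
    have hτw : τ w = w⁻¹ := by
      rw [hw, τmul, τinv, ττ]; group
    set z := w ^ (m + 1) with hz
    have hzX : z ∈ X := X.pow_mem hwX _
    have hτz : τ z = z⁻¹ := by rw [hz, τpow, hτw, inv_pow]
    have hzz : z * z = w := pow_sq hm hwX
    have hyτ : τ (x * z⁻¹) = x * z⁻¹ := by
      rw [τmul, τinv, hτz, inv_inv]
      -- τ x * z = x * z⁻¹  ⟸  z * z = (τ x)⁻¹ * x
      have : τ x * (z * z) = x := by rw [hzz, hw]; group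
      calc τ x * z = τ x * (z * z) * z⁻¹ := by group
        _ = x * z⁻¹ := by rw [this]
    refine ⟨(x * z⁻¹, z), ⟨⟨X.mul_mem hx (X.inv_mem hzX), mem_cent.mpr hyτ⟩, ⟨hzX, hτz⟩, by
      change x = x * z⁻¹ * z; group⟩, ?_⟩
    rintro ⟨y', z'⟩ ⟨⟨hy'X, hy'c⟩, ⟨hz'X, hτz'⟩, hx'⟩
    change x = y' * z' at hx'
    have hy'τ : τ y' = y' := mem_cent.mp hy'c
    have hτz'' : τ z' = z'⁻¹ := hτz'
    have h1 : z' * z' = w := by
      rw [hw, hx', τmul, hy'τ, hτz'']; group
    have hz'X' : z' ∈ X := hz'X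
    have hzz' : z' = z := by
      rw [← sq_pow hm hz'X', h1]
    have hyy' : y' = x * z⁻¹ := by rw [hx', hzz']; group
    rw [hyy', hzz']
  refine ⟨hdecomp, ?_, ?_⟩
  · -- cardinalities
    rw [← Nat.card_prod]
    symm
    apply Nat.card_congr
    refine Equiv.ofBijective (fun p => ⟨(p.1 : M) * (p.2 : M), X.mul_mem p.1.2.1 p.2.2.1⟩) ⟨?_, ?_⟩
    · rintro ⟨⟨y, hy⟩, ⟨z, hz⟩⟩ ⟨⟨y', hy'⟩, ⟨z', hz'⟩⟩ h
      have h' : y * z = y' * z' := congrArg Subtype.val h
      obtain ⟨p, _, huniq⟩ := hdecomp (y * z) (X.mul_mem hy.1 hz.1)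
      have h1 := huniq (y, z) ⟨hy, hz, rfl⟩
      have h2 := huniq (y', z') ⟨hy', hz', h'⟩
      have h3 : (y, z) = (y', z') := h1.trans h2.symm
      obtain ⟨rfl, rfl⟩ := Prod.mk.inj h3
      rfl
    · rintro ⟨x, hx⟩
      obtain ⟨⟨y, z⟩, ⟨hy, hz, hxyz⟩, _⟩ := hdecomp x hx
      exact ⟨⟨⟨y, hy⟩, ⟨z, hz⟩⟩, Subtype.ext hxyz.symm⟩
  · -- normality of the closure
    have hle : ∀ x ∈ X, MulAut.conj x • Subgroup.closure (Cfsg.invertedBy X t) ≤
        Subgroup.closure (Cfsg.invertedBy X t) := by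
      intro x hx
      rw [Subgroup.smul_closure, Subgroup.closure_le]
      rintro _ ⟨z', hz', rfl⟩
      change x * z' * x⁻¹ ∈ Subgroup.closure (Cfsg.invertedBy X t)
      obtain ⟨⟨y, z⟩, ⟨hy, hz, hxyz⟩, _⟩ := hdecomp x hx
      change x = y * z at hxyz
      have hyτ : τ y = y := mem_cent.mp hy.2
      have h1 : y * z' * y⁻¹ ∈ Cfsg.invertedBy X t := by
        refine ⟨X.mul_mem (X.mul_mem hy.1 hz'.1) (X.inv_mem hy.1), ?_⟩
        change τ (y * z' * y⁻¹) = (y * z' * y⁻¹)⁻¹
        have hz'τ : τ z' = z'⁻¹ := hz'.2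
        rw [τmul, τmul, τinv, hyτ, hz'τ]; group
      have h2 : x * z' * x⁻¹ = y * (z * z' * z⁻¹) * y⁻¹ := by rw [hxyz]; group
      -- conjugate by z inside the closure, then by y preserves the closure
      have h3 : z * z' * z⁻¹ ∈ Subgroup.closure (Cfsg.invertedBy X t) :=
        Subgroup.mul_mem _ (Subgroup.mul_mem _ (Subgroup.subset_closure hz)
          (Subgroup.subset_closure hz')) (Subgroup.inv_mem _ (Subgroup.subset_closure hz))
      rw [h2]
      -- conjugation by y maps generators to generators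
      have h4 : ∀ g ∈ Subgroup.closure (Cfsg.invertedBy X t),
          y * g * y⁻¹ ∈ Subgroup.closure (Cfsg.invertedBy X t) := by
        intro g hg
        induction hg using Subgroup.closure_induction with
        | mem g hg =>
          apply Subgroup.subset_closure
          refine ⟨X.mul_mem (X.mul_mem hy.1 hg.1) (X.inv_mem hy.1), ?_⟩
          change τ (y * g * y⁻¹) = (y * g * y⁻¹)⁻¹
          have hgτ : τ g = g⁻¹ := hg.2
          rw [τmul, τmul, τinv, hyτ, hgτ]; group
        | one => simp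
        | mul g₁ g₂ _ _ h₁ h₂ =>
          have : y * (g₁ * g₂) * y⁻¹ = (y * g₁ * y⁻¹) * (y * g₂ * y⁻¹) := by group
          rw [this]; exact Subgroup.mul_mem _ h₁ h₂
        | inv g _ h =>
          have : y * g⁻¹ * y⁻¹ = (y * g * y⁻¹)⁻¹ := by group
          rw [this]; exact Subgroup.inv_mem _ h
      exact h4 _ h3
    intro x hx
    apply le_antisymm (hle x hx)
    have h1 := hle x⁻¹ (X.inv_mem hx)
    have h2 := (Subgroup.pointwise_smul_le_pointwise_smul_iff (a := MulAut.conj x)).mpr h1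
    rw [smul_smul, ← map_mul, mul_inv_cancel, map_one, one_smul] at h2
    exact h2

end Cfsg.Agent.S1124
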