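import Mathlib
import Cfsg.Statements.S1125
import Cfsg.Agent.Helper7.RankOneSetup3

set_option autoImplicit false
open Cfsg

namespace Cfsg.Agent.S1125

/-- In the rank-one set-up (`G` finite and doubly transitive on `Ω`, `t` an involution moving `a`, `Q` normal in `G_a` with `G_a = Q D`, `Q ⊓ D = 1` for the two-point stabiliser `D = G_a ⊓ G_{t • a}`, `|Q|` even, `|D|` odd), let `X ⊆ D` fix at least three points of `Ω`. Then `C_G(X)` is doubly transitive on the fixed-point set of `X`, `|C_Q(X)|` is even, and `C_{G_a}(X) = C_Q(X) C_D(X)`. -/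
theorem result {G Ω : Type*} [Group G] [Finite G] [MulAction G Ω] {a : Ω} {t : G} {Q : Subgroup G}
    (hS : Cfsg.IsRankOneSetup G Ω a t Q)
    (X : Set G) (hX : X ⊆ ((MulAction.stabilizer G a ⊓ MulAction.stabilizer G (t • a)) : Set G))
    (h3 : ∃ b c d : Ω, b ≠ c ∧ b ≠ d ∧ c ≠ d ∧ ∀ x ∈ X, x • b = b ∧ x • c = c ∧ x • d = d) :
    (∀ b₁ b₂ c₁ c₂ : Ω, (∀ x ∈ X, x • b₁ = b₁ ∧ x • b₂ = b₂ ∧ x • c₁ = c₁ ∧ x • c₂ = c₂) →
        b₁ ≠ b₂ → c₁ ≠ c₂ → ∃ g ∈ Subgroup.centralizer X, g • b₁ = c₁ ∧ g • b₂ = c₂) ∧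
      Even (Nat.card ↥(Subgroup.centralizer X ⊓ Q)) ∧
      (Subgroup.centralizer X ⊓ Q) ⊔ (Subgroup.centralizer X ⊓ (MulAction.stabilizer G a ⊓ MulAction.stabilizer G (t • a))) = Subgroup.centralizer X ⊓ MulAction.stabilizer G a := by
  have hX' : X ⊆ ((MulAction.stabilizer G a ⊓ MulAction.stabilizer G (t • a) : Subgroup G) : Set G) := by
    intro x hx
    exact hX hx
  obtain ⟨e, hea, heb, hXe⟩ := Cfsg.Agent.Helper7.ROS.exists_third_fixed h3 a (t • a)
  have hXa : ∀ x ∈ X, x • a = a := fun x hx => MulAction.mem_stabilizer_iff.mp (hX' hx).1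
  have hXb : ∀ x ∈ X, x • t • a = t • a := fun x hx => MulAction.mem_stabilizer_iff.mp (hX' hx).2
  refine ⟨?_, ?_, ?_⟩
  · intro b₁ b₂ c₁ c₂ hfix hb hc
    obtain ⟨g₁, hg₁, e1, e2⟩ := Cfsg.Agent.Helper7.ROS.exists_cent_smul_pair hS hX' hea heb hXe hb
      (fun x hx => (hfix x hx).1) (fun x hx => (hfix x hx).2.1)
    obtain ⟨g₂, hg₂, e3, e4⟩ := Cfsg.Agent.Helper7.ROS.exists_cent_smul_pair hS hX' hea heb hXe hc
      (fun x hx => (hfix x hx).2.2.1) (fun x hx => (hfix x hx).2.2.2)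
    refine ⟨g₂⁻¹ * g₁, Subgroup.mul_mem _ (Subgroup.inv_mem _ hg₂) hg₁, ?_, ?_⟩
    · rw [mul_smul, e1, inv_smul_eq_iff, e3]
    · rw [mul_smul, e2, inv_smul_eq_iff, e4]
  · obtain ⟨u, huC, hu, h1, h2⟩ := Cfsg.Agent.Helper7.ROS.exists_cent_involution hS hX' h3
    have hu1 : u ≠ 1 := by
      intro h
      rw [h, one_smul] at h1
      exact Cfsg.Agent.Helper7.ROS.b_ne_a hS h1.symm
    obtain ⟨p, hp, hpu⟩ := Cfsg.Agent.Helper7.ROS.existsUnique_fixed_of_involution hS hu hu1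
    have hXp : ∀ x ∈ X, x • p = p := by
      intro x hx
      apply hpu
      rw [Subgroup.mem_centralizer_iff] at huC
      rw [smul_smul, ← huC x hx, mul_smul, hp]
    obtain ⟨g, hg, e1⟩ := Cfsg.Agent.Helper7.ROS.exists_cent_smul_eq_a hS hX' hea heb hXe hXp
    have hsC : g * u * g⁻¹ ∈ Subgroup.centralizer X :=
      Subgroup.mul_mem _ (Subgroup.mul_mem _ hg huC) (Subgroup.inv_mem _ hg)
    have hs2 : (g * u * g⁻¹) * (g * u * g⁻¹) = 1 := by
      calc (g * u * g⁻¹) * (g * u * g⁻¹) = g * (u * u) * g⁻¹ := by group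
        _ = 1 := by rw [hu]; group
    have hs1 : g * u * g⁻¹ ≠ 1 := by
      intro h
      apply hu1
      have := congrArg (fun z => g⁻¹ * z * g) h
      simpa [mul_assoc] using this
    have hsa : g * u * g⁻¹ ∈ MulAction.stabilizer G a := by
      rw [MulAction.mem_stabilizer_iff, mul_smul, mul_smul, ← e1, inv_smul_smul, hp]
    have hsQ : g * u * g⁻¹ ∈ Q := Cfsg.Agent.Helper7.ROS.mem_Q_of_sq_eq_one hS hsa hs2
    have hmem : g * u * g⁻¹ ∈ Subgroup.centralizer X ⊓ Q := ⟨hsC, hsQ⟩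
    have hord : orderOf (g * u * g⁻¹) = 2 := orderOf_eq_prime (by rw [pow_two]; exact hs2) hs1
    have hdvd : orderOf (⟨g * u * g⁻¹, hmem⟩ : ↥(Subgroup.centralizer X ⊓ Q)) ∣
        Nat.card ↥(Subgroup.centralizer X ⊓ Q) := orderOf_dvd_natCard _
    rw [Subgroup.orderOf_mk, hord] at hdvd
    exact even_iff_two_dvd.mpr hdvd
  · apply le_antisymm
    · apply sup_le
      · exact inf_le_inf_left _ hS.le
      · exact inf_le_inf_left _ inf_le_left
    · intro g hg
      have hgC : g ∈ Subgroup.centralizer X := hg.1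
      have hga : g • a = a := MulAction.mem_stabilizer_iff.mp hg.2
      have hgb : g • t • a ≠ a := by
        intro h
        exact Cfsg.Agent.Helper7.ROS.b_ne_a hS (MulAction.injective g (h.trans hga.symm))
      obtain ⟨q, hq, hqC, e1⟩ := Cfsg.Agent.Helper7.ROS.exists_cent_Q_smul hS hX' hgb
        (Cfsg.Agent.Helper7.ROS.cent_smul_fixed hgC hXb)
      have h1 : q ∈ Subgroup.centralizer X ⊓ Q := ⟨hqC, hq⟩
      have h2 : q⁻¹ * g ∈ Subgroup.centralizer X ⊓
          (MulAction.stabilizer G a ⊓ MulAction.stabilizer G (t • a)) := by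
        refine ⟨Subgroup.mul_mem _ (Subgroup.inv_mem _ hqC) hgC, ?_, ?_⟩
        · change q⁻¹ * g ∈ MulAction.stabilizer G a
          rw [MulAction.mem_stabilizer_iff, mul_smul, hga, inv_smul_eq_iff,
            Cfsg.Agent.Helper7.ROS.Q_smul_a hS hq]
        · change q⁻¹ * g ∈ MulAction.stabilizer G (t • a)
          rw [MulAction.mem_stabilizer_iff, mul_smul, inv_smul_eq_iff, e1]
      have : g = q * (q⁻¹ * g) := by group
      rw [this]
      exact Subgroup.mul_mem_sup h1 h2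

end Cfsg.Agent.S1125
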