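import Mathlib
import Cfsg.Statements.S1127
import Cfsg.Agent.Helper7.RankOneSetup2
import Cfsg.Agent.S1122
import Cfsg.Agent.S1123

set_option autoImplicit false
open Cfsg

namespace Cfsg.Agent.S1127

open Cfsg.Agent.Helper7.ROS MulAction Cfsg.Agent.S1122

variable {G Ω : Type*} [Group G] [MulAction G Ω] {a : Ω} {t : G} {Q : Subgroup G}

/-- `t` normalises `D`. -/
theorem tconj_mem_D (hS : IsRankOneSetup G Ω a t Q) {d : G}
    (hd : d ∈ stabilizer G a ⊓ stabilizer G (t • a)) :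
    t * d * t ∈ stabilizer G a ⊓ stabilizer G (t • a) := by
  have h1 : d • a = a := mem_stabilizer_iff.mp hd.1
  have h2 : d • (t • a) = t • a := mem_stabilizer_iff.mp hd.2
  constructor
  · change t * d * t ∈ stabilizer G a
    rw [mem_stabilizer_iff, mul_smul, mul_smul, h2, t_smul_t_smul hS]
  · change t * d * t ∈ stabilizer G (t • a)
    rw [mem_stabilizer_iff, mul_smul, mul_smul, t_smul_t_smul hS, h1]

/-- Conjugating the relation by an element of `D` commuting with `t`. -/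
theorem rel_conj_of_comm (hS : IsRankOneSetup G Ω a t Q) {d k s : G}
    (hd : d ∈ stabilizer G a ⊓ stabilizer G (t • a)) (hdt : t * d = d * t)
    (h : Rel t Q k s) : Rel t Q (d * k * d⁻¹) (d * s * d⁻¹) := by
  obtain ⟨g, hg, e⟩ := h
  refine ⟨d * g * d⁻¹, hS.conj_mem d hd.1 g hg, ?_⟩
  have hdt' : d⁻¹ * t = t * d⁻¹ := by
    have := congrArg (fun z => d⁻¹ * z * d⁻¹) hdt
    beta_reduce at this
    have e1 : d⁻¹ * (t * d) * d⁻¹ = d⁻¹ * t := by group
    have e2 : d⁻¹ * (d * t) * d⁻¹ = t * d⁻¹ := by group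
    rw [e1, e2] at this
    exact this
  calc t * (d * s * d⁻¹) * t = (t * d) * s * (d⁻¹ * t) := by group
    _ = d * (t * s * t) * d⁻¹ := by rw [hdt, hdt']; group
    _ = d * (g * (t * k) * g⁻¹) * d⁻¹ := by rw [e]
    _ = d * g * d⁻¹ * (d * t * k * d⁻¹) * (d * g * d⁻¹)⁻¹ := by group
    _ = d * g * d⁻¹ * (t * (d * k * d⁻¹)) * (d * g * d⁻¹)⁻¹ := by
        rw [← hdt]; group

/-- Conjugating the relation by an element of `K`. -/
theorem rel_conj_of_inverted (hS : IsRankOneSetup G Ω a t Q) {κ k s : G}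
    (hκ : κ ∈ invertedBy (stabilizer G a ⊓ stabilizer G (t • a)) t)
    (h : Rel t Q k s) : Rel t Q (κ⁻¹ * k * κ⁻¹) (κ⁻¹ * s * κ) := by
  obtain ⟨g, hg, e⟩ := h
  obtain ⟨hκD, hκt⟩ := hκ
  rw [t_inv hS] at hκt
  -- t κ = κ⁻¹ t and κ t = t κ⁻¹
  have h1 : t * κ = κ⁻¹ * t := by
    have := congrArg (fun z => z * t) hκt
    simp only [mul_assoc, hS.mul_self, mul_one] at this
    exact this
  have h2 : κ * t = t * κ⁻¹ := by
    have := congrArg (fun z => κ * z * κ⁻¹) h1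
    beta_reduce at this
    have e1 : κ * (t * κ) * κ⁻¹ = κ * t := by group
    have e2 : κ * (κ⁻¹ * t) * κ⁻¹ = t * κ⁻¹ := by group
    rw [e1, e2] at this
    exact this
  refine ⟨κ * g * κ⁻¹, hS.conj_mem κ hκD.1 g hg, ?_⟩
  calc t * (κ⁻¹ * s * κ) * t = (t * κ⁻¹) * s * (κ * t) := by group
    _ = (κ * t) * s * (t * κ⁻¹) := by rw [h2]
    _ = κ * (t * s * t) * κ⁻¹ := by group
    _ = κ * (g * (t * k) * g⁻¹) * κ⁻¹ := by rw [e]
    _ = κ * g * κ⁻¹ * ((κ * t) * k * κ⁻¹) * (κ * g * κ⁻¹)⁻¹ := by group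
    _ = κ * g * κ⁻¹ * (t * (κ⁻¹ * k * κ⁻¹)) * (κ * g * κ⁻¹)⁻¹ := by rw [h2]; group

theorem one_mem_inverted (hS : IsRankOneSetup G Ω a t Q) :
    (1 : G) ∈ invertedBy (stabilizer G a ⊓ stabilizer G (t • a)) t :=
  ⟨Subgroup.one_mem _, by simp⟩

theorem inv_mem_inverted {D : Subgroup G} {x : G} (hx : x ∈ invertedBy D t) :
    x⁻¹ ∈ invertedBy D t := by
  refine ⟨D.inv_mem hx.1, ?_⟩
  have h := hx.2
  have : t * x⁻¹ * t⁻¹ = (t * x * t⁻¹)⁻¹ := by group
  rw [this, h]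

theorem mul_self_mem_inverted {D : Subgroup G} {x : G} (hx : x ∈ invertedBy D t) :
    x * x ∈ invertedBy D t := by
  refine ⟨D.mul_mem hx.1 hx.1, ?_⟩
  have h := hx.2
  have : t * (x * x) * t⁻¹ = (t * x * t⁻¹) * (t * x * t⁻¹) := by group
  rw [this, h, mul_inv_rev]

theorem conj_mem_involutions {s d : G} (hs : s ∈ involutionsIn (stabilizer G a : Set G))
    (hd : d ∈ stabilizer G a) : d * s * d⁻¹ ∈ involutionsIn (stabilizer G a : Set G) := by
  obtain ⟨hsa, hs1, hss⟩ := hs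
  exact ⟨Subgroup.mul_mem _ (Subgroup.mul_mem _ hd hsa) (Subgroup.inv_mem _ hd),
    conj_ne_one hs1 d, conj_sq hss d⟩

variable [Finite G]

theorem cent_eq (hS : IsRankOneSetup G Ω a t Q) {s r : G}
    (hs : s ∈ involutionsIn (stabilizer G a : Set G)) (hr : r ∈ Q)
    (e : t * s * t = r⁻¹ * t * r) :
    (stabilizer G a ⊓ stabilizer G (t • a)) ⊓ Subgroup.centralizer {t} =
      (stabilizer G a ⊓ stabilizer G (t • a)) ⊓ Subgroup.centralizer {s} := by
  have hrel : Rel t Q 1 s := ⟨r⁻¹, Q.inv_mem hr, by rw [mul_one, inv_inv]; exact e⟩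
  have htinv := t_inv hS
  ext d
  simp only [Subgroup.mem_inf, Subgroup.mem_centralizer_iff, Set.mem_singleton_iff, forall_eq]
  constructor
  · rintro ⟨hd, hdt⟩
    refine ⟨hd, ?_⟩
    have h1 := rel_conj_of_comm hS hd hdt hrel
    rw [mul_one, mul_inv_cancel] at h1
    have h2 := rel_unique_right hS (one_mem_inverted hS) (conj_mem_involutions hs hd.1) hs h1 hrel
    have := congrArg (fun z => z * d) h2
    simp only [mul_assoc, inv_mul_cancel, mul_one] at this
    exact this.symm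
  · rintro ⟨hd, hds⟩
    refine ⟨hd, ?_⟩
    obtain ⟨k₀, hk₀⟩ : ∃ k, k = t * d * t * d⁻¹ := ⟨_, rfl⟩
    have hk₀K : k₀ ∈ invertedBy (stabilizer G a ⊓ stabilizer G (t • a)) t := by
      rw [hk₀]
      refine ⟨Subgroup.mul_mem _ (tconj_mem_D hS hd) (Subgroup.inv_mem _ hd), ?_⟩
      rw [htinv]
      have e1 : (t * d * t * d⁻¹)⁻¹ = d * t⁻¹ * d⁻¹ * t⁻¹ := by group
      rw [e1, htinv]
      calc t * (t * d * t * d⁻¹) * t = (t * t) * d * t * d⁻¹ * t := by group
        _ = d * t * d⁻¹ * t := by rw [hS.mul_self, one_mul]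
    have htk₀ : t * k₀ = d * t * d⁻¹ := by
      rw [hk₀]
      calc t * (t * d * t * d⁻¹) = (t * t) * d * t * d⁻¹ := by group
        _ = d * t * d⁻¹ := by rw [hS.mul_self, one_mul]
    have hds' : d⁻¹ * s * d = s := by
      rw [mul_assoc, hds, ← mul_assoc, inv_mul_cancel, one_mul]
    have hrel1 : Rel t Q k₀ (k₀ * s * k₀⁻¹) := by
      refine ⟨d * r⁻¹ * d⁻¹, hS.conj_mem d hd.1 _ (Q.inv_mem hr), ?_⟩
      have e1 : t * (k₀ * s * k₀⁻¹) * t = (t * k₀) * s * (t * k₀)⁻¹ := by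
        have e0 : (t * k₀)⁻¹ = k₀⁻¹ * t := by rw [mul_inv_rev, htinv]
        rw [e0]; group
      rw [e1, htk₀]
      calc d * t * d⁻¹ * s * (d * t * d⁻¹)⁻¹ = d * t * (d⁻¹ * s * d) * t⁻¹ * d⁻¹ := by group
        _ = d * (t * s * t) * d⁻¹ := by rw [hds', htinv]; group
        _ = d * (r⁻¹ * t * r) * d⁻¹ := by rw [e]
        _ = d * r⁻¹ * d⁻¹ * (d * t * d⁻¹) * (d * r⁻¹ * d⁻¹)⁻¹ := by group
    have hrel2 : Rel t Q (k₀ * k₀) (k₀ * s * k₀⁻¹) := by
      have := rel_conj_of_inverted hS (inv_mem_inverted hk₀K) hrel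
      rw [inv_inv, mul_one] at this
      exact this
    have h3 := rel_unique_left hS hk₀K (mul_self_mem_inverted hk₀K) hrel1 hrel2
    have hk₀1 : k₀ = 1 := by
      have := congrArg (fun z => k₀⁻¹ * z) h3
      simp only [inv_mul_cancel, inv_mul_cancel_left] at this
      exact this.symm
    -- t d t d⁻¹ = 1
    rw [hk₀] at hk₀1
    have h4 : t * d * t = d := by
      have := congrArg (fun z => z * d) hk₀1
      simpa [mul_assoc] using this
    calc t * d = t * d * (t * t) := by rw [hS.mul_self, mul_one]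
      _ = (t * d * t) * t := by group
      _ = d * t := by rw [h4]

/-- In the rank-one set-up (`G` finite and doubly transitive on `Ω`, `t` an involution moving `a`, `Q` normal in `G_a` with `G_a = Q D`, `Q ⊓ D = 1` for the two-point stabiliser `D = G_a ⊓ G_{t • a}`, `|Q|` even, `|D|` odd): if `s` is an involution of `G_a` and `r ∈ Q` satisfy `t s t = r⁻¹ t r`, then `C_D(t) = C_D(s)`; moreover `C_D(t) ⊓ C_D(K) = C_D(I ∩ G_a)`, where `K` is the set of elements of `D` inverted by `t` and `I ∩ G_a` the set of involutions of `G_a`. -/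
theorem result {G Ω : Type*} [Group G] [Finite G] [MulAction G Ω] {a : Ω} {t : G} {Q : Subgroup G}
    (hS : Cfsg.IsRankOneSetup G Ω a t Q) :
    (∀ s r : G, s ∈ Cfsg.involutionsIn (MulAction.stabilizer G a : Set G) → r ∈ Q → t * s * t = r⁻¹ * t * r →
        (MulAction.stabilizer G a ⊓ MulAction.stabilizer G (t • a)) ⊓ Subgroup.centralizer {t} = (MulAction.stabilizer G a ⊓ MulAction.stabilizer G (t • a)) ⊓ Subgroup.centralizer {s}) ∧
      (MulAction.stabilizer G a ⊓ MulAction.stabilizer G (t • a)) ⊓ Subgroup.centralizer {t} ⊓ Subgroup.centralizer (Cfsg.invertedBy (MulAction.stabilizer G a ⊓ MulAction.stabilizer G (t • a)) t) =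
        (MulAction.stabilizer G a ⊓ MulAction.stabilizer G (t • a)) ⊓ Subgroup.centralizer (Cfsg.involutionsIn (MulAction.stabilizer G a : Set G)) := by
  refine ⟨fun s r hs hr e => cent_eq hS hs hr e, ?_⟩
  obtain ⟨⟨s₀, r₀⟩, ⟨hs₀, hr₀, e₀⟩, _⟩ := Cfsg.Agent.S1123.result hS
  change s₀ ∈ involutionsIn (stabilizer G a : Set G) at hs₀
  change r₀ ∈ Q at hr₀
  change t * s₀ * t = r₀⁻¹ * t * r₀ at e₀
  have hcent := cent_eq hS hs₀ hr₀ e₀
  ext d
  simp only [Subgroup.mem_inf (p := _ ⊓ Subgroup.centralizer {t}),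
    Subgroup.mem_inf (p' := Subgroup.centralizer (involutionsIn (stabilizer G a : Set G)))]
  constructor
  · rintro ⟨hdt, hdK⟩
    have hd : d ∈ stabilizer G a ⊓ stabilizer G (t • a) := hdt.1
    refine ⟨hd, ?_⟩
    rw [Subgroup.mem_centralizer_iff]
    intro s' hs'
    obtain ⟨κ, hκ, e⟩ := (Cfsg.Agent.S1122.result hS).2 s₀ hs₀ s' hs'
    have h1 : d ∈ (stabilizer G a ⊓ stabilizer G (t • a)) ⊓ Subgroup.centralizer {s₀} := by
      rw [← hcent]; exact hdt
    have hds₀ : s₀ * d = d * s₀ := by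
      have := (Subgroup.mem_inf.mp h1).2
      rw [Subgroup.mem_centralizer_iff] at this
      exact this s₀ rfl
    rw [Subgroup.mem_centralizer_iff] at hdK
    have hdκ : κ * d = d * κ := hdK κ hκ
    have hdκ' : κ⁻¹ * d = d * κ⁻¹ := by
      have := congrArg (fun z => κ⁻¹ * z * κ⁻¹) hdκ
      beta_reduce at this
      have e1 : κ⁻¹ * (κ * d) * κ⁻¹ = d * κ⁻¹ := by group
      have e2 : κ⁻¹ * (d * κ) * κ⁻¹ = κ⁻¹ * d := by group
      rw [e1, e2] at this
      exact this.symm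
    rw [← e]
    calc κ⁻¹ * s₀ * κ * d = κ⁻¹ * s₀ * (κ * d) := by group
      _ = κ⁻¹ * (s₀ * d) * κ := by rw [hdκ]; group
      _ = (κ⁻¹ * d) * s₀ * κ := by rw [hds₀]; group
      _ = d * (κ⁻¹ * s₀ * κ) := by rw [hdκ']; group
  · rintro ⟨hd, hdI⟩
    rw [Subgroup.mem_centralizer_iff] at hdI
    have h1 : d ∈ (stabilizer G a ⊓ stabilizer G (t • a)) ⊓ Subgroup.centralizer {t} := by
      rw [hcent]
      refine Subgroup.mem_inf.mpr ⟨hd, ?_⟩
      rw [Subgroup.mem_centralizer_iff]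
      rintro _ rfl
      exact hdI _ hs₀
    refine ⟨h1, ?_⟩
    have hdt : t * d = d * t := by
      have := (Subgroup.mem_inf.mp h1).2
      rw [Subgroup.mem_centralizer_iff] at this
      exact this t rfl
    rw [Subgroup.mem_centralizer_iff]
    intro κ hκ
    obtain ⟨s', hs', hrel⟩ := rel_exists_left hS hκ
    have h2 := rel_conj_of_comm hS hd hdt hrel
    have hds' : d * s' * d⁻¹ = s' := by
      rw [← hdI s' hs']; group
    rw [hds'] at h2
    have hκ' : d * κ * d⁻¹ ∈ invertedBy (stabilizer G a ⊓ stabilizer G (t • a)) t := by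
      refine ⟨Subgroup.mul_mem _ (Subgroup.mul_mem _ hd hκ.1) (Subgroup.inv_mem _ hd), ?_⟩
      have hdt' : t * d⁻¹ = d⁻¹ * t := by
        have := congrArg (fun z => d⁻¹ * z * d⁻¹) hdt
        beta_reduce at this
        have e1 : d⁻¹ * (t * d) * d⁻¹ = d⁻¹ * t := by group
        have e2 : d⁻¹ * (d * t) * d⁻¹ = t * d⁻¹ := by group
        rw [e1, e2] at this
        exact this.symm
      calc t * (d * κ * d⁻¹) * t⁻¹ = (t * d) * κ * d⁻¹ * t⁻¹ := by group
        _ = d * (t * κ * t⁻¹) * (t * d⁻¹ * t⁻¹) := by rw [hdt]; group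
        _ = d * κ⁻¹ * d⁻¹ := by rw [hκ.2, hdt']; group
        _ = (d * κ * d⁻¹)⁻¹ := by group
    have h3 := rel_unique_left hS hκ' hκ h2 hrel
    have := congrArg (fun z => z * d) h3
    simp only [mul_assoc, inv_mul_cancel, mul_one] at this
    exact this.symm

end Cfsg.Agent.S1127
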