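import Mathlib
import Cfsg.Statements.S1130
import Cfsg.Agent.Helper7.RankOneSetup3
import Cfsg.Agent.S1122
import Cfsg.Agent.S1128

set_option autoImplicit false
open Cfsg

namespace Cfsg.Agent.S1130

open Cfsg.Agent.Helper7.ROS MulAction

/-- A fixed-point-free automorphism fixes no non-trivial conjugacy class: if `κ` normalises the
finite subgroup `Q`, centralises no non-identity element of it, and `κ⁻¹ s κ = q s q⁻¹` with
`s, q ∈ Q`, then `s = 1`. -/
theorem eq_one_of_fpf {G : Type*} [Group G] [Finite G] {Q : Subgroup G} {κ : G}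
    (hnorm : ∀ x ∈ Q, κ⁻¹ * x * κ ∈ Q) (hfpf : Q ⊓ Subgroup.centralizer {κ} = ⊥) {s q : G}
    (hs : s ∈ Q) (hq : q ∈ Q) (h : κ⁻¹ * s * κ = q * s * q⁻¹) : s = 1 := by
  let f : Q → Q := fun x => ⟨κ⁻¹ * x * κ * (x : G)⁻¹, Q.mul_mem (hnorm x x.2) (Q.inv_mem x.2)⟩
  have hinj : Function.Injective f := by
    intro x y hxy
    have h1 : κ⁻¹ * (x : G) * κ * (x : G)⁻¹ = κ⁻¹ * (y : G) * κ * (y : G)⁻¹ := congrArg Subtype.val hxy
    have h2 : ((y : G)⁻¹ * x) ∈ Q ⊓ Subgroup.centralizer {κ} := by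
      refine ⟨Q.mul_mem (Q.inv_mem y.2) x.2, ?_⟩
      change (y : G)⁻¹ * x ∈ Subgroup.centralizer {κ}
      rw [Subgroup.mem_centralizer_iff]
      intro z hz
      rw [Set.mem_singleton_iff] at hz
      rw [hz]
      have h3 : (x : G) * κ * (x : G)⁻¹ = (y : G) * κ * (y : G)⁻¹ := by
        have := congrArg (fun z => κ * z) h1
        simpa [mul_assoc] using this
      calc κ * ((y : G)⁻¹ * x) = (y : G)⁻¹ * ((y : G) * κ * (y : G)⁻¹) * x := by group
        _ = (y : G)⁻¹ * ((x : G) * κ * (x : G)⁻¹) * x := by rw [h3]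
        _ = (y : G)⁻¹ * x * κ := by group
    rw [hfpf, Subgroup.mem_bot] at h2
    apply Subtype.ext
    have := congrArg (fun z => (y : G) * z) h2
    simpa using this
  have hsurj : Function.Surjective f := Finite.surjective_of_injective hinj
  obtain ⟨x, hx⟩ := hsurj ⟨q, hq⟩
  have hx' : κ⁻¹ * (x : G) * κ * (x : G)⁻¹ = q := congrArg Subtype.val hx
  have hsx : f ⟨s * x, Q.mul_mem hs x.2⟩ = f x := by
    apply Subtype.ext
    change κ⁻¹ * (s * x) * κ * (s * (x : G))⁻¹ = κ⁻¹ * (x : G) * κ * (x : G)⁻¹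
    rw [hx']
    calc κ⁻¹ * (s * x) * κ * (s * (x : G))⁻¹
        = (κ⁻¹ * s * κ) * (κ⁻¹ * (x : G) * κ * (x : G)⁻¹) * s⁻¹ := by group
      _ = (q * s * q⁻¹) * q * s⁻¹ := by rw [h, hx']
      _ = q := by group
  have h4 := congrArg Subtype.val (hinj hsx)
  have h5 : s * (x : G) = x := h4
  have := congrArg (fun z => z * (x : G)⁻¹) h5
  simpa using this

/-- In the rank-one set-up (`G` finite and doubly transitive on `Ω`, `t` an involution moving `a`, `Q` normal in `G_a` with `G_a = Q D`, `Q ⊓ D = 1` for the two-point stabiliser `D = G_a ⊓ G_{t • a}`, `|Q|` even, `|D|` odd), with the action faithful and `G` containing two distinct commuting involutions: the involutions of `G_a` lie in `Z(Q)`, and together with `1` they are closed under multiplication (so form an elementary abelian 2-subgroup). -/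
theorem result {G Ω : Type*} [Group G] [Finite G] [MulAction G Ω] [FaithfulSMul G Ω] {a : Ω} {t : G} {Q : Subgroup G}
    (hS : Cfsg.IsRankOneSetup G Ω a t Q)
    (h2 : ∃ x y : G, x ≠ 1 ∧ y ≠ 1 ∧ x ≠ y ∧ x * x = 1 ∧ y * y = 1 ∧ x * y = y * x) :
    (∀ s ∈ Cfsg.involutionsIn (MulAction.stabilizer G a : Set G), s ∈ Q ∧ ∀ x ∈ Q, s * x = x * s) ∧
      ∀ s ∈ Cfsg.involutionsIn (MulAction.stabilizer G a : Set G), ∀ s' ∈ Cfsg.involutionsIn (MulAction.stabilizer G a : Set G),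
        s * s' = 1 ∨ s * s' ∈ Cfsg.involutionsIn (MulAction.stabilizer G a : Set G) := by
  have key : ∀ s ∈ Cfsg.involutionsIn (MulAction.stabilizer G a : Set G),
      s ∈ Q ∧ ∀ x ∈ Q, s * x = x * s := by
    intro s hs
    obtain ⟨hsa, hs1, hss⟩ := hs
    have hsQ : s ∈ Q := mem_Q_of_sq_eq_one hS hsa hss
    refine ⟨hsQ, ?_⟩
    intro x hx
    have hs' : x * s * x⁻¹ ∈ Cfsg.involutionsIn (MulAction.stabilizer G a : Set G) := by
      refine ⟨?_, Cfsg.Agent.S1122.conj_ne_one hs1 x, Cfsg.Agent.S1122.conj_sq hss x⟩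
      exact Subgroup.mul_mem _ (Subgroup.mul_mem _ (hS.le hx) hsa) (Subgroup.inv_mem _ (hS.le hx))
    obtain ⟨k, hk, e⟩ := (Cfsg.Agent.S1122.result hS).2 s ⟨hsa, hs1, hss⟩ _ hs'
    by_cases hk1 : k = 1
    · rw [hk1, inv_one, one_mul, mul_one] at e
      have := congrArg (fun z => z * x) e
      simpa using this
    · exfalso
      have hfpf := Cfsg.Agent.S1128.result hS h2 k hk hk1
      have hnorm : ∀ y ∈ Q, k⁻¹ * y * k ∈ Q := fun y hy => conj_mem' hS hk.1.1 hy
      exact hs1 (eq_one_of_fpf hnorm hfpf hsQ hx e)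
  refine ⟨key, ?_⟩
  intro s hs s' hs'
  by_cases h1 : s * s' = 1
  · exact Or.inl h1
  · right
    obtain ⟨hsQ, hsc⟩ := key s hs
    obtain ⟨hs'Q, _⟩ := key s' hs'
    refine ⟨Subgroup.mul_mem _ hs.1 hs'.1, h1, ?_⟩
    calc s * s' * (s * s') = s * (s' * s) * s' := by group
      _ = s * (s * s') * s' := by rw [hsc s' hs'Q]
      _ = (s * s) * (s' * s') := by group
      _ = 1 := by rw [hs.2.2, hs'.2.2, one_mul]

end Cfsg.Agent.S1130
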