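import Mathlib
import Cfsg.Statements.S1134
import Cfsg.Agent.Helper7.RankOneSetup4

set_option autoImplicit false
open Cfsg

namespace Cfsg.Agent.S1134

/-- In the rank-one set-up (`G` finite and doubly transitive on `Ω`, `t` an involution moving `a`, `Q` normal in `G_a` with `G_a = Q D`, `Q ⊓ D = 1` for the two-point stabiliser `D = G_a ⊓ G_{t • a}`, `|Q|` even, `|D|` odd), with the action faithful and `G` containing two distinct commuting involutions, with `V = C_D(t)`: subsets of `V` conjugate in `G` are conjugate in `V`. -/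
theorem result {G Ω : Type*} [Group G] [Finite G] [MulAction G Ω] [FaithfulSMul G Ω] {a : Ω} {t : G} {Q : Subgroup G}
    (hS : Cfsg.IsRankOneSetup G Ω a t Q)
    (h2 : ∃ x y : G, x ≠ 1 ∧ y ≠ 1 ∧ x ≠ y ∧ x * x = 1 ∧ y * y = 1 ∧ x * y = y * x)
    (X : Set G) (hX : X ⊆ (((MulAction.stabilizer G a ⊓ MulAction.stabilizer G (t • a)) ⊓ Subgroup.centralizer {t} : Subgroup G) : Set G)) (g : G)
    (hY : (fun x => g * x * g⁻¹) '' X ⊆ (((MulAction.stabilizer G a ⊓ MulAction.stabilizer G (t • a)) ⊓ Subgroup.centralizer {t} : Subgroup G) : Set G)) :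
    ∃ v ∈ (MulAction.stabilizer G a ⊓ MulAction.stabilizer G (t • a)) ⊓ Subgroup.centralizer {t}, (fun x => v * x * v⁻¹) '' X = (fun x => g * x * g⁻¹) '' X := by
  classical
  have ht2 := hS.mul_self
  have htinv := Cfsg.Agent.Helper7.ROS.t_inv hS
  -- membership facts
  have hXD : X ⊆ ((MulAction.stabilizer G a ⊓ MulAction.stabilizer G (t • a) : Subgroup G) : Set G) := by
    intro x hx
    exact (hX hx).1
  have hXt : ∀ x ∈ X, x * t = t * x := by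
    intro x hx
    have h1 : x ∈ Subgroup.centralizer {t} := (hX hx).2
    rw [Subgroup.mem_centralizer_iff] at h1
    exact (h1 t rfl).symm
  have hYD : ∀ x ∈ X, g * x * g⁻¹ ∈ MulAction.stabilizer G a ⊓ MulAction.stabilizer G (t • a) := by
    intro x hx
    exact (hY ⟨x, hx, rfl⟩).1
  have hYt : ∀ x ∈ X, (g * x * g⁻¹) * t = t * (g * x * g⁻¹) := by
    intro x hx
    have h1 : g * x * g⁻¹ ∈ Subgroup.centralizer {t} := (hY ⟨x, hx, rfl⟩).2
    rw [Subgroup.mem_centralizer_iff] at h1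
    exact (h1 t rfl).symm
  obtain ⟨c, hc, hca, hcb⟩ := Cfsg.Agent.Helper7.ROS.exists_fixed_t hS
  have hXa : ∀ x ∈ X, x • a = a := fun x hx => MulAction.mem_stabilizer_iff.mp (hXD hx).1
  have hXb : ∀ x ∈ X, x • t • a = t • a := fun x hx => MulAction.mem_stabilizer_iff.mp (hXD hx).2
  have hXc : ∀ x ∈ X, x • c = c := fun x hx =>
    Cfsg.Agent.Helper7.ROS.smul_fixed_t_of_comm hS hc (hXt x hx)
  -- `X` fixes `g⁻¹ • a` and `g⁻¹ • b`
  have hXga : ∀ x ∈ X, x • g⁻¹ • a = g⁻¹ • a := by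
    intro x hx
    have h1 : (g * x * g⁻¹) • a = a := MulAction.mem_stabilizer_iff.mp (hYD x hx).1
    rw [mul_smul, mul_smul] at h1
    exact eq_inv_smul_iff.mpr h1
  have hXgb : ∀ x ∈ X, x • g⁻¹ • t • a = g⁻¹ • t • a := by
    intro x hx
    have h1 : (g * x * g⁻¹) • t • a = t • a := MulAction.mem_stabilizer_iff.mp (hYD x hx).2
    rw [mul_smul, mul_smul] at h1
    exact eq_inv_smul_iff.mpr h1
  have hne : g⁻¹ • a ≠ g⁻¹ • t • a := by
    intro h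
    exact Cfsg.Agent.Helper7.ROS.b_ne_a hS (MulAction.injective g⁻¹ h).symm
  obtain ⟨h, hh, e1, e2⟩ := Cfsg.Agent.Helper7.ROS.exists_cent_smul_pair hS hXD hca hcb hXc hne hXga hXgb
  -- `g₁ = g h⁻¹ ∈ D`
  have hhx : ∀ x ∈ X, h⁻¹ * x * h = x := by
    intro x hx
    rw [Subgroup.mem_centralizer_iff] at hh
    rw [mul_assoc, hh x hx, ← mul_assoc, inv_mul_cancel, one_mul]
  have hg₁a : (g * h⁻¹) • a = a := by
    rw [mul_smul, inv_smul_eq_iff.mpr e1.symm, smul_inv_smul]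
  have hg₁b : (g * h⁻¹) • t • a = t • a := by
    rw [mul_smul, inv_smul_eq_iff.mpr e2.symm, smul_inv_smul]
  have hg₁x : ∀ x ∈ X, (g * h⁻¹) * x * (g * h⁻¹)⁻¹ = g * x * g⁻¹ := by
    intro x hx
    calc (g * h⁻¹) * x * (g * h⁻¹)⁻¹ = g * (h⁻¹ * x * h) * g⁻¹ := by group
      _ = g * x * g⁻¹ := by rw [hhx x hx]
  obtain ⟨g₁, hg₁⟩ : ∃ g₁, g₁ = g * h⁻¹ := ⟨_, rfl⟩
  rw [← hg₁] at hg₁a hg₁b hg₁x
  have hg₁a' : g₁⁻¹ • a = a := by rw [inv_smul_eq_iff, hg₁a]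
  have hg₁b' : g₁⁻¹ • t • a = t • a := by rw [inv_smul_eq_iff, hg₁b]
  -- the involution `t' = g₁⁻¹ t g₁`
  have hu : (g₁⁻¹ * t * g₁) * (g₁⁻¹ * t * g₁) = 1 := by
    calc (g₁⁻¹ * t * g₁) * (g₁⁻¹ * t * g₁) = g₁⁻¹ * (t * t) * g₁ := by group
      _ = 1 := by rw [ht2]; group
  have hu1 : (g₁⁻¹ * t * g₁) • a = t • a := by
    rw [mul_smul, mul_smul, hg₁a, hg₁b']
  have hu2 : (g₁⁻¹ * t * g₁) • t • a = a := by
    rw [mul_smul, mul_smul, hg₁b, Cfsg.Agent.Helper7.ROS.t_smul_t_smul hS, hg₁a']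
  have huX : g₁⁻¹ * t * g₁ ∈ Subgroup.centralizer X := by
    rw [Subgroup.mem_centralizer_iff]
    intro x hx
    have h1 := hYt x hx
    rw [← hg₁x x hx] at h1
    calc x * (g₁⁻¹ * t * g₁) = g₁⁻¹ * ((g₁ * x * g₁⁻¹) * t) * g₁ := by group
      _ = g₁⁻¹ * (t * (g₁ * x * g₁⁻¹)) * g₁ := by rw [h1]
      _ = g₁⁻¹ * t * g₁ * x := by group
  obtain ⟨j, hj⟩ := Cfsg.Agent.Helper7.ROS.exists_conj_pow_of_swap hS hu hu1 hu2
  have htD : t * (g₁⁻¹ * t * g₁) ∈ MulAction.stabilizer G a ⊓ MulAction.stabilizer G (t • a) := by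
    constructor
    · change t * (g₁⁻¹ * t * g₁) ∈ MulAction.stabilizer G a
      rw [MulAction.mem_stabilizer_iff, mul_smul, hu1, Cfsg.Agent.Helper7.ROS.t_smul_t_smul hS]
    · change t * (g₁⁻¹ * t * g₁) ∈ MulAction.stabilizer G (t • a)
      rw [MulAction.mem_stabilizer_iff, mul_smul, hu2]
  have htX : t * (g₁⁻¹ * t * g₁) ∈ Subgroup.centralizer X := by
    rw [Subgroup.mem_centralizer_iff] at huX ⊢
    intro x hx
    calc x * (t * (g₁⁻¹ * t * g₁)) = (x * t) * (g₁⁻¹ * t * g₁) := by group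
      _ = t * (x * (g₁⁻¹ * t * g₁)) := by rw [hXt x hx]; group
      _ = t * (g₁⁻¹ * t * g₁) * x := by rw [huX x hx]; group
  obtain ⟨l, hl⟩ : ∃ l, l = (t * (g₁⁻¹ * t * g₁)) ^ j := ⟨_, rfl⟩
  rw [← hl] at hj
  have hlD : l ∈ MulAction.stabilizer G a ⊓ MulAction.stabilizer G (t • a) := by
    rw [hl]; exact Subgroup.pow_mem _ htD j
  have hlX : l ∈ Subgroup.centralizer X := by
    rw [hl]; exact Subgroup.pow_mem _ htX j
  have hg₁D : g₁ ∈ MulAction.stabilizer G a ⊓ MulAction.stabilizer G (t • a) :=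
    ⟨MulAction.mem_stabilizer_iff.mpr hg₁a, MulAction.mem_stabilizer_iff.mpr hg₁b⟩
  refine ⟨g₁ * l⁻¹, ⟨Subgroup.mul_mem _ hg₁D (Subgroup.inv_mem _ hlD), ?_⟩, ?_⟩
  · change g₁ * l⁻¹ ∈ Subgroup.centralizer {t}
    rw [Subgroup.mem_centralizer_iff]
    intro y hy
    rw [Set.mem_singleton_iff] at hy
    rw [hy]
    -- `t * (g₁ l⁻¹) = (g₁ l⁻¹) * t`
    have h1 : l⁻¹ * t * l = g₁⁻¹ * t * g₁ := hj.symm
    have h2 : t = g₁ * (l⁻¹ * t * l) * g₁⁻¹ := by rw [h1]; group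
    calc t * (g₁ * l⁻¹) = (g₁ * (l⁻¹ * t * l) * g₁⁻¹) * (g₁ * l⁻¹) := by rw [← h2]
      _ = g₁ * l⁻¹ * t := by group
  · apply Set.image_congr
    intro x hx
    rw [← hg₁x x hx]
    have h1 : l⁻¹ * x * l = x := by
      rw [Subgroup.mem_centralizer_iff] at hlX
      rw [mul_assoc, hlX x hx, ← mul_assoc, inv_mul_cancel, one_mul]
    calc g₁ * l⁻¹ * x * (g₁ * l⁻¹)⁻¹ = g₁ * (l⁻¹ * x * l) * g₁⁻¹ := by group
      _ = g₁ * x * g₁⁻¹ := by rw [h1]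

end Cfsg.Agent.S1134
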