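import Mathlib
import Cfsg.Statements.S1135
import Cfsg.Agent.Helper7.RankOneSetup4
import Cfsg.Agent.S1122
import Cfsg.Agent.S1128
import Cfsg.Agent.S1130

set_option autoImplicit false
open Cfsg

namespace Cfsg.Agent.S1135

open Cfsg.Agent.Helper7.ROS MulAction

variable {G Ω : Type*} [Group G] [Finite G] [MulAction G Ω] [FaithfulSMul G Ω] {a : Ω} {t : G}
  {Q : Subgroup G}

/-- Two involutions with a common fixed point have a product of square one. -/
theorem sq_eq_one_of_same_fixed (hS : IsRankOneSetup G Ω a t Q)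
    (h2 : ∃ x y : G, x ≠ 1 ∧ y ≠ 1 ∧ x ≠ y ∧ x * x = 1 ∧ y * y = 1 ∧ x * y = y * x)
    {u v : G} (hu1 : u ≠ 1) (hu2 : u * u = 1) (hv1 : v ≠ 1) (hv2 : v * v = 1) {p : Ω}
    (hup : u • p = p) (hvp : v • p = p) : (u * v) * (u * v) = 1 := by
  have := isPretransitive hS
  obtain ⟨g, hg⟩ := MulAction.exists_smul_eq G p a
  have hfix : ∀ w : G, w • p = p → (g * w * g⁻¹) ∈ stabilizer G a := by
    intro w hw
    rw [mem_stabilizer_iff, mul_smul, mul_smul, ← hg, inv_smul_smul, hw]
  have hu' : g * u * g⁻¹ ∈ involutionsIn (stabilizer G a : Set G) :=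
    ⟨hfix u hup, Cfsg.Agent.S1122.conj_ne_one hu1 g, Cfsg.Agent.S1122.conj_sq hu2 g⟩
  have hv' : g * v * g⁻¹ ∈ involutionsIn (stabilizer G a : Set G) :=
    ⟨hfix v hvp, Cfsg.Agent.S1122.conj_ne_one hv1 g, Cfsg.Agent.S1122.conj_sq hv2 g⟩
  have h3 : (g * u * g⁻¹) * (g * v * g⁻¹) * ((g * u * g⁻¹) * (g * v * g⁻¹)) = 1 := by
    rcases (Cfsg.Agent.S1130.result hS h2).2 _ hu' _ hv' with h | h
    · rw [h, one_mul]
    · exact h.2.2
  have h4 : g * ((u * v) * (u * v)) * g⁻¹ = 1 := by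
    rw [← h3]; group
  have := congrArg (fun z => g⁻¹ * z * g) h4
  simpa [mul_assoc] using this

/-- `C_G(t)` is transitive on the points other than the fixed point of `t`. -/
theorem exists_comm_t_smul (hS : IsRankOneSetup G Ω a t Q)
    (h2 : ∃ x y : G, x ≠ 1 ∧ y ≠ 1 ∧ x ≠ y ∧ x * x = 1 ∧ y * y = 1 ∧ x * y = y * x)
    {c : Ω} (hc : t • c = c) {p : Ω} (hp : p ≠ c) : ∃ h : G, h * t = t * h ∧ h • p = a := by
  have := isPretransitive hS
  obtain ⟨hca, _⟩ : c ≠ a ∧ True := by
    refine ⟨?_, trivial⟩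
    rintro rfl
    exact b_ne_a hS hc
  obtain ⟨g, hg⟩ := MulAction.exists_smul_eq G a c
  have hg' : g⁻¹ • c = a := by rw [inv_smul_eq_iff, hg]
  have ht' : g⁻¹ * t * g ∈ involutionsIn (stabilizer G a : Set G) := by
    refine ⟨?_, ?_, ?_⟩
    · change g⁻¹ * t * g ∈ stabilizer G a
      rw [mem_stabilizer_iff, mul_smul, mul_smul, hg, hc, hg']
    · have := Cfsg.Agent.S1122.conj_ne_one hS.ne_one g⁻¹
      rwa [inv_inv] at this
    · have := Cfsg.Agent.S1122.conj_sq hS.mul_self g⁻¹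
      rwa [inv_inv] at this
  obtain ⟨_, hcent⟩ := (Cfsg.Agent.S1130.result hS h2).1 _ ht'
  have hp' : g⁻¹ • p ≠ a := by
    intro h
    apply hp
    rw [← hg, ← h, smul_inv_smul]
  have ha' : g⁻¹ • a ≠ a := by
    intro h
    apply hca
    rw [← hg, ← h, smul_inv_smul, h]
  obtain ⟨x, hx, _⟩ := existsUnique_Q_smul hS hp' ha'
  refine ⟨g * x * g⁻¹, ?_, ?_⟩
  · have h1 := hcent x x.2
    calc g * x * g⁻¹ * t = g * ((x : G) * (g⁻¹ * t * g)) * g⁻¹ := by group
      _ = g * ((g⁻¹ * t * g) * x) * g⁻¹ := by rw [h1]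
      _ = t * (g * x * g⁻¹) := by group
  · rw [mul_smul, mul_smul, hx, smul_inv_smul]

/-- In the rank-one set-up (`G` finite and doubly transitive on `Ω`, `t` an involution moving `a`, `Q` normal in `G_a` with `G_a = Q D`, `Q ⊓ D = 1` for the two-point stabiliser `D = G_a ⊓ G_{t • a}`, `|Q|` even, `|D|` odd), with the action faithful and `G` containing two distinct commuting involutions: if `x = u v` with `u, v` involutions and `x² ≠ 1`, then `x` is conjugate to `u' t` for some involution `u'` of `G_a`, and `|C_G(x)|` is odd. -/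
theorem result {G Ω : Type*} [Group G] [Finite G] [MulAction G Ω] [FaithfulSMul G Ω] {a : Ω} {t : G} {Q : Subgroup G}
    (hS : Cfsg.IsRankOneSetup G Ω a t Q)
    (h2 : ∃ x y : G, x ≠ 1 ∧ y ≠ 1 ∧ x ≠ y ∧ x * x = 1 ∧ y * y = 1 ∧ x * y = y * x)
    (u v : G) (hu1 : u ≠ 1) (hu2 : u * u = 1) (hv1 : v ≠ 1) (hv2 : v * v = 1) (hx : (u * v) * (u * v) ≠ 1) :
    (∃ g : G, ∃ u' ∈ Cfsg.involutionsIn (MulAction.stabilizer G a : Set G), g * (u * v) * g⁻¹ = u' * t) ∧
      Odd (Nat.card ↥(Subgroup.centralizer {u * v})) := by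
  have huinv : u⁻¹ = u := inv_eq_of_mul_eq_one_left hu2
  have hvinv : v⁻¹ = v := inv_eq_of_mul_eq_one_left hv2
  constructor
  · obtain ⟨pu, hpu, _⟩ := existsUnique_fixed_of_involution hS hu2 hu1
    obtain ⟨pv, hpv, _⟩ := existsUnique_fixed_of_involution hS hv2 hv1
    have hne : pu ≠ pv := by
      rintro rfl
      exact hx (sq_eq_one_of_same_fixed hS h2 hu1 hu2 hv1 hv2 hpu hpv)
    obtain ⟨c, hc, hcuniq⟩ := existsUnique_fixed_of_involution hS hS.mul_self hS.ne_one
    obtain ⟨g₁, hg₁⟩ := involutions_conj hS hv2 hv1 hS.mul_self hS.ne_one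
    have hg₁pv : g₁ • pv = c := by
      apply hcuniq
      rw [← hg₁, mul_smul, mul_smul, inv_smul_smul, hpv]
    have hp₁ : g₁ • pu ≠ c := by
      rw [← hg₁pv]
      intro h
      exact hne (MulAction.injective g₁ h)
    obtain ⟨h, hht, hhp⟩ := exists_comm_t_smul hS h2 hc hp₁
    refine ⟨h * g₁, (h * g₁) * u * (h * g₁)⁻¹, ⟨?_, Cfsg.Agent.S1122.conj_ne_one hu1 _,
      Cfsg.Agent.S1122.conj_sq hu2 _⟩, ?_⟩
    · change (h * g₁) * u * (h * g₁)⁻¹ ∈ stabilizer G a
      rw [mem_stabilizer_iff, mul_smul, mul_smul, ← hhp, ← mul_smul h g₁, inv_smul_smul, hpu]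
    · have e1 : t = h * (g₁ * v * g₁⁻¹) * h⁻¹ := by
        rw [hg₁]
        have := congrArg (fun z => z * h⁻¹) hht
        simpa [mul_assoc] using this.symm
      calc h * g₁ * (u * v) * (h * g₁)⁻¹
          = (h * g₁ * u * (h * g₁)⁻¹) * (h * (g₁ * v * g₁⁻¹) * h⁻¹) := by group
        _ = (h * g₁ * u * (h * g₁)⁻¹) * t := by rw [← e1]
  · by_contra hodd
    rw [Nat.not_odd_iff_even] at hodd
    have hdvd : 2 ∣ Nat.card ↥(Subgroup.centralizer {u * v}) := even_iff_two_dvd.mp hodd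
    have : Fact (Nat.Prime 2) := ⟨Nat.prime_two⟩
    obtain ⟨⟨z, hzC⟩, hz⟩ := exists_prime_orderOf_dvd_card' 2 hdvd
    rw [Subgroup.orderOf_mk] at hz
    have hz1 : z ≠ 1 := by
      rintro rfl
      rw [orderOf_one] at hz
      omega
    have hz2 : z * z = 1 := by
      have := pow_orderOf_eq_one z
      rwa [hz, pow_two] at this
    rw [Subgroup.mem_centralizer_iff] at hzC
    have hzx : (u * v) * z = z * (u * v) := hzC _ rfl
    obtain ⟨p, hp, hpuniq⟩ := existsUnique_fixed_of_involution hS hz2 hz1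
    have hxp : (u * v) • p = p := smul_eq_of_commute hS hz2 hz1 hp hzx
    by_cases hup : u • p = p
    · -- `u`, `v` both fix `p`
      have hvp : v • p = p := by
        have : v = u * (u * v) := by rw [← mul_assoc, hu2, one_mul]
        rw [this, mul_smul, hxp, hup]
      exact hx (sq_eq_one_of_same_fixed hS h2 hu1 hu2 hv1 hv2 hup hvp)
    · -- `u` swaps `p` and `u • p`
      obtain ⟨g, hga, hgb⟩ := (MulAction.is_two_pretransitive_iff.mp hS.two_transitive)
        (Ne.symm hup) (b_ne_a hS).symm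
      have hga' : g⁻¹ • a = p := by rw [inv_smul_eq_iff, hga]
      have hgb' : g⁻¹ • t • a = u • p := by rw [inv_smul_eq_iff, hgb]
      -- the conjugates
      have hu₁2 : (g * u * g⁻¹) * (g * u * g⁻¹) = 1 := Cfsg.Agent.S1122.conj_sq hu2 g
      have hu₁a : (g * u * g⁻¹) • a = t • a := by
        rw [mul_smul, mul_smul, hga', hgb]
      have hu₁b : (g * u * g⁻¹) • t • a = a := by
        simp only [mul_smul]
        rw [hgb', smul_smul u u, hu2, one_smul, hga]
      obtain ⟨l, hl, hl2⟩ := exists_conj_of_swap hS hu₁2 hu₁a hu₁b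
      -- `x₂ = (l g) x (l g)⁻¹ ∈ K`
      have hinvx : u * (u * v) * u⁻¹ = (u * v)⁻¹ := by
        rw [mul_inv_rev, huinv, hvinv, ← mul_assoc, hu2, one_mul]
      have hxup : (u * v) • u • p = u • p := by
        have h1 : (u * v)⁻¹ • p = p := by rw [inv_smul_eq_iff, hxp]
        have h3 : (u * v) * u = u * (u * v)⁻¹ := by
          rw [← hinvx, huinv]
          calc u * v * u = (u * u) * (u * v * u) := by rw [hu2, one_mul]
            _ = u * (u * (u * v) * u) := by group
        rw [smul_smul, h3, mul_smul, h1]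
      have hx₂D : (l * g) * (u * v) * (l * g)⁻¹ ∈ stabilizer G a ⊓ stabilizer G (t • a) := by
        have hla : l⁻¹ • a = a := by
          rw [inv_smul_eq_iff]; exact (mem_stabilizer_iff.mp hl.1).symm
        have hlb : l⁻¹ • t • a = t • a := by
          rw [inv_smul_eq_iff]; exact (mem_stabilizer_iff.mp hl.2).symm
        have hxp' : u • v • p = p := by rw [← mul_smul]; exact hxp
        have hxup' : u • v • u • p = u • p := by rw [← mul_smul u v]; exact hxup
        constructor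
        · change (l * g) * (u * v) * (l * g)⁻¹ ∈ stabilizer G a
          rw [mem_stabilizer_iff]
          simp only [mul_smul, mul_inv_rev]
          rw [hla, hga', hxp', hga]
          exact mem_stabilizer_iff.mp hl.1
        · change (l * g) * (u * v) * (l * g)⁻¹ ∈ stabilizer G (t • a)
          rw [mem_stabilizer_iff]
          simp only [mul_smul, mul_inv_rev]
          rw [hlb, hgb', hxup', hgb]
          exact mem_stabilizer_iff.mp hl.2
      have ht_eq : t = (l * g) * u * (l * g)⁻¹ := by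
        have : t = l * (g * u * g⁻¹) * l⁻¹ := by rw [hl2]; group
        rw [this]; group
      have hx₂K : (l * g) * (u * v) * (l * g)⁻¹ ∈
          invertedBy (stabilizer G a ⊓ stabilizer G (t • a)) t := by
        refine ⟨hx₂D, ?_⟩
        have : t⁻¹ = (l * g) * u⁻¹ * (l * g)⁻¹ := by
          rw [ht_eq]; group
        rw [this]
        nth_rewrite 1 [ht_eq]
        calc (l * g) * u * (l * g)⁻¹ * ((l * g) * (u * v) * (l * g)⁻¹) * ((l * g) * u⁻¹ * (l * g)⁻¹)
            = (l * g) * (u * (u * v) * u⁻¹) * (l * g)⁻¹ := by group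
          _ = (l * g) * (u * v)⁻¹ * (l * g)⁻¹ := by rw [hinvx]
          _ = ((l * g) * (u * v) * (l * g)⁻¹)⁻¹ := by group
      have hx₂1 : (l * g) * (u * v) * (l * g)⁻¹ ≠ 1 := by
        apply Cfsg.Agent.S1122.conj_ne_one
        rintro h
        rw [h, one_mul] at hx
        exact hx rfl
      have hfpf := Cfsg.Agent.S1128.result hS h2 _ hx₂K hx₂1
      -- the involution `z₂ = (l g) z (l g)⁻¹`
      have hz₂a : (l * g) * z * (l * g)⁻¹ ∈ stabilizer G a := by
        have hla : l⁻¹ • a = a := by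
          rw [inv_smul_eq_iff]; exact (mem_stabilizer_iff.mp hl.1).symm
        rw [mem_stabilizer_iff]
        simp only [mul_smul, mul_inv_rev]
        rw [hla, hga', hp, hga]
        exact mem_stabilizer_iff.mp hl.1
      have hz₂Q : (l * g) * z * (l * g)⁻¹ ∈ Q :=
        mem_Q_of_sq_eq_one hS hz₂a (Cfsg.Agent.S1122.conj_sq hz2 _)
      have hz₂C : (l * g) * z * (l * g)⁻¹ ∈
          Subgroup.centralizer {(l * g) * (u * v) * (l * g)⁻¹} := by
        rw [Subgroup.mem_centralizer_iff]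
        intro y hy
        rw [Set.mem_singleton_iff] at hy
        rw [hy]
        calc (l * g) * (u * v) * (l * g)⁻¹ * ((l * g) * z * (l * g)⁻¹)
            = (l * g) * ((u * v) * z) * (l * g)⁻¹ := by group
          _ = (l * g) * (z * (u * v)) * (l * g)⁻¹ := by rw [hzx]
          _ = (l * g) * z * (l * g)⁻¹ * ((l * g) * (u * v) * (l * g)⁻¹) := by group
      have hmem : (l * g) * z * (l * g)⁻¹ ∈
          Q ⊓ Subgroup.centralizer {(l * g) * (u * v) * (l * g)⁻¹} := ⟨hz₂Q, hz₂C⟩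
      rw [hfpf, Subgroup.mem_bot] at hmem
      exact Cfsg.Agent.S1122.conj_ne_one hz1 _ hmem

end Cfsg.Agent.S1135
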