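import Cfsg.Statements.S1139
import Cfsg.Agent.S1137
import Cfsg.Agent.Helper1.SuzTG
-- import your own Cfsg.Agent.* helpers here

set_option autoImplicit false
open Cfsg

namespace Cfsg.Agent.S1139
open Cfsg.Agent.Helper1.SuzT

/-- A Suzuki 2-group `P` with `|P| = |Z(P)|²` is of type A: for some finite field `F` with `|F| = |Z(P)|` and some field automorphism `φ ≠ 1` of odd order, `P` is isomorphic to the group of lower unitriangular matrices with rows `(1,0,0)`, `(x,1,0)`, `(y, φ x, 1)`. -/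
theorem result {P : Type*} [Group P] (hP : Cfsg.IsSuzukiTwoGroup P)
    (hcard : Nat.card P = Nat.card (Subgroup.center P) ^ 2) :
    ∃ (F : Type) (_ : Field F) (_ : Fintype F) (φ : F ≃+* F), Fintype.card F = Nat.card (Subgroup.center P) ∧
      φ ≠ RingEquiv.refl F ∧ Odd (orderOf φ) ∧ Nonempty (P ≃* Cfsg.suzukiTypeA F (φ : F →+* F)) := by
  have h37 := Cfsg.Agent.S1137.result hP
  obtain ⟨hfin, hp, hna, htwo, K, hcyc, hreg⟩ := hP
  let _ : CommGroup K := IsCyclic.commGroup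
  have hR : Reg K P := by
    refine ⟨hp, h37.2, ?_, ?_, ?_⟩
    · intro x hx
      by_cases hx1 : x = 1
      · rw [hx1]; exact one_mem _
      · exact ((h37.1 x).mp ⟨hx1, hx⟩).1
    · intro x y hx1 hx2 hy1 hy2
      obtain ⟨k, hk, huniq⟩ := hreg x y hx1 hx2 hy1 hy2
      exact ⟨k, hk, fun k' hk' => huniq k' hk'⟩
    · obtain ⟨x, y, _, hx1, hx2, _, _⟩ := htwo
      exact ⟨x, hx1, hx2⟩
  obtain ⟨F, hF, hFt, hchar, hcardF, ⟨c⟩⟩ := hR.exists_coords hcyc hna hcard
  obtain ⟨φ, h1, h2, h3⟩ := hR.exists_typeA_of_coords hna hcardF hcard c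
  exact ⟨F, hF, hFt, φ, hcardF, h1, h2, h3⟩

end Cfsg.Agent.S1139
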