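import Cfsg.Statements.S1158
import Cfsg.Agent.Helper7.ReeCntT

set_option autoImplicit false
open Cfsg

namespace Cfsg.Agent.S1158

open Cfsg.Lie Cfsg.Agent.Helper7.Chev Cfsg.Agent.Helper7.ReeCnt Cfsg.Agent.Helper7.ReeTor

/-- In the small Ree group ²G₂(q), q = 3^(2m+1) with m ≥ 1, realised as G¹ inside the Chevalley group G₂ over the field with q elements (θ the 3^m-th power map), with `r = 3^(m+1)` (so `r² = 3q`): for each `k ∈ {(q-1)/2, (q+1)/4, q - r + 1, q + r + 1}` there is a cyclic subgroup `A` of order `k` whose normaliser has order `2(q-1)`, `6(q+1)`, `6(q-r+1)`, `6(q+r+1)` respectively, and `N(A₀) = N(A)` for every non-trivial `A₀ ≤ A`. -/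
theorem result {K : Type*} [Field K] [Fintype K] {m : ℕ} (hm : 1 ≤ m) (hK : Fintype.card K = 3 ^ (2 * m + 1)) :
    ∀ kn ∈ ({((3 ^ (2 * m + 1) - 1) / 2, 2 * (3 ^ (2 * m + 1) - 1)), ((3 ^ (2 * m + 1) + 1) / 4, 6 * (3 ^ (2 * m + 1) + 1)),
        (3 ^ (2 * m + 1) - 3 ^ (m + 1) + 1, 6 * (3 ^ (2 * m + 1) - 3 ^ (m + 1) + 1)),
        (3 ^ (2 * m + 1) + 3 ^ (m + 1) + 1, 6 * (3 ^ (2 * m + 1) + 3 ^ (m + 1) + 1))} : Set (ℕ × ℕ)),
      ∃ A : Subgroup ↥(Cfsg.Lie.twistedG2 K (3 ^ m)), IsCyclic A ∧ Nat.card A = kn.1 ∧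
        Nat.card (Subgroup.normalizer (A : Set ↥(Cfsg.Lie.twistedG2 K (3 ^ m)))) = kn.2 ∧
        ∀ A₀ : Subgroup ↥(Cfsg.Lie.twistedG2 K (3 ^ m)), A₀ ≤ A → A₀ ≠ ⊥ →
          Subgroup.normalizer (A₀ : Set ↥(Cfsg.Lie.twistedG2 K (3 ^ m))) = Subgroup.normalizer (A : Set ↥(Cfsg.Lie.twistedG2 K (3 ^ m))) := by
  haveI := charP_three_of_card (by omega) hK
  have hq := ree_card_ge hK hm
  have hq8 := ree_card_mod_eight hK
  have hq3 := ree_card_mod_three hK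
  have hr : (3 ^ (m + 1)) ^ 2 = 3 * Fintype.card K := by
    rw [hK, ← pow_mul, ← pow_succ']
    congr 1
    ring
  intro kn hkn
  rw [← hK] at hkn
  simp only [Set.mem_insert_iff, Set.mem_singleton_iff] at hkn
  rcases hkn with rfl | rfl | rfl | rfl
  · obtain ⟨p, x, hp, hp3, hpq, hx1, hxp, hT, hN, -⟩ := exists_torus_split hK hm
    have hc := card_sq_split hK hp hp3 hpq hx1 hxp
    obtain ⟨A, hcyc, hcard, -, -, -, hNA, key⟩ := torus_hall hK hm hp hp3 hx1 hxp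
      ((Fintype.card K - 1) / 2) (by rw [hT, hc]; omega) (by omega) (by omega) (by omega)
    exact ⟨A, hcyc, hcard, by rw [hNA, hN], fun A₀ h1 h2 => (key A₀ h1 h2).trans hNA.symm⟩
  · obtain ⟨p, x, hp, hp3, hpq, hx1, hxp, hT, hN⟩ := exists_torus_quarter hK hm
    have hc := card_sq_quarter hK hm hp hp3 hpq hx1 hxp
    obtain ⟨A, hcyc, hcard, -, -, -, hNA, key⟩ := torus_hall hK hm hp hp3 hx1 hxp
      ((Fintype.card K + 1) / 4) (by rw [hT, hc]; omega) (by omega) (by omega) (by omega)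
    exact ⟨A, hcyc, hcard, by rw [hNA, hN], fun A₀ h1 h2 => (key A₀ h1 h2).trans hNA.symm⟩
  · obtain ⟨p₁, p₂, x₁, x₂, hp₁, hp₂, h₁, h₂, hx₁1, hx₁p, hx₂1, hx₂p, hT₁, hT₂, hN₁, hN₂, -⟩ :=
      six_tori hK hm (3 ^ (m + 1)) hr
    obtain ⟨hp3, hdvd, -, h7, -, -, -⟩ := six_torus_props hK hm hp₁ h₁ hx₁1 hx₁p
    have hc := card_sq_six hK hm hp₁ hp3 h₁ hx₁1 hx₁p
    obtain ⟨A, hcyc, hcard, -, -, -, hNA, key⟩ := torus_hall hK hm hp₁ hp3 hx₁1 hx₁p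
      (Nat.card ↥(Subgroup.centralizer {x₁})) (by rw [hc, mul_one])
      (fun h => not_two_dvd_six hK (h.trans hdvd)) (fun h => not_three_dvd_six hK (h.trans hdvd))
      (by omega)
    exact ⟨A, hcyc, by rw [hcard, hT₁], by rw [hNA, hN₁, hT₁],
      fun A₀ h1 h2 => (key A₀ h1 h2).trans hNA.symm⟩
  · obtain ⟨p₁, p₂, x₁, x₂, hp₁, hp₂, h₁, h₂, hx₁1, hx₁p, hx₂1, hx₂p, hT₁, hT₂, hN₁, hN₂, -⟩ :=
      six_tori hK hm (3 ^ (m + 1)) hr
    obtain ⟨hp3, hdvd, -, h7, -, -, -⟩ := six_torus_props hK hm hp₂ h₂ hx₂1 hx₂p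
    have hc := card_sq_six hK hm hp₂ hp3 h₂ hx₂1 hx₂p
    obtain ⟨A, hcyc, hcard, -, -, -, hNA, key⟩ := torus_hall hK hm hp₂ hp3 hx₂1 hx₂p
      (Nat.card ↥(Subgroup.centralizer {x₂})) (by rw [hc, mul_one])
      (fun h => not_two_dvd_six hK (h.trans hdvd)) (fun h => not_three_dvd_six hK (h.trans hdvd))
      (by omega)
    exact ⟨A, hcyc, by rw [hcard, hT₂], by rw [hNA, hN₂, hT₂],
      fun A₀ h1 h2 => (key A₀ h1 h2).trans hNA.symm⟩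

end Cfsg.Agent.S1158
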