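import Cfsg.Statements.S1159
import Cfsg.Agent.Helper7.ReeCntV

set_option autoImplicit false
open Cfsg

namespace Cfsg.Agent.S1159

open Cfsg.Lie Cfsg.Agent.Helper7.Chev Cfsg.Agent.Helper7.ReeCnt Cfsg.Agent.Helper7.ReeTor

/-- In the small Ree group ²G₂(q), q = 3^(2m+1) with m ≥ 1, realised as G¹ inside the Chevalley group G₂ over the field with q elements (θ the 3^m-th power map), with `r = 3^(m+1)`: a natural number is the order of an element of `G¹` iff it divides one of `6`, `9`, `q - 1`, `(q + 1)/2`, `q - r + 1`, `q + r + 1`. -/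
theorem result {K : Type*} [Field K] [Fintype K] {m : ℕ} (hm : 1 ≤ m) (hK : Fintype.card K = 3 ^ (2 * m + 1)) (d : ℕ) :
    (∃ g : ↥(Cfsg.Lie.twistedG2 K (3 ^ m)), orderOf g = d) ↔
      (d ∣ 6 ∨ d ∣ 9 ∨ d ∣ 3 ^ (2 * m + 1) - 1 ∨ d ∣ (3 ^ (2 * m + 1) + 1) / 2 ∨
        d ∣ 3 ^ (2 * m + 1) - 3 ^ (m + 1) + 1 ∨ d ∣ 3 ^ (2 * m + 1) + 3 ^ (m + 1) + 1) := by
  haveI := charP_three_of_card (by omega) hK
  have hr : (3 ^ (m + 1)) ^ 2 = 3 * Fintype.card K := by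
    rw [hK, ← pow_mul, ← pow_succ']
    congr 1
    ring
  rw [← hK]
  constructor
  · rintro ⟨g, rfl⟩
    exact orderOf_dvd_cases hK hm _ hr g
  · obtain ⟨⟨g1, h1⟩, ⟨g2, h2⟩, ⟨g3, h3⟩, ⟨g4, h4⟩, ⟨g5, h5⟩, ⟨g6, h6⟩⟩ := exists_orders hK hm _ hr
    rintro (h | h | h | h | h | h)
    · exact exists_orderOf_of_dvd h1 h
    · exact exists_orderOf_of_dvd h2 h
    · exact exists_orderOf_of_dvd h3 h
    · exact exists_orderOf_of_dvd h4 h
    · exact exists_orderOf_of_dvd h5 h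
    · exact exists_orderOf_of_dvd h6 h

end Cfsg.Agent.S1159
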