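import Cfsg.Statements.S1163
import Cfsg.Agent.Helper7.SzLie
import Cfsg.Agent.Helper7.SzSetup
import Cfsg.Agent.S0330

set_option autoImplicit false
open Cfsg

namespace Cfsg.Agent.S1163

/-- For the Suzuki group Sz(q), q = 2^(2m+1) ≥ 8, realised as the elements g of Sp₄(F) with g* = g^θ (θ the 2^(m+1)-th power map, so that θ² is squaring): `|Sz(q)| = q² (q - 1) (q² + 1)`, and there is a Sylow 2-subgroup `S` whose normaliser `H` has order `q²(q-1)` and index `q² + 1`, the action of `Sz(q)` on the cosets of `H` is doubly transitive, and `S` acts regularly on the cosets other than `H` itself. -/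
theorem result {F : Type*} [Field F] [Fintype F] {m : ℕ} (hm : 1 ≤ m) (hF : Fintype.card F = 2 ^ (2 * m + 1)) :
    Nat.card ↥(Cfsg.Lie.Sz F (2 ^ (m + 1))) = (2 ^ (2 * m + 1)) ^ 2 * (2 ^ (2 * m + 1) - 1) * ((2 ^ (2 * m + 1)) ^ 2 + 1) ∧
    ∃ S : Sylow 2 ↥(Cfsg.Lie.Sz F (2 ^ (m + 1))),
      Nat.card (Subgroup.normalizer ((S : Subgroup ↥(Cfsg.Lie.Sz F (2 ^ (m + 1)))) : Set ↥(Cfsg.Lie.Sz F (2 ^ (m + 1))))) = (2 ^ (2 * m + 1)) ^ 2 * (2 ^ (2 * m + 1) - 1) ∧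
      (Subgroup.normalizer ((S : Subgroup ↥(Cfsg.Lie.Sz F (2 ^ (m + 1)))) : Set ↥(Cfsg.Lie.Sz F (2 ^ (m + 1))))).index = (2 ^ (2 * m + 1)) ^ 2 + 1 ∧
      MulAction.IsMultiplyPretransitive ↥(Cfsg.Lie.Sz F (2 ^ (m + 1))) (↥(Cfsg.Lie.Sz F (2 ^ (m + 1))) ⧸ Subgroup.normalizer ((S : Subgroup ↥(Cfsg.Lie.Sz F (2 ^ (m + 1)))) : Set ↥(Cfsg.Lie.Sz F (2 ^ (m + 1))))) 2 ∧
      ∀ x y : ↥(Cfsg.Lie.Sz F (2 ^ (m + 1))) ⧸ Subgroup.normalizer ((S : Subgroup ↥(Cfsg.Lie.Sz F (2 ^ (m + 1)))) : Set ↥(Cfsg.Lie.Sz F (2 ^ (m + 1)))),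
        x ≠ (QuotientGroup.mk 1) → y ≠ (QuotientGroup.mk 1) → ∃! s : ↥(S : Subgroup ↥(Cfsg.Lie.Sz F (2 ^ (m + 1)))), (s : ↥(Cfsg.Lie.Sz F (2 ^ (m + 1)))) • x = y := by
  have h : Cfsg.Agent.Helper7.Sz.FH F m := ⟨hm, hF⟩
  let e := Cfsg.Agent.Helper7.SzLie.lieEquiv h
  let _ : MulAction ↥(Cfsg.Lie.Sz F (2 ^ (m + 1))) (Cfsg.suzukiOvoid F m) :=
    MulAction.compHom _ (e.symm : ↥(Cfsg.Lie.Sz F (2 ^ (m + 1))) →* Cfsg.Sz F m)
  have hS' := (Cfsg.Agent.Helper7.Sz.setup h).transport e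
  have hcardG : Nat.card ↥(Cfsg.Lie.Sz F (2 ^ (m + 1))) =
      2 ^ (2 * m + 1) * (2 ^ (2 * m + 1) * (2 ^ (2 * m + 1) - 1)) * ((2 ^ (2 * m + 1)) ^ 2 + 1) := by
    rw [← Nat.card_congr e.toEquiv, Cfsg.Agent.Helper7.Sz.card_Sz h, hF]
  have hcardU : Nat.card ((Cfsg.Agent.Helper7.Sz.Usub h).map e.toMonoidHom) =
      2 ^ (Nat.card ↥(Cfsg.Lie.Sz F (2 ^ (m + 1)))).factorization 2 := by
    rw [Subgroup.card_map_of_injective e.injective, Cfsg.Agent.Helper7.Sz.card_Usub h, hcardG, hF,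
      Cfsg.Agent.S0330.factorization_two, pow_mul' 2 2, pow_two]
  obtain ⟨S, -, hN, h2t, hreg⟩ := hS'.main hcardU
  have hcardN : Nat.card (Subgroup.normalizer ((S : Subgroup ↥(Cfsg.Lie.Sz F (2 ^ (m + 1)))) :
      Set ↥(Cfsg.Lie.Sz F (2 ^ (m + 1))))) = (2 ^ (2 * m + 1)) ^ 2 * (2 ^ (2 * m + 1) - 1) := by
    rw [hN, Cfsg.Agent.Helper7.TwoTransSylow.stabilizer_compHom,
      Subgroup.card_map_of_injective e.injective, Cfsg.Agent.Helper7.Sz.stabilizer_ωinf,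
      Cfsg.Agent.Helper7.Sz.card_stabInf h, hF]
    ring
  refine ⟨?_, S, hcardN, ?_, h2t, hreg⟩
  · rw [hcardG]
    ring
  · have h1 := Subgroup.card_mul_index (Subgroup.normalizer ((S : Subgroup ↥(Cfsg.Lie.Sz F (2 ^ (m + 1)))) :
      Set ↥(Cfsg.Lie.Sz F (2 ^ (m + 1)))))
    rw [hcardN, hcardG] at h1
    have hpos : 0 < (2 ^ (2 * m + 1)) ^ 2 * (2 ^ (2 * m + 1) - 1) := by
      have : 2 ≤ 2 ^ (2 * m + 1) := by
        calc 2 = 2 ^ 1 := (pow_one 2).symm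
          _ ≤ 2 ^ (2 * m + 1) := Nat.pow_le_pow_right (by norm_num) (by omega)
      have h3 : 0 < 2 ^ (2 * m + 1) - 1 := by omega
      positivity
    apply Nat.eq_of_mul_eq_mul_left hpos
    rw [h1]
    ring

end Cfsg.Agent.S1163
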