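import Mathlib
import Cfsg.Statements.S1166
import Cfsg.Agent.Helper7.RankOneCanonical
import Cfsg.Agent.Helper7.RankOneSetup3

set_option autoImplicit false
open Cfsg

namespace Cfsg.Agent.S1166

/-- In the rank-one set-up (`G` finite and doubly transitive on `Ω`, `t` an involution moving `a`, `Q` normal in `G_a` with `G_a = Q D`, `Q ⊓ D = 1` for the two-point stabiliser `D = G_a ⊓ G_{t • a}`, `|Q|` even, `|D|` odd), with `t x t = g_x h_x t f_x` and `t y t = g_y h_y t f_y` (`g, f ∈ Q`, `h ∈ D`) for `x, y ∈ Q ∖ 1` with `x y ≠ 1`: then `z = f_x g_y ≠ 1`, and if `t z t = g_z h_z t f_z` and `t (x y) t = g' h' t f'` then `f' = (t h_y t)⁻¹ f_z (t h_y t) f_y` and `h' = h_x h_z h_y` (H6). -/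
theorem result {G Ω : Type*} [Group G] [Finite G] [MulAction G Ω] {a : Ω} {t : G} {Q : Subgroup G}
    (hS : Cfsg.IsRankOneSetup G Ω a t Q)
    (x y gx hx fx gy hy fy : G) (hxQ : x ∈ Q) (hx1 : x ≠ 1) (hyQ : y ∈ Q) (hy1 : y ≠ 1) (hxy : x * y ≠ 1)
    (hgx : gx ∈ Q) (hhx : hx ∈ (MulAction.stabilizer G a ⊓ MulAction.stabilizer G (t • a))) (hfx : fx ∈ Q) (ex : t * x * t = gx * hx * t * fx)
    (hgy : gy ∈ Q) (hhy : hy ∈ (MulAction.stabilizer G a ⊓ MulAction.stabilizer G (t • a))) (hfy : fy ∈ Q) (ey : t * y * t = gy * hy * t * fy) :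
    fx * gy ≠ 1 ∧
      ∀ gz hz fz g' h' f' : G, gz ∈ Q → hz ∈ (MulAction.stabilizer G a ⊓ MulAction.stabilizer G (t • a)) → fz ∈ Q → t * (fx * gy) * t = gz * hz * t * fz →
        g' ∈ Q → h' ∈ (MulAction.stabilizer G a ⊓ MulAction.stabilizer G (t • a)) → f' ∈ Q → t * (x * y) * t = g' * h' * t * f' →
          f' = (t * hy * t)⁻¹ * fz * (t * hy * t) * fy ∧ h' = hx * hz * hy := by
  have ht2 := hS.mul_self
  have htinv := Cfsg.Agent.Helper7.ROS.t_inv hS
  have htt := Cfsg.Agent.Helper7.ROS.t_mul_t_mul hS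
  have hxe : x = t * (gx * hx * t * fx) * t := by
    rw [← ex]
    simp only [mul_assoc, htt, ht2, mul_one]
  have hye : y = t * (gy * hy * t * fy) * t := by
    rw [← ey]
    simp only [mul_assoc, htt, ht2, mul_one]
  have hprod : t * (x * y) * t = gx * hx * t * (fx * gy) * hy * t * fy := by
    rw [hxe, hye]
    simp only [mul_assoc, htt, ht2, mul_one]
  have hz1 : fx * gy ≠ 1 := by
    intro hz
    rw [hz, mul_one] at hprod
    -- the right side fixes `a`
    have hfix : (gx * hx * t * hy * t * fy) • a = a := by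
      have h1 : hy • t • a = t • a := MulAction.mem_stabilizer_iff.mp hhy.2
      have h2 : hx • a = a := MulAction.mem_stabilizer_iff.mp hhx.1
      simp only [mul_smul]
      rw [Cfsg.Agent.Helper7.ROS.Q_smul_a hS hfy, h1, Cfsg.Agent.Helper7.ROS.t_smul_t_smul hS, h2,
        Cfsg.Agent.Helper7.ROS.Q_smul_a hS hgx]
    rw [← hprod, mul_smul, mul_smul] at hfix
    have h3 : (x * y) • t • a = t • a := by
      have := congrArg (fun z => t • z) hfix
      beta_reduce at this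
      rw [Cfsg.Agent.Helper7.ROS.t_smul_t_smul hS] at this
      exact this
    have h4 : (x * y) • t • a = (1 : G) • t • a := by rw [one_smul]; exact h3
    exact hxy (Cfsg.Agent.Helper7.ROS.Q_eq_of_smul_eq hS (Q.mul_mem hxQ hyQ) Q.one_mem
      (Cfsg.Agent.Helper7.ROS.b_ne_a hS) h4)
  refine ⟨hz1, ?_⟩
  intro gz hz fz g' h' f' hgz hhz hfz ez hg' hh' hf' e'
  have hgye : gy = fx⁻¹ * (t * (gz * hz * t * fz) * t) := by
    rw [← ez]
    simp only [mul_assoc, htt, ht2, mul_one, inv_mul_cancel_left]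
  have hhy' := Cfsg.Agent.Helper7.ROS.tconj_mem_D' hS hhy
  have e'' : g' * h' * t * f' = (gx * (hx * gz * hx⁻¹)) * (hx * hz * hy) * t *
      ((t * hy * t)⁻¹ * fz * (t * hy * t) * fy) := by
    rw [← e', hprod, hgye]
    simp only [mul_assoc, mul_inv_rev, inv_inv, htinv, htt, ht2, mul_one, one_mul,
      inv_mul_cancel_left, mul_inv_cancel_left, inv_mul_cancel, mul_inv_cancel]
  obtain ⟨_, e2, e3⟩ := Cfsg.Agent.Helper7.ROS.canonical_unique hS hg' hh' hf'
    (Q.mul_mem hgx (hS.conj_mem hx hhx.1 gz hgz))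
    (Subgroup.mul_mem _ (Subgroup.mul_mem _ hhx hhz) hhy)
    (Q.mul_mem (Cfsg.Agent.Helper7.ROS.conj_mem' hS hhy'.1 hfz) hfy) e''
  exact ⟨e3, e2⟩

end Cfsg.Agent.S1166
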