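import Cfsg.Statements.S1168
import Cfsg.Agent.Helper7.AutSpan

set_option autoImplicit false
open Cfsg

namespace Cfsg.Agent.S1168

open Cfsg.Agent.Helper7.AutSpan

variable {F : Type*} [Field F] [Fintype (F ≃+* F)]

/-- The bilinear map with given coefficients. -/
def bil (e : (F ≃+* F) × (F ≃+* F) → F) (x y : F) : F :=
  ∑ q : (F ≃+* F) × (F ≃+* F), e q * (q.1 x * q.2 y)

theorem bil_unique {e e' : (F ≃+* F) × (F ≃+* F) → F} (h : ∀ x y, bil e x y = bil e' x y) :
    e = e' := by
  have key : ∀ (e : (F ≃+* F) × (F ≃+* F) → F) (x y : F),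
      bil e x y = ∑ τ : F ≃+* F, (∑ σ : F ≃+* F, e (σ, τ) * σ x) * τ y := by
    intro e x y
    unfold bil
    rw [Fintype.sum_prod_type_right]
    refine Finset.sum_congr rfl fun τ _ => ?_
    rw [Finset.sum_mul]
    refine Finset.sum_congr rfl fun σ _ => ?_
    ring
  have h1 : ∀ x, (fun τ : F ≃+* F => ∑ σ : F ≃+* F, e (σ, τ) * σ x) =
      fun τ => ∑ σ : F ≃+* F, e' (σ, τ) * σ x := by
    intro x
    apply coeff_unique
    intro y
    rw [← key, ← key, h]
  funext ⟨σ, τ⟩
  have h2 : (fun σ : F ≃+* F => e (σ, τ)) = fun σ => e' (σ, τ) := by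
    apply coeff_unique
    intro x
    exact congrFun (h1 x) τ
  exact congrFun h2 σ

theorem bil_swap (e : (F ≃+* F) × (F ≃+* F) → F) (x y : F) :
    bil e y x = bil (fun q => e q.swap) x y := by
  unfold bil
  rw [← Equiv.sum_comp (Equiv.prodComm (F ≃+* F) (F ≃+* F))]
  refine Finset.sum_congr rfl fun q _ => ?_
  simp only [Equiv.prodComm_apply, Prod.fst_swap, Prod.snd_swap]
  ring

theorem bil_add (e e' : (F ≃+* F) × (F ≃+* F) → F) (x y : F) :
    bil (fun q => e q + e' q) x y = bil e x y + bil e' x y := by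
  unfold bil
  rw [← Finset.sum_add_distrib]
  refine Finset.sum_congr rfl fun q _ => ?_
  ring

theorem quad_add (e : (F ≃+* F) × (F ≃+* F) → F) (x y : F) :
    bil e (x + y) (x + y) = bil e x x + bil e y y + bil e x y + bil e y x := by
  unfold bil
  rw [← Finset.sum_add_distrib, ← Finset.sum_add_distrib, ← Finset.sum_add_distrib]
  refine Finset.sum_congr rfl fun q _ => ?_
  rw [map_add, map_add]
  ring

theorem bil_zero (e : (F ≃+* F) × (F ≃+* F) → F) : bil e 0 0 = 0 := by
  unfold bil
  apply Finset.sum_eq_zero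
  intro q _
  rw [map_zero, zero_mul, mul_zero]

theorem bil_diag [DecidableEq (F ≃+* F)] (g : (F ≃+* F) → F) (x y : F) :
    bil (fun q => if q.1 = q.2 then g q.1 else 0) x y = ∑ σ : F ≃+* F, g σ * (σ x * σ y) := by
  unfold bil
  rw [Fintype.sum_prod_type]
  refine Finset.sum_congr rfl fun σ _ => ?_
  rw [Finset.sum_eq_single σ]
  · simp
  · intro τ _ hτ
    simp only
    rw [if_neg (Ne.symm hτ), zero_mul]
  · intro h
    exact absurd (Finset.mem_univ σ) h

end Cfsg.Agent.S1168

namespace Cfsg.Agent.S1168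

open Cfsg.Agent.Helper7.AutSpan in
/-- For a finite field `F` of characteristic 2: if `q : F → F` is quadratic over the prime field, i.e. `(x, y) ↦ q (x + y) + q x + q y` is additive in each variable, then `q x = Σ c_{σ,τ} σ(x) τ(x)` for some coefficients indexed by pairs of field automorphisms. -/
theorem result {F : Type*} [Field F] [Fintype F] [CharP F 2]
    (q : F → F)
    (hq : ∀ x y z : F, q (x + y + z) + q (x + y) + q (x + z) + q (y + z) + q x + q y + q z = 0) :
    ∃ (s : Finset ((F ≃+* F) × (F ≃+* F))) (c : (F ≃+* F) × (F ≃+* F) → F),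
      ∀ x : F, q x = ∑ p ∈ s, c p * (p.1 x * p.2 x) := by
  classical
  have : Fact (Nat.Prime 2) := ⟨Nat.prime_two⟩
  have : Finite (F ≃+* F) := finite_aut
  have : Fintype (F ≃+* F) := Fintype.ofFinite _
  have h2 : (2 : F) = 0 := CharTwo.two_eq_zero
  have hadd2 : ∀ a : F, a + a = 0 := CharTwo.add_self_eq_zero
  have hq0 : q 0 = 0 := by
    have := hq 0 0 0
    simp only [add_zero] at this
    linear_combination this - 3 * q 0 * h2
  -- the polar form
  let P : F → F → F := fun x y => q (x + y) + q x + q y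
  have hPadd : ∀ x y z, P x (y + z) = P x y + P x z := by
    intro x y z
    have := hq x y z
    simp only [P]
    rw [← add_assoc]
    linear_combination this - (q (x + y) + q (x + z) + q x + q y + q z) * h2
  have hPsymm : ∀ x y, P x y = P y x := by
    intro x y
    simp only [P]
    rw [add_comm x y]
    ring
  let B : F →+ F →+ F := AddMonoidHom.mk' (fun x => AddMonoidHom.mk' (P x) (hPadd x)) (by
    intro x x'
    ext y
    simp only [AddMonoidHom.mk'_apply, AddMonoidHom.add_apply]
    rw [hPsymm, hPadd, hPsymm y x, hPsymm y x'])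
  obtain ⟨d, hd⟩ := exists_coeff₂ 2 B
  have hd' : ∀ x y, P x y = bil d x y := hd
  have hdsymm : ∀ p : (F ≃+* F) × (F ≃+* F), d p.swap = d p := by
    have h1 : (fun p : (F ≃+* F) × (F ≃+* F) => d p.swap) = d := by
      apply bil_unique
      intro x y
      rw [← bil_swap, ← hd', ← hd', hPsymm]
    intro p
    exact congrFun h1 p
  -- an order on the automorphisms
  let ι := Fintype.equivFin (F ≃+* F)
  let u : (F ≃+* F) × (F ≃+* F) → F := fun p => if ι p.1 < ι p.2 then d p else 0
  have hsum : ∀ p : (F ≃+* F) × (F ≃+* F),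
      d p + (u p + u p.swap) = if p.1 = p.2 then d (p.1, p.1) else 0 := by
    rintro ⟨σ, τ⟩
    simp only [u, Prod.swap_prod_mk]
    by_cases h : σ = τ
    · subst h
      simp
    · rw [if_neg h]
      rcases lt_or_gt_of_ne (fun hh => h (ι.injective hh)) with hlt | hgt
      · rw [if_pos hlt, if_neg (not_lt.2 hlt.le), add_zero, hadd2]
      · rw [if_neg (not_lt.2 hgt.le), if_pos hgt, zero_add]
        have h3 := hdsymm (σ, τ)
        simp only [Prod.swap_prod_mk] at h3
        rw [h3, hadd2]
  let r : F → F := fun x => q x + bil u x x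
  have hr0 : r 0 = 0 := by
    simp only [r]
    rw [hq0, bil_zero, add_zero]
  have hpolar : ∀ x y, r (x + y) + r x + r y = ∑ σ : F ≃+* F, d (σ, σ) * (σ x * σ y) := by
    intro x y
    rw [← bil_diag (fun σ => d (σ, σ))]
    have h1 : (fun p : (F ≃+* F) × (F ≃+* F) => if p.1 = p.2 then d (p.1, p.1) else 0) =
        fun p => d p + (u p + u p.swap) := by
      funext p
      rw [hsum]
    rw [h1, bil_add, bil_add, ← bil_swap, ← hd']
    simp only [r, P]
    rw [quad_add]
    linear_combination (bil u x x + bil u y y) * h2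
  -- the Frobenius map
  let φ : F ≃+* F := frobeniusEquiv F 2
  have hφ : ∀ (σ : F ≃+* F) (x : F), (σ * φ) x = σ x * σ x := by
    intro σ x
    change σ (frobenius F 2 x) = _
    rw [frobenius_def, map_pow, sq]
  have hdiag : ∀ σ : F ≃+* F, d (σ, σ) = 0 := by
    have h1 : ∀ x, ∑ ρ : F ≃+* F, d (ρ * φ⁻¹, ρ * φ⁻¹) * ρ x = ∑ ρ : F ≃+* F, (0 : F) * ρ x := by
      intro x
      rw [← Equiv.sum_comp (Equiv.mulRight φ)]
      simp only [Equiv.coe_mulRight, mul_inv_cancel_right, hφ, zero_mul, Finset.sum_const_zero]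
      rw [← hpolar x x, hadd2 x, hr0, zero_add, hadd2]
    have h3 := coeff_unique h1
    intro σ
    have h4 := congrFun h3 (σ * φ)
    simpa using h4
  have hradd : ∀ x y, r (x + y) = r x + r y := by
    intro x y
    have h := hpolar x y
    simp only [hdiag, zero_mul, Finset.sum_const_zero] at h
    linear_combination h - (r x + r y) * h2
  obtain ⟨b, hb⟩ := exists_coeff 2 (AddMonoidHom.mk' r hradd)
  have hb' : ∀ x, r x = ∑ σ : F ≃+* F, b (σ * φ) * (σ x * σ x) := by
    intro x
    have h1 := hb x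
    rw [AddMonoidHom.mk'_apply] at h1
    rw [h1, ← Equiv.sum_comp (Equiv.mulRight φ)]
    simp only [Equiv.coe_mulRight, hφ]
  refine ⟨Finset.univ, fun p => u p + (if p.1 = p.2 then b (p.1 * φ) else 0), fun x => ?_⟩
  have h1 : q x = r x + bil u x x := by
    simp only [r]
    linear_combination (-(bil u x x)) * h2
  have h3 := bil_add u (fun p => if p.1 = p.2 then b (p.1 * φ) else 0) x x
  rw [bil_diag (fun σ => b (σ * φ)), ← hb'] at h3
  rw [h1, add_comm, ← h3]
  rfl

end Cfsg.Agent.S1168
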