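import Mathlib
import Cfsg.Statements.S1177
import Cfsg.Agent.Helper2.Conj

set_option autoImplicit false
open Cfsg

namespace Cfsg.Agent.S1177

open Cfsg.Agent.Helper2

/-- Let A be a nontrivial elementary abelian 2-subgroup of a finite group G which is a T.I. set (each conjugate of A meets A trivially or equals A) and which does not commute elementwise with any conjugate of A other than A itself. Then for every a ∈ A, a ≠ 1, every conjugate of A contained in C_G(a) is equal to A (A is weakly closed in C_G(a)). -/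
theorem result {G : Type*} [Group G] [Finite G] (A : Subgroup G) (hA : Cfsg.IsElementaryAbelian 2 A) (hA1 : A ≠ ⊥) (hTI : ∀ g : G, A.map (MulAut.conj g).toMonoidHom ⊓ A = ⊥ ∨ A.map (MulAut.conj g).toMonoidHom = A) (hb : ∀ g : G, (∀ a ∈ A, ∀ b ∈ A.map (MulAut.conj g).toMonoidHom, a * b = b * a) → A.map (MulAut.conj g).toMonoidHom = A) (a : G) (ha : a ∈ A) (ha1 : a ≠ 1) (g : G) (hg : A.map (MulAut.conj g).toMonoidHom ≤ Subgroup.centralizer ({a} : Set G)) : A.map (MulAut.conj g).toMonoidHom = A := by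
  by_contra hne
  have hAB : cj g A ⊓ A = ⊥ := (hTI g).resolve_right hne
  have hnorm : ∀ b ∈ cj g A, cj b A = A := by
    intro b hb'
    rcases hTI b with h | h
    · exfalso
      have hb_c : b ∈ Subgroup.centralizer ({a} : Set G) := hg hb'
      rw [Subgroup.mem_centralizer_singleton_iff] at hb_c
      have : a ∈ cj b A ⊓ A := by
        refine Subgroup.mem_inf.mpr ⟨?_, ha⟩
        rw [mem_cj_iff, mul_assoc, ← hb_c, inv_mul_cancel_left]
        exact ha
      rw [h, Subgroup.mem_bot] at this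
      exact ha1 this
    · exact h
  have hex : ∃ a' ∈ A, ∃ b0 ∈ cj g A, a' * b0 ≠ b0 * a' := by
    by_contra hcon
    push Not at hcon
    exact hne (hb g hcon)
  obtain ⟨a', ha', b0, hb0, hab0⟩ := hex
  have hfree : ∀ b ∈ cj g A, b * a' = a' * b → b = 1 := by
    intro b hbB hcomm
    by_contra hb1
    have hTIB : cj a' (cj g A) = cj g A := by
      rcases hTI (g⁻¹ * a' * g) with h | h
      · exfalso
        have hmem : g⁻¹ * b * g ∈ cj (g⁻¹ * a' * g) A ⊓ A := by
          refine Subgroup.mem_inf.mpr ⟨?_, (mem_cj_iff A g b).mp hbB⟩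
          rw [mem_cj_iff]
          have e : (g⁻¹ * a' * g)⁻¹ * (g⁻¹ * b * g) * (g⁻¹ * a' * g) = g⁻¹ * (a'⁻¹ * (b * a')) * g := by group
          rw [e, hcomm, inv_mul_cancel_left]
          exact (mem_cj_iff A g b).mp hbB
        rw [h, Subgroup.mem_bot] at hmem
        apply hb1
        calc b = g * (g⁻¹ * b * g) * g⁻¹ := by group
          _ = 1 := by rw [hmem]; group
      · rw [cj_cj]
        have := congrArg (cj g) h
        rw [cj_cj] at this
        have e : g * (g⁻¹ * a' * g) = a' * g := by group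
        rw [e] at this; exact this
    apply hab0
    have h1 : a' * b0 * a'⁻¹ ∈ cj g A := by rw [← hTIB]; exact conj_mem_cj _ _ _ hb0
    have h2 : b0 * a'⁻¹ * b0⁻¹ ∈ A := by
      have := conj_mem_cj A b0 a'⁻¹ (A.inv_mem ha'); rw [hnorm b0 hb0] at this; exact this
    have h3 : a' * b0 * a'⁻¹ * b0⁻¹ ∈ cj g A ⊓ A := Subgroup.mem_inf.mpr ⟨(cj g A).mul_mem h1 ((cj g A).inv_mem hb0), by
      have := A.mul_mem ha' h2
      simpa [mul_assoc] using this⟩
    rw [hAB, Subgroup.mem_bot] at h3
    calc a' * b0 = (a' * b0 * a'⁻¹ * b0⁻¹) * (b0 * a') := by group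
      _ = b0 * a' := by rw [h3, one_mul]
  have ha'1 : a' ≠ 1 := by rintro rfl; apply hab0; simp
  let f : cj g A → A := fun b => ⟨b.1 * a' * b.1⁻¹, by
    have := conj_mem_cj A b.1 a' ha'; rw [hnorm b.1 b.2] at this; exact this⟩
  have hf : Function.Injective f := by
    intro b b' hbb
    have h : b.1 * a' * b.1⁻¹ = b'.1 * a' * b'.1⁻¹ := congrArg Subtype.val hbb
    have hc : (b'.1⁻¹ * b.1) * a' = a' * (b'.1⁻¹ * b.1) := by
      calc (b'.1⁻¹ * b.1) * a' = b'.1⁻¹ * (b.1 * a' * b.1⁻¹) * b.1 := by group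
        _ = b'.1⁻¹ * (b'.1 * a' * b'.1⁻¹) * b.1 := by rw [h]
        _ = a' * (b'.1⁻¹ * b.1) := by group
    have := hfree _ ((cj g A).mul_mem ((cj g A).inv_mem b'.2) b.2) hc
    apply Subtype.ext
    exact (inv_mul_eq_one.mp this).symm
  have heq : Nat.card (cj g A) = Nat.card A := Subgroup.card_map_of_injective (MulAut.conj g).injective
  have hbij := hf.bijective_of_nat_card_le heq.ge
  obtain ⟨b, hb'⟩ := hbij.2 1
  have h : b.1 * a' * b.1⁻¹ = 1 := congrArg Subtype.val hb'
  apply ha'1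
  calc a' = b.1⁻¹ * (b.1 * a' * b.1⁻¹) * b.1 := by group
    _ = 1 := by rw [h]; group

end Cfsg.Agent.S1177
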