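import Mathlib
import Cfsg.Statements.S1178
import Cfsg.Agent.Helper2.Conj

set_option autoImplicit false
open Cfsg

namespace Cfsg.Agent.S1178

open Cfsg.Agent.Helper2

/-- Let A be a subgroup of a Sylow 2-subgroup S of the finite group G which is weakly closed in S. If a conjugate g A g⁻¹ commutes elementwise with A, then g A g⁻¹ = A. -/
theorem result {G : Type*} [Group G] [Finite G] (S : Sylow 2 G) (A : Subgroup G) (hW : Cfsg.IsWeaklyClosed A (S : Subgroup G)) (g : G) (hc : ∀ a ∈ A, ∀ b ∈ A.map (MulAut.conj g).toMonoidHom, a * b = b * a) : A.map (MulAut.conj g).toMonoidHom = A := by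
  have : Fact (Nat.Prime 2) := ⟨Nat.prime_two⟩
  -- apply the fusion lemma with C = centralizer of A
  have hA2 : IsPGroup 2 A := S.isPGroup'.to_le hW.1
  -- A ⊔ cj g A is a 2-group
  have hle : A ≤ Subgroup.normalizer ((cj g A : Subgroup G) : Set G) := by
    intro a ha
    rw [Subgroup.mem_normalizer_iff]
    intro b
    constructor
    · intro hb
      have := hc a ha b hb
      have e : a * b * a⁻¹ = b := by rw [this]; group
      rw [e]; exact hb
    · intro hb
      have := hc a ha _ hb
      -- a * (a b a⁻¹) = (a b a⁻¹) * a → b = a b a⁻¹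
      have e : a * b * a⁻¹ = b := by
        have h2 : a * (a * b * a⁻¹) = a * b := by rw [this]; group
        exact mul_left_cancel h2
      rw [← e]; exact hb
  have hK : IsPGroup 2 (A ⊔ cj g A : Subgroup G) :=
    IsPGroup.to_sup_of_normal_right' hA2 (isPGroup_cj hA2 g) hle
  obtain ⟨x, hx⟩ := exists_cj_le_sylow S _ hK
  have e1 : cj x A = A := hW.2 x (le_trans (cj_mono le_sup_left x) hx)
  have e2 : cj (x * g) A = A := by
    apply hW.2
    have := le_trans (cj_mono (le_sup_right : cj g A ≤ A ⊔ cj g A) x) hx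
    rw [cj_cj] at this
    exact this
  have e3 : cj x⁻¹ A = A := cj_eq_of_cj_inv_eq e1
  calc cj g A = cj (x⁻¹ * (x * g)) A := by congr 1; group
    _ = cj x⁻¹ (cj (x * g) A) := (cj_cj _ _ _).symm
    _ = A := by rw [e2, e3]

end Cfsg.Agent.S1178
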