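import Mathlib
import Cfsg.Statements.S1184
import Cfsg.Agent.Helper2.Invol

set_option autoImplicit false
open Cfsg

namespace Cfsg.Agent.S1184

/-- Let z be an isolated involution of the finite group G. If s and t are distinct conjugates of z, then st does not commute with z. -/
theorem result {G : Type*} [Group G] [Finite G] (z : G) (hz : Cfsg.IsIsolatedInvolution z) (g h : G) (hne : g * z * g⁻¹ ≠ h * z * h⁻¹) : ¬ Commute (g * z * g⁻¹ * (h * z * h⁻¹)) z := by
  intro hc
  apply hne
  have hzz : z * z = 1 := Cfsg.Agent.Helper2.mul_self_of_orderOf_two hz.1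
  set s := g * z * g⁻¹ with hs
  set t := h * z * h⁻¹ with ht
  have hss : s * s = 1 := Cfsg.Agent.Helper2.conj_mul_self hzz g
  have htt : t * t = 1 := Cfsg.Agent.Helper2.conj_mul_self hzz h
  set r := s * t with hr
  -- s inverts r
  have h1 : SemiconjBy s r r⁻¹ := by
    show s * (s * t) = (s * t)⁻¹ * s
    rw [Cfsg.Agent.Helper2.inv_mul_invol hss htt, ← mul_assoc, hss, one_mul, mul_assoc, hss, mul_one]
  have h2 : SemiconjBy z r r := hc.symm
  have h3 : SemiconjBy (s * z) r r⁻¹ := h1.mul_left h2
  have h4 : SemiconjBy (s * z) r⁻¹ r := by simpa using h3.inv_right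
  have h5 : Commute ((s * z) * (s * z)) r := h4.mul_left h3
  -- s * z has odd order
  obtain ⟨k, hk⟩ := Cfsg.Agent.Helper2.odd_orderOf_mul_conj_of_isolated hz g
  have hpow : (s * z) ^ (2 * k + 1) = 1 := by
    have : (z * s) ^ (2 * k + 1) = 1 := by rw [← hk]; exact pow_orderOf_eq_one _
    rw [← Cfsg.Agent.Helper2.inv_mul_invol hzz hss, inv_pow, this, inv_one]
  have h6 : ((s * z) * (s * z)) ^ (k + 1) = s * z := by
    rw [← pow_two, ← pow_mul]
    have : 2 * (k + 1) = (2 * k + 1) + 1 := by ring
    rw [this, pow_succ, hpow, one_mul]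
  have h7 : Commute (s * z) r := by
    have := h5.pow_left (k + 1)
    rwa [h6] at this
  have h8 : Commute s r := by
    have := h7.mul_left h2
    have e : s * z * z = s := by rw [mul_assoc, hzz, mul_one]
    rwa [e] at this
  -- so r = r⁻¹
  have h9 : r * r = 1 := by
    have e1 : s * r = r⁻¹ * s := h1
    have e2 : s * r = r * s := h8.eq
    have : r⁻¹ = r := by
      have := e1.symm.trans e2
      exact mul_right_cancel this
    calc r * r = r⁻¹ * r := by rw [this]
      _ = 1 := inv_mul_cancel r
  -- r has odd order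
  have hodd : Odd (orderOf r) := by
    have hsiso := Cfsg.Agent.Helper2.isIsolated_conj hz g
    have := Cfsg.Agent.Helper2.odd_orderOf_mul_conj_of_isolated hsiso (h * g⁻¹)
    have e : (h * g⁻¹) * (g * z * g⁻¹) * (h * g⁻¹)⁻¹ = h * z * h⁻¹ := by group
    rw [e] at this
    exact this
  have hr1 : r = 1 := by
    have hd : orderOf r ∣ 2 := orderOf_dvd_of_pow_eq_one (by rw [pow_two]; exact h9)
    rcases (Nat.dvd_prime Nat.prime_two).mp hd with h1' | h2'
    · exact orderOf_eq_one_iff.mp h1'
    · rw [h2'] at hodd; exact absurd hodd (by decide)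
  -- so s = t
  have : s = t⁻¹ := eq_inv_of_mul_eq_one_left hr1
  rw [this]
  exact inv_eq_of_mul_eq_one_left htt

end Cfsg.Agent.S1184
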