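import Mathlib
import Cfsg.Statements.S1189
import Cfsg.Agent.Helper2.QD6
import Cfsg.Agent.Helper2.ClassCount

set_option autoImplicit false
open Cfsg

namespace Cfsg.Agent.S1189

open Cfsg.Agent.Helper2

/-- A quasi-dihedral 2-group has exactly two conjugacy classes of elements of order 2 and exactly two conjugacy classes of elements of order 4. -/
theorem result {S : Type*} [Group S] [Finite S] (hS : Cfsg.IsQuasiDihedral S) : Nat.card {C : ConjClasses S // ∃ t : S, orderOf t = 2 ∧ ConjClasses.mk t = C} = 2 ∧ Nat.card {C : ConjClasses S // ∃ t : S, orderOf t = 4 ∧ ConjClasses.mk t = C} = 2 := by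
    obtain ⟨d⟩ := QD.exists_dat hS
    constructor
    · apply ClassCount.card_eq_two (fun t : S => orderOf t = 2) d.z (d.b 0) d.orderOf_z
        (by have := d.orderOf_b_even 0; rwa [mul_zero] at this)
      · exact d.not_isConj_a_b _ _
      · intro t ht
        rcases (d.orderOf_eq_two_iff t).mp ht with rfl | ⟨j, rfl⟩
        · left; exact IsConj.refl _
        · right; exact d.isConj_b_even j
    · apply ClassCount.card_eq_two (fun t : S => orderOf t = 4) (d.a d.q) (d.b 1)
        ((d.orderOf_a_eq_four_iff _).mpr (Or.inl rfl))
        (by have := d.orderOf_b_odd 0; rwa [mul_zero, zero_add] at this)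
      · exact d.not_isConj_a_b _ _
      · intro t ht
        rcases d.nf' t with ⟨i, rfl⟩ | ⟨i, rfl⟩
        · left
          rcases (d.orderOf_a_eq_four_iff i).mp ht with rfl | rfl
          · exact IsConj.refl _
          · exact d.isConj_a_neg_q
        · right
          rcases d.even_or_odd i with ⟨j, rfl⟩ | ⟨j, rfl⟩
          · rw [d.orderOf_b_even] at ht; omega
          · exact d.isConj_b_odd j

end Cfsg.Agent.S1189
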