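import Mathlib
import Cfsg.Statements.S1190
import Cfsg.Agent.Helper2.QD11
import Cfsg.Agent.Helper2.SmallOrder
import Cfsg.Agent.Helper2.SylowInt

set_option autoImplicit false
open Cfsg

namespace Cfsg.Agent.S1190

open Cfsg.Agent.Helper2

/-- In a quasi-dihedral 2-group S, any two Klein four-subgroups are conjugate, and every Klein four-subgroup T satisfies C_S(T) = T and |N_S(T) : T| = 2. -/
theorem result {S : Type*} [Group S] [Finite S] (hS : Cfsg.IsQuasiDihedral S) : (∀ T₁ T₂ : Subgroup S, IsKleinFour T₁ → IsKleinFour T₂ → ∃ s : S, T₁.map (MulAut.conj s).toMonoidHom = T₂) ∧ (∀ T : Subgroup S, IsKleinFour T → Subgroup.centralizer (T : Set S) = T ∧ T.relIndex (Subgroup.normalizer (T : Set S)) = 2) := by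
    obtain ⟨d⟩ := QD.exists_dat hS
    have hfp : Fact (Nat.Prime 2) := ⟨Nat.prime_two⟩
    constructor
    · intro T₁ T₂ h1 h2
      obtain ⟨j, hj⟩ := d.klein_exists_b T₁ h1
      obtain ⟨k, hk⟩ := d.klein_exists_b T₂ h2
      have e1 := d.klein_eq_centralizer T₁ h1 j hj
      have e2 := d.klein_eq_centralizer T₂ h2 k hk
      refine ⟨d.a (d.u * (k - j)), ?_⟩
      have hconj : d.a (d.u * (k - j)) * d.b (2 * j) * (d.a (d.u * (k - j)))⁻¹ = d.b (2 * k) := by
        rw [d.b_even_conj]; congr 1; ring
      apply Subgroup.eq_of_le_of_card_ge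
      · rintro _ ⟨t, ht, rfl⟩
        rw [e2, Subgroup.mem_centralizer_iff]
        intro w hw
        rw [Set.mem_singleton_iff] at hw
        rw [hw, ← hconj]
        have htc : d.b (2 * j) * t = t * d.b (2 * j) := by
          rw [e1] at ht
          exact Subgroup.mem_centralizer_iff.mp ht _ rfl
        simp only [MulEquiv.coe_toMonoidHom, MulAut.conj_apply]
        generalize d.a (d.u * (k - j)) = s
        calc s * d.b (2 * j) * s⁻¹ * (s * t * s⁻¹) = s * (d.b (2 * j) * t) * s⁻¹ := by group
          _ = s * (t * d.b (2 * j)) * s⁻¹ := by rw [htc]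
          _ = s * t * s⁻¹ * (s * d.b (2 * j) * s⁻¹) := by group
      · rw [Subgroup.card_map_of_injective (MulAut.conj _).injective, h1.card_four, h2.card_four]
    · intro T hT
      obtain ⟨j, hj⟩ := d.klein_exists_b T hT
      have e1 := d.klein_eq_centralizer T hT j hj
      have hcomm := hT.isMulCommutative
      have hC : Subgroup.centralizer (T : Set S) = T := by
        apply le_antisymm
        · conv_rhs => rw [e1]
          exact Subgroup.centralizer_le (Set.singleton_subset_iff.mpr hj)
        · exact Subgroup.le_centralizer T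
      refine ⟨hC, ?_⟩
      have h1 := SmallOrder.relIndex_centralizer_normalizer_dvd_card_mulAut T
      rw [hC] at h1
      have h2 := SmallOrder.card_mulAut_dvd_factorial T
      rw [hT.card_four] at h2
      have h3 : T.relIndex (Subgroup.normalizer (T : Set S)) ∣ 6 := h1.trans h2
      have h4 : T.relIndex (Subgroup.normalizer (T : Set S)) ∣ 2 ^ (d.n + 1) := by
        have := (Subgroup.relIndex_dvd_card T (Subgroup.normalizer (T : Set S))).trans
          (Subgroup.card_subgroup_dvd_card _)
        rwa [d.card] at this
      have h5 : T.relIndex (Subgroup.normalizer (T : Set S)) ∣ 2 := by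
        have := Nat.dvd_gcd h3 h4
        have hg : Nat.gcd 6 (2 ^ (d.n + 1)) = 2 := by
          rw [pow_succ', show 6 = 2 * 3 from rfl, Nat.gcd_mul_left]
          have : Nat.gcd 3 (2 ^ d.n) = 1 := Nat.Coprime.pow_right _ (by decide)
          rw [this]
        rwa [hg] at this
      have h6 : T.relIndex (Subgroup.normalizer (T : Set S)) ≠ 1 := by
        intro h
        have hle := Subgroup.relIndex_eq_one.mp h
        obtain ⟨x, _, hxN, hxT⟩ := SylowInt.exists_mem_normalizer_not_mem (⊤ : Subgroup S)
          (d.isPGroup.to_subgroup ⊤) T le_top (by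
            intro htop
            have := hT.card_four
            rw [htop, Subgroup.card_top, d.card] at this
            have hn := d.hn
            have h8 : 2 ^ 4 ≤ 2 ^ (d.n + 1) := Nat.pow_le_pow_right (by norm_num) (by omega)
            omega)
        exact hxT (hle hxN)
      rcases (Nat.dvd_prime Nat.prime_two).mp h5 with h | h
      · exact absurd h h6
      · exact h

end Cfsg.Agent.S1190
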