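import Mathlib
import Cfsg.Statements.S1191
import Cfsg.Agent.Helper2.QD13

set_option autoImplicit false
open Cfsg

namespace Cfsg.Agent.S1191

open Cfsg.Agent.Helper2

/-- In a quasi-dihedral 2-group S, any two subgroups isomorphic to the quaternion group of order 8 are conjugate, and each such subgroup Q satisfies C_S(Q) = Z(Q) and |N_S(Q) : Q| = 2. -/
theorem result {S : Type*} [Group S] [Finite S] (hS : Cfsg.IsQuasiDihedral S) : (∀ Q₁ Q₂ : Subgroup S, Nonempty (Q₁ ≃* QuaternionGroup 2) → Nonempty (Q₂ ≃* QuaternionGroup 2) → ∃ s : S, Q₁.map (MulAut.conj s).toMonoidHom = Q₂) ∧ (∀ Q : Subgroup S, Nonempty (Q ≃* QuaternionGroup 2) → Subgroup.centralizer (Q : Set S) = (Subgroup.center Q).map Q.subtype ∧ Q.relIndex (Subgroup.normalizer (Q : Set S)) = 2) := by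
    obtain ⟨d⟩ := QD.exists_dat hS
    constructor
    · rintro Q₁ Q₂ ⟨e₁⟩ ⟨e₂⟩
      obtain ⟨_, j, hj⟩ := d.q8_struct Q₁ e₁
      obtain ⟨_, k, hk⟩ := d.q8_struct Q₂ e₂
      refine ⟨d.a (d.u * (k - j)), ?_⟩
      rw [d.q8_eq_sup Q₁ e₁ j hj, d.q8_eq_sup Q₂ e₂ k hk, Subgroup.map_sup, MonoidHom.map_zpowers,
        MonoidHom.map_zpowers]
      simp only [MulEquiv.coe_toMonoidHom, MulAut.conj_apply]
      rw [d.conj_a_a, d.b_even_conj]
      congr 3
      ring
    · rintro Q ⟨e⟩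
      exact ⟨by rw [d.q8_centralizer Q e, d.q8_center_map Q e], d.q8_relIndex Q e⟩

end Cfsg.Agent.S1191
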