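import Mathlib
import Cfsg.Statements.S1192
import Cfsg.Agent.Helper2.QD10

set_option autoImplicit false
open Cfsg

namespace Cfsg.Agent.S1192

open Cfsg.Agent.Helper2

/-- A quasi-dihedral group S of order 2^(n+1) has exactly three maximal subgroups; one is cyclic, one is isomorphic to the generalized quaternion group of order 2^n and one to the dihedral group of order 2^n. -/
theorem result {S : Type*} [Group S] [Finite S] (hS : Cfsg.IsQuasiDihedral S) (n : ℕ) (hn : Nat.card S = 2 ^ (n + 1)) : ∃ M₁ M₂ M₃ : Subgroup S, IsCoatom M₁ ∧ IsCoatom M₂ ∧ IsCoatom M₃ ∧ M₁ ≠ M₂ ∧ M₁ ≠ M₃ ∧ M₂ ≠ M₃ ∧ (∀ M : Subgroup S, IsCoatom M → M = M₁ ∨ M = M₂ ∨ M = M₃) ∧ IsCyclic M₁ ∧ Nonempty (M₂ ≃* QuaternionGroup (2 ^ (n - 2))) ∧ Nonempty (M₃ ≃* DihedralGroup (2 ^ (n - 1))) := by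
    obtain ⟨d⟩ := QD.exists_dat hS
    have hnd : n = d.n := by
      have h1 : 2 ^ (n + 1) = 2 ^ (d.n + 1) := by rw [← hn, d.card]
      have := Nat.pow_right_injective (le_refl 2) h1
      omega
    subst hnd
    refine ⟨Subgroup.zpowers d.x, d.Qm, d.Om, QD.isCoatom_of_index_two _ d.hidx,
      QD.isCoatom_of_index_two _ d.index_Qm, QD.isCoatom_of_index_two _ d.index_Om, ?_, ?_, ?_,
      ?_, inferInstance, d.Qm_equiv_quaternion, d.Om_equiv_dihedral⟩
    · intro h
      exact d.Qm_not_le h.ge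
    · intro h
      exact d.Om_not_le h.ge
    · intro h
      have h0 : d.b 0 ∈ d.Om := ⟨0, Or.inr (by rw [mul_zero])⟩
      rw [← h] at h0
      obtain ⟨j, hj | hj⟩ := h0
      · exact d.b_ne_a _ _ hj
      · have := d.b_inj hj
        exact d.even_ne_odd 0 j (by rw [mul_zero]; exact this)
    · intro M hM
      exact d.coatom_cases M hM

end Cfsg.Agent.S1192
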