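import Mathlib
import Cfsg.Statements.S1193
import Cfsg.Agent.Helper2.QD9
import Cfsg.Agent.Helper2.DihedralIso
import Cfsg.Agent.Helper1.PGroup

set_option autoImplicit false
open Cfsg

namespace Cfsg.Agent.S1193

open Cfsg.Agent.Helper2

/-- Let S be quasi-dihedral of order 2^(n+1). Then S' = Φ(S) is cyclic of order 2^(n-1), the centre of S has order 2, and the subgroup generated by the involutions of S is dihedral of order 2^n. -/
theorem result {S : Type*} [Group S] [Finite S] (hS : Cfsg.IsQuasiDihedral S) (n : ℕ) (hn : Nat.card S = 2 ^ (n + 1)) : commutator S = frattini S ∧ IsCyclic (commutator S) ∧ Nat.card (commutator S) = 2 ^ (n - 1) ∧ Nat.card (Subgroup.center S) = 2 ∧ Nonempty (↥(Subgroup.closure {x : S | orderOf x = 2}) ≃* DihedralGroup (2 ^ (n - 1))) := by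
    obtain ⟨d⟩ := QD.exists_dat hS
    have hfp : Fact (Nat.Prime 2) := ⟨Nat.prime_two⟩
    have hnd : n = d.n := by
      have h1 : 2 ^ (n + 1) = 2 ^ (d.n + 1) := by rw [← hn, d.card]
      have := Nat.pow_right_injective (le_refl 2) h1
      omega
    subst hnd
    have hfr : frattini S = d.D := by
      apply le_antisymm
      · rw [← d.zpowers_inf_Om]
        exact le_inf (frattini_le_coatom (QD.isCoatom_of_index_two _ d.hidx))
          (frattini_le_coatom (QD.isCoatom_of_index_two _ d.index_Om))
      · unfold QD.QDat.D
        rw [Subgroup.zpowers_le, d.a_two]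
        exact Cfsg.Agent.Helper1.IsPGroup.pow_mem_frattini d.isPGroup d.x
    refine ⟨by rw [hfr, d.commutator_eq_D], ?_, by rw [d.commutator_eq_D, d.card_D], d.card_center, ?_⟩
    · rw [d.commutator_eq_D]
      unfold QD.QDat.D
      infer_instance
    · -- the involutions generate a dihedral group
      have hb2 : d.b 2 * d.b 2 = 1 := by
        have := d.orderOf_b_even 1
        rw [mul_one] at this
        have h2 := pow_orderOf_eq_one (d.b 2)
        rwa [this, pow_two] at h2
      have hb0 : d.b 0 * d.b 0 = 1 := by
        have := d.orderOf_b_even 0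
        rw [mul_zero] at this
        have h2 := pow_orderOf_eq_one (d.b 0)
        rwa [this, pow_two] at h2
      have hb2ne : d.b 2 ≠ 1 := fun h => d.b_ne_a 2 0 (by rw [h, d.a_zero])
      have hb0ne : d.b 0 ≠ 1 := fun h => d.b_ne_a 0 0 (by rw [h, d.a_zero])
      have hprod : d.b 2 * d.b 0 = d.a 2 := by rw [d.b_mul_b, mul_zero, add_zero]
      have hord : orderOf (d.b 2 * d.b 0) = 2 ^ (d.n - 1) := by
        rw [hprod, ← Nat.card_zpowers]
        exact d.card_D
      obtain ⟨e⟩ := Cfsg.Agent.Helper2.closure_pair_invol_equiv_dihedral hb2 hb0 hb2ne hb0ne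
      rw [hord] at e
      have hcl : Subgroup.closure {x : S | orderOf x = 2} = Subgroup.closure ({d.b 2, d.b 0} : Set S) := by
        apply le_antisymm
        · rw [Subgroup.closure_le]
          intro s hs
          have ha2 : d.a 2 ∈ Subgroup.closure ({d.b 2, d.b 0} : Set S) := by
            rw [← hprod]
            exact Subgroup.mul_mem _ (Subgroup.subset_closure (by simp)) (Subgroup.subset_closure (by simp))
          have haj : ∀ j, d.a (2 * j) ∈ Subgroup.closure ({d.b 2, d.b 0} : Set S) := by
            intro j
            rw [d.a_even_eq_pow]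
            exact Subgroup.pow_mem _ ha2 _
          rcases (d.orderOf_eq_two_iff s).mp hs with rfl | ⟨j, rfl⟩
          · have : d.z = d.a (2 * d.q) := by unfold QD.QDat.z; rw [d.two_q]
            rw [this]; exact haj _
          · have : d.b (2 * j) = d.a (2 * j) * d.b 0 := by rw [d.a_mul_b, add_zero]
            rw [SetLike.mem_coe, this]
            exact Subgroup.mul_mem _ (haj j) (Subgroup.subset_closure (by simp))
        · apply Subgroup.closure_mono
          intro s hs
          simp only [Set.mem_insert_iff, Set.mem_singleton_iff] at hs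
          rcases hs with rfl | rfl
          · have := d.orderOf_b_even 1
            rwa [mul_one] at this
          · have := d.orderOf_b_even 0
            rwa [mul_zero] at this
      exact ⟨(MulEquiv.subgroupCongr hcl).trans e⟩

end Cfsg.Agent.S1193
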