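import Mathlib
import Cfsg.Statements.S1194
import Cfsg.Agent.Helper2.QD8

set_option autoImplicit false
open Cfsg

namespace Cfsg.Agent.S1194

open Cfsg.Agent.Helper2

/-- In a quasi-dihedral 2-group S, every proper normal subgroup is either a maximal subgroup or a cyclic subgroup contained in the derived subgroup S'. -/
theorem result {S : Type*} [Group S] [Finite S] (hS : Cfsg.IsQuasiDihedral S) (N : Subgroup S) [N.Normal] (hN : N ≠ ⊤) : IsCoatom N ∨ (IsCyclic N ∧ N ≤ commutator S) := by
    obtain ⟨d⟩ := QD.exists_dat hS
    by_cases hle : N ≤ Subgroup.zpowers d.x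
    · by_cases hNx : N = Subgroup.zpowers d.x
      · left
        rw [hNx]
        exact QD.isCoatom_of_index_two _ d.hidx
      · right
        constructor
        · have e := Subgroup.subgroupOfEquivOfLe hle
          exact isCyclic_of_surjective e e.surjective
        · rw [d.commutator_eq_D]
          intro s hs
          obtain ⟨i, rfl⟩ := (d.mem_zpowers_iff s).mp (hle hs)
          rcases d.even_or_odd i with ⟨j, rfl⟩ | ⟨j, rfl⟩
          · exact d.a_even_mem_D j
          · exfalso
            apply hNx
            apply le_antisymm hle
            rw [← d.zpowers_a_odd j]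
            exact Subgroup.zpowers_le.mpr hs
    · left
      obtain ⟨s, hsN, hsx⟩ := SetLike.not_le_iff_exists.mp hle
      rcases d.nf' s with ⟨i, rfl⟩ | ⟨i, rfl⟩
      · exact absurd (d.a_mem i) hsx
      · apply QD.isCoatom_of_index_two
        exact d.index_eq_two_of_D_le N hN (d.D_le_of_normal N i hsN) hle

end Cfsg.Agent.S1194
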