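import Mathlib
import Cfsg.Statements.S1195
import Cfsg.Agent.Helper2.W2
import Cfsg.Agent.Helper2.ClassCount

set_option autoImplicit false
open Cfsg

namespace Cfsg.Agent.S1195

open Cfsg.Agent.Helper2

/-- A wreathed 2-group has exactly three conjugacy classes of elements of order 2. -/
theorem result {S : Type*} [Group S] [Finite S] (hS : Cfsg.IsWreathed S) : Nat.card {C : ConjClasses S // ∃ t : S, orderOf t = 2 ∧ ConjClasses.mk t = C} = 3 := by
    obtain ⟨d⟩ := Wr.exists_dat hS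
    have hconjA : ∀ (c : S) (i j : ZMod (2 ^ d.n)), ∃ k l, c * d.A i j * c⁻¹ = d.A k l := by
      intro c i j
      rcases d.nf c with ⟨k, l, rfl⟩ | ⟨k, l, rfl⟩
      · exact ⟨i, j, d.conj_A_A k l i j⟩
      · exact ⟨j, i, d.conj_B_A k l i j⟩
    have hcent : ∀ (c : S), c * d.A d.h d.h * c⁻¹ = d.A d.h d.h := by
      intro c
      rcases d.nf c with ⟨k, l, rfl⟩ | ⟨k, l, rfl⟩
      · exact d.conj_A_A k l _ _
      · exact d.conj_B_A k l _ _
    apply ClassCount.card_eq_three (fun t => orderOf t = 2) (d.A d.h d.h) (d.A d.h 0) d.z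
    · exact (d.orderOf_A_eq_two_iff _ _).mpr (Or.inl ⟨rfl, rfl⟩)
    · exact (d.orderOf_A_eq_two_iff _ _).mpr (Or.inr (Or.inl ⟨rfl, rfl⟩))
    · exact d.hz
    · rw [isConj_iff]
      rintro ⟨c, hc⟩
      rw [hcent c] at hc
      exact d.h_ne_zero (d.A_inj hc).2
    · rw [isConj_iff]
      rintro ⟨c, hc⟩
      rw [hcent c, ← d.B_zero] at hc
      exact d.A_ne_B _ _ _ _ hc
    · rw [isConj_iff]
      rintro ⟨c, hc⟩
      obtain ⟨k, l, hkl⟩ := hconjA c d.h 0
      rw [hkl, ← d.B_zero] at hc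
      exact d.A_ne_B _ _ _ _ hc
    · intro t ht
      rcases d.nf t with ⟨i, j, rfl⟩ | ⟨i, j, rfl⟩
      · rcases (d.orderOf_A_eq_two_iff i j).mp ht with ⟨rfl, rfl⟩ | ⟨rfl, rfl⟩ | ⟨rfl, rfl⟩
        · left; exact IsConj.refl _
        · right; left; exact IsConj.refl _
        · right; left
          rw [isConj_iff]
          exact ⟨d.z, d.z_conj_A 0 d.h⟩
      · right; right
        have hij := (d.orderOf_B_eq_two_iff i j).mp ht
        rw [isConj_iff]
        refine ⟨d.A 0 i, ?_⟩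
        rw [d.conj_A_B, ← d.B_zero]
        congr 1
        · ring
        · rw [sub_zero, add_comm]; exact hij

end Cfsg.Agent.S1195
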