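import Mathlib
import Cfsg.Statements.S1196
import Cfsg.Agent.Helper2.W3

set_option autoImplicit false
open Cfsg

namespace Cfsg.Agent.S1196

open Cfsg.Agent.Helper2

/-- A wreathed 2-group S of order 2^(2n+1) has a unique commutative subgroup of order 2^(2n), and this subgroup is isomorphic to the direct product of two cyclic groups of order 2^n. -/
theorem result {S : Type*} [Group S] [Finite S] (hS : Cfsg.IsWreathed S) (n : ℕ) (hn : Nat.card S = 2 ^ (2 * n + 1)) : (∃! U : Subgroup S, IsMulCommutative U ∧ Nat.card U = 2 ^ (2 * n)) ∧ ∀ U : Subgroup S, IsMulCommutative U → Nat.card U = 2 ^ (2 * n) → Nonempty (U ≃* Multiplicative (ZMod (2 ^ n) × ZMod (2 ^ n))) := by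
    obtain ⟨d⟩ := Wr.exists_dat hS
    have hnn : n = d.n := by
      have h1 := d.card
      rw [hn] at h1
      have h2 := Nat.pow_right_injective (le_refl 2) h1
      omega
    subst hnn
    have key : ∀ V : Subgroup S, IsMulCommutative V → Nat.card V = 2 ^ (2 * d.n) → V = d.U := by
      intro V hV hc
      apply d.eq_U_of_comm V _ hc
      intro a ha b hb
      exact congrArg Subtype.val (hV.is_comm.comm ⟨a, ha⟩ ⟨b, hb⟩)
    refine ⟨⟨d.U, ⟨d.U_comm, d.card_U⟩, fun V hV => key V hV.1 hV.2⟩, ?_⟩
    intro V hV hc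
    rw [key V hV hc]
    exact d.U_equiv

end Cfsg.Agent.S1196
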