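import Mathlib
import Cfsg.Statements.S1199
import Cfsg.Agent.Helper2.W7

set_option autoImplicit false
open Cfsg

namespace Cfsg.Agent.S1199

open Cfsg.Agent.Helper2

/-- A wreathed 2-group S of order 2^(2n+1) has exactly one subgroup of order 2^(n+1) isomorphic to a generalized quaternion group, and that subgroup is normal in S. -/
theorem result {S : Type*} [Group S] [Finite S] (hS : Cfsg.IsWreathed S) (n : ℕ) (hn : Nat.card S = 2 ^ (2 * n + 1)) : (∃! Y : Subgroup S, Nat.card Y = 2 ^ (n + 1) ∧ Nonempty (Y ≃* QuaternionGroup (2 ^ (n - 1)))) ∧ ∀ Y : Subgroup S, Nat.card Y = 2 ^ (n + 1) → Nonempty (Y ≃* QuaternionGroup (2 ^ (n - 1))) → Y.Normal := by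
    obtain ⟨d⟩ := Wr.exists_dat hS
    have hnn : n = d.n := by
      have h1 := d.card
      rw [hn] at h1
      have h2 := Nat.pow_right_injective (le_refl 2) h1
      omega
    subst hnn
    refine ⟨⟨d.Y, ⟨d.card_Y, d.Y_equiv⟩, fun Y' hY' => d.eq_Y Y' hY'.1 hY'.2⟩, ?_⟩
    intro Y' h1 h2
    rw [d.eq_Y Y' h1 h2]
    exact d.Y_normal

end Cfsg.Agent.S1199
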