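import Mathlib
import Cfsg.Statements.S1201
import Cfsg.Agent.Helper2.W3

set_option autoImplicit false
open Cfsg

namespace Cfsg.Agent.S1201

open Cfsg.Agent.Helper2

/-- If X is a non-commutative subgroup of a wreathed 2-group S, then Z(X) ≤ Z(S). -/
theorem result {S : Type*} [Group S] [Finite S] (hS : Cfsg.IsWreathed S) (X : Subgroup S) (hX : ¬ IsMulCommutative X) : (Subgroup.center X).map X.subtype ≤ Subgroup.center S := by
    obtain ⟨d⟩ := Wr.exists_dat hS
    rintro _ ⟨⟨c, hcX⟩, hc, rfl⟩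
    rw [SetLike.mem_coe, Subgroup.mem_center_iff] at hc
    have hc' : ∀ a ∈ X, a * c = c * a := fun a ha => congrArg Subtype.val (hc ⟨a, ha⟩)
    change c ∈ Subgroup.center S
    by_contra hnc
    apply hX
    refine ⟨⟨fun a b => ?_⟩⟩
    apply Subtype.ext
    change a.1 * b.1 = b.1 * a.1
    have ha := hc' a.1 a.2
    have hb := hc' b.1 b.2
    obtain ⟨a', ha'⟩ : ∃ a' : S, a' = a.1 := ⟨_, rfl⟩
    obtain ⟨b', hb'⟩ : ∃ b' : S, b' = b.1 := ⟨_, rfl⟩
    rw [← ha'] at ha ⊢
    rw [← hb'] at hb ⊢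
    rcases d.nf c with ⟨i, j, rfl⟩ | ⟨i, j, rfl⟩
    · have hij : i ≠ j := by
        rintro rfl
        exact hnc (d.A_diag_mem_center i)
      rcases d.nf a' with ⟨k, l, rfl⟩ | ⟨k, l, rfl⟩
      · rcases d.nf b' with ⟨k', l', rfl⟩ | ⟨k', l', rfl⟩
        · exact d.A_comm _ _ _ _
        · exact absurd ((d.comm_A_B_iff i j k' l').mp hb.symm) hij
      · exact absurd ((d.comm_A_B_iff i j k l).mp ha.symm) hij
    · rcases d.nf a' with ⟨k, l, rfl⟩ | ⟨k, l, rfl⟩
      · have hkl := (d.comm_A_B_iff k l i j).mp ha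
        subst hkl
        exact ((Subgroup.mem_center_iff.mp (d.A_diag_mem_center k)) b').symm
      · rcases d.nf b' with ⟨k', l', rfl⟩ | ⟨k', l', rfl⟩
        · have hkl := (d.comm_A_B_iff k' l' i j).mp hb
          subst hkl
          exact (Subgroup.mem_center_iff.mp (d.A_diag_mem_center k')) _
        · have h1 := (d.comm_B_B_iff k l i j).mp ha
          have h2 := (d.comm_B_B_iff k' l' i j).mp hb
          exact (d.comm_B_B_iff k l k' l').mpr (h1.trans h2.symm)

end Cfsg.Agent.S1201
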