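import Mathlib
import Cfsg.Statements.S1202
import Cfsg.Agent.Helper2.WF16

set_option autoImplicit false
open Cfsg

namespace Cfsg.Agent.S1202

open Cfsg.Agent.Helper2

/-- Let S be a wreathed 2-group of order 2^(2n+1) and X a subgroup with C_S(X) ≤ X such that Aut(X) is not a 2-group. Then |N_S(X) : X| = 2, and either X is the commutative subgroup of order 2^(2n), or X = Q·Z(S) for some subgroup Q ≅ Q₈; in the latter case any two such subgroups are conjugate in S. -/
theorem result {S : Type*} [Group S] [Finite S] (hS : Cfsg.IsWreathed S) (n : ℕ) (hn : Nat.card S = 2 ^ (2 * n + 1)) (X : Subgroup S) (hC : Subgroup.centralizer (X : Set S) ≤ X) (hA : ¬ IsPGroup 2 (MulAut X)) : X.relIndex (Subgroup.normalizer (X : Set S)) = 2 ∧ ((IsMulCommutative X ∧ Nat.card X = 2 ^ (2 * n)) ∨ ∃ Q : Subgroup S, Nonempty (Q ≃* QuaternionGroup 2) ∧ X = Q ⊔ Subgroup.center S) ∧ ∀ X' : Subgroup S, Subgroup.centralizer (X' : Set S) ≤ X' → ¬ IsPGroup 2 (MulAut X') → ¬ IsMulCommutative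 X → ¬ IsMulCommutative X' → ∃ s : S, X.map (MulAut.conj s).toMonoidHom = X' := by
    obtain ⟨d₀⟩ := Wr.exists_dat hS
    obtain ⟨d, hd⟩ : ∃ d : Wr.WDat ↥(⊤ : Subgroup S), d.n = d₀.n := ⟨WF.topDat d₀, rfl⟩
    have hn' : n = d.n := by
      have h1 := d₀.card
      rw [hn] at h1
      have := Nat.pow_right_injective (le_refl 2) h1
      omega
    have hCof : ∀ Y : Subgroup S, Subgroup.centralizer (Y : Set S) ≤ Y →
        ∀ s ∈ (⊤ : Subgroup S), (∀ x ∈ Y, x * s = s * x) → s ∈ Y :=
      fun Y hY s _ hs => hY (Subgroup.mem_centralizer_iff.mpr hs)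
    have hcls := WF.classify' d X le_top (hCof X hC) hA
    have hUc : IsMulCommutative (WF.U' d) :=
      ⟨⟨fun x y => Subtype.ext (WF.U'_comm d _ _ x.2 y.2)⟩⟩
    refine ⟨?_, ?_, ?_⟩
    · rcases hcls with h | ⟨k, h⟩
      · rw [h]
        have h1 : Subgroup.normalizer (WF.U' d : Set S) = ⊤ := top_le_iff.mp (WF.U'_normal_in d)
        rw [h1]; exact WF.relIndex_U' d
      · rw [h]
        have := WF.relIndex_Wd d (2 * k)
        rwa [top_inf_eq] at this
    · rcases hcls with h | ⟨k, h⟩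
      · left
        rw [h]
        exact ⟨hUc, by rw [WF.card_U', hn']⟩
      · right
        obtain ⟨Q₁, -, hQ, hQW⟩ := WF.exists_quat d k
        exact ⟨Q₁, hQ, by rw [h, ← hQW, WF.Z'_top]⟩
    · intro X' hC' hA' hX hX'
      have hcls' := WF.classify' d X' le_top (hCof X' hC') hA'
      rcases hcls with h | ⟨k, h⟩
      · exfalso; apply hX; rw [h]; exact hUc
      · rcases hcls' with h' | ⟨k', h'⟩
        · exfalso; apply hX'; rw [h']; exact hUc
        · obtain ⟨s, -, hs⟩ := WF.Wd_conj d k k'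
          exact ⟨s, by rw [h, h', hs]⟩

end Cfsg.Agent.S1202
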