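import Mathlib
import Cfsg.Statements.S1204
import Cfsg.Agent.Helper2.QDF5

set_option autoImplicit false
open Cfsg

namespace Cfsg.Agent.S1204

open Cfsg.Agent.Helper2

/-- Let G be a finite group with quasi-dihedral Sylow 2-subgroup S, T a Klein four-subgroup and Q a quaternion subgroup of order 8 of S, with |N_G(T) : C_G(T)| = 6 and |N_G(Q) : Q C_G(Q)| = 6. Then G has no subgroup of index 2, exactly one conjugacy class of involutions and exactly one conjugacy class of elements of order 4. -/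
theorem result {G : Type*} [Group G] [Finite G] (S : Sylow 2 G) (hS : Cfsg.IsQuasiDihedral (S : Subgroup G)) (T : Subgroup G) (hT : IsKleinFour T) (hTS : T ≤ S) (Q : Subgroup G) (hQS : Q ≤ S) (eQ : Q ≃* QuaternionGroup 2) (h₁ : (Subgroup.centralizer (T : Set G)).relIndex (Subgroup.normalizer (T : Set G)) = 6) (h₂ : (Q ⊔ Subgroup.centralizer (Q : Set G)).relIndex (Subgroup.normalizer (Q : Set G)) = 6) : (∀ H : Subgroup G, H.index ≠ 2) ∧ Nat.card {C : ConjClasses G // ∃ t : G, orderOf t = 2 ∧ ConjClasses.mk t = C} = 1 ∧ Nat.card {C : ConjClasses G // ∃ t : G, orderOf t = 4 ∧ ConjClasses.mk t = C} = 1 := by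
    classical
    haveI : Fact (Nat.Prime 2) := ⟨Nat.prime_two⟩
    obtain ⟨d⟩ := QD.exists_dat hS
    have hF1 := QDF.F1_fusion S d T hT hTS h₁
    have hF2 := QDF.F2_fusion S d Q hQS eQ h₂
    refine ⟨?_, QDF.card_invol_classes_one S d hF1, QDF.card_four_classes_one S d hF2⟩
    intro H hH
    haveI : H.Normal := Subgroup.normal_of_index_eq_two hH
    have hZ := QDF.Z_mem_of_index_two d hH
    have hAq := QDF.A_q_mem d hH
    obtain ⟨g₁, hg₁⟩ := hF1
    obtain ⟨g₂, hg₂⟩ := hF2
    have hB0 : QDF.B d 0 ∈ H := by rw [← hg₁]; exact ‹H.Normal›.conj_mem _ hZ g₁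
    have hB1 : QDF.B d 1 ∈ H := by rw [← hg₂]; exact ‹H.Normal›.conj_mem _ hAq g₂
    have hSH : (S : Subgroup G) ≤ H := by
      apply QDF.S_le_of_B_mem d
      intro i
      rcases d.even_or_odd i with ⟨j, rfl⟩ | ⟨j, rfl⟩
      · exact (QDF.B_even_mem_iff d j).mpr hB0
      · exact (QDF.B_odd_mem_iff d j).mpr hB1
    have h6 : H.index ∣ (S : Subgroup G).index := Subgroup.index_dvd_of_le hSH
    rw [hH] at h6
    exact S.not_dvd_index h6

end Cfsg.Agent.S1204
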