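import Mathlib
import Cfsg.Statements.S1206
import Cfsg.Agent.Helper2.QDF6

set_option autoImplicit false
open Cfsg

namespace Cfsg.Agent.S1206

open Cfsg.Agent.Helper2

/-- Let G be a finite group with quasi-dihedral Sylow 2-subgroup S, T a Klein four-subgroup and Q a quaternion subgroup of order 8 of S, with |N_G(T) : C_G(T)| = 6 and |N_G(Q) : Q C_G(Q)| = 2. Then G has a normal subgroup K of index 2 whose Sylow 2-subgroups are dihedral and which has no subgroup of index 2, and G has exactly one class of involutions and two classes of elements of order 4. -/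
theorem result {G : Type*} [Group G] [Finite G] (S : Sylow 2 G) (hS : Cfsg.IsQuasiDihedral (S : Subgroup G)) (T : Subgroup G) (hT : IsKleinFour T) (hTS : T ≤ S) (Q : Subgroup G) (hQS : Q ≤ S) (eQ : Q ≃* QuaternionGroup 2) (h₁ : (Subgroup.centralizer (T : Set G)).relIndex (Subgroup.normalizer (T : Set G)) = 6) (h₂ : (Q ⊔ Subgroup.centralizer (Q : Set G)).relIndex (Subgroup.normalizer (Q : Set G)) = 2) : (∃ K : Subgroup G, K.Normal ∧ K.index = 2 ∧ (∀ P : Sylow 2 ↥K, ∃ m : ℕ, Nonempty ((P : Subgroup ↥K) ≃* DihedralGroup m)) ∧ (∀ H : Subgroup ↥K, H.index ≠ 2)) ∧ Nat.card {C : ConjClasses G // ∃ t : G, orderOf t = 2 ∧ ConjClasses.mk t = C} = 1 ∧ Nat.card {C : ConjClasses G // ∃ t : G, orderOf t = 4 ∧ ConjClasses.mk t = C} = 2 := by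
    classical
    obtain ⟨d⟩ := QD.exists_dat hS
    have hF1 := QDF.F1_fusion S d T hT hTS h₁
    have hF2 := QDF.F2_nofusion S d Q hQS eQ h₂
    obtain ⟨K, hKn, hKi, hB1⟩ := QDF.transfer_two S d hF2
    haveI := hKn
    have hB0 : QDF.B d 0 ∈ K := by
      obtain ⟨g, hg⟩ := hF1
      rw [← hg]; exact hKn.conj_mem _ (QDF.Z_mem_of_index_two d hKi) g
    refine ⟨⟨K, hKn, hKi, ?_, ?_⟩, QDF.card_invol_classes_one S d hF1,
      QDF.card_four_classes_two S d hF2⟩
    · intro P; exact ⟨2 ^ (d.n - 1), QDF.sylow_dihedral S d K hKi hB0 hB1 P⟩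
    · exact QDF.no_index_two_dihedral S d K hKi hB1 hF1

end Cfsg.Agent.S1206
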