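import Mathlib
import Cfsg.Statements.S1207
import Cfsg.Agent.Helper2.QDF7

set_option autoImplicit false
open Cfsg

namespace Cfsg.Agent.S1207

open Cfsg.Agent.Helper2

/-- Let G be a finite group with quasi-dihedral Sylow 2-subgroup S, T a Klein four-subgroup and Q a quaternion subgroup of order 8 of S, with |N_G(T) : C_G(T)| = 2 and |N_G(Q) : Q C_G(Q)| = 2. Then G has a normal 2-complement, exactly two classes of involutions and exactly two classes of elements of order 4. -/
theorem result {G : Type*} [Group G] [Finite G] (S : Sylow 2 G) (hS : Cfsg.IsQuasiDihedral (S : Subgroup G)) (T : Subgroup G) (hT : IsKleinFour T) (hTS : T ≤ S) (Q : Subgroup G) (hQS : Q ≤ S) (eQ : Q ≃* QuaternionGroup 2) (h₁ : (Subgroup.centralizer (T : Set G)).relIndex (Subgroup.normalizer (T : Set G)) = 2) (h₂ : (Q ⊔ Subgroup.centralizer (Q : Set G)).relIndex (Subgroup.normalizer (Q : Set G)) = 2) : Cfsg.HasNormalPComplement 2 G ∧ Nat.card {C : ConjClasses G // ∃ t : G, orderOf t = 2 ∧ ConjClasses.mk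 t = C} = 2 ∧ Nat.card {C : ConjClasses G // ∃ t : G, orderOf t = 4 ∧ ConjClasses.mk t = C} = 2 := by
    classical
    obtain ⟨d⟩ := QD.exists_dat hS
    have hF1 := QDF.F1_nofusion S d T hT hTS h₁
    have hF2 := QDF.F2_nofusion S d Q hQS eQ h₂
    obtain ⟨K₁, hK₁n, hK₁i, hB0⟩ := QDF.transfer_one S d hF1
    obtain ⟨K₂, hK₂n, hK₂i, hB1⟩ := QDF.transfer_two S d hF2
    exact ⟨QDF.normal_complement S d K₁ K₂ hK₁i hK₂i hB0 hB1,
      QDF.card_invol_classes_two S d hF1, QDF.card_four_classes_two S d hF2⟩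

end Cfsg.Agent.S1207
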