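import Mathlib
import Cfsg.Statements.S1213
import Cfsg.Agent.Helper2.WF28
import Cfsg.Agent.Helper2.QDF9

set_option autoImplicit false
open Cfsg

namespace Cfsg.Agent.S1213

open Cfsg.Agent.Helper2

/-- Let G be a finite group with quasi-dihedral or wreathed Sylow 2-subgroups and no subgroup of index 2, and let x be an involution with centralizer C. Then C has a Sylow 2-subgroup R which is a Sylow 2-subgroup of G; C has a normal subgroup K of index a power of 2 which has no subgroup of index 2 and whose Sylow 2-subgroups are generalized quaternion; and every subgroup of the centre of R is weakly closed in R with respect to C. -/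
theorem result {G : Type*} [Group G] [Finite G] (S : Sylow 2 G) (hS : Cfsg.IsQuasiDihedral (S : Subgroup G) ∨ Cfsg.IsWreathed (S : Subgroup G)) (hG : ∀ H : Subgroup G, H.index ≠ 2) (x : G) (hx : orderOf x = 2) : ∃ R : Sylow 2 ↥(Subgroup.centralizer ({x} : Set G)), Nat.card R = Nat.card S ∧ (∃ K : Subgroup ↥(Subgroup.centralizer ({x} : Set G)), K.Normal ∧ (∃ a : ℕ, K.index = 2 ^ a) ∧ (∀ H : Subgroup ↥K, H.index ≠ 2) ∧ (∀ P : Sylow 2 ↥K, ∃ m : ℕ, 1 ≤ m ∧ Nonempty ((P : Subgroup ↥K) ≃* QuaternionGroup (2 ^ m)))) ∧ (∀ Z₀ : Subgroup ↥(Subgroup.centralizer ({x} : Set G)), Z₀ ≤ ((Subgroup.center (R : Subgroup ↥(Subgroup.centralizer ({x} : Set G)))).map (R : Subgroup ↥(Subgroup.centralizer ({x} : Set G))).subtype) → Cfsg.IsWeaklyClosed Z₀ (R : Subgroup ↥(Subgroup.centralizer ({x} : Set G)))) := by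
  rcases hS with hq | hw
  · obtain ⟨d⟩ := QD.exists_dat hq
    obtain ⟨g, hg⟩ := QDF.all_invol_conj_qd S d hG x hx
    obtain ⟨S₁, ⟨e⟩, hxS, hxc⟩ := WF.exists_sylow_central S (QDF.Z d) (QDF.Z_mem d)
      (fun s hs => (QDF.Z_central d s hs).symm) g x hg
    obtain ⟨R, hc, h2, h3⟩ := QDF.qd_core S₁ (WF.isQuasiDihedral_of_equiv e hq) hG x hx hxS hxc
    exact ⟨R, hc.trans (Nat.card_congr e.symm.toEquiv), h2, h3⟩
  · obtain ⟨d⟩ := Wr.exists_dat hw
    obtain ⟨g, hg⟩ := WF.all_invol_conj S d hG x hx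
    obtain ⟨S₁, ⟨e⟩, hxS, hxc⟩ := WF.exists_sylow_central S (WF.c d) (WF.c_mem d)
      (fun s hs => (WF.c_central d s hs).symm) g x hg
    obtain ⟨R, hc, h2, h3⟩ := WF.wreathed_core S₁ (WF.isWreathed_of_equiv e hw) hG x hx hxS hxc
    exact ⟨R, hc.trans (Nat.card_congr e.symm.toEquiv), h2, h3⟩

end Cfsg.Agent.S1213
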