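import Mathlib
import Cfsg.Statements.S1214
import Cfsg.Agent.Helper2.WF32

set_option autoImplicit false
open Cfsg

namespace Cfsg.Agent.S1214

open Cfsg.Agent.Helper2

/-- Let G be a finite group with quasi-dihedral or wreathed Sylow 2-subgroups and no subgroup of index 2. Then G/O(G), the quotient by the largest normal subgroup of odd order, has a normal subgroup of odd index which is a non-abelian simple group. -/
theorem result {G : Type*} [Group G] [Finite G] (S : Sylow 2 G) (hS : Cfsg.IsQuasiDihedral (S : Subgroup G) ∨ Cfsg.IsWreathed (S : Subgroup G)) (hG : ∀ H : Subgroup G, H.index ≠ 2) : ∃ L : Subgroup (G ⧸ Cfsg.oddCore G), L.Normal ∧ Odd L.index ∧ IsSimpleGroup L ∧ ¬ IsMulCommutative L := by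
  obtain ⟨Sbar, ⟨e⟩⟩ := WF.sylow_quotient_oddCore S
  have hO : Cfsg.pPrimeCore 2 (G ⧸ Cfsg.pPrimeCore 2 G) = ⊥ :=
    Cfsg.Agent.Helper1.pPrimeCore_quotient_pPrimeCore 2
  have hH := WF.no_index_two_quotient (Cfsg.pPrimeCore 2 G) hG
  rcases hS with hq | hw
  · obtain ⟨d⟩ := QD.exists_dat (WF.isQuasiDihedral_of_equiv e hq)
    exact QDF.core_simple_qd Sbar d hH hO
  · obtain ⟨d⟩ := Wr.exists_dat (WF.isWreathed_of_equiv e hw)
    exact WF.core_simple_wreathed Sbar d hH hO

end Cfsg.Agent.S1214
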