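import Mathlib
import Cfsg.Statements.S1215
import Cfsg.Agent.Helper2.ZStarQ

set_option autoImplicit false
open Cfsg

namespace Cfsg.Agent.S1215

open Cfsg.Agent.Helper2

/-- Let H be a finite group with quasi-dihedral or wreathed Sylow 2-subgroup S such that H has a normal subgroup K of index a power of 2 with no subgroup of index 2 and with generalized quaternion Sylow 2-subgroups, and such that every subgroup of Z(S) is weakly closed in S with respect to H. Then H = O(H) C_H(Z(S)): every element of H is the product of an element of the largest normal odd-order subgroup and an element centralizing Z(S). -/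
theorem result {H : Type*} [Group H] [Finite H] (S : Sylow 2 H) (hS : Cfsg.IsQuasiDihedral (S : Subgroup H) ∨ Cfsg.IsWreathed (S : Subgroup H)) (hQ : (∃ K : Subgroup H, K.Normal ∧ (∃ a : ℕ, K.index = 2 ^ a) ∧ (∀ M : Subgroup ↥K, M.index ≠ 2) ∧ (∀ P : Sylow 2 ↥K, ∃ m : ℕ, 1 ≤ m ∧ Nonempty ((P : Subgroup ↥K) ≃* QuaternionGroup (2 ^ m)))) ∧ (∀ Z₀ : Subgroup H, Z₀ ≤ ((Subgroup.center (S : Subgroup H)).map (S : Subgroup H).subtype) → Cfsg.IsWeaklyClosed Z₀ (S : Subgroup H))) (h : H) : ∃ o ∈ Cfsg.oddCore H, ∃ c ∈ Subgroup.centralizer (((Subgroup.center (S : Subgroup H)).map (S : Subgroup H).subtype : Subgroup H) : Set H), h = o * c := by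
  set Zs : Subgroup H := (Subgroup.center (S : Subgroup H)).map (S : Subgroup H).subtype with hZs
  have hZsS : Zs ≤ (S : Subgroup H) := by
    rintro _ ⟨s, -, rfl⟩; exact s.2
  have hcen : ∀ x ∈ Zs, ∀ s ∈ (S : Subgroup H), s * x = x * s := by
    rintro _ ⟨x, hx, rfl⟩ s hs
    have := Subgroup.mem_center_iff.mp hx ⟨s, hs⟩
    exact congrArg Subtype.val this
  have hwc : ∀ x ∈ Zs, ∀ g : H, g * x * g⁻¹ ∈ S → g * x * g⁻¹ = x := by
    intro x hx g hg
    exact ZStar.wc_elt_of_wc_zpowers S x (hcen x hx) (hZsS hx)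
      (hQ.2 _ (Subgroup.zpowers_le.mpr hx)) g hg
  exact ZStar.zstar_factor S Zs hZsS hwc h

end Cfsg.Agent.S1215
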