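import Mathlib
import Cfsg.Statements.S1236
import Cfsg.Agent.Helper2.DihedralKlein
import Cfsg.Agent.Helper2.QD11
import Cfsg.Agent.Lead.FourConnected

set_option autoImplicit false
open Cfsg

namespace Cfsg.Agent.S1236

open Cfsg.Agent.Helper2

/-- Let R be a finite group, t a central involution of R such that R ⧸ ⟨t⟩ is dihedral (of order ≥ 4) or quasi-dihedral, and A ≤ R an elementary abelian subgroup of order 8 containing t. Then C_R(A) = A. -/
theorem result {R : Type*} [Group R] [Finite R] (t : R) (ht : orderOf t = 2) (htz : t ∈ Subgroup.center R) [(Subgroup.zpowers t).Normal] (hq : (∃ m : ℕ, 2 ≤ m ∧ Nonempty (R ⧸ Subgroup.zpowers t ≃* DihedralGroup m)) ∨ Cfsg.IsQuasiDihedral (R ⧸ Subgroup.zpowers t)) (A : Subgroup R) (hA : Cfsg.IsElementaryAbelian 2 A) (hA8 : Nat.card A = 8) (htA : t ∈ A) : Subgroup.centralizer (A : Set R) = A := by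
    classical
    set N := Subgroup.zpowers t with hN
    set π := QuotientGroup.mk' N with hπ
    have hker : ∀ x : R, π x = 1 ↔ x ∈ N := fun x => QuotientGroup.eq_one_iff x
    have hNA : N ≤ A := by rw [hN, Subgroup.zpowers_le]; exact htA
    have hAcomm : ∀ a ∈ A, ∀ b ∈ A, a * b = b * a := by
      intro a ha b hb
      exact congrArg Subtype.val (hA.1.is_comm.comm (⟨a, ha⟩ : A) ⟨b, hb⟩)
    -- the image of `A`
    set Abar := A.map π with hAbar
    have hcardAbar : Nat.card Abar = 4 := by
      have h1 : (π.domRestrict A).range = Abar := MonoidHom.domRestrict_range A π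
      have h2 : (π.domRestrict A).ker = N.subgroupOf A := by
        rw [MonoidHom.ker_domRestrict, hπ, QuotientGroup.ker_mk']
      have h3 := Subgroup.card_eq_card_quotient_mul_card_subgroup (π.domRestrict A).ker
      rw [Nat.card_congr (QuotientGroup.quotientKerEquivRange (π.domRestrict A)).toEquiv, h1, h2,
        hA8] at h3
      have h4 : Nat.card (N.subgroupOf A) = 2 := by
        rw [Nat.card_congr (Subgroup.subgroupOfEquivOfLe hNA).toEquiv, hN, Nat.card_zpowers, ht]
      rw [h4] at h3
      omega
    have hKlein : IsKleinFour Abar := by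
      apply Cfsg.Agent.Lead.isKleinFour_of_card_of_sq _ hcardAbar
      rintro _ ⟨a, ha, rfl⟩
      rw [← map_mul, ← pow_two, hA.2 a ha, map_one]
    -- self-centralizing
    have hself : Subgroup.centralizer (Abar : Set (R ⧸ N)) ≤ Abar := by
      rcases hq with ⟨m, hm, ⟨e⟩⟩ | hqd
      · haveI : NeZero m := ⟨by omega⟩
        have hK' : IsKleinFour (Abar.map e.toMonoidHom) := by
          apply Cfsg.Agent.Lead.isKleinFour_of_card_of_sq
          · rw [Subgroup.card_map_of_injective e.injective]; exact hcardAbar
          · rintro _ ⟨a, ha, rfl⟩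
            obtain ⟨a', ha', rfl⟩ := ha
            change e (π a') * e (π a') = 1
            rw [← map_mul, ← map_mul, ← pow_two, hA.2 a' ha', map_one, map_one]
        have h1 := DihedralKlein.klein_centralizer_le m _ hK'
        intro c hc
        have h2 : e c ∈ Subgroup.centralizer ((Abar.map e.toMonoidHom : Subgroup _) : Set _) := by
          rw [Subgroup.mem_centralizer_iff]
          rintro _ ⟨a, ha, rfl⟩
          change e a * e c = e c * e a
          rw [← map_mul, ← map_mul, Subgroup.mem_centralizer_iff.mp hc a ha]
        obtain ⟨a, ha, hae⟩ := h1 h2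
        have : a = c := e.injective hae
        rw [← this]; exact ha
      · obtain ⟨d⟩ := QD.exists_dat hqd
        obtain ⟨j, hj⟩ := d.klein_exists_b Abar hKlein
        have h1 := d.klein_eq_centralizer Abar hKlein j hj
        have h2 : Subgroup.centralizer (Abar : Set (R ⧸ N)) ≤
            Subgroup.centralizer ({d.b (2 * j)} : Set (R ⧸ N)) :=
          Subgroup.centralizer_le (by
            intro x hx
            rw [Set.mem_singleton_iff] at hx
            rw [hx]; exact hj)
        rw [← h1] at h2
        exact h2
    apply le_antisymm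
    · intro c hc
      have h1 : π c ∈ Subgroup.centralizer (Abar : Set (R ⧸ N)) := by
        rw [Subgroup.mem_centralizer_iff]
        rintro _ ⟨a, ha, rfl⟩
        rw [← map_mul, ← map_mul, Subgroup.mem_centralizer_iff.mp hc a ha]
      obtain ⟨a, ha, hac⟩ := hself h1
      have h2 : π (a⁻¹ * c) = 1 := by rw [map_mul, map_inv, hac, inv_mul_cancel]
      have h3 : a⁻¹ * c ∈ A := hNA ((hker _).mp h2)
      have : c = a * (a⁻¹ * c) := by group
      rw [this]
      exact Subgroup.mul_mem _ ha h3
    · intro a ha
      rw [Subgroup.mem_centralizer_iff]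
      intro b hb
      exact hAcomm b hb a ha

end Cfsg.Agent.S1236
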