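import Mathlib
import Cfsg.Statements.S1241

set_option autoImplicit false
open Cfsg

namespace Cfsg.Agent.S1241

/-- Let G be a finite group, p a prime, H a subgroup of index prime to p, K a subgroup of H normal in H with H/K commutative, and g ∈ H ∖ K an element of p-power order such that for all integers m and all a ∈ G with a g^m a⁻¹ ∈ H one has a g^m a⁻¹ ∈ g^m K. Then g ∉ G'. -/
theorem result {G : Type*} [Group G] [Finite G] {p : ℕ} [Fact p.Prime] (H K : Subgroup G) (hHK : K ≤ H) (hKn : (K.subgroupOf H).Normal) (hab : ∀ x ∈ H, ∀ y ∈ H, x * y * x⁻¹ * y⁻¹ ∈ K) (hidx : Nat.Coprime p H.index) (g : G) (hgH : g ∈ H) (hgK : g ∉ K) (hgp : ∃ k : ℕ, orderOf g = p ^ k) (hctrl : ∀ (m : ℤ) (a : G), a * g ^ m * a⁻¹ ∈ H → (a * g ^ m * a⁻¹) * (g ^ m)⁻¹ ∈ K) : g ∉ commutator G := by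
  classical
  intro hgc
  haveI hKn' : (K.subgroupOf H).Normal := hKn
  letI instCG : CommGroup (↥H ⧸ K.subgroupOf H) :=
    { (inferInstance : Group (↥H ⧸ K.subgroupOf H)) with
      mul_comm := by
        intro a b
        induction a using QuotientGroup.induction_on with | _ x => ?_
        induction b using QuotientGroup.induction_on with | _ y => ?_
        rw [← QuotientGroup.mk_mul, ← QuotientGroup.mk_mul, QuotientGroup.eq, Subgroup.mem_subgroupOf]
        have := hab (y : G)⁻¹ (H.inv_mem y.2) (x : G)⁻¹ (H.inv_mem x.2)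
        simpa [mul_assoc] using this }
  let ϕ : ↥H →* (↥H ⧸ K.subgroupOf H) := QuotientGroup.mk' (K.subgroupOf H)
  haveI : Fintype (Quotient (MulAction.orbitRel (Subgroup.zpowers g) (G ⧸ H))) := Fintype.ofFinite _
  -- the transfer kills the commutator subgroup
  have hker : MonoidHom.transfer ϕ g = 1 :=
    Abelianization.commutator_subset_ker (MonoidHom.transfer ϕ) hgc
  -- evaluate the transfer
  have heval : MonoidHom.transfer ϕ g = ϕ ⟨g, hgH⟩ ^ H.index := by
    rw [MonoidHom.transfer_eq_prod_quotient_orbitRel_zpowers_quot, Subgroup.index_eq_sum_minimalPeriod H g,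
      ← Finset.prod_pow_eq_pow_sum]
    refine Finset.prod_congr rfl (fun q _ => ?_)
    set m := Function.minimalPeriod (g • ·) (Quotient.out q) with hm
    have hmem := QuotientGroup.out_conj_pow_minimalPeriod_mem H g (Quotient.out q)
    have hc := hctrl (m : ℤ) ((Quotient.out (Quotient.out q))⁻¹) (by
      rw [inv_inv, zpow_natCast]; exact hmem)
    rw [inv_inv, zpow_natCast] at hc
    rw [← map_pow]
    have hgm : g ^ m ∈ H := H.pow_mem hgH m
    have h1 : ϕ (⟨(Quotient.out (Quotient.out q))⁻¹ * g ^ m * Quotient.out (Quotient.out q), hmem⟩ *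
        (⟨g ^ m, hgm⟩ : ↥H)⁻¹) = 1 := by
      rw [QuotientGroup.mk'_apply, QuotientGroup.eq_one_iff, Subgroup.mem_subgroupOf]
      exact hc
    rw [map_mul, map_inv, mul_inv_eq_one] at h1
    rw [h1]
    rfl
  rw [heval] at hker
  -- but `ϕ g` has `p`-power order and is nontrivial
  have hne : ϕ ⟨g, hgH⟩ ≠ 1 := by
    intro h1
    rw [QuotientGroup.mk'_apply, QuotientGroup.eq_one_iff, Subgroup.mem_subgroupOf] at h1
    exact hgK h1
  obtain ⟨k, hk⟩ := hgp
  have hdvd : orderOf (ϕ ⟨g, hgH⟩) ∣ p ^ k := by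
    have h1 : orderOf (ϕ ⟨g, hgH⟩) ∣ orderOf (⟨g, hgH⟩ : ↥H) := orderOf_map_dvd ϕ _
    rw [Subgroup.orderOf_mk, hk] at h1
    exact h1
  obtain ⟨j, -, hj⟩ := (Nat.dvd_prime_pow (Fact.out : p.Prime)).mp hdvd
  have hj0 : j ≠ 0 := by
    rintro rfl
    rw [pow_zero, orderOf_eq_one_iff] at hj
    exact hne hj
  have hpd : p ∣ orderOf (ϕ ⟨g, hgH⟩) := by rw [hj]; exact dvd_pow_self p hj0
  have hpi : p ∣ H.index := hpd.trans (orderOf_dvd_of_pow_eq_one hker)
  have := Nat.Coprime.eq_one_of_dvd hidx hpi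
  exact (Fact.out : p.Prime).one_lt.ne' this

end Cfsg.Agent.S1241
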