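import Mathlib
import Cfsg.Statements.S1243
import Cfsg.Agent.Helper2.Conj

set_option autoImplicit false
open Cfsg

namespace Cfsg.Agent.S1243

open Cfsg.Agent.Helper2

/-- Let T be a Sylow p-subgroup of the finite group G and W ≤ T a subgroup weakly closed in T. If d and g d g⁻¹ both centralize W, then g d g⁻¹ = h d h⁻¹ for some h ∈ N_G(W). -/
theorem result {G : Type*} [Group G] [Finite G] {p : ℕ} [Fact p.Prime] (T : Sylow p G) (W : Subgroup G) (hW : Cfsg.IsWeaklyClosed W (T : Subgroup G)) (d g : G) (hd : d ∈ Subgroup.centralizer (W : Set G)) (hgd : g * d * g⁻¹ ∈ Subgroup.centralizer (W : Set G)) : ∃ h ∈ Subgroup.normalizer (W : Set G), h * d * h⁻¹ = g * d * g⁻¹ := by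
  have hWC : W ≤ Subgroup.centralizer ({d} : Set G) := by
    intro w hw
    rw [Subgroup.mem_centralizer_singleton_iff]
    exact (Subgroup.mem_centralizer_iff.mp hd w hw)
  have hgC : cj g⁻¹ W ≤ Subgroup.centralizer ({d} : Set G) := by
    rw [cj_le_iff]
    intro w hw
    rw [Subgroup.mem_centralizer_singleton_iff, inv_inv]
    have := Subgroup.mem_centralizer_iff.mp hgd w hw
    -- this : w * (g * d * g⁻¹) = g * d * g⁻¹ * w
    calc g⁻¹ * w * g * d = g⁻¹ * (w * (g * d * g⁻¹)) * g := by group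
      _ = g⁻¹ * (g * d * g⁻¹ * w) * g := by rw [this]
      _ = d * (g⁻¹ * w * g) := by group
  obtain ⟨c, hcC, hcg⟩ := weaklyClosed_fusion T W hW _ hWC g⁻¹ hgC
  refine ⟨(c * g⁻¹)⁻¹, Subgroup.inv_mem _ ((mem_normalizer_iff_cj W _).mpr hcg), ?_⟩
  rw [Subgroup.mem_centralizer_singleton_iff] at hcC
  have e : c⁻¹ * d * c = d := by
    calc c⁻¹ * d * c = c⁻¹ * (d * c) := by group
      _ = c⁻¹ * (c * d) := by rw [hcC]
      _ = d := by group
  calc (c * g⁻¹)⁻¹ * d * (c * g⁻¹)⁻¹⁻¹ = g * (c⁻¹ * d * c) * g⁻¹ := by group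
    _ = g * d * g⁻¹ := by rw [e]

end Cfsg.Agent.S1243
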