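import Mathlib
import Cfsg.Statements.S1244
import Cfsg.Agent.Helper2.AbelSylowHyp
import Cfsg.Agent.Helper2.RankSub

set_option autoImplicit false
open Cfsg

namespace Cfsg.Agent.S1244

open Cfsg.Agent.Helper2

/-- Let G be a finite group with no subgroup of index 2 whose Sylow 2-subgroup S is commutative, and let R ≤ S be a subgroup whose 2-rank is exactly one less than the 2-rank r of S. Then every involution of S is conjugate, by an element of N_G(S), to an element of R. -/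
theorem result {G : Type*} [Group G] [Finite G] (hG : ∀ H : Subgroup G, H.index ≠ 2) (S : Sylow 2 G) (hS : IsMulCommutative (S : Subgroup G)) (r : ℕ) (hr1 : 1 ≤ r) (hSr : Cfsg.PRankLE 2 r (S : Subgroup G) ∧ ¬ Cfsg.PRankLE 2 (r - 1) (S : Subgroup G)) (R : Subgroup G) (hRS : R ≤ S) (hRr : Cfsg.PRankLE 2 (r - 1) R ∧ (r = 1 ∨ ¬ Cfsg.PRankLE 2 (r - 2) R)) (t : G) (ht : orderOf t = 2) (htS : t ∈ S) : ∃ n ∈ Subgroup.normalizer ((S : Subgroup G) : Set G), n * t * n⁻¹ ∈ R := by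
    classical
    have hp : Fact (Nat.Prime 2) := ⟨Nat.prime_two⟩
    have hcommS : ∀ a ∈ (S : Subgroup G), ∀ b ∈ (S : Subgroup G), a * b = b * a := by
      intro a ha b hb
      have := hS.is_comm.comm ⟨a, ha⟩ ⟨b, hb⟩
      exact congrArg Subtype.val this
    let Ω : Subgroup G :=
      { carrier := {x | x ∈ (S : Subgroup G) ∧ x ^ 2 = 1}
        mul_mem' := by
          rintro a b ⟨ha, ha2⟩ ⟨hb, hb2⟩
          refine ⟨mul_mem ha hb, ?_⟩
          have hc : Commute a b := hcommS a ha b hb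
          rw [hc.mul_pow, ha2, hb2, one_mul]
        one_mem' := ⟨one_mem _, one_pow 2⟩
        inv_mem' := by
          rintro a ⟨ha, ha2⟩
          exact ⟨inv_mem ha, by rw [inv_pow, ha2, inv_one]⟩ }
    have hΩ : ∀ x, x ∈ Ω ↔ x ∈ S ∧ x ^ 2 = 1 := fun x => Iff.rfl
    have hΩS : Ω ≤ S := fun x hx => hx.1
    have hΩc : ∀ a ∈ Ω, ∀ b ∈ Ω, a * b = b * a := fun a ha b hb => hcommS a ha.1 b hb.1
    have hΩe : ∀ a ∈ Ω, a ^ 2 = 1 := fun a ha => ha.2
    have hΩle : Nat.card Ω ≤ 2 ^ r := RankSub.card_le_of_pRankLE S Ω hΩS hΩc hΩe hSr.1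
    obtain ⟨E, hES, hEc, hEe, hEk⟩ := RankSub.exists_of_not_pRankLE (S : Subgroup G) hSr.2
    have hEΩ : E ≤ Ω := fun x hx => ⟨hES hx, hEe x hx⟩
    have hΩgt : 2 ^ (r - 1) < Nat.card Ω := lt_of_lt_of_le hEk (Subgroup.card_le_of_le hEΩ)
    obtain ⟨k, hk⟩ := IsPGroup.iff_card.mp (S.isPGroup'.to_le hΩS)
    have hkr : k = r := by
      rw [hk] at hΩle hΩgt
      have := RankSub.pow_sandwich hΩgt (by rwa [Nat.sub_add_cancel hr1])
      omega
    have hWR : R ⊓ Ω ≤ R := inf_le_left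
    have hWΩ : R ⊓ Ω ≤ Ω := inf_le_right
    have hWle : Nat.card ↥(R ⊓ Ω) ≤ 2 ^ (r - 1) :=
      RankSub.card_le_of_pRankLE R (R ⊓ Ω) hWR (fun a ha b hb => hΩc a (hWΩ ha) b (hWΩ hb))
        (fun a ha => hΩe a (hWΩ ha)) hRr.1
    obtain ⟨k', hk'⟩ := IsPGroup.iff_card.mp (S.isPGroup'.to_le (hWΩ.trans hΩS))
    have hk'r : k' = r - 1 := by
      rcases hRr.2 with h1 | h2
      · rw [hk', h1] at hWle
        have : k' ≤ 0 := (Nat.pow_le_pow_iff_right (by norm_num)).mp hWle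
        omega
      · obtain ⟨E', hE'R, hE'c, hE'e, hE'k⟩ := RankSub.exists_of_not_pRankLE R h2
        have hE'W : E' ≤ R ⊓ Ω := fun x hx =>
          Subgroup.mem_inf.mpr ⟨hE'R hx, ⟨hRS (hE'R hx), hE'e x hx⟩⟩
        have hgt : 2 ^ (r - 2) < Nat.card ↥(R ⊓ Ω) :=
          lt_of_lt_of_le hE'k (Subgroup.card_le_of_le hE'W)
        rw [hk'] at hWle hgt
        have h3 : r - 2 < k' := (Nat.pow_lt_pow_iff_right (by norm_num)).mp hgt
        have h4 : k' ≤ r - 1 := (Nat.pow_le_pow_iff_right (by norm_num)).mp hWle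
        omega
    have hidx2 : ((R ⊓ Ω).subgroupOf Ω).index = 2 := by
      have h1 := ((R ⊓ Ω).subgroupOf Ω).card_mul_index
      rw [Nat.card_congr (Subgroup.subgroupOfEquivOfLe hWΩ).toEquiv, hk', hk, hk'r, hkr] at h1
      have h2 : 2 ^ r = 2 ^ (r - 1) * 2 := by rw [← pow_succ, Nat.sub_add_cancel hr1]
      rw [h2] at h1
      exact Nat.eq_of_mul_eq_mul_left (by positivity) h1
    have hidx : ∀ a ∈ Ω, ∀ b ∈ Ω, (a * b ∈ R ⊓ Ω ↔ (a ∈ R ⊓ Ω ↔ b ∈ R ⊓ Ω)) := by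
      intro a ha b hb
      have := Subgroup.mul_mem_iff_of_index_two hidx2 (a := ⟨a, ha⟩) (b := ⟨b, hb⟩)
      simpa only [Subgroup.mem_subgroupOf, Subgroup.coe_mul] using this
    have := hS
    obtain ⟨n, hn, hnW⟩ := AbelSylowHyp.exists_normalizer_conj_mem hG S Ω (R ⊓ Ω) hΩ hidx t ht htS
    exact ⟨n, hn, hWR hnW⟩

end Cfsg.Agent.S1244
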