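import Mathlib
import Cfsg.Statements.S1249
import Cfsg.Agent.Helper2.Conj

set_option autoImplicit false
open Cfsg

namespace Cfsg.Agent.S1249

open Cfsg.Agent.Helper2

/-- Let P and Q be Sylow p-subgroups of the finite group G both containing the subgroup A. If A is strongly closed in P, then A is strongly closed in Q. -/
theorem result {G : Type*} [Group G] [Finite G] {p : ℕ} [Fact p.Prime] (P Q : Sylow p G) (A : Subgroup G) (hAQ : A ≤ Q) (hA : Cfsg.IsStronglyClosed A (P : Subgroup G)) : Cfsg.IsStronglyClosed A (Q : Subgroup G) := by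
  obtain ⟨k, hk⟩ := MulAction.exists_smul_eq G P Q
  have hQ : ∀ x : G, x ∈ (Q : Subgroup G) ↔ k⁻¹ * x * k ∈ (P : Subgroup G) := by
    intro x; rw [← hk]; exact mem_smul_sylow_iff P k x
  -- step 1
  have h1 : ∀ a ∈ A, k⁻¹ * a * k ∈ A := by
    intro a ha
    have := hA.2 a ha k⁻¹
    rw [inv_inv] at this
    exact this ((hQ a).mp (hAQ ha))
  -- step 2: conjugation by k⁻¹ is a bijection of A
  have h2 : ∀ y ∈ A, k * y * k⁻¹ ∈ A := by
    let φ : A → A := fun a => ⟨k⁻¹ * a * k, h1 a a.2⟩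
    have hinj : Function.Injective φ := by
      intro a b hab
      have := congrArg Subtype.val hab
      simp only [φ] at this
      exact Subtype.ext (mul_left_cancel (mul_right_cancel this))
    have hsurj : Function.Surjective φ := Finite.surjective_of_injective hinj
    intro y hy
    obtain ⟨a, ha⟩ := hsurj ⟨y, hy⟩
    have := congrArg Subtype.val ha
    simp only [φ] at this
    have e : k * y * k⁻¹ = a := by rw [← this]; group
    rw [e]; exact a.2
  refine ⟨hAQ, ?_⟩
  intro x hx g hg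
  have h3 : k⁻¹ * (g * x * g⁻¹) * k ∈ (P : Subgroup G) := (hQ _).mp hg
  have h4 : (k⁻¹ * g) * x * (k⁻¹ * g)⁻¹ ∈ A := by
    apply hA.2 x hx
    have e : (k⁻¹ * g) * x * (k⁻¹ * g)⁻¹ = k⁻¹ * (g * x * g⁻¹) * k := by group
    rw [e]; exact h3
  have h5 := h2 _ h4
  have e : k * ((k⁻¹ * g) * x * (k⁻¹ * g)⁻¹) * k⁻¹ = g * x * g⁻¹ := by group
  rw [e] at h5
  exact h5

end Cfsg.Agent.S1249
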