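import Mathlib
import Cfsg.Statements.S1250
import Cfsg.Agent.Helper2.Conj

set_option autoImplicit false
open Cfsg

namespace Cfsg.Agent.S1250

open Cfsg.Agent.Helper2

/-- Let S be a Sylow p-subgroup of the finite group G, A ≤ S strongly closed in S, and N a normal subgroup. Then the image of A in G ⧸ N is strongly closed in the image of S (which is a Sylow p-subgroup of G ⧸ N). -/
theorem result {G : Type*} [Group G] [Finite G] {p : ℕ} [Fact p.Prime] (S : Sylow p G) (A : Subgroup G) (hA : Cfsg.IsStronglyClosed A (S : Subgroup G)) (N : Subgroup G) [N.Normal] : Cfsg.IsStronglyClosed (A.map (QuotientGroup.mk' N)) ((S : Subgroup G).map (QuotientGroup.mk' N)) := by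
  refine ⟨Subgroup.map_mono hA.1, ?_⟩
  rintro _ ⟨a, ha, rfl⟩ gbar hgbar
  obtain ⟨g, rfl⟩ := QuotientGroup.mk_surjective gbar
  obtain ⟨s, hs, hsb⟩ := hgbar
  -- b = g a g⁻¹ lies in M = S ⊔ N
  set b := g * a * g⁻¹ with hb
  have hsb' : (QuotientGroup.mk s : G ⧸ N) = QuotientGroup.mk b := by
    simpa [hb] using hsb
  have hn : s⁻¹ * b ∈ N := QuotientGroup.eq.mp hsb'
  set M : Subgroup G := (S : Subgroup G) ⊔ N with hM
  have hbM : b ∈ M := by
    have : b = s * (s⁻¹ * b) := by group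
    rw [this]
    exact M.mul_mem (le_sup_left (a := (S : Subgroup G)) (b := N) hs) (le_sup_right (a := (S : Subgroup G)) (b := N) hn)
  -- Sylow inside M
  let T : Sylow p M := S.subtype le_sup_left
  have haS : a ∈ (S : Subgroup G) := hA.1 ha
  have hZp : IsPGroup p (Subgroup.zpowers a) :=
    S.isPGroup'.to_le (Subgroup.zpowers_le.mpr haS)
  have hKp : IsPGroup p ((cj g (Subgroup.zpowers a)).subgroupOf M) :=
    (isPGroup_cj hZp g).comap_subtype
  obtain ⟨y, hy⟩ := exists_conj_le_sylow T _ hKp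
  have hbK : (⟨b, hbM⟩ : M) ∈ (cj g (Subgroup.zpowers a)).subgroupOf M := by
    rw [Subgroup.mem_subgroupOf]
    exact conj_mem_cj _ g a (Subgroup.mem_zpowers a)
  have h1 := hy _ hbK
  have h1' : (y : G) * b * (y : G)⁻¹ ∈ (S : Subgroup G) := by
    have : y * ⟨b, hbM⟩ * y⁻¹ ∈ (S : Subgroup G).subgroupOf M := by
      rw [← Sylow.coe_subtype]; exact h1
    rw [Subgroup.mem_subgroupOf] at this
    simpa using this
  -- by strong closure, a' = y b y⁻¹ ∈ A
  have ha' : ((y : G) * g) * a * ((y : G) * g)⁻¹ ∈ A := by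
    apply hA.2 a ha
    have e : ((y : G) * g) * a * ((y : G) * g)⁻¹ = (y : G) * b * (y : G)⁻¹ := by rw [hb]; group
    rw [e]; exact h1'
  -- decompose y = s' * n'
  have hyM : (y : G) ∈ ((S : Subgroup G) ⊔ N : Subgroup G) := y.2
  rw [← SetLike.mem_coe, Subgroup.mul_normal] at hyM
  obtain ⟨s', hs', n', hn', hyeq⟩ := Set.mem_mul.mp hyM
  -- s'⁻¹ a' s' ∈ A
  set a' := ((y : G) * g) * a * ((y : G) * g)⁻¹ with ha'def
  have ha'' : s'⁻¹ * a' * s' ∈ A := by
    have := hA.2 a' ha' s'⁻¹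
    rw [inv_inv] at this
    apply this
    exact Subgroup.mul_mem _ (Subgroup.mul_mem _ (Subgroup.inv_mem _ hs') (hA.1 ha')) hs'
  refine ⟨s'⁻¹ * a' * s', ha'', ?_⟩
  -- compute in the quotient
  have hmk : (QuotientGroup.mk (y : G) : G ⧸ N) = QuotientGroup.mk s' := by
    rw [← hyeq]
    rw [QuotientGroup.mk_mul]
    have : (QuotientGroup.mk n' : G ⧸ N) = 1 := (QuotientGroup.eq_one_iff n').mpr hn'
    rw [this, mul_one]
  have e : b = (y : G)⁻¹ * a' * (y : G) := by rw [ha'def, hb]; group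
  show (QuotientGroup.mk (s'⁻¹ * a' * s') : G ⧸ N) = QuotientGroup.mk g * QuotientGroup.mk a * (QuotientGroup.mk g)⁻¹
  have e2 : (QuotientGroup.mk g * QuotientGroup.mk a * (QuotientGroup.mk g)⁻¹ : G ⧸ N) = QuotientGroup.mk b := by
    rw [hb]; simp
  rw [e2, e]
  simp only [QuotientGroup.mk_mul, QuotientGroup.mk_inv, hmk]

end Cfsg.Agent.S1250
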