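import Mathlib
import Cfsg.Statements.S1254
import Cfsg.Agent.Helper2.DihSylow

set_option autoImplicit false
open Cfsg

namespace Cfsg.Agent.S1254

open Cfsg.Agent.Helper2

/-- Let X be a finite group whose Sylow 2-subgroup S is dihedral (of order at least 4). Then X has a normal 2-complement if and only if, for every Klein four-subgroup U ≤ S, the normalizer N_X(U) is generated by C_X(U) and N_S(U). -/
theorem result {X : Type*} [Group X] [Finite X] (S : Sylow 2 X) (m : ℕ) (hm : 2 ≤ m) (eS : (S : Subgroup X) ≃* DihedralGroup m) : Cfsg.HasNormalPComplement 2 X ↔ ∀ U : Subgroup X, U ≤ S → IsKleinFour U → Subgroup.normalizer (U : Set X) = Subgroup.centralizer (U : Set X) ⊔ ((S : Subgroup X) ⊓ Subgroup.normalizer (U : Set X)) := by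
    haveI : Fact (Nat.Prime 2) := ⟨Nat.prime_two⟩
    haveI : NeZero m := ⟨by omega⟩
    constructor
    · rintro ⟨P, K, hK, hc⟩ U hUS _
      haveI := hK
      have hcS : K.IsComplement' (S : Subgroup X) := by
        have h1 : Nat.card K * Nat.card (P : Subgroup X) = Nat.card X := hc.card_mul_card
        have h2 : Nat.card (S : Subgroup X) = Nat.card (P : Subgroup X) := by
          rw [S.card_eq_multiplicity, P.card_eq_multiplicity]
        have h3 : (P : Subgroup X).index = Nat.card K := hc.index_eq_card
        apply Subgroup.isComplement'_of_coprime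
        · rw [h2]; exact h1
        · rw [h2, ← h3]; exact P.card_coprime_index.symm
      exact DihSylow.normalizer_eq_of_complement K (S : Subgroup X) U hcS hUS
    · intro h
      apply Cfsg.Agent.Helper1.frobenius_pcomplement
      apply DihSylow.plocalCentral_of_sylow S
      intro Q hQS g hg hcop
      have hQ2 : IsPGroup 2 Q := S.isPGroup'.to_le hQS
      have hf : Function.Injective (eS.toMonoidHom.comp (Subgroup.inclusion hQS)) :=
        eS.injective.comp (Subgroup.inclusion_injective hQS)
      have hoddg : Odd (orderOf g) := Nat.coprime_two_right.mp hcop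
      rcases DihSub.sub_cases hQ2 m _ hf with hcyc | hkl | hodd
      · exact DihSylow.mem_centralizer_of_aut_eq_one Q g hg
          (DihSub.cyclic_two_aut_odd_trivial hcyc hQ2 _ _ hoddg (DihSylow.aut_pow_eq_one Q g hg))
      · exact DihSylow.mem_centralizer_of_normalizer_eq_sup Q
          ((S : Subgroup X) ⊓ Subgroup.normalizer (Q : Set X))
          (S.isPGroup'.to_le inf_le_left) inf_le_right (h Q hQS hkl) g hg hcop
      · exact DihSylow.mem_centralizer_of_aut_eq_one Q g hg
          (hodd _ _ hoddg (DihSylow.aut_pow_eq_one Q g hg))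

end Cfsg.Agent.S1254
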