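import Mathlib
import Cfsg.Statements.S1255
import Cfsg.Agent.Lead.DihedralInvolutions
import Cfsg.Agent.Lead.FourConnected
import Cfsg.Agent.Lead.SylowLemmas
import Cfsg.Agent.Helper2.ThompsonTransfer2
import Cfsg.Agent.Helper2.OddAut

set_option autoImplicit false
open Cfsg

namespace Cfsg.Agent.S1255

open Cfsg.Agent.Helper2

/-- Let X be a finite group whose Sylow 2-subgroup S is dihedral of order 2m ≥ 4. Then X has no subgroup of index 2 and no isolated involution if and only if either all involutions of X are conjugate, or for every Klein four-subgroup U ≤ S the index |N_X(U) : C_X(U)| equals 3 when |S| = 4 and equals 6 when |S| > 4. -/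
theorem result {X : Type*} [Group X] [Finite X] (S : Sylow 2 X) (m : ℕ) (hm : 2 ≤ m) (eS : (S : Subgroup X) ≃* DihedralGroup m) : ((∀ H : Subgroup X, H.index ≠ 2) ∧ (∀ z : X, ¬ Cfsg.IsIsolatedInvolution z)) ↔ ((∀ a b : X, orderOf a = 2 → orderOf b = 2 → IsConj a b) ∨ (∀ U : Subgroup X, U ≤ S → IsKleinFour U → (Subgroup.centralizer (U : Set X)).relIndex (Subgroup.normalizer (U : Set X)) = (if Nat.card S = 4 then 3 else 6))) := by
  classical
  haveI : Fact (Nat.Prime 2) := ⟨Nat.prime_two⟩
  haveI : NeZero m := ⟨by omega⟩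
  have hcardS : Nat.card (S : Subgroup X) = 2 * m := by
    rw [Nat.card_congr eS.toEquiv, DihedralGroup.nat_card]
  obtain ⟨k, hk1, hmk⟩ : ∃ k, 1 ≤ k ∧ m = 2 ^ k := by
    obtain ⟨j, hj⟩ := IsPGroup.iff_card.mp S.isPGroup'
    rw [hcardS] at hj
    cases j with
    | zero => omega
    | succ j =>
      rw [pow_succ'] at hj
      have hmj : m = 2 ^ j := by omega
      refine ⟨j, ?_, hmj⟩
      by_contra h0
      have : j = 0 := by omega
      rw [this, pow_zero] at hmj
      omega
  subst hmk
  haveI : NeZero (2 ^ k) := ⟨by positivity⟩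
  -- the central involution of the dihedral group
  set hh : ZMod (2 ^ k) := ((2 ^ (k - 1) : ℕ) : ZMod (2 ^ k)) with hhdef
  have hhh : hh + hh = 0 := by
    have : 2 ^ (k - 1) + 2 ^ (k - 1) = 2 ^ k := by
      have : 2 ^ k = 2 * 2 ^ (k - 1) := by rw [← pow_succ']; congr 1; omega
      omega
    rw [hhdef, ← Nat.cast_add, this]
    exact ZMod.natCast_self _
  have hh0 : hh ≠ 0 := by
    rw [hhdef, Ne, ZMod.natCast_eq_zero_iff]
    intro hd
    have h1 := Nat.le_of_dvd (by positivity) hd
    have h2 : 2 ^ (k - 1) < 2 ^ k := Nat.pow_lt_pow_right (by norm_num) (by omega)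
    omega
  set zd : DihedralGroup (2 ^ k) := DihedralGroup.r hh with hzd
  have hzd2 : zd * zd = 1 := by
    rw [hzd, DihedralGroup.r_mul_r, hhh]; rfl
  have hzd1 : zd ≠ 1 := by
    rw [hzd, DihedralGroup.one_def]
    intro h
    exact hh0 (DihedralGroup.r.inj h)
  have hzdc : ∀ x : DihedralGroup (2 ^ k), zd * x = x * zd := by
    intro x
    cases x with
    | r i => rw [hzd, DihedralGroup.r_mul_r, DihedralGroup.r_mul_r, add_comm]
    | sr i =>
      rw [hzd, DihedralGroup.r_mul_sr, DihedralGroup.sr_mul_r]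
      congr 1
      calc i - hh = i - hh + (hh + hh) := by rw [hhh, add_zero]
        _ = i + hh := by ring
  set z : X := ((eS.symm zd : (S : Subgroup X)) : X) with hz
  have hzS : z ∈ (S : Subgroup X) := (eS.symm zd).2
  have hzz : z * z = 1 := by
    have h1 : (eS.symm zd) * (eS.symm zd) = 1 := by rw [← map_mul, hzd2, map_one]
    have := congrArg Subtype.val h1
    rw [Subgroup.coe_mul, Subgroup.coe_one] at this
    exact this
  have hz1 : z ≠ 1 := by
    intro h
    apply hzd1
    have h1 : eS.symm zd = 1 := Subtype.ext (by rw [Subgroup.coe_one]; exact h)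
    have := congrArg eS h1
    rw [MulEquiv.apply_symm_apply, map_one] at this
    exact this
  have hzo : orderOf z = 2 := by
    rw [orderOf_eq_prime_iff]
    exact ⟨by rw [pow_two]; exact hzz, hz1⟩
  have hzc : ∀ s ∈ (S : Subgroup X), z * s = s * z := by
    intro s hs
    have h1 : eS.symm zd * ⟨s, hs⟩ = ⟨s, hs⟩ * eS.symm zd := by
      apply eS.injective
      rw [map_mul, map_mul, MulEquiv.apply_symm_apply]
      exact hzdc _
    have := congrArg Subtype.val h1
    rw [Subgroup.coe_mul, Subgroup.coe_mul] at this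
    exact this
  -- the rotation subgroup
  set Q : Subgroup X := ((Cfsg.Agent.Lead.dihedralRot (2 ^ k)).comap eS.toMonoidHom).map
    (S : Subgroup X).subtype with hQ
  have hQS : Q ≤ (S : Subgroup X) := by
    rintro _ ⟨t, -, rfl⟩
    exact t.2
  have hQi : Q.relIndex (S : Subgroup X) = 2 := by
    rw [Subgroup.relIndex]
    have h1 : Q.subgroupOf (S : Subgroup X) =
        (Cfsg.Agent.Lead.dihedralRot (2 ^ k)).comap eS.toMonoidHom := by
      ext t
      rw [Subgroup.mem_subgroupOf, hQ]
      constructor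
      · rintro ⟨t', ht', htt'⟩
        have : t' = t := Subtype.ext htt'
        rw [← this]
        exact ht'
      · intro ht
        exact ⟨t, ht, rfl⟩
    rw [h1, Subgroup.index_comap_of_surjective (Cfsg.Agent.Lead.dihedralRot (2 ^ k)) eS.surjective,
      Cfsg.Agent.Lead.dihedralRot_index]
  have hmemQ : ∀ (s : X) (hs : s ∈ (S : Subgroup X)), s ∈ Q ↔ ∃ i, eS ⟨s, hs⟩ = DihedralGroup.r i := by
    intro s hs
    constructor
    · rintro ⟨t, ht, hts⟩
      have : t = ⟨s, hs⟩ := Subtype.ext hts
      rw [← this]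
      exact ht
    · rintro ⟨i, hi⟩
      exact ⟨⟨s, hs⟩, ⟨i, hi⟩, rfl⟩
  have hzQ : z ∈ Q := by
    rw [hmemQ z hzS]
    refine ⟨hh, ?_⟩
    have : (⟨z, hzS⟩ : (S : Subgroup X)) = eS.symm zd := Subtype.ext rfl
    rw [this, MulEquiv.apply_symm_apply]
  have hinQ : ∀ v : X, orderOf v = 2 → v ∈ Q → v = z := by
    rintro _ hv ⟨t, ht, rfl⟩
    have ht' : eS t ∈ Cfsg.Agent.Lead.dihedralRot (2 ^ k) := ht
    obtain ⟨i, hi⟩ := ht'
    have ho : orderOf (DihedralGroup.r i : DihedralGroup (2 ^ k)) = 2 := by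
      rw [← hi, MulEquiv.orderOf_eq, ← Subgroup.orderOf_coe]
      exact hv
    have hi2 := Cfsg.Agent.Lead.r_eq_of_orderOf_eq_two k hk1 i ho
    have : t = eS.symm zd := by
      rw [hzd, hhdef, ← hi2, ← hi, MulEquiv.symm_apply_apply]
    rw [this]
    rfl
  have hord_conj : ∀ (g u : X), orderOf (g * u * g⁻¹) = orderOf u := by
    intro g u
    have hsc : SemiconjBy g u (g * u * g⁻¹) := by unfold SemiconjBy; group
    exact (SemiconjBy.orderOf_eq g hsc).symm
  -- conjugate into S
  have hconjS : ∀ u : X, orderOf u = 2 → ∃ g : X, g * u * g⁻¹ ∈ (S : Subgroup X) := by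
    intro u hu
    have hp : IsPGroup 2 (Subgroup.zpowers u) := by
      apply IsPGroup.of_card (n := 1)
      rw [Nat.card_zpowers, hu, pow_one]
    obtain ⟨g, hg⟩ := Cfsg.Agent.Lead.exists_conj_le_sylow S (Subgroup.zpowers u) hp
    exact ⟨g, hg ⟨u, Subgroup.mem_zpowers u, rfl⟩⟩
  -- reflections conjugate to z imply one class
  have hP3 : (∀ u ∈ (S : Subgroup X), orderOf u = 2 → u ∉ Q → ∃ g : X, g * u * g⁻¹ = z) →
      ∀ a b : X, orderOf a = 2 → orderOf b = 2 → IsConj a b := by
    intro hRC
    have key : ∀ u : X, orderOf u = 2 → ∃ g : X, g * u * g⁻¹ = z := by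
      intro u hu
      obtain ⟨g₁, hg₁⟩ := hconjS u hu
      have ho : orderOf (g₁ * u * g₁⁻¹) = 2 := by rw [hord_conj]; exact hu
      by_cases hq : g₁ * u * g₁⁻¹ ∈ Q
      · exact ⟨g₁, hinQ _ ho hq⟩
      · obtain ⟨g₂, hg₂⟩ := hRC _ hg₁ ho hq
        exact Cfsg.Agent.Lead.conj_trans' ⟨g₁, rfl⟩ ⟨g₂, hg₂⟩
    intro a b ha hb
    rw [isConj_iff]
    exact Cfsg.Agent.Lead.conj_trans' (key a ha) (Cfsg.Agent.Lead.conj_symm' (key b hb))
  -- A implies RC
  have hP4 : (∀ H : Subgroup X, H.index ≠ 2) →
      ∀ u ∈ (S : Subgroup X), orderOf u = 2 → u ∉ Q → ∃ g : X, g * u * g⁻¹ = z := by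
    intro hA u _ hu _
    rcases Cfsg.Agent.Helper2.thompson_transfer_classical S Q hQi u hu with ⟨M, -, hMi, -⟩ | ⟨g, hg⟩
    · exact absurd hMi (hA M)
    · exact ⟨g, hinQ _ (by rw [hord_conj]; exact hu) hg⟩
  -- D implies RC
  have hP5 : (∀ U : Subgroup X, U ≤ S → IsKleinFour U →
      (Subgroup.centralizer (U : Set X)).relIndex (Subgroup.normalizer (U : Set X)) =
        (if Nat.card S = 4 then 3 else 6)) →
      ∀ u ∈ (S : Subgroup X), orderOf u = 2 → u ∉ Q → ∃ g : X, g * u * g⁻¹ = z := by
    intro hD u huS hu huQ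
    have huu : u * u = 1 := by
      have := pow_orderOf_eq_one u
      rw [hu, pow_two] at this
      exact this
    have hu1 : u ≠ 1 := by
      intro h
      rw [h, orderOf_one] at hu
      omega
    have hzu : z ≠ u := fun h => huQ (h ▸ hzQ)
    have hcomm : z * u = u * z := hzc u huS
    set U := Cfsg.Agent.Lead.fourOf z u hzz huu hcomm with hU
    have hUK : IsKleinFour U := Cfsg.Agent.Lead.fourOf_isKleinFour z u hzz huu hcomm hz1 hu1 hzu
    have hmemU : ∀ x : X, x ∈ U ↔ x = 1 ∨ x = z ∨ x = u ∨ x = z * u := fun x =>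
      Cfsg.Agent.Lead.mem_fourOf
    have hUS : U ≤ (S : Subgroup X) := by
      intro x hx
      rw [hmemU] at hx
      rcases hx with rfl | rfl | rfl | rfl
      · exact Subgroup.one_mem _
      · exact hzS
      · exact huS
      · exact Subgroup.mul_mem _ hzS huS
    have h3 : 3 ∣ (Subgroup.centralizer (U : Set X)).relIndex (Subgroup.normalizer (U : Set X)) := by
      rw [hD U hUS hUK]
      split_ifs
      · exact dvd_refl 3
      · exact ⟨2, rfl⟩
    have hker : (U.normalizerMonoidHom).ker.index =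
        (Subgroup.centralizer (U : Set X)).relIndex (Subgroup.normalizer (U : Set X)) := by
      rw [Subgroup.normalizerMonoidHom_ker U]
      rfl
    have h3' : 3 ∣ Nat.card (U.normalizerMonoidHom).range := by
      rw [← Subgroup.index_ker, hker]; exact h3
    haveI : Fact (Nat.Prime 3) := ⟨Nat.prime_three⟩
    haveI : Finite U := inferInstance
    obtain ⟨σ', hσ'⟩ := exists_prime_orderOf_dvd_card' 3 h3'
    obtain ⟨σ, hσσ'⟩ : ∃ σ : MulAut U, σ = (σ' : MulAut U) := ⟨_, rfl⟩
    obtain ⟨⟨g, hg⟩, hgσ'⟩ := σ'.2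
    have hgσ : U.normalizerMonoidHom ⟨g, hg⟩ = σ := by rw [hσσ']; exact hgσ'
    have hσ : orderOf σ = 3 := by
      rw [hσσ', Subgroup.orderOf_coe]; exact hσ'
    have hact : ∀ x : U, ((σ x : U) : X) = g * x * g⁻¹ := by
      intro x
      rw [← hgσ]
      exact Subgroup.normalizerMonoidHom_apply_apply_coe U ⟨g, hg⟩ x
    -- fixed points
    have hmod := Cfsg.Agent.Helper2.OddAut.card_modEq_fixSub σ 3 hσ
    have hcU : Nat.card U = 4 := hUK.card_four
    have hfix1 : Nat.card (Cfsg.Agent.Helper2.OddAut.fixSub σ) = 1 := by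
      have hdvd : Nat.card (Cfsg.Agent.Helper2.OddAut.fixSub σ) ∣ 4 := by
        rw [← hcU]; exact Subgroup.card_subgroup_dvd_card _
      have hne : Nat.card (Cfsg.Agent.Helper2.OddAut.fixSub σ) ≠ 4 := by
        intro h4
        have htop : Cfsg.Agent.Helper2.OddAut.fixSub σ = ⊤ := by
          rw [← Subgroup.card_eq_iff_eq_top, h4, hcU]
        have hσ1 : σ = 1 := by
          by_contra hne1
          exact Cfsg.Agent.Helper2.OddAut.fixSub_ne_top σ hne1 htop
        rw [hσ1, orderOf_one] at hσ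
        omega
      rw [hcU] at hmod
      have hm : 4 % 3 = Nat.card (Cfsg.Agent.Helper2.OddAut.fixSub σ) % 3 := hmod
      generalize Nat.card (Cfsg.Agent.Helper2.OddAut.fixSub σ) = nn at hdvd hne hm ⊢
      have h22 : nn ∣ 2 ^ 2 := hdvd
      obtain ⟨j, hj2, rfl⟩ := (Nat.dvd_prime_pow Nat.prime_two).mp h22
      interval_cases j
      · rfl
      · omega
      · omega
    have hnofix : ∀ x : U, σ x = x → x = 1 := by
      intro x hx
      have hxm : x ∈ Cfsg.Agent.Helper2.OddAut.fixSub σ := hx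
      have hbot : Cfsg.Agent.Helper2.OddAut.fixSub σ = ⊥ := Subgroup.card_eq_one.mp hfix1
      rw [hbot, Subgroup.mem_bot] at hxm
      exact hxm
    have hzU : z ∈ U := by rw [hmemU]; right; left; rfl
    have huU : u ∈ U := by rw [hmemU]; right; right; left; rfl
    have hσz : ((σ ⟨z, hzU⟩ : U) : X) ∈ U := (σ ⟨z, hzU⟩).2
    rw [hmemU, hact] at hσz
    have hgz1 : g * z * g⁻¹ ≠ 1 := by
      intro h
      apply hz1
      calc z = g⁻¹ * (g * z * g⁻¹) * g := by group
        _ = 1 := by rw [h]; group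
    have hgzz : g * z * g⁻¹ ≠ z := by
      intro h
      have : σ ⟨z, hzU⟩ = ⟨z, hzU⟩ := Subtype.ext (by rw [hact]; exact h)
      have := hnofix _ this
      exact hz1 (congrArg Subtype.val this)
    rcases hσz with h | h | h | h
    · exact absurd h hgz1
    · exact absurd h hgzz
    · exact Cfsg.Agent.Lead.conj_symm' ⟨g, h⟩
    · -- g z g⁻¹ = z u, then g u g⁻¹ = z
      have hσu : ((σ ⟨u, huU⟩ : U) : X) ∈ U := (σ ⟨u, huU⟩).2
      rw [hmemU, hact] at hσu
      change g * z * g⁻¹ = z * u at h
      rcases hσu with h' | h' | h' | h'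
      · exfalso
        apply hu1
        change g * u * g⁻¹ = 1 at h'
        calc u = g⁻¹ * (g * u * g⁻¹) * g := by group
          _ = 1 := by rw [h']; group
      · exact ⟨g, h'⟩
      · exfalso
        have : σ ⟨u, huU⟩ = ⟨u, huU⟩ := Subtype.ext (by rw [hact]; exact h')
        have := hnofix _ this
        exact hu1 (congrArg Subtype.val this)
      · exfalso
        change g * u * g⁻¹ = z * u at h'
        apply hzu
        have : g * z * g⁻¹ = g * u * g⁻¹ := by rw [h, h']
        exact mul_left_cancel (mul_right_cancel this)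
  -- C implies A
  have hCA : (∀ a b : X, orderOf a = 2 → orderOf b = 2 → IsConj a b) →
      ∀ H : Subgroup X, H.index ≠ 2 := by
    intro hC H hH
    haveI : H.Normal := Subgroup.normal_of_index_eq_two hH
    have h4 : 4 ∣ Nat.card X := by
      have h1 : Nat.card (S : Subgroup X) ∣ Nat.card X := Subgroup.card_subgroup_dvd_card _
      rw [hcardS] at h1
      have : 4 ∣ 2 * 2 ^ k := by
        have : 2 ^ k = 2 * 2 ^ (k - 1) := by rw [← pow_succ']; congr 1; omega
        rw [this]
        exact ⟨2 ^ (k - 1), by ring⟩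
      exact this.trans h1
    have h2 : 2 ∣ Nat.card H := by
      have := H.card_mul_index
      rw [hH] at this
      omega
    obtain ⟨t, ht⟩ := exists_prime_orderOf_dvd_card' 2 h2
    have hto : orderOf (t : X) = 2 := by rw [Subgroup.orderOf_coe]; exact ht
    have hinv : ∀ v : X, orderOf v = 2 → v ∈ H := by
      intro v hv
      have := hC (t : X) v hto hv
      rw [isConj_iff] at this
      obtain ⟨c, hc⟩ := this
      rw [← hc]
      exact ‹H.Normal›.conj_mem _ t.2 c
    have hSH : (S : Subgroup X) ≤ H := by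
      intro s hs
      have hsr : ∀ i : ZMod (2 ^ k), ((eS.symm (DihedralGroup.sr i) : (S : Subgroup X)) : X) ∈ H := by
        intro i
        apply hinv
        rw [Subgroup.orderOf_coe, MulEquiv.orderOf_eq, DihedralGroup.orderOf_sr]
      obtain ⟨d, hd⟩ : ∃ d, eS ⟨s, hs⟩ = d := ⟨_, rfl⟩
      have hs' : (⟨s, hs⟩ : (S : Subgroup X)) = eS.symm d := by rw [← hd, MulEquiv.symm_apply_apply]
      cases d with
      | r i =>
        have : (DihedralGroup.r i : DihedralGroup (2 ^ k)) = DihedralGroup.sr 0 * DihedralGroup.sr i := by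
          rw [DihedralGroup.sr_mul_sr, sub_zero]
        rw [this, map_mul] at hs'
        have h5 := congrArg Subtype.val hs'
        rw [Subgroup.coe_mul] at h5
        change s = _ at h5
        rw [h5]
        exact H.mul_mem (hsr 0) (hsr i)
      | sr i =>
        have h5 := congrArg Subtype.val hs'
        change s = _ at h5
        rw [h5]
        exact hsr i
    have h6 : H.index ∣ (S : Subgroup X).index := Subgroup.index_dvd_of_le hSH
    rw [hH] at h6
    exact S.not_dvd_index h6
  -- C implies B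
  have hCB : (∀ a b : X, orderOf a = 2 → orderOf b = 2 → IsConj a b) →
      ∀ z' : X, ¬ Cfsg.IsIsolatedInvolution z' := by
    intro hC z' ⟨hz'o, hz'iso⟩
    obtain ⟨x, hx⟩ := hconjS z' hz'o
    set z'' := x * z' * x⁻¹ with hz''
    have hz''o : orderOf z'' = 2 := by rw [hz'', hord_conj]; exact hz'o
    -- an involution of S commuting with z'' and different from it
    obtain ⟨w, hwS, hwo, hwc, hwne⟩ : ∃ w ∈ (S : Subgroup X), orderOf w = 2 ∧ z'' * w = w * z'' ∧ w ≠ z'' := by
      by_cases hq : z'' ∈ Q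
      · have hzz'' : z'' = z := hinQ z'' hz''o hq
        refine ⟨((eS.symm (DihedralGroup.sr 0) : (S : Subgroup X)) : X), (eS.symm _).2, ?_, ?_, ?_⟩
        · rw [Subgroup.orderOf_coe, MulEquiv.orderOf_eq, DihedralGroup.orderOf_sr]
        · rw [hzz'']; exact hzc _ (eS.symm _).2
        · rw [hzz'']
          intro h
          have h1 : eS.symm (DihedralGroup.sr 0) = eS.symm zd := Subtype.ext h
          have := eS.symm.injective h1
          rw [hzd] at this
          exact absurd this (by simp)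
      · refine ⟨z, hzS, hzo, (hzc z'' hx).symm, ?_⟩
        intro h
        exact hq (h ▸ hzQ)
    set w' := x⁻¹ * w * x with hw'
    have hw'o : orderOf w' = 2 := by
      have := hord_conj x⁻¹ w
      rw [inv_inv] at this
      rw [hw', this]; exact hwo
    have hw'c : Commute z' w' := by
      unfold Commute SemiconjBy
      have h1 : z' = x⁻¹ * z'' * x := by rw [hz'']; group
      rw [h1, hw']
      calc x⁻¹ * z'' * x * (x⁻¹ * w * x) = x⁻¹ * (z'' * w) * x := by group
        _ = x⁻¹ * (w * z'') * x := by rw [hwc]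
        _ = x⁻¹ * w * x * (x⁻¹ * z'' * x) := by group
    have hw'ne : w' ≠ z' := by
      intro h
      apply hwne
      rw [hz'', ← h, hw']; group
    have := hC z' w' hz'o hw'o
    rw [isConj_iff] at this
    obtain ⟨c, hc⟩ := this
    have := hz'iso c (by rw [hc]; exact hw'c)
    rw [hc] at this
    exact hw'ne this
  constructor
  · rintro ⟨hA, -⟩
    left
    exact hP3 (hP4 hA)
  · rintro (hC | hD)
    · exact ⟨hCA hC, hCB hC⟩
    · have hC := hP3 (hP5 hD)
      exact ⟨hCA hC, hCB hC⟩

end Cfsg.Agent.S1255
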