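import Mathlib
import Cfsg.Statements.S1256
import Cfsg.Agent.Helper2.Dih4b

set_option autoImplicit false
open Cfsg

namespace Cfsg.Agent.S1256

open Cfsg.Agent.Helper2

/-- Let X be a finite group whose Sylow 2-subgroup S is dihedral of order 2m ≥ 4. If |S| = 4, any two Klein four-subgroups of X are conjugate; if |S| > 4, there are Klein four-subgroups U₁, U₂ of X that are not conjugate, and every Klein four-subgroup of X is conjugate to U₁ or to U₂. -/
theorem result {X : Type*} [Group X] [Finite X] (S : Sylow 2 X) (m : ℕ) (hm : 2 ≤ m) (eS : (S : Subgroup X) ≃* DihedralGroup m) : (Nat.card S = 4 → ∀ U V : Subgroup X, IsKleinFour U → IsKleinFour V → (∃ x : X, U.map (MulAut.conj x).toMonoidHom = V)) ∧ (4 < Nat.card S → ∃ U₁ U₂ : Subgroup X, IsKleinFour U₁ ∧ IsKleinFour U₂ ∧ ¬ (∃ x : X, U₁.map (MulAut.conj x).toMonoidHom = U₂) ∧ ∀ V : Subgroup X, IsKleinFour V → (∃ x : X, V.map (MulAut.conj x).toMonoidHom = U₁) ∨ (∃ x : X, V.map (MulAut.conj x).toMonoidHom = U₂)) := by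
  haveI : Fact (Nat.Prime 2) := ⟨Nat.prime_two⟩
  haveI : NeZero m := ⟨by omega⟩
  have hcardS : Nat.card (S : Subgroup X) = 2 * m := by
    rw [Nat.card_congr eS.toEquiv, DihedralGroup.nat_card]
  constructor
  · intro h4 U V hU hV
    have hU2 : Nat.card U = 2 ^ (Nat.card X).factorization 2 := by
      rw [hU.card_four, ← h4]; exact S.card_eq_multiplicity
    have hV2 : Nat.card V = 2 ^ (Nat.card X).factorization 2 := by
      rw [hV.card_four, ← h4]; exact S.card_eq_multiplicity
    obtain ⟨g, hg⟩ := MulAction.exists_smul_eq X (Sylow.ofCard U hU2) (Sylow.ofCard V hV2)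
    refine ⟨g, ?_⟩
    have h1 : ((g • Sylow.ofCard U hU2 : Sylow 2 X) : Subgroup X) = V := by rw [hg]; rfl
    rw [Sylow.coe_subgroup_smul] at h1
    exact h1
  · intro h4
    obtain ⟨a, ha⟩ := IsPGroup.iff_card.mp S.isPGroup'
    have ha' : Nat.card (S : Subgroup X) = 2 ^ a := ha
    have h4' : 4 < Nat.card (S : Subgroup X) := h4
    have ha3 : 3 ≤ a := by
      by_contra hlt
      push Not at hlt
      have : 2 ^ a ≤ 2 ^ 2 := Nat.pow_le_pow_right (by norm_num) (by omega)
      rw [ha'] at h4'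
      omega
    have hm : m = 4 * 2 ^ (a - 3) := by
      have h1 : 2 ^ a = 2 * (4 * 2 ^ (a - 3)) := by
        have : a = (a - 3) + 3 := by omega
        conv_lhs => rw [this, pow_add]
        ring
      rw [ha', h1] at hcardS
      omega
    have hk : m = 2 * (2 * 2 ^ (a - 3)) := by rw [hm]; ring
    have hd4 : 4 ∣ m := ⟨2 ^ (a - 3), hm⟩
    exact ⟨Dih4.V (S : Subgroup X) m eS 0, Dih4.V (S : Subgroup X) m eS 1,
      Dih4.V_klein (S : Subgroup X) m eS _ hk 0, Dih4.V_klein (S : Subgroup X) m eS _ hk 1,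
      Dih4.not_conj (S : Subgroup X) m eS _ hk hd4 S.isPGroup' S.card_eq_multiplicity,
      fun V hV => Dih4.klein_conj (S : Subgroup X) m eS S rfl V hV⟩

end Cfsg.Agent.S1256
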