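import Cfsg.Statements.S1271
import Cfsg.Agent.Helper6.LBalD

set_option autoImplicit false
open Cfsg

namespace Cfsg.Agent.S1271

/-- Let G be finite with O_{p'}(G) = 1. Suppose that for every component L of G and every subgroup H ≥ L in which L is normal, the quotient H / C_H(L) is balanced for the prime p. Then G is balanced for p. -/
theorem result {G : Type*} [Group G] [Finite G] (p : ℕ) [Fact p.Prime] (hO : Cfsg.pPrimeCore p G = ⊥) (h : ∀ L : Subgroup G, Cfsg.IsComponent L → ∀ H : Subgroup G, L ≤ H → (L.subgroupOf H).Normal → ∀ [((Subgroup.centralizer (L : Set G)).subgroupOf H).Normal], Cfsg.IsBalancedFor p (↥H ⧸ (Subgroup.centralizer (L : Set G)).subgroupOf H)) : Cfsg.IsBalancedFor p G := by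
  classical
  open Cfsg.Agent.Helper6.LBal Cfsg.Agent.Helper2 Cfsg.Agent.Helper1 in
  intro x hx
  rw [hO]
  by_contra hne
  have hp : p.Prime := Fact.out
  set X := coreOf p (Subgroup.centralizer ({x} : Set G)) with hX
  have hX1 : X ≠ ⊥ := fun h0 => hne (le_of_eq h0)
  set A := Subgroup.zpowers x with hA
  have hx1 : x ≠ 1 := by
    intro h1
    rw [h1, orderOf_one] at hx
    exact hp.one_lt.ne hx
  have hA1 : A ≠ ⊥ := by
    intro h0
    have : x ∈ (⊥ : Subgroup G) := h0 ▸ Subgroup.mem_zpowers x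
    exact hx1 (Subgroup.mem_bot.mp this)
  have hAp : ∀ a ∈ A, a ≠ 1 → orderOf a = p := fun a ha ha1 => orderOf_of_mem_zpowers hx ha ha1
  have hXA : ∀ a ∈ A, a ≠ 1 → X ≤ coreOf p (Subgroup.centralizer ({a} : Set G)) := by
    intro a ha ha1
    rw [centralizer_eq_of_mem_zpowers hx ha ha1]
  obtain ⟨E, hE, hAE, hXE, hAnc, hXnc⟩ := exists_component p hO A X hA1 hAp hX1 hXA
  set N := E ⊔ A ⊔ X with hN
  have hEN : E ≤ N := le_sup_left.trans le_sup_left
  have hAN : A ≤ N := le_sup_right.trans le_sup_left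
  have hXN : X ≤ N := le_sup_right
  have hNE : N ≤ Subgroup.normalizer (E : Set G) :=
    sup_le (sup_le Subgroup.le_normalizer hAE) hXE
  have hEn : (E.subgroupOf N).Normal := (Subgroup.normal_subgroupOf_iff_le_normalizer hEN).mpr hNE
  have hCn : ((Subgroup.centralizer (E : Set G)).subgroupOf N).Normal := by
    have h1 : N ≤ Subgroup.normalizer ((Subgroup.centralizer (E : Set G) : Subgroup G) : Set G) :=
      hNE.trans (Cfsg.Agent.Helper2.normalizer_le_normalizer_centralizer E)
    have h2 : N ≤ Subgroup.normalizer ((Subgroup.centralizer (E : Set G) ⊓ N : Subgroup G) : Set G) :=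
      le_normalizer_inf h1 Subgroup.le_normalizer
    have h3 := (Subgroup.normal_subgroupOf_iff_le_normalizer
      (inf_le_right : Subgroup.centralizer (E : Set G) ⊓ N ≤ N)).mpr h2
    have h4 : (Subgroup.centralizer (E : Set G) ⊓ N).subgroupOf N =
        (Subgroup.centralizer (E : Set G)).subgroupOf N := by
      ext z; simp [Subgroup.mem_subgroupOf]
    rw [h4] at h3
    exact h3
  have hbal := @h E hE N hEN hEn hCn
  set f := QuotientGroup.mk' ((Subgroup.centralizer (E : Set G)).subgroupOf N) with hf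
  have hfs : Function.Surjective f := QuotientGroup.mk'_surjective _
  have hker : f.ker = (Subgroup.centralizer (E : Set G)).subgroupOf N := QuotientGroup.ker_mk' _
  have hxA : x ∈ A := Subgroup.mem_zpowers x
  have hxN : x ∈ N := hAN hxA
  have hApg : IsPGroup p ↥A := by
    apply IsPGroup.of_card (n := 1)
    rw [hA, Nat.card_zpowers, hx, pow_one]
  have hXcop : (Nat.card ↥X).Coprime p := card_coreOf_coprime p _
  have hAX : ∀ a ∈ A, ∀ y ∈ X, a * y = y * a := by
    intro a ha y hy
    have h1 := coreOf_le p _ hy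
    rw [← centralizer_zpowers_eq, Subgroup.mem_centralizer_iff] at h1
    exact h1 a ha
  -- the image of `x` has order `p`
  have hfx : orderOf (f ⟨x, hxN⟩) = p := by
    apply orderOf_eq_prime
    · rw [← map_pow]
      have : (⟨x, hxN⟩ : ↥N) ^ p = 1 := by
        apply Subtype.ext
        rw [Subgroup.coe_pow, Subgroup.coe_one, ← hx]
        exact pow_orderOf_eq_one x
      rw [this, map_one]
    · intro h1
      have h2 : (⟨x, hxN⟩ : ↥N) ∈ f.ker := MonoidHom.mem_ker.mpr h1
      rw [hker, Subgroup.mem_subgroupOf] at h2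
      exact hAnc x hxA hx1 h2
  have hcore := hbal (f ⟨x, hxN⟩) hfx
  -- every element of `X` maps into `O_{p'}` of the quotient
  have hXmap : ∀ y (hy : y ∈ X), f ⟨y, hXN hy⟩ ∈
      Cfsg.pPrimeCore p (↥N ⧸ (Subgroup.centralizer (E : Set G)).subgroupOf N) := by
    intro y hy
    apply hcore
    exact transfer_core p hO E A X hE hAE hXE hApg hXcop hAX N hN f hfs hker x hxA
      (hXA x hxA hx1) y hy hxN (hXN hy)
  -- the preimage of the `p'`-core
  set Yt := ((Cfsg.pPrimeCore p (↥N ⧸ (Subgroup.centralizer (E : Set G)).subgroupOf N)).comap f).map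
    N.subtype with hYt
  have hYtn : E ≤ Subgroup.normalizer (Yt : Set G) := by
    apply le_normalizer_of_conj_mem
    rintro e he _ ⟨z, hz, rfl⟩
    refine ⟨⟨e, hEN he⟩ * z * ⟨e, hEN he⟩⁻¹, ?_, by simp⟩
    have hn : ((Cfsg.pPrimeCore p (↥N ⧸ (Subgroup.centralizer (E : Set G)).subgroupOf N)).comap
      f).Normal := inferInstance
    exact hn.conj_mem z hz _
  have hm : (Nat.card ↥(Cfsg.pPrimeCore p
      (↥N ⧸ (Subgroup.centralizer (E : Set G)).subgroupOf N))).Coprime p :=
    card_pPrimeCore_coprime p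
  rcases component_le_or_commutator_eq_bot E Yt hE hYtn with hle | hcomm
  · -- `E ≤ Yt` is impossible
    refine component_not_forall_pow_mem p hO hE _ hm ?_
    intro e he
    obtain ⟨z, hz0, hze⟩ := hle he
    have hz : f z ∈ Cfsg.pPrimeCore p (↥N ⧸ (Subgroup.centralizer (E : Set G)).subgroupOf N) :=
      Subgroup.mem_comap.mp hz0
    have h1 : (f z) ^ (Nat.card ↥(Cfsg.pPrimeCore p
        (↥N ⧸ (Subgroup.centralizer (E : Set G)).subgroupOf N))) = 1 := by
      have := pow_card_eq_one' (G := ↥(Cfsg.pPrimeCore p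
        (↥N ⧸ (Subgroup.centralizer (E : Set G)).subgroupOf N))) (x := ⟨f z, hz⟩)
      exact congrArg Subtype.val this
    rw [← map_pow] at h1
    have h2 : z ^ (Nat.card ↥(Cfsg.pPrimeCore p
        (↥N ⧸ (Subgroup.centralizer (E : Set G)).subgroupOf N))) ∈ f.ker := MonoidHom.mem_ker.mpr h1
    rw [hker, Subgroup.mem_subgroupOf, Subgroup.coe_pow] at h2
    rw [← hze]
    exact h2
  · apply hXnc
    rw [Subgroup.commutator_eq_bot_iff_le_centralizer] at hcomm
    have h1 : X ≤ Yt := by
      intro y hy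
      exact ⟨⟨y, hXN hy⟩, hXmap y hy, rfl⟩
    exact Subgroup.le_centralizer_iff.mp (hcomm.trans (Subgroup.centralizer_le h1))

end Cfsg.Agent.S1271
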