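import Mathlib
import Cfsg.Statements.S1273
import Cfsg.Agent.Helper2.PComp3

set_option autoImplicit false
open Cfsg

namespace Cfsg.Agent.S1273

open Cfsg.Agent.Helper2

/-- Let K be a p-component of the finite group X and N a normal subgroup of K whose index in K is prime to p. Then N = K. -/
theorem result {X : Type*} [Group X] [Finite X] (p : ℕ) [Fact p.Prime] (K : Subgroup X) (hK : Cfsg.IsPComponent p K) (N : Subgroup ↥K) [N.Normal] (hidx : (N.index).Coprime p) : N = ⊤ := by
  have h1 := pComponent_opp_eq p hK
  have hle : N.map K.subtype ≤ K := by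
    rintro _ ⟨x, -, rfl⟩; exact x.2
  have hsub : (N.map K.subtype).subgroupOf K = N := by
    ext x
    rw [Subgroup.mem_subgroupOf]
    constructor
    · rintro ⟨y, hy, hxy⟩
      have : y = x := Subtype.ext hxy
      rwa [← this]
    · intro hx; exact ⟨x, hx, rfl⟩
  have hn : K ≤ Subgroup.normalizer ((N.map K.subtype : Subgroup X) : Set X) := by
    rw [← Subgroup.normal_subgroupOf_iff_le_normalizer hle, hsub]
    infer_instance
  have hcop : ((N.map K.subtype).relIndex K).Coprime p := by
    rw [Subgroup.relIndex, hsub]; exact hidx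
  have h2 := opp_le_of_coprime_relIndex K (N.map K.subtype) hle hn hcop
  rw [h1] at h2
  rw [eq_top_iff]
  intro x _
  obtain ⟨y, hy, hxy⟩ := h2 x.2
  have : y = x := Subtype.ext hxy
  rwa [← this]

end Cfsg.Agent.S1273
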