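import Mathlib
import Cfsg.Statements.S1278
import Cfsg.Agent.Helper2.PComp5

set_option autoImplicit false
open Cfsg

namespace Cfsg.Agent.S1278

open Cfsg.Agent.Helper2

/-- Let K ≠ L be 2-components of the finite group X. Then ⁅K, L⁆ ≤ O(K) ⊓ O(L), and if K is quasisimple then ⁅K, L⁆ = 1. -/
theorem result {X : Type*} [Group X] [Finite X] (K L : Subgroup X) (hK : Cfsg.IsPComponent 2 K) (hL : Cfsg.IsPComponent 2 L) (hne : K ≠ L) : ⁅K, L⁆ ≤ ((Cfsg.oddCore ↥K).map K.subtype) ⊓ ((Cfsg.oddCore ↥L).map L.subtype) ∧ (Cfsg.IsQuasisimple ↥K → ⁅K, L⁆ = ⊥) := by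
  have : Fact (Nat.Prime 2) := ⟨Nat.prime_two⟩
  have h1 := pComponent_commutator_le 2 hK hL hne
  refine ⟨h1, ?_⟩
  intro hq
  have h2 := pComponent_commutator_core_eq_bot hK hq
  have h3 : ⁅⁅L, K⁆, K⁆ = ⊥ := by
    rw [eq_bot_iff, ← h2, Subgroup.commutator_comm L K, Subgroup.commutator_comm _ K]
    exact Subgroup.commutator_mono le_rfl (h1.trans inf_le_left)
  have h4 := commutator_eq_bot_of_commutator_commutator_eq_bot (pComponent_perfect hK) h3
  rwa [Subgroup.commutator_comm] at h4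

end Cfsg.Agent.S1278
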