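import Mathlib
import Cfsg.Statements.S1279
import Cfsg.Agent.Helper2.SolvBalance

set_option autoImplicit false
open Cfsg

namespace Cfsg.Agent.S1279

open Cfsg.Agent.Helper2

/-- Let A be a noncyclic elementary abelian p-subgroup of the finite group G such that C_G(a) is solvable for every non-identity a ∈ A. Then a ↦ O_{p'}(C_G(a)) is a solvable A-signalizer functor on G. -/
theorem result {G : Type*} [Group G] [Finite G] (p : ℕ) [Fact p.Prime] (A : Subgroup G) (hA : Cfsg.IsElementaryAbelian p A) (hA2 : p ^ 2 ≤ Nat.card ↥A) (hsolv : ∀ a ∈ A, a ≠ 1 → Group.IsSolvable ↥(Subgroup.centralizer ({a} : Set G))) : Cfsg.IsSolvableSignalizerFunctor p A (fun a => Cfsg.centralizerPPrimeCore p a) := by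
  have hcomm : ∀ a ∈ A, ∀ b ∈ A, a * b = b * a := by
    intro a ha b hb
    have := hA.1
    exact setLike_mul_comm (s := A) ha hb
  have hzp : ∀ a ∈ A, IsPGroup p ↥(Subgroup.zpowers a) := by
    intro a ha g
    refine ⟨1, ?_⟩
    obtain ⟨i, hi⟩ := g.2
    apply Subtype.ext
    rw [Subgroup.coe_pow, Subgroup.coe_one, ← hi]
    change (a ^ i) ^ p ^ 1 = 1
    rw [pow_one, ← zpow_natCast, ← zpow_mul, mul_comm, zpow_mul, zpow_natCast, hA.2 a ha, one_zpow]
  refine ⟨⟨?_, ?_, ?_, ?_⟩, ?_⟩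
  · intro a _ _
    exact coreOf_le p _
  · intro a _ _
    have h1 := card_coreOf_coprime p (Subgroup.centralizer ({a} : Set G))
    intro hdvd
    have h2 := Nat.Coprime.eq_one_of_dvd h1.symm hdvd
    exact (Fact.out : p.Prime).one_lt.ne' h2
  · intro a ha _ b hb x hx
    have hbC : b ∈ Subgroup.centralizer ({a} : Set G) := by
      rw [Subgroup.mem_centralizer_singleton_iff]; exact hcomm b hb a ha
    obtain ⟨d, hd, rfl⟩ := hx
    have hn : (Cfsg.pPrimeCore p ↥(Subgroup.centralizer ({a} : Set G))).Normal :=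
      Cfsg.pPrimeCore_normal p _
    exact ⟨⟨b, hbC⟩ * d * ⟨b, hbC⟩⁻¹, hn.conj_mem d hd _, rfl⟩
  · intro a ha _ b hb hb1
    have := hsolv b hb hb1
    exact coreOf_inf_centralizer_le p a b (hcomm a ha b hb) (hzp a ha) (pLayer_eq_bot_of_isSolvable p)
  · intro a ha ha1
    have := hsolv a ha ha1
    exact Cfsg.Agent.Helper1.isSolvable_of_le (coreOf_le p (Subgroup.centralizer ({a} : Set G))) this

end Cfsg.Agent.S1279
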