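import Mathlib
import Cfsg.Statements.S1280
import Cfsg.Agent.Helper2.Signalizer1

set_option autoImplicit false
open Cfsg

namespace Cfsg.Agent.S1280

open Cfsg.Agent.Helper2

/-- Let θ be a solvable A-signalizer functor (A a noncyclic elementary abelian p-subgroup of the finite group G), and X, Y members of its family with Y ≤ N_G(X). Then X ⊔ Y (= XY) is again in the family. -/
theorem result {G : Type*} [Group G] [Finite G] (p : ℕ) [Fact p.Prime] (A : Subgroup G) (hA : Cfsg.IsElementaryAbelian p A) (hA2 : p ^ 2 ≤ Nat.card ↥A) (θ : G → Subgroup G) (hθ : Cfsg.IsSolvableSignalizerFunctor p A θ) (X Y : Subgroup G) (hX : X ∈ Cfsg.signalizerFamily p A θ) (hY : Y ∈ Cfsg.signalizerFamily p A θ) (hn : Y ≤ Subgroup.normalizer (X : Set G)) : X ⊔ Y ∈ Cfsg.signalizerFamily p A θ := by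
  obtain ⟨hXs, hXp, hXi, hXb⟩ := hX
  obtain ⟨hYs, hYp, hYi, hYb⟩ := hY
  have hAX : A ≤ Subgroup.normalizer (X : Set G) := le_normalizer_of_conj_mem hXi
  have hAY : A ≤ Subgroup.normalizer (Y : Set G) := le_normalizer_of_conj_mem hYi
  have hcard : ¬ p ∣ Nat.card ↥(X ⊔ Y) := by
    intro hdvd
    have h1 := hdvd.trans (card_sup_dvd_of_le_normalizer hn)
    rcases (Nat.Prime.dvd_mul (Fact.out : p.Prime)).mp h1 with h | h
    · exact hXp h
    · exact hYp h
  have hinv : ∀ b ∈ A, ∀ u ∈ X ⊔ Y, b * u * b⁻¹ ∈ X ⊔ Y := by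
    intro b hb u hu
    obtain ⟨x, hx, y, hy, rfl⟩ := Cfsg.Agent.Helper1.mem_sup_of_le_normalizer hn hu
    have : b * (x * y) * b⁻¹ = (b * x * b⁻¹) * (b * y * b⁻¹) := by group
    rw [this]
    exact Subgroup.mul_mem _ (Subgroup.mem_sup_left (hXi b hb x hx))
      (Subgroup.mem_sup_right (hYi b hb y hy))
  refine ⟨isSolvable_sup_of_le_normalizer hXs hYs hn, hcard, hinv, ?_⟩
  intro a ha ha1
  rintro k ⟨hkK, hka⟩
  obtain ⟨x, hx, y, hy, hkxy⟩ := Cfsg.Agent.Helper1.mem_sup_of_le_normalizer hn hkK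
  set B := Subgroup.zpowers a with hB
  have hBA : B ≤ A := by rw [hB, Subgroup.zpowers_le]; exact ha
  have hBK : B ≤ Subgroup.normalizer ((X ⊔ Y : Subgroup G) : Set G) :=
    hBA.trans (le_normalizer_of_conj_mem hinv)
  have hcop : (Nat.card B).Coprime (Nat.card ↥(X ⊔ Y)) := card_zpowers_coprime hA ha ha1 hcard
  have hBs : Group.IsSolvable ↥B := by rw [hB]; infer_instance
  have hkB : k ∈ Subgroup.centralizer (B : Set G) := by
    rw [hB, centralizer_zpowers_eq]; exact hka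
  obtain ⟨x', hx', y', hy', hk'⟩ := Cfsg.Agent.Helper1.coprime_fixed_points_mul B (X ⊔ Y) hBK hcop
    (Or.inl hBs) X Y le_sup_left le_sup_right (hBA.trans hAX) (hBA.trans hAY) k x y hx hy hkxy hkB
  rw [hB, centralizer_zpowers_eq] at hx' hy'
  rw [hk']
  exact Subgroup.mul_mem _ (hXb a ha ha1 hx') (hYb a ha ha1 hy')

end Cfsg.Agent.S1280
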