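import Mathlib
import Cfsg.Statements.S1281
import Cfsg.Agent.Helper2.Signalizer1

set_option autoImplicit false
open Cfsg

namespace Cfsg.Agent.S1281

open Cfsg.Agent.Helper2

/-- Let θ be a solvable A-signalizer functor on the finite group G (A a noncyclic elementary abelian p-subgroup) and N a normal subgroup of order prime to p. Then for all non-identity a, b ∈ A, the image of θ a in G / N meets the centralizer of the image of b inside the image of θ b. -/
theorem result {G : Type*} [Group G] [Finite G] (p : ℕ) [Fact p.Prime] (A : Subgroup G) (hA : Cfsg.IsElementaryAbelian p A) (hA2 : p ^ 2 ≤ Nat.card ↥A) (θ : G → Subgroup G) (hθ : Cfsg.IsSolvableSignalizerFunctor p A θ) (N : Subgroup G) [N.Normal] (hN : ¬ p ∣ Nat.card ↥N) (a b : G) (ha : a ∈ A) (ha1 : a ≠ 1) (hb : b ∈ A) (hb1 : b ≠ 1) : (θ a).map (QuotientGroup.mk' N) ⊓ Subgroup.centralizer {QuotientGroup.mk' N b} ≤ (θ b).map (QuotientGroup.mk' N) := by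
  obtain ⟨⟨hθ1, hθ2, hθ3, hθ4⟩, hθs⟩ := hθ
  rintro _ ⟨⟨y, hy, rfl⟩, hcent⟩
  have hcent' := Subgroup.mem_centralizer_singleton_iff.mp hcent
  set π := QuotientGroup.mk' N with hπ
  set B := Subgroup.zpowers b with hB
  set K := θ a with hK
  have hBA : B ≤ A := by rw [hB, Subgroup.zpowers_le]; exact hb
  have hAK : A ≤ Subgroup.normalizer (K : Set G) := le_normalizer_of_conj_mem (hθ3 a ha ha1)
  have hBK : B ≤ Subgroup.normalizer (K : Set G) := hBA.trans hAK
  have hcop : (Nat.card B).Coprime (Nat.card K) := card_zpowers_coprime hA hb hb1 (hθ2 a ha ha1)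
  have hBs : Group.IsSolvable ↥B := by rw [hB]; infer_instance
  have hNn : ∀ H : Subgroup G, H ≤ Subgroup.normalizer (N : Set G) := by
    intro H; rw [Subgroup.normalizer_eq_top]; exact le_top
  have hKD : K ≤ Subgroup.normalizer ((K ⊓ N : Subgroup G) : Set G) :=
    Cfsg.Agent.Helper1.le_normalizer_inf Subgroup.le_normalizer (hNn K)
  have hBD : B ≤ Subgroup.normalizer ((K ⊓ N : Subgroup G) : Set G) :=
    Cfsg.Agent.Helper1.le_normalizer_inf hBK (hNn B)
  have hfix : ∀ b' ∈ B, b' * y * b'⁻¹ * y⁻¹ ∈ K ⊓ N := by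
    intro b' hb'
    refine ⟨K.mul_mem (conj_mem_of_le_normalizer hBK b' hb' y hy) (K.inv_mem hy), ?_⟩
    change b' * y * b'⁻¹ * y⁻¹ ∈ N
    rw [← QuotientGroup.eq_one_iff, ← QuotientGroup.mk'_apply, ← hπ]
    obtain ⟨k, rfl⟩ := Subgroup.mem_zpowers_iff.mp hb'
    have hc : Commute (π b) (π y) := hcent'.symm
    have hc2 : Commute (π (b ^ k)) (π y) := by
      rw [map_zpow]; exact hc.zpow_left k
    rw [map_mul, map_mul, map_mul, map_inv, map_inv, hc2.eq, mul_inv_cancel_right, mul_inv_cancel]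
  obtain ⟨c, hc, hyc⟩ := Cfsg.Agent.Helper1.coprime_fixed_coset B K hBK hcop (Or.inl hBs) (K ⊓ N)
    inf_le_left hKD hBD y hy hfix
  have hcb : c ∈ Subgroup.centralizer ({b} : Set G) := by
    rw [← centralizer_zpowers_eq]; exact hc.2
  have hcθ : c ∈ θ b := hθ4 a ha ha1 b hb hb1 ⟨hc.1, hcb⟩
  refine ⟨c, hcθ, ?_⟩
  symm
  rw [hπ, QuotientGroup.mk'_apply, QuotientGroup.mk'_apply, QuotientGroup.eq]
  exact hyc.2

end Cfsg.Agent.S1281
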