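import Mathlib
import Cfsg.Statements.S1282
import Cfsg.Agent.Helper2.Signalizer2
import Cfsg.Agent.Helper2.BaerSuzuki
import Cfsg.Agent.Helper1.Card

set_option autoImplicit false
open Cfsg

namespace Cfsg.Agent.S1282

open Cfsg.Agent.Helper2

/-- Let A be an elementary abelian p-subgroup of rank at least 3 of the finite group G, q ≠ p a prime, and Q₁, Q₂ q-subgroups normalized by A with D = Q₁ ∩ Q₂ different from both. Then there is a non-identity a ∈ A such that, for i = 1 and i = 2, N_{Q_i}(D) ∩ C_G(a) is not contained in D. -/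
theorem result {G : Type*} [Group G] [Finite G] (p : ℕ) [Fact p.Prime] (A : Subgroup G) (hA : Cfsg.IsElementaryAbelian p A) (hA3 : p ^ 3 ≤ Nat.card ↥A) (q : ℕ) [Fact q.Prime] (hqp : q ≠ p) (Q₁ Q₂ : Subgroup G) (h₁ : IsPGroup q ↥Q₁) (h₂ : IsPGroup q ↥Q₂) (hA₁ : A ≤ Subgroup.normalizer (Q₁ : Set G)) (hA₂ : A ≤ Subgroup.normalizer (Q₂ : Set G)) (hD₁ : Q₁ ⊓ Q₂ ≠ Q₁) (hD₂ : Q₁ ⊓ Q₂ ≠ Q₂) : ∃ a ∈ A, a ≠ 1 ∧ ¬ (Subgroup.normalizer ((Q₁ ⊓ Q₂ : Subgroup G) : Set G) ⊓ Q₁ ⊓ Subgroup.centralizer {a} ≤ Q₁ ⊓ Q₂) ∧ ¬ (Subgroup.normalizer ((Q₁ ⊓ Q₂ : Subgroup G) : Set G) ⊓ Q₂ ⊓ Subgroup.centralizer {a} ≤ Q₁ ⊓ Q₂) := by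
  have hp : p.Prime := Fact.out
  have hqp' : ∀ R : Subgroup G, IsPGroup q ↥R → ¬ p ∣ Nat.card ↥R := by
    intro R hR hdvd
    obtain ⟨k, hk⟩ := IsPGroup.iff_card.mp hR
    rw [hk] at hdvd
    have := (Nat.prime_dvd_prime_iff_eq hp (Fact.out : q.Prime)).mp (hp.dvd_of_dvd_pow hdvd)
    exact hqp this.symm
  have hcomm : ∀ x ∈ A, ∀ y ∈ A, x * y = y * x := by
    intro x hx y hy
    have := hA.1.is_comm.comm ⟨x, hx⟩ ⟨y, hy⟩
    exact congrArg Subtype.val this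
  set D := Q₁ ⊓ Q₂ with hD
  have hAD : A ≤ Subgroup.normalizer (D : Set G) := Cfsg.Agent.Helper1.le_normalizer_inf hA₁ hA₂
  -- the key step for one of the two groups
  have key : ∀ Q : Subgroup G, IsPGroup q ↥Q → A ≤ Subgroup.normalizer (Q : Set G) → D ≤ Q → D ≠ Q →
      ∃ B : Subgroup G, B ≤ A ∧ B.relIndex A ≤ p ∧
        ¬ (Subgroup.normalizer (D : Set G) ⊓ Q ⊓ Subgroup.centralizer (B : Set G) ≤ D) := by
    intro Q hQ hAQ hDQ hne
    have hlt : D < Q := lt_of_le_of_ne hDQ hne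
    obtain ⟨r, hrQ, hrD, hrN⟩ := exists_mem_normalizer_notMem_of_lt hQ hlt
    set N := Subgroup.normalizer (D : Set G) ⊓ Q with hN
    have hNq : IsPGroup q ↥N := hQ.to_le inf_le_right
    have hAN : A ≤ Subgroup.normalizer (N : Set G) :=
      Cfsg.Agent.Helper1.le_normalizer_inf (hAD.trans Subgroup.le_normalizer) hAQ
    have hgen := le_iSup_hyperplane_centralizers p _ A N rfl hA (hqp' N hNq) hAN
    by_contra hno
    push Not at hno
    have hle : N ≤ D := by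
      refine hgen.trans ?_
      apply iSup_le
      rintro ⟨B, hBA, hBidx⟩
      exact hno B hBA hBidx
    exact hrD (hle ⟨hrN, hrQ⟩)
  obtain ⟨B₁, hB₁A, hB₁i, hB₁⟩ := key Q₁ h₁ hA₁ inf_le_left hD₁
  obtain ⟨B₂, hB₂A, hB₂i, hB₂⟩ := key Q₂ h₂ hA₂ inf_le_right hD₂
  have hne : B₁ ⊓ B₂ ≠ ⊥ := by
    intro hbot
    have hn : B₂ ≤ Subgroup.normalizer (B₁ : Set G) := le_normalizer_of_comm hcomm hB₂A hB₁A
    have h1 := Cfsg.Agent.Helper1.card_sup_mul_card_inf hn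
    rw [hbot, Subgroup.card_bot, mul_one] at h1
    have h2 : Nat.card ↥(B₁ ⊔ B₂) ≤ Nat.card ↥A :=
      Nat.le_of_dvd Nat.card_pos (Subgroup.card_dvd_of_le (sup_le hB₁A hB₂A))
    have h3 := Cfsg.Agent.Helper1.relIndex_mul_card_of_le hB₁A
    have h4 := Cfsg.Agent.Helper1.relIndex_mul_card_of_le hB₂A
    have h5 : Nat.card ↥A ≤ p * Nat.card ↥B₁ := by
      rw [← h3]; exact Nat.mul_le_mul_right _ hB₁i
    have h6 : Nat.card ↥A ≤ p * Nat.card ↥B₂ := by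
      rw [← h4]; exact Nat.mul_le_mul_right _ hB₂i
    have h7 : Nat.card ↥A * Nat.card ↥A ≤ p ^ 2 * Nat.card ↥A := by
      calc Nat.card ↥A * Nat.card ↥A ≤ (p * Nat.card ↥B₁) * (p * Nat.card ↥B₂) :=
            Nat.mul_le_mul h5 h6
        _ = p ^ 2 * (Nat.card ↥B₁ * Nat.card ↥B₂) := by ring
        _ = p ^ 2 * Nat.card ↥(B₁ ⊔ B₂) := by rw [h1]
        _ ≤ p ^ 2 * Nat.card ↥A := Nat.mul_le_mul_left _ h2
    have h8 : Nat.card ↥A ≤ p ^ 2 := Nat.le_of_mul_le_mul_right h7 Nat.card_pos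
    have h9 : p ^ 2 < p ^ 3 := Nat.pow_lt_pow_right hp.one_lt (by norm_num)
    omega
  obtain ⟨a, haB, ha1⟩ : ∃ a ∈ B₁ ⊓ B₂, a ≠ 1 := by
    by_contra hno
    apply hne
    rw [eq_bot_iff]
    intro x hx
    rw [Subgroup.mem_bot]
    by_contra hx1
    exact hno ⟨x, hx, hx1⟩
  refine ⟨a, hB₁A haB.1, ha1, ?_, ?_⟩
  · intro h
    apply hB₁
    refine le_trans ?_ h
    apply inf_le_inf_left
    exact Subgroup.centralizer_le (Set.singleton_subset_iff.mpr haB.1)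
  · intro h
    apply hB₂
    refine le_trans ?_ h
    apply inf_le_inf_left
    exact Subgroup.centralizer_le (Set.singleton_subset_iff.mpr haB.2)

end Cfsg.Agent.S1282
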