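import Cfsg.Statements.S1297
import Cfsg.Agent.Helper6.LBalF

set_option autoImplicit false
open Cfsg

namespace Cfsg.Agent.S1297

/-- Let G be finite. Suppose that for every involution x, writing C = C_G(x), every component K of C / O(C) has K / Z(K) locally balanced. Then G is balanced. -/
theorem result {G : Type*} [Group G] [Finite G] (h : ∀ x : G, orderOf x = 2 → ∀ K : Subgroup (↥(Subgroup.centralizer ({x} : Set G)) ⧸ Cfsg.oddCore ↥(Subgroup.centralizer ({x} : Set G))), Cfsg.IsComponent K → Cfsg.IsLocallyBalanced (↥K ⧸ Subgroup.center ↥K)) : Cfsg.IsBalanced G := by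
  haveI : Fact (Nat.Prime 2) := ⟨Nat.prime_two⟩
  have hloc : ∀ (K : Type _) [Group K], Cfsg.IsLocallyBalanced K → Cfsg.IsLocallyKBalanced 2 1 K := by
    intro K _ hK H hH A hA hcard
    haveI : Finite ↥A := Nat.finite_of_card_ne_zero (by rw [hcard]; norm_num)
    have hnt : Nontrivial A := by
      rw [← Finite.one_lt_card_iff_nontrivial, hcard]; norm_num
    obtain ⟨⟨t, htA⟩, ht1⟩ := exists_ne (1 : A)
    have ht1' : t ≠ 1 := fun h0 => ht1 (Subtype.ext h0)
    have ht2 : orderOf t = 2 := orderOf_eq_prime (hA.2 t htA) ht1'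
    rw [eq_bot_iff, ← hK H hH t ht2]
    exact Cfsg.Agent.Helper6.KBal.delta_le_core 2 htA ht1'
  have key : ∀ x y : G, orderOf x = 2 → orderOf y = 2 → x * y = y * x →
      Cfsg.centralizerPPrimeCore 2 x ⊓ Subgroup.centralizer {y} ≤
        Cfsg.centralizerPPrimeCore 2 y ⊓ Subgroup.centralizer {x} := by
    intro x y hx hy hxy
    have hx2 : x ^ 2 = 1 := by rw [← hx]; exact pow_orderOf_eq_one x
    have hmem : ∀ a ∈ Subgroup.zpowers x, a = 1 ∨ a = x :=
      fun a ha => Cfsg.Agent.Helper2.mem_zpowers_of_orderOf_two hx ha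
    have hA : Cfsg.IsElementaryAbelian 2 (Subgroup.zpowers x) := by
      refine ⟨inferInstance, ?_⟩
      intro a ha
      rcases hmem a ha with rfl | rfl
      · simp
      · exact hx2
    have hcard : Nat.card (Subgroup.zpowers x) = 2 ^ 1 := by
      rw [Nat.card_zpowers, hx]; norm_num
    have hcomm : ∀ a ∈ Subgroup.zpowers x, a * y = y * a := by
      intro a ha
      rcases hmem a ha with rfl | rfl
      · simp
      · exact hxy
    have hQ := Cfsg.Agent.Helper6.LBal.strongBal_of_locallyKBalanced_quot 2 1 le_rfl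
      (Cfsg.Agent.Helper1.pPrimeCore_quotient_pPrimeCore
        (G := ↥(Subgroup.centralizer ({y} : Set G))) 2)
      (fun E hE => hloc _ (h y hy E hE))
    have h1 := Cfsg.Agent.Helper6.LBal.delta_inf_le_of_strongBal 2 1 y hQ (Subgroup.zpowers x) hA
      hcard hcomm
    have hΔ : Cfsg.centralizerPPrimeCore 2 x ≤ Cfsg.signalizerDelta 2 (Subgroup.zpowers x) := by
      apply Cfsg.Agent.Helper6.KBal.le_delta
      intro a ha ha1
      rcases hmem a ha with rfl | rfl
      · exact absurd rfl ha1
      · exact le_rfl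
    refine le_inf ?_ ?_
    · exact le_trans (inf_le_inf_right _ hΔ) h1
    · exact le_trans inf_le_left (Cfsg.Agent.Helper6.KBal.core_le_centralizer 2 x)
  intro x y hx hy hxy
  exact le_antisymm (key x y hx hy hxy) (key y x hy hx hxy.symm)

end Cfsg.Agent.S1297
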