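import Mathlib
import Cfsg.Statements.S1304

set_option autoImplicit false
open Cfsg
open scoped IsMulCommutative

namespace Cfsg.Agent.S1304

/-- Let X be a perfect group and α an automorphism of X with α(x) x⁻¹ central for every x. Then α is the identity. -/
theorem result {X : Type*} [Group X] (hperf : commutator X = ⊤) (α : X ≃* X) (h : ∀ x : X, α x * x⁻¹ ∈ Subgroup.center X) : ∀ x : X, α x = x := by
  -- the map x ↦ α x * x⁻¹ is a homomorphism into the (commutative) centre
  obtain ⟨f, hf⟩ : ∃ f : X →* Subgroup.center X, ∀ x, (f x : X) = α x * x⁻¹ := by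
    refine ⟨MonoidHom.mk' (fun x => ⟨α x * x⁻¹, h x⟩) ?_, fun x => rfl⟩
    intro a b
    apply Subtype.ext
    have hb := h b
    rw [Subgroup.mem_center_iff] at hb
    show α (a * b) * (a * b)⁻¹ = (α a * a⁻¹) * (α b * b⁻¹)
    rw [map_mul, mul_inv_rev]
    have : α a * α b * (b⁻¹ * a⁻¹) = α a * ((α b * b⁻¹) * a⁻¹) := by group
    rw [this, ← hb a⁻¹]
    group
  have hker : commutator X ≤ f.ker := Abelianization.commutator_subset_ker f
  intro x
  have hx : x ∈ f.ker := hker (hperf ▸ Subgroup.mem_top x)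
  have h1 : f x = 1 := hx
  have h2 : α x * x⁻¹ = 1 := by rw [← hf x, h1]; rfl
  exact mul_inv_eq_one.mp h2

end Cfsg.Agent.S1304
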