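import Mathlib
import Cfsg.Statements.S1306
import Cfsg.Agent.Helper2.Standard1
import Cfsg.Agent.Helper2.HatLayer7

set_option autoImplicit false
open Cfsg

namespace Cfsg.Agent.S1306

open Cfsg.Agent.Helper2

/-- Let G be finite, x an involution and L ≤ C_G(x) a component of C_G(x). Suppose L is a component of C_G(y) for every involution y ∈ C_G(L), and ⁅L, g L g⁻¹⁆ ≠ 1 whenever g L g⁻¹ ≠ L. Then L is a standard subgroup of G. -/
theorem result {G : Type*} [Group G] [Finite G] (x : G) (hx : orderOf x = 2) (L : Subgroup G) (hLx : L ≤ Subgroup.centralizer ({x} : Set G)) (hL : Cfsg.IsComponent (L.subgroupOf (Subgroup.centralizer ({x} : Set G)))) (hne : ∀ y : G, orderOf y = 2 → y ∈ Subgroup.centralizer (L : Set G) → L ≤ Subgroup.centralizer ({y} : Set G) ∧ Cfsg.IsComponent (L.subgroupOf (Subgroup.centralizer ({y} : Set G)))) (hnc : ∀ g : G, L.map (MulAut.conj g).toMonoidHom ≠ L → ⁅L, L.map (MulAut.conj g).toMonoidHom⁆ ≠ ⊥) : Cfsg.IsStandardSubgroup L := by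
  set C := Subgroup.centralizer (L : Set G) with hC
  have hxC : x ∈ C := by
    rw [hC, Subgroup.mem_centralizer_iff]
    intro l hl
    have := hLx hl
    rw [Subgroup.mem_centralizer_singleton_iff] at this
    exact this
  -- key: an involution in `C ∩ C^g` forces `L^g = L`
  have key : ∀ g : G, ∀ y : G, orderOf y = 2 → y ∈ C → y ∈ cj g C → cj g L = L := by
    intro g y hy hyC hyCg
    obtain ⟨hLy, hLyc⟩ := hne y hy hyC
    rw [mem_cj_iff] at hyCg
    have hy' : orderOf (g⁻¹ * y * g) = 2 := by
      have := orderOf_injective (MulAut.conj g⁻¹).toMonoidHom (MulAut.conj g⁻¹).injective y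
      simpa using this.trans hy
    obtain ⟨hLy', hLyc'⟩ := hne (g⁻¹ * y * g) hy' hyCg
    have h1 := isComponent_subgroupOf_cj g hLyc'
    have h2 : cj g (Subgroup.centralizer ({g⁻¹ * y * g} : Set G)) = Subgroup.centralizer ({y} : Set G) := by
      rw [cj_centralizer_singleton]
      congr 2
      group
    rw [h2] at h1
    have hLg : cj g L ≤ Subgroup.centralizer ({y} : Set G) := by
      rw [← h2]; exact cj_mono hLy' g
    rcases eq_or_commutator_eq_bot_of_isComponent_subgroupOf hLg hLy h1 hLyc with h | h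
    · exact h
    · by_contra hne'
      apply hnc g hne'
      rw [Subgroup.commutator_comm]
      exact h
  have hNLC : Subgroup.normalizer (L : Set G) ≤ Subgroup.normalizer (C : Set G) :=
    normalizer_le_normalizer_centralizer L
  refine ⟨?_, ⟨?_, ?_⟩, hnc, ?_⟩
  · exact isQuasisimple_of_mulEquiv (Subgroup.subgroupOfEquivOfLe hLx) hL.2
  · rw [even_iff_two_dvd, ← hx]
    exact Subgroup.orderOf_dvd_natCard C hxC
  · intro g hg
    by_contra hodd
    rw [Nat.not_odd_iff_even, even_iff_two_dvd] at hodd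
    have : Fact (Nat.Prime 2) := ⟨Nat.prime_two⟩
    obtain ⟨y, hy⟩ := exists_prime_orderOf_dvd_card' 2 hodd
    have hy2 : orderOf (y : G) = 2 := by rw [Subgroup.orderOf_coe]; exact hy
    have hyC : (y : G) ∈ C := y.2.1
    have hyCg : (y : G) ∈ cj g C := y.2.2
    have h1 := key g y hy2 hyC hyCg
    exact hg (hNLC ((mem_normalizer_iff_cj L g).mpr h1))
  · apply le_antisymm hNLC
    intro g hg
    have hgC : cj g C = C := (mem_normalizer_iff_cj C g).mp hg
    have h1 := key g x hx hxC (by rw [hgC]; exact hxC)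
    exact (mem_normalizer_iff_cj L g).mpr h1

end Cfsg.Agent.S1306
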