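import Mathlib
import Cfsg.Statements.S1314
import Cfsg.Agent.Helper2.Signalizer1

set_option autoImplicit false
open Cfsg

namespace Cfsg.Agent.S1314

open Cfsg.Agent.Helper2

open scoped commutatorElement

/-- Let x be an involution of a group G and L a perfect subgroup with ⁅L, x L x⁻¹⁆ = 1. Then l ↦ l (x l x⁻¹) is a group homomorphism π from L to G whose kernel is central in L and whose image lies in C_G(x); and the commutator subgroup of C_{L ⊔ xLx⁻¹}(x) equals the image of π. -/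
theorem result {G : Type*} [Group G] [Finite G] (x : G) (hx : orderOf x = 2) (L : Subgroup G) (hperf : ⁅L, L⁆ = L) (hcomm : ⁅L, L.map (MulAut.conj x).toMonoidHom⁆ = ⊥) : ∃ π : ↥L →* G, (∀ l : ↥L, π l = (l : G) * (x * (l : G) * x⁻¹)) ∧ π.ker ≤ Subgroup.center ↥L ∧ π.range ≤ Subgroup.centralizer ({x} : Set G) ∧ ⁅(L ⊔ L.map (MulAut.conj x).toMonoidHom) ⊓ Subgroup.centralizer ({x} : Set G), (L ⊔ L.map (MulAut.conj x).toMonoidHom) ⊓ Subgroup.centralizer ({x} : Set G)⁆ = π.range := by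
  have hx2 : x * x = 1 := by rw [← pow_two, ← hx, pow_orderOf_eq_one]
  have hxinv : x⁻¹ = x := inv_eq_of_mul_eq_one_left hx2
  set Lx := L.map (MulAut.conj x).toMonoidHom with hLx
  have hmemLx : ∀ l ∈ L, x * l * x⁻¹ ∈ Lx := fun l hl => ⟨l, hl, rfl⟩
  have hLx' : ∀ v ∈ Lx, x * v * x⁻¹ ∈ L := by
    rintro _ ⟨l, hl, rfl⟩
    change x * (x * l * x⁻¹) * x⁻¹ ∈ L
    have : x * (x * l * x⁻¹) * x⁻¹ = (x * x) * l * (x * x)⁻¹ := by group
    rw [this, hx2]; simpa using hl
  have hc : ∀ u ∈ L, ∀ v ∈ Lx, u * v = v * u := by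
    intro u hu v hv
    have h1 := Subgroup.commutator_eq_bot_iff_le_centralizer.mp hcomm hu
    rw [Subgroup.mem_centralizer_iff] at h1
    exact (h1 v hv).symm
  -- the homomorphism
  let π : ↥L →* G := MonoidHom.mk' (fun l => (l : G) * (x * (l : G) * x⁻¹)) (by
    intro l l'
    have h1 := hc l' l'.2 _ (hmemLx l l.2)
    calc ((l * l' : ↥L) : G) * (x * ((l * l' : ↥L) : G) * x⁻¹)
        = (l : G) * ((l' : G) * (x * l * x⁻¹)) * (x * l' * x⁻¹) := by
          rw [Subgroup.coe_mul]; group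
      _ = (l : G) * ((x * l * x⁻¹) * (l' : G)) * (x * l' * x⁻¹) := by rw [h1]
      _ = (l : G) * (x * l * x⁻¹) * ((l' : G) * (x * l' * x⁻¹)) := by group)
  have hπ : ∀ l : ↥L, π l = (l : G) * (x * (l : G) * x⁻¹) := fun l => rfl
  have hfix : ∀ l : ↥L, x * π l * x⁻¹ = π l := by
    intro l
    rw [hπ]
    have h1 := hc l l.2 _ (hmemLx l l.2)
    calc x * ((l : G) * (x * l * x⁻¹)) * x⁻¹ = (x * l * x⁻¹) * ((x * x) * l * (x * x)⁻¹) := by group
      _ = (x * l * x⁻¹) * (l : G) := by rw [hx2]; simp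
      _ = (l : G) * (x * l * x⁻¹) := h1.symm
  have hrangeC : π.range ≤ Subgroup.centralizer ({x} : Set G) := by
    rintro _ ⟨l, rfl⟩
    rw [Subgroup.mem_centralizer_singleton_iff]
    have := hfix l
    calc π l * x = (x * π l * x⁻¹) * x := by rw [this]
      _ = x * π l := by group
  have hrangeLL : π.range ≤ L ⊔ Lx := by
    rintro _ ⟨l, rfl⟩
    rw [hπ]
    exact mul_mem (le_sup_left (a := L) l.2) (le_sup_right (a := L) (hmemLx l l.2))
  refine ⟨π, hπ, ?_, hrangeC, ?_⟩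
  · -- kernel is central
    intro l hl
    rw [MonoidHom.mem_ker, hπ] at hl
    have h1 : (l : G) = (x * (l : G) * x⁻¹)⁻¹ := eq_inv_of_mul_eq_one_left hl
    have h2 : (l : G) ∈ Lx := by rw [h1]; exact inv_mem (hmemLx l l.2)
    rw [Subgroup.mem_center_iff]
    intro g
    apply Subtype.ext
    rw [Subgroup.coe_mul, Subgroup.coe_mul]
    exact hc g g.2 _ h2
  · set M := (L ⊔ Lx) ⊓ Subgroup.centralizer ({x} : Set G) with hM
    apply le_antisymm
    · rw [Subgroup.commutator_le]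
      -- decomposition of elements of `M`
      have hdec : ∀ g ∈ M, ∃ a : ↥L, ∃ z : G, g = π a * z ∧ ∀ w ∈ L ⊔ Lx, z * w = w * z := by
        intro g hg
        have hLxN : Lx ≤ Subgroup.normalizer (L : Set G) := by
          apply le_normalizer_of_conj_mem
          intro v hv u hu
          rw [← hc u hu v hv, mul_inv_cancel_right]; exact hu
        obtain ⟨a, ha, b', hb', rfl⟩ := Cfsg.Agent.Helper1.mem_sup_of_le_normalizer hLxN hg.1
        have hgx : a * b' ∈ Subgroup.centralizer ({x} : Set G) := hg.2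
        rw [Subgroup.mem_centralizer_singleton_iff] at hgx
        -- `b' = x b x⁻¹`
        set b := x * b' * x⁻¹ with hb
        have hbL : b ∈ L := hLx' b' hb'
        have hb'eq : b' = x * b * x⁻¹ := by
          rw [hb]
          have : x * (x * b' * x⁻¹) * x⁻¹ = (x * x) * b' * (x * x)⁻¹ := by group
          rw [this, hx2]; simp
        -- `z₀ = a⁻¹ b ∈ L ⊓ Lx`
        have hz0L : a⁻¹ * b ∈ L := mul_mem (inv_mem ha) hbL
        have hz0Lx : a⁻¹ * b ∈ Lx := by
          have h1 : x * (a * b') * x⁻¹ = a * b' := by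
            calc x * (a * b') * x⁻¹ = (x * (a * b')) * x⁻¹ := rfl
              _ = ((a * b') * x) * x⁻¹ := by rw [← hgx]
              _ = a * b' := by group
          have h2 : x * (a * b') * x⁻¹ = (x * a * x⁻¹) * b := by rw [hb]; group
          have h3 : (x * a * x⁻¹) * b = b * (x * a * x⁻¹) := (hc b hbL _ (hmemLx a ha)).symm
          have h4 : a⁻¹ * b = b' * (x * a * x⁻¹)⁻¹ := by
            have : a * b' = b * (x * a * x⁻¹) := by rw [← h1, h2, h3]
            calc a⁻¹ * b = a⁻¹ * (b * (x * a * x⁻¹)) * (x * a * x⁻¹)⁻¹ := by group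
              _ = a⁻¹ * (a * b') * (x * a * x⁻¹)⁻¹ := by rw [this]
              _ = b' * (x * a * x⁻¹)⁻¹ := by group
          rw [h4]
          exact mul_mem hb' (inv_mem (hmemLx a ha))
        refine ⟨⟨a, ha⟩, x * (a⁻¹ * b) * x⁻¹, ?_, ?_⟩
        · rw [hπ, hb'eq]; group
        · have hzL : x * (a⁻¹ * b) * x⁻¹ ∈ L := hLx' _ hz0Lx
          have hzLx : x * (a⁻¹ * b) * x⁻¹ ∈ Lx := hmemLx _ hz0L
          have hcent : L ⊔ Lx ≤ Subgroup.centralizer ({x * (a⁻¹ * b) * x⁻¹} : Set G) := by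
            apply sup_le
            · intro u hu
              rw [Subgroup.mem_centralizer_singleton_iff]
              exact hc u hu _ hzLx
            · intro v hv
              rw [Subgroup.mem_centralizer_singleton_iff]
              exact (hc _ hzL v hv).symm
          intro w hw
          have := hcent hw
          rw [Subgroup.mem_centralizer_singleton_iff] at this
          exact this.symm
      intro g₁ hg₁ g₂ hg₂
      obtain ⟨a₁, z₁, rfl, hz₁⟩ := hdec g₁ hg₁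
      obtain ⟨a₂, z₂, rfl, hz₂⟩ := hdec g₂ hg₂
      have e1 : ⁅π a₁ * z₁, π a₂ * z₂⁆ = ⁅π a₁, π a₂ * z₂⁆ := by
        have h1 := hz₁ _ hg₂.1
        rw [commutatorElement_def, commutatorElement_def]
        calc π a₁ * z₁ * (π a₂ * z₂) * (π a₁ * z₁)⁻¹ * (π a₂ * z₂)⁻¹
            = π a₁ * (z₁ * (π a₂ * z₂)) * z₁⁻¹ * (π a₁)⁻¹ * (π a₂ * z₂)⁻¹ := by group
          _ = π a₁ * ((π a₂ * z₂) * z₁) * z₁⁻¹ * (π a₁)⁻¹ * (π a₂ * z₂)⁻¹ := by rw [h1]
          _ = π a₁ * (π a₂ * z₂) * (π a₁)⁻¹ * (π a₂ * z₂)⁻¹ := by group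
      have e2 : ⁅π a₁, π a₂ * z₂⁆ = ⁅π a₁, π a₂⁆ := by
        have h1 := hz₂ _ (inv_mem (hrangeLL ⟨a₁, rfl⟩))
        rw [commutatorElement_def, commutatorElement_def]
        calc π a₁ * (π a₂ * z₂) * (π a₁)⁻¹ * (π a₂ * z₂)⁻¹
            = π a₁ * π a₂ * (z₂ * (π a₁)⁻¹) * z₂⁻¹ * (π a₂)⁻¹ := by group
          _ = π a₁ * π a₂ * ((π a₁)⁻¹ * z₂) * z₂⁻¹ * (π a₂)⁻¹ := by rw [h1]
          _ = π a₁ * π a₂ * (π a₁)⁻¹ * (π a₂)⁻¹ := by group
      rw [e1, e2, ← map_commutatorElement]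
      exact ⟨_, rfl⟩
    · have hperf' : ⁅(⊤ : Subgroup ↥L), (⊤ : Subgroup ↥L)⁆ = (⊤ : Subgroup ↥L) := by
        have h1 : (⁅(⊤ : Subgroup ↥L), (⊤ : Subgroup ↥L)⁆).map L.subtype =
            (⊤ : Subgroup ↥L).map L.subtype := by
          rw [Subgroup.map_commutator, ← MonoidHom.range_eq_map, Subgroup.range_subtype, hperf]
        exact Subgroup.map_injective L.subtype_injective h1
      have h2 : ⁅π.range, π.range⁆ = π.range := by
        rw [MonoidHom.range_eq_map, ← Subgroup.map_commutator, hperf']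
      rw [← h2]
      exact Subgroup.commutator_mono (le_inf hrangeLL hrangeC) (le_inf hrangeLL hrangeC)

end Cfsg.Agent.S1314
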