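import Mathlib
import Cfsg.Statements.S1323
import Cfsg.Agent.Helper2.AltFix

set_option autoImplicit false
open Cfsg

namespace Cfsg.Agent.S1323

open Cfsg.Agent.Helper2

/-- For n ≥ 9, the subgroup of the alternating group on Fin n fixing each of the points 0, 1, 2, 3 is a standard subgroup. -/
theorem result (n : ℕ) (h4 : 4 ≤ n) (hn : 9 ≤ n) : Cfsg.IsStandardSubgroup (⨅ i : Fin 4, MulAction.stabilizer ↥(alternatingGroup (Fin n)) (Fin.castLE h4 i : Fin n)) := by
    have hL : (⨅ i : Fin 4, MulAction.stabilizer ↥(alternatingGroup (Fin n)) (Fin.castLE h4 i : Fin n)) =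
        Cfsg.Agent.Helper2.AltFix.fix (Set.range (Fin.castLE h4)) := by
      ext g
      rw [Subgroup.mem_iInf, Cfsg.Agent.Helper2.AltFix.mem_fix]
      constructor
      · rintro h x ⟨i, rfl⟩
        exact MulAction.mem_stabilizer_iff.mp (h i)
      · intro h i
        rw [MulAction.mem_stabilizer_iff]
        exact h _ ⟨i, rfl⟩
    rw [hL]
    have hs : (Set.range (Fin.castLE h4)).ncard = 4 := by
      rw [← Set.image_univ, Set.ncard_image_of_injective _ (Fin.castLE_injective h4), Set.ncard_univ,
        Nat.card_fin]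
    apply Cfsg.Agent.Helper2.AltFix.isStandardSubgroup_fix hs
    have := Set.ncard_add_ncard_compl (Set.range (Fin.castLE h4))
    rw [Nat.card_fin] at this
    omega

end Cfsg.Agent.S1323
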