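import Mathlib
import Cfsg.Statements.S1338
import Cfsg.Agent.Helper2.Conn3
import Cfsg.Agent.Helper1.NormalE4B
import Cfsg.Agent.Helper1.KWCondB
import Cfsg.Agent.Helper3.NuCube
-- import your own Cfsg.Agent.* helpers here

set_option autoImplicit false
open Cfsg

namespace Cfsg.Agent.S1338

open Cfsg.Agent.Helper2 Cfsg.Agent.Helper2.Conn2

/-- centralizer of `X` has rank at least `3`. -/
theorem rank_centralizer {P : Type*} [Group P] [Finite P] (hP : IsPGroup 3 P)
    (A : Subgroup P) [hAn : A.Normal] (hAe : Cfsg.IsElementaryAbelian 3 A)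
    (hAcard : Nat.card A = 3 ^ 4) (X : Subgroup P) (hX : Cfsg.IsElementaryAbelian 3 X)
    (hXc : 3 ^ 2 ≤ Nat.card X) : ¬ Cfsg.PRankLE 3 2 ↥(Subgroup.centralizer (X : Set P)) := by
  have hf3 : Fact (Nat.Prime 3) := ⟨Nat.prime_three⟩
  have hXcomm := comm_of_elementary hX
  have hAcomm := comm_of_elementary hAe
  have hXC : X ≤ Subgroup.centralizer (X : Set P) := le_centralizer_of_comm hXcomm
  by_cases hX9 : 3 ^ 2 < Nat.card X
  · exact not_pRankLE_of_le hXC hX hX9
  have hX9' : Nat.card X = 9 := by norm_num at hX9 hXc ⊢; omega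
  -- it suffices to find `a ∈ A` centralizing `X`, outside `X`
  suffices h : ∃ a ∈ A, a ∉ X ∧ ∀ x ∈ X, x * a = a * x by
    obtain ⟨a, haA, haX, hac⟩ := h
    have hZ : Cfsg.IsElementaryAbelian 3 (Subgroup.zpowers a) := by
      refine ⟨isMulCommutative_of_comm ?_, ?_⟩
      · intro x hx y hy
        obtain ⟨i, rfl⟩ := Subgroup.mem_zpowers_iff.mp hx
        obtain ⟨j, rfl⟩ := Subgroup.mem_zpowers_iff.mp hy
        rw [← zpow_add, ← zpow_add, add_comm]
      · intro x hx
        obtain ⟨i, rfl⟩ := Subgroup.mem_zpowers_iff.mp hx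
        rw [← zpow_natCast, ← zpow_mul, mul_comm, zpow_mul, zpow_natCast, hAe.2 a haA, one_zpow]
    have hcomm : ∀ x ∈ X, ∀ y ∈ Subgroup.zpowers a, x * y = y * x := by
      intro x hx y hy
      obtain ⟨i, rfl⟩ := Subgroup.mem_zpowers_iff.mp hy
      exact ((show Commute x a from hac x hx).zpow_right i).eq
    have hW := sup_elementary hX hZ hcomm
    have hWC : X ⊔ Subgroup.zpowers a ≤ Subgroup.centralizer (X : Set P) := by
      apply sup_le hXC
      rw [Subgroup.zpowers_le, Subgroup.mem_centralizer_iff]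
      intro x hx
      exact hac x hx
    apply not_pRankLE_of_le hWC hW
    by_contra hle
    have hle' : Nat.card ↥(X ⊔ Subgroup.zpowers a) ≤ Nat.card X := by
      rw [hX9']; norm_num at hle ⊢; omega
    have heq : X = X ⊔ Subgroup.zpowers a := Subgroup.eq_of_le_of_card_ge le_sup_left hle'
    apply haX
    rw [heq]
    exact Subgroup.mem_sup_right (Subgroup.mem_zpowers a)
  -- a central element of `P` in `A`
  have hAne : A ≠ ⊥ := by
    intro h
    rw [h, Subgroup.card_bot] at hAcard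
    norm_num at hAcard
  obtain ⟨b, hbA, hb1, hbc⟩ := Cfsg.Agent.Helper1.KWCond.normal_inf_center_ne_bot hP A hAne
  by_cases hbX : b ∈ X
  swap
  · exact ⟨b, hbA, hbX, fun x _ => hbc x⟩
  by_cases hXA : X ≤ A
  · have hlt : X < A := by
      refine lt_of_le_of_ne hXA ?_
      intro h
      rw [h, hAcard] at hX9'
      norm_num at hX9'
    obtain ⟨a, haA, haX⟩ := SetLike.exists_of_lt hlt
    exact ⟨a, haA, haX, fun x hx => hAcomm x (hXA hx) a haA⟩
  · obtain ⟨e, heX, heA⟩ := SetLike.not_le_iff_exists.mp hXA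
    have he3 : e ^ 3 = 1 := hX.2 e heX
    have hcube := Cfsg.Agent.Helper3.NuCube.card_le_cube A hAcomm hAe.2 e he3
      (fun a ha => hAn.conj_mem a ha e)
    set K := A ⊓ Subgroup.centralizer ({e} : Set P) with hK
    have hK5 : 5 ≤ Nat.card K := by
      by_contra h
      have h4 : Nat.card K ≤ 4 := by omega
      have : Nat.card K ^ 3 ≤ 4 ^ 3 := Nat.pow_le_pow_left h4 3
      rw [hAcard] at hcube
      norm_num at hcube this
      omega
    -- `X ⊓ A` has at most `3` elements
    have hXA3 : Nat.card ↥(X ⊓ A) ≤ 3 := by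
      have hdvd : Nat.card ↥(X ⊓ A) ∣ 9 := by
        rw [← hX9']; exact Subgroup.card_dvd_of_le inf_le_left
      have hne : Nat.card ↥(X ⊓ A) ≠ 9 := by
        intro h9
        have hle9 : Nat.card X ≤ Nat.card ↥(X ⊓ A) := by rw [h9, hX9']
        have hXeq : X ⊓ A = X := Subgroup.eq_of_le_of_card_ge inf_le_left hle9
        have heXA : e ∈ X ⊓ A := by rw [hXeq]; exact heX
        exact heA heXA.2
      have hle : Nat.card ↥(X ⊓ A) ≤ 9 := Nat.le_of_dvd (by norm_num) hdvd
      interval_cases h : Nat.card ↥(X ⊓ A) <;> simp_all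
    -- an element of `K` outside `X`
    have hex : ∃ a ∈ K, a ∉ X := by
      by_contra hcon
      push Not at hcon
      have hKle : K ≤ X ⊓ A := fun a ha => ⟨hcon a ha, ha.1⟩
      have := Subgroup.card_le_of_le hKle
      omega
    obtain ⟨a, haK, haX⟩ := hex
    refine ⟨a, haK.1, haX, ?_⟩
    -- `X = (X ⊓ A) ⊔ ⟨e⟩`
    have hY : X = (X ⊓ A) ⊔ Subgroup.zpowers e := by
      have hYle : (X ⊓ A) ⊔ Subgroup.zpowers e ≤ X :=
        sup_le inf_le_left (by rw [Subgroup.zpowers_le]; exact heX)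
      apply (Subgroup.eq_of_le_of_card_ge hYle ?_).symm
      -- card of the sup is a divisor of 9 bigger than 3
      have hdvd : Nat.card ↥((X ⊓ A) ⊔ Subgroup.zpowers e) ∣ 9 := by
        rw [← hX9']; exact Subgroup.card_dvd_of_le hYle
      have h1 : Nat.card ↥(X ⊓ A) ∣ Nat.card ↥((X ⊓ A) ⊔ Subgroup.zpowers e) :=
        Subgroup.card_dvd_of_le le_sup_left
      have h3 : 3 ≤ Nat.card ↥(X ⊓ A) := by
        have hb : b ∈ X ⊓ A := ⟨hbX, hbA⟩
        have hd : orderOf b ∣ Nat.card ↥(X ⊓ A) := by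
          have := orderOf_dvd_natCard (⟨b, hb⟩ : ↥(X ⊓ A))
          rwa [Subgroup.orderOf_mk] at this
        have ho : orderOf b = 3 := orderOf_eq_prime (hAe.2 b hbA) hb1
        rw [ho] at hd
        exact Nat.le_of_dvd Nat.card_pos hd
      have hne : Nat.card ↥((X ⊓ A) ⊔ Subgroup.zpowers e) ≠ Nat.card ↥(X ⊓ A) := by
        intro h
        have : X ⊓ A = (X ⊓ A) ⊔ Subgroup.zpowers e :=
          Subgroup.eq_of_le_of_card_ge le_sup_left (le_of_eq h)
        apply heA
        have he' : e ∈ X ⊓ A := by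
          rw [this]; exact Subgroup.mem_sup_right (Subgroup.mem_zpowers e)
        exact he'.2
      have hle : Nat.card ↥((X ⊓ A) ⊔ Subgroup.zpowers e) ≤ 9 := Nat.le_of_dvd (by norm_num) hdvd
      have hge : Nat.card ↥(X ⊓ A) ≤ Nat.card ↥((X ⊓ A) ⊔ Subgroup.zpowers e) :=
        Nat.le_of_dvd Nat.card_pos h1
      rw [hX9']
      interval_cases h : Nat.card ↥((X ⊓ A) ⊔ Subgroup.zpowers e) <;> omega
    have hXa : X ≤ Subgroup.centralizer ({a} : Set P) := by
      rw [hY]
      apply sup_le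
      · intro x hx
        rw [Subgroup.mem_centralizer_iff]
        intro y hy
        rw [Set.mem_singleton_iff] at hy
        subst hy
        exact hAcomm y haK.1 x hx.2
      · rw [Subgroup.zpowers_le, Subgroup.mem_centralizer_iff]
        intro y hy
        rw [Set.mem_singleton_iff] at hy
        subst hy
        have := Subgroup.mem_centralizer_iff.mp haK.2 e (Set.mem_singleton e)
        exact this.symm
    intro x hx
    have := Subgroup.mem_centralizer_iff.mp (hXa hx) a (Set.mem_singleton a)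
    exact this.symm

/-- A finite 3-group of 3-rank at least 4 is 2-connected for the prime 3: its commuting graph on elementary abelian subgroups of order ≥ 9 is connected. -/
theorem result {P : Type*} [Group P] [Finite P] (hP : IsPGroup 3 P) (hrk : ¬ Cfsg.PRankLE 3 3 P) : Cfsg.IsKConnected 3 2 P := by
  have hf3 : Fact (Nat.Prime 3) := ⟨Nat.prime_three⟩
  have hrk' := hrk
  unfold Cfsg.PRankLE at hrk'
  push Not at hrk'
  obtain ⟨A0, hA0c, hA0e, hA0card⟩ := hrk'
  obtain ⟨k, hk⟩ := IsPGroup.iff_card.mp (hP.to_subgroup A0)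
  have hk4 : 4 ≤ k := by
    by_contra h
    have h3 : k ≤ 3 := by omega
    have := Nat.pow_le_pow_right (by norm_num : 0 < 3) h3
    omega
  obtain ⟨K, hK⟩ := Sylow.exists_subgroup_card_pow_prime (G := ↥A0) 3 (n := 4)
    (by rw [hk]; exact pow_dvd_pow 3 hk4)
  have hA0 : Cfsg.IsElementaryAbelian 3 A0 := ⟨hA0c, hA0e⟩
  have hE0 : Cfsg.IsElementaryAbelian 3 (K.map A0.subtype) :=
    Cfsg.Agent.Helper1.NormalE4.isElementaryAbelian_of_le hA0 (Subgroup.map_subtype_le K)
  have hE0card : Nat.card ↥(K.map A0.subtype) = 3 ^ 4 := by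
    rw [Subgroup.card_map_of_injective A0.subtype_injective, hK]
  obtain ⟨A, hAn, hAe, hAcard⟩ :=
    Cfsg.Agent.Helper1.NormalE4.exists_normal_e4 (by norm_num) hP _ hE0 hE0card
  have hrk2 : ¬ Cfsg.PRankLE 3 2 P := by
    intro h
    have := h A hAe.1 hAe.2
    rw [hAcard] at this
    norm_num at this
  obtain ⟨U, hUn, hUe, hU, hcrit⟩ := Conn2.main hP hrk2
  have hsym : ∀ X Y : Subgroup P, Rel 3 X Y → Rel 3 Y X := by
    rintro X Y ⟨h1, h2, h3, h4, h5⟩
    exact ⟨h3, h4, h1, h2, fun b hb a ha => (h5 a ha b hb).symm⟩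
  have hsym' : ∀ X Y : Subgroup P, Relation.ReflTransGen (Rel 3) X Y →
      Relation.ReflTransGen (Rel 3) Y X := by
    intro X Y h
    induction h with
    | refl => exact Relation.ReflTransGen.refl
    | tail _ hbc ih => exact Relation.ReflTransGen.head (hsym _ _ hbc) ih
  intro E E' hE hEc hE' hE'c
  have h1 : Relation.ReflTransGen (Rel 3) E U :=
    (hcrit E hE hEc).mpr (rank_centralizer hP A hAe hAcard E hE hEc)
  have h2 : Relation.ReflTransGen (Rel 3) E' U :=
    (hcrit E' hE' hE'c).mpr (rank_centralizer hP A hAe hAcard E' hE' hE'c)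
  exact h1.trans (hsym' _ _ h2)


end Cfsg.Agent.S1338
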