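import Mathlib
import Cfsg.Statements.S1361
import Cfsg.Agent.Helper3.BG144b
import Cfsg.Agent.Helper4.BG14K
import Cfsg.Agent.Helper4.BG10d
import Cfsg.Agent.Lead.BG127b
-- import your own Cfsg.Agent.* helpers here

set_option autoImplicit false
open Cfsg

namespace Cfsg.Agent.S1361

/-- Let G be a minimal simple group of odd order and M a maximal subgroup with standard factorisation M = K U M_σ. If X is a nontrivial subgroup of U centralizing some non-identity element of M_σ, then C_G(X) ≤ M and M is the unique maximal subgroup of G containing C_G(X). -/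
theorem result {G : Type*} [Group G] [Finite G] (hG : Cfsg.IsMinSimpleOddOrder G)
    (M : Subgroup G) (hM : IsCoatom M) (K U : Subgroup G) (hKU : Cfsg.IsSigmaDecomposition M K U) (X : Subgroup G) (hXU : X ≤ U) (hX : X ≠ ⊥)
    (hXc : Cfsg.sigmaCore M ⊓ Subgroup.centralizer (X : Set G) ≠ ⊥) :
    Subgroup.centralizer (X : Set G) ≤ M ∧ ∀ L : Subgroup G, IsCoatom L → Subgroup.centralizer (X : Set G) ≤ L → L = M := by
  obtain ⟨hKc, hK, hU, -⟩ := hKU
  obtain ⟨hKM, hKπ, hKidx⟩ := hK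
  have hKN : K ≤ Subgroup.normalizer ((Cfsg.sigmaCore M : Subgroup G) : Set G) :=
    hKM.trans (Cfsg.Agent.Lead.BG12.le_normalizer_sigmaCore M)
  have hc1 := Cfsg.Agent.Helper1.card_sup_mul_card_inf (N := Cfsg.sigmaCore M) (A := K) hKN
  rw [inf_comm, Cfsg.Agent.Helper4.BG14.kappa_inf_sigmaCore_eq_bot hKπ, Subgroup.card_bot, mul_one,
    sup_comm] at hc1
  have hc2 := Cfsg.Agent.Helper1.IsComplIn_card_mul hU
  rw [hc1] at hc2
  have hXM : X ≤ M := hXU.trans hU.1
  -- primes of `U`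
  have hUσ : ∀ t : ℕ, t.Prime → t ∣ Nat.card U → t ∉ Cfsg.sigma M := by
    intro r hr hrU h
    have h1 := (Cfsg.Agent.Lead.BG12.sigmaCore_hall hG M hM).1.2.2 r hr h
    apply h1
    have h2 := Cfsg.Agent.Helper1.relIndex_mul_card_of_le
      (Cfsg.Agent.Lead.BG12.sigmaCore_le (M := M))
    have h3 : (Cfsg.sigmaCore M).relIndex M = Nat.card U * Nat.card K := by
      apply Nat.eq_of_mul_eq_mul_right (Nat.card_pos (α := ↥(Cfsg.sigmaCore M)))
      rw [h2, ← hc2]; ring
    rw [h3]; exact Dvd.dvd.mul_right hrU _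
  have hUκ : ∀ t : ℕ, t.Prime → t ∣ Nat.card U → t ∉ Cfsg.kappa M := by
    intro r hr hrU h
    apply hKidx r hr h
    have h2 := Cfsg.Agent.Helper1.relIndex_mul_card_of_le hKM
    have h3 : K.relIndex M = Nat.card U * Nat.card ↥(Cfsg.sigmaCore M) := by
      apply Nat.eq_of_mul_eq_mul_right (Nat.card_pos (α := ↥K))
      rw [h2, ← hc2]; ring
    rw [h3]; exact Dvd.dvd.mul_right hrU _
  have hXU' : Nat.card X ∣ Nat.card U := Subgroup.card_dvd_of_le hXU
  -- the smallest prime of `X`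
  have hX1 : Nat.card X ≠ 1 := fun h => hX (Subgroup.card_eq_one.1 h)
  obtain ⟨p, hpdef⟩ : ∃ p : ℕ, p = (Nat.card X).minFac := ⟨_, rfl⟩
  have hp : p.Prime := by rw [hpdef]; exact Nat.minFac_prime hX1
  haveI := Fact.mk hp
  have hpX : p ∣ Nat.card X := by rw [hpdef]; exact Nat.minFac_dvd _
  have hpU : p ∣ Nat.card U := hpX.trans hXU'
  have hpσ := hUσ p hp hpU
  have hpκ := hUκ p hp hpU
  obtain ⟨⟨d, hdX⟩, hd⟩ := exists_prime_orderOf_dvd_card' (G := ↥X) p hpX
  have hdr : orderOf d = p := by rw [← hd]; exact (Subgroup.orderOf_mk d hdX).symm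
  have hdM : d ∈ M := hXM hdX
  obtain ⟨⟨y, hy⟩, hy1⟩ := (Subgroup.ne_bot_iff_exists_ne_one).1 hXc
  have hy1' : y ≠ 1 := fun h => hy1 (Subtype.ext h)
  have hdy : d * y = y * d := ((Subgroup.mem_centralizer_iff.1 hy.2) d hdX)
  have hpτ : p ∈ Cfsg.tau2 M := by
    rcases Cfsg.Agent.Helper3.BG144.mem_kappa_or_tau2 hG hM hy.1 hy1' hpσ hdM hdr hdy with h | h
    · exact absurd h hpκ
    · exact h
  obtain ⟨E, hE, hXE⟩ := Cfsg.Agent.Helper4.BG10.exists_compl_sigmaCore_ge hG hM hXM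
    (fun t ht htd => hUσ t ht (htd.trans hXU'))
  obtain ⟨A, hAE, hAe, hAcard⟩ := Cfsg.Agent.Lead.BG127.exists_elementary_le_compl hG hM hE hpτ
  have hAM : A ≤ M := hAE.trans hE.1
  have hAp : IsPGroup p ↥A := Cfsg.Agent.Helper1.isElementaryAbelian_isPGroup hAe
  have h126 := Cfsg.Agent.Helper4.BG12.cor126 hG hM hpτ hE ⟨hAE, hAe, hAcard⟩
  have hEN : E ≤ Subgroup.normalizer (A : Set G) := h126.1.1
  have hA1 : A ≠ ⊥ := by
    intro h
    rw [h, Subgroup.card_bot] at hAcard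
    have := hp.one_lt
    nlinarith
  have hp2 : p ≠ 2 := Cfsg.Agent.Helper4.BG10.prime_ne_two_of_ne_bot hG hAp hA1
  -- `X` centralizes `A`
  have hXA : X ⊓ Subgroup.centralizer (A : Set G) = X := by
    apply Cfsg.Agent.Helper4.BG13.eq_of_forall_pgroup_le inf_le_left
    intro s hs T hTX hTs
    refine le_inf hTX ?_
    by_cases hT1 : T = ⊥
    · rw [hT1]; exact bot_le
    have hsT : s ∣ Nat.card T := by
      obtain ⟨n, hn⟩ := IsPGroup.iff_card.1 hTs
      rw [hn]
      have hn0 : n ≠ 0 := by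
        rintro rfl
        rw [pow_zero] at hn
        exact hT1 (Subgroup.card_eq_one.1 hn)
      exact dvd_pow_self s hn0
    have hsX : s ∣ Nat.card X := hsT.trans (Subgroup.card_dvd_of_le hTX)
    have hps : p ≤ s := by rw [hpdef]; exact Nat.minFac_le_of_dvd hs.out.two_le hsX
    have hTN : T ≤ Subgroup.normalizer (A : Set G) := (hTX.trans hXE).trans hEN
    rcases hps.lt_or_eq with hlt | heq
    · exact Cfsg.Agent.Helper4.BG12.le_centralizer_of_prime_gt hlt hp2 hAcard hTs hTN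
    · subst heq
      have hWp : IsPGroup p ↥(T ⊔ A) := IsPGroup.to_sup_of_normal_right' hTs hAp hTN
      have hWM : T ⊔ A ≤ M := sup_le (hTX.trans hXM) hAM
      have hcomm := Cfsg.Agent.Helper4.BG12.commute_of_isPGroup_of_not_mem_sigma hG hM hpσ hWM hWp
      intro t ht
      rw [Subgroup.mem_centralizer_iff]
      intro a ha
      exact hcomm a (Subgroup.mem_sup_right ha) t (Subgroup.mem_sup_left ht)
  have hAX : A ≤ Subgroup.centralizer (X : Set G) := by
    rw [Subgroup.le_centralizer_iff]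
    rw [← hXA]
    exact inf_le_right
  have h125 := Cfsg.Agent.Helper4.BG12.thm125 hG hM hpτ ⟨hAM, hAe, hAcard⟩
  have huniq : ∀ L : Subgroup G, IsCoatom L → Subgroup.centralizer (X : Set G) ≤ L → L = M := by
    intro L hL hXL
    by_contra hLM
    have h := h125.2.2.2.2.1 L hL hLM (hAX.trans hXL)
    apply hy1'
    have : y ∈ Cfsg.sigmaCore M ⊓ L := ⟨hy.1, hXL hy.2⟩
    rw [h] at this
    exact Subgroup.mem_bot.1 this
  refine ⟨?_, huniq⟩
  obtain ⟨X₀, hX₀def⟩ : ∃ X₀ : Subgroup G, X₀ = Subgroup.zpowers d := ⟨_, rfl⟩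
  have hX₀card : Nat.card X₀ = p := by rw [hX₀def, Nat.card_zpowers, hdr]
  have hX₀X : X₀ ≤ X := by rw [hX₀def]; exact Subgroup.zpowers_le.2 hdX
  have hX₀A : X₀ ≤ A := h126.1.2 X₀ (hX₀X.trans hXE) hX₀card
  have hne : Cfsg.sigmaCore M ⊓ Subgroup.centralizer (X₀ : Set G) ≠ ⊥ := by
    intro h
    apply hy1'
    have : y ∈ Cfsg.sigmaCore M ⊓ Subgroup.centralizer (X₀ : Set G) :=
      ⟨hy.1, Subgroup.centralizer_le hX₀X hy.2⟩
    rw [h] at this
    exact Subgroup.mem_bot.1 this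
  exact (Subgroup.centralizer_le hX₀X).trans (h126.2.2 X₀ hX₀A hX₀card hne).1


end Cfsg.Agent.S1361
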