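import Mathlib
import Cfsg.Statements.S1362
import Cfsg.Agent.Helper3.BG142b
import Cfsg.Agent.Helper3.CoprimeHall
import Cfsg.Agent.Helper1.BGT3regC
import Cfsg.Agent.Helper1.BG151b
import Cfsg.Agent.S1361
-- import your own Cfsg.Agent.* helpers here

set_option autoImplicit false
open Cfsg

namespace Cfsg.Agent.S1362
open scoped Pointwise

/-- an `r`-element `z` (`r ∉ σ(M)`) of `U M_σ` centralizing `y ∈ M_σ^#`: `𝓜(C(z)) = {M}` -/
theorem uniq_of_mem {G : Type*} [Group G] [Finite G] (hG : Cfsg.IsMinSimpleOddOrder G)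
    {M : Subgroup G} (hM : IsCoatom M) {K U : Subgroup G} (hKU : Cfsg.IsSigmaDecomposition M K U)
    {r : ℕ} (hr : r.Prime) (hrσ : r ∉ Cfsg.sigma M) {z : G} (hz : z ∈ U ⊔ Cfsg.sigmaCore M)
    (hzr : orderOf z = r) {y : G} (hy : y ∈ Cfsg.sigmaCore M) (hy1 : y ≠ 1) (hzy : z * y = y * z) :
    Subgroup.centralizer ({z} : Set G) ≤ M ∧ ∀ L : Subgroup G, IsCoatom L →
      Subgroup.centralizer ({z} : Set G) ≤ L → L = M := by
  haveI := Fact.mk hr
  have hUM : U ≤ M := hKU.compl.1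
  have hσM : Cfsg.sigmaCore M ≤ M := Cfsg.Agent.Lead.BG12.sigmaCore_le
  have hMσ : M ≤ Subgroup.normalizer (Cfsg.sigmaCore M : Set G) :=
    Cfsg.Agent.Lead.BG12.le_normalizer_sigmaCore M
  obtain ⟨N, hNdef⟩ : ∃ N : Subgroup G, N = U ⊔ Cfsg.sigmaCore M := ⟨_, rfl⟩
  have hNM : N ≤ M := by rw [hNdef]; exact sup_le hUM hσM
  have hUσ : ∀ t : ℕ, t.Prime → t ∣ Nat.card U → t ∉ Cfsg.sigma M := fun t ht hd =>
    Cfsg.Agent.Helper1.BG151.not_mem_sigma_of_dvd_card_U hG hM hKU ht hd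
  have hσσ : ∀ t : ℕ, t.Prime → t ∣ Nat.card (Cfsg.sigmaCore M) → t ∈ Cfsg.sigma M :=
    fun t ht hd => Cfsg.Agent.Lead.BG12.mem_sigma_of_dvd_card_sigmaCore ht hd
  have hcop : (Nat.card U).Coprime (Nat.card (Cfsg.sigmaCore M)) := by
    apply Nat.coprime_of_dvd
    intro t ht h1 h2
    exact hUσ t ht h1 (hσσ t ht h2)
  have hdisj : U ⊓ Cfsg.sigmaCore M = ⊥ := (Subgroup.disjoint_of_coprime_natCard hcop).eq_bot
  have hcard : Nat.card N = Nat.card U * Nat.card (Cfsg.sigmaCore M) := by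
    rw [hNdef, sup_comm]
    exact Cfsg.Agent.Helper1.card_sup_of_le_normalizer (hUM.trans hMσ) hdisj
  have hd : Cfsg.Agent.Helper3.PiDecomp {t | t ∉ Cfsg.sigma M} (Nat.card N) (Nat.card U)
      (Nat.card (Cfsg.sigmaCore M)) :=
    ⟨hcard, fun t ht h => hUσ t ht h, fun t ht h hn => hn (hσσ t ht h)⟩
  haveI hsolvM : Group.IsSolvable ↥M := hG.2.2.2 M hM.1
  have hsolv : Group.IsSolvable ↥N :=
    Group.isSolvable_of_isSolvable_injective (Subgroup.inclusion_injective hNM)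
  have hint := Cfsg.Agent.Helper3.hall_internal N hsolv hd
  have hZN : Subgroup.zpowers z ≤ N := by rw [hNdef]; exact Subgroup.zpowers_le.2 hz
  have hZcop : (Nat.card (Subgroup.zpowers z)).Coprime (Nat.card (Cfsg.sigmaCore M)) := by
    rw [Nat.card_zpowers, hzr, Nat.Prime.coprime_iff_not_dvd hr]
    intro h
    exact hrσ (hσσ r hr h)
  obtain ⟨H, hHN, hHcard, hZH⟩ := hint.2 _ hZN hZcop
  obtain ⟨n, hnN, hn⟩ := hint.1 H U hHN (by rw [hNdef]; exact le_sup_left) hHcard rfl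
  have hnM : n ∈ M := hNM hnN
  -- the conjugate `n z n⁻¹ ∈ U`
  have hzU : n * z * n⁻¹ ∈ U := by
    rw [← hn]
    exact Cfsg.Agent.Helper1.conj_mem_conj_smul (hZH (Subgroup.mem_zpowers z))
  obtain ⟨X, hXdef⟩ : ∃ X : Subgroup G, X = Subgroup.zpowers (n * z * n⁻¹) := ⟨_, rfl⟩
  have hXU : X ≤ U := by rw [hXdef]; exact Subgroup.zpowers_le.2 hzU
  have hz1 : z ≠ 1 := by
    intro h
    rw [h, orderOf_one] at hzr
    exact hr.one_lt.ne hzr
  have hX1 : X ≠ ⊥ := by
    rw [hXdef, Ne, Subgroup.zpowers_eq_bot]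
    intro h
    apply hz1
    have : z = n⁻¹ * (n * z * n⁻¹) * n := by group
    rw [this, h]; group
  have hyn : n * y * n⁻¹ ∈ Cfsg.sigmaCore M := by
    have := (Subgroup.mem_normalizer_iff.1 (hMσ hnM) y).1 hy
    exact this
  have hXc : Cfsg.sigmaCore M ⊓ Subgroup.centralizer (X : Set G) ≠ ⊥ := by
    intro h
    have hmem : n * y * n⁻¹ ∈ Cfsg.sigmaCore M ⊓ Subgroup.centralizer (X : Set G) := by
      refine Subgroup.mem_inf.2 ⟨hyn, ?_⟩
      rw [hXdef, Cfsg.Agent.Helper1.BGX.centralizer_zpowers_eq,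
        Subgroup.mem_centralizer_singleton_iff]
      calc n * y * n⁻¹ * (n * z * n⁻¹) = n * (y * z) * n⁻¹ := by group
        _ = n * (z * y) * n⁻¹ := by rw [hzy]
        _ = n * z * n⁻¹ * (n * y * n⁻¹) := by group
    rw [h, Subgroup.mem_bot] at hmem
    apply hy1
    have : y = n⁻¹ * (n * y * n⁻¹) * n := by group
    rw [this, hmem]; group
  obtain ⟨h1, h2⟩ := Cfsg.Agent.S1361.result hG M hM K U hKU X hXU hX1 hXc
  -- transfer back along `n`
  have hconj : ∀ c : G, c ∈ Subgroup.centralizer ({z} : Set G) →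
      n * c * n⁻¹ ∈ Subgroup.centralizer (X : Set G) := by
    intro c hc
    rw [Subgroup.mem_centralizer_singleton_iff] at hc
    rw [hXdef, Cfsg.Agent.Helper1.BGX.centralizer_zpowers_eq,
      Subgroup.mem_centralizer_singleton_iff]
    calc n * c * n⁻¹ * (n * z * n⁻¹) = n * (c * z) * n⁻¹ := by group
      _ = n * (z * c) * n⁻¹ := by rw [hc]
      _ = n * z * n⁻¹ * (n * c * n⁻¹) := by group
  refine ⟨?_, ?_⟩
  · intro c hc
    have h3 := h1 (hconj c hc)
    have : c = n⁻¹ * (n * c * n⁻¹) * n := by group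
    rw [this]
    exact M.mul_mem (M.mul_mem (M.inv_mem hnM) h3) hnM
  · intro L hL hCL
    have hL' : IsCoatom (MulAut.conj n • L) := Cfsg.Agent.Helper1.BGU.isCoatom_conj_smul n hL
    have h4 : Subgroup.centralizer (X : Set G) ≤ MulAut.conj n • L := by
      intro c hc
      rw [Cfsg.Agent.Helper1.mem_conj_smul]
      apply hCL
      rw [Subgroup.mem_centralizer_singleton_iff]
      have hc' := hc
      rw [hXdef, Cfsg.Agent.Helper1.BGX.centralizer_zpowers_eq,
        Subgroup.mem_centralizer_singleton_iff] at hc'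
      calc n⁻¹ * c * n * z = n⁻¹ * (c * (n * z * n⁻¹)) * n := by group
        _ = n⁻¹ * ((n * z * n⁻¹) * c) * n := by rw [hc']
        _ = z * (n⁻¹ * c * n) := by group
    have h5 := h2 _ hL' h4
    -- `n • L = M` with `n ∈ M` gives `L = M`
    ext c
    constructor
    · intro hc
      have : n * c * n⁻¹ ∈ MulAut.conj n • L := Cfsg.Agent.Helper1.conj_mem_conj_smul hc
      rw [h5] at this
      have h6 : c = n⁻¹ * (n * c * n⁻¹) * n := by group
      rw [h6]
      exact M.mul_mem (M.mul_mem (M.inv_mem hnM) this) hnM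
    · intro hc
      have : n * c * n⁻¹ ∈ M := M.mul_mem (M.mul_mem hnM hc) (M.inv_mem hnM)
      rw [← h5, Cfsg.Agent.Helper1.mem_conj_smul] at this
      have h6 : c = n⁻¹ * (n * c * n⁻¹) * n := by group
      rw [h6]; exact this

/-- Let G be a minimal simple group of odd order and M a maximal subgroup with standard factorisation M = K U M_σ, and let A(M) be the set of elements of U M_σ centralizing some non-identity element of M_σ. Then A(M) with M_σ removed is a TI-subset of G. -/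
theorem result {G : Type*} [Group G] [Finite G] (hG : Cfsg.IsMinSimpleOddOrder G)
    (M : Subgroup G) (hM : IsCoatom M) (K U : Subgroup G) (hKU : Cfsg.IsSigmaDecomposition M K U) :
    Cfsg.IsTISubset (Cfsg.sigmaA M U \ (Cfsg.sigmaCore M : Set G)) := by
  have hκ : ∀ p ∈ Cfsg.kappa M, ¬ p ∣ Nat.card ↥⁅M, M⁆ := fun p hp =>
    (Cfsg.Agent.Helper1.BGT3reg.kappa_subset_tau1_of_decomp hG hM hKU p hp).2.2.2.1
  have hNn := Cfsg.Agent.Helper3.BG142.le_normalizer_sup_sigmaCore hG hM hKU hκ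
  have hMσ : M ≤ Subgroup.normalizer (Cfsg.sigmaCore M : Set G) :=
    Cfsg.Agent.Lead.BG12.le_normalizer_sigmaCore M
  have hσM : Cfsg.sigmaCore M ≤ M := Cfsg.Agent.Lead.BG12.sigmaCore_le
  -- uniqueness for the prime-order powers
  have key : ∀ a ∈ Cfsg.sigmaA M U \ (Cfsg.sigmaCore M : Set G), ∀ r : ℕ, r.Prime →
      r ∣ orderOf a → r ∉ Cfsg.sigma M →
      Subgroup.centralizer ({a ^ (orderOf a / r)} : Set G) ≤ M ∧ ∀ L : Subgroup G, IsCoatom L →
        Subgroup.centralizer ({a ^ (orderOf a / r)} : Set G) ≤ L → L = M := by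
    intro a ha r hr hrd hrσ
    obtain ⟨⟨⟨haM, y, hy, hy1, hay⟩, haN⟩, haσ⟩ := ha
    exact uniq_of_mem hG hM hKU hr hrσ (Subgroup.pow_mem _ haN _)
      (orderOf_pow_orderOf_div (orderOf_pos a).ne' hrd) hy hy1
      (Commute.pow_left (show Commute a y from hay) _).eq
  have hex : ∀ a ∈ Cfsg.sigmaA M U \ (Cfsg.sigmaCore M : Set G),
      ∃ r : ℕ, r.Prime ∧ r ∣ orderOf a ∧ r ∉ Cfsg.sigma M := by
    intro a ha
    by_contra hcon
    push Not at hcon
    apply ha.2
    have h1 : Subgroup.zpowers a ≤ Cfsg.sigmaCore M :=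
      Cfsg.Agent.Helper4.BG12.le_sigmaCore_of_isPi hG hM (Subgroup.zpowers_le.2 ha.1.1.1) (by
        intro t ht hd
        rw [Nat.card_zpowers] at hd
        exact hcon t ht hd)
    exact h1 (Subgroup.mem_zpowers a)
  -- `M` normalizes the set
  have hMX : ∀ m ∈ M, ∀ n ∈ Cfsg.sigmaA M U \ (Cfsg.sigmaCore M : Set G),
      m * n * m⁻¹ ∈ Cfsg.sigmaA M U \ (Cfsg.sigmaCore M : Set G) := by
    intro m hm n hn
    obtain ⟨⟨⟨hnM, y, hy, hy1, hny⟩, hnN⟩, hnσ⟩ := hn
    refine ⟨⟨⟨M.mul_mem (M.mul_mem hm hnM) (M.inv_mem hm), m * y * m⁻¹, ?_, ?_, ?_⟩, ?_⟩, ?_⟩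
    · exact (Subgroup.mem_normalizer_iff.1 (hMσ hm) y).1 hy
    · intro h
      apply hy1
      have : y = m⁻¹ * (m * y * m⁻¹) * m := by group
      rw [this, h]; group
    · calc m * n * m⁻¹ * (m * y * m⁻¹) = m * (n * y) * m⁻¹ := by group
        _ = m * (y * n) * m⁻¹ := by rw [hny]
        _ = m * y * m⁻¹ * (m * n * m⁻¹) := by group
    · exact (Subgroup.mem_normalizer_iff.1 (hNn hm) n).1 hnN
    · intro h
      apply hnσ
      exact (Subgroup.mem_normalizer_iff.1 (hMσ hm) n).2 h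
  intro g hg x hx hgx
  exfalso
  apply hg
  have hgM : g ∈ M := by
    obtain ⟨r, hr, hrd, hrσ⟩ := hex x hx
    have hord : orderOf (g * x * g⁻¹) = orderOf x :=
      orderOf_injective (MulAut.conj g).toMonoidHom (MulAut.conj g).injective x
    obtain ⟨h1, h2⟩ := key x hx r hr hrd hrσ
    obtain ⟨h1', h2'⟩ := key (g * x * g⁻¹) hgx r hr (hord ▸ hrd) hrσ
    rw [hord, conj_pow] at h1' h2'
    obtain ⟨z, hzdef⟩ : ∃ z : G, z = x ^ (orderOf x / r) := ⟨_, rfl⟩
    rw [← hzdef] at h1 h2 h1' h2'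
    have hL : IsCoatom (MulAut.conj g⁻¹ • M) := Cfsg.Agent.Helper1.BGU.isCoatom_conj_smul g⁻¹ hM
    have hle : Subgroup.centralizer ({z} : Set G) ≤ MulAut.conj g⁻¹ • M := by
      intro c hc
      rw [Cfsg.Agent.Helper1.mem_conj_smul, inv_inv]
      apply h1'
      rw [Subgroup.mem_centralizer_singleton_iff] at hc ⊢
      calc g * c * g⁻¹ * (g * z * g⁻¹) = g * (c * z) * g⁻¹ := by group
        _ = g * (z * c) * g⁻¹ := by rw [hc]
        _ = g * z * g⁻¹ * (g * c * g⁻¹) := by group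
    have heq := h2 _ hL hle
    -- `g⁻¹ ∈ N(M) = M`
    have hM1 : M ≠ ⊥ := by
      obtain ⟨⟨⟨-, y, hy, hy1, -⟩, -⟩, -⟩ := hx
      intro h
      apply hy1
      have := hσM hy
      rw [h, Subgroup.mem_bot] at this
      exact this
    have hnorm := Cfsg.Agent.Helper1.BGU.normalizer_eq_of_coatom hG hM
      (Subgroup.le_normalizer (H := M)) hM1 hM.1
    have hginv : g⁻¹ ∈ Subgroup.normalizer (M : Set G) := by
      rw [Subgroup.mem_normalizer_iff]
      intro h
      constructor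
      · intro hh
        have : g⁻¹ * h * g⁻¹⁻¹ ∈ MulAut.conj g⁻¹ • M :=
          Cfsg.Agent.Helper1.conj_mem_conj_smul hh
        rwa [heq] at this
      · intro hh
        rw [← heq, Cfsg.Agent.Helper1.mem_conj_smul] at hh
        have h3 : h = g⁻¹⁻¹ * (g⁻¹ * h * g⁻¹⁻¹) * g⁻¹ := by group
        rw [h3]; exact hh
    rw [hnorm] at hginv
    have := M.inv_mem hginv
    rwa [inv_inv] at this
  rw [Subgroup.mem_set_normalizer_iff]
  intro n
  constructor
  · intro hn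
    exact hMX g hgM n hn
  · intro hn
    have := hMX g⁻¹ (M.inv_mem hgM) _ hn
    have h3 : g⁻¹ * (g * n * g⁻¹) * g⁻¹⁻¹ = n := by group
    rwa [h3] at this


end Cfsg.Agent.S1362
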