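import Mathlib
import Cfsg.Statements.S1379
import Cfsg.Agent.Helper2.BG148b

set_option autoImplicit false
open Cfsg

namespace Cfsg.Agent.S1379

open Cfsg.Agent.Helper2

/-- Let G be a minimal simple group of odd order; for a maximal subgroup M write M̃ for the union of the G-conjugates of the cosets x R(x), x ≠ 1 in M_σ. Then M̃ ∩ Ñ = ∅ for non-conjugate maximal M, N; if every maximal subgroup has κ empty, every g ≠ 1 lies in some M̃; and if M = K U M_σ has K ≠ 1 with Ẑ = K K* − (K ∪ K*), then every g ≠ 1 lies in some Ñ or in a conjugate of Ẑ, and no conjugate of an element of Ẑ lies in any Ñ. -/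
theorem result {G : Type*} [Group G] [Finite G] (hG : Cfsg.IsMinSimpleOddOrder G) :
    (∀ M N : Subgroup G, IsCoatom M → IsCoatom N → (∀ g : G, N ≠ M.map (MulAut.conj g).toMonoidHom) → Cfsg.tildeOf M ((Cfsg.sigmaCore M : Set G) \ {1}) ∩ Cfsg.tildeOf N ((Cfsg.sigmaCore N : Set G) \ {1}) = ∅) ∧
      ((∀ M : Subgroup G, IsCoatom M → Cfsg.kappa M = ∅) →
        ∀ g : G, g ≠ 1 → ∃ M : Subgroup G, IsCoatom M ∧ g ∈ Cfsg.tildeOf M ((Cfsg.sigmaCore M : Set G) \ {1})) ∧
      ∀ (M K U : Subgroup G), IsCoatom M → Cfsg.IsSigmaDecomposition M K U → K ≠ ⊥ →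
        (∀ g : G, g ≠ 1 → (∃ N : Subgroup G, IsCoatom N ∧ g ∈ Cfsg.tildeOf N ((Cfsg.sigmaCore N : Set G) \ {1})) ∨
            ∃ y : G, ∃ z ∈ ((↑(K ⊔ (Cfsg.sigmaCore M ⊓ Subgroup.centralizer (K : Set G))) : Set G) \ ((K : Set G) ∪ ↑(Cfsg.sigmaCore M ⊓ Subgroup.centralizer (K : Set G)))), g = y * z * y⁻¹) ∧
        ∀ N : Subgroup G, IsCoatom N → ∀ y : G, ∀ z ∈ ((↑(K ⊔ (Cfsg.sigmaCore M ⊓ Subgroup.centralizer (K : Set G))) : Set G) \ ((K : Set G) ∪ ↑(Cfsg.sigmaCore M ⊓ Subgroup.centralizer (K : Set G)))), y * z * y⁻¹ ∉ Cfsg.tildeOf N ((Cfsg.sigmaCore N : Set G) \ {1}) := by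
    refine ⟨?_, ?_, ?_⟩
    · intro M N hM hN hnc
      exact Set.disjoint_iff_inter_eq_empty.1
        (Cfsg.Agent.Helper2.BG147K.tilde_disjoint hG hM hN hnc)
    · intro hκ g hg1
      rcases Cfsg.Agent.Helper2.BG148.cover hG hg1 with
        h | ⟨N, KN, hN, hKN, h, k, hk, hk1, y, hy, hy1, hg⟩
      · exact h
      · exfalso
        obtain ⟨p, hp, hpd⟩ := Cfsg.Agent.Helper2.BG148.exists_prime_dvd_orderOf hk1
        have hpκ : p ∈ Cfsg.kappa N :=
          hKN.2.1 p hp (hpd.trans (Subgroup.orderOf_dvd_natCard KN hk))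
        rw [hκ N hN] at hpκ
        exact hpκ
    · intro M K U hM hKU hK1
      obtain ⟨Ms, f⟩ := Cfsg.Agent.Helper2.BG148.exists_fam hG hM hKU.hall hK1
      refine ⟨?_, ?_⟩
      · intro g hg1
        rcases Cfsg.Agent.Helper2.BG148.cover hG hg1 with
          h | ⟨N, KN, hN, hKN, h, k, hk, hk1, y, hy, hy1, hg⟩
        · exact Or.inl h
        · right
          have hKN1 : KN ≠ ⊥ := by
            intro h0
            rw [h0, Subgroup.mem_bot] at hk
            exact hk1 hk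
          obtain ⟨Ns, f1⟩ := Cfsg.Agent.Helper2.BG148.exists_fam hG hN hKN hKN1
          obtain ⟨c, hc⟩ := Cfsg.Agent.Helper2.BG148.conj_into_zhat hG f f1 hk hk1 hy hy1
          refine ⟨h * c⁻¹, c * (k * y) * c⁻¹, hc, ?_⟩
          rw [hg]; group
      · intro N hN y z hz
        exact f.zhat_not_mem_tilde hG hN y hz

end Cfsg.Agent.S1379
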