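import Mathlib
import Cfsg.Agent.Helper1.BG16f
import Cfsg.Agent.Helper3.BG157q
import Cfsg.Agent.Helper4.BG157h
import Cfsg.Statements.S1383

set_option autoImplicit false
open Cfsg

namespace Cfsg.Agent.S1383

/-- Let G be a minimal simple group of odd order and M a maximal subgroup with standard factorisation M = K U M_σ. Then M is of Type V if and only if K ≠ 1, U = 1 and M_F = M_σ. -/
theorem result {G : Type*} [Group G] [Finite G] (hG : Cfsg.IsMinSimpleOddOrder G)
    (M : Subgroup G) (hM : IsCoatom M) (K U : Subgroup G) (hKU : Cfsg.IsSigmaDecomposition M K U) :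
    Cfsg.IsOfTypeV M ↔ (K ≠ ⊥ ∧ U = ⊥ ∧ Cfsg.fittingHallOf M = Cfsg.sigmaCore M) := by
  constructor
  · intro hV
    exact Cfsg.Agent.Helper1.BG16.typeV_imp hG hM hKU hV
  · rintro ⟨hK1, hU1, hF⟩
    exact Cfsg.Agent.Helper1.BG16.typeV_of hG hM hKU hK1 hU1 hF
      (fun N E X hN hE hX hnil =>
        Cfsg.Agent.Helper3.BG157q.isMulCommutative_of_isNilpotent_le_compl hG hN hE hX hnil)
      (fun N E A Q r _ hN hE hr hS hA hQ hQnil hQr =>
        Cfsg.Agent.Helper3.BG157q.isCyclic_of_isNilpotent_le_compl hG hN hE hr hS hA hQ hQnil hQr)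
      Cfsg.Agent.Helper4.BG157.lemmaC'

end Cfsg.Agent.S1383
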