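import Cfsg.Statements.S1470
import Mathlib

set_option autoImplicit false
open Cfsg

namespace Cfsg.Agent.S1470

/-- Let p and q be odd primes with (p^q − 1)/(p − 1) coprime to p − 1, and let E be the set of elements a of the field with p ^ q elements whose norm to the prime field is 1 and for which 2 − a also has norm 1. If a⁻¹ ∈ E for every a ∈ E and E has at least two elements, then p ≤ q. -/
theorem result (p q : ℕ) [Fact p.Prime] [Fact q.Prime] (hp : p ≠ 2) (hq : q ≠ 2) (hA : Nat.Coprime ((p ^ q - 1) / (p - 1)) (p - 1))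
    (hinv : ∀ a ∈ {a : GaloisField p q | Algebra.norm (ZMod p) a = 1 ∧ Algebra.norm (ZMod p) (2 - a) = 1}, a⁻¹ ∈ {a : GaloisField p q | Algebra.norm (ZMod p) a = 1 ∧ Algebra.norm (ZMod p) (2 - a) = 1})
    (h2 : 2 ≤ Set.ncard {a : GaloisField p q | Algebra.norm (ZMod p) a = 1 ∧ Algebra.norm (ZMod p) (2 - a) = 1}) :
    p ≤ q := by
  classical
  have hp' : p.Prime := Fact.out
  have hq' : q.Prime := Fact.out
  have hq0 : q ≠ 0 := hq'.ne_zero
  set E : Set (GaloisField p q) := {a : GaloisField p q | Algebra.norm (ZMod p) a = 1 ∧ Algebra.norm (ZMod p) (2 - a) = 1} with hE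
  -- nonzero of norm one
  have hne : ∀ x : GaloisField p q, Algebra.norm (ZMod p) x = 1 → x ≠ 0 := by
    intro x hx h0
    rw [h0, Algebra.norm_zero] at hx
    exact zero_ne_one hx
  -- closure under 2 - x
  have hsub : ∀ x ∈ E, 2 - x ∈ E := by
    intro x hx
    refine ⟨hx.2, ?_⟩
    have : (2 : GaloisField p q) - (2 - x) = x := by ring
    rw [this]; exact hx.1
  obtain ⟨a, haE, ha1⟩ := Set.exists_ne_of_one_lt_ncard (lt_of_lt_of_le (by norm_num) h2) (1 : GaloisField p q)
  -- the arithmetic progression
  have key : ∀ k : ℕ, Algebra.norm (ZMod p) (1 + (k : GaloisField p q) * (a - 1)) = 1 ∧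
      (1 + ((k + 1 : ℕ) : GaloisField p q) * (a - 1)) / (1 + (k : GaloisField p q) * (a - 1)) ∈ E := by
    intro k
    induction k with
    | zero =>
      refine ⟨by simp, ?_⟩
      have : (1 + ((0 + 1 : ℕ) : GaloisField p q) * (a - 1)) / (1 + ((0 : ℕ) : GaloisField p q) * (a - 1)) = a := by
        simp
      rw [this]; exact haE
    | succ k ih =>
      obtain ⟨ih1, ih2⟩ := ih
      have hb0 : (1 + (k : GaloisField p q) * (a - 1)) ≠ 0 := hne _ ih1
      have hb1 : Algebra.norm (ZMod p) (1 + ((k + 1 : ℕ) : GaloisField p q) * (a - 1)) = 1 := by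
        have : (1 + ((k + 1 : ℕ) : GaloisField p q) * (a - 1)) =
            ((1 + ((k + 1 : ℕ) : GaloisField p q) * (a - 1)) / (1 + (k : GaloisField p q) * (a - 1))) *
              (1 + (k : GaloisField p q) * (a - 1)) := (div_mul_cancel₀ _ hb0).symm
        rw [this, map_mul, ih2.1, ih1, one_mul]
      have hb10 : (1 + ((k + 1 : ℕ) : GaloisField p q) * (a - 1)) ≠ 0 := hne _ hb1
      refine ⟨hb1, ?_⟩
      have h3 := hsub _ (hinv _ ih2)
      have : (1 + ((k + 1 + 1 : ℕ) : GaloisField p q) * (a - 1)) / (1 + ((k + 1 : ℕ) : GaloisField p q) * (a - 1)) =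
          2 - ((1 + ((k + 1 : ℕ) : GaloisField p q) * (a - 1)) / (1 + (k : GaloisField p q) * (a - 1)))⁻¹ := by
        rw [inv_div, eq_sub_iff_add_eq, ← add_div, div_eq_iff hb10]
        push_cast
        ring
      rw [this]; exact h3
  -- the polynomial
  have hfr : Module.finrank (ZMod p) (GaloisField p q) = q := GaloisField.finrank p hq0
  set c : GaloisField p q := a - 1 with hc
  have hc0 : c ≠ 0 := sub_ne_zero.2 ha1
  set P : Polynomial (GaloisField p q) :=
    ∏ σ : (GaloisField p q) ≃ₐ[ZMod p] (GaloisField p q), (Polynomial.C (σ c) * Polynomial.X + 1) with hP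
  have hfac : ∀ σ : (GaloisField p q) ≃ₐ[ZMod p] (GaloisField p q),
      (Polynomial.C (σ c) * Polynomial.X + 1 : Polynomial (GaloisField p q)).natDegree = 1 := by
    intro σ
    have : σ c ≠ 0 := by
      intro h; exact hc0 (by simpa using h)
    exact Polynomial.natDegree_linear this
  have hdeg : P.natDegree = q := by
    rw [hP, Polynomial.natDegree_prod]
    · simp only [hfac, Finset.sum_const, Finset.card_univ, smul_eq_mul, mul_one]
      rw [← Nat.card_eq_fintype_card, IsGalois.card_aut_eq_finrank, hfr]
    · intro σ _ h0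
      have := hfac σ
      rw [h0] at this
      simp at this
  have heval : ∀ k : ℕ, P.eval (k : GaloisField p q) = 1 := by
    intro k
    rw [hP, Polynomial.eval_prod]
    have h1 : ∀ σ : (GaloisField p q) ≃ₐ[ZMod p] (GaloisField p q),
        (Polynomial.C (σ c) * Polynomial.X + 1 : Polynomial (GaloisField p q)).eval (k : GaloisField p q) =
          σ (1 + (k : GaloisField p q) * c) := by
      intro σ
      rw [Polynomial.eval_add, Polynomial.eval_mul, Polynomial.eval_C, Polynomial.eval_X,
        Polynomial.eval_one, map_add, map_one, map_mul, map_natCast]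
      ring
    simp only [h1]
    rw [← Algebra.norm_eq_prod_automorphisms, (key k).1, map_one]
  have hP1 : P - 1 ≠ 0 := by
    intro h
    have : P = 1 := sub_eq_zero.1 h
    rw [this] at hdeg
    simp at hdeg
    exact hq0 hdeg.symm
  have hdeg1 : (P - 1).natDegree ≤ q := by
    refine (Polynomial.natDegree_sub_le _ _).trans ?_
    simp [hdeg]
  -- roots
  have hinj : Set.InjOn (fun k : ℕ => (k : GaloisField p q)) (Finset.range p : Set ℕ) := by
    intro x hx y hy hxy
    have hx' : x < p := by simpa using hx
    have hy' : y < p := by simpa using hy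
    have := (CharP.natCast_eq_natCast (GaloisField p q) p).1 hxy
    exact Nat.ModEq.eq_of_lt_of_lt this hx' hy'
  have hroots : ((Finset.range p).image (fun k : ℕ => (k : GaloisField p q))).val ⊆ (P - 1).roots := by
    intro x hx
    rw [Finset.mem_val, Finset.mem_image] at hx
    obtain ⟨k, _, rfl⟩ := hx
    rw [Polynomial.mem_roots hP1]
    simp [Polynomial.IsRoot, heval k]
  have := Polynomial.card_le_degree_of_subset_roots hroots
  rw [Finset.card_image_of_injOn hinj, Finset.card_range] at this
  exact this.trans hdeg1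

end Cfsg.Agent.S1470
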