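import Mathlib
import Cfsg.Statements.S1480
import Cfsg.Agent.Helper2.TransD

set_option autoImplicit false
open Cfsg

namespace Cfsg.Agent.S1480

open Cfsg.Agent.Helper2

/-- Let G be a finite group and p a prime such that the normalizer of every nontrivial p-subgroup of G is p-constrained; if p = 2 assume also that the Sylow 2-subgroups of G have nilpotency class at most 2. Let E be an abelian p-subgroup containing an elementary abelian subgroup of order p ^ 3 and containing every element of p-power order of C_G(E). Then for every prime q ≠ p, any two maximal E-invariant q-subgroups of G are conjugate by an element of O_{p'}(C_G(E)). -/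
theorem result {G : Type*} [Group G] [Finite G] (p : ℕ) [Fact p.Prime]
    (hloc : ∀ T : Subgroup G, IsPGroup p T → T ≠ ⊥ → Cfsg.IsPConstrained p ↥(Subgroup.normalizer (T : Set G)))
    (h2 : p = 2 → ∀ S : Sylow p G, Group.IsNilpotent (S : Subgroup G) ∧ Group.nilpotencyClass (S : Subgroup G) ≤ 2)
    (E : Subgroup G) (hEp : IsPGroup p E) (hEc : IsMulCommutative E) (hE3 : ¬ Cfsg.PRankLE p 2 E)
    (hEfull : ∀ x ∈ Subgroup.centralizer (E : Set G), IsPGroup p (Subgroup.zpowers x) → x ∈ E)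
    (q : ℕ) [Fact q.Prime] (hqp : q ≠ p) :
    ∀ Q₁ ∈ Cfsg.maxInvSubgroups ⊤ E {q}, ∀ Q₂ ∈ Cfsg.maxInvSubgroups ⊤ E {q},
        ∃ k ∈ Cfsg.piCoreOf (Cfsg.primesNotDvd p) (Subgroup.centralizer (E : Set G)), Q₂ = Q₁.map (MulAut.conj k).toMonoidHom := by
  classical
  have hE : ∀ x ∈ E, ∀ y ∈ E, x * y = y * x := fun x hx y hy =>
    congrArg Subtype.val (hEc.is_comm.comm ⟨x, hx⟩ ⟨y, hy⟩)
  have hcl : p = 2 → Trans.Cl2 p G := fun hp2 => Trans.cl2_of_sylow p (h2 hp2)
  have hconv : ∀ Q ∈ Cfsg.maxInvSubgroups ⊤ E {q}, Trans.IsMaxInvQ E q Q := by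
    intro Q hQ
    obtain ⟨⟨-, hQq, hQE⟩, hmax⟩ := hQ
    refine ⟨⟨?_, hQE⟩, ?_⟩
    · have hne : Nat.card Q ≠ 0 := Nat.card_pos.ne'
      have := Nat.eq_prime_pow_of_unique_prime_dvd hne (p := q)
        (fun {d} hd hdvd => by simpa using hQq d hd hdvd)
      exact IsPGroup.of_card this
    · intro R hR hle
      apply hmax R ⟨le_top, ?_, hR.2⟩ hle
      intro r hr hrd
      obtain ⟨k, hk⟩ := IsPGroup.iff_card.mp hR.1
      rw [hk] at hrd
      have := (Nat.prime_dvd_prime_iff_eq hr (Fact.out : q.Prime)).mp (hr.dvd_of_dvd_pow hrd)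
      simpa using this
  intro Q₁ hQ₁ Q₂ hQ₂
  obtain ⟨c, hc, hc'⟩ := Trans.transitivity_aux p hloc hcl E hEp hE hE3 hEfull q hqp _ Q₁ Q₂
    (hconv Q₁ hQ₁) (hconv Q₂ hQ₂) rfl
  exact ⟨c, hc, hc'.symm⟩

end Cfsg.Agent.S1480
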