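import Cfsg.Statements.S1482
import Cfsg.Agent.Helper6.FitUniqA

set_option autoImplicit false
open Cfsg

namespace Cfsg.Agent.S1482

/-- Let G be a minimal simple group of odd order, H a maximal subgroup whose Fitting subgroup F has at least two prime divisors, and M a subgroup of F containing the centre of F such that the only M-invariant subgroup of G of order coprime to #F is the trivial one. Then H is the only maximal subgroup of G containing M. -/
theorem result {G : Type*} [Group G] [Finite G] (hG : Cfsg.IsMinSimpleOddOrder G) (H : Subgroup G) (hH : IsCoatom H) (hF2 : 2 ≤ (Nat.card (Cfsg.fittingOf H)).primeFactors.card)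
    (M : Subgroup G) (hM : M ≤ Cfsg.fittingOf H) (hZM : Cfsg.fittingOf H ⊓ Subgroup.centralizer (Cfsg.fittingOf H : Set G) ≤ M)
    (hinv : ∀ Y ∈ Cfsg.invSubgroups ⊤ M (Cfsg.primesNotDvd (Nat.card (Cfsg.fittingOf H))), Y = ⊥) :
    ∀ L : Subgroup G, IsCoatom L → M ≤ L → L = H := by
  intro L hL hML
  have hW : Cfsg.Agent.Helper6.FitUniq.WGood H M := by
    refine ⟨hG, hH, hM, ?_⟩
    intro r hr x hx
    haveI := Fact.mk hr
    apply hZM
    refine ⟨Cfsg.Agent.Helper1.BGV.pCoreOf_le_fittingOf r H hx.1, ?_⟩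
    apply Cfsg.Agent.Helper1.BGV.mem_centralizer_fittingOf
    intro t ht y hy
    haveI := Fact.mk ht
    by_cases htr : t = r
    · subst htr
      exact (Subgroup.mem_centralizer_iff.mp hx.2 y hy).symm
    · exact Cfsg.Agent.Helper1.BGV.commute_pCoreOf (Ne.symm htr) H hx.1 hy
  -- two primes
  have hF0 : Nat.card (Cfsg.fittingOf H) ≠ 0 := Nat.card_pos.ne'
  obtain ⟨q, hqmem, r₀, hr₀mem, hne⟩ := Finset.one_lt_card.mp (by omega :
    1 < (Nat.card (Cfsg.fittingOf H)).primeFactors.card)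
  have hq : q.Prime := Nat.prime_of_mem_primeFactors hqmem
  have hr₀ : r₀.Prime := Nat.prime_of_mem_primeFactors hr₀mem
  have hqF : q ∣ Nat.card (Cfsg.fittingOf H) := Nat.dvd_of_mem_primeFactors hqmem
  have hr₀F : r₀ ∣ Nat.card (Cfsg.fittingOf H) := Nat.dvd_of_mem_primeFactors hr₀mem
  have hqA := hW.dvd_card_of_dvd_fitting hq hqF
  have hr₀A := hW.dvd_card_of_dvd_fitting hr₀ hr₀F
  have hO : ∀ X : Subgroup G, M ≤ X →
      Cfsg.piCoreOf (Cfsg.primesNotDvd (Nat.card M)) X = ⊥ := by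
    intro X hMX
    apply hinv
    refine ⟨le_top, ?_, hMX.trans (Cfsg.Agent.Helper1.BGT.le_normalizer_piCoreOf _ X)⟩
    intro p hp hpd
    have h1 := Cfsg.Agent.Helper1.BGT.piCoreOf_isPi _ X p hp hpd
    exact ⟨hp, fun hd => h1.2 (hW.dvd_card_of_dvd_fitting hp hd)⟩
  exact hW.eq_of_coatom hq hr₀ (Ne.symm hne) hqA hr₀A hL hML (hO H hW.leM) (hO L hML)

end Cfsg.Agent.S1482
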