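import Cfsg.Statements.S1488
import Mathlib
import Cfsg.Agent.Helper6.IndFun
-- import your own Cfsg.Agent.* helpers here

set_option autoImplicit false
open Cfsg

namespace Cfsg.Agent.S1488

/-- Let A be a normal subgroup of the finite group G contained in the subgroup H, let θ be a function on H and θ₁ a function on the image of H in G ⧸ A whose composite with the projection is θ. Then the function induced from θ₁ to G ⧸ A, composed with the projection G → G ⧸ A, equals the function induced from θ to G. -/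
theorem result {G : Type*} [Group G] [Fintype G] (A H : Subgroup G) [A.Normal] (hAH : A ≤ H) [Fintype (G ⧸ A)] [Fintype ↥(H.map (QuotientGroup.mk' A))] (θ : H → ℂ) (θ₁ : ↥(H.map (QuotientGroup.mk' A)) → ℂ) (hθ : ∀ x : H, θ₁ ⟨QuotientGroup.mk' A x, Subgroup.mem_map_of_mem _ x.2⟩ = θ x) (g : G) : Cfsg.indFun (H.map (QuotientGroup.mk' A)) θ₁ (QuotientGroup.mk' A g) = Cfsg.indFun H θ g := by
  classical
  rw [Cfsg.Agent.Helper6.indFun_apply, Cfsg.Agent.Helper6.indFun_apply]
  -- pointwise comparison of the extensions by zero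
  have hext' : ∀ (θ : H → ℂ) (θ₁ : ↥(H.map (QuotientGroup.mk' A)) → ℂ)
      (hθ : ∀ x : H, θ₁ ⟨QuotientGroup.mk' A x, Subgroup.mem_map_of_mem _ x.2⟩ = θ x),
      ∀ y : G, Cfsg.extendByZero H θ y =
      Cfsg.extendByZero (H.map (QuotientGroup.mk' A)) θ₁ (QuotientGroup.mk' A y) := by
    intro θ θ₁ hθ y
    by_cases hy : y ∈ H
    · rw [Cfsg.Agent.Helper6.extendByZero_mem H θ hy,
        Cfsg.Agent.Helper6.extendByZero_mem (H.map (QuotientGroup.mk' A)) θ₁
          (Subgroup.mem_map_of_mem _ hy)]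
      exact (hθ ⟨y, hy⟩).symm
    · rw [Cfsg.Agent.Helper6.extendByZero_not_mem H θ hy,
        Cfsg.Agent.Helper6.extendByZero_not_mem (H.map (QuotientGroup.mk' A)) θ₁]
      rintro ⟨z, hz, hzy⟩
      apply hy
      have : z⁻¹ * y ∈ A := by
        rw [← QuotientGroup.eq]
        exact hzy
      have h2 : y = z * (z⁻¹ * y) := by group
      rw [h2]
      exact H.mul_mem hz (hAH this)
  have hext := hext' θ θ₁ hθ
  -- fibre sums
  have hfib : ∀ F : G ⧸ A → ℂ, ∑ x : G, F (QuotientGroup.mk' A x) =
      (Nat.card A : ℂ) * ∑ q : G ⧸ A, F q := by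
    intro F
    rw [← Finset.sum_fiberwise (Finset.univ : Finset G) (fun x => QuotientGroup.mk' A x)
      (fun x => F (QuotientGroup.mk' A x)), Finset.mul_sum]
    apply Finset.sum_congr rfl
    intro q _
    have h1 : ∀ x ∈ Finset.univ.filter (fun x : G => QuotientGroup.mk' A x = q),
        F (QuotientGroup.mk' A x) = F q := by
      intro x hx
      rw [(Finset.mem_filter.mp hx).2]
    rw [Finset.sum_congr rfl h1, Finset.sum_const, nsmul_eq_mul]
    congr 1
    have h2 := QuotientGroup.card_preimage_mk A ({q} : Set (G ⧸ A))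
    rw [Nat.card_eq_fintype_card, Fintype.card_subtype] at h2
    simp only [Set.mem_preimage, Set.mem_singleton_iff, Nat.card_eq_fintype_card,
      Fintype.card_unique, mul_one] at h2
    rw [Nat.card_eq_fintype_card]
    exact_mod_cast h2
  have hsum : ∑ x : G, Cfsg.extendByZero H θ (x⁻¹ * g * x) =
      ∑ x : G, (fun q : G ⧸ A => Cfsg.extendByZero (H.map (QuotientGroup.mk' A)) θ₁
        (q⁻¹ * QuotientGroup.mk' A g * q)) (QuotientGroup.mk' A x) := by
    apply Finset.sum_congr rfl
    intro x _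
    rw [hext]
    simp only [map_mul, map_inv]
  rw [hsum, hfib (fun q : G ⧸ A => Cfsg.extendByZero (H.map (QuotientGroup.mk' A)) θ₁
        (q⁻¹ * QuotientGroup.mk' A g * q))]
  -- cardinalities
  have hcard : (Nat.card H : ℂ) = (Nat.card A : ℂ) * (Nat.card (H.map (QuotientGroup.mk' A)) : ℂ) := by
    have h1 := hext' (fun _ => 1) (fun _ => 1) (fun _ => rfl)
    have h2 : ∑ x : G, Cfsg.extendByZero H (fun _ => (1 : ℂ)) x =
        ∑ x : G, (fun q : G ⧸ A => Cfsg.extendByZero (H.map (QuotientGroup.mk' A))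
          (fun _ => (1 : ℂ)) q) (QuotientGroup.mk' A x) :=
      Finset.sum_congr rfl (fun x _ => h1 x)
    rw [hfib (fun q : G ⧸ A => Cfsg.extendByZero (H.map (QuotientGroup.mk' A))
          (fun _ => (1 : ℂ)) q), Cfsg.Agent.Helper6.sum_extendByZero,
      Cfsg.Agent.Helper6.sum_extendByZero] at h2
    simp only [Finset.sum_const, Finset.card_univ, nsmul_eq_mul, mul_one] at h2
    rw [Nat.card_eq_fintype_card, Nat.card_eq_fintype_card (α := ↥(H.map (QuotientGroup.mk' A)))]
    convert h2 using 3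
  have hA : (Nat.card A : ℂ) ≠ 0 := by
    have : 0 < Nat.card A := Nat.card_pos
    exact_mod_cast this.ne'
  have hH : (Nat.card (H.map (QuotientGroup.mk' A)) : ℂ) ≠ 0 := by
    have : 0 < Nat.card (H.map (QuotientGroup.mk' A)) := Nat.card_pos
    exact_mod_cast this.ne'
  rw [hcard]
  field_simp

end Cfsg.Agent.S1488
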