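import Cfsg.Statements.S1489
import Mathlib
import Cfsg.Agent.Helper6.CliffordCorr2
-- import your own Cfsg.Agent.* helpers here

set_option autoImplicit false
open Cfsg

namespace Cfsg.Agent.S1489

/-- Let H be a normal subgroup of the finite group G, θ an irreducible character of H, and T the inertia group of θ (the elements g with θ(g h g⁻¹) = θ(h) for all h ∈ H). If ψ and ψ' are irreducible characters of T having nonzero inner product with the function induced from θ to T, then the function induced from ψ to G is an irreducible character of G, and it equals the one induced from ψ' only if ψ = ψ'. -/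
theorem result {G : Type*} [Group G] [Fintype G] (H T : Subgroup G) [hN : H.Normal] [Fintype T] (θ : H → ℂ) (hθ : Cfsg.IsIrrCharacter H θ) (hT : ∀ g : G, g ∈ T ↔ ∀ h : H, θ ⟨g * h * g⁻¹, hN.conj_mem h h.2 g⟩ = θ h) (hHT : H ≤ T) (ψ ψ' : T → ℂ) (hψ : Cfsg.IsIrrCharacter T ψ) (hψ' : Cfsg.IsIrrCharacter T ψ') (hc : Cfsg.classInner (Cfsg.indFun (H.subgroupOf T) (fun x => θ ⟨(x : T), Subgroup.mem_subgroupOf.mp x.2⟩)) ψ ≠ 0) (hc' : Cfsg.classInner (Cfsg.indFun (H.subgroupOf T) (fun x => θ ⟨(x : T), Subgroup.mem_subgroupOf.mp x.2⟩)) ψ' ≠ 0) : Cfsg.IsIrrCharacter G (Cfsg.indFun T ψ) ∧ (Cfsg.indFun T ψ = Cfsg.indFun T ψ' → ψ = ψ') := by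
  classical
  haveI : Fintype H := Fintype.ofFinite H
  have hT' : ∀ g : G, g ∈ T ↔ Cfsg.Agent.Helper6.conjFun H θ g = θ := by
    intro g
    rw [hT g]
    constructor
    · intro h
      funext n
      exact h n
    · intro h n
      exact congrFun h n
  have hψchar := Cfsg.Agent.Helper6.IsIrrCharacter.isCharacter hψ
  have hψ'char := Cfsg.Agent.Helper6.IsIrrCharacter.isCharacter hψ'
  have hf : Cfsg.classInner (fun n : H => ψ ⟨(n : G), hHT n.2⟩) θ ≠ 0 := by
    rw [Cfsg.Agent.Helper6.classInner_indFun_subgroupOf H T hHT θ ψ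
      (Cfsg.Agent.Helper6.IsCharacter.isClassFunction hψchar),
      Cfsg.Agent.Helper6.classInner_conj_symm] at hc
    intro h
    apply hc
    rw [h, map_zero]
  have hf' : Cfsg.classInner (fun n : H => ψ' ⟨(n : G), hHT n.2⟩) θ ≠ 0 := by
    rw [Cfsg.Agent.Helper6.classInner_indFun_subgroupOf H T hHT θ ψ'
      (Cfsg.Agent.Helper6.IsCharacter.isClassFunction hψ'char),
      Cfsg.Agent.Helper6.classInner_conj_symm] at hc'
    intro h
    apply hc'
    rw [h, map_zero]
  obtain ⟨hirr, he⟩ := Cfsg.Agent.Helper6.clifford_corr_ind_irr H θ hθ T hT' hHT ψ hψ hf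
  obtain ⟨hirr', he'⟩ := Cfsg.Agent.Helper6.clifford_corr_ind_irr H θ hθ T hT' hHT ψ' hψ' hf'
  refine ⟨hirr, ?_⟩
  intro heq
  by_contra hne
  set χ := Cfsg.indFun T ψ with hχdef
  have hχchar := Cfsg.Agent.Helper6.IsIrrCharacter.isCharacter hirr
  have hχcf := Cfsg.Agent.Helper6.IsCharacter.isClassFunction hχchar
  have hχT : Cfsg.IsCharacter T (fun t : T => χ t) :=
    Cfsg.Agent.Helper6.IsCharacter.restrict T hχchar
  have h1 : Cfsg.classInner ψ (fun t : T => χ t) = 1 := by
    rw [← Cfsg.Agent.Helper6.frobenius_reciprocity T ψ χ hχcf, ← hχdef,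
      Cfsg.Agent.Helper6.classInner_irr_self hirr]
  have h1' : Cfsg.classInner ψ' (fun t : T => χ t) = 1 := by
    rw [← Cfsg.Agent.Helper6.frobenius_reciprocity T ψ' χ hχcf, ← heq,
      Cfsg.Agent.Helper6.classInner_irr_self hirr]
  have h2 : Cfsg.classInner (fun t : T => χ t) ψ = 1 := by
    rw [Cfsg.Agent.Helper6.classInner_conj_symm, h1, map_one]
  have h2' : Cfsg.classInner (fun t : T => χ t) ψ' = 1 := by
    rw [Cfsg.Agent.Helper6.classInner_conj_symm, h1', map_one]
  have hsub1 : Cfsg.IsCharacter T ((fun t : T => χ t) - ψ) :=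
    Cfsg.Agent.Helper6.sub_isCharacter_of_constituent hχT hψ (by rw [h2]; exact one_ne_zero)
  have hsub2 : Cfsg.IsCharacter T ((fun t : T => χ t) - ψ - ψ') := by
    apply Cfsg.Agent.Helper6.sub_isCharacter_of_constituent hsub1 hψ'
    rw [Cfsg.Agent.Helper6.classInner_sub_left, h2',
      Cfsg.Agent.Helper6.classInner_irr_ne hψ hψ' hne, sub_zero]
    exact one_ne_zero
  have hsubH : Cfsg.IsCharacter H
      (fun n : H => ((fun t : T => χ t) - ψ - ψ') (Subgroup.inclusion hHT n)) :=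
    Cfsg.Agent.Helper6.IsCharacter.comp_hom (Subgroup.inclusion hHT) hsub2
  obtain ⟨k, hk⟩ := Cfsg.Agent.Helper6.classInner_char_char_nat hsubH
    (Cfsg.Agent.Helper6.IsIrrCharacter.isCharacter hθ)
  have hψH : Cfsg.IsCharacter H (fun n : H => ψ (Subgroup.inclusion hHT n)) :=
    Cfsg.Agent.Helper6.IsCharacter.comp_hom (Subgroup.inclusion hHT) hψchar
  obtain ⟨f, hfn⟩ := Cfsg.Agent.Helper6.classInner_char_char_nat hψH
    (Cfsg.Agent.Helper6.IsIrrCharacter.isCharacter hθ)
  have hfn' : Cfsg.classInner (fun n : H => ψ ⟨(n : G), hHT n.2⟩) θ = f := hfn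
  have hk' : Cfsg.classInner (fun n : H => χ n) θ -
      Cfsg.classInner (fun n : H => ψ ⟨(n : G), hHT n.2⟩) θ -
      Cfsg.classInner (fun n : H => ψ' ⟨(n : G), hHT n.2⟩) θ = k := by
    rw [← hk, ← Cfsg.Agent.Helper6.classInner_sub_left, ← Cfsg.Agent.Helper6.classInner_sub_left]
    rfl
  have he'' : Cfsg.classInner (fun n : H => ψ' ⟨(n : G), hHT n.2⟩) θ =
      Cfsg.classInner (fun n : H => χ n) θ := by
    rw [he', ← heq]
  rw [he'', ← he, hfn'] at hk'
  have : ((f + k : ℕ) : ℂ) = 0 := by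
    push_cast
    rw [← hk']
    ring
  have hfk : f + k = 0 := by exact_mod_cast this
  apply hf
  rw [hfn']
  have : f = 0 := by omega
  rw [this, Nat.cast_zero]

end Cfsg.Agent.S1489
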