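import Cfsg.Statements.S1491
import Mathlib
import Cfsg.Agent.Helper6.CoprimeExt
import Cfsg.Agent.Helper6.AbelianInertia2
import Cfsg.Agent.Helper6.CliffordCorr2
-- import your own Cfsg.Agent.* helpers here

set_option autoImplicit false
open Cfsg

namespace Cfsg.Agent.S1491

/-- Let H be a normal subgroup of the finite group G and θ an irreducible character of H with inertia group T, where T/H is abelian (commutators of T lie in H) and the index of H in T is coprime to the order of H. Then the function induced from θ is the sum of a set of exactly [T:H] irreducible characters of G, each of degree [G:T] * θ(1). -/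
theorem result {G : Type*} [Group G] [Fintype G] (H T : Subgroup G) [hN : H.Normal] (θ : H → ℂ) (hθ : Cfsg.IsIrrCharacter H θ) (hT : ∀ g : G, g ∈ T ↔ ∀ h : H, θ ⟨g * h * g⁻¹, hN.conj_mem h h.2 g⟩ = θ h) (hab : ∀ x ∈ T, ∀ y ∈ T, x * y * x⁻¹ * y⁻¹ ∈ H) (hcop : Nat.Coprime (Nat.card H) (H.relIndex T)) : ∃ C : Finset (G → ℂ), (∀ χ ∈ C, Cfsg.IsIrrCharacter G χ) ∧ C.card = H.relIndex T ∧ Cfsg.indFun H θ = ∑ χ ∈ C, χ ∧ ∀ χ ∈ C, χ 1 = (T.index : ℂ) * θ 1 := by
  classical
  haveI : Fintype H := Fintype.ofFinite _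
  haveI : Fintype T := Fintype.ofFinite _
  have hθc := Helper6.IsIrrCharacter.isCharacter hθ
  have hθcf := Helper6.IsCharacter.isClassFunction hθc
  have hHT : H ≤ T := by
    intro h₀ hh₀
    rw [hT]
    intro h
    exact hθcf h ⟨h₀, hh₀⟩
  have hT' : ∀ g : G, g ∈ T ↔ Helper6.conjFun H θ g = θ := by
    intro g
    rw [hT g]
    constructor
    · intro h
      funext n
      exact h n
    · intro h n
      exact congrFun h n
  obtain ⟨e, C, he, hCirr, hcard, hind, hdeg⟩ := Helper6.abelian_inertia_induction H T θ hθ hT hab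
  -- extension of θ to T
  have hθ' := Helper6.resSub_isIrr hθ T hHT
  have hinv' : ∀ (t : T) (n : H.subgroupOf T),
      Helper6.resSub H θ T ⟨t * n * t⁻¹,
        (inferInstance : (H.subgroupOf T).Normal).conj_mem (n : T) n.2 t⟩ =
      Helper6.resSub H θ T n := by
    intro t n
    exact (hT t).mp t.2 ⟨((n : T) : G), Subgroup.mem_subgroupOf.mp n.2⟩
  have hcardN : Nat.card (H.subgroupOf T) = Nat.card H :=
    Nat.card_congr (Subgroup.subgroupOfEquivOfLe hHT).toEquiv
  have hcop' : Nat.Coprime (Nat.card (H.subgroupOf T)) (H.subgroupOf T).index := by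
    rw [hcardN]
    exact hcop
  obtain ⟨χ₀, hχ₀, hχ₀N⟩ := Helper6.extends_of_coprime_card (H.subgroupOf T)
    (Helper6.resSub H θ T) hθ' hinv' hcop'
  have hres : (fun n : H => χ₀ ⟨(n : G), hHT n.2⟩) = θ := by
    funext n
    exact hχ₀N ⟨⟨(n : G), hHT n.2⟩, Subgroup.mem_subgroupOf.mpr n.2⟩
  have hf : Cfsg.classInner (fun n : H => χ₀ ⟨(n : G), hHT n.2⟩) θ ≠ 0 := by
    rw [hres, Helper6.classInner_irr_self hθ]
    exact one_ne_zero
  obtain ⟨hχ₁irr, hχ₁in⟩ := Helper6.clifford_corr_ind_irr H θ hθ T hT' hHT χ₀ hχ₀ hf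
  have hne : Cfsg.classInner (Cfsg.indFun H θ) (Cfsg.indFun T χ₀) ≠ 0 := by
    rw [Helper6.frobenius_reciprocity H θ _
      (Helper6.IsCharacter.isClassFunction (Helper6.IsIrrCharacter.isCharacter hχ₁irr)),
      Helper6.classInner_conj_symm, ← hχ₁in]
    intro h
    exact hf ((map_eq_zero (starRingEnd ℂ)).mp h)
  have hmem : Cfsg.indFun T χ₀ ∈ C := by
    by_contra hnot
    apply hne
    rw [hind, Helper6.classInner_smul_left, Helper6.classInner_sum_left]
    rw [Finset.sum_eq_zero, mul_zero]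
    intro χ hχ
    apply Helper6.classInner_irr_ne (hCirr χ hχ) hχ₁irr
    rintro rfl
    exact hnot hχ
  have hd1 := hdeg _ hmem
  rw [Helper6.indFun_apply_one] at hd1
  have hχ₀1 : χ₀ 1 = θ 1 := by
    have := congrFun hres 1
    exact this
  rw [hχ₀1] at hd1
  have hθ1 : θ 1 ≠ 0 := Helper6.IsIrrCharacter.apply_one_ne_zero hθ
  have hidx : (T.index : ℂ) ≠ 0 := by
    have : T.index ≠ 0 := Subgroup.index_ne_zero_of_finite
    exact_mod_cast this
  have he1 : e = 1 := by
    have h1 : (T.index : ℂ) * θ 1 * 1 = (T.index : ℂ) * θ 1 * (e : ℂ) := by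
      linear_combination hd1
    have h2 := mul_left_cancel₀ (mul_ne_zero hidx hθ1) h1
    exact_mod_cast h2.symm
  subst he1
  refine ⟨C, hCirr, ?_, ?_, ?_⟩
  · have h3 : (H.subgroupOf T).index * Nat.card (H.subgroupOf T) = Nat.card T :=
      (H.subgroupOf T).index_mul_card
    rw [hcardN] at h3
    have hHpos : 0 < Nat.card H := Nat.card_pos
    rw [one_pow, one_mul, ← h3] at hcard
    exact Nat.eq_of_mul_eq_mul_right hHpos hcard
  · rw [hind, Nat.cast_one, one_smul]
  · intro χ hχ
    rw [hdeg χ hχ, Nat.cast_one, mul_one]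

end Cfsg.Agent.S1491
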