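import Cfsg.Statements.S1497
import Mathlib
-- import your own Cfsg.Agent.* helpers here

set_option autoImplicit false
open Cfsg

namespace Cfsg.Agent.S1497

/-- Let A be a nonempty subset of the finite group G not containing 1 and L a subgroup. Then A is a TI-subset whose normaliser is L if and only if the Dade hypothesis holds for A, L and the constant choice H(a) = ⊥. -/
theorem result {G : Type*} [Group G] [Finite G] (A : Set G) (hA : A.Nonempty) (h1 : (1 : G) ∉ A) (L : Subgroup G) : (Cfsg.IsTISubset A ∧ Subgroup.normalizer A = L) ↔ Cfsg.DadeHypothesis A L (fun _ => ⊥) := by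
  classical
  have hcent_le : ∀ K : Subgroup G, (⊥ : Subgroup G) ⊔ K = K := fun K => bot_sup_eq K
  constructor
  · rintro ⟨hTI, hN⟩
    have hAne1 : ∀ a ∈ A, a ≠ 1 := fun a ha h => h1 (h ▸ ha)
    -- anything conjugating some a ∈ A into A normalises A
    have hkey : ∀ a ∈ A, ∀ g : G, g * a * g⁻¹ ∈ A → g ∈ L := by
      intro a ha g hg
      by_contra hgL
      rw [← hN] at hgL
      exact hAne1 a ha (hTI g hgL a ha hg)
    have hCL : ∀ a ∈ A, Subgroup.centralizer ({a} : Set G) ≤ L := by
      intro a ha c hc
      apply hkey a ha c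
      rw [Subgroup.mem_centralizer_iff] at hc
      have := hc a rfl
      rw [← this, mul_inv_cancel_right]
      exact ha
    refine
      { one_not_mem := h1
        subset := ?_
        conj_mem := ?_
        fusion := ?_
        le_centralizer := fun a _ => bot_le
        conj_mem_H := ?_
        inf_eq_bot := fun a _ => bot_inf_eq _
        sup_eq := ?_
        coprime := ?_ }
    · intro a ha
      apply hkey a ha a
      rw [mul_inv_cancel_right]; exact ha
    · intro x hx a ha
      rw [← hN] at hx
      exact (Subgroup.mem_set_normalizer_iff.mp hx a).mp ha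
    · intro a ha g hg
      exact ⟨g, hkey a ha g hg, rfl⟩
    · intro a _ c _ u hu
      rw [Subgroup.mem_bot] at hu ⊢
      rw [hu]; group
    · intro a ha
      rw [bot_sup_eq]
      exact inf_eq_right.mpr (hCL a ha)
    · intro a _ b _
      rw [Subgroup.card_bot]
      exact Nat.coprime_one_left _
  · intro hD
    have hCL : ∀ a ∈ A, Subgroup.centralizer ({a} : Set G) ≤ L := by
      intro a ha
      have := hD.sup_eq a ha
      rw [bot_sup_eq] at this
      rw [← this]
      exact inf_le_left
    have hkey : ∀ a ∈ A, ∀ g : G, g * a * g⁻¹ ∈ A → g ∈ L := by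
      intro a ha g hg
      obtain ⟨y, hy, hya⟩ := hD.fusion a ha g hg
      have hc : y⁻¹ * g ∈ Subgroup.centralizer ({a} : Set G) := by
        rw [Subgroup.mem_centralizer_iff]
        intro b hb
        rw [Set.mem_singleton_iff.mp hb]
        have h2 : a = y⁻¹ * (g * a * g⁻¹) * y := by rw [← hya]; group
        calc a * (y⁻¹ * g) = y⁻¹ * (g * a * g⁻¹) * y * (y⁻¹ * g) := by rw [← h2]
          _ = y⁻¹ * g * a := by group
      have := L.mul_mem hy (hCL a ha hc)
      rwa [mul_inv_cancel_left] at this
    have hLN : L ≤ Subgroup.normalizer A := by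
      intro x hx
      apply Subgroup.mem_normalizer_fintype
      intro a ha
      exact hD.conj_mem x hx a ha
    have hNL : Subgroup.normalizer A ≤ L := by
      intro g hg
      obtain ⟨a, ha⟩ := hA
      exact hkey a ha g ((Subgroup.mem_set_normalizer_iff.mp hg a).mp ha)
    refine ⟨?_, le_antisymm hNL hLN⟩
    intro g hg x hx hgx
    exfalso
    exact hg (hLN (hkey x hx g hgx))

end Cfsg.Agent.S1497
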