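import Cfsg.Statements.S1503
import Mathlib
import Cfsg.Agent.Helper6.ColumnOrth
import Cfsg.Agent.Helper6.IrrBasis
import Cfsg.Agent.Helper6.ClassInner
import Cfsg.Agent.Helper6.CharBasic
import Cfsg.Agent.Helper6.Linear
-- import your own Cfsg.Agent.* helpers here

set_option autoImplicit false
open Cfsg

namespace Cfsg.Agent.S1503

/-- Let W₁, W₂ ≤ G with W = W₁ ⊔ W₂ and let χ an orthonormal family of irreducible characters of G up to sign, indexed by the linear characters ω of W, with χ_1 = 1, χ_ω = ω on W outside W₁ ∪ W₂, and the induction identity for (1 − φ)(1 − ψ). If θ is an irreducible character of G orthogonal to χ ω for every linear character ω of W, then θ vanishes at every element of W lying outside W₁ ∪ W₂. -/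
theorem result {G : Type*} [Group G] [Fintype G] (W₁ W₂ : Subgroup G) (hW : Cfsg.IsSelfNormalizingCyclic W₁ W₂) (χ : (↥(W₁ ⊔ W₂) →* ℂˣ) → (G → ℂ)) (hχ : Cfsg.IsCyclicTIFamily W₁ W₂ χ) (θ : G → ℂ) (hθ : Cfsg.IsIrrCharacter G θ) (horth : ∀ ω, Cfsg.classInner θ (χ ω) = 0) (w : ↥(W₁ ⊔ W₂)) (hw₁ : (w : G) ∉ W₁) (hw₂ : (w : G) ∉ W₂) : θ w = 0 := by
  classical
  haveI : Finite (Cfsg.IrrCharacter G) := Helper6.irr_finite
  haveI : Fintype (Cfsg.IrrCharacter G) := Fintype.ofFinite _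
  haveI : Finite (↥(W₁ ⊔ W₂) →* ℂˣ) := by
    haveI : Finite (Cfsg.IrrCharacter ↥(W₁ ⊔ W₂)) := Helper6.irr_finite
    exact Finite.of_injective (fun lam : ↥(W₁ ⊔ W₂) →* ℂˣ =>
      (⟨fun a => ((lam a : ℂˣ) : ℂ), Helper6.isIrrCharacter_of_hom lam⟩ :
        Cfsg.IrrCharacter ↥(W₁ ⊔ W₂))) (by
      intro a b hab
      have h1 := congrArg Subtype.val hab
      ext x
      exact congrFun h1 x)
  haveI : Fintype (↥(W₁ ⊔ W₂) →* ℂˣ) := Fintype.ofFinite _
  obtain ⟨-, -, -, -, hcyc, hnormW⟩ := hW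
  -- the centralizer of `w` is `W`
  have hcent : Subgroup.centralizer ({(w : G)} : Set G) = W₁ ⊔ W₂ := by
    apply le_antisymm
    · have h1 := hnormW {(w : G)} (by
        intro x hx
        rw [Set.mem_singleton_iff] at hx
        subst hx
        exact ⟨w.2, fun h => h.elim hw₁ hw₂⟩) (Set.singleton_nonempty _)
      exact le_of_le_of_eq (Subgroup.centralizer_le_normalizer _) h1
    · intro y hy
      rw [Subgroup.mem_centralizer_iff]
      intro x hx
      rw [Set.mem_singleton_iff] at hx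
      subst hx
      letI := hcyc.commGroup
      have := mul_comm w (⟨y, hy⟩ : ↥(W₁ ⊔ W₂))
      exact congrArg Subtype.val this
  have hcol := Helper6.column_orthogonality_aux (w : G) (w : G)
  rw [if_pos (IsConj.refl _), hcent] at hcol
  -- the irreducible character attached to `ω`
  have hirr : ∀ ω, ∃ ψ : Cfsg.IrrCharacter G, (ψ : G → ℂ) = χ ω ∨ (ψ : G → ℂ) = -χ ω := by
    intro ω
    rcases hχ.irr_or_neg ω with h | h
    · exact ⟨⟨_, h⟩, Or.inl rfl⟩
    · exact ⟨⟨_, h⟩, Or.inr rfl⟩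
  choose ι hι using hirr
  have hself : ∀ ω, Cfsg.classInner (χ ω) (χ ω) = 1 := by
    intro ω
    rw [hχ.orthonormal, if_pos rfl]
  have hιinj : Function.Injective ι := by
    intro ω ω' h
    by_contra hne
    have h0 : Cfsg.classInner (χ ω) (χ ω') = 0 := by rw [hχ.orthonormal, if_neg hne]
    have h1 : Cfsg.classInner ((ι ω : G → ℂ)) (χ ω') = 0 := by
      rcases hι ω with h2 | h2
      · rw [h2]; exact h0
      · rw [h2, show -χ ω = (-1 : ℂ) • χ ω by simp, Helper6.classInner_smul_left, h0, mul_zero]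
    rw [h] at h1
    rcases hι ω' with h2 | h2
    · rw [h2, hself] at h1
      exact one_ne_zero h1
    · rw [h2, show -χ ω' = (-1 : ℂ) • χ ω' by simp, Helper6.classInner_smul_left, hself] at h1
      norm_num at h1
  have hθmem : (⟨θ, hθ⟩ : Cfsg.IrrCharacter G) ∉ Finset.image ι Finset.univ := by
    intro h
    obtain ⟨ω, -, hω⟩ := Finset.mem_image.mp h
    have h1 := horth ω
    have h2 : (ι ω : G → ℂ) = θ := congrArg Subtype.val hω
    rcases hι ω with h3 | h3
    · rw [← h2, h3, hself] at h1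
      exact one_ne_zero h1
    · rw [← h2, h3, show -χ ω = (-1 : ℂ) • χ ω by simp, Helper6.classInner_smul_left, hself] at h1
      norm_num at h1
  -- real sums
  have hterm : ∀ ψ : Cfsg.IrrCharacter G, (ψ : G → ℂ) w * (starRingEnd ℂ) ((ψ : G → ℂ) w) =
      ((Complex.normSq ((ψ : G → ℂ) w) : ℝ) : ℂ) := fun ψ => Complex.mul_conj _
  rw [Finset.sum_congr rfl (fun ψ _ => hterm ψ)] at hcol
  have hcolR : ∑ ψ : Cfsg.IrrCharacter G, Complex.normSq ((ψ : G → ℂ) w) =
      (Nat.card ↥(W₁ ⊔ W₂) : ℝ) := by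
    have : ((∑ ψ : Cfsg.IrrCharacter G, Complex.normSq ((ψ : G → ℂ) w) : ℝ) : ℂ) =
        ((Nat.card ↥(W₁ ⊔ W₂) : ℝ) : ℂ) := by
      push_cast
      exact hcol
    exact_mod_cast this
  have himg : ∑ ψ ∈ Finset.image ι Finset.univ, Complex.normSq ((ψ : G → ℂ) w) =
      (Nat.card ↥(W₁ ⊔ W₂) : ℝ) := by
    rw [Finset.sum_image (fun a _ b _ h => hιinj h)]
    have h1 : ∀ ω : ↥(W₁ ⊔ W₂) →* ℂˣ, Complex.normSq ((ι ω : G → ℂ) w) = 1 := by
      intro ω
      have h2 : Complex.normSq (χ ω w) = 1 := by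
        rw [hχ.eq_on ω w hw₁ hw₂]
        have h3 : ((ω w : ℂˣ) : ℂ) ^ Nat.card ↥(W₁ ⊔ W₂) = 1 := by
          rw [← Units.val_pow_eq_pow_val, ← map_pow, pow_card_eq_one', map_one, Units.val_one]
        have h4 : ‖((ω w : ℂˣ) : ℂ)‖ = 1 :=
          Complex.norm_eq_one_of_pow_eq_one h3 Nat.card_pos.ne'
        rw [Complex.normSq_eq_norm_sq, h4, one_pow]
      rcases hι ω with h3 | h3
      · rw [h3, h2]
      · rw [h3, Pi.neg_apply, Complex.normSq_neg, h2]
    rw [Finset.sum_congr rfl (fun ω _ => h1 ω), Finset.sum_const, Finset.card_univ,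
      nsmul_eq_mul, mul_one]
    letI := hcyc.commGroup
    have h5 : Nat.card (↥(W₁ ⊔ W₂) →* ℂˣ) = Nat.card ↥(W₁ ⊔ W₂) := by
      haveI : NeZero ((Monoid.exponent ↥(W₁ ⊔ W₂) : ℕ) : ℂ) := by
        constructor
        have : Monoid.exponent ↥(W₁ ⊔ W₂) ≠ 0 := Monoid.exponent_ne_zero_of_finite
        exact_mod_cast this
      exact CommGroup.card_monoidHom_of_hasEnoughRootsOfUnity ↥(W₁ ⊔ W₂) ℂ
    rw [← Nat.card_eq_fintype_card]
    exact_mod_cast h5
  have hsplit := Finset.sum_add_sum_compl (Finset.image ι Finset.univ)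
    (fun ψ : Cfsg.IrrCharacter G => Complex.normSq ((ψ : G → ℂ) w))
  rw [hcolR, himg] at hsplit
  have hzero : ∑ ψ ∈ (Finset.image ι Finset.univ)ᶜ, Complex.normSq ((ψ : G → ℂ) w) = 0 := by
    linarith
  have h6 := (Finset.sum_eq_zero_iff_of_nonneg (fun ψ _ => Complex.normSq_nonneg _)).mp hzero
    ⟨θ, hθ⟩ (Finset.mem_compl.mpr hθmem)
  exact Complex.normSq_eq_zero.mp h6

end Cfsg.Agent.S1503
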