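import Mathlib
import Cfsg.Statements.S1504
-- import your own Cfsg.Agent.* helpers here

set_option autoImplicit false
open Cfsg

namespace Cfsg.Agent.S1504

theorem sum_hom_eq_zero {W : Type*} [Group W] [Fintype W] (θ : W →* ℂˣ) (h : θ ≠ 1) :
    ∑ w, ((θ w : ℂˣ) : ℂ) = 0 := by
  obtain ⟨w₀, hw₀⟩ : ∃ w₀, θ w₀ ≠ 1 := by
    by_contra hc
    push Not at hc
    exact h (MonoidHom.ext hc)
  have h1 : ∑ w, ((θ w : ℂˣ) : ℂ) = ∑ w, ((θ (w₀ * w) : ℂˣ) : ℂ) :=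
    (Fintype.sum_equiv (Equiv.mulLeft w₀) _ _ (fun _ => rfl)).symm
  have h2 : ∑ w, ((θ (w₀ * w) : ℂˣ) : ℂ) = ((θ w₀ : ℂˣ) : ℂ) * ∑ w, ((θ w : ℂˣ) : ℂ) := by
    rw [Finset.mul_sum]
    apply Finset.sum_congr rfl
    intro w _
    rw [map_mul, Units.val_mul]
  have h3 : (((θ w₀ : ℂˣ) : ℂ) - 1) * ∑ w, ((θ w : ℂˣ) : ℂ) = 0 := by
    rw [sub_mul, one_mul, ← h2, ← h1, sub_self]
  rcases mul_eq_zero.mp h3 with h4 | h4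
  · exfalso
    apply hw₀
    apply Units.ext
    rw [Units.val_one]
    exact sub_eq_zero.mp h4
  · exact h4

theorem sum_hom_mul_inv {W : Type*} [Group W] [Fintype W] (χ χ₀ : W →* ℂˣ) :
    ∑ w, ((χ w : ℂˣ) : ℂ) * (((χ₀ w)⁻¹ : ℂˣ) : ℂ) = if χ = χ₀ then (Fintype.card W : ℂ) else 0 := by
  have e : ∀ w, ((χ w : ℂˣ) : ℂ) * (((χ₀ w)⁻¹ : ℂˣ) : ℂ) = (((χ * χ₀⁻¹) w : ℂˣ) : ℂ) := by
    intro w
    rw [MonoidHom.mul_apply, MonoidHom.inv_apply, Units.val_mul]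
  simp_rw [e]
  split_ifs with h
  · subst h
    have h1 : ∀ x : W, (((χ * χ⁻¹) x : ℂˣ) : ℂ) = 1 := by
      intro x
      rw [MonoidHom.mul_apply, MonoidHom.inv_apply, mul_inv_cancel, Units.val_one]
    simp_rw [h1]
    simp
  · apply sum_hom_eq_zero
    intro h1
    apply h
    exact mul_inv_eq_one.mp h1

theorem hom_eq_one_of_sup {G : Type*} [Group G] (W₁ W₂ : Subgroup G) (χ : ↥(W₁ ⊔ W₂) →* ℂˣ)
    (h1 : ∀ w : ↥(W₁ ⊔ W₂), (w : G) ∈ W₁ → χ w = 1) (h2 : ∀ w : ↥(W₁ ⊔ W₂), (w : G) ∈ W₂ → χ w = 1) :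
    χ = 1 := by
  have hle : W₁ ⊔ W₂ ≤ (χ.ker).map (W₁ ⊔ W₂).subtype := by
    apply sup_le
    · intro a ha
      exact ⟨⟨a, (le_sup_left : W₁ ≤ W₁ ⊔ W₂) ha⟩, h1 _ ha, rfl⟩
    · intro a ha
      exact ⟨⟨a, (le_sup_right : W₂ ≤ W₁ ⊔ W₂) ha⟩, h2 _ ha, rfl⟩
  ext1 w
  obtain ⟨w', hw', hww⟩ := hle w.2
  have : w' = w := Subtype.ext hww
  rw [← this]
  exact hw'

/-- Let W₁, W₂ be subgroups of a finite group with W₁ ⊓ W₂ = ⊥ whose elements commute, and W = W₁ ⊔ W₂. For linear characters φ, ψ of W with φ trivial on W₂ and ψ trivial on W₁, the function (1 − φ)(1 − ψ) vanishes on W₁ ∪ W₂; and the family of these functions, indexed by pairs (φ, ψ) with φ ≠ 1 ≠ ψ, is linearly independent over ℂ. -/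
theorem result {G : Type*} [Group G] [Finite G] (W₁ W₂ : Subgroup G) (hdisj : W₁ ⊓ W₂ = ⊥) (hcomm : ∀ a ∈ W₁, ∀ b ∈ W₂, a * b = b * a) : (∀ φ ψ : ↥(W₁ ⊔ W₂) →* ℂˣ, (∀ w : ↥(W₁ ⊔ W₂), (w : G) ∈ W₂ → φ w = 1) → (∀ w : ↥(W₁ ⊔ W₂), (w : G) ∈ W₁ → ψ w = 1) → ∀ w : ↥(W₁ ⊔ W₂), ((w : G) ∈ W₁ ∨ (w : G) ∈ W₂) → (1 - (φ w : ℂ) - (ψ w : ℂ) + (φ w : ℂ) * (ψ w : ℂ)) = 0) ∧ LinearIndependent ℂ (fun p : {p : (↥(W₁ ⊔ W₂) →* ℂˣ) × (↥(W₁ ⊔ W₂) →* ℂˣ) // p.1 ≠ 1 ∧ p.2 ≠ 1 ∧ (∀ w : ↥(W₁ ⊔ W₂), (w : G) ∈ W₂ → p.1 w = 1) ∧ (∀ w : ↥(W₁ ⊔ W₂), (w : G) ∈ W₁ → p.2 w = 1)} => fun w : ↥(W₁ ⊔ W₂) => 1 - (p.1.1 w : ℂ) - (p.1.2 w : ℂ) + (p.1.1 w : ℂ) * (p.1.2 w : ℂ)) := by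
  classical
  haveI : Fintype ↥(W₁ ⊔ W₂) := Fintype.ofFinite _
  constructor
  · intro φ ψ hφ hψ w hw
    rcases hw with hw | hw
    · rw [hψ w hw, Units.val_one]; ring
    · rw [hφ w hw, Units.val_one]; ring
  · rw [linearIndependent_iff']
    intro s c hsum i₀ hi₀
    obtain ⟨⟨φ₀, ψ₀⟩, hφ₀, hψ₀, hφ₀2, hψ₀1⟩ := i₀
    -- key facts
    have hkey : ∀ i : {p : (↥(W₁ ⊔ W₂) →* ℂˣ) × (↥(W₁ ⊔ W₂) →* ℂˣ) // p.1 ≠ 1 ∧ p.2 ≠ 1 ∧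
        (∀ w : ↥(W₁ ⊔ W₂), (w : G) ∈ W₂ → p.1 w = 1) ∧ (∀ w : ↥(W₁ ⊔ W₂), (w : G) ∈ W₁ → p.2 w = 1)},
        (1 : ↥(W₁ ⊔ W₂) →* ℂˣ) ≠ φ₀ * ψ₀ ∧ i.1.1 ≠ φ₀ * ψ₀ ∧ i.1.2 ≠ φ₀ * ψ₀ ∧
          (i.1.1 * i.1.2 = φ₀ * ψ₀ → i.1.1 = φ₀ ∧ i.1.2 = ψ₀) := by
      rintro ⟨⟨φ, ψ⟩, hφ, hψ, hφ2, hψ1⟩
      refine ⟨?_, ?_, ?_, ?_⟩
      · intro h
        apply hφ₀
        apply hom_eq_one_of_sup W₁ W₂ φ₀ _ hφ₀2
        intro w hw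
        have := congrArg (fun χ : ↥(W₁ ⊔ W₂) →* ℂˣ => χ w) h
        simp only [MonoidHom.one_apply, MonoidHom.mul_apply, hψ₀1 w hw, mul_one] at this
        exact this.symm
      · intro h
        apply hψ₀
        apply hom_eq_one_of_sup W₁ W₂ ψ₀ hψ₀1
        intro w hw
        have := congrArg (fun χ : ↥(W₁ ⊔ W₂) →* ℂˣ => χ w) h
        simp only [MonoidHom.mul_apply, hφ₀2 w hw, one_mul, hφ2 w hw] at this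
        exact this.symm
      · intro h
        apply hφ₀
        apply hom_eq_one_of_sup W₁ W₂ φ₀ _ hφ₀2
        intro w hw
        have := congrArg (fun χ : ↥(W₁ ⊔ W₂) →* ℂˣ => χ w) h
        simp only [MonoidHom.mul_apply, hψ₀1 w hw, mul_one, hψ1 w hw] at this
        exact this.symm
      · intro h
        constructor
        · have h1 : φ * φ₀⁻¹ = 1 := by
            apply hom_eq_one_of_sup W₁ W₂
            · intro w hw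
              have := congrArg (fun χ : ↥(W₁ ⊔ W₂) →* ℂˣ => χ w) h
              simp only [MonoidHom.mul_apply, hψ₀1 w hw, mul_one, hψ1 w hw] at this
              rw [MonoidHom.mul_apply, MonoidHom.inv_apply, this, mul_inv_cancel]
            · intro w hw
              rw [MonoidHom.mul_apply, MonoidHom.inv_apply, hφ2 w hw, hφ₀2 w hw, inv_one, mul_one]
          exact mul_inv_eq_one.mp h1
        · have h1 : ψ * ψ₀⁻¹ = 1 := by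
            apply hom_eq_one_of_sup W₁ W₂
            · intro w hw
              rw [MonoidHom.mul_apply, MonoidHom.inv_apply, hψ1 w hw, hψ₀1 w hw, inv_one, mul_one]
            · intro w hw
              have := congrArg (fun χ : ↥(W₁ ⊔ W₂) →* ℂˣ => χ w) h
              simp only [MonoidHom.mul_apply, hφ₀2 w hw, one_mul, hφ2 w hw] at this
              rw [MonoidHom.mul_apply, MonoidHom.inv_apply, this, mul_inv_cancel]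
          exact mul_inv_eq_one.mp h1
    -- apply the functional
    have hfun : ∑ w : ↥(W₁ ⊔ W₂), (∑ i ∈ s, c i • (fun w : ↥(W₁ ⊔ W₂) =>
        1 - (i.1.1 w : ℂ) - (i.1.2 w : ℂ) + (i.1.1 w : ℂ) * (i.1.2 w : ℂ))) w *
          ((((φ₀ * ψ₀) w)⁻¹ : ℂˣ) : ℂ) = 0 := by
      rw [hsum]
      simp
    simp only [Finset.sum_apply, Pi.smul_apply, smul_eq_mul, Finset.sum_mul] at hfun
    rw [Finset.sum_comm] at hfun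
    have hinner : ∀ i ∈ s, ∑ w : ↥(W₁ ⊔ W₂), c i * (1 - (i.1.1 w : ℂ) - (i.1.2 w : ℂ) +
        (i.1.1 w : ℂ) * (i.1.2 w : ℂ)) * ((((φ₀ * ψ₀) w)⁻¹ : ℂˣ) : ℂ) =
        if i.1.1 * i.1.2 = φ₀ * ψ₀ then c i * (Fintype.card ↥(W₁ ⊔ W₂) : ℂ) else 0 := by
      intro i _
      obtain ⟨k1, k2, k3, k4⟩ := hkey i
      have e1 := sum_hom_mul_inv (1 : ↥(W₁ ⊔ W₂) →* ℂˣ) (φ₀ * ψ₀)
      have e2 := sum_hom_mul_inv i.1.1 (φ₀ * ψ₀)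
      have e3 := sum_hom_mul_inv i.1.2 (φ₀ * ψ₀)
      have e4 := sum_hom_mul_inv (i.1.1 * i.1.2) (φ₀ * ψ₀)
      rw [if_neg k1] at e1
      rw [if_neg k2] at e2
      rw [if_neg k3] at e3
      have expand : ∀ w : ↥(W₁ ⊔ W₂), c i * (1 - (i.1.1 w : ℂ) - (i.1.2 w : ℂ) +
          (i.1.1 w : ℂ) * (i.1.2 w : ℂ)) * ((((φ₀ * ψ₀) w)⁻¹ : ℂˣ) : ℂ) =
          c i * ((((1 : ↥(W₁ ⊔ W₂) →* ℂˣ) w : ℂˣ) : ℂ) * ((((φ₀ * ψ₀) w)⁻¹ : ℂˣ) : ℂ)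
            - (i.1.1 w : ℂ) * ((((φ₀ * ψ₀) w)⁻¹ : ℂˣ) : ℂ)
            - (i.1.2 w : ℂ) * ((((φ₀ * ψ₀) w)⁻¹ : ℂˣ) : ℂ)
            + (((i.1.1 * i.1.2) w : ℂˣ) : ℂ) * ((((φ₀ * ψ₀) w)⁻¹ : ℂˣ) : ℂ)) := by
        intro w
        rw [MonoidHom.one_apply, Units.val_one, MonoidHom.mul_apply i.1.1 i.1.2, Units.val_mul]
        ring
      simp_rw [expand]
      rw [← Finset.mul_sum, Finset.sum_add_distrib, Finset.sum_sub_distrib, Finset.sum_sub_distrib,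
        e1, e2, e3, e4]
      split_ifs <;> ring
    rw [Finset.sum_congr rfl hinner] at hfun
    rw [Finset.sum_eq_single_of_mem (⟨(φ₀, ψ₀), hφ₀, hψ₀, hφ₀2, hψ₀1⟩ : {p : (↥(W₁ ⊔ W₂) →* ℂˣ) × (↥(W₁ ⊔ W₂) →* ℂˣ) // p.1 ≠ 1 ∧ p.2 ≠ 1 ∧
        (∀ w : ↥(W₁ ⊔ W₂), (w : G) ∈ W₂ → p.1 w = 1) ∧ (∀ w : ↥(W₁ ⊔ W₂), (w : G) ∈ W₁ → p.2 w = 1)}) hi₀] at hfun
    · rw [if_pos rfl] at hfun
      have hcard : (Fintype.card ↥(W₁ ⊔ W₂) : ℂ) ≠ 0 := by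
        have : 0 < Fintype.card ↥(W₁ ⊔ W₂) := Fintype.card_pos
        exact_mod_cast this.ne'
      exact (mul_eq_zero.mp hfun).resolve_right hcard
    · intro i _ hne
      rw [if_neg]
      intro h
      apply hne
      obtain ⟨_, _, _, k4⟩ := hkey i
      obtain ⟨h1, h2⟩ := k4 h
      apply Subtype.ext
      exact Prod.ext h1 h2

end Cfsg.Agent.S1504
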