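import Cfsg.Statements.S1506
import Mathlib
import Cfsg.Agent.Helper6.IndFun
import Cfsg.Agent.Helper6.ClassInner
-- import your own Cfsg.Agent.* helpers here

set_option autoImplicit false
open Cfsg

namespace Cfsg.Agent.S1506

/-- Let W₁, W₂ ≤ G form a self-normalising cyclic subgroup W = W₁ ⊔ W₂ and χ an orthonormal family of irreducible characters of G up to sign, indexed by the linear characters ω of W, with χ_1 = 1, χ_ω = ω on W outside W₁ ∪ W₂, and the induction identity for (1 − φ)(1 − ψ). Let θ be a class function of G vanishing at every element of W outside W₁ ∪ W₂. For linear characters φ, φ' of W trivial on W₂ and ψ, ψ' trivial on W₁, the inner products a(ω) = ⟨θ, χ ω⟩ satisfy a(φψ) + a(φ'ψ') = a(φψ') + a(φ'ψ). -/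
theorem result {G : Type*} [Group G] [Fintype G] (W₁ W₂ : Subgroup G) (hW : Cfsg.IsSelfNormalizingCyclic W₁ W₂) (χ : (↥(W₁ ⊔ W₂) →* ℂˣ) → (G → ℂ)) (hχ : Cfsg.IsCyclicTIFamily W₁ W₂ χ) (θ : G → ℂ) (hθ : Cfsg.IsClassFunction G θ) (hθV : ∀ w : ↥(W₁ ⊔ W₂), (w : G) ∉ W₁ → (w : G) ∉ W₂ → θ w = 0) (φ φ' ψ ψ' : ↥(W₁ ⊔ W₂) →* ℂˣ) (hφ₂ : ∀ w : ↥(W₁ ⊔ W₂), (w : G) ∈ W₂ → φ w = 1 ∧ φ' w = 1) (hψ₁ : ∀ w : ↥(W₁ ⊔ W₂), (w : G) ∈ W₁ → ψ w = 1 ∧ ψ' w = 1) : Cfsg.classInner θ (χ (φ * ψ)) + Cfsg.classInner θ (χ (φ' * ψ')) = Cfsg.classInner θ (χ (φ * ψ')) + Cfsg.classInner θ (χ (φ' * ψ)) := by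
  classical
  haveI : Fintype ↥(W₁ ⊔ W₂) := Fintype.ofFinite _
  -- the basic additivity relation
  have key : ∀ φ ψ : ↥(W₁ ⊔ W₂) →* ℂˣ, (∀ w : ↥(W₁ ⊔ W₂), (w : G) ∈ W₂ → φ w = 1) →
      (∀ w : ↥(W₁ ⊔ W₂), (w : G) ∈ W₁ → ψ w = 1) →
      Cfsg.classInner θ (χ (φ * ψ)) =
        Cfsg.classInner θ (χ φ) + Cfsg.classInner θ (χ ψ) - Cfsg.classInner θ (χ 1) := by
    intro φ ψ hφ hψ
    by_cases hφ1 : φ = 1
    · subst hφ1
      have : (1 : ↥(W₁ ⊔ W₂) →* ℂˣ) * ψ = ψ := by ext w; simp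
      rw [this]; ring
    by_cases hψ1 : ψ = 1
    · subst hψ1
      have : φ * (1 : ↥(W₁ ⊔ W₂) →* ℂˣ) = φ := by ext w; simp
      rw [this]; ring
    have hind := hχ.induced_eq φ ψ hφ1 hψ1 hφ hψ
    set f : ↥(W₁ ⊔ W₂) → ℂ := fun w => 1 - (φ w : ℂ) - (ψ w : ℂ) + (φ w : ℂ) * (ψ w : ℂ) with hf
    have h0 : Cfsg.classInner (Cfsg.indFun (W₁ ⊔ W₂) f) θ = 0 := by
      rw [Cfsg.Agent.Helper6.frobenius_reciprocity (W₁ ⊔ W₂) f θ hθ,
        Cfsg.Agent.Helper6.classInner_def]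
      have : ∀ w : ↥(W₁ ⊔ W₂), f w * (starRingEnd ℂ) (θ w) = 0 := by
        intro w
        by_cases hw1 : (w : G) ∈ W₁
        · have := hψ w hw1
          simp only [hf, this, Units.val_one]
          ring
        by_cases hw2 : (w : G) ∈ W₂
        · have := hφ w hw2
          simp only [hf, this, Units.val_one]
          ring
        rw [hθV w hw1 hw2, map_zero, mul_zero]
      rw [Finset.sum_congr rfl (fun w _ => this w), Finset.sum_const_zero, mul_zero]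
    have h1 : Cfsg.classInner θ (Cfsg.indFun (W₁ ⊔ W₂) f) = 0 := by
      rw [Cfsg.Agent.Helper6.classInner_conj_symm, h0, map_zero]
    rw [hind] at h1
    have h2 : (fun g => 1 - χ φ g - χ ψ g + χ (φ * ψ) g) = χ 1 - χ φ - χ ψ + χ (φ * ψ) := by
      ext g
      simp only [Pi.add_apply, Pi.sub_apply, hχ.map_one]
    rw [h2, Cfsg.Agent.Helper6.classInner_add_right, Cfsg.Agent.Helper6.classInner_sub_right,
      Cfsg.Agent.Helper6.classInner_sub_right] at h1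
    linear_combination h1
  have hφ : ∀ w : ↥(W₁ ⊔ W₂), (w : G) ∈ W₂ → φ w = 1 := fun w hw => (hφ₂ w hw).1
  have hφ' : ∀ w : ↥(W₁ ⊔ W₂), (w : G) ∈ W₂ → φ' w = 1 := fun w hw => (hφ₂ w hw).2
  have hψ : ∀ w : ↥(W₁ ⊔ W₂), (w : G) ∈ W₁ → ψ w = 1 := fun w hw => (hψ₁ w hw).1
  have hψ' : ∀ w : ↥(W₁ ⊔ W₂), (w : G) ∈ W₁ → ψ' w = 1 := fun w hw => (hψ₁ w hw).2
  rw [key φ ψ hφ hψ, key φ' ψ' hφ' hψ', key φ ψ' hφ hψ', key φ' ψ hφ' hψ]
  ring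

end Cfsg.Agent.S1506
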