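import Cfsg.Statements.S1507
import Mathlib
import Cfsg.Agent.Helper6.CycTIA
import Cfsg.Agent.Helper6.CycTIB
import Cfsg.Agent.Helper6.IndFun
import Cfsg.Agent.Helper6.ClassInner
-- import your own Cfsg.Agent.* helpers here

set_option autoImplicit false
open Cfsg

namespace Cfsg.Agent.S1507

open Classical in
/-- Let W₁, W₂ ≤ G form a self-normalising cyclic subgroup W = W₁ ⊔ W₂ of odd order with Nat.card W₁ < Nat.card W₂, and χ an orthonormal family of irreducible characters of G up to sign, indexed by the linear characters ω of W, with χ_1 = 1, χ_ω = ω on W outside W₁ ∪ W₂, and the induction identity for (1 − φ)(1 − ψ). Let θ be a class function of G vanishing on W outside W₁ ∪ W₂, and suppose fewer than 2 · Nat.card W₁ linear characters ω of W have ⟨θ, χ ω⟩ ≠ 0. Then one of: all ⟨θ, χ ω⟩ vanish; or there are ψ₀ and a with ⟨θ, χ ω⟩ = a when ω ψ₀⁻¹ is trivial on W₂ and 0 otherwise; or there are φ₀ and a with ⟨θ, χ ω⟩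 = a when ω φ₀⁻¹ is trivial on W₁ and 0 otherwise. -/
theorem result {G : Type*} [Group G] [Fintype G] (W₁ W₂ : Subgroup G) (hW : Cfsg.IsSelfNormalizingCyclic W₁ W₂) (hodd : Odd (Nat.card ↥(W₁ ⊔ W₂))) (χ : (↥(W₁ ⊔ W₂) →* ℂˣ) → (G → ℂ)) (hχ : Cfsg.IsCyclicTIFamily W₁ W₂ χ) (hlt : Nat.card W₁ < Nat.card W₂) (θ : G → ℂ) (hθ : Cfsg.IsClassFunction G θ) (hθV : ∀ w : ↥(W₁ ⊔ W₂), (w : G) ∉ W₁ → (w : G) ∉ W₂ → θ w = 0) (hfew : Nat.card {ω : ↥(W₁ ⊔ W₂) →* ℂˣ // Cfsg.classInner θ (χ ω) ≠ 0} < 2 * Nat.card W₁) : (∀ ω, Cfsg.classInner θ (χ ω) = 0) ∨ (∃ (ψ₀ : ↥(W₁ ⊔ W₂) →* ℂˣ) (a : ℂ), ∀ ω, Cfsg.classInner θ (χ ω) = if (∀ w : ↥(W₁ ⊔ W₂), (w : G) ∈ W₂ → (ω * ψ₀⁻¹) w = 1) then a else 0) ∨ (∃ (φ₀ : ↥(W₁ ⊔ W₂) →* ℂˣ) (a : ℂ), ∀ ω, Cfsg.classInner θ (χ ω) = if (∀ w : ↥(W₁ ⊔ W₂), (w : G) ∈ W₁ → (ω * φ₀⁻¹) w = 1) then a else 0) := by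
  classical
  obtain ⟨hW₁ne, hW₂ne, hint, hcomm, hcyc, -⟩ := hW
  haveI : Fintype ↥(W₁ ⊔ W₂) := Fintype.ofFinite _
  -- commutativity of the factors
  haveI := hcyc
  have hWcomm : ∀ x y : ↥(W₁ ⊔ W₂), x * y = y * x := by
    intro x y
    haveI := IsCyclic.isMulCommutative (α := ↥(W₁ ⊔ W₂))
    exact mul_comm' x y
  have hc₁ : ∀ a b : W₁, a * b = b * a := by
    intro a b
    have := hWcomm (Subgroup.inclusion le_sup_left a) (Subgroup.inclusion le_sup_left b)
    apply Subtype.ext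
    exact congrArg (fun z : ↥(W₁ ⊔ W₂) => (z : G)) this
  have hc₂ : ∀ a b : W₂, a * b = b * a := by
    intro a b
    have := hWcomm (Subgroup.inclusion le_sup_right a) (Subgroup.inclusion le_sup_right b)
    apply Subtype.ext
    exact congrArg (fun z : ↥(W₁ ⊔ W₂) => (z : G)) this
  have hcard₁ : Nat.card (W₁ →* ℂˣ) = Nat.card W₁ := Helper6.card_hom_units_of_comm hc₁
  have hcard₂ : Nat.card (W₂ →* ℂˣ) = Nat.card W₂ := Helper6.card_hom_units_of_comm hc₂
  haveI : Finite (W₁ →* ℂˣ) := Nat.finite_of_card_ne_zero (by rw [hcard₁]; exact Nat.card_pos.ne')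
  haveI : Finite (W₂ →* ℂˣ) := Nat.finite_of_card_ne_zero (by rw [hcard₂]; exact Nat.card_pos.ne')
  haveI : Fintype (W₁ →* ℂˣ) := Fintype.ofFinite _
  haveI : Fintype (W₂ →* ℂˣ) := Fintype.ofFinite _
  haveI : Finite (↥(W₁ ⊔ W₂) →* ℂˣ) :=
    Finite.of_equiv _ (Helper6.charProdEquiv W₁ W₂ hcomm hint)
  haveI : Fintype (↥(W₁ ⊔ W₂) →* ℂˣ) := Fintype.ofFinite _
  -- parity
  have hodd₁ : Odd (Nat.card W₁) :=
    Odd.of_dvd_nat hodd (Subgroup.card_dvd_of_le (le_sup_left : W₁ ≤ W₁ ⊔ W₂))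
  have hodd₂ : Odd (Nat.card W₂) :=
    Odd.of_dvd_nat hodd (Subgroup.card_dvd_of_le (le_sup_right : W₂ ≤ W₁ ⊔ W₂))
  have hIJ : Nat.card W₁ + 2 ≤ Nat.card W₂ := by
    obtain ⟨k₁, hk₁⟩ := hodd₁
    obtain ⟨k₂, hk₂⟩ := hodd₂
    omega
  set L := Helper6.liftLeft W₁ W₂ hcomm hint with hL
  set Rr := Helper6.liftRight W₁ W₂ hcomm hint with hRr
  set a : (↥(W₁ ⊔ W₂) →* ℂˣ) → ℂ := fun ω => Cfsg.classInner θ (χ ω) with ha
  -- the additive structure
  have hadd : ∀ (lam : W₁ →* ℂˣ) (mu : W₂ →* ℂˣ), a (L lam * Rr mu) = a (L lam) + a (Rr mu) - a 1 := by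
    intro lam mu
    by_cases h1 : L lam = 1
    · have : L lam * Rr mu = Rr mu := by
        ext w
        rw [MonoidHom.mul_apply, h1, MonoidHom.one_apply, one_mul]
      rw [this, h1]
      ring
    by_cases h2 : Rr mu = 1
    · have : L lam * Rr mu = L lam := by
        ext w
        rw [MonoidHom.mul_apply, h2, MonoidHom.one_apply, mul_one]
      rw [this, h2]
      ring
    have hind := hχ.induced_eq (L lam) (Rr mu) h1 h2
      (fun w hw => Helper6.liftLeft_of_mem_right W₁ W₂ hcomm hint lam w hw)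
      (fun w hw => Helper6.liftRight_of_mem_left W₁ W₂ hcomm hint mu w hw)
    have hzero : Cfsg.classInner (Cfsg.indFun (W₁ ⊔ W₂)
        (fun w => 1 - ((L lam) w : ℂ) - ((Rr mu) w : ℂ) + ((L lam) w : ℂ) * ((Rr mu) w : ℂ))) θ = 0 := by
      rw [Helper6.frobenius_reciprocity (W₁ ⊔ W₂) _ θ hθ, Helper6.classInner_def]
      have : ∀ w : ↥(W₁ ⊔ W₂), (1 - ((L lam) w : ℂ) - ((Rr mu) w : ℂ) +
          ((L lam) w : ℂ) * ((Rr mu) w : ℂ)) * (starRingEnd ℂ) (θ w) = 0 := by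
        intro w
        by_cases hw1 : (w : G) ∈ W₁
        · rw [Helper6.liftRight_of_mem_left W₁ W₂ hcomm hint mu w hw1]
          simp
        by_cases hw2 : (w : G) ∈ W₂
        · rw [Helper6.liftLeft_of_mem_right W₁ W₂ hcomm hint lam w hw2]
          simp
        rw [hθV w hw1 hw2, map_zero, mul_zero]
      rw [Finset.sum_congr rfl (fun w _ => this w), Finset.sum_const_zero, mul_zero]
    rw [hind] at hzero
    have hfun : (fun g => 1 - χ (L lam) g - χ (Rr mu) g + χ (L lam * Rr mu) g) =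
        χ 1 - χ (L lam) - χ (Rr mu) + χ (L lam * Rr mu) := by
      funext g
      rw [hχ.map_one]
      rfl
    rw [hfun, Helper6.classInner_add_left, Helper6.classInner_sub_left,
      Helper6.classInner_sub_left] at hzero
    have hsym : ∀ ω, Cfsg.classInner (χ ω) θ = (starRingEnd ℂ) (a ω) := fun ω =>
      Helper6.classInner_conj_symm θ (χ ω)
    rw [hsym, hsym, hsym, hsym, ← map_sub, ← map_sub, ← map_add] at hzero
    have h3 := (map_eq_zero (starRingEnd ℂ)).mp hzero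
    linear_combination h3
  -- the array
  set r : (W₁ →* ℂˣ) → ℂ := fun lam => a (L lam) - a 1 with hr
  set c : (W₂ →* ℂˣ) → ℂ := fun mu => a (Rr mu) with hc
  have hentry : ∀ lam mu, r lam + c mu = a (L lam * Rr mu) := by
    intro lam mu
    rw [hadd lam mu]
    ring
  have hfew' : (∑ lam : W₁ →* ℂˣ, ∑ mu : W₂ →* ℂˣ, if r lam + c mu ≠ 0 then 1 else 0) <
      2 * Fintype.card (W₁ →* ℂˣ) := by
    rw [← Nat.card_eq_fintype_card, hcard₁]
    refine lt_of_eq_of_lt ?_ hfew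
    rw [← Finset.sum_product', ← Finset.card_filter, Finset.univ_product_univ,
      Nat.card_eq_fintype_card, Fintype.card_subtype]
    apply Finset.card_bij (fun x _ => Helper6.charProdEquiv W₁ W₂ hcomm hint x)
    · intro x hx
      rw [Finset.mem_filter] at hx ⊢
      refine ⟨Finset.mem_univ _, ?_⟩
      have := hx.2
      rw [hentry] at this
      exact this
    · intro x _ y _ hxy
      exact (Helper6.charProdEquiv W₁ W₂ hcomm hint).injective hxy
    · intro ω hω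
      rw [Finset.mem_filter] at hω
      refine ⟨(Helper6.charProdEquiv W₁ W₂ hcomm hint).symm ω, ?_, Equiv.apply_symm_apply _ ω⟩
      rw [Finset.mem_filter]
      refine ⟨Finset.mem_univ _, ?_⟩
      rw [hentry]
      have h4 : L ((Helper6.charProdEquiv W₁ W₂ hcomm hint).symm ω).1 *
          Rr ((Helper6.charProdEquiv W₁ W₂ hcomm hint).symm ω).2 = ω :=
        Equiv.apply_symm_apply (Helper6.charProdEquiv W₁ W₂ hcomm hint) ω
      rw [h4]
      exact hω.2
  have hIJ' : Fintype.card (W₁ →* ℂˣ) + 2 ≤ Fintype.card (W₂ →* ℂˣ) := by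
    rw [← Nat.card_eq_fintype_card, ← Nat.card_eq_fintype_card, hcard₁, hcard₂]
    exact hIJ
  have hdecomp : ∀ ω : ↥(W₁ ⊔ W₂) →* ℂˣ,
      ω = L (Helper6.resLeft W₁ W₂ ω) * Rr (Helper6.resRight W₁ W₂ ω) := fun ω =>
    (Helper6.lift_res W₁ W₂ hcomm hint ω).symm
  rcases Helper6.additive_array_few_nonzero r c hIJ' hfew' with h0 | ⟨mu₀, v, hv⟩ | ⟨lam₀, v, hv⟩
  · left
    intro ω
    have := h0 (Helper6.resLeft W₁ W₂ ω) (Helper6.resRight W₁ W₂ ω)
    rw [hentry, ← hdecomp ω] at this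
    exact this
  · right
    left
    refine ⟨Rr mu₀, v, ?_⟩
    intro ω
    have h5 := hv (Helper6.resLeft W₁ W₂ ω) (Helper6.resRight W₁ W₂ ω)
    rw [hentry, ← hdecomp ω] at h5
    show a ω = _
    rw [h5]
    have hiff : (Helper6.resRight W₁ W₂ ω = mu₀) ↔
        (∀ w : ↥(W₁ ⊔ W₂), (w : G) ∈ W₂ → (ω * (Rr mu₀)⁻¹) w = 1) := by
      constructor
      · intro h w hw
        rw [MonoidHom.mul_apply, MonoidHom.inv_apply,
          Helper6.liftRight_of_mem_right W₁ W₂ hcomm hint mu₀ w hw, ← h]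
        exact mul_inv_cancel _
      · intro h
        ext b
        have h6 := h (Subgroup.inclusion le_sup_right b) b.2
        rw [MonoidHom.mul_apply, MonoidHom.inv_apply,
          Helper6.liftRight_of_mem_right W₁ W₂ hcomm hint mu₀ _ b.2, mul_inv_eq_one] at h6
        have h7 : Helper6.resRight W₁ W₂ ω b = mu₀ b := h6
        rw [h7]
    by_cases hcase : Helper6.resRight W₁ W₂ ω = mu₀
    · rw [if_pos hcase, if_pos (hiff.mp hcase)]
    · rw [if_neg hcase, if_neg (fun h => hcase (hiff.mpr h))]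
  · right
    right
    refine ⟨L lam₀, v, ?_⟩
    intro ω
    have h5 := hv (Helper6.resLeft W₁ W₂ ω) (Helper6.resRight W₁ W₂ ω)
    rw [hentry, ← hdecomp ω] at h5
    show a ω = _
    rw [h5]
    have hiff : (Helper6.resLeft W₁ W₂ ω = lam₀) ↔
        (∀ w : ↥(W₁ ⊔ W₂), (w : G) ∈ W₁ → (ω * (L lam₀)⁻¹) w = 1) := by
      constructor
      · intro h w hw
        rw [MonoidHom.mul_apply, MonoidHom.inv_apply,
          Helper6.liftLeft_of_mem_left W₁ W₂ hcomm hint lam₀ w hw, ← h]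
        exact mul_inv_cancel _
      · intro h
        ext b
        have h6 := h (Subgroup.inclusion le_sup_left b) b.2
        rw [MonoidHom.mul_apply, MonoidHom.inv_apply,
          Helper6.liftLeft_of_mem_left W₁ W₂ hcomm hint lam₀ _ b.2, mul_inv_eq_one] at h6
        have h7 : Helper6.resLeft W₁ W₂ ω b = lam₀ b := h6
        rw [h7]
    by_cases hcase : Helper6.resLeft W₁ W₂ ω = lam₀
    · rw [if_pos hcase, if_pos (hiff.mp hcase)]
    · rw [if_neg hcase, if_neg (fun h => hcase (hiff.mpr h))]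

end Cfsg.Agent.S1507
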