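import Mathlib
import Cfsg.Statements.S1510
-- import your own Cfsg.Agent.* helpers here

set_option autoImplicit false
open Cfsg

namespace Cfsg.Agent.S1510

/-- Let L be a finite group with a normal subgroup K and a nontrivial cyclic subgroup W₁ of order coprime to its index, K ⊓ W₁ = ⊥ and K ⊔ W₁ = ⊤; let W₂ ≠ ⊥ be a cyclic subgroup of K with K ⊓ C_L(x) = W₂ for every non-identity x ∈ W₁, and suppose W₁ ⊔ W₂ has odd order. Then (W₁, W₂) is a self-normalising cyclic pair in L. -/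
theorem result {L : Type*} [Group L] [Fintype L] (K W₁ W₂ : Subgroup L) [hK : K.Normal] (hKW₁ : K ⊓ W₁ = ⊥) (hKW₁' : K ⊔ W₁ = ⊤) (hW₁ : W₁ ≠ ⊥) (hW₁c : IsCyclic W₁) (hHall : Nat.Coprime (Nat.card W₁) W₁.index) (hW₂ : W₂ ≠ ⊥) (hW₂c : IsCyclic W₂) (hW₂K : W₂ ≤ K) (hC : ∀ x ∈ W₁, x ≠ 1 → K ⊓ Subgroup.centralizer ({x} : Set L) = W₂) (hodd : Odd (Nat.card ↥(W₁ ⊔ W₂))) : Cfsg.IsSelfNormalizingCyclic W₁ W₂ := by
  classical
  -- basic facts
  have hdisj : W₁ ⊓ W₂ = ⊥ := by
    apply le_bot_iff.mp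
    rw [← hKW₁]
    exact le_inf (inf_le_right.trans hW₂K) inf_le_left
  -- commutation
  have hcomm : ∀ a ∈ W₁, ∀ b ∈ W₂, a * b = b * a := by
    intro a ha b hb
    by_cases ha1 : a = 1
    · rw [ha1, one_mul, mul_one]
    · have hb' : b ∈ K ⊓ Subgroup.centralizer ({a} : Set L) := by rw [hC a ha ha1]; exact hb
      have := (Subgroup.mem_inf.mp hb').2
      rw [Subgroup.mem_centralizer_singleton_iff] at this
      exact this.symm
  -- W₁ commutative
  have hW₁comm : ∀ a ∈ W₁, ∀ a' ∈ W₁, a * a' = a' * a := by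
    intro a ha a' ha'
    haveI := hW₁c
    have := (IsCyclic.commGroup (α := W₁)).mul_comm ⟨a, ha⟩ ⟨a', ha'⟩
    exact congrArg Subtype.val this
  have hW₂comm : ∀ b ∈ W₂, ∀ b' ∈ W₂, b * b' = b' * b := by
    intro b hb b' hb'
    haveI := hW₂c
    have := (IsCyclic.commGroup (α := W₂)).mul_comm ⟨b, hb⟩ ⟨b', hb'⟩
    exact congrArg Subtype.val this
  -- orders coprime
  have hcompl : K.IsComplement' W₁ := by
    apply Subgroup.isComplement'_of_disjoint_and_mul_eq_univ (disjoint_iff.mpr hKW₁)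
    rw [← Subgroup.normal_mul, hKW₁', Subgroup.coe_top]
  have hidx : W₁.index = Nat.card K := hcompl.index_eq_card
  have hcop : (Nat.card W₁).Coprime (Nat.card W₂) := by
    rw [hidx] at hHall
    exact Nat.Coprime.coprime_dvd_right (Subgroup.card_dvd_of_le hW₂K) hHall
  -- the product hom
  have hc : ∀ (m : W₁) (n : W₂), Commute (W₁.subtype m) (W₂.subtype n) :=
    fun m n => hcomm m.1 m.2 n.1 n.2
  obtain ⟨φ, hφ⟩ : ∃ φ : W₁ × W₂ →* L, φ = W₁.subtype.noncommCoprod W₂.subtype hc := ⟨_, rfl⟩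
  have hrange : φ.range = W₁ ⊔ W₂ := by
    rw [hφ, MonoidHom.noncommCoprod_range, Subgroup.range_subtype, Subgroup.range_subtype]
  have hdecomp : ∀ x ∈ W₁ ⊔ W₂, ∃ a ∈ W₁, ∃ b ∈ W₂, x = a * b := by
    intro x hx
    rw [← hrange] at hx
    obtain ⟨⟨a, b⟩, rfl⟩ := hx
    refine ⟨a.1, a.2, b.1, b.2, ?_⟩
    rw [hφ, MonoidHom.noncommCoprod_apply]
    rfl
  have hcyc : IsCyclic ↥(W₁ ⊔ W₂) := by
    haveI : IsCyclic (W₁ × W₂) := Group.isCyclic_prod_iff.mpr ⟨hW₁c, hW₂c, hcop⟩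
    have h1 : IsCyclic φ.range := isCyclic_of_surjective φ.rangeRestrict φ.rangeRestrict_surjective
    rw [hrange] at h1
    exact h1
  refine ⟨hW₁, hW₂, hdisj, hcomm, hcyc, ?_⟩
  intro X hX hXne
  -- W commutative
  have hWcomm : ∀ x ∈ W₁ ⊔ W₂, ∀ y ∈ W₁ ⊔ W₂, x * y = y * x := by
    intro x hx y hy
    haveI := hcyc
    have := (IsCyclic.commGroup (α := ↥(W₁ ⊔ W₂))).mul_comm ⟨x, hx⟩ ⟨y, hy⟩
    exact congrArg Subtype.val this
  apply le_antisymm
  · -- the normalizer is inside W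
    intro g hg
    rw [Subgroup.mem_set_normalizer_iff] at hg
    obtain ⟨x, hxX⟩ := hXne
    have hxW := (hX hxX).1
    have hxn := (hX hxX).2
    obtain ⟨a, ha, b, hb, rfl⟩ := hdecomp x hxW
    have ha1 : a ≠ 1 := by
      rintro rfl
      apply hxn
      right
      rw [one_mul]
      exact hb
    have hx' := (hg (a * b)).mp hxX
    obtain ⟨a', ha', b', hb', hx'eq⟩ := hdecomp _ (hX hx').1
    -- the CRT exponent
    obtain ⟨i, hi1, hi2⟩ := Nat.chineseRemainder hcop 1 0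
    have hpowa : ∀ c ∈ W₁, c ^ i = c := by
      intro c hc
      have h1 : orderOf c ∣ Nat.card W₁ := by
        have := orderOf_dvd_natCard (⟨c, hc⟩ : W₁)
        rwa [← Subgroup.orderOf_coe] at this
      have h2 : i ≡ 1 [MOD orderOf c] := hi1.of_dvd h1
      have := pow_eq_pow_iff_modEq.mpr h2
      rw [this, pow_one]
    have hpowb : ∀ c ∈ W₂, c ^ i = 1 := by
      intro c hc
      have h1 : orderOf c ∣ Nat.card W₂ := by
        have := orderOf_dvd_natCard (⟨c, hc⟩ : W₂)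
        rwa [← Subgroup.orderOf_coe] at this
      have h2 : i ≡ 0 [MOD orderOf c] := hi2.of_dvd h1
      have := pow_eq_pow_iff_modEq.mpr h2
      rw [this, pow_zero]
    have hxi : (a * b) ^ i = a := by
      rw [(show Commute a b from hcomm a ha b hb).mul_pow, hpowa a ha, hpowb b hb, mul_one]
    have hx'i : (a' * b') ^ i = a' := by
      rw [(show Commute a' b' from hcomm a' ha' b' hb').mul_pow, hpowa a' ha', hpowb b' hb', mul_one]
    have hgag : g * a * g⁻¹ = a' := by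
      rw [← hxi, ← hx'i, ← hx'eq, conj_pow]
    -- decompose g
    have hgtop : g ∈ K ⊔ W₁ := by rw [hKW₁']; trivial
    obtain ⟨k, hk, w, hw, rfl⟩ := Subgroup.mem_sup_of_normal_left.mp hgtop
    have hkak : k * a * k⁻¹ = a' := by
      have : k * w * a * (k * w)⁻¹ = k * (w * a * w⁻¹) * k⁻¹ := by group
      rw [this, hW₁comm w hw a ha, mul_inv_cancel_right] at hgag
      exact hgag
    have h1 : a' * a⁻¹ ∈ K ⊓ W₁ := by
      refine Subgroup.mem_inf.mpr ⟨?_, W₁.mul_mem ha' (W₁.inv_mem ha)⟩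
      rw [← hkak]
      have : k * a * k⁻¹ * a⁻¹ = k * (a * k⁻¹ * a⁻¹) := by group
      rw [this]
      exact K.mul_mem hk (hK.conj_mem _ (K.inv_mem hk) a)
    rw [hKW₁, Subgroup.mem_bot] at h1
    have ha'a : a' = a := mul_inv_eq_one.mp h1
    have hkW₂ : k ∈ W₂ := by
      rw [← hC a ha ha1]
      refine Subgroup.mem_inf.mpr ⟨hk, ?_⟩
      rw [Subgroup.mem_centralizer_singleton_iff]
      rw [ha'a] at hkak
      calc k * a = (k * a * k⁻¹) * k := by group
        _ = a * k := by rw [hkak]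
    exact Subgroup.mul_mem_sup hkW₂ hw |> fun h => by rwa [sup_comm] at h
  · -- W normalizes X
    intro w hw
    rw [Subgroup.mem_set_normalizer_iff]
    intro h
    constructor
    · intro hh
      have : w * h * w⁻¹ = h := by
        rw [hWcomm w hw h (hX hh).1, mul_inv_cancel_right]
      rw [this]
      exact hh
    · intro hh
      have hmem := (hX hh).1
      have hhW : h ∈ W₁ ⊔ W₂ := by
        have : h = w⁻¹ * (w * h * w⁻¹) * w := by group
        rw [this]
        exact (W₁ ⊔ W₂).mul_mem ((W₁ ⊔ W₂).mul_mem ((W₁ ⊔ W₂).inv_mem hw) hmem) hw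
      have : w * h * w⁻¹ = h := by
        rw [hWcomm w hw h hhW, mul_inv_cancel_right]
      rw [this] at hh
      exact hh

end Cfsg.Agent.S1510
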