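import Cfsg.Statements.S1512
import Mathlib
import Cfsg.Agent.Helper6.CoprimeConj
-- import your own Cfsg.Agent.* helpers here

set_option autoImplicit false
open Cfsg

namespace Cfsg.Agent.S1512

/-- Let K be a normal subgroup of the finite group L and x a non-identity element whose order is coprime to the order of K, such that K ⊓ C_L(y) = W₂ for every non-identity element y of the cyclic group generated by x. Then the number of conjugacy classes of K mapped to themselves by conjugation by x is at most Nat.card W₂. -/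
theorem result {L : Type*} [Group L] [Finite L] (K W₂ : Subgroup L) [hK : K.Normal] (x : L) (hx1 : x ≠ 1) (hx : Nat.Coprime (orderOf x) (Nat.card K)) (hC : ∀ y ∈ Subgroup.zpowers x, y ≠ 1 → K ⊓ Subgroup.centralizer ({y} : Set L) = W₂) : Nat.card {C : ConjClasses K // ConjClasses.map (MulEquiv.toMonoidHom ((MulAut.conjNormal x : MulAut K))) C = C} ≤ Nat.card W₂ := by
  classical
  have hxN : x ∈ Subgroup.normalizer (K : Set L) := by
    rw [Subgroup.mem_normalizer_iff]
    intro z
    constructor
    · intro hz; exact hK.conj_mem z hz x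
    · intro hz
      have := hK.conj_mem _ hz x⁻¹
      simpa [mul_assoc] using this
  have hW : K ⊓ Subgroup.centralizer ({x} : Set L) = W₂ := hC x (Subgroup.mem_zpowers x) hx1
  have hb : 1 < orderOf x := by
    rcases Nat.lt_or_ge 1 (orderOf x) with h | h
    · exact h
    · exfalso
      have hpos := orderOf_pos x
      have : orderOf x = 1 := by omega
      exact hx1 (orderOf_eq_one_iff.mp this)
  have key : ∀ C : {C : ConjClasses K // ConjClasses.map (MulEquiv.toMonoidHom
      ((MulAut.conjNormal x : MulAut K))) C = C}, ∃ w : W₂, ∃ k : K, (k : L) = w ∧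
      ConjClasses.mk k = C.1 := by
    rintro ⟨C, hCfix⟩
    obtain ⟨k, rfl⟩ := ConjClasses.mk_surjective C
    have h1 : IsConj ((MulAut.conjNormal x : MulAut K) k) k := by
      have hCfix' : ConjClasses.mk ((MulAut.conjNormal x : MulAut K) k) = ConjClasses.mk k :=
        hCfix
      exact ConjClasses.mk_eq_mk_iff_isConj.mp hCfix'
    obtain ⟨y, hy⟩ := isConj_iff.mp h1
    have hy' : (y : L) * (x * k * x⁻¹) * (y : L)⁻¹ = k := by
      have := congrArg (fun t : K => (t : L)) hy
      simp only [Subgroup.coe_mul, Subgroup.coe_inv, MulAut.conjNormal_apply] at this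
      exact this
    obtain ⟨z, hz, c, hc, hcx, hzc⟩ :=
      Cfsg.Agent.Helper6.exists_conj_commute_of_coprime (orderOf x) K x rfl hxN hx (y : L) y.2
    have hyx : (y : L) * x * (k : L) = (k : L) * ((y : L) * x) := by
      calc (y : L) * x * (k : L) = ((y : L) * (x * k * x⁻¹) * (y : L)⁻¹) * ((y : L) * x) := by
            group
        _ = (k : L) * ((y : L) * x) := by rw [hy']
    have hcxk : (c * x) * (z * k * z⁻¹) = (z * k * z⁻¹) * (c * x) := by
      calc (c * x) * (z * k * z⁻¹) = (z * ((y : L) * x) * z⁻¹) * (z * k * z⁻¹) := by rw [hzc]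
        _ = z * ((y : L) * x * (k : L)) * z⁻¹ := by group
        _ = z * ((k : L) * ((y : L) * x)) * z⁻¹ := by rw [hyx]
        _ = (z * k * z⁻¹) * (z * ((y : L) * x) * z⁻¹) := by group
        _ = (z * k * z⁻¹) * (c * x) := by rw [hzc]
    -- x is a power of c * x
    have hcop : Nat.Coprime (orderOf c) (orderOf x) := by
      have : orderOf c ∣ Nat.card K := by
        have := orderOf_dvd_natCard (⟨c, hc⟩ : K)
        rwa [Subgroup.orderOf_mk] at this
      exact (Nat.Coprime.coprime_dvd_right this hx).symm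
    obtain ⟨m, -, hm⟩ := Nat.exists_mul_mod_eq_one_of_coprime hcop hb
    have hpow : (c * x) ^ (orderOf c * m) = x := by
      have hcomm : Commute c x := hcx
      rw [hcomm.mul_pow, pow_mul, pow_orderOf_eq_one, one_pow, one_mul, ← pow_mod_orderOf, hm,
        pow_one]
    have hxk : x * (z * k * z⁻¹) = (z * k * z⁻¹) * x := by
      have : Commute (c * x) (z * k * z⁻¹) := hcxk
      have h2 := this.pow_left (orderOf c * m)
      rw [hpow] at h2
      exact h2.eq
    have hk'K : z * k * z⁻¹ ∈ K := K.mul_mem (K.mul_mem hz k.2) (K.inv_mem hz)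
    have hk'W : z * k * z⁻¹ ∈ W₂ := by
      rw [← hW, Subgroup.mem_inf, Subgroup.mem_centralizer_iff]
      refine ⟨hk'K, ?_⟩
      intro w hw
      rw [Set.mem_singleton_iff.mp hw]
      exact hxk
    refine ⟨⟨_, hk'W⟩, ⟨_, hk'K⟩, rfl, ?_⟩
    show ConjClasses.mk (⟨z * k * z⁻¹, hk'K⟩ : K) = ConjClasses.mk k
    rw [ConjClasses.mk_eq_mk_iff_isConj]
    exact (isConj_iff.mpr ⟨⟨z, hz⟩, by apply Subtype.ext; simp⟩).symm
  choose f hf using key
  apply Nat.card_le_card_of_injective f
  intro C C' hCC'
  obtain ⟨k, hk1, hk2⟩ := hf C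
  obtain ⟨k', hk1', hk2'⟩ := hf C'
  apply Subtype.ext
  rw [← hk2, ← hk2']
  congr 1
  apply Subtype.ext
  rw [hk1, hk1', hCC']

end Cfsg.Agent.S1512
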