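import Cfsg.Statements.S1513
import Mathlib
import Cfsg.Agent.Helper6.FTSemiA
import Cfsg.Agent.Helper6.FTSemiB
import Cfsg.Agent.Helper6.IrrCrit
import Cfsg.Agent.Helper6.CliffordOrbit
-- import your own Cfsg.Agent.* helpers here

set_option autoImplicit false
open Cfsg

namespace Cfsg.Agent.S1513

/-- Let L be a finite group with K normal with complement W₁ ≠ 1 a cyclic Hall subgroup, and W₂ ≠ 1 a cyclic subgroup of K equal to C_K(x) for every non-identity x ∈ W₁, with W₁W₂ of odd order. For an irreducible character θ of K: if θ is not fixed under conjugation by some element of W₁, then the function induced from θ to L is an irreducible character of L; and the irreducible characters of K fixed by all of W₁ are exactly Nat.card W₂ in number, each inducing to the sum of Nat.card W₁ pairwise distinct irreducible characters of L. -/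
theorem result {L : Type*} [Group L] [Fintype L] (K W₁ W₂ : Subgroup L) [hK : K.Normal] (hKW₁ : K ⊓ W₁ = ⊥) (hKW₁' : K ⊔ W₁ = ⊤) (hW₁ : W₁ ≠ ⊥) (hW₁c : IsCyclic W₁) (hHall : Nat.Coprime (Nat.card W₁) W₁.index) (hW₂ : W₂ ≠ ⊥) (hW₂c : IsCyclic W₂) (hW₂K : W₂ ≤ K) (hC : ∀ x ∈ W₁, x ≠ 1 → K ⊓ Subgroup.centralizer ({x} : Set L) = W₂) (hodd : Odd (Nat.card ↥(W₁ ⊔ W₂))) : (∀ θ : K → ℂ, Cfsg.IsIrrCharacter K θ → (∃ x ∈ W₁, (fun k : K => θ ⟨x * k * x⁻¹, hK.conj_mem (k : L) k.2 x⟩) ≠ θ) → Cfsg.IsIrrCharacter L (Cfsg.indFun K θ)) ∧ Nat.card {θ : Cfsg.IrrCharacter K // ∀ x ∈ W₁, (fun k : K => (θ : K → ℂ) ⟨x * k * x⁻¹, hK.conj_mem (k : L) k.2 x⟩) = θ} = Nat.card W₂ ∧ (∀ θ : K → ℂ, Cfsg.IsIrrCharacter K θ → (∀ x ∈ W₁, (fun k : K => θ ⟨x * k * x⁻¹, hK.conj_mem (k : L) k.2 x⟩) = θ) → ∃ C : Finset (L → ℂ), C.card = Nat.card W₁ ∧ (∀ μ ∈ C, Cfsg.IsIrrCharacter L μ) ∧ Cfsg.indFun K θ = ∑ μ ∈ C, μ) := by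
  classical
  haveI : Fintype K := Fintype.ofFinite K
  have hW₁comm : ∀ a ∈ W₁, ∀ b ∈ W₁, a * b = b * a := by
    intro a ha b hb
    haveI := hW₁c
    haveI := IsCyclic.isMulCommutative (α := W₁)
    have := mul_comm' (⟨a, ha⟩ : W₁) ⟨b, hb⟩
    exact congrArg Subtype.val this
  have hW₂comm : ∀ a ∈ W₂, ∀ b ∈ W₂, a * b = b * a := by
    intro a ha b hb
    haveI := hW₂c
    haveI := IsCyclic.isMulCommutative (α := W₂)
    have := mul_comm' (⟨a, ha⟩ : W₂) ⟨b, hb⟩
    exact congrArg Subtype.val this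
  have hidx : K.index = Nat.card W₁ := Helper6.index_eq_card_of_complement K W₁ hKW₁ hKW₁'
  have hcardK : Nat.card K = W₁.index := by
    have h1 := K.card_mul_index
    have h2 := W₁.card_mul_index
    rw [hidx] at h1
    have hpos : 0 < Nat.card W₁ := Nat.card_pos
    apply Nat.eq_of_mul_eq_mul_right hpos
    rw [h1, mul_comm, h2]
  have hcopKW : (Nat.card K).Coprime (Nat.card W₁) := by
    rw [hcardK]
    exact hHall.symm
  have hdec : ∀ g : L, ∃ k ∈ K, ∃ w ∈ W₁, g = k * w := by
    intro g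
    have hg : g ∈ K ⊔ W₁ := by
      rw [hKW₁']
      trivial
    rw [← SetLike.mem_coe, Subgroup.normal_mul] at hg
    obtain ⟨k, hk, w, hw, rfl⟩ := Set.mem_mul.mp hg
    exact ⟨k, hk, w, hw, rfl⟩
  have hcount : ∀ Y : Subgroup L, Y ≤ W₁ → Y ≠ ⊥ →
      Nat.card {θ : Cfsg.IrrCharacter K // ∀ y ∈ Y, Helper6.conjFun K (θ : K → ℂ) y = θ} =
        Nat.card W₂ := by
    intro Y hY hYne
    apply Helper6.card_conj_invariant_irr_eq K Y W₂
      (fun a ha b hb => hW₁comm a (hY ha) b (hY hb))
      (Nat.Coprime.coprime_dvd_right (Subgroup.card_dvd_of_le hY) hcopKW) hW₂K hW₂comm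
    intro k hk
    constructor
    · intro hkW y hy
      by_cases hy1 : y = 1
      · rw [hy1]
        group
      · have h1 : k ∈ K ⊓ Subgroup.centralizer ({y} : Set L) := by
          rw [hC y (hY hy) hy1]
          exact hkW
        have h2 := Subgroup.mem_centralizer_iff.mp (Subgroup.mem_inf.mp h1).2 y
          (Set.mem_singleton y)
        rw [h2, mul_inv_cancel_right]
    · intro h
      obtain ⟨y, hy1⟩ := (Subgroup.ne_bot_iff_exists_ne_one.mp hYne)
      have hy1' : (y : L) ≠ 1 := by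
        intro h'
        apply hy1
        exact Subtype.ext h'
      rw [← hC y (hY y.2) hy1', Subgroup.mem_inf]
      refine ⟨hk, Subgroup.mem_centralizer_iff.mpr ?_⟩
      intro z hz
      rw [Set.mem_singleton_iff] at hz
      rw [hz]
      have h3 := h y y.2
      calc (y : L) * k = ((y : L) * k * (y : L)⁻¹) * y := by group
        _ = k * y := by rw [h3]
  have hKfix : ∀ θ : K → ℂ, Cfsg.IsIrrCharacter K θ → ∀ k ∈ K, Helper6.conjFun K θ k = θ := by
    intro θ hθ k hk
    exact Helper6.le_conjStab_of_isClassFunction K θ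
      (Helper6.IsCharacter.isClassFunction (Helper6.IsIrrCharacter.isCharacter hθ)) hk
  refine ⟨?_, ?_, ?_⟩
  · intro θ hθ hex
    obtain ⟨x, hx, hxθ⟩ := hex
    apply Helper6.isIrrCharacter_of_classInner_self
      (Helper6.isCharacter_indFun K θ (Helper6.IsIrrCharacter.isCharacter hθ))
    have hmain := Helper6.card_mul_classInner_indFun_normal K θ hθ
    have hstab : ∀ g : L, Helper6.conjFun K θ g = θ ↔ g ∈ K := by
      intro g
      constructor
      · intro hfix
        obtain ⟨k, hk, w, hw, rfl⟩ := hdec g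
        have hwfix : Helper6.conjFun K θ w = θ := by
          rw [← Helper6.conjFun_mul, hKfix θ hθ k hk] at hfix
          exact hfix
        by_cases hw1 : w = 1
        · rw [hw1, mul_one]
          exact hk
        · exfalso
          apply hxθ
          have hY : Subgroup.zpowers w ≤ W₁ := (Subgroup.zpowers_le (g := w)).mpr hw
          have hYne : Subgroup.zpowers w ≠ ⊥ := by
            intro h
            apply hw1
            exact Subgroup.zpowers_eq_bot.mp h
          have hc1 := hcount (Subgroup.zpowers w) hY hYne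
          have hc2 := hcount W₁ le_rfl hW₁
          have hfixY : ∀ y ∈ Subgroup.zpowers w, Helper6.conjFun K θ y = θ := by
            intro y hy
            have hle : Subgroup.zpowers w ≤ Helper6.conjStab K θ :=
              (Subgroup.zpowers_le (g := w)).mpr hwfix
            exact hle hy
          exact Helper6.conj_invariant_of_card_eq K (Subgroup.zpowers w) W₁ hY
            (hc1.trans hc2.symm) ⟨θ, hθ⟩ hfixY x hx
      · intro hg
        exact hKfix θ hθ g hg
    have hcard : Nat.card {g : L // Helper6.conjFun K θ g = θ} = Nat.card K := by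
      apply Nat.card_congr
      exact Equiv.subtypeEquivRight hstab
    rw [hcard] at hmain
    have hK0 : (Nat.card K : ℂ) ≠ 0 := by
      have : 0 < Nat.card K := Nat.card_pos
      exact_mod_cast this.ne'
    exact mul_left_cancel₀ hK0 (hmain.trans (mul_one _).symm)
  · exact hcount W₁ le_rfl hW₁
  · intro θ hθ hinvW
    have hinv : ∀ g : L, Helper6.conjFun K θ g = θ := by
      intro g
      obtain ⟨k, hk, w, hw, rfl⟩ := hdec g
      rw [← Helper6.conjFun_mul, hKfix θ hθ k hk]
      exact hinvW w hw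
    have hcommQ : ∀ a b : L ⧸ K, a * b = b * a := by
      intro a b
      obtain ⟨g, rfl⟩ := QuotientGroup.mk_surjective a
      obtain ⟨g', rfl⟩ := QuotientGroup.mk_surjective b
      obtain ⟨k, hk, w, hw, rfl⟩ := hdec g
      obtain ⟨k', hk', w', hw', rfl⟩ := hdec g'
      rw [QuotientGroup.mk_mul, QuotientGroup.mk_mul, (QuotientGroup.eq_one_iff k).mpr hk,
        (QuotientGroup.eq_one_iff k').mpr hk', one_mul, one_mul, ← QuotientGroup.mk_mul,
        ← QuotientGroup.mk_mul, hW₁comm w hw w' hw']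
    obtain ⟨C, hCcard, hCirr, hCsum⟩ := Helper6.indFun_invariant_eq_sum_of_comm_quotient K hcommQ
      (by rw [hidx]; exact hcopKW) θ hθ hinv
    exact ⟨C, by rw [hCcard, hidx], hCirr, hCsum⟩

end Cfsg.Agent.S1513
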