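import Cfsg.Statements.S1515
import Mathlib
import Cfsg.Agent.Helper6.CoherA
-- import your own Cfsg.Agent.* helpers here

set_option autoImplicit false
open Cfsg

namespace Cfsg.Agent.S1515

/-- Let (S, τ, R) be a coherence system from L to G, χ ∈ S, and ψ an integer combination of S with ⟨χ, ψ⟩ = ⟨conj χ, ψ⟩ = 0. Let τ₁ be a linear isometry on the integer combinations of χ − ψ and χ − conj χ, with virtual-character values, agreeing with τ on integer multiples of χ − conj χ. Then the sum over α ∈ R χ of the squared absolute values of ⟨τ₁(χ − ψ), α⟩ is at least ⟨χ, χ⟩; and if ⟨τ₁(χ − ψ), τ₁(χ − ψ)⟩ minus that sum is at least ⟨ψ, ψ⟩, then the sum equals ⟨χ, χ⟩ and every ⟨τ₁(χ − ψ), α⟩ with α ∈ R χ is 0 or 1. -/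
theorem result {L : Type*} [Group L] [Fintype L] {G : Type*} [Group G] [Fintype G] (S : Set (L → ℂ)) (τ : (L → ℂ) → (G → ℂ)) (R : (L → ℂ) → Finset (G → ℂ)) (hS : Cfsg.IsCoherenceSystem S τ R) (χ : L → ℂ) (hχ : χ ∈ S) (ψ : L → ℂ) (hψ : ψ ∈ Cfsg.zspan S) (h1 : Cfsg.classInner χ ψ = 0) (h2 : Cfsg.classInner (Cfsg.conjFun χ) ψ = 0) (τ₁ : (L → ℂ) → (G → ℂ)) (hτ₁ : Cfsg.IsLinearIsometryOn (Cfsg.zspan {χ - ψ, χ - Cfsg.conjFun χ}) τ₁) (hagree : ∀ n : ℤ, τ₁ (n • (χ - Cfsg.conjFun χ)) = τ (n • (χ - Cfsg.conjFun χ))) : (Cfsg.classInner χ χ).re ≤ ∑ α ∈ R χ, ‖Cfsg.classInner (τ₁ (χ - ψ)) α‖ ^ 2 ∧ ((Cfsg.classInner ψ ψ).re ≤ (Cfsg.classInner (τ₁ (χ - ψ)) (τ₁ (χ - ψ))).re - ∑ α ∈ R χ, ‖Cfsg.classInner (τ₁ (χ - ψ)) α‖ ^ 2 → (∑ α ∈ R χ, ‖Cfsg.classInner (τ₁ (χ - ψ)) α‖ ^ 2 = (Cfsg.classInner χ χ).re ∧ ∀ α ∈ R χ, Cfsg.classInner (τ₁ (χ - ψ)) α = 0 ∨ Cfsg.classInner (τ₁ (χ - ψ)) α = 1)) := by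
  classical
  obtain ⟨hadd, hsmul, hiso, hgen⟩ := hτ₁
  have hχb : Cfsg.conjFun χ ∈ S := hS.conj_mem χ hχ
  have hχne : Cfsg.conjFun χ ≠ χ := hS.conj_ne χ hχ
  have horth : Cfsg.classInner χ (Cfsg.conjFun χ) = 0 :=
    hS.orthogonal χ hχ _ hχb (fun h => hχne h.symm)
  have memE1 : χ - ψ ∈ Cfsg.zspan {χ - ψ, χ - Cfsg.conjFun χ} :=
    Submodule.subset_span (Set.mem_insert _ _)
  have memE2 : χ - Cfsg.conjFun χ ∈ Cfsg.zspan {χ - ψ, χ - Cfsg.conjFun χ} :=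
    Submodule.subset_span (Set.mem_insert_of_mem _ rfl)
  have hΔgen := hgen _ memE1
  have hτ₁τ : τ₁ (χ - Cfsg.conjFun χ) = τ (χ - Cfsg.conjFun χ) := by
    have := hagree 1
    simpa using this
  have hsum := hS.sum_eq χ hχ
  obtain ⟨n, hn⟩ := Helper6.classInner_char_char_nat (hS.isCharacter χ hχ) (hS.isCharacter χ hχ)
  have hψχ : Cfsg.classInner ψ χ = 0 := by
    rw [Helper6.classInner_conj_symm χ ψ, h1, map_zero]
  have hψχb : Cfsg.classInner ψ (Cfsg.conjFun χ) = 0 := by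
    rw [Helper6.classInner_conj_symm (Cfsg.conjFun χ) ψ, h2, map_zero]
  have key1 : Cfsg.classInner (τ₁ (χ - ψ)) (τ₁ (χ - Cfsg.conjFun χ)) = n := by
    rw [hiso _ memE1 _ memE2, Helper6.classInner_sub_left, Helper6.classInner_sub_right,
      Helper6.classInner_sub_right, hn, horth, hψχ, hψχb]
    ring
  rw [hτ₁τ, hsum, Helper6.classInner_sum_right] at key1
  have hcex : ∀ α ∈ R χ, ∃ c : ℤ, Cfsg.classInner (τ₁ (χ - ψ)) α = c := fun α hα =>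
    Helper6.classInner_genchar_int hΔgen (hS.virtual χ hχ α hα)
  choose! c hc using hcex
  have hsumc : ∑ α ∈ R χ, c α = n := by
    have h3 : ((∑ α ∈ R χ, c α : ℤ) : ℂ) = ((n : ℤ) : ℂ) := by
      rw [Int.cast_sum, Int.cast_natCast, ← key1]
      exact Finset.sum_congr rfl (fun α hα => (hc α hα).symm)
    exact_mod_cast h3
  have hnorm : ∑ α ∈ R χ, ‖Cfsg.classInner (τ₁ (χ - ψ)) α‖ ^ 2 =
      ((∑ α ∈ R χ, c α ^ 2 : ℤ) : ℝ) := by
    rw [Int.cast_sum]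
    apply Finset.sum_congr rfl
    intro α hα
    rw [hc α hα, Complex.norm_intCast, sq_abs, Int.cast_pow]
  obtain ⟨hge, heq⟩ := Helper6.sum_sq_ge_of_sum_eq (R χ) c
  have hχre : (Cfsg.classInner χ χ).re = n := by rw [hn]; simp
  rw [hsumc] at hge heq
  refine ⟨?_, ?_⟩
  · rw [hχre, hnorm]
    exact_mod_cast hge
  · intro hyp
    have hΔΔ : Cfsg.classInner (τ₁ (χ - ψ)) (τ₁ (χ - ψ)) = n + Cfsg.classInner ψ ψ := by
      rw [hiso _ memE1 _ memE1, Helper6.classInner_sub_left, Helper6.classInner_sub_right,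
        Helper6.classInner_sub_right, hn, h1, hψχ]
      ring
    rw [hΔΔ, hnorm, Complex.add_re, Complex.natCast_re] at hyp
    have hle : ((∑ α ∈ R χ, c α ^ 2 : ℤ) : ℝ) ≤ ((n : ℤ) : ℝ) := by
      rw [Int.cast_natCast]
      linarith
    have hle' : ∑ α ∈ R χ, c α ^ 2 ≤ (n : ℤ) := by exact_mod_cast hle
    have h01 := heq hle'
    refine ⟨?_, ?_⟩
    · rw [hχre, hnorm]
      have : ∑ α ∈ R χ, c α ^ 2 = (n : ℤ) := le_antisymm hle' hge
      rw [this]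
      simp
    · intro α hα
      rw [hc α hα]
      rcases h01 α hα with h | h
      · left; rw [h]; simp
      · right; rw [h]; simp

end Cfsg.Agent.S1515
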