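import Cfsg.Statements.S1525
import Mathlib
import Cfsg.Agent.Helper6.DadeIso
-- import your own Cfsg.Agent.* helpers here

set_option autoImplicit false
open Cfsg

namespace Cfsg.Agent.S1525

/-- Under the Dade hypothesis for (A, L, H), let χ be a class function of G and let ψ be a function on L whose value at each a ∈ A is the average of χ over the coset a·H(a). Then (1/|G|) Σ |χ g|² over the elements g of G conjugate into some coset a·H(a) with a ∈ A is at least (1/|L|) Σ_{a ∈ A ∩ L} |ψ a|². -/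
theorem result {G : Type*} [Group G] [Fintype G] (A : Set G) (L : Subgroup G) [Fintype L] (H : G → Subgroup G) (hD : Cfsg.DadeHypothesis A L H) (χ : G → ℂ) (hχ : Cfsg.IsClassFunction G χ) (ψ : L → ℂ) (hψ : ∀ a : L, (a : G) ∈ A → ψ a = (Nat.card (H a) : ℂ)⁻¹ * ∑ᶠ u ∈ (H a : Set G), χ (a * u)) : (Nat.card L : ℝ)⁻¹ * ∑ᶠ a ∈ {a : L | (a : G) ∈ A}, ‖ψ a‖ ^ 2 ≤ (Nat.card G : ℝ)⁻¹ * ∑ᶠ g ∈ {g : G | ∃ a ∈ A, ∃ u ∈ H a, ∃ x : G, x * g * x⁻¹ = a * u}, ‖χ g‖ ^ 2 := by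
  classical
  set Fr : G → ℝ := fun g => ‖χ g‖ ^ 2 with hFr
  have hFcf : Cfsg.IsClassFunction G (fun g => ((Fr g : ℝ) : ℂ)) := by
    intro g y
    simp only [hFr]
    rw [hχ g y]
  have hform := Helper6.dade_sum_formula A L H hD _ hFcf
  have hformR : (Nat.card L : ℝ) * ∑ g : G,
      (if (∃ a ∈ A, ∃ u ∈ H a, ∃ x : G, x * g * x⁻¹ = a * u) then Fr g else 0) =
      (Nat.card G : ℝ) * ∑ a : L, ∑ u : G,
        (if ((a : G) ∈ A ∧ u ∈ H a) then (Nat.card (H a) : ℝ)⁻¹ * Fr (a * u) else 0) := by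
    apply Complex.ofReal_injective
    push_cast
    simp only [apply_ite Complex.ofReal, Complex.ofReal_zero] at hform ⊢
    convert hform using 2
    simp only [Complex.ofReal_mul, Complex.ofReal_inv, Complex.ofReal_natCast]
  rw [Helper6.finsum_mem_eq_sum_ite_real, Helper6.finsum_mem_eq_sum_ite_real]
  have hG0 : (0 : ℝ) < Nat.card G := Nat.cast_pos.mpr Nat.card_pos
  have hL0 : (0 : ℝ) < Nat.card L := Nat.cast_pos.mpr Nat.card_pos
  have hle : ∀ a : L, (if a ∈ {a : L | (a : G) ∈ A} then ‖ψ a‖ ^ 2 else 0) ≤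
      ∑ u : G, (if ((a : G) ∈ A ∧ u ∈ H a) then (Nat.card (H a) : ℝ)⁻¹ * Fr (a * u) else 0) := by
    intro a
    by_cases ha : (a : G) ∈ A
    · have ha' : a ∈ {a : L | (a : G) ∈ A} := ha
      rw [if_pos ha']
      have hn0 : (0 : ℝ) < Nat.card (H a) := Nat.cast_pos.mpr Nat.card_pos
      rw [hψ a ha, Helper6.finsum_mem_eq_sum_ite, norm_mul, norm_inv, Complex.norm_natCast]
      have h1 : ∑ u : G, (if u ∈ ((H a : Subgroup G) : Set G) then χ (a * u) else 0) =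
          ∑ u ∈ Finset.univ.filter (fun u : G => u ∈ H a), χ (a * u) := by
        rw [Finset.sum_filter]
        rfl
      have h2 : ∑ u : G, (if ((a : G) ∈ A ∧ u ∈ H a) then
          (Nat.card (H a) : ℝ)⁻¹ * Fr (a * u) else 0) =
          (Nat.card (H a) : ℝ)⁻¹ * ∑ u ∈ Finset.univ.filter (fun u : G => u ∈ H a), Fr (a * u) := by
        rw [Finset.mul_sum, Finset.sum_filter]
        apply Finset.sum_congr rfl
        intro u _
        by_cases hu : u ∈ H a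
        · rw [if_pos ⟨ha, hu⟩, if_pos hu]
        · rw [if_neg (fun h => hu h.2), if_neg hu]
      rw [h1, h2]
      set s := Finset.univ.filter (fun u : G => u ∈ H a) with hs
      have hcard : (s.card : ℝ) = Nat.card (H a) := by
        rw [hs, Nat.card_eq_fintype_card, Fintype.card_subtype]
      have h3 : ‖∑ u ∈ s, χ (a * u)‖ ≤ ∑ u ∈ s, ‖χ (a * u)‖ := norm_sum_le _ _
      have h4 : (∑ u ∈ s, ‖χ (a * u)‖) ^ 2 ≤ s.card * ∑ u ∈ s, ‖χ (a * u)‖ ^ 2 :=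
        sq_sum_le_card_mul_sum_sq
      rw [hcard] at h4
      have h5 : ‖∑ u ∈ s, χ (a * u)‖ ^ 2 ≤ (Nat.card (H a) : ℝ) * ∑ u ∈ s, ‖χ (a * u)‖ ^ 2 := by
        calc ‖∑ u ∈ s, χ (a * u)‖ ^ 2 ≤ (∑ u ∈ s, ‖χ (a * u)‖) ^ 2 := by
              apply pow_le_pow_left₀ (norm_nonneg _) h3
          _ ≤ _ := h4
      rw [mul_pow]
      have h6 : ((Nat.card (H a) : ℝ)⁻¹) ^ 2 * ‖∑ u ∈ s, χ (a * u)‖ ^ 2 ≤
          ((Nat.card (H a) : ℝ)⁻¹) ^ 2 * ((Nat.card (H a) : ℝ) * ∑ u ∈ s, ‖χ (a * u)‖ ^ 2) :=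
        mul_le_mul_of_nonneg_left h5 (sq_nonneg _)
      refine h6.trans (le_of_eq ?_)
      simp only [hFr]
      field_simp
    · have ha' : a ∉ {a : L | (a : G) ∈ A} := ha
      rw [if_neg ha']
      apply Finset.sum_nonneg
      intro u _
      rw [if_neg (fun h => ha h.1)]
  have hsum := Finset.sum_le_sum (fun a (_ : a ∈ (Finset.univ : Finset L)) => hle a)
  have h7 : (Nat.card G : ℝ)⁻¹ * ∑ g : G,
      (if (∃ a ∈ A, ∃ u ∈ H a, ∃ x : G, x * g * x⁻¹ = a * u) then Fr g else 0) =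
      (Nat.card L : ℝ)⁻¹ * ∑ a : L, ∑ u : G,
        (if ((a : G) ∈ A ∧ u ∈ H a) then (Nat.card (H a) : ℝ)⁻¹ * Fr (a * u) else 0) := by
    generalize (∑ g : G,
      (if (∃ a ∈ A, ∃ u ∈ H a, ∃ x : G, x * g * x⁻¹ = a * u) then Fr g else 0)) = X at hformR ⊢
    generalize (∑ a : L, ∑ u : G,
        (if ((a : G) ∈ A ∧ u ∈ H a) then (Nat.card (H a) : ℝ)⁻¹ * Fr (a * u) else 0)) = Y
      at hformR ⊢
    field_simp
    linarith [hformR]
  refine le_trans (mul_le_mul_of_nonneg_left hsum (inv_nonneg.mpr hL0.le)) (le_of_eq ?_)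
  refine h7.symm.trans ?_
  congr 1
  apply Finset.sum_congr rfl
  intro g _
  by_cases h : ∃ a ∈ A, ∃ u ∈ H a, ∃ x : G, x * g * x⁻¹ = a * u
  · rw [if_pos h, if_pos (show g ∈ {g : G | ∃ a ∈ A, ∃ u ∈ H a, ∃ x : G, x * g * x⁻¹ = a * u}
      from h)]
  · rw [if_neg h, if_neg (show g ∉ {g : G | ∃ a ∈ A, ∃ u ∈ H a, ∃ x : G, x * g * x⁻¹ = a * u}
      from h)]

end Cfsg.Agent.S1525
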