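import Mathlib
import Cfsg.Statements.S1527
import Cfsg.Agent.Helper1.Frobenius
import Cfsg.Statements.S1527
-- import your own Cfsg.Agent.* helpers here

set_option autoImplicit false
open Cfsg

namespace Cfsg.Agent.S1527
open Cfsg

universe u v

/-- Let G be a finite group and H i (i in a finite index type) subgroups of pairwise coprime orders, each of whose underlying sets is a TI-subset of G, such that every non-identity element of G is conjugate to an element of some H i. Then Nat.card G − 1 = Σ_i [G : N_G(H i)] · (Nat.card (H i) − 1). -/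
theorem result {G : Type*} [Group G] [Finite G] {ι : Type*} [Fintype ι] (H : ι → Subgroup G) (hcop : ∀ i j, i ≠ j → Nat.Coprime (Nat.card (H i)) (Nat.card (H j))) (hTI : ∀ i, Cfsg.IsTISubset (H i : Set G)) (hcover : ∀ g : G, g ≠ 1 → ∃ i, ∃ x : G, x * g * x⁻¹ ∈ H i) : Nat.card G - 1 = ∑ i, (Subgroup.normalizer (H i : Set G)).index * (Nat.card (H i) - 1) := by
  classical
  let N : ι → Subgroup G := fun i => Subgroup.normalizer (H i : Set G)
  let Φ : (Σ i, (G ⧸ N i) × {h : ↥(H i) // h ≠ 1}) → {g : G // g ≠ 1} := fun t =>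
    ⟨(t.2.1.out : G) * (t.2.2.1 : G) * (t.2.1.out : G)⁻¹, by
      intro h
      apply t.2.2.2
      apply Subtype.ext
      have e : ((t.2.2.1 : ↥(H t.1)) : G) =
          (t.2.1.out : G)⁻¹ * ((t.2.1.out : G) * (t.2.2.1 : G) * (t.2.1.out : G)⁻¹) * (t.2.1.out : G) := by
        group
      rw [e, h]
      simp⟩
  have hΦ : ∀ t, ((Φ t : {g : G // g ≠ 1}) : G) =
      (t.2.1.out : G) * (t.2.2.1 : G) * (t.2.1.out : G)⁻¹ := fun t => rfl
  have hinj : Function.Injective Φ := by
    rintro ⟨i, q, h⟩ ⟨j, q', h'⟩ heq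
    have h1 : (q.out : G) * (h.1 : G) * (q.out : G)⁻¹ = (q'.out : G) * (h'.1 : G) * (q'.out : G)⁻¹ := by
      have := congrArg Subtype.val heq
      rwa [hΦ, hΦ] at this
    have hij : i = j := by
      by_contra hne
      have hc := hcop i j hne
      have hoc : ∀ a b : G, orderOf (a * b * a⁻¹) = orderOf b := fun a b => by
        have := (MulAut.conj a).orderOf_eq b
        rwa [MulAut.conj_apply] at this
      have ho : orderOf (h.1 : G) = orderOf (h'.1 : G) := by
        rw [← hoc (q.out : G) (h.1 : G), h1, hoc]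
      have h2 : orderOf (h.1 : G) ∣ Nat.card (H i) := by
        rw [Subgroup.orderOf_coe]; exact orderOf_dvd_natCard _
      have h3 : orderOf (h.1 : G) ∣ Nat.card (H j) := by
        rw [ho, Subgroup.orderOf_coe]; exact orderOf_dvd_natCard _
      have h4 : orderOf (h.1 : G) = 1 := Nat.eq_one_of_dvd_coprimes hc h2 h3
      rw [orderOf_eq_one_iff] at h4
      exact h.2 (Subtype.ext h4)
    subst hij
    -- u = q'.out⁻¹ q.out normalizes H i
    set u : G := (q'.out : G)⁻¹ * q.out with hu
    have h2 : u * (h.1 : G) * u⁻¹ = (h'.1 : G) := by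
      have := congrArg (fun z => (q'.out : G)⁻¹ * z * (q'.out : G)) h1
      beta_reduce at this
      have e1 : (q'.out : G)⁻¹ * ((q.out : G) * (h.1 : G) * (q.out : G)⁻¹) * (q'.out : G) =
          u * (h.1 : G) * u⁻¹ := by rw [hu]; group
      have e2 : (q'.out : G)⁻¹ * ((q'.out : G) * (h'.1 : G) * (q'.out : G)⁻¹) * (q'.out : G) =
          (h'.1 : G) := by group
      rw [e1, e2] at this
      exact this
    have huN : u ∈ N i := by
      by_contra hn
      have := hTI i u hn (h.1 : G) h.1.2 (by rw [h2]; exact h'.1.2)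
      exact h.2 (Subtype.ext this)
    have hq : q = q' := by
      rw [← QuotientGroup.out_eq' q, ← QuotientGroup.out_eq' q', eq_comm, QuotientGroup.eq]
      exact huN
    subst hq
    have hu1 : u = 1 := by rw [hu]; group
    rw [hu1] at h2
    have h3 : (h.1 : G) = (h'.1 : G) := by simpa using h2
    have : h = h' := Subtype.ext (Subtype.ext h3)
    rw [this]
  have hsurj : Function.Surjective Φ := by
    rintro ⟨g, hg⟩
    obtain ⟨i, x, hx⟩ := hcover g hg
    -- g = x⁻¹ h x with h = x g x⁻¹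
    set q : G ⧸ N i := QuotientGroup.mk x⁻¹ with hq
    have hn : (q.out : G)⁻¹ * x⁻¹ ∈ N i := by
      have := QuotientGroup.out_eq' q
      rw [hq] at this
      rw [← QuotientGroup.eq]
      exact this
    set n : G := (q.out : G)⁻¹ * x⁻¹ with hn'
    have hmem : n * (x * g * x⁻¹) * n⁻¹ ∈ H i := by
      have := (Subgroup.mem_normalizer_iff.mp hn (x * g * x⁻¹))
      exact this.mp hx
    have hne : (⟨n * (x * g * x⁻¹) * n⁻¹, hmem⟩ : ↥(H i)) ≠ 1 := by
      intro h
      have h1 : n * (x * g * x⁻¹) * n⁻¹ = 1 := congrArg Subtype.val h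
      apply hg
      have e : g = x⁻¹ * n⁻¹ * (n * (x * g * x⁻¹) * n⁻¹) * n * x := by group
      rw [e, h1]
      group
    refine ⟨⟨i, q, ⟨⟨n * (x * g * x⁻¹) * n⁻¹, hmem⟩, hne⟩⟩, ?_⟩
    apply Subtype.ext
    rw [hΦ]
    show (q.out : G) * (n * (x * g * x⁻¹) * n⁻¹) * (q.out : G)⁻¹ = g
    rw [hn']
    group
  have hcard := Nat.card_congr (Equiv.ofBijective Φ ⟨hinj, hsurj⟩)
  rw [Cfsg.Agent.Helper1.card_ne_one_subtype] at hcard
  rw [← hcard, Nat.card_sigma]
  apply Finset.sum_congr rfl
  intro i _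
  rw [Nat.card_prod, Cfsg.Agent.Helper1.card_ne_one_subtype]
  rfl


end Cfsg.Agent.S1527
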