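import Cfsg.Statements.S1528
import Mathlib
import Cfsg.Agent.Helper6.FrobInd2
-- import your own Cfsg.Agent.* helpers here

set_option autoImplicit false
open Cfsg

namespace Cfsg.Agent.S1528

/-- Let N be a normal subgroup of the finite group G such that every element of G commuting with a non-identity element of N lies in N. If χ is an irreducible character of G with χ n ≠ χ 1 for some n ∈ N, then χ is the function induced from some irreducible character of N. -/
theorem result {G : Type*} [Group G] [Fintype G] (N : Subgroup G) [N.Normal] (hC : ∀ n ∈ N, n ≠ 1 → Subgroup.centralizer ({n} : Set G) ≤ N) (χ : G → ℂ) (hχ : Cfsg.IsIrrCharacter G χ) (hker : ∃ n ∈ N, χ n ≠ χ 1) : ∃ φ : N → ℂ, Cfsg.IsIrrCharacter N φ ∧ χ = Cfsg.indFun N φ := by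
  classical
  haveI : Fintype N := Fintype.ofFinite N
  haveI : Finite (Cfsg.IrrCharacter N) := Cfsg.Agent.Helper6.irr_finite
  haveI : Fintype (Cfsg.IrrCharacter N) := Fintype.ofFinite _
  have hχchar := Cfsg.Agent.Helper6.IsIrrCharacter.isCharacter hχ
  have hχcf := Cfsg.Agent.Helper6.IsCharacter.isClassFunction hχchar
  have hres : Cfsg.IsCharacter N (fun n : N => χ n) :=
    Cfsg.Agent.Helper6.IsCharacter.restrict N hχchar
  have hfree : ∀ g : G, g ∉ N → ∀ k ∈ N, g * k = k * g → k = 1 := by
    intro g hg k hk hcomm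
    by_contra hk1
    apply hg
    apply hC k hk hk1
    rw [Subgroup.mem_centralizer_iff]
    intro y hy
    rw [Set.mem_singleton_iff] at hy
    subst hy
    exact hcomm.symm
  -- a non-principal constituent
  have hex : ∃ φ : Cfsg.IrrCharacter N, (φ : N → ℂ) ≠ (fun _ => 1) ∧
      Cfsg.classInner (fun n : N => χ n) (φ : N → ℂ) ≠ 0 := by
    by_contra hno
    push Not at hno
    obtain ⟨n, hn, hne⟩ := hker
    apply hne
    have hexp := Cfsg.Agent.Helper6.classFunction_expansion (fun n : N => χ n)
      (Cfsg.Agent.Helper6.IsCharacter.isClassFunction hres)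
    have hval : ∀ x : N, χ x = Cfsg.classInner (fun n : N => χ n) (fun _ => 1) := by
      intro x
      have := congrFun hexp x
      rw [Finset.sum_apply, Finset.sum_eq_single
        (⟨fun _ => 1, Cfsg.Agent.Helper6.isIrrCharacter_one⟩ : Cfsg.IrrCharacter N)] at this
      · simpa using this
      · intro φ _ hφ
        have h1 : (φ : N → ℂ) ≠ fun _ => 1 := fun h => hφ (Subtype.ext h)
        rw [Pi.smul_apply, hno φ h1, zero_smul]
      · intro h
        exact absurd (Finset.mem_univ _) h
    have h1 := hval ⟨n, hn⟩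
    have h2 := hval 1
    simp only [OneMemClass.coe_one] at h1 h2
    rw [h1, h2]
  obtain ⟨⟨φ, hφ⟩, hφ1, hφc⟩ := hex
  simp only at hφ1 hφc
  refine ⟨φ, hφ, ?_⟩
  have hirr := Cfsg.Agent.Helper6.indFun_irr_of_free N hfree φ hφ hφ1
  by_contra hne
  have h0 := Cfsg.Agent.Helper6.classInner_irr_ne hirr hχ (fun h => hne h.symm)
  rw [Cfsg.Agent.Helper6.frobenius_reciprocity N φ χ hχcf,
    Cfsg.Agent.Helper6.classInner_conj_symm] at h0
  exact hφc ((map_eq_zero (starRingEnd ℂ)).mp h0)

end Cfsg.Agent.S1528
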