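import Cfsg.Statements.S1536
import Mathlib
import Cfsg.Agent.Helper6.CoprimeConj
import Cfsg.Agent.Helper6.BrauerPerm2
import Cfsg.Agent.Helper6.OddReal
-- import your own Cfsg.Agent.* helpers here

set_option autoImplicit false
open Cfsg

namespace Cfsg.Agent.S1536

/-- Let H be a normal subgroup of the finite group M whose order is coprime to its index. For x ∈ M: some non-principal irreducible character of H is unchanged under h ↦ θ(x h x⁻¹) if and only if some non-identity element of H commutes with x. -/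
theorem result {M : Type*} [Group M] [Finite M] (H : Subgroup M) [hN : H.Normal] (hHall : Nat.Coprime (Nat.card H) H.index) (x : M) : (∃ θ : H → ℂ, Cfsg.IsIrrCharacter H θ ∧ θ ≠ (fun _ => 1) ∧ (fun h : H => θ ⟨x * h * x⁻¹, hN.conj_mem h h.2 x⟩) = θ) ↔ ∃ h ∈ H, h ≠ 1 ∧ x * h = h * x := by
  classical
  haveI : Finite (Cfsg.IrrCharacter H) := Cfsg.Agent.Helper6.irr_finite
  set τ : H ≃* H := MulAut.conjNormal x with hτ
  have hτapp : ∀ k : H, ((τ k : H) : M) = x * k * x⁻¹ := fun k => MulAut.conjNormal_apply x k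
  have hcount := Cfsg.Agent.Helper6.brauer_permutation_count τ.toEquiv
    (fun χ hχ => Cfsg.Agent.Helper6.IsIrrCharacter.comp_mulEquiv τ hχ)
    (fun a b hab => by
      obtain ⟨c, hc⟩ := isConj_iff.mp hab
      refine isConj_iff.mpr ⟨τ c, ?_⟩
      change τ c * τ a * (τ c)⁻¹ = τ b
      rw [← map_inv, ← map_mul, ← map_mul, hc])
  let χ₁ : Cfsg.IrrCharacter H := ⟨fun _ => 1, Cfsg.Agent.Helper6.isIrrCharacter_one⟩
  have hχ₁fix : (χ₁ : H → ℂ) ∘ τ.toEquiv = (χ₁ : H → ℂ) := rfl
  have hC₁fix : ∀ g : H, ConjClasses.mk g = ConjClasses.mk (1 : H) → IsConj (τ.toEquiv g) g := by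
    intro g hg
    have : g = 1 := by
      have := ConjClasses.mk_eq_mk_iff_isConj.mp hg
      exact isConj_one_right.mp this.symm |>.symm ▸ rfl
    subst this
    show IsConj (τ 1) 1
    rw [map_one]
  constructor
  · rintro ⟨θ, hθirr, hθne, hθfix⟩
    -- two fixed characters, hence two fixed classes
    have hθfix' : θ ∘ τ.toEquiv = θ := by
      ext k
      have := congrFun hθfix k
      simp only [Function.comp_apply]
      convert this using 2
      apply Subtype.ext
      exact hτapp k
    haveI : Nontrivial {χ : Cfsg.IrrCharacter H // (χ : H → ℂ) ∘ τ.toEquiv = (χ : H → ℂ)} := by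
      refine ⟨⟨⟨⟨θ, hθirr⟩, hθfix'⟩, ⟨χ₁, hχ₁fix⟩, ?_⟩⟩
      intro h
      apply hθne
      have := congrArg (fun t => ((t : {χ : Cfsg.IrrCharacter H //
        (χ : H → ℂ) ∘ τ.toEquiv = (χ : H → ℂ)}) : Cfsg.IrrCharacter H).1) h
      exact this
    have h1 : 1 < Nat.card {χ : Cfsg.IrrCharacter H // (χ : H → ℂ) ∘ τ.toEquiv = (χ : H → ℂ)} :=
      Finite.one_lt_card
    rw [hcount] at h1
    haveI := Finite.one_lt_card_iff_nontrivial.mp h1
    obtain ⟨⟨C, hC⟩, hCne⟩ := exists_ne (⟨ConjClasses.mk (1 : H), hC₁fix⟩ :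
      {C : ConjClasses H // ∀ g : H, ConjClasses.mk g = C → IsConj (τ.toEquiv g) g})
    obtain ⟨k, rfl⟩ := ConjClasses.mk_surjective C
    have hk1 : k ≠ 1 := by
      intro h
      apply hCne
      apply Subtype.ext
      show ConjClasses.mk k = ConjClasses.mk 1
      rw [h]
    have hkconj := hC k rfl
    obtain ⟨y, hy⟩ := isConj_iff.mp hkconj
    -- y * τ k * y⁻¹ = k in H
    have hy' : (y : M) * (x * k * x⁻¹) * (y : M)⁻¹ = k := by
      have := congrArg (fun t : H => (t : M)) hy
      simp only [Subgroup.coe_mul, Subgroup.coe_inv] at this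
      rw [← hτapp]
      exact this
    -- the order of x modulo H
    set m := orderOf (QuotientGroup.mk' H x) with hm
    have hxm : x ^ m ∈ H := by
      rw [← QuotientGroup.eq_one_iff, ← QuotientGroup.mk'_apply, map_pow, hm]
      exact pow_orderOf_eq_one _
    have hmcop : Nat.Coprime m (Nat.card H) := by
      have h1 : m ∣ Nat.card (M ⧸ H) := orderOf_dvd_natCard _
      rw [← Subgroup.index_eq_card] at h1
      exact (Nat.Coprime.coprime_dvd_right h1 hHall).symm
    by_cases hxm1 : x ^ m = 1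
    · have hxord : orderOf x ∣ m := orderOf_dvd_of_pow_eq_one hxm1
      have hcop : Nat.Coprime (orderOf x) (Nat.card H) := Nat.Coprime.coprime_dvd_left hxord hmcop
      have hxN : x ∈ Subgroup.normalizer (H : Set M) := by
        rw [Subgroup.mem_normalizer_iff]
        intro z
        constructor
        · intro hz; exact hN.conj_mem z hz x
        · intro hz
          have := hN.conj_mem _ hz x⁻¹
          simpa [mul_assoc] using this
      obtain ⟨z, hz, c, hc, hcx, hzc⟩ :=
        Cfsg.Agent.Helper6.exists_conj_commute_of_coprime (orderOf x) H x rfl hxN hcop (y : M) y.2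
      by_cases hc1 : c = 1
      · refine ⟨z * k * z⁻¹, H.mul_mem (H.mul_mem hz k.2) (H.inv_mem hz), ?_, ?_⟩
        · intro h
          apply hk1
          apply Subtype.ext
          have : (k : M) = z⁻¹ * (z * k * z⁻¹) * z := by group
          rw [this, h]; simp
        · rw [hc1, one_mul] at hzc
          -- x = z * (y * x) * z⁻¹ commutes with z k z⁻¹
          have hyx : (y : M) * x * (k : M) = (k : M) * ((y : M) * x) := by
            calc (y : M) * x * (k : M) = ((y : M) * (x * k * x⁻¹) * (y : M)⁻¹) * ((y : M) * x) := by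
                  group
              _ = (k : M) * ((y : M) * x) := by rw [hy']
          calc x * (z * k * z⁻¹) = (z * ((y : M) * x) * z⁻¹) * (z * k * z⁻¹) := by rw [hzc]
            _ = z * ((y : M) * x * (k : M)) * z⁻¹ := by group
            _ = z * ((k : M) * ((y : M) * x)) * z⁻¹ := by rw [hyx]
            _ = (z * k * z⁻¹) * (z * ((y : M) * x) * z⁻¹) := by group
            _ = (z * k * z⁻¹) * x := by rw [hzc]
      · exact ⟨c, hc, hc1, hcx.symm⟩
    · refine ⟨x ^ m, hxm, hxm1, ?_⟩
      rw [← pow_succ', ← pow_succ]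
  · rintro ⟨h, hhH, hh1, hcomm⟩
    -- the class of h is fixed
    have hCfix : ∀ g : H, ConjClasses.mk g = ConjClasses.mk (⟨h, hhH⟩ : H) →
        IsConj (τ.toEquiv g) g := by
      intro g hg
      have hconj := ConjClasses.mk_eq_mk_iff_isConj.mp hg
      obtain ⟨w, hw⟩ := isConj_iff.mp hconj
      have hτh : τ ⟨h, hhH⟩ = ⟨h, hhH⟩ := by
        apply Subtype.ext
        rw [hτapp]
        show x * h * x⁻¹ = h
        rw [hcomm]; group
      have : τ g = τ w⁻¹ * ⟨h, hhH⟩ * (τ w⁻¹)⁻¹ := by
        have hg' : g = w⁻¹ * ⟨h, hhH⟩ * w⁻¹⁻¹ := by rw [← hw]; group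
        conv_lhs => rw [hg']
        simp only [map_mul, map_inv, hτh]
      show IsConj (τ g) g
      rw [this]
      exact (isConj_iff.mpr ⟨τ w⁻¹, rfl⟩).symm.trans hconj.symm
    haveI : Nontrivial {C : ConjClasses H // ∀ g : H, ConjClasses.mk g = C →
        IsConj (τ.toEquiv g) g} := by
      refine ⟨⟨⟨ConjClasses.mk ⟨h, hhH⟩, hCfix⟩, ⟨ConjClasses.mk 1, hC₁fix⟩, ?_⟩⟩
      intro heq
      have := congrArg Subtype.val heq
      have hc := ConjClasses.mk_eq_mk_iff_isConj.mp this
      have : (⟨h, hhH⟩ : H) = 1 := isConj_one_right.mp hc.symm |>.symm ▸ rfl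
      exact hh1 (congrArg Subtype.val this)
    have h1 : 1 < Nat.card {C : ConjClasses H // ∀ g : H, ConjClasses.mk g = C →
        IsConj (τ.toEquiv g) g} := Finite.one_lt_card
    rw [← hcount] at h1
    haveI := Finite.one_lt_card_iff_nontrivial.mp h1
    obtain ⟨⟨θ, hθ⟩, hθne⟩ := exists_ne (⟨χ₁, hχ₁fix⟩ :
      {χ : Cfsg.IrrCharacter H // (χ : H → ℂ) ∘ τ.toEquiv = (χ : H → ℂ)})
    refine ⟨θ, θ.2, ?_, ?_⟩
    · intro h
      apply hθne
      apply Subtype.ext
      apply Subtype.ext
      exact h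
    · ext k
      have := congrFun hθ k
      simp only [Function.comp_apply] at this
      convert this using 2
      apply Subtype.ext
      exact (hτapp k).symm

end Cfsg.Agent.S1536
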