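import Cfsg.Statements.S1537
import Cfsg.Agent.Helper1.PF8d
import Cfsg.Agent.S1363
import Cfsg.Agent.S1365
-- import your own Cfsg.Agent.* helpers here

set_option autoImplicit false
open Cfsg

namespace Cfsg.Agent.S1537

open Cfsg.Agent.Helper1.PF8

/-- a uniform description of `A(M)` -/
theorem typeA_desc {G : Type*} [Group G] [Finite G] (hG : Cfsg.IsMinSimpleOddOrder G)
    {M K₀ U₀ : Subgroup G} (hM : IsCoatom M) (hKU : Cfsg.IsSigmaDecomposition M K₀ U₀) :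
    ∃ B C : Subgroup G, M ≤ Subgroup.normalizer (B : Set G) ∧ M ≤ Subgroup.normalizer (C : Set G) ∧
      B ≤ M ∧ B ≤ U₀ ⊔ Cfsg.sigmaCore M ∧ C ≤ Cfsg.sigmaCore M ∧ Cfsg.typeCore M ≤ B ∧
      Cfsg.typeCore M ≤ C ∧ Cfsg.typeCore M ≠ ⊥ ∧
      M ≤ Subgroup.normalizer (Cfsg.typeCore M : Set G) ∧
      Cfsg.typeA M = {a | a ∈ B ∧ a ≠ 1 ∧ ∃ x ∈ C, x ≠ 1 ∧ a * x = x * a} := by
  classical
  have h1363 : ∀ K U : Subgroup G, Cfsg.IsSigmaDecomposition M K U → K ≠ ⊥ → U ≠ ⊥ →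
      ¬ Subgroup.normalizer (U : Set G) ≤ M :=
    fun K U hKU' hK _ => (Cfsg.Agent.S1363.result hG M hM K U hKU' hK).2
  obtain ⟨hF1, hFσ, hσM', -, -⟩ := Cfsg.Agent.Helper4.BG15.thm152a' hG hM
  have hσ1 := Cfsg.Agent.Lead.BG12.sigmaCore_ne_bot hG hM
  have hσM : Cfsg.sigmaCore M ≤ M := Cfsg.Agent.Lead.BG12.sigmaCore_le
  have hσn := Cfsg.Agent.Lead.BG12.le_normalizer_sigmaCore M
  have hFn := Cfsg.Agent.Helper2.CNMax.le_normalizer_fittingHallOf M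
  have hM'M : ⁅M, M⁆ ≤ M := Cfsg.Agent.Helper1.commutator_self_le M
  have hcore := Cfsg.Agent.Helper4.BG16.typeCore_eq hG hM h1363
  have hTσ : Cfsg.typeCore M ≤ Cfsg.sigmaCore M := by
    rcases hcore with h | h
    · rw [h]; exact hFσ
    · rw [h]
  have hT1 : Cfsg.typeCore M ≠ ⊥ := by
    rcases hcore with h | h
    · rw [h]; exact hF1
    · rw [h]; exact hσ1
  have hTn : M ≤ Subgroup.normalizer (Cfsg.typeCore M : Set G) := by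
    rcases hcore with h | h
    · rw [h]; exact hFn
    · rw [h]; exact hσn
  by_cases hI : Cfsg.IsOfTypeI M
  · obtain ⟨hK, -, hFeq⟩ := Cfsg.Agent.Helper3.BG16T.isOfTypeI_imp hG hM hKU hI
    have hUσ : U₀ ⊔ Cfsg.sigmaCore M = M :=
      Cfsg.Agent.Helper3.BG16T.U_sup_sigmaCore_eq (hK ▸ hKU)
    have hTF : Cfsg.typeCore M = Cfsg.fittingHallOf M := by
      rcases hcore with h | h
      · exact h
      · rw [h, hFeq]
    refine ⟨M, Cfsg.fittingHallOf M, Subgroup.le_normalizer, hFn, le_rfl, hUσ.ge, hFσ,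
      hTσ.trans hσM, hTF.le, hT1, hTn, ?_⟩
    rw [Cfsg.typeA, if_pos hI]
  · have hM'le : ⁅M, M⁆ ≤ U₀ ⊔ Cfsg.sigmaCore M := by
      by_cases hK : K₀ = ⊥
      · have hUσ : U₀ ⊔ Cfsg.sigmaCore M = M :=
          Cfsg.Agent.Helper3.BG16T.U_sup_sigmaCore_eq (hK ▸ hKU)
        rw [hUσ]; exact hM'M
      · rw [(Cfsg.Agent.S1365.result hG M hM K₀ U₀ hKU hK).1]
    refine ⟨⁅M, M⁆, Cfsg.typeCore M, Cfsg.Agent.Lead.BG12.le_normalizer_commutator_self M, hTn,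
      hM'M, hM'le, hTσ, hTσ.trans hσM', le_rfl, hT1, hTn, ?_⟩
    rw [Cfsg.typeA, if_neg hI]

/-- Let G be a minimal simple group of odd order and M a maximal subgroup. For A equal to A₁(M), A(M) or A₀(M): the set normaliser of A is M, and the Dade hypothesis holds for A, M and the function a ↦ R(a). -/
theorem result {G : Type*} [Group G] [Finite G] (hG : Cfsg.IsMinSimpleOddOrder G) (M : Subgroup G) (hM : IsCoatom M) (A : Set G) (hA : A = Cfsg.typeA1 M ∨ A = Cfsg.typeA M ∨ A = Cfsg.typeA0 M) : Subgroup.normalizer A = M ∧ Cfsg.DadeHypothesis A M (Cfsg.supportR M) := by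
  classical
  obtain ⟨K₀, U₀, hKU⟩ := Cfsg.Agent.Helper4.BG15.exists_sigmaDecomposition hG hM
  obtain ⟨B, C, hBn, hCn, hBM, hBU, hCσ, hTB, hTC, hT1, hTn, hAeq⟩ := typeA_desc hG hM hKU
  -- `A₁ ⊆ A ⊆ A₀ ⊆ D`
  have hA1A : Cfsg.typeA1 M ⊆ Cfsg.typeA M := by
    intro a ha
    rw [hAeq]
    exact ⟨hTB ha.1, ha.2, a, hTC ha.1, ha.2, rfl⟩
  have hAA0 : Cfsg.typeA M ⊆ Cfsg.typeA0 M := Set.subset_union_left
  have hAD : Cfsg.typeA M ⊆ bigD M U₀ := by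
    intro a ha
    rw [hAeq] at ha
    obtain ⟨haB, ha1, x, hx, hx1, hax⟩ := ha
    exact Or.inl ⟨⟨⟨hBM haB, x, hCσ hx, hx1, hax⟩, hBU haB⟩, ha1⟩
  have hA0D : Cfsg.typeA0 M ⊆ bigD M U₀ := by
    intro a ha
    rcases ha with ha | ⟨-, W₁, U, W₂, hP, m, hm, w, hw, hw1, hw2, hv⟩
    · exact hAD ha
    · exact Or.inr ⟨W₁, U, W₂, hP, m, hm, w, hw, hw1, hw2, hv⟩
  -- invariance
  have hinv1 : ∀ m ∈ M, ∀ a ∈ Cfsg.typeA1 M, m * a * m⁻¹ ∈ Cfsg.typeA1 M := by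
    intro m hm a ha
    exact ⟨(Subgroup.mem_normalizer_iff.mp (hTn hm) a).mp ha.1, fun h => ha.2 (conj_eq_one h)⟩
  have hinvA : ∀ m ∈ M, ∀ a ∈ Cfsg.typeA M, m * a * m⁻¹ ∈ Cfsg.typeA M := by
    intro m hm a ha
    rw [hAeq] at ha ⊢
    obtain ⟨haB, ha1, x, hx, hx1, hax⟩ := ha
    refine ⟨(Subgroup.mem_normalizer_iff.mp (hBn hm) a).mp haB, fun h => ha1 (conj_eq_one h),
      m * x * m⁻¹, (Subgroup.mem_normalizer_iff.mp (hCn hm) x).mp hx,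
      fun h => hx1 (conj_eq_one h), ?_⟩
    calc m * a * m⁻¹ * (m * x * m⁻¹) = m * (a * x) * m⁻¹ := by group
      _ = m * (x * a) * m⁻¹ := by rw [hax]
      _ = _ := by group
  have hinv0 : ∀ m ∈ M, ∀ a ∈ Cfsg.typeA0 M, m * a * m⁻¹ ∈ Cfsg.typeA0 M := by
    intro m hm a ha
    rcases ha with ha | ⟨hn, W₁, U, W₂, hP, m', hm', w, hw, hw1, hw2, rfl⟩
    · exact Or.inl (hinvA m hm a ha)
    · refine Or.inr ⟨hn, W₁, U, W₂, hP, m * m', M.mul_mem hm hm', w, hw, hw1, hw2, ?_⟩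
      group
  -- a non-identity element of `M_s ≤ M_σ`
  obtain ⟨⟨y, hyT⟩, hy1'⟩ := (Subgroup.ne_bot_iff_exists_ne_one).mp hT1
  have hy1 : y ≠ 1 := fun h => hy1' (Subtype.ext h)
  have hyA1 : y ∈ Cfsg.typeA1 M := ⟨hyT, hy1⟩
  have hyσ : y ∈ Cfsg.sigmaCore M := hCσ (hTC hyT)
  rcases hA with rfl | rfl | rfl
  · exact dade_of_subset hG hM hKU (hA1A.trans hAD) hinv1 ⟨y, hyA1, hyσ⟩
  · exact dade_of_subset hG hM hKU hAD hinvA ⟨y, hA1A hyA1, hyσ⟩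
  · exact dade_of_subset hG hM hKU hA0D hinv0 ⟨y, hAA0 (hA1A hyA1), hyσ⟩

end Cfsg.Agent.S1537
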