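import Mathlib
import Cfsg.Statements.S1545
import Cfsg.Agent.Helper3.FrobActE
import Cfsg.Agent.S1446
-- import your own Cfsg.Agent.* helpers here

set_option autoImplicit false
open Cfsg

namespace Cfsg.Agent.S1545

open Cfsg.Agent.Helper3.FrobActA Cfsg.Agent.Helper3.FrobActE

/-- Let X be a finite group with subgroups U, E and H such that U and E generate a subgroup UE = U ⊔ E normalising H, with U normal in UE, U ⊓ E = ⊥, U ≠ ⊥, E ≠ ⊥, every non-identity element of E commuting with no non-identity element of U (UE is a Frobenius group with kernel U acting on H by conjugation), H solvable, H ⊓ (U ⊔ E) = ⊥ and the orders of H and U ⊔ E coprime. Then Nat.card (H ⊓ C(U ⊔ E)) ^ Nat.card E * Nat.card H = Nat.card (H ⊓ C(E)) ^ Nat.card E * Nat.card (H ⊓ C(U)), where C(·) denotes the centraliser. -/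
theorem result {X : Type*} [Group X] [Finite X] (U E H : Subgroup X) (hU1 : U ≠ ⊥) (hE1 : E ≠ ⊥) (hUE : U ⊓ E = ⊥) (hUn : ∀ e ∈ E, ∀ u ∈ U, e * u * e⁻¹ ∈ U) (hfpf : ∀ e ∈ E, e ≠ 1 → ∀ u ∈ U, e * u = u * e → u = 1) (hHn : ∀ x ∈ U ⊔ E, ∀ h ∈ H, x * h * x⁻¹ ∈ H) (hdisj : H ⊓ (U ⊔ E) = ⊥) (hsolv : Group.IsSolvable H) (hcop : Nat.Coprime (Nat.card H) (Nat.card ↥(U ⊔ E))) : Nat.card ↥(H ⊓ Subgroup.centralizer ((U ⊔ E : Subgroup X) : Set X)) ^ Nat.card E * Nat.card H = Nat.card ↥(H ⊓ Subgroup.centralizer (E : Set X)) ^ Nat.card E * Nat.card ↥(H ⊓ Subgroup.centralizer (U : Set X)) := by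
  classical
  have hUL : U ≤ U ⊔ E := le_sup_left
  have hEL : E ≤ U ⊔ E := le_sup_right
  have hEU : E ≤ Subgroup.normalizer (U : Set X) := by
    intro e he
    rw [Subgroup.mem_normalizer_iff]
    intro u
    constructor
    · intro hu; exact hUn e he u hu
    · intro hu
      have := hUn e⁻¹ (E.inv_mem he) _ hu
      simpa [mul_assoc] using this
  have hLU : U ⊔ E ≤ Subgroup.normalizer (U : Set X) := sup_le Subgroup.le_normalizer hEU
  have hLH : U ⊔ E ≤ Subgroup.normalizer (H : Set X) := by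
    intro x hx
    rw [Subgroup.mem_normalizer_iff]
    intro h
    constructor
    · intro hh; exact hHn x hx h hh
    · intro hh
      have := hHn x⁻¹ ((U ⊔ E).inv_mem hx) _ hh
      simpa [mul_assoc] using this
  have hfrob : ∀ r ∈ E, r ≠ 1 → U ⊓ Subgroup.centralizer ({r} : Set X) = ⊥ := by
    intro r hr hr1
    rw [eq_bot_iff]
    rintro u ⟨hu, huc⟩
    rw [Subgroup.mem_bot]
    have h1 := (Subgroup.mem_centralizer_iff.mp huc) r rfl
    exact hfpf r hr hr1 u hu h1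
  have hUnil : Group.IsNilpotent U := Cfsg.Agent.S1446.nilpotent_of_fpf U E hU1 hE1 hEU hfrob
  set φ := Cfsg.Agent.S1446.conjAct H (U ⊔ E) hLH with hφ
  set F : Subgroup ↥(U ⊔ E) := U.subgroupOf (U ⊔ E) with hF
  set Hs : Subgroup ↥(U ⊔ E) := E.subgroupOf (U ⊔ E) with hHs
  haveI hFn : F.Normal := (Subgroup.normal_subgroupOf_iff_le_normalizer hUL).mpr hLU
  have hFnil : Group.IsNilpotent F :=
    (Group.isNilpotent_congr (Subgroup.subgroupOfEquivOfLe hUL)).mpr hUnil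
  have hfpf' : ∀ h ∈ Hs, h ≠ 1 → ∀ f ∈ F, h * f * h⁻¹ = f → f = 1 := by
    intro h hh h1 f hf hfix
    have hr : (h : X) ∈ E := Subgroup.mem_subgroupOf.mp hh
    have hr1 : (h : X) ≠ 1 := fun e => h1 (Subtype.ext e)
    have hfU : (f : X) ∈ U := Subgroup.mem_subgroupOf.mp hf
    have h2 := congrArg Subtype.val hfix
    simp only [Subgroup.coe_mul, Subgroup.coe_inv] at h2
    rw [mul_inv_eq_iff_eq_mul] at h2
    exact Subtype.ext (hfpf _ hr hr1 _ hfU h2)
  have hFH : F ⊔ Hs = ⊤ := by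
    rw [hF, hHs, ← Subgroup.subgroupOf_sup hUL hEL, Subgroup.subgroupOf_self]
  have hmain := card_fix_formula F Hs hFnil hfpf' hFH H φ hsolv hcop.symm
  have htop : (⊤ : Subgroup ↥(U ⊔ E)) = (U ⊔ E).subgroupOf (U ⊔ E) :=
    (Subgroup.subgroupOf_self _).symm
  rw [htop, Cfsg.Agent.S1446.card_fix_conjAct H (U ⊔ E) hLH (U ⊔ E) le_rfl,
    Cfsg.Agent.S1446.card_fix_conjAct H (U ⊔ E) hLH E hEL,
    Cfsg.Agent.S1446.card_fix_conjAct H (U ⊔ E) hLH U hUL,
    Nat.card_congr (Subgroup.subgroupOfEquivOfLe hEL).toEquiv] at hmain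
  exact hmain


end Cfsg.Agent.S1545
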