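import Cfsg.Statements.S1546
import Mathlib
-- import your own Cfsg.Agent.* helpers here

set_option autoImplicit false
open Cfsg

namespace Cfsg.Agent.S1546

/-- Let p and q be odd primes and N = (p ^ q − 1) / (p − 1) = 1 + p + ⋯ + p^(q−1). Then N is odd; if p ≡ 1 (mod q) then q ∣ N; and if p is not ≡ 1 (mod q) then N is coprime to p − 1 and every divisor of N is ≡ 1 (mod q). -/
theorem result (p q : ℕ) (hp : p.Prime) (hq : q.Prime) (hp2 : p ≠ 2) (hq2 : q ≠ 2) : Odd ((p ^ q - 1) / (p - 1)) ∧ (p % q = 1 → q ∣ (p ^ q - 1) / (p - 1)) ∧ (p % q ≠ 1 → Nat.Coprime ((p ^ q - 1) / (p - 1)) (p - 1) ∧ ∀ x : ℕ, x ∣ (p ^ q - 1) / (p - 1) → x % q = 1) := by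
  classical
  have hp2' : 2 ≤ p := hp.two_le
  have hq1 : 1 < q := hq.one_lt
  have hS : (p ^ q - 1) / (p - 1) = ∑ k ∈ Finset.range q, p ^ k := (Nat.geomSum_eq hp2' q).symm
  rw [hS]
  set S := ∑ k ∈ Finset.range q, p ^ k with hSdef
  have hpodd : Odd p := hp.odd_of_ne_two hp2
  have hqodd : Odd q := hq.odd_of_ne_two hq2
  -- casting S
  have hcast : ∀ m : ℕ, (S : ZMod m) = ∑ k ∈ Finset.range q, (p : ZMod m) ^ k := by
    intro m
    rw [hSdef]; push_cast; rfl
  -- if p ≡ 1 mod m then S ≡ q mod m
  have hcong : ∀ m : ℕ, (p : ZMod m) = 1 → (S : ZMod m) = (q : ZMod m) := by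
    intro m hm
    rw [hcast, hm]
    simp
  -- (p - 1) * S + 1 = p ^ q
  have hmain : (p - 1) * S + 1 = p ^ q := by
    have h1 : (p - 1) * S = p ^ q - 1 := by
      rw [← hS]
      exact Nat.mul_div_cancel' (Nat.sub_one_dvd_pow_sub_one p q)
    rw [h1]
    exact Nat.sub_add_cancel (Nat.one_le_pow _ _ hp.pos)
  -- a prime r dividing both S and p - 1 is q and forces p ≡ 1 mod q
  have hprime_dvd : ∀ r : ℕ, r.Prime → r ∣ S → (p : ZMod r) = 1 → p % q = 1 := by
    intro r hr hrS hpr
    have h1 := hcong r hpr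
    rw [(ZMod.natCast_eq_zero_iff S r).mpr hrS] at h1
    have hrq : r ∣ q := (ZMod.natCast_eq_zero_iff q r).mp h1.symm
    have hrq' : r = q := (Nat.prime_dvd_prime_iff_eq hr hq).mp hrq
    subst hrq'
    have := (ZMod.natCast_eq_natCast_iff' p 1 r).mp (by simpa using hpr)
    rw [this, Nat.mod_eq_of_lt hq1]
  refine ⟨?_, ?_, ?_⟩
  · rw [← ZMod.natCast_eq_one_iff_odd, hcong 2 (ZMod.natCast_eq_one_iff_odd.mpr hpodd)]
    exact ZMod.natCast_eq_one_iff_odd.mpr hqodd
  · intro hpq
    have hp1 : (p : ZMod q) = 1 := by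
      have := (ZMod.natCast_eq_natCast_iff' p 1 q).mpr (by rw [hpq, Nat.mod_eq_of_lt hq1])
      simpa using this
    have := hcong q hp1
    rw [ZMod.natCast_self] at this
    exact (ZMod.natCast_eq_zero_iff S q).mp this
  · intro hpq
    -- every prime divisor of S is ≡ 1 mod q
    have hprime : ∀ r : ℕ, r.Prime → r ∣ S → r % q = 1 := by
      intro r hr hrS
      haveI : Fact r.Prime := ⟨hr⟩
      have hpow : (p : ZMod r) ^ q = 1 := by
        have h1 := congrArg (fun n : ℕ => (n : ZMod r)) hmain
        simp only [Nat.cast_add, Nat.cast_mul, Nat.cast_one, Nat.cast_pow] at h1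
        rw [(ZMod.natCast_eq_zero_iff S r).mpr hrS, mul_zero, zero_add] at h1
        exact h1.symm
      have hpne : (p : ZMod r) ≠ 0 := by
        intro h0
        rw [h0, zero_pow hq.ne_zero] at hpow
        exact zero_ne_one hpow
      let u : (ZMod r)ˣ := Units.mk0 (p : ZMod r) hpne
      have hu : u ^ q = 1 := by
        apply Units.ext
        simp [u, hpow]
      have hord : orderOf u ∣ q := orderOf_dvd_of_pow_eq_one hu
      rcases (Nat.dvd_prime hq).mp hord with h1 | h1
      · exfalso
        have hu1 : u = 1 := orderOf_eq_one_iff.mp h1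
        have hp1 : (p : ZMod r) = 1 := by
          have := congrArg (fun t : (ZMod r)ˣ => (t : ZMod r)) hu1
          simpa [u] using this
        exact hpq (hprime_dvd r hr hrS hp1)
      · have hdvd : q ∣ r - 1 := by
          rw [← h1, ← ZMod.card_units r]
          exact orderOf_dvd_card
        obtain ⟨k, hk⟩ := hdvd
        have hr1 : r = 1 + q * k := by
          have := hr.one_le
          omega
        rw [hr1, Nat.add_mul_mod_self_left, Nat.mod_eq_of_lt hq1]
    refine ⟨?_, ?_⟩
    · apply Nat.Coprime.symm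
      apply Nat.coprime_of_dvd
      intro r hr hr1 hr2
      -- r ∣ p - 1 and r ∣ S
      have hp1 : (p : ZMod r) = 1 := by
        have h3 : ((p - 1 : ℕ) : ZMod r) = 0 := (ZMod.natCast_eq_zero_iff _ _).mpr hr1
        rw [Nat.cast_sub hp.one_le, Nat.cast_one, sub_eq_zero] at h3
        exact h3
      exact hpq (hprime_dvd r hr hr2 hp1)
    · intro x
      induction x using Nat.strong_induction_on with
      | _ x ih =>
      intro hx
      by_cases hx1 : x = 1
      · rw [hx1, Nat.mod_eq_of_lt hq1]
      have hr := Nat.minFac_prime hx1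
      have hrx := Nat.minFac_dvd x
      obtain ⟨y, hy⟩ := hrx
      have hxpos : 0 < x := by
        rcases Nat.eq_zero_or_pos x with h0 | h0
        · exfalso
          rw [h0, zero_dvd_iff] at hx
          have : 0 < S := by
            rw [hSdef]
            apply Finset.sum_pos
            · intro i _; exact Nat.pow_pos hp.pos
            · exact ⟨0, Finset.mem_range.mpr hq.pos⟩
          omega
        · exact h0
      have hypos : 0 < y := by
        rcases Nat.eq_zero_or_pos y with h0 | h0
        · rw [h0, mul_zero] at hy; omega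
        · exact h0
      have hylt : y < x := by
        have h2 := hr.two_le
        nlinarith
      have hyS : y ∣ S := (Dvd.intro_left _ hy.symm).trans hx
      have h1 := ih y hylt hyS
      have h2 := hprime _ hr ((Dvd.intro _ hy.symm).trans hx)
      rw [hy, Nat.mul_mod, h1, h2, Nat.mod_eq_of_lt hq1]

end Cfsg.Agent.S1546
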