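import Cfsg.Statements.S1553
import Cfsg.Agent.Helper9.Golay.OctA8

set_option autoImplicit false
open scoped Pointwise
open Cfsg

namespace Cfsg.Agent.S1553

/-- The stabiliser of an octad in the group of the length-24 code induces on the octad exactly its alternating group. -/
theorem result (o : Finset Cfsg.GolayPt) (ho : o ∈ Cfsg.octads) : {e : Equiv.Perm ↥o | ∃ g : Equiv.Perm Cfsg.GolayPt, g ∈ Cfsg.M24 ∧ ∃ h : (∀ x, g x ∈ o ↔ x ∈ o), g.subtypePerm h = e} = (alternatingGroup ↥o : Set (Equiv.Perm ↥o)) := by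
  classical
  have hr := Cfsg.Agent.Helper9.Golay.range_rhoO ho
  apply Set.ext
  intro e
  constructor
  · rintro ⟨g, hg, h, rfl⟩
    have hgo : g • o = o := by
      apply Finset.eq_of_subset_of_card_le
      · intro q hq
        obtain ⟨p, hp, rfl⟩ := Finset.mem_smul_finset.mp hq
        exact (h p).mpr hp
      · rw [Cfsg.Agent.Helper9.Golay.card_smul_finset]
    rw [SetLike.mem_coe, ← hr]
    exact ⟨⟨g, Subgroup.mem_inf.mpr ⟨hg, hgo⟩⟩, rfl⟩
  · intro he
    rw [SetLike.mem_coe, ← hr] at he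
    obtain ⟨g, rfl⟩ := he
    exact ⟨g.1, (Subgroup.mem_inf.mp g.2).1,
      fun x => Cfsg.Agent.Helper9.Golay.apply_mem_iff_of_smul_eq (Subgroup.mem_inf.mp g.2).2 x, rfl⟩

end Cfsg.Agent.S1553
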