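import Cfsg.Statements.S1554
import Cfsg.Agent.Helper9.Golay.OctA8

set_option autoImplicit false
open scoped Pointwise
open Cfsg

namespace Cfsg.Agent.S1554

/-- An octad stabiliser is a split extension: the joint stabiliser of the octad and a point outside it is a complement to the pointwise stabiliser of the octad, and is isomorphic to the alternating group of degree 8. -/
theorem result (o : Finset Cfsg.GolayPt) (ho : o ∈ Cfsg.octads) (p : Cfsg.GolayPt) (hp : p ∉ o) : (Cfsg.M24 ⊓ fixingSubgroup (Equiv.Perm Cfsg.GolayPt) (o : Set Cfsg.GolayPt)) ⊓ (Cfsg.M24 ⊓ MulAction.stabilizer (Equiv.Perm Cfsg.GolayPt) o ⊓ MulAction.stabilizer (Equiv.Perm Cfsg.GolayPt) p) = ⊥ ∧ (Cfsg.M24 ⊓ fixingSubgroup (Equiv.Perm Cfsg.GolayPt) (o : Set Cfsg.GolayPt)) ⊔ (Cfsg.M24 ⊓ MulAction.stabilizer (Equiv.Perm Cfsg.GolayPt) o ⊓ MulAction.stabilizer (Equiv.Perm Cfsg.GolayPt) p) = (Cfsg.M24 ⊓ MulAction.stabilizer (Equiv.Perm Cfsg.GolayPt) o) ∧ Nonempty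 (↥(Cfsg.M24 ⊓ MulAction.stabilizer (Equiv.Perm Cfsg.GolayPt) o ⊓ MulAction.stabilizer (Equiv.Perm Cfsg.GolayPt) p) ≃* alternatingGroup (Fin 8)) := by
  classical
  have key : ∀ g ∈ Cfsg.M24 ⊓ MulAction.stabilizer (Equiv.Perm Cfsg.GolayPt) o,
      ∃ k ∈ Cfsg.Agent.Helper9.Golay.KO o,
        k * g ∈ Cfsg.M24 ⊓ MulAction.stabilizer (Equiv.Perm Cfsg.GolayPt) o ⊓
          MulAction.stabilizer (Equiv.Perm Cfsg.GolayPt) p := by
    intro g hg
    obtain ⟨hgM, hgo⟩ := Subgroup.mem_inf.mp hg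
    have hgo' : g • o = o := hgo
    have hgp : g p ∉ o := fun h =>
      hp ((Cfsg.Agent.Helper9.Golay.apply_mem_iff_of_smul_eq hgo' p).mp h)
    obtain ⟨k, hk, hkp⟩ := Cfsg.Agent.Helper9.Golay.KO_trans ho hgp hp
    refine ⟨k, hk, ?_⟩
    have hkG := Cfsg.Agent.Helper9.Golay.KO_le_GO o hk
    refine Subgroup.mem_inf.mpr ⟨mul_mem hkG hg, ?_⟩
    rw [MulAction.mem_stabilizer_iff, mul_smul]
    exact hkp
  refine ⟨?_, ?_, ?_⟩
  · rw [eq_bot_iff]
    intro x hx
    obtain ⟨h1, h2⟩ := Subgroup.mem_inf.mp hx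
    have hxp : x p = p := (Subgroup.mem_inf.mp h2).2
    rw [Subgroup.mem_bot]
    exact Cfsg.Agent.Helper9.Golay.KO_regular ho h1 hp hxp
  · apply le_antisymm
    · exact sup_le (Cfsg.Agent.Helper9.Golay.KO_le_GO o) inf_le_left
    · intro g hg
      obtain ⟨k, hk, hkg⟩ := key g hg
      have : g = k⁻¹ * (k * g) := by group
      rw [this]
      exact Subgroup.mul_mem_sup (inv_mem hk) hkg
  · have hCG : Cfsg.M24 ⊓ MulAction.stabilizer (Equiv.Perm Cfsg.GolayPt) o ⊓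
        MulAction.stabilizer (Equiv.Perm Cfsg.GolayPt) p ≤ Cfsg.Agent.Helper9.Golay.GO o :=
      inf_le_left
    let ψ := (Cfsg.Agent.Helper9.Golay.rhoO o).comp (Subgroup.inclusion hCG)
    have hinj : Function.Injective ψ := by
      rw [injective_iff_map_eq_one]
      intro x hx
      have h1 : (Subgroup.inclusion hCG x) ∈ (Cfsg.Agent.Helper9.Golay.rhoO o).ker := hx
      rw [Cfsg.Agent.Helper9.Golay.mem_ker_rhoO] at h1
      have : x.1 = 1 :=
        Cfsg.Agent.Helper9.Golay.KO_regular ho h1 hp (Subgroup.mem_inf.mp x.2).2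
      exact Subtype.ext this
    have hrange : ψ.range = alternatingGroup ↥o := by
      rw [← Cfsg.Agent.Helper9.Golay.range_rhoO ho]
      apply le_antisymm
      · rintro _ ⟨x, rfl⟩
        exact ⟨Subgroup.inclusion hCG x, rfl⟩
      · rintro _ ⟨g, rfl⟩
        obtain ⟨k, hk, hkg⟩ := key g.1 g.2
        refine ⟨⟨k * g.1, hkg⟩, ?_⟩
        apply Equiv.ext
        intro x
        apply Subtype.ext
        change (k * g.1) x.1 = g.1 x.1
        rw [Equiv.Perm.mul_apply]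
        apply (Cfsg.Agent.Helper9.Golay.mem_KO_iff.mp hk).2
        exact (Cfsg.Agent.Helper9.Golay.apply_mem_iff_of_smul_eq
          (Subgroup.mem_inf.mp g.2).2 x.1).mpr x.2
    exact ⟨((MonoidHom.ofInjective hinj).trans (MulEquiv.subgroupCongr hrange)).trans
      (Equiv.altCongrHom (o.equivFinOfCardEq ho.2))⟩

end Cfsg.Agent.S1554
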