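import Cfsg.Statements.S1560
import Cfsg.Agent.Helper9.Golay.Inter

set_option autoImplicit false
open scoped Pointwise
open Cfsg

namespace Cfsg.Agent.S1560

/-- Intersection numbers of dodecads: a dodecad meets every other dodecad in 0, 4, 6 or 8 points, meeting 495 of them in 4 points, 1584 in 6 points and 495 in 8 points. -/
theorem result (d : Finset Cfsg.GolayPt) (hd : d ∈ Cfsg.dodecads) : (∀ d' ∈ Cfsg.dodecads, d' ≠ d → (d ∩ d').card = 0 ∨ (d ∩ d').card = 4 ∨ (d ∩ d').card = 6 ∨ (d ∩ d').card = 8) ∧ {d' : Finset Cfsg.GolayPt | d' ∈ Cfsg.dodecads ∧ (d ∩ d').card = 4}.ncard = 495 ∧ {d' : Finset Cfsg.GolayPt | d' ∈ Cfsg.dodecads ∧ (d ∩ d').card = 6}.ncard = 1584 ∧ {d' : Finset Cfsg.GolayPt | d' ∈ Cfsg.dodecads ∧ (d ∩ d').card = 8}.ncard = 495 := by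
  open Cfsg.Agent.Helper9.Golay in
  refine ⟨?_, ?_, ?_, ?_⟩
  · intro d' hd' hne
    obtain ⟨a, ha, ha12, rfl⟩ := (mem_dodecads_iff d).mp hd
    obtain ⟨b, hb, hb12, rfl⟩ := (mem_dodecads_iff d').mp hd'
    have hab : a ≠ b := by
      intro h; apply hne; rw [h]
    rw [suppM_inter, card_suppM]
    have h1 := popc_xor a b
    have h2 := eight_le_popc_xor ha hb hab
    rcases popc_mem_codeList (xor_mem_codeList ha hb) with h | h | h | h | h <;> omega
  · have h := ncard_inter_dodecad 12 4 hd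
    have e : {d' : Finset Cfsg.GolayPt | d' ∈ Cfsg.dodecads ∧ (d ∩ d').card = 4}
        = {o : Finset Cfsg.GolayPt | o ∈ Cfsg.wordsOfWeight (Cfsg.golayCode : Set (Cfsg.GolayPt → ZMod 2)) 12 ∧
          (o ∩ d).card = 4} := by
      ext x; simp only [Set.mem_setOf_eq, Finset.inter_comm]; rfl
    rw [e, h]
    exact dod_dod0_4
  · have h := ncard_inter_dodecad 12 6 hd
    have e : {d' : Finset Cfsg.GolayPt | d' ∈ Cfsg.dodecads ∧ (d ∩ d').card = 6}
        = {o : Finset Cfsg.GolayPt | o ∈ Cfsg.wordsOfWeight (Cfsg.golayCode : Set (Cfsg.GolayPt → ZMod 2)) 12 ∧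
          (o ∩ d).card = 6} := by
      ext x; simp only [Set.mem_setOf_eq, Finset.inter_comm]; rfl
    rw [e, h]
    exact dod_dod0_6
  · have h := ncard_inter_dodecad 12 8 hd
    have e : {d' : Finset Cfsg.GolayPt | d' ∈ Cfsg.dodecads ∧ (d ∩ d').card = 8}
        = {o : Finset Cfsg.GolayPt | o ∈ Cfsg.wordsOfWeight (Cfsg.golayCode : Set (Cfsg.GolayPt → ZMod 2)) 12 ∧
          (o ∩ d).card = 8} := by
      ext x; simp only [Set.mem_setOf_eq, Finset.inter_comm]; rfl
    rw [e, h]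
    exact dod_dod0_8

end Cfsg.Agent.S1560
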