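import Cfsg.Statements.S1563
import Cfsg.Agent.Helper9.Coatom
import Cfsg.Agent.Helper9.Golay.SetTrans

set_option autoImplicit false
open scoped Pointwise
open Cfsg

namespace Cfsg.Agent.S1563

/-- The stabiliser of a pair of points (setwise) is a maximal proper subgroup of the group of the length-24 code. -/
theorem result (s : Finset Cfsg.GolayPt) (hs : s.card = 2) : IsCoatom (MulAction.stabilizer Cfsg.M24 s) := by
  classical
  have horb : MulAction.orbit Cfsg.M24 s = {t | t.card = 2} := by
    rw [Cfsg.Agent.Helper9.Golay.orbit_M24_eq s (by omega), hs]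
  apply Cfsg.Agent.Helper9.isCoatom_stabilizer_of_suborbits' s (fun y => (s ∩ y).card)
    ({0, 1} : Finset ℕ) (fun v => if v = 0 then 231 else 44)
  · decide
  · intro y hy z hz hc
    rw [horb] at hy hz
    have hy' : y.card = 2 := hy
    have hz' : z.card = 2 := hz
    obtain ⟨g, hg, hgs, hgy⟩ := Cfsg.Agent.Helper9.Golay.m24_map_pair s y z
      (by
        have := Finset.card_union_le s y
        omega) (by rw [hy', hz']) hc
    exact ⟨⟨g, hg⟩, hgs, hgy⟩
  · intro y hy hne
    rw [horb] at hy
    have hy' : y.card = 2 := hy
    have h1 : (s ∩ y).card ≤ 2 := by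
      have := Finset.card_le_card (Finset.inter_subset_left : s ∩ y ⊆ s)
      omega
    have h2 : (s ∩ y).card ≠ 2 := by
      intro h
      have e1 : s ∩ y = s := Finset.eq_of_subset_of_card_le Finset.inter_subset_left (by omega)
      have e2 : s ∩ y = y := Finset.eq_of_subset_of_card_le Finset.inter_subset_right (by omega)
      exact hne (e2.symm.trans e1)
    simp only [Finset.mem_insert, Finset.mem_singleton]
    omega
  · rw [Finset.inter_self, hs]
    decide
  · intro v hv
    rw [horb]
    have h := Cfsg.Agent.Helper9.Golay.ncard_inter_eq s 2 v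
    simp only [Finset.mem_insert, Finset.mem_singleton] at hv
    rcases hv with rfl | rfl
    · have h' := h (by omega)
      rw [hs] at h'
      exact h'
    · have h' := h (by omega)
      rw [hs] at h'
      exact h'
  · decide

end Cfsg.Agent.S1563
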