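import Cfsg.Statements.S1585
import Cfsg.Agent.Helper9.Leech.Pair3

set_option autoImplicit false
open Cfsg

namespace Cfsg.Agent.S1585

/-- Two vectors of customary norm 6 with inner product −4 are exchanged by some automorphism of the lattice. -/
theorem result (v w : ↥Cfsg.leechLattice) (hv : Cfsg.sqNorm (v : Cfsg.GolayPt → ℤ) = 48) (hw : Cfsg.sqNorm (w : Cfsg.GolayPt → ℤ) = 48) (hvw : Cfsg.dotInt (v : Cfsg.GolayPt → ℤ) (w : Cfsg.GolayPt → ℤ) = -32) : ∃ g : ↥Cfsg.Co0, g • v = w ∧ g • w = v := by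
  have hsym : Cfsg.dotInt (w : Cfsg.GolayPt → ℤ) (v : Cfsg.GolayPt → ℤ) = -32 := by
    rw [← hvw]
    unfold Cfsg.dotInt
    exact Finset.sum_congr rfl (fun i _ => mul_comm _ _)
  have hx : Cfsg.sqNorm ((0 - v - w : ↥Cfsg.leechLattice) : Cfsg.GolayPt → ℤ) = 32 := by
    have e : ((0 - v - w : ↥Cfsg.leechLattice) : Cfsg.GolayPt → ℤ) =
        (0 - (v : Cfsg.GolayPt → ℤ)) - (w : Cfsg.GolayPt → ℤ) := rfl
    rw [e, Cfsg.Agent.Helper9.Leech.sqNorm_sub', Cfsg.Agent.Helper9.Leech.sqNorm_sub', hv, hw]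
    have e0 : Cfsg.sqNorm (0 : Cfsg.GolayPt → ℤ) = 0 := by
      unfold Cfsg.sqNorm
      simp
    have e1 : Cfsg.dotInt (0 : Cfsg.GolayPt → ℤ) (v : Cfsg.GolayPt → ℤ) = 0 := by
      unfold Cfsg.dotInt
      simp
    have e2 : Cfsg.dotInt ((0 : Cfsg.GolayPt → ℤ) - (v : Cfsg.GolayPt → ℤ))
        (w : Cfsg.GolayPt → ℤ) = 32 := by
      have : Cfsg.dotInt ((0 : Cfsg.GolayPt → ℤ) - (v : Cfsg.GolayPt → ℤ))
          (w : Cfsg.GolayPt → ℤ) = - Cfsg.dotInt (v : Cfsg.GolayPt → ℤ) (w : Cfsg.GolayPt → ℤ) := by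
        unfold Cfsg.dotInt
        rw [← Finset.sum_neg_distrib]
        apply Finset.sum_congr rfl
        intro i _
        rw [Pi.sub_apply, Pi.zero_apply]
        ring
      rw [this, hvw]
      norm_num
    rw [e0, e1, e2]
    norm_num
  have hdv : Cfsg.dotInt ((0 - v - w : ↥Cfsg.leechLattice) : Cfsg.GolayPt → ℤ)
      (v : Cfsg.GolayPt → ℤ) = -16 := by
    have e : ((0 - v - w : ↥Cfsg.leechLattice) : Cfsg.GolayPt → ℤ) =
        (0 - (v : Cfsg.GolayPt → ℤ)) - (w : Cfsg.GolayPt → ℤ) := rfl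
    have : Cfsg.dotInt ((0 - (v : Cfsg.GolayPt → ℤ)) - (w : Cfsg.GolayPt → ℤ))
        (v : Cfsg.GolayPt → ℤ) = - Cfsg.sqNorm (v : Cfsg.GolayPt → ℤ)
          - Cfsg.dotInt (w : Cfsg.GolayPt → ℤ) (v : Cfsg.GolayPt → ℤ) := by
      unfold Cfsg.dotInt Cfsg.sqNorm
      rw [← Finset.sum_neg_distrib, ← Finset.sum_sub_distrib]
      apply Finset.sum_congr rfl
      intro i _
      rw [Pi.sub_apply, Pi.sub_apply, Pi.zero_apply]
      ring
    rw [e, this, hv, hsym]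
    norm_num
  have hdw : Cfsg.dotInt ((0 - v - w : ↥Cfsg.leechLattice) : Cfsg.GolayPt → ℤ)
      (w : Cfsg.GolayPt → ℤ) = -16 := by
    have e : ((0 - v - w : ↥Cfsg.leechLattice) : Cfsg.GolayPt → ℤ) =
        (0 - (v : Cfsg.GolayPt → ℤ)) - (w : Cfsg.GolayPt → ℤ) := rfl
    have : Cfsg.dotInt ((0 - (v : Cfsg.GolayPt → ℤ)) - (w : Cfsg.GolayPt → ℤ))
        (w : Cfsg.GolayPt → ℤ) = - Cfsg.dotInt (v : Cfsg.GolayPt → ℤ) (w : Cfsg.GolayPt → ℤ)
          - Cfsg.sqNorm (w : Cfsg.GolayPt → ℤ) := by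
      unfold Cfsg.dotInt Cfsg.sqNorm
      rw [← Finset.sum_neg_distrib, ← Finset.sum_sub_distrib]
      apply Finset.sum_congr rfl
      intro i _
      rw [Pi.sub_apply, Pi.sub_apply, Pi.zero_apply]
      ring
    rw [e, this, hw, hvw]
    norm_num
  obtain ⟨g, hg1, hg2⟩ := Cfsg.Agent.Helper9.Leech.trans_pair3 (0 - v - w) v w hx hv hw hdv hdw
  refine ⟨g, hg2, ?_⟩
  have h0 : g • (0 : ↥Cfsg.leechLattice) = 0 := by
    have h := Cfsg.Agent.Helper9.Leech.smul_sub' g v v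
    rw [sub_self, sub_self] at h
    exact h
  rw [Cfsg.Agent.Helper9.Leech.smul_sub', Cfsg.Agent.Helper9.Leech.smul_sub', h0, hg2] at hg1
  have : g • w = (0 - w) - ((0 - w) - g • w) := by abel
  rw [this, hg1]
  abel

end Cfsg.Agent.S1585
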