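import Cfsg.Statements.S1587


set_option autoImplicit false
open Matrix
open Cfsg

namespace Cfsg.Agent.S1587

/-- First step of the characterisation of the rank-24 lattice: in an even lattice without roots, norm-8 vectors congruent modulo 2 are equal, opposite or orthogonal. -/
theorem result (B : Matrix (Fin 24) (Fin 24) ℤ) (hsymm : B.IsSymm) (hpos : ∀ x : Fin 24 → ℤ, x ≠ 0 → 0 < x ⬝ᵥ (B *ᵥ x)) (heven : ∀ x : Fin 24 → ℤ, (2 : ℤ) ∣ x ⬝ᵥ (B *ᵥ x)) (h2 : ∀ x : Fin 24 → ℤ, x ⬝ᵥ (B *ᵥ x) ≠ 2) (x y : Fin 24 → ℤ) (hx : x ⬝ᵥ (B *ᵥ x) = 8) (hy : y ⬝ᵥ (B *ᵥ y) = 8) (hc : ∀ i, (2 : ℤ) ∣ (x - y) i) : y = x ∨ y = -x ∨ x ⬝ᵥ (B *ᵥ y) = 0 := by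
  -- symmetry of the bilinear form
  have hsym : ∀ u v : Fin 24 → ℤ, u ⬝ᵥ (B *ᵥ v) = v ⬝ᵥ (B *ᵥ u) := by
    intro u v
    rw [Matrix.dotProduct_mulVec, ← Matrix.mulVec_transpose, hsymm.eq, dotProduct_comm]
  -- the half difference
  obtain ⟨d, hd⟩ : ∃ d : Fin 24 → ℤ, x = y + (2 : ℤ) • d := by
    refine ⟨fun i => (x - y) i / 2, ?_⟩
    funext i
    have := hc i
    simp only [Pi.sub_apply, Pi.add_apply, Pi.smul_apply, smul_eq_mul] at this ⊢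
    omega
  -- quadratic expansion
  have hQ : ∀ u v : Fin 24 → ℤ, (u + v) ⬝ᵥ (B *ᵥ (u + v))
      = u ⬝ᵥ (B *ᵥ u) + 2 * (u ⬝ᵥ (B *ᵥ v)) + v ⬝ᵥ (B *ᵥ v) := by
    intro u v
    rw [Matrix.mulVec_add, add_dotProduct, dotProduct_add, dotProduct_add, hsym v u]
    ring
  have hQ2 : ((2 : ℤ) • d) ⬝ᵥ (B *ᵥ ((2 : ℤ) • d)) = 4 * (d ⬝ᵥ (B *ᵥ d)) := by
    rw [Matrix.mulVec_smul, smul_dotProduct, dotProduct_smul]
    simp only [smul_eq_mul]
    ring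
  have hyd2 : y ⬝ᵥ (B *ᵥ ((2 : ℤ) • d)) = 2 * (y ⬝ᵥ (B *ᵥ d)) := by
    rw [Matrix.mulVec_smul, dotProduct_smul]
    simp only [smul_eq_mul]
  have h1 : y ⬝ᵥ (B *ᵥ d) = - (d ⬝ᵥ (B *ᵥ d)) := by
    have := hQ y ((2 : ℤ) • d)
    rw [← hd, hx, hy, hQ2, hyd2] at this
    omega
  have hb : x ⬝ᵥ (B *ᵥ y) = 8 - 2 * (d ⬝ᵥ (B *ᵥ d)) := by
    rw [hd, add_dotProduct, hy, smul_dotProduct, hsym d y, h1]
    simp only [smul_eq_mul]
    ring
  have h3 : (y + d) ⬝ᵥ (B *ᵥ (y + d)) = 8 - d ⬝ᵥ (B *ᵥ d) := by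
    rw [hQ y d, hy, h1]
    ring
  -- values of the form on the two half vectors
  have hval : ∀ u : Fin 24 → ℤ, u = 0 ∨ 4 ≤ u ⬝ᵥ (B *ᵥ u) := by
    intro u
    by_cases hu : u = 0
    · exact Or.inl hu
    · right
      have p1 := hpos u hu
      have p2 := heven u
      have p3 := h2 u
      omega
  rcases hval d with hd0 | hd4
  · left
    rw [hd, hd0]
    simp
  · rcases hval (y + d) with hs0 | hs4
    · right; left
      have : d = -y := by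
        rw [eq_neg_iff_add_eq_zero, add_comm]
        exact hs0
      rw [hd, this]
      funext i
      simp only [Pi.neg_apply, Pi.add_apply, Pi.smul_apply, smul_eq_mul]
      ring
    · right; right
      rw [hb]
      rw [h3] at hs4
      have := heven d
      omega

end Cfsg.Agent.S1587
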