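import Cfsg.Statements.S1590
import Cfsg.Agent.Helper7.TernaryGolay

set_option autoImplicit false
open Cfsg

namespace Cfsg.Agent.S1590

open Cfsg.Agent.Helper7.TernaryGolay

set_option maxRecDepth 100000 in
theorem weights : ∀ c : Fin 6 → ZMod 3, enc c ≠ 0 →
    (ternarySupport (enc c)).card = 6 ∨ (ternarySupport (enc c)).card = 9 ∨
      (ternarySupport (enc c)).card = 12 := by
  decide +kernel

set_option maxRecDepth 100000 in
theorem cnt6 : (Finset.univ.filter fun c : Fin 6 → ZMod 3 =>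
    (ternarySupport (enc c)).card = 6).card = 264 := by
  decide +kernel

set_option maxRecDepth 100000 in
theorem cnt9 : (Finset.univ.filter fun c : Fin 6 → ZMod 3 =>
    (ternarySupport (enc c)).card = 9).card = 440 := by
  decide +kernel

set_option maxRecDepth 100000 in
theorem cnt12 : (Finset.univ.filter fun c : Fin 6 → ZMod 3 =>
    (ternarySupport (enc c)).card = 12).card = 24 := by
  decide +kernel

theorem ncard_weight (w : ℕ) :
    {x : ArrayPt → ZMod 3 | x ∈ ternaryGolayCode ∧ (ternarySupport x).card = w}.ncard =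
      (Finset.univ.filter fun c : Fin 6 → ZMod 3 => (ternarySupport (enc c)).card = w).card := by
  have h : {x : ArrayPt → ZMod 3 | x ∈ ternaryGolayCode ∧ (ternarySupport x).card = w} =
      enc '' ((Finset.univ.filter fun c : Fin 6 → ZMod 3 =>
        (ternarySupport (enc c)).card = w) : Finset (Fin 6 → ZMod 3)) := by
    ext x
    simp only [Set.mem_ofPred_eq, Set.mem_image, Finset.coe_filter, Finset.mem_univ, true_and]
    constructor
    · rintro ⟨hx, hw⟩
      obtain ⟨c, rfl⟩ := (mem_iff x).1 hx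
      exact ⟨c, hw, rfl⟩
    · rintro ⟨c, hw, rfl⟩
      exact ⟨(mem_iff _).2 ⟨c, rfl⟩, hw⟩
  rw [h, Set.ncard_image_of_injective _ enc_injective, Set.ncard_coe_finset]

/-- The length-12 ternary code has 729 words with weight distribution 0^1 6^264 9^440 12^24. -/
theorem result : Nat.card ↥Cfsg.ternaryGolayCode = 729 ∧ (∀ x ∈ Cfsg.ternaryGolayCode, x ≠ 0 → (Cfsg.ternarySupport x).card = 6 ∨ (Cfsg.ternarySupport x).card = 9 ∨ (Cfsg.ternarySupport x).card = 12) ∧ {x : Cfsg.ArrayPt → ZMod 3 | x ∈ Cfsg.ternaryGolayCode ∧ (Cfsg.ternarySupport x).card = 6}.ncard = 264 ∧ {x : Cfsg.ArrayPt → ZMod 3 | x ∈ Cfsg.ternaryGolayCode ∧ (Cfsg.ternarySupport x).card = 9}.ncard = 440 ∧ {x : Cfsg.ArrayPt → ZMod 3 | x ∈ Cfsg.ternaryGolayCode ∧ (Cfsg.ternarySupport x).card = 12}.ncard = 24 := by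
  refine ⟨card_code, ?_, ?_, ?_, ?_⟩
  · intro x hx hx0
    obtain ⟨c, rfl⟩ := (mem_iff x).1 hx
    exact weights c hx0
  · rw [ncard_weight, cnt6]
  · rw [ncard_weight, cnt9]
  · rw [ncard_weight, cnt12]

end Cfsg.Agent.S1590
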