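import Cfsg.Statements.S1591
import Cfsg.Agent.Helper7.TernaryGolay

set_option autoImplicit false
open Cfsg

namespace Cfsg.Agent.S1591

open Cfsg.Agent.Helper7.TernaryGolay

/-- Any two words of the length-12 ternary code have dot product zero. -/
theorem result (x y : Cfsg.ArrayPt → ZMod 3) (hx : x ∈ Cfsg.ternaryGolayCode) (hy : y ∈ Cfsg.ternaryGolayCode) : ∑ p, x p * y p = 0 := by
  obtain ⟨hx5, hx7, hx8, hx9, hx10, hx11⟩ := parity x hx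
  obtain ⟨hy5, hy7, hy8, hy9, hy10, hy11⟩ := parity y hy
  rw [Fintype.sum_prod_type]
  simp only [Fin.sum_univ_four, sum_zmod3]
  rw [hx5, hx7, hx8, hx9, hx10, hx11, hy5, hy7, hy8, hy9, hy10, hy11]
  linear_combination ((3) * (x (0, 0) * y (0, 0)) + (3) * (x (0, 0) * y (0, 1)) + (2) * (x (0, 0) * y (0, 2)) + (2) * (x (0, 0) * y (1, 0)) + (3) * (x (0, 0) * y (1, 1)) + (3) * (x (0, 0) * y (2, 0)) + (3) * (x (0, 1) * y (0, 0)) + (6) * (x (0, 1) * y (0, 1)) + (3) * (x (0, 1) * y (0, 2)) + (4) * (x (0, 1) * y (1, 0)) + (4) * (x (0, 1) * y (1, 1)) + (4) * (x (0, 1) * y (2, 0)) + (2) * (x (0, 2) * y (0, 0)) + (3) * (x (0, 2) * y (0, 1)) + (3) * (x (0, 2) * y (0, 2)) + (3) * (x (0, 2) * y (1, 0)) + (2) * (x (0, 2) * y (1, 1)) + (3) * (x (0, 2) * y (2, 0)) + (2) * (x (1, 0) * y (0, 0)) + (4) * (x (1, 0) * y (0, 1)) + (3) * (x (1, 0) * y (0, 2)) + (5) * (x (1, 0) * y (1,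 0)) + (3) * (x (1, 0) * y (1, 1)) + (3) * (x (1, 0) * y (2, 0)) + (3) * (x (1, 1) * y (0, 0)) + (4) * (x (1, 1) * y (0, 1)) + (2) * (x (1, 1) * y (0, 2)) + (3) * (x (1, 1) * y (1, 0)) + (5) * (x (1, 1) * y (1, 1)) + (3) * (x (1, 1) * y (2, 0)) + (3) * (x (2, 0) * y (0, 0)) + (4) * (x (2, 0) * y (0, 1)) + (3) * (x (2, 0) * y (0, 2)) + (3) * (x (2, 0) * y (1, 0)) + (3) * (x (2, 0) * y (1, 1)) + (5) * (x (2, 0) * y (2, 0))) * three_eq_zero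

end Cfsg.Agent.S1591
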