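import Cfsg.Statements.S1602
import Cfsg.Agent.Helper9.Golay.M11Pair

set_option autoImplicit false
open scoped Pointwise
open Cfsg

namespace Cfsg.Agent.S1602

/-- In the 12-point action of the smallest Mathieu group the setwise stabiliser of a pair is isomorphic to the symmetric group of degree 5. -/
theorem result (d : Finset Cfsg.GolayPt) (hd : d ∈ Cfsg.dodecads) (p q q' : Cfsg.GolayPt) (hp : p ∈ d) (hq : q ∉ d) (hq' : q' ∉ d) (hqq' : q ≠ q') : Nonempty (↥(MulAction.stabilizer Cfsg.M24 d ⊓ MulAction.stabilizer Cfsg.M24 p ⊓ MulAction.stabilizer Cfsg.M24 ({q, q'} : Finset Cfsg.GolayPt)) ≃* Equiv.Perm (Fin 5)) := by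
  classical
  obtain ⟨o, ho, hpo, h6, hsd⟩ := Cfsg.Agent.Helper9.Golay.exists_octad_pair hd hp hq hq' hqq'
  have hpC : p ∈ o ∩ d := Finset.mem_inter.mpr ⟨hpo, hp⟩
  have hCd : o ∩ d ⊆ d := Finset.inter_subset_right
  have hCo : o ∩ d ⊆ o := Finset.inter_subset_left
  have hE5 : ((o ∩ d).erase p).card = 5 := by rw [Finset.card_erase_of_mem hpC, h6]
  have hEC : (o ∩ d).erase p ⊆ o ∩ d := Finset.erase_subset _ _
  -- sharpness
  have sharp : ∀ g : Cfsg.M24, g • d = d → ∀ s : Finset Cfsg.GolayPt, s ⊆ d → 5 ≤ s.card →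
      (∀ p ∈ s, (g : Equiv.Perm Cfsg.GolayPt) p = p) → g = 1 := by
    intro g hg s hsd hs5 hfix
    have hcard : Fintype.card (Fin 5) ≤ Fintype.card ↥s := by simpa using hs5
    obtain ⟨x0⟩ := Function.Embedding.nonempty_of_card_le hcard
    let x : Fin 5 ↪ Cfsg.GolayPt := x0.trans (Function.Embedding.subtype _)
    have hx : ∀ i, x i ∈ d := fun i => hsd (x0 i).2
    have huniq := (Cfsg.Agent.S0384.result d hd x x hx hx).unique
      (y₁ := ⟨g, hg⟩) (y₂ := 1) (fun i => hfix _ (x0 i).2) (fun i => rfl)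
    exact congrArg Subtype.val huniq
  -- an element mapping five points of the hexad into the octad stabilizes the octad
  have hoct : ∀ g : Equiv.Perm Cfsg.GolayPt, g ∈ Cfsg.M24 → (o ∩ d).erase p ⊆ g • o →
      g • o = o := by
    intro g hg hsub
    exact Cfsg.Agent.Helper9.Golay.octads_unique
      (Cfsg.Agent.Helper9.Golay.smul_mem_wordsOfWeight hg ho) ho _ hE5 hsub
      (fun x hx => hCo (hEC hx))
  let L : Subgroup Cfsg.M24 := MulAction.stabilizer Cfsg.M24 d ⊓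
    MulAction.stabilizer Cfsg.M24 (o ∩ d) ⊓ MulAction.stabilizer Cfsg.M24 p
  have hLJ : L ≤ MulAction.stabilizer Cfsg.M24 d ⊓ MulAction.stabilizer Cfsg.M24 p ⊓
      MulAction.stabilizer Cfsg.M24 ({q, q'} : Finset Cfsg.GolayPt) := by
    intro g hg
    obtain ⟨h12, h3⟩ := Subgroup.mem_inf.mp hg
    obtain ⟨h1, h2⟩ := Subgroup.mem_inf.mp h12
    refine Subgroup.mem_inf.mpr ⟨Subgroup.mem_inf.mpr ⟨h1, h3⟩, ?_⟩
    rw [MulAction.mem_stabilizer_iff]
    have h1' : (g : Equiv.Perm Cfsg.GolayPt) • d = d := h1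
    have h2' : (g : Equiv.Perm Cfsg.GolayPt) • (o ∩ d) = o ∩ d := h2
    have hgo : (g : Equiv.Perm Cfsg.GolayPt) • o = o := by
      apply hoct _ g.2
      intro x hx
      have hx' : x ∈ (g : Equiv.Perm Cfsg.GolayPt) • (o ∩ d) := by rw [h2']; exact hEC hx
      exact Finset.smul_finset_subset_smul_finset hCo hx'
    change (g : Equiv.Perm Cfsg.GolayPt) • ({q, q'} : Finset Cfsg.GolayPt) = {q, q'}
    rw [← hsd, Finset.smul_finset_sdiff, hgo, h1']
  have hLE : L ≤ MulAction.stabilizer Cfsg.M24 ((o ∩ d).erase p) := by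
    intro g hg
    obtain ⟨h12, h3⟩ := Subgroup.mem_inf.mp hg
    obtain ⟨h1, h2⟩ := Subgroup.mem_inf.mp h12
    rw [MulAction.mem_stabilizer_iff] at h2 h3 ⊢
    rw [Finset.erase_eq, Finset.smul_finset_sdiff, Finset.smul_finset_singleton, h2, h3]
  let ρ := Cfsg.Agent.Helper9.Golay.restrictOf ((o ∩ d).erase p) L hLE
  have hinj : Function.Injective ρ := by
    rw [injective_iff_map_eq_one]
    intro g hg
    obtain ⟨h12, h3⟩ := Subgroup.mem_inf.mp g.2
    obtain ⟨h1, h2⟩ := Subgroup.mem_inf.mp h12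
    have : (g : Cfsg.M24) = 1 := by
      apply sharp _ h1 (o ∩ d) hCd (by omega)
      intro x hx
      by_cases hxp : x = p
      · rw [hxp]; exact h3
      · have hxE : x ∈ (o ∩ d).erase p := Finset.mem_erase.mpr ⟨hxp, hx⟩
        exact congrArg (fun f : Equiv.Perm ↥((o ∩ d).erase p) =>
          ((f ⟨x, hxE⟩ : ↥((o ∩ d).erase p)) : Cfsg.GolayPt)) hg
    exact Subtype.ext this
  have hsurj : Function.Surjective ρ := by
    intro τ
    let x0 : Fin 5 ≃ ↥((o ∩ d).erase p) := (((o ∩ d).erase p).equivFinOfCardEq hE5).symm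
    let x : Fin 5 ↪ Cfsg.GolayPt := x0.toEmbedding.trans (Function.Embedding.subtype _)
    let y : Fin 5 ↪ Cfsg.GolayPt :=
      (x0.toEmbedding.trans τ.toEmbedding).trans (Function.Embedding.subtype _)
    have hx : ∀ i, x i ∈ d := fun i => hCd (hEC (x0 i).2)
    have hy : ∀ i, y i ∈ d := fun i => hCd (hEC (τ (x0 i)).2)
    obtain ⟨g, hg, -⟩ := Cfsg.Agent.S0384.result d hd x y hx hy
    have hgd : ((g : Cfsg.M24) : Equiv.Perm Cfsg.GolayPt) • d = d := g.2
    have hgo : ((g : Cfsg.M24) : Equiv.Perm Cfsg.GolayPt) • o = o := by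
      apply hoct _ (g : Cfsg.M24).2
      intro e he
      have h1 : e = y (x0.symm (τ⁻¹ ⟨e, he⟩)) := by
        simp [y]
      rw [h1, ← hg]
      exact Finset.smul_mem_smul_finset (hCo (hEC (x0 _).2))
    have hgC : ((g : Cfsg.M24) : Equiv.Perm Cfsg.GolayPt) • (o ∩ d) = o ∩ d := by
      rw [Finset.smul_finset_inter, hgo, hgd]
    have hgp : ((g : Cfsg.M24) : Equiv.Perm Cfsg.GolayPt) p = p := by
      have h1 : ((g : Cfsg.M24) : Equiv.Perm Cfsg.GolayPt) p ∈ o ∩ d := by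
        rw [← hgC]; exact Finset.smul_mem_smul_finset hpC
      by_contra hne
      have hE : ((g : Cfsg.M24) : Equiv.Perm Cfsg.GolayPt) p ∈ (o ∩ d).erase p :=
        Finset.mem_erase.mpr ⟨hne, h1⟩
      have h2 : ((g : Cfsg.M24) : Equiv.Perm Cfsg.GolayPt) p =
          y (x0.symm (τ⁻¹ ⟨_, hE⟩)) := by
        simp [y]
      rw [← hg] at h2
      have h3 := ((g : Cfsg.M24) : Equiv.Perm Cfsg.GolayPt).injective h2
      have h4 : x (x0.symm (τ⁻¹ ⟨_, hE⟩)) ∈ (o ∩ d).erase p := (x0 _).2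
      rw [← h3] at h4
      exact (Finset.notMem_erase p _) h4
    let gL : ↥L := ⟨(g : Cfsg.M24), Subgroup.mem_inf.mpr ⟨Subgroup.mem_inf.mpr ⟨g.2, hgC⟩, hgp⟩⟩
    refine ⟨gL, ?_⟩
    apply Equiv.ext
    intro e
    obtain ⟨i, rfl⟩ := x0.surjective e
    apply Subtype.ext
    exact hg i
  have hL120 : Nat.card L = 120 := by
    rw [Nat.card_congr (Equiv.ofBijective ρ ⟨hinj, hsurj⟩), Nat.card_perm,
      Nat.card_eq_fintype_card, Fintype.card_coe, hE5]
    decide
  have hJL : L = MulAction.stabilizer Cfsg.M24 d ⊓ MulAction.stabilizer Cfsg.M24 p ⊓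
      MulAction.stabilizer Cfsg.M24 ({q, q'} : Finset Cfsg.GolayPt) :=
    Subgroup.eq_of_le_of_card_ge hLJ (by
      rw [Cfsg.Agent.Helper9.Golay.card_pair_stab hd hp hq hq' hqq', hL120])
  exact ⟨(MulEquiv.subgroupCongr hJL.symm).trans ((MulEquiv.ofBijective ρ ⟨hinj, hsurj⟩).trans
    (Equiv.permCongrHom (((o ∩ d).erase p).equivFinOfCardEq hE5)))⟩

end Cfsg.Agent.S1602
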