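import Cfsg.Statements.S1606
import Cfsg.Agent.Helper9.M22Sub.Main
import Cfsg.Agent.S0378

set_option autoImplicit false
open scoped Pointwise
open Cfsg

namespace Cfsg.Agent.S1606

/-- The stabiliser of two points in the group of the length-24 code has no subgroups of index 56 or 210. -/
theorem result (p q : Cfsg.GolayPt) (hpq : p ≠ q) (H : Subgroup ↥(MulAction.stabilizer Cfsg.M24 p ⊓ MulAction.stabilizer Cfsg.M24 q)) : H.index ≠ 56 ∧ H.index ≠ 210 := by
  have hT := Cfsg.Agent.S0378.result p q hpq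
  have hidx := Subgroup.card_mul_index H
  rw [hT] at hidx
  let H' : Subgroup (Equiv.Perm Cfsg.GolayPt) :=
    (H.map (Subgroup.subtype _)).map Cfsg.M24.subtype
  have hcard : Nat.card H' = Nat.card H := by
    rw [Subgroup.card_map_of_injective (Subgroup.subtype_injective _),
      Subgroup.card_map_of_injective (Subgroup.subtype_injective _)]
  have hle : H' ≤ Cfsg.Agent.Helper9.M22Sub.G2 p q := by
    intro x hx
    obtain ⟨y, hy, rfl⟩ := Subgroup.mem_map.mp hx
    obtain ⟨z, -, rfl⟩ := Subgroup.mem_map.mp hy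
    rw [Cfsg.Agent.Helper9.M22Sub.mem_G2]
    have hz := z.2
    rw [Subgroup.mem_inf, MulAction.mem_stabilizer_iff, MulAction.mem_stabilizer_iff] at hz
    exact ⟨(z : ↥Cfsg.M24).2, hz.1, hz.2⟩
  have h1 := Cfsg.Agent.Helper9.M22Sub.no_sub_7920 hpq hle
  have h2 := Cfsg.Agent.Helper9.M22Sub.no_sub_2112 hpq hle
  rw [hcard] at h1 h2
  constructor
  · intro h
    rw [h] at hidx
    omega
  · intro h
    rw [h] at hidx
    omega

end Cfsg.Agent.S1606
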