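import Cfsg.Statements.S1609
import Cfsg.Agent.Helper9.M23Sub.End
import Cfsg.Agent.S0376

set_option autoImplicit false
open scoped Pointwise
open Cfsg

namespace Cfsg.Agent.S1609

/-- Subgroups of index 253 in the Mathieu group of degree 23 are exactly the duad stabilisers and the heptad stabilisers. -/
theorem result (x : Cfsg.GolayPt) (H : Subgroup ↥(MulAction.stabilizer Cfsg.M24 x)) (hH : H.index = 253) : (∃ s : Finset Cfsg.GolayPt, s.card = 2 ∧ x ∉ s ∧ H = (MulAction.stabilizer Cfsg.M24 s).subgroupOf (MulAction.stabilizer Cfsg.M24 x)) ∨ ∃ o ∈ Cfsg.octads, x ∈ o ∧ H = (MulAction.stabilizer Cfsg.M24 o).subgroupOf (MulAction.stabilizer Cfsg.M24 x) := by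
  have hT := Cfsg.Agent.S0376.result x
  have hidx := Subgroup.card_mul_index H
  rw [hT, hH] at hidx
  have hHc : Nat.card H = 40320 := by omega
  let H' : Subgroup (Equiv.Perm Cfsg.GolayPt) :=
    (H.map (Subgroup.subtype _)).map Cfsg.M24.subtype
  have hcard : Nat.card H' = 40320 := by
    rw [Subgroup.card_map_of_injective (Subgroup.subtype_injective _),
      Subgroup.card_map_of_injective (Subgroup.subtype_injective _), hHc]
  have hle : H' ≤ Cfsg.Agent.Helper9.M23Sub.G1 x := by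
    intro g hg
    obtain ⟨y, hy, rfl⟩ := Subgroup.mem_map.mp hg
    obtain ⟨z, -, rfl⟩ := Subgroup.mem_map.mp hy
    rw [Cfsg.Agent.Helper9.M23Sub.mem_G1]
    have hz := z.2
    rw [MulAction.mem_stabilizer_iff] at hz
    exact ⟨(z : ↥Cfsg.M24).2, hz⟩
  have hmem : ∀ z : ↥(MulAction.stabilizer Cfsg.M24 x),
      z ∈ H ↔ ((z : ↥Cfsg.M24) : Equiv.Perm Cfsg.GolayPt) ∈ H' := by
    intro z
    constructor
    · intro hz
      exact Subgroup.mem_map.mpr ⟨z.1, Subgroup.mem_map.mpr ⟨z, hz, rfl⟩, rfl⟩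
    · intro hz
      obtain ⟨y, hy, hyz⟩ := Subgroup.mem_map.mp hz
      obtain ⟨w, hw, rfl⟩ := Subgroup.mem_map.mp hy
      have : w = z := by
        apply Subtype.ext
        apply Subtype.ext
        exact hyz
      rw [← this]
      exact hw
  have hG1 : ∀ z : ↥(MulAction.stabilizer Cfsg.M24 x),
      ((z : ↥Cfsg.M24) : Equiv.Perm Cfsg.GolayPt) ∈ Cfsg.Agent.Helper9.M23Sub.G1 x := by
    intro z
    rw [Cfsg.Agent.Helper9.M23Sub.mem_G1]
    have hz := z.2
    rw [MulAction.mem_stabilizer_iff] at hz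
    exact ⟨(z : ↥Cfsg.M24).2, hz⟩
  have hset : ∀ (s : Finset Cfsg.GolayPt), H' = Cfsg.Agent.Helper9.M23Sub.SetStab x s →
      H = (MulAction.stabilizer Cfsg.M24 s).subgroupOf (MulAction.stabilizer Cfsg.M24 x) := by
    intro s hs
    ext z
    rw [hmem z, hs, Cfsg.Agent.Helper9.M23Sub.mem_SetStab, Subgroup.mem_subgroupOf,
      MulAction.mem_stabilizer_iff]
    have e : ((z : ↥Cfsg.M24) • s : Finset Cfsg.GolayPt) =
        (((z : ↥Cfsg.M24) : Equiv.Perm Cfsg.GolayPt) • s) := rfl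
    rw [e, Cfsg.Agent.Helper9.M23Sub.smul_finset_eq_iff]
    constructor
    · exact fun h => h.2
    · exact fun h => ⟨hG1 z, h⟩
  rcases Cfsg.Agent.Helper9.M23Sub.main23 hle hcard with ⟨s, hs2, hxs, hs⟩ | ⟨o, ho, hxo, hs⟩
  · exact Or.inl ⟨s, hs2, hxs, hset s hs⟩
  · exact Or.inr ⟨o, ho, hxo, hset o hs⟩

end Cfsg.Agent.S1609
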