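import Mathlib
import Cfsg.Statements.S1618
import Cfsg.Agent.Helper2.ZStarH
import Cfsg.Agent.Helper4.HallConverseB
import Cfsg.Agent.Helper3.OddProdA
-- import your own Cfsg.Agent.* helpers here

set_option autoImplicit false
open Cfsg

namespace Cfsg.Agent.S1618

open Cfsg.Agent.Helper3.OddProd

/-- A group generated by a class of involutions whose pairwise products (of distinct members) have p-power order for a fixed odd prime p has nilpotent derived subgroup. -/
theorem result {G : Type*} [Group G] [Finite G] (p : ℕ) (hp : p.Prime) (hodd : p ≠ 2) {D : Set G} (hinv : ∀ d ∈ D, orderOf d = 2) (hconj : ∃ d ∈ D, D = conjugatesOf d) (hgen : Subgroup.closure D = ⊤) (hprod : ∀ x ∈ D, ∀ y ∈ D, x ≠ y → ∃ k : ℕ, orderOf (x * y) = p ^ k) : Group.IsNilpotent ↥(commutator G) := by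
  classical
  obtain ⟨d, hdD, hD⟩ := hconj
  have hd2 : orderOf d = 2 := hinv d hdD
  have hdsq : d ^ 2 = 1 := hd2 ▸ pow_orderOf_eq_one d
  have hdd : d * d = 1 := by rw [← sq]; exact hdsq
  have hdinv : d⁻¹ = d := inv_eq_of_mul_eq_one_left hdd
  have : Fact p.Prime := ⟨hp⟩
  have : Fact (Nat.Prime 2) := ⟨Nat.prime_two⟩
  have hDmem : ∀ g : G, g * d * g⁻¹ ∈ D := by
    intro g; rw [hD]; exact (isConj_iff.mpr ⟨g, rfl⟩ : IsConj d (g * d * g⁻¹))
  have hDform : ∀ e ∈ D, ∃ g : G, g * d * g⁻¹ = e := by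
    intro e he; rw [hD] at he
    exact isConj_iff.mp (he : IsConj d e)
  -- key
  have key : ∀ e ∈ D, ∀ q k : ℕ, q.Prime → q ≠ p → (d * e) ^ (q ^ k) = 1 → e = d := by
    intro e he q k hq hqp hpow
    by_contra hne
    obtain ⟨j, hj⟩ := hprod d hdD e he (fun h => hne h.symm)
    have h1 : p ^ j ∣ q ^ k := hj ▸ orderOf_dvd_of_pow_eq_one hpow
    have h2 : (p ^ j).Coprime (q ^ k) :=
      Nat.Coprime.pow _ _ ((Nat.coprime_primes hp hq).mpr (Ne.symm hqp))
    have h3 : p ^ j = 1 := Nat.Coprime.eq_one_of_dvd h2 h1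
    rw [h3, orderOf_eq_one_iff] at hj
    exact hne (by rw [← hdinv]; exact (inv_eq_of_mul_eq_one_right hj).symm ▸ rfl)
  -- `d` is isolated
  have hiso : Cfsg.IsIsolatedInvolution d := by
    refine ⟨hd2, fun g hc => ?_⟩
    have he := hDmem g
    have he2 : (g * d * g⁻¹) ^ 2 = 1 := by
      have := hinv _ he
      exact this ▸ pow_orderOf_eq_one _
    refine key _ he 2 1 Nat.prime_two (Ne.symm hodd) ?_
    rw [pow_one, hc.mul_pow, hdsq, he2, one_mul]
  have hZ := fun g => Cfsg.Agent.Helper2.ZStar.glauberman_zstar d hiso g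
  -- the odd core
  have hKn : (Cfsg.oddCore G).Normal := Cfsg.pPrimeCore_normal 2 G
  have hKodd : Odd (Nat.card (Cfsg.oddCore G)) := Cfsg.Agent.Helper2.ZStar.oddCore_odd_card
  have hdK : d ∉ Cfsg.oddCore G := Cfsg.Agent.Helper2.ZStar.not_mem_oddCore hd2
  -- index two
  have hK2 : (Cfsg.oddCore G).index = 2 := by
    have h1 : ∀ e ∈ D, (QuotientGroup.mk' (Cfsg.oddCore G)) e = (QuotientGroup.mk' (Cfsg.oddCore G)) d := by
      intro e he
      obtain ⟨g, rfl⟩ := hDform e he
      symm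
      show ((d : G) : G ⧸ Cfsg.oddCore G) = ((g * d * g⁻¹ : G) : G ⧸ Cfsg.oddCore G)
      rw [QuotientGroup.eq]
      have := hZ g
      rw [hdinv] at this ⊢
      simpa [mul_assoc] using this
    have h2 : (⊤ : Subgroup (G ⧸ Cfsg.oddCore G)) ≤
        Subgroup.zpowers ((QuotientGroup.mk' (Cfsg.oddCore G)) d) := by
      rw [← Subgroup.map_top_of_surjective _ (QuotientGroup.mk'_surjective (Cfsg.oddCore G)),
        ← hgen, MonoidHom.map_closure, Subgroup.closure_le]
      rintro _ ⟨e, he, rfl⟩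
      rw [h1 e he]
      exact Subgroup.mem_zpowers _
    have h3 : orderOf ((QuotientGroup.mk' (Cfsg.oddCore G)) d) = 2 := by
      refine orderOf_eq_prime ?_ ?_
      · rw [← map_pow, hdsq, map_one]
      · intro h
        exact hdK ((QuotientGroup.eq_one_iff d).mp h)
    have h4 : Subgroup.zpowers ((QuotientGroup.mk' (Cfsg.oddCore G)) d) = ⊤ := top_le_iff.mp h2
    rw [Subgroup.index_eq_card, ← Subgroup.card_top (G := G ⧸ Cfsg.oddCore G), ← h4, Nat.card_zpowers, h3]
  -- Sylow subgroups centralised by `d`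
  have hcent : ∀ (q : ℕ) [Fact q.Prime], q ≠ p → ∀ Q : Sylow q G,
      d ∈ Subgroup.normalizer ((Q : Subgroup G) : Set G) →
      (Q : Subgroup G) ≤ Subgroup.centralizer {d} := by
    intro q hq hqp Q hdQ x hx
    have h1 : d * x * d⁻¹ ∈ (Q : Subgroup G) := (Subgroup.mem_normalizer_iff.mp hdQ x).mp hx
    have h2 : d * (x * d * x⁻¹) ∈ (Q : Subgroup G) := by
      have : d * (x * d * x⁻¹) = (d * x * d⁻¹) * x⁻¹ := by rw [hdinv]; group
      rw [this]
      exact Subgroup.mul_mem _ h1 (Subgroup.inv_mem _ hx)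
    obtain ⟨k, hk⟩ := Q.2 ⟨_, h2⟩
    have hk' : (d * (x * d * x⁻¹)) ^ q ^ k = 1 := by
      have := congrArg Subtype.val hk
      simpa using this
    have h3 := key _ (hDmem x) q k hq.out hqp hk'
    rw [Subgroup.mem_centralizer_iff]
    intro h hh
    rw [Set.mem_singleton_iff] at hh
    subst hh
    calc h * x = (x * h * x⁻¹) * x := by rw [h3]
      _ = x * h := by group
  -- index of the centraliser
  have hCidx : ∃ n : ℕ, (Subgroup.centralizer {d} : Subgroup G).index = p ^ n := by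
    refine ⟨_, Nat.eq_prime_pow_of_unique_prime_dvd Subgroup.index_ne_zero_of_finite ?_⟩
    intro q hq hqd
    by_contra hqp
    by_cases hq2 : q = 2
    · subst hq2
      have h1 : ¬ (Subgroup.centralizer {d} : Subgroup G) ≤ Cfsg.oddCore G := by
        intro h
        exact hdK (h (Subgroup.mem_centralizer_iff.mpr (fun h hh => by
          rw [Set.mem_singleton_iff] at hh; rw [hh])))
      have h2 := odd_index_of_not_le _ hK2 hKodd _ h1
      rw [← Nat.not_even_iff_odd, even_iff_two_dvd] at h2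
      exact h2 hqd
    · have : Fact q.Prime := ⟨hq⟩
      obtain ⟨Q, hQ⟩ := exists_invariant_sylow _ hK2 hKodd d hdsq q hq2
      have h1 := hcent q hqp Q hQ
      exact Q.not_dvd_index (hqd.trans (Subgroup.index_dvd_of_le h1))
  obtain ⟨n, hn⟩ := hCidx
  -- the invariant Sylow `p`-subgroup
  obtain ⟨P₁, hP₁⟩ := exists_invariant_sylow _ hK2 hKodd d hdsq p hodd
  have hcop : Nat.Coprime (Subgroup.centralizer {d} : Subgroup G).index (P₁ : Subgroup G).index := by
    rw [hn]
    exact Nat.Coprime.pow_left _ ((Nat.Prime.coprime_iff_not_dvd hp).mpr P₁.not_dvd_index)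
  have hfac := Cfsg.Agent.Helper4.exists_mul_of_coprime_index (Subgroup.centralizer {d}) (P₁ : Subgroup G) hcop
  -- `D ⊆ P₁⟨d⟩`
  have hDR : D ⊆ ((P₁ : Subgroup G) ⊔ Subgroup.zpowers d : Subgroup G) := by
    intro e he
    obtain ⟨g, rfl⟩ := hDform e he
    obtain ⟨a, ha, b, hb, rfl⟩ := hfac g
    have hbd : b * d = d * b := by
      have := Subgroup.mem_centralizer_iff.mp hb d (Set.mem_singleton d)
      exact this.symm
    have h1 : a * b * d * (a * b)⁻¹ = a * d * a⁻¹ := by
      rw [mul_inv_rev, mul_assoc a b d, hbd]; group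
    rw [h1]
    have haR : a ∈ ((P₁ : Subgroup G) ⊔ Subgroup.zpowers d : Subgroup G) := Subgroup.mem_sup_left ha
    have hdR : d ∈ ((P₁ : Subgroup G) ⊔ Subgroup.zpowers d : Subgroup G) :=
      Subgroup.mem_sup_right (Subgroup.mem_zpowers d)
    exact Subgroup.mul_mem _ (Subgroup.mul_mem _ haR hdR) (Subgroup.inv_mem _ haR)
  have hR : ((P₁ : Subgroup G) ⊔ Subgroup.zpowers d : Subgroup G) = ⊤ := by
    rw [eq_top_iff, ← hgen, Subgroup.closure_le]; exact hDR
  have hP₁n : (P₁ : Subgroup G).Normal := by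
    rw [← Subgroup.normalizer_eq_top_iff, eq_top_iff, ← hR, sup_le_iff]
    exact ⟨Subgroup.le_normalizer, (Subgroup.zpowers_le).mpr hP₁⟩
  have hgen' : ∀ h : G, ∃ m ∈ (P₁ : Subgroup G), ∃ k : ℤ, h = m * d ^ k := by
    intro h
    have hh : h ∈ ((P₁ : Subgroup G) ⊔ Subgroup.zpowers d : Subgroup G) := hR ▸ Subgroup.mem_top h
    rw [← SetLike.mem_coe, Subgroup.normal_mul] at hh
    obtain ⟨m, hm, z, hz, rfl⟩ := Set.mem_mul.mp hh
    obtain ⟨k, rfl⟩ := Subgroup.mem_zpowers_iff.mp hz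
    exact ⟨m, hm, k, rfl⟩
  have hcomm : commutator G ≤ (P₁ : Subgroup G) := commutator_le_of_gen _ d hgen'
  have hpg : IsPGroup p ↥(commutator G) := P₁.2.to_le hcomm
  exact hpg.isNilpotent


end Cfsg.Agent.S1618
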