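import Mathlib
import Cfsg.Statements.S1629
import Cfsg.Agent.Helper8.ThreeTransp
import Cfsg.Agent.Helper8.StdForms

set_option autoImplicit false
open Cfsg

namespace Cfsg.Agent.S1629

open Cfsg.Agent.Helper8.StdForms Cfsg.Agent.Helper8.ThreeTransp

/-- The orthogonal transvections of the plus-type orthogonal group in dimension 2m ≥ 6 over the field with two elements form a generating conjugacy class of 3-transpositions. -/
theorem result (m : ℕ) (hm : 3 ≤ m) : Cfsg.IsThreeTranspositionClass {g : ↥(Cfsg.isometryGroup (ZMod 2) (Cfsg.quadFormPlus m (ZMod 2))) | (((g : GL (Fin m ⊕ Fin m) (ZMod 2)) : Matrix (Fin m ⊕ Fin m) (Fin m ⊕ Fin m) (ZMod 2)) - 1).rank = 1} := by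
  have hQeq : Cfsg.quadFormPlus m (ZMod 2) = ⇑(plusForm (ZMod 2) m) :=
    funext (fun v => (plusForm_apply (ZMod 2) m v).symm)
  rw [hQeq]
  have h01 : ∀ a : ZMod 2, a = 0 ∨ a = 1 := by decide
  exact isThreeTranspositionClass (plusForm (ZMod 2) m) h01 (plusForm_nondeg (ZMod 2) m)
    (by simp <;> omega) (by simp <;> omega)

end Cfsg.Agent.S1629
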