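import Cfsg.Statements.S1631
import Cfsg.Agent.Helper7.SUTranspA

set_option autoImplicit false
open Cfsg

namespace Cfsg.Agent.S1631

open Matrix Cfsg.Agent.Helper7.Herm Cfsg.Agent.Helper8.GUOrder Cfsg.Agent.Helper8.SURoot
  Cfsg.Agent.Helper8.AutSU Cfsg.Agent.Helper7.SUGen Cfsg.Agent.Helper7.SUSimp
  Cfsg.Agent.Helper7.SUTransp

section

variable {F : Type} [Field F] [Fintype F] [hF : Fact (Fintype.card F = 2 ^ 2)] {N : ℕ}

theorem two_eq_zero : (2 : F) = 0 := by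
  have h := Nat.cast_card_eq_zero F
  rw [hF.out] at h
  have h4 : (2 : F) * 2 = 0 := by
    have : ((2 ^ 2 : ℕ) : F) = 2 * 2 := by norm_num
    rw [← this]; exact h
  exact mul_self_eq_zero.mp h4

theorem tz_eq {s : F} (hs0 : s ≠ 0) (hs : s ^ 2 + s = 0) : s = 1 := by
  have h1 : s * (s + 1) = 0 := by linear_combination hs
  have h2 : s + 1 = 0 := (mul_eq_zero.mp h1).resolve_left hs0
  linear_combination h2 - (two_eq_zero (F := F))

theorem tz_one : (1 : F) ^ 2 + 1 = 0 := by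
  linear_combination (two_eq_zero (F := F))

theorem norm_eq_one {c : F} (hc : c ≠ 0) : c * c ^ 2 = 1 := by
  have h := FiniteField.pow_card_sub_one_eq_one c hc
  rw [hF.out] at h
  have : c * c ^ 2 = c ^ (2 ^ 2 - 1) := by norm_num; ring
  rw [this, h]

/-- the set of unitary transvections. -/
def DD (F : Type) [Field F] [Fintype F] (N : ℕ) : Set (SU N F 2) :=
  {g | (mt g - 1).rank = 1}

theorem mem_DD_iff (g : SU N F 2) :
    g ∈ DD F N ↔ ∃ p : Fin N → F, p ≠ 0 ∧ hermForm N F 2 p p = 0 ∧ g = TU 2 p 1 := by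
  constructor
  · intro h
    obtain ⟨p, s, hp0, hp, hs0, hs, rfl⟩ := eq_TU_of_rank_one g h
    refine ⟨p, hp0, hp, ?_⟩
    rw [tz_eq hs0 hs]
  · rintro ⟨p, hp0, hp, rfl⟩
    exact rank_TU hp0 hp one_ne_zero tz_one

theorem TU_sq {p : Fin N → F} (hp : hermForm N F 2 p p = 0) : TU 2 p (1 : F) * TU 2 p 1 = 1 := by
  rw [TU_mul hp tz_one tz_one, one_add_one_eq_two]
  simp only [two_eq_zero (F := F)]
  exact TU_zero p hp

theorem orderOf_TU {p : Fin N → F} (hp0 : p ≠ 0) (hp : hermForm N F 2 p p = 0) :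
    orderOf (TU 2 p (1 : F)) = 2 := by
  apply orderOf_eq_prime
  · rw [pow_two]; exact TU_sq hp
  · intro h
    exact one_ne_zero ((TU_eq_one_iff hp0 hp tz_one).mp h)

theorem three_transp {p p' : Fin N → F} (hp0 : p ≠ 0) (hp : hermForm N F 2 p p = 0)
    (hp0' : p' ≠ 0) (hp' : hermForm N F 2 p' p' = 0) :
    (TU 2 p (1 : F) * TU 2 p' 1) ^ 2 = 1 ∨ (TU 2 p (1 : F) * TU 2 p' 1) ^ 3 = 1 := by
  set d := TU 2 p (1 : F) with hd
  set e := TU 2 p' (1 : F) with he
  have hdd : d * d = 1 := TU_sq hp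
  have hee : e * e = 1 := TU_sq hp'
  have hdinv : d⁻¹ = d := inv_eq_of_mul_eq_one_right hdd
  have heinv : e⁻¹ = e := inv_eq_of_mul_eq_one_right hee
  by_cases h : hermForm N F 2 p p' = 0
  · left
    have hc : d * e = e * d := TU_comm_of_orth hp hp' h tz_one tz_one
    calc (d * e) ^ 2 = d * e * (d * e) := pow_two _
      _ = d * e * (e * d) := by rw [hc]
      _ = d * (e * e) * d := by group
      _ = 1 := by rw [hee, mul_one, hdd]
  · right
    have h' : hermForm N F 2 p' p ≠ 0 := herm_swap_ne_zero h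
    set c := hermForm N F 2 p' p with hc
    have hc' : hermForm N F 2 p p' = c ^ 2 := h_swap _ _
    have hc3 : c * c ^ 2 = 1 := norm_eq_one h'
    -- `d e d⁻¹ = e d e⁻¹`
    have h1 : d * e * d⁻¹ = TU 2 (mt d *ᵥ p') 1 := conj_TU d hp' tz_one
    have h2 : e * d * e⁻¹ = TU 2 (mt e *ᵥ p) 1 := conj_TU e hp tz_one
    have hdp' : mt d *ᵥ p' = p' + c • p := by
      rw [hd, TU_mulVec hp tz_one, one_mul]
    have hep : mt e *ᵥ p = p + c ^ 2 • p' := by
      rw [he, TU_mulVec hp' tz_one, one_mul, hc']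
    have hprop : mt e *ᵥ p = c ^ 2 • (mt d *ᵥ p') := by
      rw [hdp', hep, smul_add, smul_smul]
      have : c ^ 2 * c = 1 := by rw [mul_comm]; exact hc3
      rw [this, one_smul, add_comm]
    have hiso : hermForm N F 2 (mt d *ᵥ p') (mt d *ᵥ p') = 0 := by rw [herm_mt, hp']
    have h3 : d * e * d⁻¹ = e * d * e⁻¹ := by
      rw [h1, h2, hprop, TU_smul hiso tz_one]
      have hn : c ^ 2 * (c ^ 2) ^ 2 = 1 := norm_eq_one (pow_ne_zero 2 h')
      simp only [hn, mul_one]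
    rw [hdinv, heinv] at h3
    calc (d * e) ^ 3 = (d * e * d) * (e * d * e) := by rw [pow_succ, pow_two]; group
      _ = (d * e * d) * (d * e * d) := by rw [h3]
      _ = d * e * (d * d) * e * d := by group
      _ = 1 := by rw [hdd, mul_one, mul_assoc d e e, hee, mul_one, hdd]

end

/-- The unitary transvections of SU(n, 2), n ≥ 4, form a generating conjugacy class of 3-transpositions. -/
theorem result (F : Type) [Field F] [Fintype F] [DecidableEq F] (hF : Fintype.card F = 4) (n : ℕ) (hn : 4 ≤ n) : Cfsg.IsThreeTranspositionClass {g : ↥(Cfsg.SU n F 2) | (((g : Matrix.SpecialLinearGroup (Fin n) F) : Matrix (Fin n) (Fin n) F) - 1).rank = 1} := by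
  haveI : Fact (Fintype.card F = 2 ^ 2) := ⟨by rw [hF]; norm_num⟩
  obtain ⟨k, rfl⟩ : ∃ k, n = k + 2 := ⟨n - 2, by omega⟩
  change Cfsg.IsThreeTranspositionClass (DD F (k + 2))
  obtain ⟨fr⟩ := exists_frame (F := F) (q := 2) k
  refine ⟨⟨?_, ?_⟩, ⟨TU 2 fr.e 1, (mem_DD_iff _).mpr ⟨fr.e, fr.e_ne_zero, fr.he, rfl⟩, ?_⟩, ?_⟩
  · intro d hd
    obtain ⟨p, hp0, hp, rfl⟩ := (mem_DD_iff d).mp hd
    exact orderOf_TU hp0 hp
  · intro d hd e he
    obtain ⟨p, hp0, hp, rfl⟩ := (mem_DD_iff d).mp hd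
    obtain ⟨p', hp0', hp', rfl⟩ := (mem_DD_iff e).mp he
    exact three_transp hp0 hp hp0' hp'
  · ext g
    show g ∈ DD F (k + 2) ↔ IsConj (TU 2 fr.e 1) g
    rw [isConj_iff]
    constructor
    · intro hg
      obtain ⟨p, hp0, hp, rfl⟩ := (mem_DD_iff g).mp hg
      obtain ⟨s, c, hc, hs⟩ := exists_SU_point fr.e_ne_zero fr.he hp0 hp
      refine ⟨s, ?_⟩
      rw [conj_TU s fr.he tz_one, hs, TU_smul hp tz_one, norm_eq_one hc, mul_one]
    · rintro ⟨s, rfl⟩
      rw [conj_TU s fr.he tz_one]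
      exact (mem_DD_iff _).mpr ⟨_, mulVec_ne_zero' s fr.e_ne_zero, by rw [herm_mt, fr.he], rfl⟩
  · rw [eq_top_iff, ← Tsub_eq_top (F := F) (q := 2) (k + 2) (by omega) (by omega)]
    unfold Tsub
    rw [Subgroup.closure_le]
    rintro g ⟨p, s, hp, hs, rfl⟩
    by_cases hp0 : p = 0
    · rw [hp0, TU_zero_left hs]
      exact Subgroup.one_mem _
    by_cases hs0 : s = 0
    · rw [hs0, TU_zero p hp]
      exact Subgroup.one_mem _
    · apply Subgroup.subset_closure
      rw [tz_eq hs0 hs]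
      exact (mem_DD_iff _).mpr ⟨p, hp0, hp, rfl⟩

end Cfsg.Agent.S1631
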