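import Cfsg.Statements.S1634
import Cfsg.Agent.Helper9.Leech.M2025c

set_option autoImplicit false
open Cfsg

namespace Cfsg.Agent.S1634

/-- The McLaughlin group acts on 2025 points (minimal vectors orthogonal to v with customary inner product 2 with w) transitively with rank 4 and subdegrees 1, 330, 462, 1232. -/
theorem result (v w : ↥Cfsg.leechLattice) (hv : Cfsg.sqNorm (v : Cfsg.GolayPt → ℤ) = 32) (hw : Cfsg.sqNorm (w : Cfsg.GolayPt → ℤ) = 32) (hvw : Cfsg.dotInt (v : Cfsg.GolayPt → ℤ) (w : Cfsg.GolayPt → ℤ) = -8) : {x : ↥Cfsg.leechLattice | Cfsg.sqNorm (x : Cfsg.GolayPt → ℤ) = 32 ∧ Cfsg.dotInt (v : Cfsg.GolayPt → ℤ) (x : Cfsg.GolayPt → ℤ) = 0 ∧ Cfsg.dotInt (w : Cfsg.GolayPt → ℤ) (x : Cfsg.GolayPt → ℤ) = 16}.ncard = 2025 ∧ (∀ x ∈ {x : ↥Cfsg.leechLattice | Cfsg.sqNorm (x : Cfsg.GolayPt → ℤ) =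 32 ∧ Cfsg.dotInt (v : Cfsg.GolayPt → ℤ) (x : Cfsg.GolayPt → ℤ) = 0 ∧ Cfsg.dotInt (w : Cfsg.GolayPt → ℤ) (x : Cfsg.GolayPt → ℤ) = 16}, ∀ x' ∈ {x : ↥Cfsg.leechLattice | Cfsg.sqNorm (x : Cfsg.GolayPt → ℤ) = 32 ∧ Cfsg.dotInt (v : Cfsg.GolayPt → ℤ) (x : Cfsg.GolayPt → ℤ) = 0 ∧ Cfsg.dotInt (w : Cfsg.GolayPt → ℤ) (x : Cfsg.GolayPt → ℤ) = 16}, ∃ g : ↥Cfsg.Co0, g • v = v ∧ g • w = w ∧ g • x = x') ∧ ∀ x ∈ {x : ↥Cfsg.leechLattice | Cfsg.sqNorm (x : Cfsg.GolayPt → ℤ) = 32 ∧ Cfsg.dotInt (v : Cfsg.GolayPt → ℤ) (x : Cfsg.GolayPt → ℤ) = 0 ∧ Cfsg.dotInt (w : Cfsg.GolayPt → ℤ) (x : Cfsg.GolayPt → ℤ) = 16}, ∃ y₁ ∈ {x : ↥Cfsg.leechLattice | Cfsg.sqNorm (x : Cfsg.GolayPt → ℤ) = 32 ∧ Cfsg.dotInt (v : Cfsg.GolayPt → ℤ) (x : Cfsg.GolayPt → ℤ) = 0 ∧ Cfsg.dotInt (w : Cfsg.GolayPt → ℤ) (x : Cfsg.GolayPt → ℤ) = 16}, ∃ y₂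 ∈ {x : ↥Cfsg.leechLattice | Cfsg.sqNorm (x : Cfsg.GolayPt → ℤ) = 32 ∧ Cfsg.dotInt (v : Cfsg.GolayPt → ℤ) (x : Cfsg.GolayPt → ℤ) = 0 ∧ Cfsg.dotInt (w : Cfsg.GolayPt → ℤ) (x : Cfsg.GolayPt → ℤ) = 16}, ∃ y₃ ∈ {x : ↥Cfsg.leechLattice | Cfsg.sqNorm (x : Cfsg.GolayPt → ℤ) = 32 ∧ Cfsg.dotInt (v : Cfsg.GolayPt → ℤ) (x : Cfsg.GolayPt → ℤ) = 0 ∧ Cfsg.dotInt (w : Cfsg.GolayPt → ℤ) (x : Cfsg.GolayPt → ℤ) = 16}, (MulAction.orbit ↥(MulAction.stabilizer ↥Cfsg.Co0 v ⊓ MulAction.stabilizer ↥Cfsg.Co0 w ⊓ MulAction.stabilizer ↥Cfsg.Co0 x) y₁).ncard = 330 ∧ (MulAction.orbit ↥(MulAction.stabilizer ↥Cfsg.Co0 v ⊓ MulAction.stabilizer ↥Cfsg.Co0 w ⊓ MulAction.stabilizer ↥Cfsg.Co0 x) y₂).ncard = 462 ∧ (MulAction.orbit ↥(MulAction.stabilizer ↥Cfsg.Co0 v ⊓ MulAction.stabilizer ↥Cfsg.Co0 w ⊓ MulAction.stabilizer ↥Cfsg.Co0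 x) y₃).ncard = 1232 := by
  refine ⟨Cfsg.Agent.Helper9.Leech.card_2025 v w hv hw hvw, ?_, ?_⟩
  · intro x hx x' hx'
    exact Cfsg.Agent.Helper9.Leech.trans_2025 v w x x' hv hw hvw hx hx'
  · intro x hx
    have key : ∀ (d : ℤ) (n : ℕ), 0 < n →
        Cfsg.Agent.Helper9.Leech.cntFast Cfsg.Agent.Helper9.Leech.alQ
          (0 + 1000 * 16 + 1000000 * d) = n →
        ∃ y ∈ {x : ↥Cfsg.leechLattice | Cfsg.sqNorm (x : Cfsg.GolayPt → ℤ) = 32 ∧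
            Cfsg.dotInt (v : Cfsg.GolayPt → ℤ) (x : Cfsg.GolayPt → ℤ) = 0 ∧
            Cfsg.dotInt (w : Cfsg.GolayPt → ℤ) (x : Cfsg.GolayPt → ℤ) = 16},
          (MulAction.orbit ↥(MulAction.stabilizer ↥Cfsg.Co0 v ⊓ MulAction.stabilizer ↥Cfsg.Co0 w ⊓
            MulAction.stabilizer ↥Cfsg.Co0 x) y).ncard = n := by
      intro d n hn hcnt
      have hc := Cfsg.Agent.Helper9.Leech.suborbit_card_2025 v w x hv hw hvw hx d n hcnt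
      have hne : {y : ↥Cfsg.leechLattice | (Cfsg.sqNorm (y : Cfsg.GolayPt → ℤ) = 32 ∧
          Cfsg.dotInt (v : Cfsg.GolayPt → ℤ) (y : Cfsg.GolayPt → ℤ) = 0 ∧
          Cfsg.dotInt (w : Cfsg.GolayPt → ℤ) (y : Cfsg.GolayPt → ℤ) = 16) ∧
          Cfsg.dotInt (x : Cfsg.GolayPt → ℤ) (y : Cfsg.GolayPt → ℤ) = d}.Nonempty := by
        apply Set.nonempty_of_ncard_ne_zero
        rw [hc]
        exact Nat.pos_iff_ne_zero.mp hn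
      obtain ⟨y, hy, hyd⟩ := hne
      refine ⟨y, hy, ?_⟩
      rw [Cfsg.Agent.Helper9.Leech.orbit_2025 v w x y hv hw hvw hx hy, hyd]
      exact hc
    obtain ⟨y1, hy1, h1⟩ := key 0 330 (by norm_num)
      (by rw [show (0 + 1000 * 16 + 1000000 * 0 : ℤ) = 16000 by norm_num]
          exact Cfsg.Agent.Helper9.Leech.cnt_alQ_0)
    obtain ⟨y2, hy2, h2⟩ := key 16 462 (by norm_num)
      (by rw [show (0 + 1000 * 16 + 1000000 * 16 : ℤ) = 16016000 by norm_num]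
          exact Cfsg.Agent.Helper9.Leech.cnt_alQ_16)
    obtain ⟨y3, hy3, h3⟩ := key 8 1232 (by norm_num)
      (by rw [show (0 + 1000 * 16 + 1000000 * 8 : ℤ) = 8016000 by norm_num]
          exact Cfsg.Agent.Helper9.Leech.cnt_alQ_8)
    exact ⟨y1, hy1, y2, hy2, y3, hy3, h1, h2, h3⟩

end Cfsg.Agent.S1634
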