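import Cfsg.Statements.S1638
import Cfsg.Agent.Helper9.Golay.PairsPQ

set_option autoImplicit false
open scoped Pointwise
open Cfsg

namespace Cfsg.Agent.S1638

/-- Fix two points p ≠ q and a pair s of two further points. Among the pairs avoiding p, q and disjoint from s, exactly 30 lie in an octad together with p, q and s and exactly 160 do not; and any two pairs other than s that meet s in equally many points and agree on that octad property are carried to one another by an element of the group of the length-24 code fixing p, q and s. -/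
theorem result (p q : Cfsg.GolayPt) (hpq : p ≠ q) (s : Finset Cfsg.GolayPt) (hs : (s.card = 2 ∧ p ∉ s ∧ q ∉ s)) : {t : Finset Cfsg.GolayPt | (t.card = 2 ∧ p ∉ t ∧ q ∉ t) ∧ Disjoint s t ∧ (∃ o ∈ Cfsg.octads, p ∈ o ∧ q ∈ o ∧ s ∪ t ⊆ o)}.ncard = 30 ∧ {t : Finset Cfsg.GolayPt | (t.card = 2 ∧ p ∉ t ∧ q ∉ t) ∧ Disjoint s t ∧ ¬ (∃ o ∈ Cfsg.octads, p ∈ o ∧ q ∈ o ∧ s ∪ t ⊆ o)}.ncard = 160 ∧ ∀ t t' : Finset Cfsg.GolayPt, (t.card = 2 ∧ p ∉ t ∧ q ∉ t) → (t'.card = 2 ∧ p ∉ t' ∧ q ∉ t') → t ≠ s → t' ≠ s → (s ∩ t).card = (s ∩ t').card → ((∃ o ∈ Cfsg.octads, p ∈ o ∧ q ∈ o ∧ s ∪ t ⊆ o) ↔ (∃ o ∈ Cfsg.octads, p ∈ o ∧ q ∈ o ∧ s ∪ t' ⊆ o)) → ∃ g : Equiv.Perm Cfsg.GolayPt, g ∈ Cfsg.M24 ∧ g p = p ∧ g q = q ∧ g • s = s ∧ g • t = t' := by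
  classical
  obtain ⟨hs2, hps, hqs⟩ := hs
  set T : Finset Cfsg.GolayPt := insert p (insert q s) with hTdef
  have hT : T.card = 4 := by
    rw [hTdef, Finset.card_insert_of_notMem, Finset.card_insert_of_notMem hqs, hs2]
    rw [Finset.mem_insert]
    push Not
    exact ⟨hpq, hps⟩
  have hdisjT : ∀ t : Finset Cfsg.GolayPt, Disjoint T t ↔ p ∉ t ∧ q ∉ t ∧ Disjoint s t := by
    intro t
    rw [hTdef, Finset.disjoint_insert_left, Finset.disjoint_insert_left]
  have hsubT : ∀ (t o : Finset Cfsg.GolayPt), T ∪ t ⊆ o ↔ p ∈ o ∧ q ∈ o ∧ s ∪ t ⊆ o := by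
    intro t o
    rw [hTdef, Finset.insert_union, Finset.insert_union, Finset.insert_subset_iff,
      Finset.insert_subset_iff]
  have hexT : ∀ t : Finset Cfsg.GolayPt, (∃ o ∈ Cfsg.octads, T ∪ t ⊆ o) ↔
      (∃ o ∈ Cfsg.octads, p ∈ o ∧ q ∈ o ∧ s ∪ t ⊆ o) := by
    intro t
    constructor
    · rintro ⟨o, ho, h⟩
      exact ⟨o, ho, (hsubT t o).mp h⟩
    · rintro ⟨o, ho, h⟩
      exact ⟨o, ho, (hsubT t o).mpr h⟩
  have hin : {t : Finset Cfsg.GolayPt | (t.card = 2 ∧ p ∉ t ∧ q ∉ t) ∧ Disjoint s t ∧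
      (∃ o ∈ Cfsg.octads, p ∈ o ∧ q ∈ o ∧ s ∪ t ⊆ o)}.ncard = 30 := by
    have h := Cfsg.Agent.Helper9.Golay.ncard_joint_in T 4 2 5 hT (by norm_num)
      (Cfsg.Agent.Helper9.Golay.ncard_octads_sup_four T hT)
    have h30 : 5 * (8 - 4).choose 2 = 30 := by decide
    rw [h30] at h
    rw [← h]
    congr 1
    ext t
    simp only [Set.mem_ofPred_eq]
    rw [hdisjT, hexT]
    tauto
  refine ⟨hin, ?_, ?_⟩
  · have hall := Cfsg.Agent.Helper9.Golay.ncard_inter_eq T 2 0 (by norm_num)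
    rw [hT] at hall
    have hsplit : {y : Finset Cfsg.GolayPt | y.card = 2 ∧ (T ∩ y).card = 0}
        = {t : Finset Cfsg.GolayPt | (t.card = 2 ∧ p ∉ t ∧ q ∉ t) ∧ Disjoint s t ∧
            (∃ o ∈ Cfsg.octads, p ∈ o ∧ q ∈ o ∧ s ∪ t ⊆ o)} ∪
          {t : Finset Cfsg.GolayPt | (t.card = 2 ∧ p ∉ t ∧ q ∉ t) ∧ Disjoint s t ∧
            ¬ (∃ o ∈ Cfsg.octads, p ∈ o ∧ q ∈ o ∧ s ∪ t ⊆ o)} := by
      ext t
      simp only [Set.mem_ofPred_eq, Set.mem_union, Finset.card_eq_zero,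
        ← Finset.disjoint_iff_inter_eq_empty]
      rw [hdisjT]
      constructor
      · rintro ⟨h1, h2, h3, h4⟩
        by_cases h : ∃ o ∈ Cfsg.octads, p ∈ o ∧ q ∈ o ∧ s ∪ t ⊆ o
        · exact Or.inl ⟨⟨h1, h2, h3⟩, h4, h⟩
        · exact Or.inr ⟨⟨h1, h2, h3⟩, h4, h⟩
      · rintro (⟨⟨h1, h2, h3⟩, h4, -⟩ | ⟨⟨h1, h2, h3⟩, h4, -⟩)
        · exact ⟨h1, h2, h3, h4⟩
        · exact ⟨h1, h2, h3, h4⟩
    have hdisj : Disjoint
        {t : Finset Cfsg.GolayPt | (t.card = 2 ∧ p ∉ t ∧ q ∉ t) ∧ Disjoint s t ∧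
            (∃ o ∈ Cfsg.octads, p ∈ o ∧ q ∈ o ∧ s ∪ t ⊆ o)}
        {t : Finset Cfsg.GolayPt | (t.card = 2 ∧ p ∉ t ∧ q ∉ t) ∧ Disjoint s t ∧
            ¬ (∃ o ∈ Cfsg.octads, p ∈ o ∧ q ∈ o ∧ s ∪ t ⊆ o)} := by
      rw [Set.disjoint_left]
      rintro U ⟨-, -, h1⟩ ⟨-, -, h2⟩
      exact h2 h1
    rw [hsplit, Set.ncard_union_eq hdisj (Set.toFinite _) (Set.toFinite _), hin] at hall
    have : (4 : ℕ).choose 0 * (24 - 4).choose (2 - 0) = 190 := by decide
    omega
  · rintro t t' ⟨ht2, hpt, hqt⟩ ⟨ht'2, hpt', hqt'⟩ hts ht's hc hiff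
    have hle : (s ∩ t).card ≤ 2 := by
      have := Finset.card_le_card (Finset.inter_subset_left : s ∩ t ⊆ s)
      omega
    have hne2 : ∀ u : Finset Cfsg.GolayPt, u.card = 2 → u ≠ s → (s ∩ u).card ≠ 2 := by
      intro u hu hus h
      have e1 : s ∩ u = s := Finset.eq_of_subset_of_card_le Finset.inter_subset_left (by omega)
      have e2 : s ∩ u = u := Finset.eq_of_subset_of_card_le Finset.inter_subset_right (by omega)
      exact hus (e2.symm.trans e1)
    have h2 := hne2 t ht2 hts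
    by_cases h0 : (s ∩ t).card = 0
    · -- disjoint from `s`: six points
      have h0' : (s ∩ t').card = 0 := by rw [← hc]; exact h0
      have hd : Disjoint T t := by
        rw [hdisjT]
        refine ⟨hpt, hqt, ?_⟩
        rw [Finset.disjoint_iff_inter_eq_empty, ← Finset.card_eq_zero]; exact h0
      have hd' : Disjoint T t' := by
        rw [hdisjT]
        refine ⟨hpt', hqt', ?_⟩
        rw [Finset.disjoint_iff_inter_eq_empty, ← Finset.card_eq_zero]; exact h0'
      obtain ⟨g, hg, hfix, hgt⟩ := Cfsg.Agent.Helper9.Golay.sets6_trans T t t' 4 2 hT ht2 ht'2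
        (by norm_num) hd hd' (by rw [hexT, hexT]; exact hiff)
      have hgp : g p = p := hfix p (by rw [hTdef]; exact Finset.mem_insert_self _ _)
      have hgq : g q = q := hfix q (by
        rw [hTdef]; exact Finset.mem_insert_of_mem (Finset.mem_insert_self _ _))
      refine ⟨g, hg, hgp, hgq, ?_, hgt⟩
      ext x
      rw [Finset.mem_smul_finset]
      constructor
      · rintro ⟨y, hy, rfl⟩
        have : g y = y := hfix y (by
          rw [hTdef]; exact Finset.mem_insert_of_mem (Finset.mem_insert_of_mem hy))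
        rw [show g • y = g y from rfl, this]
        exact hy
      · intro hx
        refine ⟨x, hx, ?_⟩
        exact hfix x (by
          rw [hTdef]; exact Finset.mem_insert_of_mem (Finset.mem_insert_of_mem hx))
    · -- meeting `s` in one point: five points
      have hFy : ∀ x ∈ [p, q], x ∉ s ∪ t := by
        intro x hx
        simp only [List.mem_cons, List.not_mem_nil, or_false] at hx
        rw [Finset.mem_union]
        rcases hx with rfl | rfl
        · exact fun h => h.elim hps hpt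
        · exact fun h => h.elim hqs hqt
      have hFz : ∀ x ∈ [p, q], x ∉ s ∪ t' := by
        intro x hx
        simp only [List.mem_cons, List.not_mem_nil, or_false] at hx
        rw [Finset.mem_union]
        rcases hx with rfl | rfl
        · exact fun h => h.elim hps hpt'
        · exact fun h => h.elim hqs hqt'
      obtain ⟨g, hg, hfix, hgs, hgt⟩ := Cfsg.Agent.Helper9.Golay.m24_map_pair_fix [p, q]
        (by simp [hpq]) s t t' hFy hFz
        (by
          have := Finset.card_union_add_card_inter s t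
          simp only [List.length_cons, List.length_nil]
          omega) (by rw [ht2, ht'2]) hc
      exact ⟨g, hg, hfix p (by simp), hfix q (by simp), hgs, hgt⟩

end Cfsg.Agent.S1638
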