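import Cfsg.Statements.S1640
import Cfsg.Agent.Helper9.Leech.Census

set_option autoImplicit false
open Cfsg

namespace Cfsg.Agent.S1640

/-- The stabiliser of a vector of customary norm 6 is transitive on the 11178 minimal vectors of customary inner product −2 with it. -/
theorem result (u : ↥Cfsg.leechLattice) (hu : Cfsg.sqNorm (u : Cfsg.GolayPt → ℤ) = 48) : {x : ↥Cfsg.leechLattice | Cfsg.sqNorm (x : Cfsg.GolayPt → ℤ) = 32 ∧ Cfsg.dotInt (u : Cfsg.GolayPt → ℤ) (x : Cfsg.GolayPt → ℤ) = -16}.ncard = 11178 ∧ ∀ x ∈ {x : ↥Cfsg.leechLattice | Cfsg.sqNorm (x : Cfsg.GolayPt → ℤ) = 32 ∧ Cfsg.dotInt (u : Cfsg.GolayPt → ℤ) (x : Cfsg.GolayPt → ℤ) = -16}, ∀ x' ∈ {x : ↥Cfsg.leechLattice | Cfsg.sqNorm (x : Cfsg.GolayPt → ℤ) = 32 ∧ Cfsg.dotInt (u : Cfsg.GolayPt → ℤ) (x : Cfsg.GolayPt → ℤ) = -16}, ∃ g : ↥Cfsg.Co0, g • u = u ∧ g • x = x'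 := by
  refine ⟨Cfsg.Agent.Helper9.Leech.census_48 u hu (-16) 11178
    Cfsg.Agent.Helper9.Leech.cnt_alU_m16, ?_⟩
  rintro x ⟨hx1, hx2⟩ x' ⟨hx1', hx2'⟩
  obtain ⟨g0, hg0⟩ := Cfsg.Agent.Helper9.Leech.trans32 x x' hx1 hx1'
  have hu0 : Cfsg.sqNorm ((g0 • u : ↥Cfsg.leechLattice) : Cfsg.GolayPt → ℤ) = 48 := by
    rw [← hu]
    exact Cfsg.Agent.Helper9.Leech.co0_sqNorm g0 u
  have hd0 : Cfsg.dotInt (x' : Cfsg.GolayPt → ℤ)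
      ((g0 • u : ↥Cfsg.leechLattice) : Cfsg.GolayPt → ℤ) = -16 := by
    have h := Cfsg.Agent.Helper9.Leech.co0_dot g0 x u
    rw [hg0] at h
    rw [h, Cfsg.Agent.Helper9.Leech.dot_comm']
    exact hx2
  have hd1 : Cfsg.dotInt (x' : Cfsg.GolayPt → ℤ) (u : Cfsg.GolayPt → ℤ) = -16 := by
    rw [Cfsg.Agent.Helper9.Leech.dot_comm']
    exact hx2'
  obtain ⟨g1, hg1, hg2⟩ := Cfsg.Agent.Helper9.Leech.trans_pair3 x' (g0 • u) u hx1' hu0 hu hd0 hd1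
  refine ⟨g1 * g0, ?_, ?_⟩
  · rw [Cfsg.Agent.Helper9.Leech.mul_smul', hg2]
  · rw [Cfsg.Agent.Helper9.Leech.mul_smul', hg0, hg1]

end Cfsg.Agent.S1640
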