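import Cfsg.Statements.S1641
import Cfsg.Agent.Helper9.Leech.HS8

set_option autoImplicit false
open Cfsg

namespace Cfsg.Agent.S1641

/-- The third Conway group acts on the 11178 cosets of the Higman–Sims group with rank 5 and subdegrees 1, 352, 1100, 4125, 5600. -/
theorem result (u x : ↥Cfsg.leechLattice) (hu : Cfsg.sqNorm (u : Cfsg.GolayPt → ℤ) = 48) (hx : x ∈ {x : ↥Cfsg.leechLattice | Cfsg.sqNorm (x : Cfsg.GolayPt → ℤ) = 32 ∧ Cfsg.dotInt (u : Cfsg.GolayPt → ℤ) (x : Cfsg.GolayPt → ℤ) = -16}) : ∃ y₁ ∈ {x : ↥Cfsg.leechLattice | Cfsg.sqNorm (x : Cfsg.GolayPt → ℤ) = 32 ∧ Cfsg.dotInt (u : Cfsg.GolayPt → ℤ) (x : Cfsg.GolayPt → ℤ) = -16}, ∃ y₂ ∈ {x : ↥Cfsg.leechLattice | Cfsg.sqNorm (x : Cfsg.GolayPt → ℤ) = 32 ∧ Cfsg.dotInt (u : Cfsg.GolayPt → ℤ) (x : Cfsg.GolayPt → ℤ) = -16}, ∃ y₃ ∈ {x : ↥Cfsg.leechLattice | Cfsg.sqNorm (x : Cfsg.GolayPt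 → ℤ) = 32 ∧ Cfsg.dotInt (u : Cfsg.GolayPt → ℤ) (x : Cfsg.GolayPt → ℤ) = -16}, ∃ y₄ ∈ {x : ↥Cfsg.leechLattice | Cfsg.sqNorm (x : Cfsg.GolayPt → ℤ) = 32 ∧ Cfsg.dotInt (u : Cfsg.GolayPt → ℤ) (x : Cfsg.GolayPt → ℤ) = -16}, (MulAction.orbit ↥(MulAction.stabilizer ↥Cfsg.Co0 u ⊓ MulAction.stabilizer ↥Cfsg.Co0 x) y₁).ncard = 352 ∧ (MulAction.orbit ↥(MulAction.stabilizer ↥Cfsg.Co0 u ⊓ MulAction.stabilizer ↥Cfsg.Co0 x) y₂).ncard = 1100 ∧ (MulAction.orbit ↥(MulAction.stabilizer ↥Cfsg.Co0 u ⊓ MulAction.stabilizer ↥Cfsg.Co0 x) y₃).ncard = 4125 ∧ (MulAction.orbit ↥(MulAction.stabilizer ↥Cfsg.Co0 u ⊓ MulAction.stabilizer ↥Cfsg.Co0 x) y₄).ncard = 5600 ∧ {x : ↥Cfsg.leechLattice | Cfsg.sqNorm (x : Cfsg.GolayPt → ℤ) = 32 ∧ Cfsg.dotInt (u : Cfsg.GolayPt → ℤ) (x : Cfsg.GolayPt → ℤ) = -16} = {x} ∪ MulAction.orbit ↥(MulAction.stabilizer ↥Cfsg.Co0 u ⊓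 MulAction.stabilizer ↥Cfsg.Co0 x) y₁ ∪ MulAction.orbit ↥(MulAction.stabilizer ↥Cfsg.Co0 u ⊓ MulAction.stabilizer ↥Cfsg.Co0 x) y₂ ∪ MulAction.orbit ↥(MulAction.stabilizer ↥Cfsg.Co0 u ⊓ MulAction.stabilizer ↥Cfsg.Co0 x) y₃ ∪ MulAction.orbit ↥(MulAction.stabilizer ↥Cfsg.Co0 u ⊓ MulAction.stabilizer ↥Cfsg.Co0 x) y₄ := by
  have key : ∀ (d : ℤ) (n : ℕ), 0 < n → d ≠ 32 → -100 ≤ d → d ≤ 100 →
      Cfsg.Agent.Helper9.Leech.cntFast Cfsg.Agent.Helper9.Leech.alHX (-16 + 1000 * d) = n →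
      ∃ y ∈ {x : ↥Cfsg.leechLattice | Cfsg.sqNorm (x : Cfsg.GolayPt → ℤ) = 32 ∧
          Cfsg.dotInt (u : Cfsg.GolayPt → ℤ) (x : Cfsg.GolayPt → ℤ) = -16},
        MulAction.orbit ↥(MulAction.stabilizer ↥Cfsg.Co0 u ⊓ MulAction.stabilizer ↥Cfsg.Co0 x) y =
          {y' : ↥Cfsg.leechLattice | (Cfsg.sqNorm (y' : Cfsg.GolayPt → ℤ) = 32 ∧
            Cfsg.dotInt (u : Cfsg.GolayPt → ℤ) (y' : Cfsg.GolayPt → ℤ) = -16) ∧
            Cfsg.dotInt (x : Cfsg.GolayPt → ℤ) (y' : Cfsg.GolayPt → ℤ) = d} ∧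
        (MulAction.orbit ↥(MulAction.stabilizer ↥Cfsg.Co0 u ⊓
          MulAction.stabilizer ↥Cfsg.Co0 x) y).ncard = n := by
    intro d n hn hd32 hd1 hd2 hcnt
    have hc := Cfsg.Agent.Helper9.Leech.hs_suborbit_card u x hu hx d n hd1 hd2 hcnt
    have hne : {y : ↥Cfsg.leechLattice | (Cfsg.sqNorm (y : Cfsg.GolayPt → ℤ) = 32 ∧
        Cfsg.dotInt (u : Cfsg.GolayPt → ℤ) (y : Cfsg.GolayPt → ℤ) = -16) ∧
        Cfsg.dotInt (x : Cfsg.GolayPt → ℤ) (y : Cfsg.GolayPt → ℤ) = d}.Nonempty := by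
      apply Set.nonempty_of_ncard_ne_zero
      rw [hc]
      exact Nat.pos_iff_ne_zero.mp hn
    obtain ⟨y, hy, hyd⟩ := hne
    have ho := Cfsg.Agent.Helper9.Leech.hs_orbit u x y hu hx hy (by rw [hyd]; exact hd32)
    rw [hyd] at ho
    refine ⟨y, hy, ho, ?_⟩
    rw [ho]
    exact hc
  obtain ⟨y1, hy1, o1, h1⟩ := key (-8) 352 (by norm_num) (by norm_num) (by norm_num) (by norm_num)
    (by rw [show (-16 + 1000 * (-8) : ℤ) = -8016 by norm_num]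
        exact Cfsg.Agent.Helper9.Leech.cnt_alHX_m8)
  obtain ⟨y2, hy2, o2, h2⟩ := key 16 1100 (by norm_num) (by norm_num) (by norm_num) (by norm_num)
    (by rw [show (-16 + 1000 * 16 : ℤ) = 15984 by norm_num]
        exact Cfsg.Agent.Helper9.Leech.cnt_alHX_16)
  obtain ⟨y3, hy3, o3, h3⟩ := key 0 4125 (by norm_num) (by norm_num) (by norm_num) (by norm_num)
    (by rw [show (-16 + 1000 * 0 : ℤ) = -16 by norm_num]
        exact Cfsg.Agent.Helper9.Leech.cnt_alHX_0)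
  obtain ⟨y4, hy4, o4, h4⟩ := key 8 5600 (by norm_num) (by norm_num) (by norm_num) (by norm_num)
    (by rw [show (-16 + 1000 * 8 : ℤ) = 7984 by norm_num]
        exact Cfsg.Agent.Helper9.Leech.cnt_alHX_8)
  refine ⟨y1, hy1, y2, hy2, y3, hy3, y4, hy4, h1, h2, h3, h4, ?_⟩
  rw [o1, o2, o3, o4]
  ext y
  simp only [Set.mem_union, Set.mem_singleton_iff, Set.mem_setOf_eq]
  constructor
  · intro hy
    by_cases hyx : y = x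
    · exact Or.inl (Or.inl (Or.inl (Or.inl hyx)))
    · rcases Cfsg.Agent.Helper9.Leech.hs_dot_cases u x y hu hx hy hyx with h | h | h | h
      · exact Or.inl (Or.inl (Or.inl (Or.inr ⟨hy, h⟩)))
      · exact Or.inl (Or.inr ⟨hy, h⟩)
      · exact Or.inr ⟨hy, h⟩
      · exact Or.inl (Or.inl (Or.inr ⟨hy, h⟩))
  · rintro (((((h | h) | h) | h) | h))
    · rw [h]
      exact hx
    · exact h.1
    · exact h.1
    · exact h.1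
    · exact h.1

end Cfsg.Agent.S1641
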