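import Cfsg.Statements.S1666
import Cfsg.Agent.Helper9.HSRec.SporHS

set_option autoImplicit false
open Cfsg

namespace Cfsg.Agent.S1666

/-- Recognition of the Higman–Sims group as a rank 3 permutation group: a transitive permutation group on 100 points in which the stabiliser of a point is isomorphic to the Mathieu group M₂₂ and has two further orbits, of sizes 22 and 77, is isomorphic to the Higman–Sims group. -/
theorem result {Ω : Type*} [Fintype Ω] [DecidableEq Ω] (hΩ : Fintype.card Ω = 100) (G : Subgroup (Equiv.Perm Ω)) [MulAction.IsPretransitive G Ω] (a : Ω)  (e : MulAction.stabilizer G a ≃* Cfsg.Spor.M22) (b c : Ω) (hb : (MulAction.orbit (MulAction.stabilizer G a) b).ncard = 22) (hc : (MulAction.orbit (MulAction.stabilizer G a) c).ncard = 77) : Cfsg.Spor.IsoHS G := by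
  classical
  obtain ⟨h1, h2⟩ := Cfsg.Agent.Helper9.HSRec.r3_of_hyp hΩ G a Cfsg.Agent.Helper9.HSRec.dc_M22 e
    Cfsg.Agent.Helper9.OutM22.card_M22 b c hb hc
  haveI : Finite ↥(Cfsg.Agent.Helper9.Leech.hsPts Cfsg.Agent.Helper9.HSRec.vS
      Cfsg.Agent.Helper9.HSRec.wS) :=
    Nat.finite_of_card_ne_zero (by
      rw [Cfsg.Agent.Helper9.Leech.hs_card_pts _ _ Cfsg.Agent.Helper9.HSRec.sqNorm_vS
        Cfsg.Agent.Helper9.HSRec.sqNorm_wS Cfsg.Agent.Helper9.HSRec.dot_vS_wS]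
      norm_num)
  haveI : Fintype ↥(Cfsg.Agent.Helper9.Leech.hsPts Cfsg.Agent.Helper9.HSRec.vS
      Cfsg.Agent.Helper9.HSRec.wS) := Fintype.ofFinite _
  obtain ⟨G', a', b', c', ⟨eG⟩, hr, hcG⟩ := Cfsg.Agent.Helper9.HSRec.hs_r3 _ _
    Cfsg.Agent.Helper9.HSRec.sqNorm_vS Cfsg.Agent.Helper9.HSRec.sqNorm_wS
    Cfsg.Agent.Helper9.HSRec.dot_vS_wS
  obtain ⟨i⟩ := Cfsg.Agent.Helper9.HSRec.main_iso h1 h2 hr hcG
  exact ⟨(i.trans eG.symm).trans Cfsg.Agent.Helper9.HSRec.sporHSEquiv.symm⟩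

end Cfsg.Agent.S1666
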