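import Mathlib
import Cfsg.Agent.Helper5.TC2F
import Cfsg.Agent.Helper5.SuzcTCSum
import Cfsg.Statements.S1680
-- import your own Cfsg.Agent.* helpers here

set_option autoImplicit false
open Cfsg

namespace Cfsg.Agent.S1680

/-- decoding of the generators. -/
def dec : ℕ → Cfsg.Spor.Suz.Gen
  | 0 => .a
  | 1 => .b
  | 2 => .c
  | 3 => .d
  | 4 => .e
  | 5 => .f
  | _ => .g

/-- encoding of the generators. -/
def enc : Cfsg.Spor.Suz.Gen → ℕ
  | .a => 0
  | .b => 1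
  | .c => 2
  | .d => 3
  | .e => 4
  | .f => 5
  | .g => 6

open Cfsg.Agent.Helper5.TC Cfsg.Agent.Helper5.SuzcTC Cfsg.Spor in
theorem cox_ok : coxOK D (fun x y => coxLabel Suz.edges (dec y) (dec x)) = true := by
  decide +kernel

theorem wm_core {K : Type} [Group K] (γ : ℕ → K) (hγ : ∀ x, γ x * γ x = 1) (x : ℕ) :
    (γ x)⁻¹ = γ x := inv_eq_of_mul_eq_one_left (hγ x)

set_option linter.unusedSimpArgs false in
set_option maxRecDepth 100000 in
open Cfsg.Agent.Helper5.TC Cfsg.Agent.Helper5.SuzcTC Cfsg.Spor in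
theorem extra_match : ∀ i (hi : i < Suz.extra.length),
    WordMatch enc (Suz.extra[i]) (D.wlen (D.k * D.k + i)) (D.wordP (D.k * D.k + i)) := by
  intro i hi
  have hi' : i < 5 := hi
  interval_cases i
  · intro K _ γ hγ
    have e : D.k * D.k + 0 = 49 := rfl
    simp only [e, word_49, Suz.extra, List.getElem_cons_zero, List.getElem_cons_succ]
    simp only [Suz.a, Suz.b, Suz.c, Suz.d, Suz.e, Suz.f, Suz.g, map_mul, map_inv, map_pow,
      FreeGroup.lift_apply_of, enc, rprod, one_mul, pow_succ, pow_zero, mul_inv_rev,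
      wm_core γ hγ, mul_assoc]
  · intro K _ γ hγ
    have e : D.k * D.k + 1 = 50 := rfl
    simp only [e, word_50, Suz.extra, List.getElem_cons_zero, List.getElem_cons_succ]
    simp only [Suz.a, Suz.b, Suz.c, Suz.d, Suz.e, Suz.f, Suz.g, map_mul, map_inv, map_pow,
      FreeGroup.lift_apply_of, enc, rprod, one_mul, pow_succ, pow_zero, mul_inv_rev,
      wm_core γ hγ, mul_assoc]
  · intro K _ γ hγ
    have e : D.k * D.k + 2 = 51 := rfl
    simp only [e, word_51, Suz.extra, List.getElem_cons_zero, List.getElem_cons_succ]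
    simp only [Suz.a, Suz.b, Suz.c, Suz.d, Suz.e, Suz.f, Suz.g, map_mul, map_inv, map_pow,
      FreeGroup.lift_apply_of, enc, rprod, one_mul, pow_succ, pow_zero, mul_inv_rev,
      wm_core γ hγ, mul_assoc]
  · intro K _ γ hγ
    have e : D.k * D.k + 3 = 52 := rfl
    simp only [e, word_52, Suz.extra, List.getElem_cons_zero, List.getElem_cons_succ]
    simp only [Suz.a, Suz.b, Suz.c, Suz.d, Suz.e, Suz.f, Suz.g, map_mul, map_inv, map_pow,
      FreeGroup.lift_apply_of, enc, rprod, one_mul, pow_succ, pow_zero, mul_inv_rev,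
      wm_core γ hγ, mul_assoc]
  · intro K _ γ hγ
    have e : D.k * D.k + 4 = 53 := rfl
    simp only [e, word_53, Suz.extra, List.getElem_cons_zero, List.getElem_cons_succ]
    simp only [Suz.a, Suz.b, Suz.c, Suz.d, Suz.e, Suz.f, Suz.g, map_mul, map_inv, map_pow,
      FreeGroup.lift_apply_of, enc, rprod, one_mul, pow_succ, pow_zero, mul_inv_rev,
      wm_core γ hγ, mul_assoc]

/-- the subgroup generators. -/
def subs : List (FreeGroup Cfsg.Spor.Suz.Gen) :=
  [Cfsg.Spor.Suz.a, Cfsg.Spor.Suz.b, Cfsg.Spor.Suz.c, Cfsg.Spor.Suz.d, Cfsg.Spor.Suz.e, Cfsg.Spor.Suz.f]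

set_option linter.unusedSimpArgs false in
set_option maxRecDepth 100000 in
open Cfsg.Agent.Helper5.TC Cfsg.Agent.Helper5.SuzcTC Cfsg.Spor in
theorem subs_match : ∀ i (hi : i < subs.length),
    WordMatch enc (subs[i]) (D.wlen (D.nrel + i)) (D.wordP (D.nrel + i)) := by
  intro i hi
  have hi' : i < 6 := hi
  interval_cases i
  · intro K _ γ hγ
    have e : D.nrel + 0 = 54 := rfl
    simp only [e, word_54, subs, List.getElem_cons_zero, List.getElem_cons_succ]
    simp only [Suz.a, Suz.b, Suz.c, Suz.d, Suz.e, Suz.f, Suz.g, map_mul, map_inv, map_pow,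
      FreeGroup.lift_apply_of, enc, rprod, one_mul, pow_succ, pow_zero, mul_inv_rev,
      wm_core γ hγ, mul_assoc]
  · intro K _ γ hγ
    have e : D.nrel + 1 = 55 := rfl
    simp only [e, word_55, subs, List.getElem_cons_zero, List.getElem_cons_succ]
    simp only [Suz.a, Suz.b, Suz.c, Suz.d, Suz.e, Suz.f, Suz.g, map_mul, map_inv, map_pow,
      FreeGroup.lift_apply_of, enc, rprod, one_mul, pow_succ, pow_zero, mul_inv_rev,
      wm_core γ hγ, mul_assoc]
  · intro K _ γ hγ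
    have e : D.nrel + 2 = 56 := rfl
    simp only [e, word_56, subs, List.getElem_cons_zero, List.getElem_cons_succ]
    simp only [Suz.a, Suz.b, Suz.c, Suz.d, Suz.e, Suz.f, Suz.g, map_mul, map_inv, map_pow,
      FreeGroup.lift_apply_of, enc, rprod, one_mul, pow_succ, pow_zero, mul_inv_rev,
      wm_core γ hγ, mul_assoc]
  · intro K _ γ hγ
    have e : D.nrel + 3 = 57 := rfl
    simp only [e, word_57, subs, List.getElem_cons_zero, List.getElem_cons_succ]
    simp only [Suz.a, Suz.b, Suz.c, Suz.d, Suz.e, Suz.f, Suz.g, map_mul, map_inv, map_pow,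
      FreeGroup.lift_apply_of, enc, rprod, one_mul, pow_succ, pow_zero, mul_inv_rev,
      wm_core γ hγ, mul_assoc]
  · intro K _ γ hγ
    have e : D.nrel + 4 = 58 := rfl
    simp only [e, word_58, subs, List.getElem_cons_zero, List.getElem_cons_succ]
    simp only [Suz.a, Suz.b, Suz.c, Suz.d, Suz.e, Suz.f, Suz.g, map_mul, map_inv, map_pow,
      FreeGroup.lift_apply_of, enc, rprod, one_mul, pow_succ, pow_zero, mul_inv_rev,
      wm_core γ hγ, mul_assoc]
  · intro K _ γ hγ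
    have e : D.nrel + 5 = 59 := rfl
    simp only [e, word_59, subs, List.getElem_cons_zero, List.getElem_cons_succ]
    simp only [Suz.a, Suz.b, Suz.c, Suz.d, Suz.e, Suz.f, Suz.g, map_mul, map_inv, map_pow,
      FreeGroup.lift_apply_of, enc, rprod, one_mul, pow_succ, pow_zero, mul_inv_rev,
      wm_core γ hγ, mul_assoc]

theorem subs_set : ({Cfsg.Spor.Suz.a, Cfsg.Spor.Suz.b, Cfsg.Spor.Suz.c, Cfsg.Spor.Suz.d, Cfsg.Spor.Suz.e, Cfsg.Spor.Suz.f} : Set (FreeGroup Cfsg.Spor.Suz.Gen)) = {s | s ∈ subs} := by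
  ext s
  simp [subs]

/-- In the presented sporadic Suzuki group, let H be the subgroup generated by the images of a, …, f. Then H has index 1782, H has orbits of sizes 416 and 1365 on the cosets of H other than H itself (with the index 1782 this makes the action rank 3). -/
theorem result : (((Subgroup.closure ({Cfsg.Spor.Suz.a, Cfsg.Spor.Suz.b, Cfsg.Spor.Suz.c, Cfsg.Spor.Suz.d, Cfsg.Spor.Suz.e, Cfsg.Spor.Suz.f} : Set (FreeGroup Cfsg.Spor.Suz.Gen))).map (PresentedGroup.mk (Cfsg.Spor.coxRelators Cfsg.Spor.Suz.edges ∪ {r | r ∈ Cfsg.Spor.Suz.extra})))).index = 1782 ∧ ∃ q₁ q₂ : Cfsg.Spor.Suz ⧸ (((Subgroup.closure ({Cfsg.Spor.Suz.a, Cfsg.Spor.Suz.b, Cfsg.Spor.Suz.c, Cfsg.Spor.Suz.d, Cfsg.Spor.Suz.e, Cfsg.Spor.Suz.f} : Set (FreeGroup Cfsg.Spor.Suz.Gen))).map (PresentedGroup.mk (Cfsg.Spor.coxRelators Cfsg.Spor.Suz.edges ∪ {r | r ∈ Cfsg.Spor.Suz.extra})))), (MulAction.orbit (((Subgroup.closure ({Cfsg.Spor.Suz.a, Cfsg.Spor.Suz.b,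 Cfsg.Spor.Suz.c, Cfsg.Spor.Suz.d, Cfsg.Spor.Suz.e, Cfsg.Spor.Suz.f} : Set (FreeGroup Cfsg.Spor.Suz.Gen))).map (PresentedGroup.mk (Cfsg.Spor.coxRelators Cfsg.Spor.Suz.edges ∪ {r | r ∈ Cfsg.Spor.Suz.extra})))) q₁).ncard = 416 ∧ (MulAction.orbit (((Subgroup.closure ({Cfsg.Spor.Suz.a, Cfsg.Spor.Suz.b, Cfsg.Spor.Suz.c, Cfsg.Spor.Suz.d, Cfsg.Spor.Suz.e, Cfsg.Spor.Suz.f} : Set (FreeGroup Cfsg.Spor.Suz.Gen))).map (PresentedGroup.mk (Cfsg.Spor.coxRelators Cfsg.Spor.Suz.edges ∪ {r | r ∈ Cfsg.Spor.Suz.extra})))) q₂).ncard = 1365 := by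
  rw [subs_set]
  obtain ⟨hidx, φ, -, horb⟩ := Cfsg.Agent.Helper5.TC.presented_index2 Cfsg.Spor.Suz.edges
    Cfsg.Spor.Suz.extra subs dec enc Cfsg.Agent.Helper5.SuzcTC.E (T := Cfsg.Agent.Helper5.SuzcTC.ctF)
    (by intro z; cases z <;> rfl)
    (by intro x hx; have hx' : x < 7 := hx; interval_cases x <;> rfl)
    (by intro z; cases z <;> decide)
    (by intro z; cases z <;> decide)
    rfl rfl extra_match subs_match cox_ok Cfsg.Agent.Helper5.SuzcTC.rev_ok
    Cfsg.Agent.Helper5.SuzcTC.hE Cfsg.Agent.Helper5.SuzcTC.hA Cfsg.Agent.Helper5.SuzcTC.set_ok Cfsg.Agent.Helper5.SuzcTC.hrows (by norm_num) Cfsg.Agent.Helper5.SuzcTC.hT Cfsg.Agent.Helper5.SuzcTC.hltr Cfsg.Agent.Helper5.SuzcTC.hrelT Cfsg.Agent.Helper5.SuzcTC.hsubT Cfsg.Agent.Helper5.SuzcTC.hconn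
  refine ⟨hidx, φ.symm ⟨47, by norm_num⟩, φ.symm ⟨1, by norm_num⟩, ?_, ?_⟩
  · exact (horb _ 47 416 _ Cfsg.Agent.Helper5.SuzcTC.orb2_ok _ (by simp)).2
  · exact (horb _ 1 1365 _ Cfsg.Agent.Helper5.SuzcTC.orb1_ok _ (by simp)).2

end Cfsg.Agent.S1680
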