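import Mathlib
import Cfsg.Agent.Helper5.TC2F
import Cfsg.Agent.Helper5.HecTCSum
import Cfsg.Statements.S1683
-- import your own Cfsg.Agent.* helpers here

set_option autoImplicit false
open Cfsg

namespace Cfsg.Agent.S1683

/-- decoding of the generators. -/
def dec : ℕ → Cfsg.Spor.He.Gen
  | 0 => .a
  | 1 => .b
  | 2 => .c
  | 3 => .d
  | 4 => .e
  | 5 => .f
  | _ => .g

/-- encoding of the generators. -/
def enc : Cfsg.Spor.He.Gen → ℕ
  | .a => 0
  | .b => 1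
  | .c => 2
  | .d => 3
  | .e => 4
  | .f => 5
  | .g => 6

open Cfsg.Agent.Helper5.TC Cfsg.Agent.Helper5.HecTC Cfsg.Spor in
theorem cox_ok : coxOK D (fun x y => coxLabel He.edges (dec y) (dec x)) = true := by
  decide +kernel

theorem wm_core {K : Type} [Group K] (γ : ℕ → K) (hγ : ∀ x, γ x * γ x = 1) (x : ℕ) :
    (γ x)⁻¹ = γ x := inv_eq_of_mul_eq_one_left (hγ x)

set_option linter.unusedSimpArgs false in
set_option maxRecDepth 100000 in
open Cfsg.Agent.Helper5.TC Cfsg.Agent.Helper5.HecTC Cfsg.Spor in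
theorem extra_match : ∀ i (hi : i < He.extra.length),
    WordMatch enc (He.extra[i]) (D.wlen (D.k * D.k + i)) (D.wordP (D.k * D.k + i)) := by
  intro i hi
  have hi' : i < 4 := hi
  interval_cases i
  · intro K _ γ hγ
    have e : D.k * D.k + 0 = 49 := rfl
    simp only [e, word_49, He.extra, List.getElem_cons_zero, List.getElem_cons_succ]
    simp only [He.a, He.b, He.c, He.d, He.e, He.f, He.g, map_mul, map_inv, map_pow,
      FreeGroup.lift_apply_of, enc, rprod, one_mul, pow_succ, pow_zero, mul_inv_rev,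
      wm_core γ hγ, mul_assoc]
  · intro K _ γ hγ
    have e : D.k * D.k + 1 = 50 := rfl
    simp only [e, word_50, He.extra, List.getElem_cons_zero, List.getElem_cons_succ]
    simp only [He.a, He.b, He.c, He.d, He.e, He.f, He.g, map_mul, map_inv, map_pow,
      FreeGroup.lift_apply_of, enc, rprod, one_mul, pow_succ, pow_zero, mul_inv_rev,
      wm_core γ hγ, mul_assoc]
  · intro K _ γ hγ
    have e : D.k * D.k + 2 = 51 := rfl
    simp only [e, word_51, He.extra, List.getElem_cons_zero, List.getElem_cons_succ]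
    simp only [He.a, He.b, He.c, He.d, He.e, He.f, He.g, map_mul, map_inv, map_pow,
      FreeGroup.lift_apply_of, enc, rprod, one_mul, pow_succ, pow_zero, mul_inv_rev,
      wm_core γ hγ, mul_assoc]
  · intro K _ γ hγ
    have e : D.k * D.k + 3 = 52 := rfl
    simp only [e, word_52, He.extra, List.getElem_cons_zero, List.getElem_cons_succ]
    simp only [He.a, He.b, He.c, He.d, He.e, He.f, He.g, map_mul, map_inv, map_pow,
      FreeGroup.lift_apply_of, enc, rprod, one_mul, pow_succ, pow_zero, mul_inv_rev,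
      wm_core γ hγ, mul_assoc]

/-- the subgroup generators. -/
def subs : List (FreeGroup Cfsg.Spor.He.Gen) :=
  [Cfsg.Spor.He.a, Cfsg.Spor.He.c, Cfsg.Spor.He.d, Cfsg.Spor.He.e, Cfsg.Spor.He.f, (Cfsg.Spor.He.a * Cfsg.Spor.He.b) ^ 2, (Cfsg.Spor.He.b * Cfsg.Spor.He.c * Cfsg.Spor.He.d * Cfsg.Spor.He.e) ^ 7]

set_option linter.unusedSimpArgs false in
set_option maxRecDepth 100000 in
open Cfsg.Agent.Helper5.TC Cfsg.Agent.Helper5.HecTC Cfsg.Spor in
theorem subs_match : ∀ i (hi : i < subs.length),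
    WordMatch enc (subs[i]) (D.wlen (D.nrel + i)) (D.wordP (D.nrel + i)) := by
  intro i hi
  have hi' : i < 7 := hi
  interval_cases i
  · intro K _ γ hγ
    have e : D.nrel + 0 = 53 := rfl
    simp only [e, word_53, subs, List.getElem_cons_zero, List.getElem_cons_succ]
    simp only [He.a, He.b, He.c, He.d, He.e, He.f, He.g, map_mul, map_inv, map_pow,
      FreeGroup.lift_apply_of, enc, rprod, one_mul, pow_succ, pow_zero, mul_inv_rev,
      wm_core γ hγ, mul_assoc]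
  · intro K _ γ hγ
    have e : D.nrel + 1 = 54 := rfl
    simp only [e, word_54, subs, List.getElem_cons_zero, List.getElem_cons_succ]
    simp only [He.a, He.b, He.c, He.d, He.e, He.f, He.g, map_mul, map_inv, map_pow,
      FreeGroup.lift_apply_of, enc, rprod, one_mul, pow_succ, pow_zero, mul_inv_rev,
      wm_core γ hγ, mul_assoc]
  · intro K _ γ hγ
    have e : D.nrel + 2 = 55 := rfl
    simp only [e, word_55, subs, List.getElem_cons_zero, List.getElem_cons_succ]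
    simp only [He.a, He.b, He.c, He.d, He.e, He.f, He.g, map_mul, map_inv, map_pow,
      FreeGroup.lift_apply_of, enc, rprod, one_mul, pow_succ, pow_zero, mul_inv_rev,
      wm_core γ hγ, mul_assoc]
  · intro K _ γ hγ
    have e : D.nrel + 3 = 56 := rfl
    simp only [e, word_56, subs, List.getElem_cons_zero, List.getElem_cons_succ]
    simp only [He.a, He.b, He.c, He.d, He.e, He.f, He.g, map_mul, map_inv, map_pow,
      FreeGroup.lift_apply_of, enc, rprod, one_mul, pow_succ, pow_zero, mul_inv_rev,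
      wm_core γ hγ, mul_assoc]
  · intro K _ γ hγ
    have e : D.nrel + 4 = 57 := rfl
    simp only [e, word_57, subs, List.getElem_cons_zero, List.getElem_cons_succ]
    simp only [He.a, He.b, He.c, He.d, He.e, He.f, He.g, map_mul, map_inv, map_pow,
      FreeGroup.lift_apply_of, enc, rprod, one_mul, pow_succ, pow_zero, mul_inv_rev,
      wm_core γ hγ, mul_assoc]
  · intro K _ γ hγ
    have e : D.nrel + 5 = 58 := rfl
    simp only [e, word_58, subs, List.getElem_cons_zero, List.getElem_cons_succ]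
    simp only [He.a, He.b, He.c, He.d, He.e, He.f, He.g, map_mul, map_inv, map_pow,
      FreeGroup.lift_apply_of, enc, rprod, one_mul, pow_succ, pow_zero, mul_inv_rev,
      wm_core γ hγ, mul_assoc]
  · intro K _ γ hγ
    have e : D.nrel + 6 = 59 := rfl
    simp only [e, word_59, subs, List.getElem_cons_zero, List.getElem_cons_succ]
    simp only [He.a, He.b, He.c, He.d, He.e, He.f, He.g, map_mul, map_inv, map_pow,
      FreeGroup.lift_apply_of, enc, rprod, one_mul, pow_succ, pow_zero, mul_inv_rev,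
      wm_core γ hγ, mul_assoc]

theorem subs_set : ({Cfsg.Spor.He.a, Cfsg.Spor.He.c, Cfsg.Spor.He.d, Cfsg.Spor.He.e, Cfsg.Spor.He.f, (Cfsg.Spor.He.a * Cfsg.Spor.He.b) ^ 2, (Cfsg.Spor.He.b * Cfsg.Spor.He.c * Cfsg.Spor.He.d * Cfsg.Spor.He.e) ^ 7} : Set (FreeGroup Cfsg.Spor.He.Gen)) = {s | s ∈ subs} := by
  ext s
  simp [subs]

/-- In the presented Held group, let H be the subgroup generated by the images of a, c, d, e, f, (ab)^2 and (bcde)^7. Then H has index 2058, there are four distinct H-orbits on the cosets of H other than H itself, of sizes 136, 136, 425 and 1360. -/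
theorem result : (((Subgroup.closure ({Cfsg.Spor.He.a, Cfsg.Spor.He.c, Cfsg.Spor.He.d, Cfsg.Spor.He.e, Cfsg.Spor.He.f, (Cfsg.Spor.He.a * Cfsg.Spor.He.b) ^ 2, (Cfsg.Spor.He.b * Cfsg.Spor.He.c * Cfsg.Spor.He.d * Cfsg.Spor.He.e) ^ 7} : Set (FreeGroup Cfsg.Spor.He.Gen))).map (PresentedGroup.mk (Cfsg.Spor.coxRelators Cfsg.Spor.He.edges ∪ {r | r ∈ Cfsg.Spor.He.extra})))).index = 2058 ∧ ∃ q₁ q₂ q₃ q₄ : Cfsg.Spor.He ⧸ (((Subgroup.closure ({Cfsg.Spor.He.a, Cfsg.Spor.He.c, Cfsg.Spor.He.d, Cfsg.Spor.He.e, Cfsg.Spor.He.f, (Cfsg.Spor.He.a * Cfsg.Spor.He.b) ^ 2, (Cfsg.Spor.He.b * Cfsg.Spor.He.c * Cfsg.Spor.He.d * Cfsg.Spor.He.e) ^ 7} : Set (FreeGroup Cfsg.Spor.He.Gen))).map (PresentedGroup.mk (Cfsg.Spor.coxRelators Cfsg.Spor.He.edges ∪ {r | r ∈ Cfsg.Spor.He.extra})))), MulAction.orbit (((Subgroup.closure ({Cfsg.Spor.He.a, Cfsg.Spor.He.c, Cfsg.Spor.He.d, Cfsg.Spor.He.e, Cfsg.Spor.He.f, (Cfsg.Spor.He.a * Cfsg.Spor.He.b)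 ^ 2, (Cfsg.Spor.He.b * Cfsg.Spor.He.c * Cfsg.Spor.He.d * Cfsg.Spor.He.e) ^ 7} : Set (FreeGroup Cfsg.Spor.He.Gen))).map (PresentedGroup.mk (Cfsg.Spor.coxRelators Cfsg.Spor.He.edges ∪ {r | r ∈ Cfsg.Spor.He.extra})))) q₁ ≠ MulAction.orbit (((Subgroup.closure ({Cfsg.Spor.He.a, Cfsg.Spor.He.c, Cfsg.Spor.He.d, Cfsg.Spor.He.e, Cfsg.Spor.He.f, (Cfsg.Spor.He.a * Cfsg.Spor.He.b) ^ 2, (Cfsg.Spor.He.b * Cfsg.Spor.He.c * Cfsg.Spor.He.d * Cfsg.Spor.He.e) ^ 7} : Set (FreeGroup Cfsg.Spor.He.Gen))).map (PresentedGroup.mk (Cfsg.Spor.coxRelators Cfsg.Spor.He.edges ∪ {r | r ∈ Cfsg.Spor.He.extra})))) q₂ ∧ (MulAction.orbit (((Subgroup.closure ({Cfsg.Spor.He.a, Cfsg.Spor.He.c, Cfsg.Spor.He.d, Cfsg.Spor.He.e, Cfsg.Spor.He.f, (Cfsg.Spor.He.a * Cfsg.Spor.He.b) ^ 2, (Cfsg.Spor.He.b * Cfsg.Spor.He.c * Cfsg.Spor.He.d * Cfsg.Spor.He.e) ^ 7} : Set (FreeGroup Cfsg.Spor.He.Gen))).map (PresentedGroup.mk (Cfsg.Spor.coxRelators Cfsg.Spor.He.edges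 ∪ {r | r ∈ Cfsg.Spor.He.extra})))) q₁).ncard = 136 ∧ (MulAction.orbit (((Subgroup.closure ({Cfsg.Spor.He.a, Cfsg.Spor.He.c, Cfsg.Spor.He.d, Cfsg.Spor.He.e, Cfsg.Spor.He.f, (Cfsg.Spor.He.a * Cfsg.Spor.He.b) ^ 2, (Cfsg.Spor.He.b * Cfsg.Spor.He.c * Cfsg.Spor.He.d * Cfsg.Spor.He.e) ^ 7} : Set (FreeGroup Cfsg.Spor.He.Gen))).map (PresentedGroup.mk (Cfsg.Spor.coxRelators Cfsg.Spor.He.edges ∪ {r | r ∈ Cfsg.Spor.He.extra})))) q₂).ncard = 136 ∧ (MulAction.orbit (((Subgroup.closure ({Cfsg.Spor.He.a, Cfsg.Spor.He.c, Cfsg.Spor.He.d, Cfsg.Spor.He.e, Cfsg.Spor.He.f, (Cfsg.Spor.He.a * Cfsg.Spor.He.b) ^ 2, (Cfsg.Spor.He.b * Cfsg.Spor.He.c * Cfsg.Spor.He.d * Cfsg.Spor.He.e) ^ 7} : Set (FreeGroup Cfsg.Spor.He.Gen))).map (PresentedGroup.mk (Cfsg.Spor.coxRelators Cfsg.Spor.He.edges ∪ {r | r ∈ Cfsg.Spor.He.extra})))) q₃).ncard = 425 ∧ (MulAction.orbit (((Subgroup.closure ({Cfsg.Spor.He.a, Cfsg.Spor.He.c, Cfsg.Spor.He.d,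 Cfsg.Spor.He.e, Cfsg.Spor.He.f, (Cfsg.Spor.He.a * Cfsg.Spor.He.b) ^ 2, (Cfsg.Spor.He.b * Cfsg.Spor.He.c * Cfsg.Spor.He.d * Cfsg.Spor.He.e) ^ 7} : Set (FreeGroup Cfsg.Spor.He.Gen))).map (PresentedGroup.mk (Cfsg.Spor.coxRelators Cfsg.Spor.He.edges ∪ {r | r ∈ Cfsg.Spor.He.extra})))) q₄).ncard = 1360 := by
  rw [subs_set]
  obtain ⟨hidx, φ, -, horb⟩ := Cfsg.Agent.Helper5.TC.presented_index2 Cfsg.Spor.He.edges
    Cfsg.Spor.He.extra subs dec enc Cfsg.Agent.Helper5.HecTC.E (T := Cfsg.Agent.Helper5.HecTC.ctF)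
    (by intro z; cases z <;> rfl)
    (by intro x hx; have hx' : x < 7 := hx; interval_cases x <;> rfl)
    (by intro z; cases z <;> decide)
    (by intro z; cases z <;> decide)
    rfl rfl extra_match subs_match cox_ok Cfsg.Agent.Helper5.HecTC.rev_ok
    Cfsg.Agent.Helper5.HecTC.hE Cfsg.Agent.Helper5.HecTC.hA Cfsg.Agent.Helper5.HecTC.set_ok Cfsg.Agent.Helper5.HecTC.hrows (by norm_num) Cfsg.Agent.Helper5.HecTC.hT Cfsg.Agent.Helper5.HecTC.hltr Cfsg.Agent.Helper5.HecTC.hrelT Cfsg.Agent.Helper5.HecTC.hsubT Cfsg.Agent.Helper5.HecTC.hconn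
  refine ⟨hidx, φ.symm ⟨46, by norm_num⟩, φ.symm ⟨65, by norm_num⟩, φ.symm ⟨2, by norm_num⟩, φ.symm ⟨1, by norm_num⟩, ?_, ?_, ?_, ?_, ?_⟩
  · intro heq
    have h2 := (horb _ 65 136 _ Cfsg.Agent.Helper5.HecTC.orb4_ok (φ.symm ⟨65, by norm_num⟩) (by simp)).1
    have hm := MulAction.mem_orbit_self (M := ↥((Subgroup.closure {s | s ∈ subs}).map
      (PresentedGroup.mk (Cfsg.Spor.coxRelators Cfsg.Spor.He.edges ∪ {r | r ∈ Cfsg.Spor.He.extra})))) (φ.symm ⟨46, by norm_num⟩)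
    rw [heq, h2, Set.mem_ofPred_eq] at hm
    simp only [Equiv.apply_symm_apply] at hm
    have hf : Cfsg.Agent.Helper5.TC.tb Cfsg.Agent.Helper5.HecTC.S4 46 = false := by decide +kernel
    rw [hf] at hm
    exact absurd hm (by simp)
  · exact (horb _ 46 136 _ Cfsg.Agent.Helper5.HecTC.orb3_ok _ (by simp)).2
  · exact (horb _ 65 136 _ Cfsg.Agent.Helper5.HecTC.orb4_ok _ (by simp)).2
  · exact (horb _ 2 425 _ Cfsg.Agent.Helper5.HecTC.orb2_ok _ (by simp)).2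
  · exact (horb _ 1 1360 _ Cfsg.Agent.Helper5.HecTC.orb1_ok _ (by simp)).2

end Cfsg.Agent.S1683
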