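import Mathlib
import Cfsg.Agent.Helper5.TC3B
import Cfsg.Agent.Helper5.Fi24TCSum
import Cfsg.Statements.S1690
-- import your own Cfsg.Agent.* helpers here

set_option autoImplicit false
open Cfsg

namespace Cfsg.Agent.S1690

/-- decoding of the generators. -/
def dec : ℕ → Cfsg.Spor.Fi24.Gen
  | 0 => .l
  | 1 => .k
  | 2 => .a
  | 3 => .b
  | 4 => .c
  | 5 => .d
  | 6 => .e
  | 7 => .f
  | 8 => .g
  | 9 => .j
  | 10 => .h
  | _ => .i

/-- encoding of the generators. -/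
def enc : Cfsg.Spor.Fi24.Gen → ℕ
  | .l => 0
  | .k => 1
  | .a => 2
  | .b => 3
  | .c => 4
  | .d => 5
  | .e => 6
  | .f => 7
  | .g => 8
  | .j => 9
  | .h => 10
  | .i => 11

open Cfsg.Agent.Helper5.TC Cfsg.Agent.Helper5.Fi24TC Cfsg.Spor in
theorem cox_ok : coxOK D (fun x y => coxLabel Fi24.edges (dec y) (dec x)) = true := by
  decide +kernel

theorem wm_core {K : Type} [Group K] (γ : ℕ → K) (hγ : ∀ x, γ x * γ x = 1) (x : ℕ) :
    (γ x)⁻¹ = γ x := inv_eq_of_mul_eq_one_left (hγ x)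

set_option linter.unusedSimpArgs false in
set_option maxRecDepth 100000 in
open Cfsg.Agent.Helper5.TC Cfsg.Agent.Helper5.Fi24TC Cfsg.Spor in
theorem extra_match : ∀ i (hi : i < Fi24.extra.length),
    WordMatch enc (Fi24.extra[i]) (D.wlen (D.k * D.k + i)) (D.wordP (D.k * D.k + i)) := by
  intro i hi
  have hi' : i < 2 := hi
  interval_cases i
  · intro K _ γ hγ
    have e : D.k * D.k + 0 = 144 := rfl
    simp only [e, word_144, Fi24.extra, List.getElem_cons_zero, List.getElem_cons_succ]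
    simp only [Fi24.l, Fi24.k, Fi24.a, Fi24.b, Fi24.c, Fi24.d, Fi24.e, Fi24.f, Fi24.g, Fi24.j, Fi24.h, Fi24.i, map_mul, map_inv, map_pow,
      FreeGroup.lift_apply_of, enc, rprod, one_mul, pow_succ, pow_zero, mul_inv_rev,
      wm_core γ hγ, mul_assoc]
  · intro K _ γ hγ
    have e : D.k * D.k + 1 = 145 := rfl
    simp only [e, word_145, Fi24.extra, List.getElem_cons_zero, List.getElem_cons_succ]
    simp only [Fi24.l, Fi24.k, Fi24.a, Fi24.b, Fi24.c, Fi24.d, Fi24.e, Fi24.f, Fi24.g, Fi24.j, Fi24.h, Fi24.i, map_mul, map_inv, map_pow,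
      FreeGroup.lift_apply_of, enc, rprod, one_mul, pow_succ, pow_zero, mul_inv_rev,
      wm_core γ hγ, mul_assoc]

/-- the subgroup generators. -/
def subs : List (FreeGroup Cfsg.Spor.Fi24.Gen) :=
  [Cfsg.Spor.Fi24.a, Cfsg.Spor.Fi24.b, Cfsg.Spor.Fi24.c, Cfsg.Spor.Fi24.d, Cfsg.Spor.Fi24.e, Cfsg.Spor.Fi24.f, Cfsg.Spor.Fi24.g, Cfsg.Spor.Fi24.h, Cfsg.Spor.Fi24.i, Cfsg.Spor.Fi24.j, Cfsg.Spor.Fi24.l]

set_option linter.unusedSimpArgs false in
set_option maxRecDepth 100000 in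
open Cfsg.Agent.Helper5.TC Cfsg.Agent.Helper5.Fi24TC Cfsg.Spor in
theorem subs_match : ∀ i (hi : i < subs.length),
    WordMatch enc (subs[i]) (D.wlen (D.nrel + i)) (D.wordP (D.nrel + i)) := by
  intro i hi
  have hi' : i < 11 := hi
  interval_cases i
  · intro K _ γ hγ
    have e : D.nrel + 0 = 146 := rfl
    simp only [e, word_146, subs, List.getElem_cons_zero, List.getElem_cons_succ]
    simp only [Fi24.l, Fi24.k, Fi24.a, Fi24.b, Fi24.c, Fi24.d, Fi24.e, Fi24.f, Fi24.g, Fi24.j, Fi24.h, Fi24.i, map_mul, map_inv, map_pow,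
      FreeGroup.lift_apply_of, enc, rprod, one_mul, pow_succ, pow_zero, mul_inv_rev,
      wm_core γ hγ, mul_assoc]
  · intro K _ γ hγ
    have e : D.nrel + 1 = 147 := rfl
    simp only [e, word_147, subs, List.getElem_cons_zero, List.getElem_cons_succ]
    simp only [Fi24.l, Fi24.k, Fi24.a, Fi24.b, Fi24.c, Fi24.d, Fi24.e, Fi24.f, Fi24.g, Fi24.j, Fi24.h, Fi24.i, map_mul, map_inv, map_pow,
      FreeGroup.lift_apply_of, enc, rprod, one_mul, pow_succ, pow_zero, mul_inv_rev,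
      wm_core γ hγ, mul_assoc]
  · intro K _ γ hγ
    have e : D.nrel + 2 = 148 := rfl
    simp only [e, word_148, subs, List.getElem_cons_zero, List.getElem_cons_succ]
    simp only [Fi24.l, Fi24.k, Fi24.a, Fi24.b, Fi24.c, Fi24.d, Fi24.e, Fi24.f, Fi24.g, Fi24.j, Fi24.h, Fi24.i, map_mul, map_inv, map_pow,
      FreeGroup.lift_apply_of, enc, rprod, one_mul, pow_succ, pow_zero, mul_inv_rev,
      wm_core γ hγ, mul_assoc]
  · intro K _ γ hγ
    have e : D.nrel + 3 = 149 := rfl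
    simp only [e, word_149, subs, List.getElem_cons_zero, List.getElem_cons_succ]
    simp only [Fi24.l, Fi24.k, Fi24.a, Fi24.b, Fi24.c, Fi24.d, Fi24.e, Fi24.f, Fi24.g, Fi24.j, Fi24.h, Fi24.i, map_mul, map_inv, map_pow,
      FreeGroup.lift_apply_of, enc, rprod, one_mul, pow_succ, pow_zero, mul_inv_rev,
      wm_core γ hγ, mul_assoc]
  · intro K _ γ hγ
    have e : D.nrel + 4 = 150 := rfl
    simp only [e, word_150, subs, List.getElem_cons_zero, List.getElem_cons_succ]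
    simp only [Fi24.l, Fi24.k, Fi24.a, Fi24.b, Fi24.c, Fi24.d, Fi24.e, Fi24.f, Fi24.g, Fi24.j, Fi24.h, Fi24.i, map_mul, map_inv, map_pow,
      FreeGroup.lift_apply_of, enc, rprod, one_mul, pow_succ, pow_zero, mul_inv_rev,
      wm_core γ hγ, mul_assoc]
  · intro K _ γ hγ
    have e : D.nrel + 5 = 151 := rfl
    simp only [e, word_151, subs, List.getElem_cons_zero, List.getElem_cons_succ]
    simp only [Fi24.l, Fi24.k, Fi24.a, Fi24.b, Fi24.c, Fi24.d, Fi24.e, Fi24.f, Fi24.g, Fi24.j, Fi24.h, Fi24.i, map_mul, map_inv, map_pow,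
      FreeGroup.lift_apply_of, enc, rprod, one_mul, pow_succ, pow_zero, mul_inv_rev,
      wm_core γ hγ, mul_assoc]
  · intro K _ γ hγ
    have e : D.nrel + 6 = 152 := rfl
    simp only [e, word_152, subs, List.getElem_cons_zero, List.getElem_cons_succ]
    simp only [Fi24.l, Fi24.k, Fi24.a, Fi24.b, Fi24.c, Fi24.d, Fi24.e, Fi24.f, Fi24.g, Fi24.j, Fi24.h, Fi24.i, map_mul, map_inv, map_pow,
      FreeGroup.lift_apply_of, enc, rprod, one_mul, pow_succ, pow_zero, mul_inv_rev,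
      wm_core γ hγ, mul_assoc]
  · intro K _ γ hγ
    have e : D.nrel + 7 = 153 := rfl
    simp only [e, word_153, subs, List.getElem_cons_zero, List.getElem_cons_succ]
    simp only [Fi24.l, Fi24.k, Fi24.a, Fi24.b, Fi24.c, Fi24.d, Fi24.e, Fi24.f, Fi24.g, Fi24.j, Fi24.h, Fi24.i, map_mul, map_inv, map_pow,
      FreeGroup.lift_apply_of, enc, rprod, one_mul, pow_succ, pow_zero, mul_inv_rev,
      wm_core γ hγ, mul_assoc]
  · intro K _ γ hγ
    have e : D.nrel + 8 = 154 := rfl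
    simp only [e, word_154, subs, List.getElem_cons_zero, List.getElem_cons_succ]
    simp only [Fi24.l, Fi24.k, Fi24.a, Fi24.b, Fi24.c, Fi24.d, Fi24.e, Fi24.f, Fi24.g, Fi24.j, Fi24.h, Fi24.i, map_mul, map_inv, map_pow,
      FreeGroup.lift_apply_of, enc, rprod, one_mul, pow_succ, pow_zero, mul_inv_rev,
      wm_core γ hγ, mul_assoc]
  · intro K _ γ hγ
    have e : D.nrel + 9 = 155 := rfl
    simp only [e, word_155, subs, List.getElem_cons_zero, List.getElem_cons_succ]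
    simp only [Fi24.l, Fi24.k, Fi24.a, Fi24.b, Fi24.c, Fi24.d, Fi24.e, Fi24.f, Fi24.g, Fi24.j, Fi24.h, Fi24.i, map_mul, map_inv, map_pow,
      FreeGroup.lift_apply_of, enc, rprod, one_mul, pow_succ, pow_zero, mul_inv_rev,
      wm_core γ hγ, mul_assoc]
  · intro K _ γ hγ
    have e : D.nrel + 10 = 156 := rfl
    simp only [e, word_156, subs, List.getElem_cons_zero, List.getElem_cons_succ]
    simp only [Fi24.l, Fi24.k, Fi24.a, Fi24.b, Fi24.c, Fi24.d, Fi24.e, Fi24.f, Fi24.g, Fi24.j, Fi24.h, Fi24.i, map_mul, map_inv, map_pow,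
      FreeGroup.lift_apply_of, enc, rprod, one_mul, pow_succ, pow_zero, mul_inv_rev,
      wm_core γ hγ, mul_assoc]

theorem subs_set : ({Cfsg.Spor.Fi24.a, Cfsg.Spor.Fi24.b, Cfsg.Spor.Fi24.c, Cfsg.Spor.Fi24.d, Cfsg.Spor.Fi24.e, Cfsg.Spor.Fi24.f, Cfsg.Spor.Fi24.g, Cfsg.Spor.Fi24.h, Cfsg.Spor.Fi24.i, Cfsg.Spor.Fi24.j, Cfsg.Spor.Fi24.l} : Set (FreeGroup Cfsg.Spor.Fi24.Gen)) = {s | s ∈ subs} := by
  ext s
  simp [subs]

/-- In the presented group Fi₂₄ = Fi₂₄′:2, the subgroup generated by the images of a, b, c, d, e, f, g, h, i, j and l (every generator but k) has index 306936. -/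
theorem result : (((Subgroup.closure ({Cfsg.Spor.Fi24.a, Cfsg.Spor.Fi24.b, Cfsg.Spor.Fi24.c, Cfsg.Spor.Fi24.d, Cfsg.Spor.Fi24.e, Cfsg.Spor.Fi24.f, Cfsg.Spor.Fi24.g, Cfsg.Spor.Fi24.h, Cfsg.Spor.Fi24.i, Cfsg.Spor.Fi24.j, Cfsg.Spor.Fi24.l} : Set (FreeGroup Cfsg.Spor.Fi24.Gen))).map (PresentedGroup.mk (Cfsg.Spor.coxRelators Cfsg.Spor.Fi24.edges ∪ {r | r ∈ Cfsg.Spor.Fi24.extra})))).index = 306936 := by
  rw [subs_set]
  exact Cfsg.Agent.Helper5.TC.presented_index3 Cfsg.Spor.Fi24.edges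
    Cfsg.Spor.Fi24.extra subs dec enc Cfsg.Agent.Helper5.Fi24TC.E (T := Cfsg.Agent.Helper5.Fi24TC.ctF)
    (by intro z; cases z <;> rfl)
    (by intro x hx; have hx' : x < 12 := hx; interval_cases x <;> rfl)
    (by intro z; cases z <;> decide)
    (by intro z; cases z <;> decide)
    rfl rfl extra_match subs_match cox_ok Cfsg.Agent.Helper5.Fi24TC.rev_ok
    Cfsg.Agent.Helper5.Fi24TC.hE Cfsg.Agent.Helper5.Fi24TC.hA Cfsg.Agent.Helper5.Fi24TC.set_ok Cfsg.Agent.Helper5.Fi24TC.hrows (by norm_num) Cfsg.Agent.Helper5.Fi24TC.hT Cfsg.Agent.Helper5.Fi24TC.hltr Cfsg.Agent.Helper5.Fi24TC.hrelC Cfsg.Agent.Helper5.Fi24TC.hrelX Cfsg.Agent.Helper5.Fi24TC.hsubT Cfsg.Agent.Helper5.Fi24TC.hconn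

end Cfsg.Agent.S1690
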