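import Mathlib
import Cfsg.Statements.S1691
import Cfsg.Statements.S1691
-- import your own Cfsg.Agent.* helpers here

set_option autoImplicit false
open Cfsg

namespace Cfsg.Agent.S1691
open Cfsg

open Cfsg.Spor

/-- the relators -/
abbrev rels : Set (FreeGroup Fi24.Gen) := coxRelators Fi24.edges ∪ {r | r ∈ Fi24.extra}

/-- the presented group -/
abbrev G := Fi24

theorem node_mem (x : Fi24.Gen) : x ∈ coxNodes Fi24.edges := by
  cases x <;> decide

theorem cox_mem (x y : Fi24.Gen) :
    (FreeGroup.of x * FreeGroup.of y) ^ coxLabel Fi24.edges x y ∈ rels :=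
  Or.inl ⟨x, node_mem x, y, node_mem y, rfl⟩

/-- the generators in the presented group -/
def gn (x : Fi24.Gen) : G := PresentedGroup.of x

theorem gn_sq (x : Fi24.Gen) : gn x ^ 2 = 1 := by
  have h := PresentedGroup.one_of_mem (cox_mem x x)
  have h1 : coxLabel Fi24.edges x x = 1 := by simp [coxLabel]
  rw [h1, pow_one, map_mul] at h
  rw [pow_two]
  exact h

theorem gn_edge (x y : Fi24.Gen) (h3 : coxLabel Fi24.edges x y = 3) : (gn x * gn y) ^ 3 = 1 := by
  have h := PresentedGroup.one_of_mem (cox_mem x y)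
  rw [h3, map_pow, map_mul] at h
  exact h

/-- images in the abelianization -/
def ab (x : Fi24.Gen) : Abelianization G := Abelianization.of (gn x)

theorem ab_sq (x : Fi24.Gen) : ab x ^ 2 = 1 := by
  unfold ab
  rw [← map_pow, gn_sq, map_one]

theorem ab_edge (x y : Fi24.Gen) (h3 : coxLabel Fi24.edges x y = 3) : ab x = ab y := by
  have h : (ab x * ab y) ^ 3 = 1 := by
    unfold ab
    rw [← map_mul, ← map_pow, gn_edge x y h3, map_one]
  rw [mul_pow] at h
  have hx : ab x ^ 3 = ab x := by rw [pow_succ, ab_sq, one_mul]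
  have hy : ab y ^ 3 = ab y := by rw [pow_succ, ab_sq, one_mul]
  rw [hx, hy] at h
  have hy2 : ab y * ab y = 1 := by rw [← pow_two, ab_sq]
  calc ab x = ab x * (ab y * ab y) := by rw [hy2, mul_one]
    _ = (ab x * ab y) * ab y := (mul_assoc _ _ _).symm
    _ = ab y := by rw [h, one_mul]

theorem ab_all (x : Fi24.Gen) : ab x = ab Fi24.Gen.d := by
  have e1 : ab Fi24.Gen.l = ab Fi24.Gen.k := ab_edge _ _ (by decide)
  have e2 : ab Fi24.Gen.k = ab Fi24.Gen.a := ab_edge _ _ (by decide)
  have e3 : ab Fi24.Gen.a = ab Fi24.Gen.b := ab_edge _ _ (by decide)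
  have e4 : ab Fi24.Gen.b = ab Fi24.Gen.c := ab_edge _ _ (by decide)
  have e5 : ab Fi24.Gen.c = ab Fi24.Gen.d := ab_edge _ _ (by decide)
  have e6 : ab Fi24.Gen.e = ab Fi24.Gen.d := ab_edge _ _ (by decide)
  have e7 : ab Fi24.Gen.h = ab Fi24.Gen.d := ab_edge _ _ (by decide)
  have e8 : ab Fi24.Gen.f = ab Fi24.Gen.e := ab_edge _ _ (by decide)
  have e9 : ab Fi24.Gen.g = ab Fi24.Gen.f := ab_edge _ _ (by decide)
  have e10 : ab Fi24.Gen.j = ab Fi24.Gen.g := ab_edge _ _ (by decide)
  have e11 : ab Fi24.Gen.i = ab Fi24.Gen.h := ab_edge _ _ (by decide)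
  cases x
  · rw [e1, e2, e3, e4, e5]
  · rw [e2, e3, e4, e5]
  · rw [e3, e4, e5]
  · rw [e4, e5]
  · rw [e5]
  · rfl
  · rw [e6]
  · rw [e8, e6]
  · rw [e9, e8, e6]
  · rw [e10, e9, e8, e6]
  · rw [e7]
  · rw [e11, e7]

/-- the generator of the abelianization -/
def t : Abelianization G := ab Fi24.Gen.d

theorem t_mul_t : t * t = 1 := by rw [← pow_two]; exact ab_sq _

/-- the projection from the free group to the abelianization -/
def proj : FreeGroup Fi24.Gen →* Abelianization G :=
  (Abelianization.of : G →* Abelianization G).comp (PresentedGroup.mk rels)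

theorem proj_surj : Function.Surjective proj := by
  intro q
  obtain ⟨g, rfl⟩ := QuotientGroup.mk_surjective q
  obtain ⟨w, rfl⟩ := QuotientGroup.mk_surjective g
  exact ⟨w, rfl⟩

theorem cases_proj (w : FreeGroup Fi24.Gen) : proj w = 1 ∨ proj w = t := by
  induction w using FreeGroup.induction_on with
  | C1 => left; exact map_one _
  | of x => right; exact ab_all x
  | inv_of x h =>
    rw [map_inv]
    rcases h with h | h
    · left
      rw [h, inv_one]
    · right
      rw [h]
      exact inv_eq_of_mul_eq_one_left t_mul_t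
  | mul x y hx hy =>
    rw [map_mul]
    rcases hx with hx | hx <;> rcases hy with hy | hy <;> rw [hx, hy]
    · left; exact one_mul 1
    · right; exact one_mul t
    · right; exact mul_one t
    · left; exact t_mul_t

theorem cases_ab (q : Abelianization G) : q = 1 ∨ q = t := by
  obtain ⟨w, rfl⟩ := proj_surj q
  exact cases_proj w

/-- the sign on the free group -/
def sgnF : Fi24.Gen → ℤˣ := fun _ => -1

theorem sgn_rels : ∀ r ∈ rels, FreeGroup.lift sgnF r = 1 := by
  intro r hr
  rcases hr with ⟨x, _, y, _, rfl⟩ | hr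
  · rw [map_pow, map_mul, FreeGroup.lift_apply_of, FreeGroup.lift_apply_of]
    simp [sgnF]
  · simp only [Fi24.extra, List.mem_cons, List.not_mem_nil, or_false, Set.mem_ofPred_eq] at hr
    rcases hr with rfl | rfl
    · simp only [map_mul, map_inv, map_pow, FreeGroup.lift_apply_of, sgnF]
      decide
    · simp only [map_mul, map_pow, FreeGroup.lift_apply_of, sgnF]
      decide

/-- the sign homomorphism -/
def sgn : G →* ℤˣ := PresentedGroup.toGroup sgn_rels

theorem t_ne_one : t ≠ 1 := by
  intro h
  have h1 : Abelianization.lift sgn t = -1 := by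
    unfold t ab gn
    rw [Abelianization.lift_apply_of]
    exact PresentedGroup.toGroup.of sgn_rels
  rw [h, map_one] at h1
  revert h1
  decide

/-- The commutator subgroup of the presented group Fi₂₄ has index 2 (the presented group is Fi₂₄′:2 with Fi₂₄′ its derived subgroup). -/
theorem result : (commutator Cfsg.Spor.Fi24).index = 2 := by
  rw [Subgroup.index]
  change Nat.card (Abelianization G) = 2
  rw [Nat.card_eq_two_iff]
  refine ⟨1, t, fun h => t_ne_one h.symm, ?_⟩
  ext q
  simp only [Set.mem_insert_iff, Set.mem_singleton_iff, Set.mem_univ, iff_true]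
  exact cases_ab q


end Cfsg.Agent.S1691
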