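-- Statement S1708: in the presented Harada–Norton group, `⟨x, y, z⟩` has a normal subgroup of
-- index 2 which is a non-split double cover of the Higman–Sims group.
import Cfsg.Statements.S1708
import Cfsg.Agent.Helper3.HN2HSMain
import Cfsg.Agent.Helper5.HNSimple

set_option autoImplicit false
open Cfsg

namespace Cfsg.Agent.S1708

/-- In the presented Harada–Norton group, the subgroup N generated by the images of x, y, z has a normal subgroup of index 2 which is a non-split double cover of the Higman–Sims group. -/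
theorem result : ∃ K : Subgroup (((Subgroup.closure ({Cfsg.Spor.HN.x, Cfsg.Spor.HN.y, Cfsg.Spor.HN.z} : Set (FreeGroup Cfsg.Spor.HN.Gen))).map (PresentedGroup.mk (Cfsg.Spor.coxRelators Cfsg.Spor.HN.edges ∪ {r | r ∈ Cfsg.Spor.HN.extra})))), K.Normal ∧ K.index = 2 ∧ Cfsg.IsNonsplitDoubleCover K Cfsg.Spor.HS :=
  Cfsg.Agent.Helper3.HN2HS.main_of Cfsg.Agent.Helper5.HNTow.towerA_inst
    Cfsg.Agent.Helper5.HNTow.towerC_inst Cfsg.Agent.Helper5.HNIdx.index_Hs
    Cfsg.Agent.Helper5.HNSimple.main.2

end Cfsg.Agent.S1708
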