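import Cfsg.Statements.S1717
import Cfsg.Agent.Helper9.Trv.Sl5
import Cfsg.Agent.Helper9.Trv.SylowLift

set_option autoImplicit false
open Cfsg

namespace Cfsg.Agent.S1717

/-- Let G be a finite group with an involution z whose centraliser C is isomorphic to the centraliser of a transvection of SL(5, 2). Then a Sylow 2-subgroup of C, viewed in G, is a Sylow 2-subgroup of G (its index in G is odd). -/
theorem result {G : Type*} [Group G] [Finite G] (s : Matrix.SpecialLinearGroup (Fin 5) (ZMod 2)) (hs : (s : Matrix (Fin 5) (Fin 5) (ZMod 2)) = Matrix.transvection 0 1 1) (z : G) (hz : orderOf z = 2) (e : (Subgroup.centralizer ({z} : Set G)) ≃* Subgroup.centralizer ({s} : Set (Matrix.SpecialLinearGroup (Fin 5) (ZMod 2)))) (T : Sylow 2 (Subgroup.centralizer ({z} : Set G))) : ¬ 2 ∣ ((T : Subgroup (Subgroup.centralizer ({z} : Set G))).map (Subgroup.subtype (Subgroup.centralizer ({z} : Set G)))).index := by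
  obtain ⟨N, hNn, hN, hC⟩ := Cfsg.Agent.Helper9.Trv.model s hs
  have hz1 : z ≠ 1 := by
    intro h
    rw [h, orderOf_one] at hz
    exact absurd hz (by decide)
  have hcentral : ∀ c : ↥(Subgroup.centralizer ({z} : Set G)),
      (⟨z, Cfsg.Agent.Helper9.Trv.mem_cent_self' z⟩ : ↥(Subgroup.centralizer ({z} : Set G))) * c =
        c * ⟨z, Cfsg.Agent.Helper9.Trv.mem_cent_self' z⟩ := by
    intro c
    apply Subtype.ext
    exact Subgroup.mem_centralizer_iff.mp c.2 z rfl
  have key : ∀ g : ↥(Subgroup.centralizer ({z} : Set G)),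
      (∀ n ∈ N.comap e.toMonoidHom, n * g = g * n) →
        e g = 1 ∨ e g = ⟨s, Cfsg.Agent.Helper9.Trv.mem_cent_self s⟩ := by
    intro g hg
    apply hC
    intro m hm
    have hm' : e.symm m ∈ N.comap e.toMonoidHom := by
      rw [Subgroup.mem_comap]
      simpa using hm
    have h := congrArg e (hg _ hm')
    simpa using h
  have hez : e ⟨z, Cfsg.Agent.Helper9.Trv.mem_cent_self' z⟩ =
      ⟨s, Cfsg.Agent.Helper9.Trv.mem_cent_self s⟩ := by
    rcases key ⟨z, Cfsg.Agent.Helper9.Trv.mem_cent_self' z⟩ (fun n _ => (hcentral n).symm) with h | h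
    · exfalso
      have h1 : (⟨z, Cfsg.Agent.Helper9.Trv.mem_cent_self' z⟩ :
          ↥(Subgroup.centralizer ({z} : Set G))) = 1 := by
        apply e.injective
        rw [h, map_one]
      exact hz1 (congrArg Subtype.val h1)
    · exact h
  refine Cfsg.Agent.Helper9.Trv.sylow_lift z hz (N.comap e.toMonoidHom) (hNn.comap _)
    (hN.comap_of_injective _ e.injective) ?_ T
  intro g hg
  rcases key g hg with h | h
  · left
    apply e.injective
    rw [h, map_one]
  · right
    apply e.injective
    rw [h, hez]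

end Cfsg.Agent.S1717
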