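import Cfsg.Statements.S1757
import Mathlib

set_option autoImplicit false
open Cfsg

namespace Cfsg.Agent.S1757

/-- Let p be a prime and A, B p-subgroups of the finite group G, each of which meets every conjugate of itself other than itself trivially. Suppose the order of A is at most that of B, A and B intersect trivially, and B normalizes A. Then A and B commute elementwise. -/
theorem result {G : Type*} [Group G] [Finite G] (p : ℕ) [Fact p.Prime] (A B : Subgroup G)
    (hA : IsPGroup p ↥A) (hB : IsPGroup p ↥B)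
    (hAti : ∀ g : G, A.map (MulAut.conj g).toMonoidHom = A ∨ A.map (MulAut.conj g).toMonoidHom ⊓ A = ⊥)
    (hBti : ∀ g : G, B.map (MulAut.conj g).toMonoidHom = B ∨ B.map (MulAut.conj g).toMonoidHom ⊓ B = ⊥)
    (hle : Nat.card ↥A ≤ Nat.card ↥B) (hAB : A ⊓ B = ⊥) (hN : B ≤ Subgroup.normalizer (A : Set G)) : ⁅A, B⁆ = ⊥ := by
  -- b normalizes A
  have hnorm : ∀ b ∈ B, ∀ x ∈ A, b * x * b⁻¹ ∈ A := by
    intro b hb x hx
    have := hN hb
    rw [Subgroup.mem_normalizer_iff] at this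
    exact (this x).mp hx
  have hcomm_mem_A : ∀ a ∈ A, ∀ b ∈ B, a * b * a⁻¹ * b⁻¹ ∈ A := by
    intro a ha b hb
    have h1 : b * a⁻¹ * b⁻¹ ∈ A := hnorm b hb _ (A.inv_mem ha)
    have : a * b * a⁻¹ * b⁻¹ = a * (b * a⁻¹ * b⁻¹) := by group
    rw [this]
    exact A.mul_mem ha h1
  by_cases hall : ∀ a ∈ A, B.map (MulAut.conj a).toMonoidHom = B
  · rw [Subgroup.commutator_eq_bot_iff_le_centralizer]
    intro a ha
    rw [Subgroup.mem_centralizer_iff]
    intro b hb
    have h1 : a * b * a⁻¹ * b⁻¹ ∈ A := hcomm_mem_A a ha b hb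
    have h2 : a * b * a⁻¹ * b⁻¹ ∈ B := by
      have : a * b * a⁻¹ ∈ B := by
        rw [← hall a ha]
        exact ⟨b, hb, rfl⟩
      exact B.mul_mem this (B.inv_mem hb)
    have h3 : a * b * a⁻¹ * b⁻¹ ∈ A ⊓ B := ⟨h1, h2⟩
    rw [hAB, Subgroup.mem_bot] at h3
    have : a * b = b * a := by
      have h4 : a * b * a⁻¹ * b⁻¹ * (b * a) = b * a := by rw [h3, one_mul]
      rw [← h4]; group
    exact this.symm
  · exfalso
    push_neg at hall
    obtain ⟨a, ha, hne⟩ := hall
    have hti : B.map (MulAut.conj a).toMonoidHom ⊓ B = ⊥ := (hBti a).resolve_left hne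
    let f : B → A := fun b => ⟨a * b.1 * a⁻¹ * b.1⁻¹, hcomm_mem_A a ha b.1 b.2⟩
    have hinj : Function.Injective f := by
      intro b b' h
      have h1 : a * b.1 * a⁻¹ * b.1⁻¹ = a * b'.1 * a⁻¹ * b'.1⁻¹ := congrArg Subtype.val h
      set c := b'.1⁻¹ * b.1 with hc
      have hcB : c ∈ B := B.mul_mem (B.inv_mem b'.2) b.2
      have h2 : c * a⁻¹ * c⁻¹ = a⁻¹ := by
        have : b.1 * a⁻¹ * b.1⁻¹ = b'.1 * a⁻¹ * b'.1⁻¹ := by
          have := congrArg (fun x => a⁻¹ * x) h1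
          simpa [mul_assoc] using this
        rw [hc]
        calc b'.1⁻¹ * b.1 * a⁻¹ * (b'.1⁻¹ * b.1)⁻¹ = b'.1⁻¹ * (b.1 * a⁻¹ * b.1⁻¹) * b'.1 := by group
          _ = b'.1⁻¹ * (b'.1 * a⁻¹ * b'.1⁻¹) * b'.1 := by rw [this]
          _ = a⁻¹ := by group
      have h3 : a * c * a⁻¹ = c := by
        have : c * a⁻¹ = a⁻¹ * c := by
          calc c * a⁻¹ = c * a⁻¹ * c⁻¹ * c := by group
            _ = a⁻¹ * c := by rw [h2]
        calc a * c * a⁻¹ = a * (c * a⁻¹) := by group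
          _ = a * (a⁻¹ * c) := by rw [this]
          _ = c := by group
      have h4 : c ∈ B.map (MulAut.conj a).toMonoidHom ⊓ B := by
        refine ⟨⟨c, hcB, ?_⟩, hcB⟩
        simpa using h3
      rw [hti, Subgroup.mem_bot] at h4
      apply Subtype.ext
      have : b'.1⁻¹ * b.1 = 1 := h4
      calc b.1 = b'.1 * (b'.1⁻¹ * b.1) := by group
        _ = b'.1 := by rw [this, mul_one]
    have hbij : Function.Bijective f := hinj.bijective_of_nat_card_le hle
    obtain ⟨b, hb⟩ := hbij.2 ⟨a, ha⟩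
    have h1 : a * b.1 * a⁻¹ * b.1⁻¹ = a := congrArg Subtype.val hb
    have h2 : a = 1 := by
      have h3 : b.1 * a⁻¹ * b.1⁻¹ = 1 := by
        have := congrArg (fun x => a⁻¹ * x) h1
        simpa [mul_assoc] using this
      have h4 : a⁻¹ = 1 := by
        calc a⁻¹ = b.1⁻¹ * (b.1 * a⁻¹ * b.1⁻¹) * b.1 := by group
          _ = 1 := by rw [h3]; group
      exact inv_eq_one.mp h4
    apply hne
    rw [h2]
    ext x
    simp

end Cfsg.Agent.S1757
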