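import Mathlib
import Cfsg.Statements.S1775
import Cfsg.Agent.Helper3.S1775B
-- import your own Cfsg.Agent.* helpers here

set_option autoImplicit false
open Cfsg

namespace Cfsg.Agent.S1775

/-- Let G be a finite group whose generalized Fitting subgroup is a non-abelian simple group and in which every proper section (every quotient H/N of a proper subgroup H, or of G by a nontrivial normal subgroup) has the B-property. Let x, y be commuting involutions, let D be the intersection of the 2-layer of C_G(x) with C_G(y), and let J be a 2-component of D. Write Q for the quotient of C_G(y) by its largest normal odd-order subgroup. Then (i) the image of J in Q is a component of the centralizer in Q of the image of x; and (ii) for every J-invariant subgroup E of odd order of C_G(x) ∩ C_G(y), the commutator subgroup [J, E] lies in the largest normal odd-order subgroup of C_G(y). -/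
theorem result {G : Type*} [Group G] [Finite G]
    (hF : IsSimpleGroup ↥(Cfsg.generalizedFittingSubgroup G)) (hF' : ¬ IsMulCommutative ↥(Cfsg.generalizedFittingSubgroup G))
    (hsec : ∀ (H : Subgroup G) (N : Subgroup ↥H) [N.Normal], (H ≠ ⊤ ∨ N ≠ ⊥) → Cfsg.HasBProperty (↥H ⧸ N))
    (x y : G) (hx : orderOf x = 2) (hy : orderOf y = 2) (hxy : x * y = y * x)
    (J : Subgroup ↥((Cfsg.pLayer 2 ↥(Subgroup.centralizer ({x} : Set G))).map (Subgroup.centralizer ({x} : Set G)).subtype ⊓ Subgroup.centralizer ({y} : Set G)))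
    (hJ : Cfsg.IsPComponent 2 J) :
    Cfsg.IsComponent
        ((((J.map (Subgroup.subtype _)).subgroupOf (Subgroup.centralizer ({y} : Set G))).map (QuotientGroup.mk' (Cfsg.oddCore ↥(Subgroup.centralizer ({y} : Set G))))).subgroupOf
          (Subgroup.centralizer ({(QuotientGroup.mk' (Cfsg.oddCore ↥(Subgroup.centralizer ({y} : Set G))) ⟨x, Subgroup.mem_centralizer_singleton_iff.mpr hxy⟩ : ↥(Subgroup.centralizer ({y} : Set G)) ⧸ Cfsg.oddCore ↥(Subgroup.centralizer ({y} : Set G)))} : Set _))) ∧
      ∀ E : Subgroup G, E ≤ Subgroup.centralizer ({x} : Set G) ⊓ Subgroup.centralizer ({y} : Set G) → Odd (Nat.card ↥E) →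
        (∀ j ∈ J.map (Subgroup.subtype _), ∀ e ∈ E, j * e * j⁻¹ ∈ E) →
          ⁅J.map (Subgroup.subtype _), E⁆ ≤ (Cfsg.oddCore ↥(Subgroup.centralizer ({y} : Set G))).map (Subgroup.centralizer ({y} : Set G)).subtype := by
  haveI : Fact (Nat.Prime 2) := ⟨Nat.prime_two⟩
  have hB : Cfsg.HasBProperty (↥(Subgroup.centralizer ({y} : Set G)) ⧸
      Cfsg.oddCore ↥(Subgroup.centralizer ({y} : Set G))) :=
    hsec _ _ (Or.inl (Cfsg.Agent.Helper3.S1775.centralizer_ne_top_of_simple hF hF' y hy))
  have hxy2 : orderOf (⟨x, Subgroup.mem_centralizer_singleton_iff.mpr hxy⟩ :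
      ↥(Subgroup.centralizer ({y} : Set G))) = 2 := by
    rw [Subgroup.orderOf_mk]; exact hx
  have hLx : (Cfsg.pLayer 2 ↥(Subgroup.centralizer ({x} : Set G))).map
      (Subgroup.centralizer ({x} : Set G)).subtype ≤ Subgroup.centralizer ({x} : Set G) :=
    Subgroup.map_subtype_le _
  have hLxn := Cfsg.Agent.Helper3.S1775.le_normalizer_map_subtype
    (Subgroup.centralizer ({x} : Set G)) (Cfsg.pLayer 2 ↥(Subgroup.centralizer ({x} : Set G)))
  have hDY : (Cfsg.pLayer 2 ↥(Subgroup.centralizer ({x} : Set G))).map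
      (Subgroup.centralizer ({x} : Set G)).subtype ⊓ Subgroup.centralizer ({y} : Set G) ≤
      Subgroup.centralizer ({y} : Set G) := inf_le_right
  have hDZ : ((Cfsg.pLayer 2 ↥(Subgroup.centralizer ({x} : Set G))).map
      (Subgroup.centralizer ({x} : Set G)).subtype ⊓
        Subgroup.centralizer ({y} : Set G)).subgroupOf (Subgroup.centralizer ({y} : Set G)) ≤
      Subgroup.centralizer ({(⟨x, Subgroup.mem_centralizer_singleton_iff.mpr hxy⟩ :
        ↥(Subgroup.centralizer ({y} : Set G)))} : Set ↥(Subgroup.centralizer ({y} : Set G))) := by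
    intro d hd
    rw [Subgroup.mem_subgroupOf] at hd
    rw [Subgroup.mem_centralizer_singleton_iff]
    apply Subtype.ext
    exact Subgroup.mem_centralizer_singleton_iff.mp (hLx hd.1)
  have hZn : Subgroup.centralizer ({(⟨x, Subgroup.mem_centralizer_singleton_iff.mpr hxy⟩ :
        ↥(Subgroup.centralizer ({y} : Set G)))} : Set ↥(Subgroup.centralizer ({y} : Set G))) ≤
      Subgroup.normalizer ((((Cfsg.pLayer 2 ↥(Subgroup.centralizer ({x} : Set G))).map
      (Subgroup.centralizer ({x} : Set G)).subtype ⊓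
        Subgroup.centralizer ({y} : Set G)).subgroupOf (Subgroup.centralizer ({y} : Set G)) :
          Subgroup ↥(Subgroup.centralizer ({y} : Set G))) :
            Set ↥(Subgroup.centralizer ({y} : Set G))) := by
    apply Cfsg.Agent.Helper3.S1775.le_normalizer_of_forall_conj_mem
    intro z hz d hd
    rw [Subgroup.mem_subgroupOf] at hd ⊢
    rw [Subgroup.mem_centralizer_singleton_iff] at hz
    have hzx : (z : G) ∈ Subgroup.centralizer ({x} : Set G) := by
      rw [Subgroup.mem_centralizer_singleton_iff]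
      exact congrArg Subtype.val hz
    refine Subgroup.mem_inf.mpr ⟨?_, ?_⟩
    · have h1 := (Subgroup.mem_normalizer_iff.mp (hLxn hzx) (d : G)).mp hd.1
      simpa using h1
    · exact (z * d * z⁻¹).2
  have hJ₁ := Cfsg.Agent.Helper3.S1775.isPComponent_subgroupOf_subgroupOf 2
    (Subgroup.centralizer ({y} : Set G)) _ _ hDY hDZ hZn J hJ
  have hJle : (J.map (Subgroup.subtype _)).subgroupOf (Subgroup.centralizer ({y} : Set G)) ≤
      Subgroup.centralizer ({(⟨x, Subgroup.mem_centralizer_singleton_iff.mpr hxy⟩ :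
        ↥(Subgroup.centralizer ({y} : Set G)))} : Set ↥(Subgroup.centralizer ({y} : Set G))) := by
    intro j hj
    apply hDZ
    rw [Subgroup.mem_subgroupOf] at hj ⊢
    obtain ⟨d, _, hd⟩ := hj
    rw [← hd]
    exact d.2
  have hJGle : J.map (Subgroup.subtype _) ≤ Subgroup.centralizer ({y} : Set G) := by
    rintro _ ⟨d, _, rfl⟩
    exact hDY d.2
  refine ⟨Cfsg.Agent.Helper3.S1775.abstract_i hB _ hxy2 _ hJle hJ₁, ?_⟩
  intro E hE hoddE hnormE
  have hEy : E ≤ Subgroup.centralizer ({y} : Set G) := hE.trans inf_le_right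
  have hE₁ : E.subgroupOf (Subgroup.centralizer ({y} : Set G)) ≤
      Subgroup.centralizer ({(⟨x, Subgroup.mem_centralizer_singleton_iff.mpr hxy⟩ :
        ↥(Subgroup.centralizer ({y} : Set G)))} : Set ↥(Subgroup.centralizer ({y} : Set G))) := by
    intro e he
    rw [Subgroup.mem_subgroupOf] at he
    rw [Subgroup.mem_centralizer_singleton_iff]
    apply Subtype.ext
    exact Subgroup.mem_centralizer_singleton_iff.mp ((hE he).1)
  have hodd₁ : Odd (Nat.card ↥(E.subgroupOf (Subgroup.centralizer ({y} : Set G)))) := by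
    rw [Nat.card_congr (Subgroup.subgroupOfEquivOfLe hEy).toEquiv]
    exact hoddE
  have hnorm₁ : ∀ j ∈ (J.map (Subgroup.subtype _)).subgroupOf (Subgroup.centralizer ({y} : Set G)),
      ∀ e ∈ E.subgroupOf (Subgroup.centralizer ({y} : Set G)),
        j * e * j⁻¹ ∈ E.subgroupOf (Subgroup.centralizer ({y} : Set G)) := by
    intro j hj e he
    rw [Subgroup.mem_subgroupOf] at hj he ⊢
    have := hnormE _ hj _ he
    simpa using this
  have h1 := Cfsg.Agent.Helper3.S1775.abstract_ii hB _ hxy2 _ hJle hJ₁ _ hE₁ hodd₁ hnorm₁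
  have h2 := Subgroup.map_mono (f := (Subgroup.centralizer ({y} : Set G)).subtype) h1
  rw [Subgroup.map_commutator, Subgroup.map_subgroupOf_eq_of_le hJGle,
    Subgroup.map_subgroupOf_eq_of_le hEy] at h2
  exact h2


end Cfsg.Agent.S1775
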