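import Cfsg.Statements.S1781
import Mathlib
import Cfsg.Agent.Lead.ConjAut
import Cfsg.Agent.Lead.TI

set_option autoImplicit false
open Cfsg

namespace Cfsg.Agent.S1781

open Cfsg.Agent.Lead

/-- Let A be an abelian 2-subgroup of the finite group G such that every conjugate of A equals A or meets A trivially, and let g ∈ G with g A g⁻¹ ≠ A. Then either the subgroup of those elements of A that normalize g A g⁻¹ is an elementary abelian 2-group, or A and g A g⁻¹ commute elementwise. -/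
theorem result {G : Type*} [Group G] [Finite G] (A : Subgroup G)
    (hA2 : IsPGroup 2 ↥A) (hAa : IsMulCommutative ↥A)
    (hti : ∀ h : G, A.map (MulAut.conj h).toMonoidHom = A ∨ A.map (MulAut.conj h).toMonoidHom ⊓ A = ⊥)
    (g : G) (hg : A.map (MulAut.conj g).toMonoidHom ≠ A) :
    Cfsg.IsElementaryAbelian 2 (A ⊓ Subgroup.normalizer ((A.map (MulAut.conj g).toMonoidHom : Subgroup G) : Set G)) ∨
      ⁅A, A.map (MulAut.conj g).toMonoidHom⁆ = ⊥ := by
  set C := A.map (MulAut.conj g).toMonoidHom with hCdef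
  have hCA : C ⊓ A = ⊥ := (hti g).resolve_left hg
  have hC2 : IsPGroup 2 C := hA2.map _
  have hCa : IsMulCommutative C := by rw [hCdef]; infer_instance
  have hAcomm : ∀ a ∈ A, ∀ b ∈ A, a * b = b * a := by
    intro a ha b hb
    have := hAa.is_comm.comm (⟨a, ha⟩ : A) ⟨b, hb⟩
    exact congrArg Subtype.val this
  -- 2-power orders
  have hordA : ∀ a ∈ A, ∃ k : ℕ, orderOf a = 2 ^ k := by
    intro a ha
    obtain ⟨k, hk⟩ := (IsPGroup.iff_orderOf.mp hA2) ⟨a, ha⟩
    exact ⟨k, by rw [← hk]; exact (Subgroup.orderOf_mk a ha).symm⟩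
  have hordC : ∀ c ∈ C, ∃ k : ℕ, orderOf c = 2 ^ k := by
    intro c hc
    obtain ⟨k, hk⟩ := (IsPGroup.iff_orderOf.mp hC2) ⟨c, hc⟩
    exact ⟨k, by rw [← hk]; exact (Subgroup.orderOf_mk c hc).symm⟩
  -- F3: D and E commute
  have F3 : ∀ d ∈ A, d ∈ Subgroup.normalizer (C : Set G) → ∀ e ∈ C, e ∈ Subgroup.normalizer (A : Set G) →
      d * e = e * d := by
    intro d hdA hdN e heC heN
    have h1 : d * e * d⁻¹ * e⁻¹ ∈ C := by
      have : d * e * d⁻¹ ∈ C := (Subgroup.mem_normalizer_iff.mp hdN e).mp heC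
      exact C.mul_mem this (C.inv_mem heC)
    have h2 : d * e * d⁻¹ * e⁻¹ ∈ A := by
      have : e * d⁻¹ * e⁻¹ ∈ A := (Subgroup.mem_normalizer_iff.mp heN d⁻¹).mp (A.inv_mem hdA)
      have e1 : d * e * d⁻¹ * e⁻¹ = d * (e * d⁻¹ * e⁻¹) := by group
      rw [e1]; exact A.mul_mem hdA this
    have h3 : d * e * d⁻¹ * e⁻¹ ∈ C ⊓ A := ⟨h1, h2⟩
    rw [hCA, Subgroup.mem_bot] at h3
    have h4 : d * e * d⁻¹ * e⁻¹ * (e * d) = e * d := by rw [h3, one_mul]
    rw [← h4]; group
  -- F4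
  have F4 : ∀ d ∈ A, d ≠ 1 → ∀ c : G, d * c * d⁻¹ = c → c ∈ Subgroup.normalizer (A : Set G) := by
    intro d hdA hd1 c hc
    apply mem_normalizer_of_TI A hti d hdA hd1
    have : c * d * c⁻¹ = d := by
      have h : d * c = c * d := by
        calc d * c = d * c * d⁻¹ * d := by group
          _ = c * d := by rw [hc]
      calc c * d * c⁻¹ = (d * c) * c⁻¹ := by rw [h]
        _ = d := by group
    rw [this]; exact hdA
  -- F5
  have F5 : ∀ c ∈ C, c ≠ 1 → ∀ a : G, c * a * c⁻¹ = a → a ∈ Subgroup.normalizer (C : Set G) := by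
    intro c hcC hc1 a ha
    apply mem_normalizer_of_TI_conj A hti g c hcC hc1
    have : a * c * a⁻¹ = c := by
      have h : c * a = a * c := by
        calc c * a = c * a * c⁻¹ * c := by group
          _ = a * c := by rw [ha]
      calc a * c * a⁻¹ = (c * a) * a⁻¹ := by rw [h]
        _ = c := by group
    rw [this]; exact hcC
  by_contra hcon
  push_neg at hcon
  obtain ⟨hnel, hncomm⟩ := hcon
  -- D is commutative, so some d in D has d^2 ≠ 1
  have hDcomm : IsMulCommutative ↥(A ⊓ Subgroup.normalizer (C : Set G)) := by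
    refine ⟨⟨?_⟩⟩
    intro a b
    apply Subtype.ext
    exact hAcomm a.1 a.2.1 b.1 b.2.1
  have hex : ∃ d ∈ A ⊓ Subgroup.normalizer (C : Set G), d ^ 2 ≠ 1 := by
    by_contra hno
    push_neg at hno
    exact hnel ⟨hDcomm, hno⟩
  obtain ⟨d, ⟨hdA, hdN⟩, hd2⟩ := hex
  have hd1 : d ≠ 1 := by
    rintro rfl
    exact hd2 (one_pow 2)
  have hd2A : d ^ 2 ∈ A := A.pow_mem hdA 2
  have hd2N : d ^ 2 ∈ Subgroup.normalizer (C : Set G) := Subgroup.pow_mem _ hdN 2
  -- Step 1: d centralizes C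
  have step1 : ∀ c ∈ C, d * c * d⁻¹ = c := by
    apply conj_trivial_of_fix_sq C hC2 hCa d (hordA d hdA) hdN
    intro c hcC hfix
    have hfix' : d ^ 2 * c * (d ^ 2)⁻¹ = c := by
      have e : d ^ 2 * c * (d ^ 2)⁻¹ = d * (d * c * d⁻¹) * d⁻¹ := by
        rw [pow_two]; group
      rw [e, hfix]
    have hcE : c ∈ Subgroup.normalizer (A : Set G) := F4 (d ^ 2) hd2A hd2 c hfix'
    have := F3 d hdA hdN c hcC hcE
    rw [this]; group
  -- Step 2: C normalizes A
  have step2 : ∀ c ∈ C, c ∈ Subgroup.normalizer (A : Set G) := fun c hc => F4 d hdA hd1 c (step1 c hc)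
  by_cases hC : ∃ c ∈ C, c ^ 2 ≠ 1
  · obtain ⟨c, hcC, hc2⟩ := hC
    have hc1 : c ≠ 1 := by
      rintro rfl
      exact hc2 (one_pow 2)
    have step3 : ∀ a ∈ A, c * a * c⁻¹ = a := by
      apply conj_trivial_of_fix_sq A hA2 hAa c (hordC c hcC) (step2 c hcC)
      intro a haA hfix
      have hfix' : c ^ 2 * a * (c ^ 2)⁻¹ = a := by
        have e : c ^ 2 * a * (c ^ 2)⁻¹ = c * (c * a * c⁻¹) * c⁻¹ := by
          rw [pow_two]; group
        rw [e, hfix]
      have haD : a ∈ Subgroup.normalizer (C : Set G) := F5 (c ^ 2) (C.pow_mem hcC 2) hc2 a hfix'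
      have := F3 a haA haD c hcC (step2 c hcC)
      rw [← this]; group
    apply hncomm
    rw [Subgroup.commutator_eq_bot_iff_le_centralizer]
    intro a haA
    rw [Subgroup.mem_centralizer_iff]
    intro c' hc'
    have haD : a ∈ Subgroup.normalizer (C : Set G) := F5 c hcC hc1 a (step3 a haA)
    exact (F3 a haA haD c' hc' (step2 c' hc')).symm
  · push_neg at hC
    apply hd2
    have h1 : g * d * g⁻¹ ∈ C := ⟨d, hdA, rfl⟩
    have h2 := hC _ h1
    have h3 : (g * d * g⁻¹) ^ 2 = g * d ^ 2 * g⁻¹ := conj_pow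
    rw [h3] at h2
    have h4 : d ^ 2 = g⁻¹ * (g * d ^ 2 * g⁻¹) * g := by group
    rw [h4, h2]; group

end Cfsg.Agent.S1781
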