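import Mathlib
import Cfsg.Statements.S3743
import Cfsg.Agent.Helper4.FittingChar

set_option autoImplicit false
open Cfsg

namespace Cfsg.Agent.S3743

universe u

/-- `n` is a `π`-number. -/
def PiNum (π : Set ℕ) (n : ℕ) : Prop := ∀ p : ℕ, p.Prime → p ∣ n → p ∈ π

lemma PiNum.of_dvd {π : Set ℕ} {m n : ℕ} (h : PiNum π n) (hd : m ∣ n) : PiNum π m :=
  fun p hp hpm => h p hp (hpm.trans hd)

lemma PiNum.mul {π : Set ℕ} {m n : ℕ} (hm : PiNum π m) (hn : PiNum π n) : PiNum π (m * n) := by
  intro p hp hd
  rcases (Nat.Prime.dvd_mul hp).1 hd with h | h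
  · exact hm p hp h
  · exact hn p hp h

/-- `O_π(G)` is a `π`-group and contains all normal `π`-subgroups. -/
lemma piCore_piNum (π : Set ℕ) (G : Type u) [Group G] [Finite G] :
    PiNum π (Nat.card (Cfsg.piCore π G)) := by
  classical
  set S : Set (Subgroup G) := {N : Subgroup G | N.Normal ∧ ∀ p : ℕ, p.Prime → p ∣ Nat.card N → p ∈ π}
    with hS
  have hSfin : S.Finite := Set.toFinite S
  have hSne : S.Nonempty := ⟨⊥, inferInstance, by
    intro p hp hd
    rw [Subgroup.card_bot] at hd
    exact absurd (Nat.le_of_dvd one_pos hd) (by have := hp.two_le; omega)⟩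
  obtain ⟨M, hMS, hMmax⟩ := Set.exists_max_image S (fun N => Nat.card N) hSfin hSne
  have hle : ∀ N ∈ S, N ≤ M := by
    intro N hN
    haveI : N.Normal := hN.1
    haveI : M.Normal := hMS.1
    have hMN : M ⊔ N ∈ S := by
      refine ⟨inferInstance, ?_⟩
      have hd := Cfsg.Agent.Helper5.card_sup_dvd_of_normal M N
      exact PiNum.of_dvd (PiNum.mul hMS.2 hN.2) hd
    have h1 := hMmax _ hMN
    have h2 : M ⊔ N = M := (Subgroup.eq_of_le_of_card_ge le_sup_left h1).symm
    rw [← h2]; exact le_sup_right
  have : Cfsg.piCore π G = M := le_antisymm (sSup_le hle) (le_sSup hMS)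
  rw [this]; exact hMS.2

lemma le_piCore (π : Set ℕ) {G : Type u} [Group G] (N : Subgroup G) (hN : N.Normal)
    (hπ : PiNum π (Nat.card N)) : N ≤ Cfsg.piCore π G :=
  le_sSup ⟨hN, hπ⟩

instance piCore_char (π : Set ℕ) (G : Type u) [Group G] [Finite G] :
    (Cfsg.piCore π G).Characteristic := by
  rw [Subgroup.characteristic_iff_map_le]
  intro φ
  apply le_piCore
  · exact Subgroup.Normal.map inferInstance _ φ.surjective
  · rw [Subgroup.card_map_of_injective φ.injective]
    exact piCore_piNum π G

theorem main (π : Set ℕ) : ∀ (n : ℕ) (G : Type u) [Group G] [Finite G], Nat.card G = n →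
    ∀ A : Subgroup G, A.IsSubnormal → PiNum π (Nat.card A) → A ≤ Cfsg.piCore π G := by
  intro n
  induction n using Nat.strong_induction_on with
  | _ n ih =>
    intro G _ _ hn A hA hπ
    rcases hA.lt_normal with rfl | ⟨K, hKn, hAK, hKlt⟩
    · exact le_piCore π ⊤ inferInstance hπ
    · have hcard : Nat.card K < n := by
        rw [← hn]
        have h1 := Subgroup.card_mul_index K
        have h2 : K.index ≠ 1 := by
          rw [Ne, Subgroup.index_eq_one]; exact hKlt.ne
        have h3 : 0 < K.index := Nat.pos_of_ne_zero Subgroup.index_ne_zero_of_finite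
        have h4 : 0 < Nat.card K := Nat.card_pos
        have h5 : 2 ≤ K.index := by omega
        calc Nat.card K < Nat.card K * 2 := by omega
          _ ≤ Nat.card K * K.index := Nat.mul_le_mul_left _ h5
          _ = Nat.card G := h1
      have hA' : (A.subgroupOf K).IsSubnormal := hA.subgroupOf
      have hπ' : PiNum π (Nat.card (A.subgroupOf K)) := by
        rw [Nat.card_congr (Subgroup.subgroupOfEquivOfLe hAK).toEquiv]
        exact hπ
      have hIH := ih _ hcard ↥K rfl (A.subgroupOf K) hA' hπ'
      haveI := hKn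
      have hMn : ((Cfsg.piCore π ↥K).map K.subtype).Normal :=
        ConjAct.normal_of_characteristic_of_normal
      have hMπ : PiNum π (Nat.card ((Cfsg.piCore π ↥K).map K.subtype)) := by
        rw [Subgroup.card_map_of_injective K.subtype_injective]
        exact piCore_piNum π ↥K
      refine le_trans ?_ (le_piCore π _ hMn hMπ)
      intro a ha
      refine ⟨⟨a, hAK ha⟩, hIH ?_, rfl⟩
      rw [Subgroup.mem_subgroupOf]
      exact ha

/-- In a finite group G, every subnormal nilpotent subgroup lies in the Fitting subgroup F(G), and, for a set of primes π, every subnormal subgroup all of whose prime divisors lie in π lies in O_π(G). -/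
theorem result {G : Type*} [Group G] [Finite G] (A : Subgroup G) (hA : A.IsSubnormal) : (Group.IsNilpotent A → A ≤ Cfsg.fittingSubgroup G) ∧ ∀ π : Set ℕ, (∀ p : ℕ, p.Prime → p ∣ Nat.card A → p ∈ π) → A ≤ Cfsg.piCore π G := by
  constructor
  · intro hnil x hx
    rw [Cfsg.Agent.Helper4.mem_fittingSubgroup_iff]
    intro H
    have htop : Cfsg.fittingSubgroup ↥A = ⊤ := by
      rw [eq_top_iff]
      exact le_sSup ⟨inferInstance, inferInstance⟩
    have hx' : (⟨x, hx⟩ : ↥A) ∈ Cfsg.fittingSubgroup ↥A := by rw [htop]; exact Subgroup.mem_top _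
    rw [Cfsg.Agent.Helper4.mem_fittingSubgroup_iff] at hx'
    have h1 := hx' (H.subgroupOf A)
    rw [Subgroup.mem_subgroupOf] at h1
    have h2 : x ^ H.relIndex A ∈ H := by
      have h3 : (H.subgroupOf A).index = H.relIndex A := rfl
      rw [h3] at h1
      simpa using h1
    obtain ⟨m, hm⟩ := Cfsg.Agent.Helper4.relIndex_dvd_index_of_isSubnormal A hA H
    rw [hm, pow_mul]
    exact H.pow_mem h2 m
  · intro π hπ
    exact main π _ G rfl A hA hπ

end Cfsg.Agent.S3743
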