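import Mathlib
import Cfsg.Agent.Helper5.SCN
import Cfsg.Statements.S1894
-- import your own Cfsg.Agent.* helpers here

set_option autoImplicit false
open Cfsg Cfsg.Agent.Helper5

namespace Cfsg.Agent.S1894

/-- Let P be a finite p-group, A a normal subgroup of P and B an abelian subgroup of A that is normal in P. Then some subgroup C of A containing B is normal in P and is self-centralizing and normal in A (C ∈ SCN(A)). -/
theorem result {P : Type*} [Group P] [Finite P] {p : ℕ} [Fact p.Prime] (hP : IsPGroup p P)
    (A : Subgroup P) [A.Normal] (B : Subgroup P) [B.Normal] (hBA : B ≤ A) (hB : IsMulCommutative B) :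
    ∃ C : Subgroup P, C.Normal ∧ B ≤ C ∧ Cfsg.IsSCN A C := by
  obtain ⟨C, hCn, _, hBC, hCA, hCC⟩ := exists_scn_ge hP A B hBA hB
  refine ⟨C, hCn, hBC, hCA, ?_, hCC⟩
  rw [Subgroup.normalizer_eq_top_iff.mpr hCn]
  exact le_top

end Cfsg.Agent.S1894
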