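import Mathlib
import Cfsg.Agent.Helper5.ChermakDelgado
import Cfsg.Statements.S1899
-- import your own Cfsg.Agent.* helpers here

set_option autoImplicit false
open Cfsg

namespace Cfsg.Agent.S1899

theorem arith_sq {a b i : ℕ} (ha : 0 < a) (h1 : a ≤ b * i) (h2 : b * b ≤ a) (h3 : i * i ≤ a) : b * b = a := by
  apply le_antisymm h2
  have h4 : a * a ≤ (b * b) * a := by
    calc a * a ≤ (b * i) * (b * i) := Nat.mul_le_mul h1 h1
      _ = (b * b) * (i * i) := by ring
      _ ≤ (b * b) * a := Nat.mul_le_mul_left _ h3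
  exact Nat.le_of_mul_le_mul_right h4 ha

/-- Two subgroups meeting trivially have product of orders at most `|A|`. -/
theorem card_mul_le_of_inf_eq_bot {A : Type*} [Group A] [Finite A] (B C : Subgroup A) (h : B ⊓ C = ⊥) :
    Nat.card ↥B * Nat.card ↥C ≤ Nat.card A := by
  open scoped Pointwise in
  have h1 := Cfsg.Agent.Helper5.card_mul_set_mul_card_inf B C
  rw [h, Subgroup.card_bot, mul_one] at h1
  rw [← h1]
  exact Nat.card_le_card_of_injective _ Subtype.val_injective

/-- Let a dihedral group of order 2n, n odd and n > 1, act on a finite abelian 2-group A through automorphisms d and t with d^n = 1, t² = 1 and t d t⁻¹ = d⁻¹, and suppose that d fixes only the identity. Then A is the internal direct product of C_A(t) and its image under d. -/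
theorem result {A : Type*} [CommGroup A] [Finite A] (hA : IsPGroup 2 A)
    {n : ℕ} (hn : Odd n) (hn1 : 1 < n) (d t : MulAut A) (hd : d ^ n = 1) (ht : t ^ 2 = 1) (hdt : t * d * t⁻¹ = d⁻¹)
    (hfix : ∀ a : A, d a = a → a = 1) :
    (MulEquiv.toMonoidHom t).eqLocus (MonoidHom.id A) ⊓ ((MulEquiv.toMonoidHom t).eqLocus (MonoidHom.id A)).map d.toMonoidHom = ⊥ ∧
      (MulEquiv.toMonoidHom t).eqLocus (MonoidHom.id A) ⊔ ((MulEquiv.toMonoidHom t).eqLocus (MonoidHom.id A)).map d.toMonoidHom = ⊤ := by
  -- basic identities for d and t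
  have htt : ∀ a : A, t (t a) = a := by
    intro a
    have : (t ^ 2) a = a := by rw [ht]; rfl
    simpa [pow_two] using this
  have htinv : t⁻¹ = t := by
    have : t * t = 1 := by rw [← pow_two]; exact ht
    exact inv_eq_of_mul_eq_one_left this
  -- t d t = d⁻¹, so t (d (t a)) = d⁻¹ a
  have hrel : ∀ a : A, t (d (t a)) = d⁻¹ a := by
    intro a
    have h1 : (t * d * t⁻¹) a = d⁻¹ a := by rw [hdt]
    rw [htinv] at h1
    simpa using h1
  -- if d (d b) = b then b = 1
  have hd2 : ∀ b : A, d (d b) = b → b = 1 := by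
    intro b hb
    apply hfix
    obtain ⟨m, hm⟩ := hn
    -- d = (d^2)^(m+1)
    have h1 : ∀ k : ℕ, (d ^ (2 * k)) b = b := by
      intro k
      induction k with
      | zero => simp
      | succ k ih =>
        have : d ^ (2 * (k + 1)) = d ^ (2 * k) * d * d := by
          rw [mul_add, pow_add]; simp [pow_two, mul_assoc]
        rw [this]
        simp only [MulAut.mul_apply]
        rw [hb, ih]
    have h2 : d ^ (2 * (m + 1)) = d := by
      have : 2 * (m + 1) = n + 1 := by omega
      rw [this, pow_succ, hd, one_mul]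
    have := h1 (m + 1)
    rw [h2] at this
    exact this
  -- an element with d⁻¹ (d⁻¹ b) = b is trivial
  have hd2' : ∀ b : A, d⁻¹ (d⁻¹ b) = b → b = 1 := by
    intro b hb
    apply hd2
    have h1 : d (d (d⁻¹ (d⁻¹ b))) = d (d b) := by rw [hb]
    simpa using h1.symm
  set B : Subgroup A := (MulEquiv.toMonoidHom t).eqLocus (MonoidHom.id A) with hB
  have hmemB : ∀ a : A, a ∈ B ↔ t a = a := by
    intro a
    rfl
  -- I = elements inverted by t
  let f : A →* A := MonoidHom.id A * (MulEquiv.toMonoidHom t)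
  let g : A →* A := MonoidHom.id A * (MulEquiv.toMonoidHom t)⁻¹
  have hf : ∀ a, f a = a * t a := fun a => rfl
  have hg : ∀ a, g a = a * (t a)⁻¹ := fun a => rfl
  have hmemI : ∀ a : A, a ∈ f.ker ↔ t a = a⁻¹ := by
    intro a
    rw [MonoidHom.mem_ker, hf]
    constructor
    · intro h
      exact (eq_inv_of_mul_eq_one_right h)
    · intro h
      rw [h, mul_inv_cancel]
  have hgker : g.ker = B := by
    ext a
    rw [MonoidHom.mem_ker, hg, hmemB]
    constructor
    · intro h
      have := eq_of_mul_inv_eq_one h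
      exact this.symm
    · intro h
      rw [h, mul_inv_cancel]
  have hgrange : g.range ≤ f.ker := by
    rintro _ ⟨a, rfl⟩
    rw [hmemI, hg, map_mul, map_inv, htt]
    simp
  -- |A| ≤ |B| |I|
  have hle : Nat.card A ≤ Nat.card ↥B * Nat.card ↥f.ker := by
    have h1 : Nat.card ↥g.ker * g.ker.index = Nat.card A := Subgroup.card_mul_index g.ker
    rw [Subgroup.index_ker, hgker] at h1
    rw [← h1]
    exact Nat.mul_le_mul_left _ (Subgroup.card_le_of_le hgrange)
  -- B ∩ dB = 1
  have hBd : B ⊓ B.map d.toMonoidHom = ⊥ := by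
    rw [eq_bot_iff]
    rintro b ⟨hb1, b', hb', rfl⟩
    rw [Subgroup.mem_bot]
    have hb1' : t (d b') = d b' := (hmemB _).mp hb1
    have hb'' : t b' = b' := (hmemB _).mp hb'
    have h1 := hrel b'
    rw [hb'', hb1'] at h1
    -- d b' = d⁻¹ b'
    have h2 : d (d b') = b' := by
      rw [h1]; simp
    have := hd2 b' h2
    rw [this]; simp
  -- I ∩ dI = 1
  have hId : f.ker ⊓ f.ker.map d.toMonoidHom = ⊥ := by
    rw [eq_bot_iff]
    rintro b ⟨hb1, b', hb', rfl⟩
    rw [Subgroup.mem_bot]
    have hb1' : t (d b') = (d b')⁻¹ := (hmemI _).mp hb1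
    have hb'' : t b' = b'⁻¹ := (hmemI _).mp hb'
    have h1 := hrel b'
    rw [hb'', map_inv, map_inv, hb1', inv_inv] at h1
    have h2 : d (d b') = b' := by
      rw [h1]; simp
    have := hd2 b' h2
    rw [this]; simp
  have hcardB : Nat.card ↥(B.map d.toMonoidHom) = Nat.card ↥B :=
    Subgroup.card_map_of_injective d.injective
  have hcardI : Nat.card ↥(f.ker.map d.toMonoidHom) = Nat.card ↥f.ker :=
    Subgroup.card_map_of_injective d.injective
  have h2 := card_mul_le_of_inf_eq_bot B _ hBd
  have h3 := card_mul_le_of_inf_eq_bot f.ker _ hId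
  rw [hcardB] at h2
  rw [hcardI] at h3
  have hsq := arith_sq Nat.card_pos hle h2 h3
  refine ⟨hBd, ?_⟩
  -- B ⊔ dB = ⊤ by cardinality
  open scoped Pointwise in
  have h4 := Cfsg.Agent.Helper5.card_mul_set_mul_card_inf B (B.map d.toMonoidHom)
  rw [hBd, Subgroup.card_bot, mul_one, hcardB, hsq] at h4
  have h5 : Nat.card (((B : Set A) * ((B.map d.toMonoidHom : Subgroup A) : Set A) : Set A)) ≤
      Nat.card ↥(B ⊔ B.map d.toMonoidHom) :=
    Nat.card_mono (Set.toFinite _) (Cfsg.Agent.Helper5.mul_subset_sup B _)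
  rw [h4] at h5
  exact Subgroup.eq_top_of_le_card _ h5

end Cfsg.Agent.S1899
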