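import Mathlib
import Cfsg.Agent.S0058
import Cfsg.Agent.Helper1.PGroup
import Cfsg.Agent.Helper1.Coprime
import Cfsg.Agent.Helper1.PQLemma
import Cfsg.Agent.Helper1.SubnormalComm
import Cfsg.Agent.Helper5.PReducedRel2
import Cfsg.Statements.S1900
-- import your own Cfsg.Agent.* helpers here

set_option autoImplicit false
open Cfsg Cfsg.Agent.Helper5
open scoped commutatorElement

namespace Cfsg.Agent.S1900

theorem eq_of_commutator_eq {S : Type*} [Group S] [Finite S] {p : ℕ} [Fact p.Prime]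
    (K K₁ K₂ X : Subgroup S) (hK : IsPGroup p ↥K) (hK₁ : K₁ ≤ K) (hK₂ : K₂ ≤ K)
    (hgen : K ≤ K₁ ⊔ K₂) (hX₁ : ∀ k ∈ K₁, ∀ x ∈ X, ⁅k, x⁆ ∈ K₁)
    (hX₂ : ∀ k ∈ K₂, ∀ x ∈ X, ⁅k, x⁆ = 1) (hcomm : K ≤ ⁅K, X⁆) : K ≤ K₁ := by
  by_contra hne
  have h1 : K₁.subgroupOf K ≠ ⊤ := by
    intro h
    apply hne
    rw [Subgroup.subgroupOf_eq_top] at h
    exact h
  obtain ⟨M', hM', hle⟩ := (eq_top_or_exists_le_coatom (K₁.subgroupOf K)).resolve_left h1
  have hM'n : M'.Normal := Cfsg.Agent.Helper1.IsPGroup.coatom_normal hK hM'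
  have hK₁M : K₁ ≤ M'.map K.subtype := by
    intro k hk
    exact ⟨⟨k, hK₁ hk⟩, hle (Subgroup.mem_subgroupOf.mpr hk), rfl⟩
  have hMn : ∀ a ∈ K, ∀ m ∈ M'.map K.subtype, a * m * a⁻¹ ∈ M'.map K.subtype := by
    rintro a ha _ ⟨m, hm, rfl⟩
    exact ⟨⟨a, ha⟩ * m * ⟨a, ha⟩⁻¹, hM'n.conj_mem m hm ⟨a, ha⟩, rfl⟩
  have key : ∀ k ∈ K₁ ⊔ K₂, k ∈ K ∧ ∀ x ∈ X, ⁅k, x⁆ ∈ M'.map K.subtype := by
    intro k hk
    rw [Subgroup.sup_eq_closure] at hk
    induction hk using Subgroup.closure_induction with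
    | mem z hz =>
      rcases hz with hz | hz
      · exact ⟨hK₁ hz, fun x hx => hK₁M (hX₁ z hz x hx)⟩
      · exact ⟨hK₂ hz, fun x hx => by rw [hX₂ z hz x hx]; exact Subgroup.one_mem _⟩
    | one =>
      exact ⟨K.one_mem, fun x _ => by rw [commutatorElement_one_left]; exact Subgroup.one_mem _⟩
    | mul a b _ _ ha hb =>
      refine ⟨K.mul_mem ha.1 hb.1, fun x hx => ?_⟩
      rw [commutatorElement_mul_left_eq_conj_mul]
      exact Subgroup.mul_mem _ (hMn a ha.1 _ (hb.2 x hx)) (ha.2 x hx)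
    | inv a _ ha =>
      refine ⟨K.inv_mem ha.1, fun x hx => ?_⟩
      rw [commutatorElement_inv_left]
      have h2 : ⁅x, a⁆ ∈ M'.map K.subtype := by
        rw [← commutatorElement_inv]; exact Subgroup.inv_mem _ (ha.2 x hx)
      have := hMn a⁻¹ (K.inv_mem ha.1) _ h2
      simpa using this
  have hle2 : ⁅K, X⁆ ≤ M'.map K.subtype := by
    rw [Subgroup.commutator_le]
    intro k hk x hx
    exact (key k (hgen hk)).2 x hx
  have : M' = ⊤ := by
    rw [eq_top_iff]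
    intro k _
    obtain ⟨m, hm, hmk⟩ := hle2 (hcomm k.2)
    have : m = k := Subtype.ext hmk
    rw [← this]; exact hm
  exact hM'.1 this

theorem gen_le {S : Type*} [Group S] [Finite S] {p q : ℕ} [hp : Fact p.Prime] [hq : Fact q.Prime]
    (hpq : p ≠ q) (P' Q : Subgroup S) (hP' : IsPGroup p ↥P')
    (hQ : Cfsg.IsElementaryAbelian q Q) (hQc : Nat.card Q = q ^ 2) (X₁ X₂ : Subgroup S)
    (honly : ∀ X : Subgroup S, X ≤ Q → Nat.card X = q →
      P' ⊓ Subgroup.centralizer (X : Set S) ≠ ⊥ → X = X₁ ∨ X = X₂)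
    (K : Subgroup S) (hKP : K ≤ P') (hQK : Q ≤ Subgroup.normalizer (K : Set S)) :
    K ≤ (K ⊓ Subgroup.centralizer (X₁ : Set S)) ⊔ (K ⊓ Subgroup.centralizer (X₂ : Set S)) := by
  have hQcomm : IsMulCommutative ↥Q := hQ.1
  have hQnc : ¬ IsCyclic ↥Q := by
    intro hcyc
    obtain ⟨g, hg⟩ := hcyc.exists_generator
    have h1 : orderOf g = Nat.card Q := orderOf_eq_card_of_forall_mem_zpowers hg
    have h2 : g ^ q = 1 := Subtype.ext (by simpa using hQ.2 g g.2)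
    have h3 : orderOf g ∣ q := orderOf_dvd_of_pow_eq_one h2
    rw [h1, hQc] at h3
    have h4 := Nat.le_of_dvd hq.out.pos h3
    have h5 := hq.out.one_lt
    nlinarith
  have hcop : (Nat.card Q).Coprime (Nat.card K) := by
    rw [hQc]
    obtain ⟨k, hk⟩ := IsPGroup.iff_card.mp (hP'.to_le hKP)
    rw [hk]
    exact Nat.Coprime.pow _ _ ((Nat.coprime_primes hq.out hp.out).mpr hpq.symm)
  have hgen := Cfsg.Agent.S0058.result Q K hQnc hQK hcop
  calc K = ⨆ a ∈ {a : S | a ∈ Q ∧ a ≠ 1}, K ⊓ Subgroup.centralizer {a} := hgen.symm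
    _ ≤ _ := by
      apply iSup₂_le
      rintro a ⟨haQ, ha1⟩
      have hao : orderOf a = q := orderOf_eq_prime (hQ.2 a haQ) ha1
      have hXQ : Subgroup.zpowers a ≤ Q := Subgroup.zpowers_le.mpr haQ
      have hXc : Nat.card (Subgroup.zpowers a) = q := by rw [Nat.card_zpowers, hao]
      have hcent : Subgroup.centralizer {a} ≤
          Subgroup.centralizer ((Subgroup.zpowers a : Subgroup S) : Set S) := by
        intro g hg
        rw [Subgroup.mem_centralizer_iff] at hg ⊢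
        intro y hy
        obtain ⟨i, rfl⟩ := Subgroup.mem_zpowers_iff.mp hy
        have hc : Commute a g := hg a rfl
        exact (hc.zpow_left i).eq
      by_cases hX : P' ⊓ Subgroup.centralizer ((Subgroup.zpowers a : Subgroup S) : Set S) = ⊥
      · have : K ⊓ Subgroup.centralizer {a} ≤ ⊥ := by
          rw [← hX]; exact inf_le_inf hKP hcent
        exact this.trans bot_le
      · rcases honly _ hXQ hXc hX with h | h
        · refine (inf_le_inf_left K ?_).trans le_sup_left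
          rw [← h]; exact hcent
        · refine (inf_le_inf_left K ?_).trans le_sup_right
          rw [← h]; exact hcent

theorem comm_le {S : Type*} [Group S] [Finite S] {p q : ℕ} [hp : Fact p.Prime] [hq : Fact q.Prime]
    (hpq : p ≠ q) (P' Q Y Z : Subgroup S) [hPn : P'.Normal] (hP' : IsPGroup p ↥P')
    (hY : Y ≤ Q) (hZ : Z ≤ Q) (hZc : Nat.card Z = q)
    (hgen : ∀ K : Subgroup S, K ≤ P' → Q ≤ Subgroup.normalizer (K : Set S) →
      K ≤ (K ⊓ Subgroup.centralizer (Y : Set S)) ⊔ (K ⊓ Subgroup.centralizer (Z : Set S)))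
    (hQN : ∀ X : Subgroup S, X ≤ Q → Q ≤ Subgroup.normalizer (X : Set S)) :
    ⁅P', Z⁆ ≤ P' ⊓ Subgroup.centralizer (Y : Set S) := by
  have hKP : ⁅P', Z⁆ ≤ P' := Subgroup.commutator_le_left P' Z
  have hQP : Q ≤ Subgroup.normalizer (P' : Set S) := by
    rw [Subgroup.normalizer_eq_top]; exact le_top
  have hQK : Q ≤ Subgroup.normalizer ((⁅P', Z⁆ : Subgroup S) : Set S) :=
    Cfsg.Agent.Helper1.le_normalizer_commutator hQP (hQN Z hZ)
  have hcop : (Nat.card Z).Coprime (Nat.card P') := by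
    rw [hZc]
    obtain ⟨k, hk⟩ := IsPGroup.iff_card.mp hP'
    rw [hk]
    exact Nat.Coprime.pow_right _ ((Nat.coprime_primes hq.out hp.out).mpr hpq.symm)
  have hZP : Z ≤ Subgroup.normalizer (P' : Set S) := hZ.trans hQP
  have hsolv : Group.IsSolvable ↥P' := by
    have : Group.IsNilpotent ↥P' := hP'.isNilpotent
    infer_instance
  have hcc : ⁅⁅P', Z⁆, Z⁆ = ⁅P', Z⁆ :=
    Cfsg.Agent.Helper1.coprime_commutator_commutator Z P' hZP hcop (Or.inr hsolv)
  have hQKY : Q ≤ Subgroup.normalizer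
      ((⁅P', Z⁆ ⊓ Subgroup.centralizer (Y : Set S) : Subgroup S) : Set S) :=
    Cfsg.Agent.Helper1.le_normalizer_inf hQK
      ((hQN Y hY).trans (normalizer_le_normalizer_centralizer Y))
  refine le_inf hKP ?_
  have h := eq_of_commutator_eq ⁅P', Z⁆ (⁅P', Z⁆ ⊓ Subgroup.centralizer (Y : Set S))
    (⁅P', Z⁆ ⊓ Subgroup.centralizer (Z : Set S)) Z (hP'.to_le hKP) inf_le_left inf_le_left
    (hgen _ hKP hQK) ?_ ?_ (by rw [hcc])
  · exact h.trans inf_le_right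
  · intro k hk x hx
    have h1 : x * k⁻¹ * x⁻¹ ∈ ⁅P', Z⁆ ⊓ Subgroup.centralizer (Y : Set S) :=
      (Subgroup.mem_normalizer_iff.mp (hQKY (hZ hx)) k⁻¹).mp (Subgroup.inv_mem _ hk)
    have h2 : ⁅k, x⁆ = k * (x * k⁻¹ * x⁻¹) := by rw [commutatorElement_def]; group
    rw [h2]
    exact Subgroup.mul_mem _ hk h1
  · intro k hk x hx
    rw [commutatorElement_eq_one_iff_mul_comm]
    exact (Subgroup.mem_centralizer_iff.mp hk.2 x hx).symm

/-- Let S = PQ be a finite group with P a normal Sylow p-subgroup and Q elementary abelian of order q², q a prime different from p. If exactly two subgroups X₁, X₂ of order q in Q have a nontrivial centralizer in P, then P is the internal direct product of C_P(X₁) and C_P(X₂): they commute elementwise, meet trivially and generate P. -/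
theorem result {S : Type*} [Group S] [Finite S] {p q : ℕ} [Fact p.Prime] [Fact q.Prime] (hpq : p ≠ q)
    (P : Sylow p S) [(P : Subgroup S).Normal] (Q : Subgroup S) (hQ : Cfsg.IsElementaryAbelian q Q) (hQc : Nat.card Q = q ^ 2)
    (hS : (P : Subgroup S) ⊔ Q = ⊤)
    (X₁ X₂ : Subgroup S) (h₁ : X₁ ≤ Q) (h₂ : X₂ ≤ Q) (h₁₂ : X₁ ≠ X₂) (hc₁ : Nat.card X₁ = q) (hc₂ : Nat.card X₂ = q)
    (hf₁ : (P : Subgroup S) ⊓ Subgroup.centralizer (X₁ : Set S) ≠ ⊥)
    (hf₂ : (P : Subgroup S) ⊓ Subgroup.centralizer (X₂ : Set S) ≠ ⊥)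
    (honly : ∀ X : Subgroup S, X ≤ Q → Nat.card X = q →
      (P : Subgroup S) ⊓ Subgroup.centralizer (X : Set S) ≠ ⊥ → X = X₁ ∨ X = X₂) :
    ⁅(P : Subgroup S) ⊓ Subgroup.centralizer (X₁ : Set S), (P : Subgroup S) ⊓ Subgroup.centralizer (X₂ : Set S)⁆ = ⊥ ∧
      ((P : Subgroup S) ⊓ Subgroup.centralizer (X₁ : Set S)) ⊓ ((P : Subgroup S) ⊓ Subgroup.centralizer (X₂ : Set S)) = ⊥ ∧
      ((P : Subgroup S) ⊓ Subgroup.centralizer (X₁ : Set S)) ⊔ ((P : Subgroup S) ⊓ Subgroup.centralizer (X₂ : Set S)) = P := by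
  classical
  have hp : p.Prime := Fact.out
  have hq : q.Prime := Fact.out
  have hP'p : IsPGroup p ↥(P : Subgroup S) := P.isPGroup'
  have hQab : ∀ a ∈ Q, ∀ b ∈ Q, a * b = b * a := fun a ha b hb => by
    have := hQ.1.is_comm.comm ⟨a, ha⟩ ⟨b, hb⟩
    exact congrArg Subtype.val this
  have hQN : ∀ X : Subgroup S, X ≤ Q → Q ≤ Subgroup.normalizer (X : Set S) := by
    intro X hX g hg
    rw [Subgroup.mem_normalizer_iff]
    intro x
    constructor
    · intro hx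
      rw [hQab g hg x (hX hx), mul_inv_cancel_right]; exact hx
    · intro hx
      have hxQ : x ∈ Q := by
        have := Q.mul_mem (Q.mul_mem (Q.inv_mem hg) (hX hx)) hg
        simpa [mul_assoc] using this
      rw [hQab g hg x hxQ, mul_inv_cancel_right] at hx
      exact hx
  have hQP : Q ≤ Subgroup.normalizer ((P : Subgroup S) : Set S) := by
    rw [Subgroup.normalizer_eq_top]; exact le_top
  have hgen : ∀ K : Subgroup S, K ≤ (P : Subgroup S) → Q ≤ Subgroup.normalizer (K : Set S) →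
      K ≤ (K ⊓ Subgroup.centralizer (X₁ : Set S)) ⊔ (K ⊓ Subgroup.centralizer (X₂ : Set S)) :=
    fun K hK hQK => gen_le hpq (P : Subgroup S) Q hP'p hQ hQc X₁ X₂ honly K hK hQK
  have hgen' : ∀ K : Subgroup S, K ≤ (P : Subgroup S) → Q ≤ Subgroup.normalizer (K : Set S) →
      K ≤ (K ⊓ Subgroup.centralizer (X₂ : Set S)) ⊔ (K ⊓ Subgroup.centralizer (X₁ : Set S)) :=
    fun K hK hQK => by rw [sup_comm]; exact hgen K hK hQK
  -- generation
  have hA : ((P : Subgroup S) ⊓ Subgroup.centralizer (X₁ : Set S)) ⊔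
      ((P : Subgroup S) ⊓ Subgroup.centralizer (X₂ : Set S)) = P :=
    le_antisymm (sup_le inf_le_left inf_le_left) (hgen _ le_rfl hQP)
  -- generators of X₁, X₂
  have hXgen : ∀ X : Subgroup S, X ≤ Q → Nat.card X = q →
      ∃ x ∈ X, x ≠ 1 ∧ Subgroup.zpowers x = X := by
    intro X hX hXc
    have hne : X ≠ ⊥ := by
      intro h0
      rw [h0, Subgroup.card_bot] at hXc
      exact hq.one_lt.ne hXc
    rw [Ne, Subgroup.eq_bot_iff_forall] at hne
    push Not at hne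
    obtain ⟨x, hx, hx1⟩ := hne
    refine ⟨x, hx, hx1, ?_⟩
    apply Subgroup.eq_of_le_of_card_ge (Subgroup.zpowers_le.mpr hx)
    rw [Nat.card_zpowers, orderOf_eq_prime (hQ.2 x (hX hx)) hx1, hXc]
  obtain ⟨x₁, hx₁, hx₁1, hzx₁⟩ := hXgen X₁ h₁ hc₁
  obtain ⟨x₂, hx₂, hx₂1, hzx₂⟩ := hXgen X₂ h₂ hc₂
  have hx₂X₁ : x₂ ∉ X₁ := by
    intro h
    apply h₁₂
    have hle : X₂ ≤ X₁ := by rw [← hzx₂]; exact Subgroup.zpowers_le.mpr h
    exact (Subgroup.eq_of_le_of_card_ge hle (by rw [hc₁, hc₂])).symm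
  have hx₁X₂ : x₁ ∉ X₂ := by
    intro h
    apply h₁₂
    have hle : X₁ ≤ X₂ := by rw [← hzx₁]; exact Subgroup.zpowers_le.mpr h
    exact Subgroup.eq_of_le_of_card_ge hle (by rw [hc₁, hc₂])
  -- trivial intersection
  have hB : ((P : Subgroup S) ⊓ Subgroup.centralizer (X₁ : Set S)) ⊓
      ((P : Subgroup S) ⊓ Subgroup.centralizer (X₂ : Set S)) = ⊥ := by
    by_contra hne
    have h12Q : x₁ * x₂ ∈ Q := Q.mul_mem (h₁ hx₁) (h₂ hx₂)
    have h12ne : x₁ * x₂ ≠ 1 := by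
      intro h
      apply hx₂X₁
      have : x₂ = x₁⁻¹ := eq_inv_of_mul_eq_one_right h
      rw [this]; exact X₁.inv_mem hx₁
    have h12o : orderOf (x₁ * x₂) = q := orderOf_eq_prime (hQ.2 _ h12Q) h12ne
    have h3 := honly (Subgroup.zpowers (x₁ * x₂)) (Subgroup.zpowers_le.mpr h12Q)
      (by rw [Nat.card_zpowers, h12o]) (by
        intro h0
        apply hne
        rw [eq_bot_iff, ← h0]
        intro c hc
        obtain ⟨hcA, hcB⟩ := Subgroup.mem_inf.mp hc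
        obtain ⟨hcP, hc1⟩ := Subgroup.mem_inf.mp hcA
        obtain ⟨_, hc2⟩ := Subgroup.mem_inf.mp hcB
        refine Subgroup.mem_inf.mpr ⟨hcP, ?_⟩
        rw [Subgroup.mem_centralizer_iff]
        intro y hy
        obtain ⟨i, rfl⟩ := Subgroup.mem_zpowers_iff.mp hy
        have e1 : Commute x₁ c := Subgroup.mem_centralizer_iff.mp hc1 x₁ hx₁
        have e2 : Commute x₂ c := Subgroup.mem_centralizer_iff.mp hc2 x₂ hx₂
        exact ((e1.mul_left e2).zpow_left i).eq)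
    rcases h3 with h | h
    · apply hx₂X₁
      have h4 : x₁ * x₂ ∈ X₁ := by rw [← h]; exact Subgroup.mem_zpowers _
      have := X₁.mul_mem (X₁.inv_mem hx₁) h4
      simpa using this
    · apply hx₁X₂
      have h4 : x₁ * x₂ ∈ X₂ := by rw [← h]; exact Subgroup.mem_zpowers _
      have := X₂.mul_mem h4 (X₂.inv_mem hx₂)
      simpa using this
  -- the two commutator subgroups
  have hK₂ : ⁅(P : Subgroup S), X₂⁆ ≤ (P : Subgroup S) ⊓ Subgroup.centralizer (X₁ : Set S) :=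
    comm_le hpq (P : Subgroup S) Q X₁ X₂ hP'p h₁ h₂ hc₂ hgen hQN
  have hK₁ : ⁅(P : Subgroup S), X₁⁆ ≤ (P : Subgroup S) ⊓ Subgroup.centralizer (X₂ : Set S) :=
    comm_le hpq (P : Subgroup S) Q X₂ X₁ hP'p h₂ h₁ hc₁ hgen' hQN
  have hcop : ∀ X : Subgroup S, Nat.card X = q → (Nat.card X).Coprime (Nat.card (P : Subgroup S)) := by
    intro X hX
    rw [hX]
    obtain ⟨k, hk⟩ := IsPGroup.iff_card.mp hP'p
    rw [hk]
    exact Nat.Coprime.pow_right _ ((Nat.coprime_primes hq hp).mpr hpq.symm)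
  have hsolv : Group.IsSolvable ↥(P : Subgroup S) := by
    have : Group.IsNilpotent ↥(P : Subgroup S) := hP'p.isNilpotent
    infer_instance
  have hdec₂ := Cfsg.Agent.Helper1.coprime_commutator_sup_centralizer X₂ (P : Subgroup S)
    (h₂.trans hQP) (hcop X₂ hc₂) (Or.inr hsolv)
  have hdec₁ := Cfsg.Agent.Helper1.coprime_commutator_sup_centralizer X₁ (P : Subgroup S)
    (h₁.trans hQP) (hcop X₁ hc₁) (Or.inr hsolv)
  have hPK₂ : (P : Subgroup S) ≤ Subgroup.normalizer ((⁅(P : Subgroup S), X₂⁆ : Subgroup S) : Set S) :=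
    Cfsg.Agent.Helper1.le_normalizer_commutator_left _ _
  have hPK₁ : (P : Subgroup S) ≤ Subgroup.normalizer ((⁅(P : Subgroup S), X₁⁆ : Subgroup S) : Set S) :=
    Cfsg.Agent.Helper1.le_normalizer_commutator_left _ _
  -- C₁ = [P, X₂], C₂ = [P, X₁]
  have hC₁ : (P : Subgroup S) ⊓ Subgroup.centralizer (X₁ : Set S) ≤ ⁅(P : Subgroup S), X₂⁆ := by
    intro c hc
    have hcP : c ∈ ⁅(P : Subgroup S), X₂⁆ ⊔
        ((P : Subgroup S) ⊓ Subgroup.centralizer (X₂ : Set S)) := by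
      rw [hdec₂]; exact hc.1
    obtain ⟨k, hk, c₂, hc₂', rfl⟩ :=
      Cfsg.Agent.Helper1.mem_sup_of_le_normalizer (inf_le_left.trans hPK₂) hcP
    have h5 : c₂ ∈ ((P : Subgroup S) ⊓ Subgroup.centralizer (X₁ : Set S)) ⊓
        ((P : Subgroup S) ⊓ Subgroup.centralizer (X₂ : Set S)) := by
      refine Subgroup.mem_inf.mpr ⟨?_, hc₂'⟩
      have h8 := Subgroup.mul_mem _ (Subgroup.inv_mem _ (hK₂ hk)) hc
      rw [inv_mul_cancel_left] at h8
      exact h8
    rw [hB, Subgroup.mem_bot] at h5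
    rw [h5, mul_one]; exact hk
  have hC₂ : (P : Subgroup S) ⊓ Subgroup.centralizer (X₂ : Set S) ≤ ⁅(P : Subgroup S), X₁⁆ := by
    intro c hc
    have hcP : c ∈ ⁅(P : Subgroup S), X₁⁆ ⊔
        ((P : Subgroup S) ⊓ Subgroup.centralizer (X₁ : Set S)) := by
      rw [hdec₁]; exact hc.1
    obtain ⟨k, hk, c₁, hc₁', rfl⟩ :=
      Cfsg.Agent.Helper1.mem_sup_of_le_normalizer (inf_le_left.trans hPK₁) hcP
    have h5 : c₁ ∈ ((P : Subgroup S) ⊓ Subgroup.centralizer (X₁ : Set S)) ⊓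
        ((P : Subgroup S) ⊓ Subgroup.centralizer (X₂ : Set S)) := by
      refine Subgroup.mem_inf.mpr ⟨hc₁', ?_⟩
      have h8 := Subgroup.mul_mem _ (Subgroup.inv_mem _ (hK₁ hk)) hc
      rw [inv_mul_cancel_left] at h8
      exact h8
    rw [hB, Subgroup.mem_bot] at h5
    rw [h5, mul_one]; exact hk
  refine ⟨?_, hB, hA⟩
  rw [eq_bot_iff, ← hB, Subgroup.commutator_le]
  intro c₁ hc₁' c₂ hc₂'
  refine Subgroup.mem_inf.mpr ⟨?_, ?_⟩
  · -- in C₁ : c₁ * (c₂ c₁⁻¹ c₂⁻¹)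
    have h6 : c₂ * c₁⁻¹ * c₂⁻¹ ∈ ⁅(P : Subgroup S), X₂⁆ :=
      (Subgroup.mem_normalizer_iff.mp (hPK₂ hc₂'.1) c₁⁻¹).mp (Subgroup.inv_mem _ (hC₁ hc₁'))
    have h7 : ⁅c₁, c₂⁆ = c₁ * (c₂ * c₁⁻¹ * c₂⁻¹) := by rw [commutatorElement_def]; group
    rw [h7]
    exact Subgroup.mul_mem _ hc₁' (hK₂ h6)
  · have h6 : c₁ * c₂ * c₁⁻¹ ∈ ⁅(P : Subgroup S), X₁⁆ :=
      (Subgroup.mem_normalizer_iff.mp (hPK₁ hc₁'.1) c₂).mp (hC₂ hc₂')
    have h7 : ⁅c₁, c₂⁆ = (c₁ * c₂ * c₁⁻¹) * c₂⁻¹ := by rw [commutatorElement_def]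
    rw [h7]
    exact Subgroup.mul_mem _ (hK₁ h6) (Subgroup.inv_mem _ hc₂')

end Cfsg.Agent.S1900
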