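import Mathlib
import Cfsg.Agent.Helper5.PSolvNorm
import Cfsg.Statements.S1901
-- import your own Cfsg.Agent.* helpers here

set_option autoImplicit false
open Cfsg

namespace Cfsg.Agent.S1901

/-- Let G be a finite p-solvable group and Q a subgroup of order prime to p such that p divides the index of C_G(Q) in N_G(Q). Then Q normalizes no Sylow p-subgroup of G. -/
theorem result {G : Type*} [Group G] [Finite G] {p : ℕ} [Fact p.Prime]
    (hG : Cfsg.IsPSolvable p G) (Q : Subgroup G) (hQ : ¬ p ∣ Nat.card Q)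
    (hA : p ∣ (Subgroup.centralizer (Q : Set G)).relIndex (Subgroup.normalizer (Q : Set G)))
    (P : Sylow p G) : ¬ Q ≤ Subgroup.normalizer ((P : Subgroup G) : Set G) := by
  intro hQP
  have hpP : p.Prime := Fact.out
  have hQc : (Nat.card Q).Coprime p := ((Nat.Prime.coprime_iff_not_dvd hpP).mpr hQ).symm
  obtain ⟨S⟩ : Nonempty (Sylow p ↥(Subgroup.normalizer (Q : Set G))) := inferInstance
  have hSC : (S : Subgroup ↥(Subgroup.normalizer (Q : Set G))) ≤
      (Subgroup.centralizer (Q : Set G)).subgroupOf (Subgroup.normalizer (Q : Set G)) := by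
    intro s hs
    rw [Subgroup.mem_subgroupOf]
    obtain ⟨k, hk⟩ := S.isPGroup' ⟨s, hs⟩
    apply Cfsg.Agent.Helper5.PSN.main (Nat.card G) G rfl hG Q hQc P hQP (s : G) s.2
    refine ⟨k, ?_⟩
    have h1 := congrArg (fun t : ↥(S : Subgroup ↥(Subgroup.normalizer (Q : Set G))) =>
      (((t : ↥(Subgroup.normalizer (Q : Set G))) : G))) hk
    simpa using h1
  have h1 : ((Subgroup.centralizer (Q : Set G)).subgroupOf (Subgroup.normalizer (Q : Set G))).index ∣
      (S : Subgroup ↥(Subgroup.normalizer (Q : Set G))).index := Subgroup.index_dvd_of_le hSC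
  exact S.not_dvd_index (dvd_trans hA h1)

end Cfsg.Agent.S1901
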