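import Mathlib
import Cfsg.Statements.S1902
import Cfsg.Agent.S1302
import Cfsg.Agent.Helper2.PConstrained5
import Cfsg.Agent.Helper2.Conj

set_option autoImplicit false
open Cfsg

namespace Cfsg.Agent.S1902

open Cfsg.Agent.Helper2

open Cfsg.Agent.Helper1 Cfsg.Agent.Helper5

/-- Let p be an odd prime, G a finite p-solvable group, and B an elementary abelian subgroup of order p² such that B is the subgroup generated by the elements of order p of some Sylow p-subgroup of C_G(b₀), for some nontrivial b₀ ∈ B. Then every B-invariant subgroup of G of order prime to p lies in O_{p'}(G). -/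
theorem result {G : Type*} [Group G] [Finite G] {p : ℕ} [Fact p.Prime] (hp : p ≠ 2)
    (hG : Cfsg.IsPSolvable p G) (B : Subgroup G) (hB : Cfsg.IsElementaryAbelian p B) (hBc : Nat.card B = p ^ 2)
    (b₀ : G) (hb₀ : b₀ ∈ B) (hb₁ : b₀ ≠ 1) (P : Sylow p ↥(Subgroup.centralizer ({b₀} : Set G)))
    (hBP : B = Subgroup.closure {x : G | x ∈ ((P : Subgroup ↥(Subgroup.centralizer ({b₀} : Set G))).map
      (Subgroup.centralizer ({b₀} : Set G)).subtype : Subgroup G) ∧ orderOf x = p})
    (Q : Subgroup G) (hQ : ¬ p ∣ Nat.card Q) (hinv : ∀ b ∈ B, ∀ x ∈ Q, b * x * b⁻¹ ∈ Q) :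
    Q ≤ Cfsg.pPrimeCore p G := by
  classical
  have hc : Cfsg.IsPConstrained p G :=
    (isPConstrained_iff p).mpr (pLayer_eq_bot_of_isPSolvable p hG)
  have hBp : IsPGroup p ↥B := by
    intro b
    refine ⟨1, ?_⟩
    rw [pow_one]
    apply Subtype.ext
    rw [Subgroup.coe_pow]
    exact hB.2 b b.2
  obtain ⟨P', hP'⟩ : ∃ P' : Subgroup G, P' = (P : Subgroup ↥(Subgroup.centralizer ({b₀} : Set G))).map (Subgroup.centralizer ({b₀} : Set G)).subtype := ⟨_, rfl⟩
  rw [← hP'] at hBP
  have hBP' : B ≤ P' := by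
    rw [hBP, Subgroup.closure_le]
    intro x hx
    exact hx.1
  have hgen : ∀ x ∈ P', orderOf x = p → x ∈ B := by
    intro x hx ho
    rw [hBP]
    exact Subgroup.subset_closure ⟨hx, ho⟩
  have hΩ : ∀ x ∈ Subgroup.centralizer (B : Set G), orderOf x = p → x ∈ B := by
    intro x hx ho
    have hxb : b₀ * x = x * b₀ := Subgroup.mem_centralizer_iff.mp hx b₀ hb₀
    have hxC0 : x ∈ Subgroup.centralizer ({b₀} : Set G) := by
      rw [Subgroup.mem_centralizer_singleton_iff]
      exact hxb.symm
    have hBC0 : B ≤ Subgroup.centralizer ({b₀} : Set G) := by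
      rw [hP'] at hBP'
      exact hBP'.trans (Subgroup.map_subtype_le _)
    set E : Subgroup G := B ⊔ Subgroup.zpowers x with hE
    have hxp : IsPGroup p ↥(Subgroup.zpowers x) := by
      apply IsPGroup.of_card (n := 1)
      rw [Nat.card_zpowers, ho, pow_one]
    have hBn : B ≤ Subgroup.normalizer ((Subgroup.zpowers x : Subgroup G) : Set G) := by
      intro b hb
      apply Subgroup.centralizer_le_normalizer
      rw [Subgroup.mem_centralizer_iff]
      intro y hy
      obtain ⟨n, rfl⟩ := Subgroup.mem_zpowers_iff.mp hy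
      have h1 : Commute b x := Subgroup.mem_centralizer_iff.mp hx b hb
      exact ((h1.zpow_right n).eq).symm
    have hEp : IsPGroup p ↥E := IsPGroup.to_sup_of_normal_right' hBp hxp hBn
    have hEC0 : E ≤ Subgroup.centralizer ({b₀} : Set G) := sup_le hBC0 (Subgroup.zpowers_le.mpr hxC0)
    have hE' : IsPGroup p ↥(E.subgroupOf (Subgroup.centralizer ({b₀} : Set G))) := hEp.comap_subtype
    obtain ⟨c, hcE⟩ := exists_cj_le_sylow P (E.subgroupOf (Subgroup.centralizer ({b₀} : Set G))) hE'
    have hconj : ∀ e ∈ E, (c : G) * e * (c : G)⁻¹ ∈ P' := by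
      intro e he
      have h1 : c * ⟨e, hEC0 he⟩ * c⁻¹ ∈ (P : Subgroup ↥(Subgroup.centralizer ({b₀} : Set G))) :=
        (cj_le_iff _ _ c).mp hcE ⟨e, hEC0 he⟩ (Subgroup.mem_subgroupOf.mpr he)
      rw [hP']
      exact ⟨_, h1, rfl⟩
    have hord : ∀ y : G, orderOf ((c : G) * y * (c : G)⁻¹) = orderOf y := fun y =>
      orderOf_injective (MulAut.conj (c : G)).toMonoidHom (MulAut.conj (c : G)).injective y
    have hcB : cj (c : G) B ≤ B := by
      rw [cj_le_iff]
      intro b hb
      by_cases hb1 : b = 1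
      · rw [hb1]; simp
      · apply hgen _ (hconj b (Subgroup.mem_sup_left hb))
        rw [hord]
        exact orderOf_eq_prime (hB.2 b hb) hb1
    have hcB' : cj (c : G) B = B := by
      apply Subgroup.eq_of_le_of_card_ge hcB
      rw [Nat.card_congr (B.equivMapOfInjective (MulAut.conj (c : G)).toMonoidHom (MulEquiv.injective _)).toEquiv]
    have hcx : (c : G) * x * (c : G)⁻¹ ∈ B := by
      apply hgen _ (hconj x (Subgroup.mem_sup_right (Subgroup.mem_zpowers x)))
      rw [hord, ho]
    have := cj_eq_of_cj_inv_eq hcB'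
    rw [← this, mem_cj_iff, inv_inv]
    exact hcx
  have hAQ : B ≤ Subgroup.normalizer (Q : Set G) := by
    intro b hb
    rw [Subgroup.mem_normalizer_iff]
    intro h
    constructor
    · exact hinv b hb h
    · intro hh
      have := hinv b⁻¹ (B.inv_mem hb) _ hh
      simpa [mul_assoc] using this
  exact Cfsg.Agent.S1302.result p hp hc B hB.1 hBp hΩ Q hQ hAQ

end Cfsg.Agent.S1902
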