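import Mathlib
import Cfsg.Agent.Helper2.StrEmb3
import Cfsg.Agent.Helper2.StrEmb2
import Cfsg.Agent.Helper5.Misc
import Cfsg.Statements.S1905
-- import your own Cfsg.Agent.* helpers here

set_option autoImplicit false
open Cfsg Cfsg.Agent.Helper2

namespace Cfsg.Agent.S1905

theorem mem_centralizer_singleton' {S : Type*} [Group S] (a b : S) :
    a ∈ Subgroup.centralizer ({b} : Set S) ↔ b * a = a * b := by
  rw [Subgroup.mem_centralizer_iff]
  constructor
  · intro h; exact h b rfl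
  · intro h x hx; rw [Set.mem_singleton_iff.mp hx]; exact h

/-- Let M be a subgroup of even order of a finite group S such that M contains the centralizer in S of each of its involutions and the normal core of M in S has odd order. Then all involutions of S are conjugate. If moreover N_S(X) ≤ M for a Sylow 2-subgroup X of M and I is an involution in the centre of X, then all involutions of M are conjugate in M and M = M₀ C_M(I) for some subgroup M₀ of M of odd order. -/
theorem result {S : Type*} [Group S] [Finite S] (M : Subgroup S) (hM : Even (Nat.card M))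
    (hC : ∀ i ∈ M, orderOf i = 2 → Subgroup.centralizer ({i} : Set S) ≤ M) (hcore : Odd (Nat.card M.normalCore)) :
    (∀ x y : S, orderOf x = 2 → orderOf y = 2 → IsConj x y) ∧
      ∀ (X : Sylow 2 M) (I : M), I ∈ (Subgroup.center ↥(X : Subgroup ↥M)).map (X : Subgroup ↥M).subtype → orderOf I = 2 →
        Subgroup.normalizer (((X : Subgroup M).map M.subtype : Subgroup S) : Set S) ≤ M →
        (∀ x y : M, orderOf x = 2 → orderOf y = 2 → IsConj x y) ∧
          ∃ M₀ : Subgroup M, Odd (Nat.card M₀) ∧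
            ∀ m : M, ∃ a ∈ M₀, ∃ c ∈ Subgroup.centralizer ({I} : Set M), m = a * c := by
  have hprime : Fact (Nat.Prime 2) := ⟨Nat.prime_two⟩
  obtain ⟨i, hiM, hi2⟩ := exists_invol_of_even_card M hM
  -- an involution all of whose conjugates lie in `M` gives a contradiction
  have hcoreinv : ∀ j : S, orderOf j = 2 → (∀ g : S, g * j * g⁻¹ ∈ M) → False := by
    intro j hj hjM
    have hmem : j ∈ M.normalCore := fun b => hjM b
    exact (not_odd_card_of_invol M.normalCore hmem hj) hcore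
  have hall : ∀ j : S, orderOf j = 2 → IsConj j i := by
    intro j hj
    by_contra hnc
    apply hcoreinv j hj
    intro g
    have hg2 : orderOf (g * j * g⁻¹) = 2 := by rw [orderOf_conj_eq]; exact hj
    have hnc' : ¬ IsConj (g * j * g⁻¹) i := fun h => hnc ((isConj_iff.mpr ⟨g, rfl⟩).trans h)
    obtain ⟨w, hw2, hwj, hwi⟩ := exists_invol_commute_of_not_isConj hg2 hi2 hnc'
    have hwM : w ∈ M := hC i hiM hi2 ((mem_centralizer_singleton' w i).mpr hwi.eq.symm)
    exact hC w hwM hw2 ((mem_centralizer_singleton' _ w).mpr hwj.eq)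
  refine ⟨fun x y hx hy => (hall x hx).trans (hall y hy).symm, ?_⟩
  intro X I hIZ hI2 hNX
  set X' : Subgroup S := (X : Subgroup ↥M).map M.subtype with hX'
  have hX'M : X' ≤ M := by rintro _ ⟨x, -, rfl⟩; exact x.2
  have hI2' : orderOf (I : S) = 2 := by rw [Subgroup.orderOf_coe]; exact hI2
  obtain ⟨I₀, hI₀Z, hI₀I⟩ := hIZ
  have hIX : (I : S) ∈ X' := by
    refine ⟨I, ?_, rfl⟩
    rw [← hI₀I]; exact I₀.2
  have hIcen : ∀ x ∈ X', x * (I : S) = (I : S) * x := by
    rintro _ ⟨x, hx, rfl⟩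
    have h1 := Subgroup.mem_center_iff.mp hI₀Z ⟨x, hx⟩
    have h2 := congrArg (fun y : ↥(X : Subgroup ↥M) => ((y : ↥M) : S)) h1
    simp only [Subgroup.coe_mul] at h2
    rw [← hI₀I]
    exact h2
  have hMne : M ≠ ⊤ := by
    intro h
    apply hcoreinv i hi2
    intro g; rw [h]; exact Subgroup.mem_top _
  have hSE : Cfsg.IsStronglyEmbedded M := by
    apply stronglyEmbedded_of_invol hMne hM
    intro t g ht htM htg
    rw [mem_cj_iff] at htg
    -- conjugate `t` into `X'`
    have hzp : IsPGroup 2 (Subgroup.zpowers t) := by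
      apply IsPGroup.of_card (n := 1)
      rw [Nat.card_zpowers, ht, pow_one]
    obtain ⟨m, hmM, hm⟩ := exists_mem_cj_le_sylow_map M X (Subgroup.zpowers t)
      (by rw [Subgroup.zpowers_le]; exact htM) hzp
    have ha : m * t * m⁻¹ ∈ X' := (cj_le_iff _ _ m).mp hm t (Subgroup.mem_zpowers t)
    -- `z = m⁻¹ I m` commutes with `t`
    set z := m⁻¹ * (I : S) * m with hz
    have hzt : z * t = t * z := by
      have := hIcen _ ha
      rw [hz]
      calc m⁻¹ * (I : S) * m * t = m⁻¹ * ((I : S) * (m * t * m⁻¹)) * m := by group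
        _ = m⁻¹ * ((m * t * m⁻¹) * (I : S)) * m := by rw [this]
        _ = t * (m⁻¹ * (I : S) * m) := by group
    have hz2 : orderOf z = 2 := by
      have : z = m⁻¹ * (I : S) * m⁻¹⁻¹ := by rw [hz, inv_inv]
      rw [this, orderOf_conj_eq]; exact hI2'
    -- `z₁ = g⁻¹ z g` commutes with `t' = g⁻¹ t g ∈ M`
    have ht'2 : orderOf (g⁻¹ * t * g) = 2 := by
      have : g⁻¹ * t * g = g⁻¹ * t * g⁻¹⁻¹ := by rw [inv_inv]
      rw [this, orderOf_conj_eq]; exact ht
    have hz₁M : g⁻¹ * z * g ∈ M := by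
      apply hC _ htg ht'2
      rw [mem_centralizer_singleton']
      calc g⁻¹ * t * g * (g⁻¹ * z * g) = g⁻¹ * (t * z) * g := by group
        _ = g⁻¹ * (z * t) * g := by rw [hzt]
        _ = g⁻¹ * z * g * (g⁻¹ * t * g) := by group
    have hz₁2 : orderOf (g⁻¹ * z * g) = 2 := by
      have : g⁻¹ * z * g = g⁻¹ * z * g⁻¹⁻¹ := by rw [inv_inv]
      rw [this, orderOf_conj_eq]; exact hz2
    -- `D = (g⁻¹ m⁻¹) X' (g⁻¹ m⁻¹)⁻¹ ≤ C(z₁) ≤ M`
    have hDM : cj (g⁻¹ * m⁻¹) X' ≤ M := by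
      rw [cj_le_iff]
      intro x hx
      apply hC _ hz₁M hz₁2
      rw [mem_centralizer_singleton']
      have := hIcen x hx
      calc g⁻¹ * z * g * (g⁻¹ * m⁻¹ * x * (g⁻¹ * m⁻¹)⁻¹)
          = g⁻¹ * m⁻¹ * ((I : S) * x) * m * g := by rw [hz]; group
        _ = g⁻¹ * m⁻¹ * (x * (I : S)) * m * g := by rw [this]
        _ = g⁻¹ * m⁻¹ * x * (g⁻¹ * m⁻¹)⁻¹ * (g⁻¹ * z * g) := by rw [hz]; group
    have hDp : IsPGroup 2 (cj (g⁻¹ * m⁻¹) X') := (X.isPGroup'.map _).map _
    obtain ⟨m₂, hm₂M, hm₂⟩ := exists_mem_cj_le_sylow_map M X _ hDM hDp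
    rw [cj_cj] at hm₂
    have hn : m₂ * (g⁻¹ * m⁻¹) ∈ Subgroup.normalizer (X' : Set S) := by
      apply Cfsg.Agent.Helper5.mem_normalizer_of_conj_mem
      exact (cj_le_iff _ _ _).mp hm₂
    have hnM := hNX hn
    have : g = ((m₂⁻¹ * (m₂ * (g⁻¹ * m⁻¹))) * m)⁻¹ := by group
    rw [this]
    exact M.inv_mem (M.mul_mem (M.mul_mem (M.inv_mem hm₂M) hnM) hmM)
  -- an involution outside `M`
  obtain ⟨u, hu2, huM⟩ : ∃ u : S, orderOf u = 2 ∧ u ∉ M := by
    by_contra hcon
    push Not at hcon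
    apply hcoreinv i hi2
    intro g
    apply hcon
    rw [orderOf_conj_eq]; exact hi2
  refine ⟨?_, (M ⊓ cj u M).subgroupOf M, ?_, ?_⟩
  · intro x y hx hy
    have hx' : orderOf (x : S) = 2 := by rw [Subgroup.orderOf_coe]; exact hx
    have hy' : orderOf (y : S) = 2 := by rw [Subgroup.orderOf_coe]; exact hy
    obtain ⟨d, hd, hdxy⟩ := invol_conj_in_inter hSE hu2 huM hx' x.2 hy' y.2
    rw [isConj_iff]
    refine ⟨⟨d, hd.1⟩, ?_⟩
    apply Subtype.ext
    simpa using hdxy
  · have hodd := hSE.2.2 u huM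
    have hcard : Nat.card ↥((M ⊓ cj u M).subgroupOf M) = Nat.card ↥(M ⊓ cj u M) :=
      Nat.card_congr (Subgroup.subgroupOfEquivOfLe inf_le_left).toEquiv
    rw [hcard]; exact hodd
  · intro m
    have hmI2 : orderOf ((m : S) * (I : S) * (m : S)⁻¹) = 2 := by rw [orderOf_conj_eq]; exact hI2'
    have hmIM : (m : S) * (I : S) * (m : S)⁻¹ ∈ M := M.mul_mem (M.mul_mem m.2 I.2) (M.inv_mem m.2)
    obtain ⟨d, hd, hdI⟩ := invol_conj_in_inter hSE hu2 huM hI2' I.2 hmI2 hmIM
    refine ⟨⟨d, hd.1⟩, Subgroup.mem_subgroupOf.mpr hd, (⟨d, hd.1⟩ : ↥M)⁻¹ * m, ?_, by group⟩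
    rw [mem_centralizer_singleton']
    apply Subtype.ext
    simp only [Subgroup.coe_mul, Subgroup.coe_inv]
    calc (I : S) * (d⁻¹ * (m : S)) = d⁻¹ * (d * (I : S) * d⁻¹) * (m : S) := by group
      _ = d⁻¹ * ((m : S) * (I : S) * (m : S)⁻¹) * (m : S) := by rw [hdI]
      _ = d⁻¹ * (m : S) * (I : S) := by group

end Cfsg.Agent.S1905
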