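import Cfsg.Statements.S1906
import Cfsg.Agent.Lead.GL3InvE

set_option autoImplicit false
open Cfsg

namespace Cfsg.Agent.S1906

/-- Let G be a finite group with no subgroup of index 2 whose Sylow 2-subgroup X embeds in GL₃(F) for a finite field F of odd order. If X contains an elementary abelian subgroup of order 8, then X is abelian. -/
theorem result {G : Type*} [Group G] [Finite G] (hG : ∀ H : Subgroup G, H.index ≠ 2) (X : Sylow 2 G)
    {F : Type*} [Field F] [Fintype F] (hF : Odd (Fintype.card F))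
    (f : ↥(X : Subgroup G) →* GL (Fin 3) F) (hf : Function.Injective f)
    (E : Subgroup G) (hE : E ≤ (X : Subgroup G)) (hEa : Cfsg.IsElementaryAbelian 2 E) (hE8 : Nat.card E = 8) :
    IsMulCommutative (X : Subgroup G) := by
  have h2 : (2 : F) ≠ 0 := Cfsg.Agent.Lead.GL3Inv.two_ne_zero_of_odd_card hF
  have hE2 : ∀ e ∈ E, e * e = 1 := by
    intro e he
    have := hEa.2 e he
    rwa [pow_two] at this
  exact ⟨⟨Cfsg.Agent.Lead.GL3Inv.comm_of_sylow_gl3 hG X h2 f hf E hE hE2 hE8⟩⟩

end Cfsg.Agent.S1906
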