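import Mathlib
import Cfsg.Agent.Helper5.SylowSub
import Cfsg.Agent.Helper5.Misc
import Cfsg.Agent.Helper5.PPrimeCore
import Cfsg.Agent.Helper5.PIrreducible
import Cfsg.Agent.Helper1.Subnormal
import Cfsg.Agent.Helper4.PCore
import Cfsg.Statements.S1907
-- import your own Cfsg.Agent.* helpers here

set_option autoImplicit false
open Cfsg Cfsg.Agent.Helper5

namespace Cfsg.Agent.S1907

theorem partA {G : Type*} [Group G] [Finite G] {p : ℕ} [Fact p.Prime] (D K T : Subgroup G)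
    [hDn : D.Normal] [hKn : K.Normal] (hDcop : (Nat.card D).Coprime p) (hTp : IsPGroup p ↥T) (hTK : T ≤ K)
    (hTmax : ∀ E : Subgroup G, E ≤ K → IsPGroup p ↥E → T ≤ E → E = T) (y : G)
    (hyN : y ∈ Subgroup.normalizer (T : Set G)) (hyp : ∃ k : ℕ, orderOf y = p ^ k) (d : G) (hd : d ∈ D)
    (hy' : d⁻¹ * y * d ∈ Subgroup.normalizer (T : Set G)) :
    ∃ d₁ ∈ D ⊓ Subgroup.centralizer ({y} : Set G),
      ∃ d₂ ∈ D ⊓ Subgroup.centralizer (T : Set G), d = d₁ * d₂ := by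
  have hpD : ∀ (S : Subgroup G), IsPGroup p ↥S → ∀ x ∈ S, x ∈ D → x = 1 := by
    intro S hS x hxS hxD
    obtain ⟨k, hk⟩ := hS ⟨x, hxS⟩
    have hk' : x ^ p ^ k = 1 := by simpa using congrArg Subtype.val hk
    have h2 : x ^ Nat.card D = 1 := by
      have h : (⟨x, hxD⟩ : ↥D) ^ Nat.card ↥D = 1 := pow_card_eq_one'
      have h' := congrArg Subtype.val h
      rw [Subgroup.coe_pow, Subgroup.coe_one] at h'
      exact h'
    have h3 : x ^ Nat.gcd (Nat.card D) (p ^ k) = 1 := pow_gcd_eq_one.mpr ⟨h2, hk'⟩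
    rwa [Nat.Coprime.pow_right k hDcop, pow_one] at h3
  have hzp : ∀ z : G, (∃ k : ℕ, orderOf z = p ^ k) → IsPGroup p ↥(Subgroup.zpowers z) := by
    rintro z ⟨k, hk⟩
    exact IsPGroup.of_card (n := k) (by rw [Nat.card_zpowers, hk])
  have hy'p : ∃ k : ℕ, orderOf (d⁻¹ * y * d) = p ^ k := by
    obtain ⟨k, hk⟩ := hyp
    refine ⟨k, ?_⟩
    have h := (MulAut.conj d⁻¹).orderOf_eq y
    rw [MulAut.conj_apply, inv_inv] at h
    rw [h, hk]
  set y' := d⁻¹ * y * d with hy'def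
  set T₁ := T ⊔ Subgroup.zpowers y with hT₁
  have hT₁p : IsPGroup p ↥T₁ :=
    IsPGroup.to_sup_of_normal_left' hTp (hzp y hyp) (Subgroup.zpowers_le.mpr hyN)
  set T₁' := T ⊔ Subgroup.zpowers y' with hT₁'
  have hT₁'p : IsPGroup p ↥T₁' :=
    IsPGroup.to_sup_of_normal_left' hTp (hzp y' hy'p) (Subgroup.zpowers_le.mpr hy')
  set M := T₁ ⊔ D with hM
  have hT₁M : T₁ ≤ M := le_sup_left
  have hDM : D ≤ M := le_sup_right
  have hyT₁ : y ∈ T₁ := (le_sup_right : Subgroup.zpowers y ≤ T₁) (Subgroup.mem_zpowers y)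
  have hT₁'M : T₁' ≤ M := by
    apply sup_le ((le_sup_left : T ≤ T₁).trans hT₁M)
    rw [Subgroup.zpowers_le]
    exact M.mul_mem (M.mul_mem (M.inv_mem (hDM hd)) (hT₁M hyT₁)) (hDM hd)
  obtain ⟨S, hT₁S, hSM, hSp, -, hconj⟩ := exists_sylow_of_subgroup M T₁ hT₁M hT₁p
  have hST₁ : S ≤ T₁ := by
    intro s hs
    obtain ⟨t, ht, e, he, hte⟩ := Subgroup.mem_sup_of_normal_right.mp (hSM hs)
    have he' : e = t⁻¹ * s := by rw [← hte]; group
    have he1 : e = 1 := hpD S hSp e (by rw [he']; exact S.mul_mem (S.inv_mem (hT₁S ht)) hs) he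
    rw [← hte, he1, mul_one]
    exact ht
  obtain ⟨c, hcM, hc⟩ := hconj T₁' hT₁'M hT₁'p
  obtain ⟨t, ht, e, he, hte⟩ := Subgroup.mem_sup_of_normal_right.mp hcM
  have hce : ∀ x ∈ T₁', e * x * e⁻¹ ∈ T₁ := by
    intro x hx
    have h1 := hST₁ (hc x hx)
    rw [← hte] at h1
    have h2 : e * x * e⁻¹ = t⁻¹ * (t * e * x * (t * e)⁻¹) * t := by group
    rw [h2]
    exact T₁.mul_mem (T₁.mul_mem (T₁.inv_mem ht) h1) ht
  have hT₁K : T₁ ⊓ K = T :=
    hTmax (T₁ ⊓ K) inf_le_right (hT₁p.to_le inf_le_left) (le_inf le_sup_left hTK)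
  have heN : e ∈ Subgroup.normalizer (T : Set G) := by
    apply mem_normalizer_of_conj_mem
    intro x hx
    have h1 := hce x ((le_sup_left : T ≤ T₁') hx)
    have h2 : e * x * e⁻¹ ∈ K := hKn.conj_mem x (hTK hx) e
    rw [← hT₁K]
    exact ⟨h1, h2⟩
  have heC : e ∈ Subgroup.centralizer (T : Set G) := by
    rw [Subgroup.mem_centralizer_iff]
    intro x hx
    have h1 : e * x * e⁻¹ ∈ T := (Subgroup.mem_normalizer_iff.mp heN x).mp hx
    have h2 : e * x * e⁻¹ * x⁻¹ = 1 := by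
      apply hpD T hTp _ (T.mul_mem h1 (T.inv_mem hx))
      have h3 : e * x * e⁻¹ * x⁻¹ = e * (x * e⁻¹ * x⁻¹) := by group
      rw [h3]
      exact D.mul_mem he (hDn.conj_mem e⁻¹ (D.inv_mem he) x)
    calc x * e = (e * x * e⁻¹ * x⁻¹)⁻¹ * (e * x) := by group
      _ = e * x := by rw [h2, inv_one, one_mul]
  set f := e * d⁻¹ with hf
  have hfD : f ∈ D := D.mul_mem he (D.inv_mem hd)
  have h1 : e * y' * e⁻¹ ∈ T₁ := hce y' ((le_sup_right : Subgroup.zpowers y' ≤ T₁') (Subgroup.mem_zpowers y'))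
  have h2 : e * y' * e⁻¹ = f * y * f⁻¹ := by rw [hy'def, hf]; group
  rw [h2] at h1
  have h3 : y⁻¹ * (f * y * f⁻¹) = 1 := by
    apply hpD T₁ hT₁p _ (T₁.mul_mem (T₁.inv_mem hyT₁) h1)
    have h4 : y⁻¹ * (f * y * f⁻¹) = (y⁻¹ * f * y⁻¹⁻¹) * f⁻¹ := by group
    rw [h4]
    exact D.mul_mem (hDn.conj_mem f hfD y⁻¹) (D.inv_mem hfD)
  have hfy : f * y = y * f := by
    have h5 : f * y * f⁻¹ = y := by
      calc f * y * f⁻¹ = y * (y⁻¹ * (f * y * f⁻¹)) := by group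
        _ = y := by rw [h3, mul_one]
    calc f * y = (f * y * f⁻¹) * f := by group
      _ = y * f := by rw [h5]
  refine ⟨f⁻¹, ⟨D.inv_mem hfD, ?_⟩, e, ⟨he, heC⟩, by rw [hf]; group⟩
  show f⁻¹ ∈ Subgroup.centralizer ({y} : Set G)
  rw [Subgroup.mem_centralizer_singleton_iff]
  calc f⁻¹ * y = f⁻¹ * (y * f) * f⁻¹ := by group
    _ = f⁻¹ * (f * y) * f⁻¹ := by rw [hfy]
    _ = y * f⁻¹ := by group

/-- Let P be a Sylow p-subgroup of a finite group G, H = P ∩ O_{p',p}(G), N = N_G(H) and D = O_{p'}(G). (a) If y is an element of p-power order of N and d ∈ D with d⁻¹ y d ∈ N, then d = d₁ d₂ with d₁ ∈ C_D(y) and d₂ ∈ C_D(H). (b) Two elements of P that are conjugate in G are conjugate in N. -/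
theorem result {G : Type*} [Group G] [Finite G] {p : ℕ} [Fact p.Prime] (P : Sylow p G) :
    (∀ y ∈ Subgroup.normalizer (((P : Subgroup G) ⊓ Cfsg.pPrimePCore p G : Subgroup G) : Set G), (∃ k : ℕ, orderOf y = p ^ k) →
      ∀ d ∈ Cfsg.pPrimeCore p G, d⁻¹ * y * d ∈ Subgroup.normalizer (((P : Subgroup G) ⊓ Cfsg.pPrimePCore p G : Subgroup G) : Set G) →
        ∃ d₁ ∈ Cfsg.pPrimeCore p G ⊓ Subgroup.centralizer ({y} : Set G),
          ∃ d₂ ∈ Cfsg.pPrimeCore p G ⊓ Subgroup.centralizer (((P : Subgroup G) ⊓ Cfsg.pPrimePCore p G : Subgroup G) : Set G), d = d₁ * d₂) ∧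
    ∀ x y : G, x ∈ (P : Subgroup G) → y ∈ (P : Subgroup G) → IsConj x y →
      ∃ n ∈ Subgroup.normalizer (((P : Subgroup G) ⊓ Cfsg.pPrimePCore p G : Subgroup G) : Set G), n * x * n⁻¹ = y := by
  set D := Cfsg.pPrimeCore p G with hD
  set K := Cfsg.pPrimePCore p G with hK
  set T := (P : Subgroup G) ⊓ K with hT
  set N := Subgroup.normalizer (T : Set G) with hN
  have hDn : D.Normal := inferInstance
  have hKn : K.Normal := by
    rw [hK]; unfold Cfsg.pPrimePCore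
    exact (Cfsg.Agent.Helper4.pCore_normal).comap _
  have hDcop : (Nat.card D).Coprime p := coprime_card_pPrimeCore p
  have hTp : IsPGroup p ↥T := P.2.to_le inf_le_left
  have hTK : T ≤ K := inf_le_right
  obtain ⟨Q, hQ⟩ := Cfsg.Agent.Helper1.sylow_inf_subnormal p K hKn.isSubnormal P
  have hQT : (Q : Subgroup ↥K).map K.subtype = T := by
    rw [hQ, Subgroup.subgroupOf_map_subtype]
  have hTmax : ∀ E : Subgroup G, E ≤ K → IsPGroup p ↥E → T ≤ E → E = T := by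
    intro E hEK hEp hTE
    have h1 : (Q : Subgroup ↥K) ≤ E.subgroupOf K := by
      rw [hQ]
      intro x hx
      rw [Subgroup.mem_subgroupOf] at hx ⊢
      exact hTE ⟨hx, x.2⟩
    have h2 := Q.is_maximal' hEp.comap_subtype h1
    rw [← hQT, ← h2]
    exact (Subgroup.map_subgroupOf_eq_of_le hEK).symm
  have hA := fun y hyN hyp d hd hy' =>
    partA D K T hDcop hTp hTK hTmax y hyN hyp d hd hy'
  refine ⟨hA, ?_⟩
  -- part B
  have hPN : (P : Subgroup G) ≤ N := by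
    apply le_normalizer_of_conj_mem
    rintro g hg x ⟨hx1, hx2⟩
    exact ⟨(P : Subgroup G).mul_mem ((P : Subgroup G).mul_mem hg hx1) ((P : Subgroup G).inv_mem hg),
      hKn.conj_mem x hx2 g⟩
  have hTN : T ≤ N := Subgroup.le_normalizer
  have hKDT : K ≤ D ⊔ T := by
    have h1 : Cfsg.pResidual p ↥K ≤ D.subgroupOf K := by
      have h2 := pResidual_le_ker ((QuotientGroup.mk' D).comp K.subtype) (Cfsg.pCore p (G ⧸ D))
        (isPGroup_pCore p) (by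
          rintro _ ⟨x, -, rfl⟩
          have hx : (x : G) ∈ Cfsg.pPrimePCore p G := x.2
          unfold Cfsg.pPrimePCore at hx
          exact hx)
      intro x hx
      have h3 := h2 hx
      rw [MonoidHom.mem_ker, MonoidHom.comp_apply, QuotientGroup.mk'_apply, QuotientGroup.eq_one_iff] at h3
      exact Subgroup.mem_subgroupOf.mpr h3
    have h4 := pResidual_sup_sylow Q
    have h5 : D.subgroupOf K ⊔ (Q : Subgroup ↥K) = ⊤ := by
      rw [eq_top_iff, ← h4]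
      exact sup_le_sup_right h1 _
    intro k hk
    have h6 : (⟨k, hk⟩ : ↥K) ∈ D.subgroupOf K ⊔ (Q : Subgroup ↥K) := by rw [h5]; trivial
    have h7 : k ∈ (D.subgroupOf K ⊔ (Q : Subgroup ↥K)).map K.subtype := ⟨_, h6, rfl⟩
    rw [Subgroup.map_sup, hQT, Subgroup.subgroupOf_map_subtype] at h7
    exact (sup_le_sup_right inf_le_left T) h7
  have htop : D ⊔ N = ⊤ := by
    have h1 := Sylow.normalizer_sup_eq_top Q
    rw [hQT] at h1
    rw [eq_top_iff, ← h1]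
    apply sup_le le_sup_right
    exact hKDT.trans (sup_le le_sup_left (hTN.trans le_sup_right))
  intro x y hx hy hxy
  obtain ⟨c, hc⟩ := isConj_iff.mp hxy
  have hcm : c ∈ D ⊔ N := by rw [htop]; trivial
  obtain ⟨e, he, n, hn, hen⟩ := Subgroup.mem_sup_of_normal_left.mp hcm
  set y₀ := n * x * n⁻¹ with hy₀
  have hy₀N : y₀ ∈ N := N.mul_mem (N.mul_mem hn (hPN hx)) (N.inv_mem hn)
  have hy₀p : ∃ k : ℕ, orderOf y₀ = p ^ k := by
    obtain ⟨k, hk⟩ := P.2 ⟨x, hx⟩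
    have hk' : x ^ p ^ k = 1 := by simpa using congrArg Subtype.val hk
    have h1 : orderOf y₀ = orderOf x := by
      have h := (MulAut.conj n).orderOf_eq x
      rw [MulAut.conj_apply] at h
      exact h
    obtain ⟨j, -, hj⟩ := (Nat.dvd_prime_pow (Fact.out : p.Prime)).mp (orderOf_dvd_of_pow_eq_one hk')
    exact ⟨j, by rw [h1, hj]⟩
  have hyy₀ : e⁻¹⁻¹ * y₀ * e⁻¹ = y := by
    rw [← hc, ← hen, hy₀]; group
  obtain ⟨d₁, ⟨hd₁D, hd₁C⟩, d₂, ⟨hd₂D, hd₂C⟩, hdd⟩ :=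
    hA y₀ hy₀N hy₀p e⁻¹ (D.inv_mem he) (by rw [hyy₀]; exact hPN hy)
  have hd₁y : d₁ * y₀ = y₀ * d₁ := Subgroup.mem_centralizer_singleton_iff.mp hd₁C
  have hd₂N : d₂ ∈ N := Subgroup.centralizer_le_normalizer _ hd₂C
  refine ⟨d₂⁻¹ * n, N.mul_mem (N.inv_mem hd₂N) hn, ?_⟩
  have he' : e = d₂⁻¹ * d₁⁻¹ := by
    have : e = (e⁻¹)⁻¹ := by group
    rw [this, hdd]; group
  rw [← hc, ← hen, he']
  have h9 : d₁⁻¹ * y₀ * d₁ = y₀ := by
    calc d₁⁻¹ * y₀ * d₁ = d₁⁻¹ * (y₀ * d₁) := by group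
      _ = d₁⁻¹ * (d₁ * y₀) := by rw [hd₁y]
      _ = y₀ := by group
  calc d₂⁻¹ * n * x * (d₂⁻¹ * n)⁻¹ = d₂⁻¹ * y₀ * d₂ := by rw [hy₀]; group
    _ = d₂⁻¹ * (d₁⁻¹ * y₀ * d₁) * d₂ := by rw [h9]
    _ = d₂⁻¹ * d₁⁻¹ * n * x * (d₂⁻¹ * d₁⁻¹ * n)⁻¹ := by rw [hy₀]; group

end Cfsg.Agent.S1907
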