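import Mathlib
import Cfsg.Agent.Helper5.TightEmb
import Cfsg.Statements.S1910
-- import your own Cfsg.Agent.* helpers here

set_option autoImplicit false
open Cfsg Cfsg.Agent.Helper5 Cfsg.Agent.Helper5.TE

namespace Cfsg.Agent.S1910

/-- Let Q be a tightly embedded subgroup of a finite group G, g an element outside N_G(Q), T a nontrivial Sylow 2-subgroup of Q^g ∩ N_G(Q), and S a Sylow 2-subgroup of QT containing T. Then T ∩ Q = 1, and N_S(T) is the direct product of T and N_S(T) ∩ Q, with N_S(T) ∩ Q isomorphic to T. -/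
theorem result {G : Type*} [Group G] [Finite G] (Q : Subgroup G) (hQ : Cfsg.IsTightlyEmbedded Q)
    (g : G) (hg : g ∉ Subgroup.normalizer (Q : Set G))
    (T : Subgroup G) (hT1 : T ≠ ⊥) (hT : T ≤ Q.map (MulAut.conj g).toMonoidHom ⊓ Subgroup.normalizer (Q : Set G))
    (hTsyl : IsPGroup 2 T ∧ ¬ 2 ∣ T.relIndex (Q.map (MulAut.conj g).toMonoidHom ⊓ Subgroup.normalizer (Q : Set G)))
    (S : Subgroup G) (hTS : T ≤ S) (hS : S ≤ Q ⊔ T) (hSsyl : IsPGroup 2 S ∧ ¬ 2 ∣ S.relIndex (Q ⊔ T)) :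
    T ⊓ Q = ⊥ ∧
      T ⊓ (S ⊓ Subgroup.normalizer (T : Set G) ⊓ Q) = ⊥ ∧
      ⁅T, S ⊓ Subgroup.normalizer (T : Set G) ⊓ Q⁆ = ⊥ ∧
      T ⊔ (S ⊓ Subgroup.normalizer (T : Set G) ⊓ Q) = S ⊓ Subgroup.normalizer (T : Set G) ∧
      Nonempty (↥(S ⊓ Subgroup.normalizer (T : Set G) ⊓ Q) ≃* T) := by
  obtain ⟨hQeven, hQTE⟩ := hQ
  have h1 : Hyp Q (Q.map (MulAut.conj g).toMonoidHom) T S :=
    { hcard := (card_map_conj' Q g).symm
      hodd := hQTE g hg
      hTE := te_conj Q hQTE g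
      hTK := hT.trans inf_le_left
      hTN := hT.trans inf_le_right
      hT1 := hT1
      hT2 := hTsyl.1
      hTS := hTS
      hS := hS
      hS2 := hSsyl.1
      hSsyl := hSsyl.2 }
  set Qg := Q.map (MulAut.conj g).toMonoidHom with hQg
  set R := S ⊓ Subgroup.normalizer (T : Set G) ⊓ Q with hR
  have hTQ : T ⊓ Q = ⊥ := h1.inf_eq_bot
  have hTR : T ⊓ R = ⊥ := by rw [eq_bot_iff, ← hTQ]; exact inf_le_inf_left T inf_le_right
  refine ⟨hTQ, hTR, h1.commutator_eq_bot, h1.sup_eq, ?_⟩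
  have hle1 : Nat.card T ≤ Nat.card R := h1.card_le
  have hR2 : IsPGroup 2 R := hSsyl.1.to_le (inf_le_left.trans inf_le_left)
  have hR1 : R ≠ ⊥ := by
    intro hbot
    rw [hbot, Subgroup.card_bot] at hle1
    have : Nat.card T = 1 := le_antisymm hle1 Nat.card_pos
    exact hT1 (Subgroup.card_eq_one.mp this)
  have hRQ : R ≤ Q := inf_le_right
  have hRNg : R ≤ Subgroup.normalizer (Qg : Set G) :=
    (inf_le_left.trans inf_le_right).trans h1.normalizer_le
  obtain ⟨S', hRS', hS'le, hS'2, hS'syl⟩ :=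
    exists_sylow_relIndex (p := 2) (le_sup_right : R ≤ Qg ⊔ R) hR2
  have h2 : Hyp Qg Q R S' :=
    { hcard := card_map_conj' Q g
      hodd := by rw [inf_comm]; exact hQTE g hg
      hTE := hQTE
      hTK := hRQ
      hTN := hRNg
      hT1 := hR1
      hT2 := hR2
      hTS := hRS'
      hS := hS'le
      hS2 := hS'2
      hSsyl := hS'syl }
  have hle2 : Nat.card R ≤ Nat.card ↥(S' ⊓ Subgroup.normalizer (R : Set G) ⊓ Qg) := h2.card_le
  set R' := S' ⊓ Subgroup.normalizer (R : Set G) ⊓ Qg with hR'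
  have hR'N₁ : R' ≤ Qg ⊓ Subgroup.normalizer (Q : Set G) :=
    le_inf inf_le_right ((inf_le_left.trans inf_le_right).trans h2.normalizer_le)
  have hR'2 : IsPGroup 2 R' := hS'2.to_le (inf_le_left.trans inf_le_left)
  have hle3 : Nat.card R' ≤ Nat.card T := by
    have hN := card_eq_card_mul_relIndex' hT
    obtain ⟨b, hb⟩ := IsPGroup.iff_card.mp hR'2
    have hdvd : Nat.card R' ∣ Nat.card ↥(Qg ⊓ Subgroup.normalizer (Q : Set G)) :=
      Subgroup.card_dvd_of_le hR'N₁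
    rw [hN] at hdvd
    have hcop : (Nat.card R').Coprime (T.relIndex (Qg ⊓ Subgroup.normalizer (Q : Set G))) := by
      rw [hb]
      exact Nat.Coprime.pow_left b ((Nat.Prime.coprime_iff_not_dvd Nat.prime_two).mpr hTsyl.2)
    exact Nat.le_of_dvd Nat.card_pos (hcop.dvd_of_dvd_mul_right hdvd)
  have hcardeq : Nat.card R = Nat.card T := le_antisymm (hle2.trans hle3) hle1
  rcases h1.dichotomy with ⟨hSN, _⟩ | ⟨φ, hφ⟩
  · have hRP : S ⊓ Q = R := by rw [hR, inf_eq_left.mpr hSN]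
    obtain ⟨m, hm, hK⟩ := h1.card_eq
    rw [hRP] at hK
    have hRgle : R.map (MulAut.conj g).toMonoidHom ≤ Qg := Subgroup.map_mono hRQ
    have hRg2 : IsPGroup 2 (R.map (MulAut.conj g).toMonoidHom) := hR2.map _
    have hcardRg : Nat.card (R.map (MulAut.conj g).toMonoidHom) = Nat.card R := card_map_conj' R g
    have hQgcard : Nat.card Qg = Nat.card R * m := by rw [hQg, card_map_conj', hK]
    have hsylow : ∀ X : Subgroup G, X ≤ Qg → Nat.card X = Nat.card R → ¬ 2 ∣ X.relIndex Qg := by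
      intro X hX hc h2dvd
      have h3 := card_eq_card_mul_relIndex' hX
      rw [hQgcard, hc] at h3
      have h4 : m = X.relIndex Qg := Nat.eq_of_mul_eq_mul_left Nat.card_pos h3
      rw [← h4] at h2dvd
      exact (Nat.not_even_iff_odd.mpr hm) (even_iff_two_dvd.mpr h2dvd)
    obtain ⟨e⟩ := nonempty_mulEquiv_of_sylow hRgle (hT.trans inf_le_left) hRg2 hTsyl.1
      (hsylow _ hRgle hcardRg) (hsylow T (hT.trans inf_le_left) hcardeq.symm)
    exact ⟨(R.equivMapOfInjective _ (MulAut.conj g).injective).trans e⟩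
  · have hbij : Function.Bijective φ := hφ.bijective_of_nat_card_le hcardeq.le
    exact ⟨(MulEquiv.ofBijective φ hbij).symm⟩

end Cfsg.Agent.S1910
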