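import Mathlib
import Cfsg.Statements.S1921
import Cfsg.Agent.Helper2.Layer
import Cfsg.Agent.Helper2.Signalizer1
import Cfsg.Agent.Helper1.Coprime

set_option autoImplicit false
open Cfsg

namespace Cfsg.Agent.S1921

open Cfsg.Agent.Helper2

/-- Let a be an involution of a finite group H and L a component of H with a L a⁻¹ ≠ L; put M = ⟨L, aLa⁻¹⟩ and let J be the subgroup generated by the elements x · a x a⁻¹ with x ∈ L (the diagonal). Then every element of M outside J·Z(M) generates M together with J. -/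
theorem result {H : Type*} [Group H] [Finite H] (a : H) (ha : orderOf a = 2) (L : Subgroup H) (hL : Cfsg.IsComponent L)
    (hLa : L.map (MulAut.conj a).toMonoidHom ≠ L) (x : H) (hxM : x ∈ L ⊔ L.map (MulAut.conj a).toMonoidHom)
    (hxJ : x ∉ Subgroup.closure {y : H | ∃ l ∈ L, y = l * (a * l * a⁻¹)} ⊔
      ((L ⊔ L.map (MulAut.conj a).toMonoidHom) ⊓ Subgroup.centralizer ((L ⊔ L.map (MulAut.conj a).toMonoidHom : Subgroup H) : Set H))) :
    Subgroup.closure {y : H | ∃ l ∈ L, y = l * (a * l * a⁻¹)} ⊔ Subgroup.zpowers x = L ⊔ L.map (MulAut.conj a).toMonoidHom := by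
  set La := L.map (MulAut.conj a).toMonoidHom with hLadef
  set M := L ⊔ La with hM
  set J := Subgroup.closure {y : H | ∃ l ∈ L, y = l * (a * l * a⁻¹)} with hJ
  set Z := M ⊓ Subgroup.centralizer (M : Set H) with hZ
  have hLacomp : Cfsg.IsComponent La := isComponent_cj hL a
  have hmemLa : ∀ l ∈ L, a * l * a⁻¹ ∈ La := fun l hl => ⟨l, hl, rfl⟩
  have hcomm : ∀ l ∈ L, ∀ m ∈ La, l * m = m * l := by
    intro l hl m hm
    have h1 := components_commute hL hLacomp (Ne.symm hLa)
    rw [Subgroup.commutator_eq_bot_iff_le_centralizer] at h1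
    have h2 := h1 hl
    rw [Subgroup.mem_centralizer_iff] at h2
    exact (h2 m hm).symm
  have hδJ : ∀ l ∈ L, l * (a * l * a⁻¹) ∈ J := fun l hl => Subgroup.subset_closure ⟨l, hl, rfl⟩
  have hJM : J ≤ M := by
    rw [hJ, Subgroup.closure_le]
    rintro _ ⟨l, hl, rfl⟩
    exact mul_mem (le_sup_left (a := L) hl) (le_sup_right (a := L) (hmemLa l hl))
  apply le_antisymm
  · exact sup_le hJM (Subgroup.zpowers_le.mpr hxM)
  · set K := J ⊔ Subgroup.zpowers x with hK
    have hJK : J ≤ K := le_sup_left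
    have hxK : x ∈ K := le_sup_right (a := J) (Subgroup.mem_zpowers x)
    -- decompose `x`
    have hLaN : La ≤ Subgroup.normalizer (L : Set H) := by
      apply le_normalizer_of_conj_mem
      intro m hm l hl
      rw [← hcomm l hl m hm, mul_inv_cancel_right]; exact hl
    obtain ⟨l₁, hl₁, m₂, hm₂, hx⟩ := Cfsg.Agent.Helper1.mem_sup_of_le_normalizer hLaN hxM
    obtain ⟨l₂, hl₂, hm₂eq⟩ := hm₂
    have hm₂eq' : a * l₂ * a⁻¹ = m₂ := hm₂eq
    set u := l₁ * l₂⁻¹ with hu
    have huL : u ∈ L := mul_mem hl₁ (inv_mem hl₂)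
    have hxu : x = u * (l₂ * (a * l₂ * a⁻¹)) := by
      rw [hx, hu, hm₂eq']; group
    have huK : u ∈ K := by
      have h1 : u = x * (l₂ * (a * l₂ * a⁻¹))⁻¹ := by rw [hxu]; group
      rw [h1]
      exact mul_mem hxK (inv_mem (hJK (hδJ l₂ hl₂)))
    -- `u` is not central in `L`
    have hunc : ¬ ∀ l ∈ L, u * l = l * u := by
      intro hc
      apply hxJ
      have huZ : u ∈ Z := by
        refine ⟨le_sup_left (a := L) huL, ?_⟩
        have hle : M ≤ Subgroup.centralizer ({u} : Set H) := by
          apply sup_le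
          · intro l hl
            rw [Subgroup.mem_centralizer_singleton_iff]
            exact (hc l hl).symm
          · intro m hm
            rw [Subgroup.mem_centralizer_singleton_iff]
            exact (hcomm u huL m hm).symm
        change u ∈ Subgroup.centralizer (M : Set H)
        rw [Subgroup.mem_centralizer_iff]
        intro m hm
        have := hle hm
        rw [Subgroup.mem_centralizer_singleton_iff] at this
        exact this
      rw [hxu]
      exact mul_mem (le_sup_right (a := J) huZ) (le_sup_left (a := J) (hδJ l₂ hl₂))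
    -- `K ⊓ L` is normal in `L`
    have hnorm : ((K ⊓ L).subgroupOf L).Normal := by
      rw [Subgroup.normal_subgroupOf_iff_le_normalizer inf_le_right]
      apply le_normalizer_of_conj_mem
      intro l hl h hh
      have hhK : h ∈ K := hh.1
      have hhL : h ∈ L := hh.2
      have hlL : l ∈ L := hl
      refine ⟨?_, L.mul_mem (L.mul_mem hlL hhL) (L.inv_mem hlL)⟩
      have h1 : l * h * l⁻¹ = (l * (a * l * a⁻¹)) * h * (l * (a * l * a⁻¹))⁻¹ := by
        have h2 := hcomm h hhL _ (hmemLa l hlL)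
        calc l * h * l⁻¹ = l * (h * (a * l * a⁻¹)) * (a * l * a⁻¹)⁻¹ * l⁻¹ := by group
          _ = l * ((a * l * a⁻¹) * h) * (a * l * a⁻¹)⁻¹ * l⁻¹ := by rw [h2]
          _ = (l * (a * l * a⁻¹)) * h * (l * (a * l * a⁻¹))⁻¹ := by group
      rw [h1]
      exact K.mul_mem (K.mul_mem (hJK (hδJ l hlL)) hhK) (K.inv_mem (hJK (hδJ l hlL)))
    have hLK : L ≤ K := by
      rcases isSubnormal_quasisimple hL.2 _ (Subgroup.Normal.isSubnormal hnorm) with h | h
      · rw [Subgroup.subgroupOf_eq_top] at h
        exact h.trans inf_le_left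
      · exfalso
        apply hunc
        intro l hl
        have h1 : (⟨u, huL⟩ : ↥L) ∈ (K ⊓ L).subgroupOf L := Subgroup.mem_subgroupOf.mpr ⟨huK, huL⟩
        have h2 := h h1
        rw [Subgroup.mem_center_iff] at h2
        have h3 := h2 ⟨l, hl⟩
        exact (congrArg Subtype.val h3).symm
    apply sup_le hLK
    rintro _ ⟨l, hl, rfl⟩
    change a * l * a⁻¹ ∈ K
    have h1 : a * l * a⁻¹ = l⁻¹ * (l * (a * l * a⁻¹)) := by group
    rw [h1]
    exact mul_mem (inv_mem (hLK hl)) (hJK (hδJ l hl))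

end Cfsg.Agent.S1921
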