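import Mathlib
import Cfsg.Statements.S1924
import Cfsg.Agent.Helper2.CyclicSylow2
import Cfsg.Agent.Helper5.PResidual
import Cfsg.Agent.Helper1.TateGen
import Cfsg.Agent.Helper1.SplitResidual
-- import your own Cfsg.Agent.* helpers here

set_option autoImplicit false
open Cfsg

namespace Cfsg.Agent.S1924

/-- the sign trick: an element acting semiregularly on the cosets of `M` with an odd number of
cycles of even length is an odd permutation. -/
theorem exists_hom_neg_one {K : Type*} [Group K] [Finite K] (M : Subgroup K) (u : K) (m : ℕ)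
    (hm : Even m) (hum : u ^ m = 1)
    (hfree : ∀ (i : ℕ) (x : K), x⁻¹ * u ^ i * x ∈ M → m ∣ i)
    (hodd : Odd (M.index / m)) : ∃ φ : K →* ℤˣ, φ u = -1 := by
  classical
  have : Fintype (K ⧸ M) := Fintype.ofFinite _
  refine ⟨Equiv.Perm.sign.comp (MulAction.toPermHom K (K ⧸ M)), ?_⟩
  have hm0 : 0 < m := by
    rcases Nat.eq_zero_or_pos m with h | h
    · subst h; simp at hodd
    · exact h
  obtain ⟨σ, hσ⟩ : ∃ σ : Equiv.Perm (K ⧸ M), σ = MulAction.toPermHom K (K ⧸ M) u := ⟨_, rfl⟩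
  have hn : σ ^ m = 1 := by rw [hσ, ← map_pow, hum, map_one]
  have hfree' : ∀ (i : ℕ) (q : K ⧸ M), (σ ^ i) q = q → m ∣ i := by
    intro i q hq
    obtain ⟨x, rfl⟩ := QuotientGroup.mk_surjective q
    have h1 : (σ ^ i) (x : K ⧸ M) = ((u ^ i * x : K) : K ⧸ M) := by
      rw [hσ, ← map_pow]; rfl
    rw [h1, QuotientGroup.eq] at hq
    apply hfree i x
    have : x⁻¹ * u ^ i * x = ((u ^ i * x)⁻¹ * x)⁻¹ := by group
    rw [this]; exact M.inv_mem hq
  have hct := Cfsg.Agent.Helper2.cycleType_eq_replicate_of_semiregular σ m hn hfree'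
  show Equiv.Perm.sign (MulAction.toPermHom K (K ⧸ M) u) = -1
  rw [← hσ, Equiv.Perm.sign_of_cycleType_eq_replicate hm0 hct,
    if_neg (Nat.not_odd_iff_even.mpr hm)]
  have hfix : Fintype.card (Function.fixedPoints σ) = 0 := by
    rw [Fintype.card_eq_zero_iff]
    constructor
    rintro ⟨q, hq⟩
    have h1 : (σ ^ 1) q = q := by rw [pow_one]; exact hq
    have h2 := hfree' 1 q h1
    have h3 : m = 1 := Nat.dvd_one.mp h2
    rw [h3] at hm
    exact absurd hm (by decide)
  rw [hfix, Nat.sub_zero]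
  have : Fintype.card (K ⧸ M) = M.index := by rw [Subgroup.index, Nat.card_eq_fintype_card]
  rw [this]
  exact hodd.neg_one_pow

theorem card_mul_relIndex' {G : Type*} [Group G] {A B : Subgroup G} (h : A ≤ B) :
    Nat.card A * A.relIndex B = Nat.card B := by
  rw [← Subgroup.relIndex_bot_left, ← Subgroup.relIndex_bot_left]
  exact Subgroup.relIndex_mul_relIndex _ _ _ bot_le h

/-- the product map `T × D → W` is injective when `T ∩ D = 1`. -/
theorem mulMap_injective {G : Type*} [Group G] (T D W : Subgroup G) (hTW : T ≤ W) (hDW : D ≤ W)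
    (hDT : D ⊓ T = ⊥) :
    Function.Injective (fun p : ↥T × ↥D =>
      (⟨(p.1 : G) * p.2, W.mul_mem (hTW p.1.2) (hDW p.2.2)⟩ : ↥W)) := by
  rintro ⟨t, d⟩ ⟨t', d'⟩ h
  have h' : (t : G) * d = t' * d' := congrArg Subtype.val h
  have h1 : (t' : G)⁻¹ * t = d' * (d : G)⁻¹ := by
    calc (t' : G)⁻¹ * t = (t' : G)⁻¹ * (t * d) * (d : G)⁻¹ := by group
      _ = (t' : G)⁻¹ * (t' * d') * (d : G)⁻¹ := by rw [h']
      _ = d' * (d : G)⁻¹ := by group
  have h2 : (t' : G)⁻¹ * t ∈ D ⊓ T :=
    ⟨by rw [h1]; exact D.mul_mem d'.2 (D.inv_mem d.2), T.mul_mem (T.inv_mem t'.2) t.2⟩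
  rw [hDT, Subgroup.mem_bot] at h2
  have ht : (t : G) = t' := (inv_mul_eq_one.mp h2).symm
  have hd : (d : G) = d' := by rw [ht] at h'; exact mul_left_cancel h'
  exact Prod.ext (Subtype.ext ht) (Subtype.ext hd)

theorem card_mul_le {G : Type*} [Group G] [Finite G] (T D W : Subgroup G) (hTW : T ≤ W)
    (hDW : D ≤ W) (hDT : D ⊓ T = ⊥) : Nat.card T * Nat.card D ≤ Nat.card W := by
  rw [← Nat.card_prod]
  exact Nat.card_le_card_of_injective _ (mulMap_injective T D W hTW hDW hDT)

theorem exists_mul_of_card {G : Type*} [Group G] [Finite G] (T D W : Subgroup G) (hTW : T ≤ W)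
    (hDW : D ≤ W) (hDT : D ⊓ T = ⊥) (hc : Nat.card T * Nat.card D = Nat.card W) :
    ∀ s ∈ W, ∃ t ∈ T, ∃ d ∈ D, s = t * d := by
  have hbij := (mulMap_injective T D W hTW hDW hDT).bijective_of_nat_card_le
    (by rw [Nat.card_prod, hc])
  intro s hs
  obtain ⟨⟨t, d⟩, h⟩ := hbij.2 ⟨s, hs⟩
  exact ⟨t, t.2, d, d.2, (congrArg Subtype.val h).symm⟩

theorem card_eq_mul_of_forall {G : Type*} [Group G] [Finite G] (T D W : Subgroup G) (hTW : T ≤ W)
    (hDW : D ≤ W) (hDT : D ⊓ T = ⊥) (hall : ∀ s ∈ W, ∃ t ∈ T, ∃ d ∈ D, s = t * d) :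
    Nat.card W = Nat.card T * Nat.card D := by
  rw [← Nat.card_prod]
  symm
  apply Nat.card_congr
  refine Equiv.ofBijective _ ⟨mulMap_injective T D W hTW hDW hDT, ?_⟩
  rintro ⟨s, hs⟩
  obtain ⟨t, ht, d, hd, rfl⟩ := hall s hs
  exact ⟨(⟨t, ht⟩, ⟨d, hd⟩), rfl⟩

/-- in a dihedral group, the elements outside a cyclic subgroup of index `2` are involutions. -/
theorem orderOf_eq_two_of_notMem {G : Type*} [Group G] [Finite G] (D C : Subgroup G) (n : ℕ)
    (e : ↥D ≃* DihedralGroup n) (hC : IsCyclic ↥C) (hCi : C.relIndex D = 2)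
    (x : G) (hxD : x ∈ D) (hxC : x ∉ C) : orderOf x = 2 := by
  have hC₀ : (C.subgroupOf D).index = 2 := hCi
  obtain ⟨x', hx'⟩ : ∃ x' : ↥D, x' = ⟨x, hxD⟩ := ⟨_, rfl⟩
  have hx'C : x' ∉ C.subgroupOf D := by
    rw [Subgroup.mem_subgroupOf, hx']; exact hxC
  have hord : orderOf x = orderOf (e x') := by
    rw [MulEquiv.orderOf_eq, hx', Subgroup.orderOf_mk]
  rcases hex : e x' with i | j
  · -- a rotation
    -- a reflection inside `C`
    have hrefl : ∃ y' ∈ C.subgroupOf D, ∃ j : ZMod n, e y' = DihedralGroup.sr j := by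
      by_cases hz : e.symm (DihedralGroup.sr 0) ∈ C.subgroupOf D
      · exact ⟨_, hz, 0, by simp⟩
      · refine ⟨e.symm (DihedralGroup.sr 0) * x', ?_, 0 + i, ?_⟩
        · rw [Subgroup.mul_mem_iff_of_index_two hC₀]
          exact ⟨fun h => absurd h hz, fun h => absurd h hx'C⟩
        · rw [map_mul, hex, MulEquiv.apply_symm_apply, DihedralGroup.sr_mul_r]
    obtain ⟨y', hy'C, j, hy'⟩ := hrefl
    have hsq : x' ^ 2 ∈ C.subgroupOf D := Subgroup.sq_mem_of_index_two hC₀ x'
    rw [Subgroup.mem_subgroupOf] at hsq hy'C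
    -- they commute
    have hcomm : x' ^ 2 * y' = y' * x' ^ 2 := by
      obtain ⟨g, hg⟩ := IsCyclic.exists_generator (α := ↥C)
      obtain ⟨k, hk⟩ := Subgroup.mem_zpowers_iff.mp (hg ⟨_, hsq⟩)
      obtain ⟨l, hl⟩ := Subgroup.mem_zpowers_iff.mp (hg ⟨_, hy'C⟩)
      have h1 : (g : G) ^ k = ((x' ^ 2 : ↥D) : G) := by
        have := congrArg Subtype.val hk
        rwa [Subgroup.coe_zpow] at this
      have h2 : (g : G) ^ l = (y' : G) := by
        have := congrArg Subtype.val hl
        rwa [Subgroup.coe_zpow] at this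
      apply Subtype.ext
      rw [Subgroup.coe_mul, Subgroup.coe_mul, ← h1, ← h2, ← zpow_add, ← zpow_add, add_comm]
    have hecomm : e (x' ^ 2) * e y' = e y' * e (x' ^ 2) := by
      rw [← map_mul, ← map_mul, hcomm]
    have hesq : e (x' ^ 2) = DihedralGroup.r (i + i) := by
      rw [map_pow, hex, pow_two, DihedralGroup.r_mul_r]
    rw [hesq, hy', DihedralGroup.r_mul_sr, DihedralGroup.sr_mul_r] at hecomm
    have hij : j - (i + i) = j + (i + i) := by
      injection hecomm
    have h4 : (i + i) + (i + i) = 0 := by linear_combination (-1 : ZMod n) * hij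
    have hsq2 : (x' ^ 2) ^ 2 = 1 := by
      apply e.injective
      rw [map_pow, hesq, pow_two, DihedralGroup.r_mul_r, h4, map_one, DihedralGroup.one_def]
    have hsq1 : x' ^ 2 = 1 := by
      by_contra hne
      have ho : orderOf (x' ^ 2) = 2 := orderOf_eq_prime hsq2 hne
      have ho' : orderOf y' = 2 := by
        rw [← MulEquiv.orderOf_eq e, hy', DihedralGroup.orderOf_sr]
      have ha : orderOf (⟨_, hsq⟩ : ↥C) = 2 := by
        rw [Subgroup.orderOf_mk, Subgroup.orderOf_coe]; exact ho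
      have hb : orderOf (⟨_, hy'C⟩ : ↥C) = 2 := by
        rw [Subgroup.orderOf_mk, Subgroup.orderOf_coe]; exact ho'
      have hab := Cfsg.Agent.Helper2.eq_of_orderOf_two_of_isCyclic ha hb
      have hab' : ((x' ^ 2 : ↥D) : G) = (y' : G) := congrArg (fun z : ↥C => (z : G)) hab
      have hab'' : x' ^ 2 = y' := Subtype.ext hab'
      rw [← hab'', hesq] at hy'
      cases hy'
    have hx1 : x' ≠ 1 := by
      intro h
      apply hx'C
      rw [h]; exact one_mem _
    rw [hord, MulEquiv.orderOf_eq]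
    exact orderOf_eq_prime hsq1 hx1
  · rw [hord, hex, DihedralGroup.orderOf_sr]

/-- two Sylow `2`-subgroups of `L` have the same order. -/
theorem card_eq_of_odd_relIndex {G : Type*} [Group G] [Finite G] (L T T' : Subgroup G)
    (hTL : T ≤ L) (hT2 : IsPGroup 2 T) (hTsyl : ¬ 2 ∣ T.relIndex L)
    (hT'L : T' ≤ L) (hT'2 : IsPGroup 2 T') (hT'syl : ¬ 2 ∣ T'.relIndex L) :
    Nat.card T = Nat.card T' := by
  have hp2 : Fact (Nat.Prime 2) := ⟨Nat.prime_two⟩
  obtain ⟨a, ha⟩ := IsPGroup.iff_card.mp hT2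
  obtain ⟨b, hb⟩ := IsPGroup.iff_card.mp hT'2
  have h1 := card_mul_relIndex' hTL
  have h2 := card_mul_relIndex' hT'L
  rw [ha] at h1
  rw [hb] at h2
  have hc1 : Nat.Coprime (2 ^ a) (T'.relIndex L) :=
    Nat.Coprime.pow_left a ((Nat.Prime.coprime_iff_not_dvd Nat.prime_two).mpr hT'syl)
  have hc2 : Nat.Coprime (2 ^ b) (T.relIndex L) :=
    Nat.Coprime.pow_left b ((Nat.Prime.coprime_iff_not_dvd Nat.prime_two).mpr hTsyl)
  have hd1 : 2 ^ a ∣ 2 ^ b := by
    apply hc1.dvd_of_dvd_mul_right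
    rw [h2, ← h1]; exact dvd_mul_right _ _
  have hd2 : 2 ^ b ∣ 2 ^ a := by
    apply hc2.dvd_of_dvd_mul_right
    rw [h1, ← h2]; exact dvd_mul_right _ _
  rw [ha, hb]
  exact Nat.dvd_antisymm hd1 hd2

/-- A consequence of Thompson's transfer lemma. Let G be a finite group, L a subgroup with O²(L) = L, T a Sylow 2-subgroup of L and S a Sylow 2-subgroup of G containing T. Suppose D ≤ S is a dihedral subgroup of order at least 4 (the four-group counts) with D ∩ T = 1 and S = TD as a set of products (so |S| = |T|·|D|), and C ≤ D is cyclic of index 2 in D. If no involution of D outside C is G-conjugate to an involution of the subgroup generated by T and C, and the involution of C is not G-conjugate to any involution of T, then G has a normal subgroup K, containing every Sylow 2-subgroup of L as a Sylow 2-subgroup, with G = KD. -/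
theorem result {G : Type*} [Group G] [Finite G] (L T S D C : Subgroup G) (hL : Cfsg.pResidual 2 ↥L = ⊤)
    (hTL : T ≤ L) (hT2 : IsPGroup 2 T) (hTsyl : ¬ 2 ∣ T.relIndex L)
    (hS2 : IsPGroup 2 S) (hSsyl : ¬ 2 ∣ S.index) (hTS : T ≤ S)
    (hDS : D ≤ S) (hDih : ∃ n : ℕ, 2 ≤ n ∧ Nonempty (↥D ≃* DihedralGroup n)) (hDT : D ⊓ T = ⊥) (hTD : T ⊔ D = S) (hTDc : Nat.card T * Nat.card D = Nat.card S)
    (hCD : C ≤ D) (hC : IsCyclic ↥C) (hCi : C.relIndex D = 2)
    (h1 : ∀ x ∈ D, x ∉ C → orderOf x = 2 → ∀ g : G, g * x * g⁻¹ ∈ T ⊔ C → False)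
    (h2 : ∀ c ∈ C, orderOf c = 2 → ∀ g : G, g * c * g⁻¹ ∈ T → False) :
    ∃ K : Subgroup G, K.Normal ∧ K ⊔ D = ⊤ ∧
      ∀ T' : Subgroup G, T' ≤ L → IsPGroup 2 T' → ¬ 2 ∣ T'.relIndex L → T' ≤ K ∧ ¬ 2 ∣ T'.relIndex K := by
  classical
  have hp2 : Fact (Nat.Prime 2) := ⟨Nat.prime_two⟩
  obtain ⟨K, hK⟩ : ∃ K : Subgroup G, K = Cfsg.pResidual 2 G := ⟨_, rfl⟩
  have hKn : K.Normal := by rw [hK]; exact Cfsg.Agent.Helper5.pResidual_normal 2
  have hLK : L ≤ K := by
    have h1 := Cfsg.Agent.Helper5.map_subtype_pResidual 2 L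
    rw [hL, ← MonoidHom.range_eq_map, Subgroup.range_subtype] at h1
    rw [h1, hK]
    apply Subgroup.closure_mono
    rintro g ⟨-, hg⟩
    exact hg
  have hTK : T ≤ K := hTL.trans hLK
  have hKK : Cfsg.pResidual 2 ↥K = ⊤ := by
    rw [hK]; exact Cfsg.Agent.Helper1.pResidual_pResidual_eq_top 2
  have hhomG : ∀ φ : G →* ℤˣ, ∀ k ∈ K, φ k = 1 := by
    intro φ k hk
    rw [hK] at hk
    exact Cfsg.Agent.Helper1.hom_pResidual_eq_one (p := 2) Int.units_sq φ hk
  have hhomK : ∀ φ : ↥K →* ℤˣ, ∀ k : ↥K, φ k = 1 := by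
    intro φ k
    exact Cfsg.Agent.Helper1.hom_pResidual_eq_one (p := 2) Int.units_sq φ
      (by rw [hKK]; exact Subgroup.mem_top _)
  have hKS : K ⊔ S = ⊤ := by
    have := Cfsg.Agent.Helper5.pResidual_sup_sylow (hS2.toSylow hSsyl)
    rwa [IsPGroup.toSylow_coe, ← hK] at this
  have hSodd : Odd S.index := by
    rw [← Nat.not_even_iff_odd, even_iff_two_dvd]; exact hSsyl
  have hdec := exists_mul_of_card T D S hTS hDS hDT hTDc
  obtain ⟨n, hn2, ⟨e⟩⟩ := hDih
  -- `(S ⊓ K).relIndex K = S.index`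
  have hrel : (S ⊓ K).relIndex K = S.index := by
    have e1 := card_mul_relIndex' (inf_le_left : S ⊓ K ≤ S)
    have e1' : (S ⊓ K).relIndex S = K.index := by
      rw [Subgroup.inf_relIndex_left, ← Subgroup.relIndex_sup_left, hKS, Subgroup.relIndex_top_right]
    rw [e1'] at e1
    have e2 := K.card_mul_index
    have e3 := S.card_mul_index
    have e4 := card_mul_relIndex' (inf_le_right : S ⊓ K ≤ K)
    have hpos : 0 < Nat.card ↥(S ⊓ K) * K.index := by
      apply Nat.mul_pos Nat.card_pos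
      rcases Nat.eq_zero_or_pos K.index with h | h
      · rw [h, mul_zero] at e2
        exact absurd e2.symm (Nat.card_pos).ne'
      · exact h
    apply Nat.eq_of_mul_eq_mul_left hpos
    calc Nat.card ↥(S ⊓ K) * K.index * (S ⊓ K).relIndex K
        = (Nat.card ↥(S ⊓ K) * (S ⊓ K).relIndex K) * K.index := by ring
      _ = Nat.card K * K.index := by rw [e4]
      _ = Nat.card G := e2
      _ = Nat.card S * S.index := e3.symm
      _ = Nat.card ↥(S ⊓ K) * K.index * S.index := by rw [e1]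
  -- the key claim
  have hDK : ∀ d ∈ D, d ∈ K → d = 1 := by
    intro d hdD hdK
    by_contra hd1
    by_cases hcase : ∃ u ∈ D, u ∈ K ∧ u ∉ C
    · -- case (a)
      obtain ⟨u, huD, huK, huC⟩ := hcase
      have hu2 : orderOf u = 2 := orderOf_eq_two_of_notMem D C n e hC hCi u huD huC
      have huM : ∀ g : G, g * u * g⁻¹ ∉ T ⊔ C := fun g h => h1 u huD huC hu2 g h
      have hMS : T ⊔ C ≤ S := sup_le hTS (hCD.trans hDS)
      have hCT : C ⊓ T = ⊥ := by
        rw [eq_bot_iff, ← hDT]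
        exact inf_le_inf_right T hCD
      have hle := card_mul_le T C (T ⊔ C) le_sup_left le_sup_right hCT
      have hCD2 := card_mul_relIndex' hCD
      rw [hCi] at hCD2
      have hMrel := card_mul_relIndex' hMS
      have hne1 : (T ⊔ C).relIndex S ≠ 1 := by
        intro h
        have := Subgroup.relIndex_eq_one.mp h
        apply huM 1
        rw [one_mul, inv_one, mul_one]
        exact this (hDS huD)
      have hne0 : (T ⊔ C).relIndex S ≠ 0 := by
        intro h
        rw [h, mul_zero] at hMrel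
        exact absurd hMrel.symm (Nat.card_pos).ne'
      have hMpos : 0 < Nat.card ↥(T ⊔ C) := Nat.card_pos
      have hr2 : (T ⊔ C).relIndex S = 2 := by
        have h5 : Nat.card ↥(T ⊔ C) * (T ⊔ C).relIndex S ≤ Nat.card ↥(T ⊔ C) * 2 := by
          rw [hMrel, ← hTDc, ← hCD2]
          calc Nat.card T * (Nat.card C * 2) = (Nat.card T * Nat.card C) * 2 := by ring
            _ ≤ Nat.card ↥(T ⊔ C) * 2 := Nat.mul_le_mul_right 2 hle
        have h6 := Nat.le_of_mul_le_mul_left h5 hMpos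
        omega
      have hidx : (T ⊔ C).index = 2 * S.index := by
        rw [← Subgroup.relIndex_mul_index hMS, hr2]
      have hu2' : u ^ 2 = 1 := by rw [← hu2]; exact pow_orderOf_eq_one u
      obtain ⟨φ, hφ⟩ := exists_hom_neg_one (T ⊔ C) u 2 even_two hu2' (by
        intro i x hx
        by_contra hi
        have hi' : i % 2 = 1 := by omega
        have hui : u ^ i = u := by
          rw [← Nat.div_add_mod i 2, hi', pow_add, pow_mul, hu2', one_pow, one_mul, pow_one]
        rw [hui] at hx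
        apply huM x⁻¹
        rwa [inv_inv]) (by
        rw [hidx, Nat.mul_div_cancel_left _ (by norm_num : 0 < 2)]
        exact hSodd)
      have := hhomG φ u huK
      rw [hφ] at this
      exact absurd this (by decide)
    · -- case (b)
      push Not at hcase
      have hZC : D ⊓ K ≤ C := fun z hz => hcase z hz.1 hz.2
      have hZcyc : IsCyclic ↥(D ⊓ K) := Subgroup.isCyclic_of_le hZC
      obtain ⟨c', hc'⟩ := (Subgroup.isCyclic_iff_exists_zpowers_eq_top (D ⊓ K)).mp hZcyc
      have hc'Z : c' ∈ D ⊓ K := by rw [← hc']; exact Subgroup.mem_zpowers c'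
      have hZcard : Nat.card ↥(D ⊓ K) = orderOf c' := by
        rw [← hc']; exact Nat.card_zpowers c'
      have hc'1 : c' ≠ 1 := by
        intro h
        rw [h, Subgroup.zpowers_one_eq_bot] at hc'
        have : d ∈ D ⊓ K := ⟨hdD, hdK⟩
        rw [← hc', Subgroup.mem_bot] at this
        exact hd1 this
      -- elements of `S` have `2`-power order
      have hS2' : ∀ w ∈ S, w ≠ 1 → 2 ∣ orderOf w := by
        intro w hw hw1
        obtain ⟨k, hk⟩ := hS2 ⟨w, hw⟩
        have hk' : w ^ 2 ^ k = 1 := by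
          have := congrArg Subtype.val hk
          rwa [Subgroup.coe_pow, Subgroup.coe_one] at this
        obtain ⟨j, -, hj⟩ := (Nat.dvd_prime_pow Nat.prime_two).mp (orderOf_dvd_of_pow_eq_one hk')
        rw [hj]
        have hj0 : j ≠ 0 := by
          rintro rfl
          rw [pow_zero, orderOf_eq_one_iff] at hj
          exact hw1 hj
        exact dvd_pow_self 2 hj0
      have hmeven : Even (orderOf c') := even_iff_two_dvd.mpr (hS2' c' (hDS hc'Z.1) hc'1)
      -- card of `S ⊓ K`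
      have hZT : (D ⊓ K) ⊓ T = ⊥ := by
        rw [eq_bot_iff, ← hDT]
        exact inf_le_inf_right T inf_le_left
      have hTSK : T ≤ S ⊓ K := le_inf hTS hTK
      have hcardSK : Nat.card ↥(S ⊓ K) = Nat.card T * Nat.card ↥(D ⊓ K) := by
        apply card_eq_mul_of_forall T (D ⊓ K) (S ⊓ K) hTSK (inf_le_inf_right K hDS) hZT
        intro s hs
        obtain ⟨t, ht, d', hd', rfl⟩ := hdec s hs.1
        refine ⟨t, ht, d', ⟨hd', ?_⟩, rfl⟩
        have : d' = t⁻¹ * (t * d') := by group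
        rw [this]
        exact K.mul_mem (K.inv_mem (hTK ht)) hs.2
      have hTrel : T.relIndex K = orderOf c' * S.index := by
        rw [← Subgroup.relIndex_mul_relIndex T (S ⊓ K) K hTSK inf_le_right, hrel]
        congr 1
        have e5 := card_mul_relIndex' hTSK
        rw [hcardSK, hZcard] at e5
        exact Nat.eq_of_mul_eq_mul_left Nat.card_pos e5
      obtain ⟨φ, hφ⟩ := exists_hom_neg_one (T.subgroupOf K) (⟨c', hc'Z.2⟩ : ↥K) (orderOf c')
        hmeven (by
          apply Subtype.ext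
          rw [Subgroup.coe_pow, Subgroup.coe_one]
          exact pow_orderOf_eq_one c') (by
        intro i x hx
        by_contra hi
        rw [Subgroup.mem_subgroupOf] at hx
        have hx' : (x : G)⁻¹ * c' ^ i * x ∈ T := by
          simpa using hx
        have hw1 : c' ^ i ≠ 1 := fun h => hi (orderOf_dvd_of_pow_eq_one h)
        have hwS : c' ^ i ∈ S := S.pow_mem (hDS hc'Z.1) i
        have h2o := hS2' _ hwS hw1
        have ho0 : orderOf (c' ^ i) / 2 ≠ 0 := by
          intro h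
          have := Nat.div_mul_cancel h2o
          rw [h, zero_mul] at this
          exact (orderOf_pos (c' ^ i)).ne' this.symm
        have hv2 : orderOf ((c' ^ i) ^ (orderOf (c' ^ i) / 2)) = 2 := by
          rw [orderOf_pow_of_dvd ho0 (Nat.div_dvd_of_dvd h2o)]
          exact Nat.div_div_self h2o (orderOf_pos (c' ^ i)).ne'
        have hvC : (c' ^ i) ^ (orderOf (c' ^ i) / 2) ∈ C :=
          C.pow_mem (C.pow_mem (hZC hc'Z) i) _
        apply h2 _ hvC hv2 (x : G)⁻¹
        rw [inv_inv]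
        have : (x : G)⁻¹ * (c' ^ i) ^ (orderOf (c' ^ i) / 2) * x
            = ((x : G)⁻¹ * c' ^ i * x) ^ (orderOf (c' ^ i) / 2) := by
          have hconj := conj_pow (a := (x : G)⁻¹) (b := c' ^ i) (i := orderOf (c' ^ i) / 2)
          rw [inv_inv] at hconj
          exact hconj.symm
        rw [this]
        exact T.pow_mem hx' _) (by
        have : (T.subgroupOf K).index = T.relIndex K := rfl
        rw [this, hTrel, Nat.mul_div_cancel_left _ (orderOf_pos c')]
        exact hSodd)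
      have := hhomK φ ⟨c', hc'Z.2⟩
      rw [hφ] at this
      exact absurd this (by decide)
  -- `S ⊓ K = T`
  have hSKT : S ⊓ K = T := by
    apply le_antisymm _ (le_inf hTS hTK)
    intro s hs
    obtain ⟨t, ht, d', hd', rfl⟩ := hdec s hs.1
    have hd'K : d' ∈ K := by
      have : d' = t⁻¹ * (t * d') := by group
      rw [this]
      exact K.mul_mem (K.inv_mem (hTK ht)) hs.2
    rw [hDK d' hd' hd'K, mul_one]
    exact ht
  refine ⟨K, hKn, ?_, ?_⟩
  · rw [eq_top_iff, ← hKS, ← hTD, ← sup_assoc]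
    exact sup_le_sup_right (sup_le le_rfl hTK) D
  · intro T' hT'L hT'2 hT'syl
    refine ⟨hT'L.trans hLK, ?_⟩
    have hcard := card_eq_of_odd_relIndex L T T' hTL hT2 hTsyl hT'L hT'2 hT'syl
    have e6 := card_mul_relIndex' (hT'L.trans hLK)
    have e7 := card_mul_relIndex' hTK
    rw [← hcard, ← e7] at e6
    have e8 : T'.relIndex K = T.relIndex K := Nat.eq_of_mul_eq_mul_left Nat.card_pos e6
    rw [e8, ← hSKT, hrel]
    exact hSsyl


end Cfsg.Agent.S1924
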