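import Mathlib
import Cfsg.Agent.Helper5.Basic
import Cfsg.Statements.S1939
-- import your own Cfsg.Agent.* helpers here

set_option autoImplicit false
open Cfsg

namespace Cfsg.Agent.S1939

/-- Let S be a Sylow p-subgroup of the finite group G and a an element of S that is the only G-conjugate of a lying in S. Then every power of a has the same property: for every n, the only G-conjugate of a^n lying in S is a^n. -/
theorem result {G : Type*} [Group G] [Finite G] {p : ℕ} [Fact p.Prime] (S : Sylow p G) (a : G)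
    (haS : a ∈ (S : Subgroup G)) (hwc : ∀ g : G, g * a * g⁻¹ ∈ (S : Subgroup G) → g * a * g⁻¹ = a) (n : ℕ) :
    ∀ g : G, g * a ^ n * g⁻¹ ∈ (S : Subgroup G) → g * a ^ n * g⁻¹ = a ^ n := by
  intro g hg
  set c := g * a ^ n * g⁻¹ with hc
  -- a is central in S
  have hcen : ∀ s ∈ (S : Subgroup G), s * a * s⁻¹ = a := fun s hs =>
    hwc s ((S : Subgroup G).mul_mem ((S : Subgroup G).mul_mem hs haS) ((S : Subgroup G).inv_mem hs))
  -- a commutes with c
  have hac : c * a = a * c := by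
    have := hcen c hg
    calc c * a = c * a * c⁻¹ * c := by group
      _ = a * c := by rw [this]
  set a' := g * a * g⁻¹ with ha'
  have ha'c : c * a' = a' * c := by
    have hpow : a ^ n * a = a * a ^ n := (pow_mul_comm' a n).symm ▸ rfl
    rw [hc, ha']
    calc g * a ^ n * g⁻¹ * (g * a * g⁻¹) = g * (a ^ n * a) * g⁻¹ := by group
      _ = g * (a * a ^ n) * g⁻¹ := by rw [hpow]
      _ = g * a * g⁻¹ * (g * a ^ n * g⁻¹) := by group
  set C := Subgroup.centralizer ({c} : Set G) with hC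
  have haC : a ∈ C := by
    rw [hC, Subgroup.mem_centralizer_singleton_iff]; exact hac.symm
  have ha'C : a' ∈ C := by
    rw [hC, Subgroup.mem_centralizer_singleton_iff]; exact ha'c.symm
  -- p-subgroups of C containing a and a'
  have hP1 : IsPGroup p ((S : Subgroup G).subgroupOf C) := S.isPGroup'.comap_subtype
  have hP2 : IsPGroup p (((S : Subgroup G).map (MulAut.conj g).toMonoidHom).subgroupOf C) :=
    (S.isPGroup'.map _).comap_subtype
  obtain ⟨Q1, hQ1⟩ := hP1.exists_le_sylow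
  obtain ⟨Q2, hQ2⟩ := hP2.exists_le_sylow
  have ha1 : (⟨a, haC⟩ : C) ∈ (Q1 : Subgroup C) := hQ1 (by simpa [Subgroup.mem_subgroupOf] using haS)
  have ha2 : (⟨a', ha'C⟩ : C) ∈ (Q2 : Subgroup C) :=
    hQ2 (by
      rw [Subgroup.mem_subgroupOf]
      exact Cfsg.Agent.Helper5.conj_mem_map_conj _ g a haS)
  obtain ⟨h, hh⟩ := Cfsg.Agent.Helper5.sylow_exists_map_conj_eq Q2 Q1
  have ha3 : h * ⟨a', ha'C⟩ * h⁻¹ ∈ (Q1 : Subgroup C) := by
    rw [← hh]; exact Cfsg.Agent.Helper5.conj_mem_map_conj _ h _ ha2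
  -- Q1 mapped to G is a p-group, conjugate into S
  have hQ1p : IsPGroup p ((Q1 : Subgroup C).map C.subtype) := Q1.isPGroup'.map _
  obtain ⟨k, hk⟩ := Cfsg.Agent.Helper5.exists_conj_le_sylow S _ hQ1p
  have hk1 : k * a * k⁻¹ ∈ (S : Subgroup G) := hk a ⟨⟨a, haC⟩, ha1, rfl⟩
  have hk2 : k * ((h : G) * a' * (h : G)⁻¹) * k⁻¹ ∈ (S : Subgroup G) :=
    hk _ ⟨h * ⟨a', ha'C⟩ * h⁻¹, ha3, by simp⟩
  have e1 : k * a * k⁻¹ = a := hwc k hk1
  have e2 : (k * (h : G) * g) * a * (k * (h : G) * g)⁻¹ = a := by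
    apply hwc
    have : (k * (h : G) * g) * a * (k * (h : G) * g)⁻¹ = k * ((h : G) * a' * (h : G)⁻¹) * k⁻¹ := by
      rw [ha']; group
    rw [this]; exact hk2
  -- so (h g) centralizes a
  have e3 : ((h : G) * g) * a * ((h : G) * g)⁻¹ = a := by
    have : k * (((h : G) * g) * a * ((h : G) * g)⁻¹) * k⁻¹ = k * a * k⁻¹ := by
      calc k * (((h : G) * g) * a * ((h : G) * g)⁻¹) * k⁻¹
          = (k * (h : G) * g) * a * (k * (h : G) * g)⁻¹ := by group
        _ = a := e2
        _ = k * a * k⁻¹ := e1.symm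
    have := mul_left_cancel (mul_right_cancel this)
    exact this
  have e4 : ((h : G) * g) * a ^ n * ((h : G) * g)⁻¹ = a ^ n := by
    have : ((h : G) * g) * a ^ n * ((h : G) * g)⁻¹ = (((h : G) * g) * a * ((h : G) * g)⁻¹) ^ n := by
      rw [conj_pow]
    rw [this, e3]
  -- but (h g) a^n (h g)⁻¹ = h c h⁻¹ = c
  have hhc : (h : G) * c * (h : G)⁻¹ = c := by
    have this : (h : G) ∈ Subgroup.centralizer ({c} : Set G) := h.2
    rw [Subgroup.mem_centralizer_singleton_iff] at this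
    calc (h : G) * c * (h : G)⁻¹ = c * (h : G) * (h : G)⁻¹ := by rw [this]
      _ = c := by group
  calc c = (h : G) * c * (h : G)⁻¹ := hhc.symm
    _ = ((h : G) * g) * a ^ n * ((h : G) * g)⁻¹ := by rw [hc]; group
    _ = a ^ n := e4

end Cfsg.Agent.S1939
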