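import Mathlib
import Cfsg.Statements.S1940
-- import your own Cfsg.Agent.* helpers here

set_option autoImplicit false
open Cfsg

namespace Cfsg.Agent.S1940

/-- Let the finite group L act by automorphisms on the finite abelian group M, and let N be an L-invariant subgroup of M such that M/N is a p-group on which L acts trivially (every l • m lies in the coset mN). If every element of M is a product of an element of N and an element fixed by a Sylow p-subgroup T of L, then every element of M is a product of an element of N and an element fixed by all of L. -/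
theorem result {L : Type*} [Group L] [Finite L] {M : Type*} [CommGroup M] [Finite M] [MulDistribMulAction L M]
    {p : ℕ} [Fact p.Prime] (N : Subgroup M) (hN : ∀ (l : L) (m : M), m ∈ N → l • m ∈ N)
    (hquot : IsPGroup p (M ⧸ N)) (htriv : ∀ (l : L) (m : M), (l • m) * m⁻¹ ∈ N) (T : Sylow p L)
    (hT : ∀ m : M, ∃ n ∈ N, ∃ c : M, (∀ t ∈ (T : Subgroup L), t • c = c) ∧ m = n * c) :
    ∀ m : M, ∃ n ∈ N, ∃ c : M, (∀ l : L, l • c = c) ∧ m = n * c := by
  classical
  have : Fintype (L ⧸ (T : Subgroup L)) := Fintype.ofFinite _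
  -- exponent of M/N
  obtain ⟨e, he⟩ := IsPGroup.exists_card_eq hquot
  have hpe : ∀ m : M, m ^ (p ^ e) ∈ N := by
    intro m
    have h1 : ((m : M) : M ⧸ N) ^ (Nat.card (M ⧸ N)) = 1 := pow_card_eq_one'
    rw [he] at h1
    have h2 : ((m ^ (p ^ e) : M) : M ⧸ N) = 1 := by
      rw [QuotientGroup.mk_pow]; exact h1
    exact (QuotientGroup.eq_one_iff _).mp h2
  set k := Fintype.card (L ⧸ (T : Subgroup L)) with hk
  have hkcop : k.Coprime p := by
    have h1 : ¬ p ∣ (T : Subgroup L).index := T.not_dvd_index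
    have h2 : (T : Subgroup L).index = k := by
      rw [Subgroup.index, Nat.card_eq_fintype_card]
    rw [h2] at h1
    rw [Nat.coprime_comm]
    exact (Nat.Prime.coprime_iff_not_dvd Fact.out).mpr h1
  -- the norm construction
  have key : ∀ c : M, (∀ t ∈ (T : Subgroup L), t • c = c) →
      ∃ d : M, (∀ l : L, l • d = d) ∧ d * (c ^ k)⁻¹ ∈ N := by
    intro c hc
    refine ⟨∏ q : L ⧸ (T : Subgroup L), (Quotient.out q) • c, ?_, ?_⟩
    · intro l
      rw [Finset.smul_prod']
      have h1 : ∀ q : L ⧸ (T : Subgroup L), l • ((Quotient.out q) • c) = (Quotient.out (l • q)) • c := by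
        intro q
        have h2 : l • q = ((l * Quotient.out q : L) : L ⧸ (T : Subgroup L)) := by
          conv_lhs => rw [← QuotientGroup.out_eq' q]
          rfl
        obtain ⟨t, ht⟩ := QuotientGroup.mk_out_eq_mul (T : Subgroup L) (l * Quotient.out q)
        rw [h2, ht, mul_smul, mul_smul, hc t t.2]
      simp_rw [h1]
      exact Fintype.prod_equiv (MulAction.toPerm l) _ _ (fun q => rfl)
    · have h1 : ∀ q : L ⧸ (T : Subgroup L), (Quotient.out q) • c = ((Quotient.out q) • c * c⁻¹) * c := by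
        intro q; simp
      have h2 : (∏ q : L ⧸ (T : Subgroup L), (Quotient.out q) • c) =
          (∏ q : L ⧸ (T : Subgroup L), ((Quotient.out q) • c * c⁻¹)) * c ^ k := by
        conv_lhs => rw [Finset.prod_congr rfl (fun q _ => h1 q)]
        rw [Finset.prod_mul_distrib, Finset.prod_const, Finset.card_univ]
      rw [h2, mul_assoc, mul_inv_cancel, mul_one]
      exact Subgroup.prod_mem _ (fun q _ => htriv _ c)
  intro m
  by_cases hpe1 : p ^ e = 1
  · refine ⟨m, ?_, 1, fun l => smul_one l, (mul_one m).symm⟩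
    have := hpe m
    rwa [hpe1, pow_one] at this
  have hpe2 : 1 < p ^ e := by
    have : 0 < p ^ e := pow_pos (Nat.Prime.pos Fact.out) e
    omega
  obtain ⟨j, -, hj⟩ := Nat.exists_mul_mod_eq_one_of_coprime (Nat.Coprime.pow_right e hkcop) hpe2
  obtain ⟨n', hn', c, hcT, hmc⟩ := hT (m ^ j)
  obtain ⟨d, hdL, hdN⟩ := key c hcT
  set s := k * j / p ^ e with hs
  have hkj : k * j = p ^ e * s + 1 := by
    have := Nat.div_add_mod (k * j) (p ^ e)
    rw [hj] at this
    exact this.symm
  -- m^(k j) = (m^(p^e))^s * m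
  have h3 : (m ^ j) ^ k = (m ^ (p ^ e)) ^ s * m := by
    rw [← pow_mul, mul_comm j k, hkj, pow_succ, pow_mul]
  have h4 : c ^ k = (n' ^ k)⁻¹ * ((m ^ (p ^ e)) ^ s * m) := by
    rw [← h3, hmc, mul_pow]; simp
  refine ⟨(d * (c ^ k)⁻¹ * (n' ^ k)⁻¹ * (m ^ (p ^ e)) ^ s)⁻¹, ?_, d, hdL, ?_⟩
  · apply Subgroup.inv_mem
    exact Subgroup.mul_mem _ (Subgroup.mul_mem _ hdN (Subgroup.inv_mem _ (Subgroup.pow_mem _ hn' k)))
      (Subgroup.pow_mem _ (hpe m) s)
  · rw [h4]
    simp only [mul_inv_rev, inv_inv]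
    rw [mul_assoc (n' ^ k)⁻¹, mul_inv_cancel_left, mul_assoc ((m ^ p ^ e) ^ s)⁻¹, inv_mul_cancel_right,
      inv_mul_cancel_left]

end Cfsg.Agent.S1940
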