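import Mathlib
import Cfsg.Statements.S1948
import Cfsg.Agent.Helper2.PSolvChain
import Cfsg.Agent.Helper2.PConstrained5
import Cfsg.Agent.Helper1.Subnormal

set_option autoImplicit false
open Cfsg

namespace Cfsg.Agent.S1948

open Cfsg.Agent.Helper2

/-- Let S be a Sylow p-subgroup of the finite group G. Then G = N_G(S)·O_{p'}(G) if and only if G is p-constrained and N_G(S) controls fusion in S, in the sense that whenever a subgroup Q of S has a conjugate g Q g⁻¹ inside S, the element g is a product n c with n normalizing S and c centralizing Q. -/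
theorem result {G : Type*} [Group G] [Finite G] {p : ℕ} [Fact p.Prime] (S : Sylow p G) :
    Subgroup.normalizer ((S : Subgroup G) : Set G) ⊔ Cfsg.pPrimeCore p G = ⊤ ↔
      (Cfsg.IsPConstrained p G ∧
        ∀ Q : Subgroup G, Q ≤ (S : Subgroup G) → ∀ g : G, Q.map (MulAut.conj g).toMonoidHom ≤ (S : Subgroup G) →
          ∃ n ∈ Subgroup.normalizer ((S : Subgroup G) : Set G), ∃ c ∈ Subgroup.centralizer (Q : Set G), g = n * c) := by
  set O := Cfsg.pPrimeCore p G with hO
  set N := Subgroup.normalizer ((S : Subgroup G) : Set G) with hN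
  set T := Cfsg.pPrimePCore p G with hT
  have hOn : O.Normal := inferInstance
  have hOc : (Nat.card O).Coprime p := Cfsg.Agent.Helper1.card_pPrimeCore_coprime p
  have hSN : (S : Subgroup G) ≤ N := Subgroup.le_normalizer
  have hSO : (S : Subgroup G) ⊓ O = ⊥ := by
    rw [← disjoint_iff]
    apply Subgroup.disjoint_of_coprime_natCard
    obtain ⟨k, hk⟩ := IsPGroup.iff_card.mp S.2
    rw [hk]
    exact Nat.Coprime.pow_left k hOc.symm
  constructor
  · intro h
    constructor
    · -- `p`-solvable chain `1 ≤ O ≤ O ⊔ S ≤ G`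
      rw [isPConstrained_iff, ]
      apply pLayer_eq_bot_of_isPSolvable
      have hnorm : (O ⊔ (S : Subgroup G)).Normal := by
        rw [← Subgroup.normalizer_eq_top_iff, eq_top_iff, ← h]
        apply sup_le
        · apply le_normalizer_of_conj_mem
          intro n hn x hx
          have h1 : (O ⊔ (S : Subgroup G)).map (MulAut.conj n).toMonoidHom = O ⊔ (S : Subgroup G) := by
            rw [Subgroup.map_sup]
            congr 1
            · exact ((Cfsg.Agent.Helper5.mem_normalizer_iff_map_conj _ _).mp (by rw [Subgroup.normalizer_eq_top]; trivial))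
            · exact (Cfsg.Agent.Helper5.mem_normalizer_iff_map_conj _ _).mp hn
          rw [← h1]
          exact ⟨x, hx, rfl⟩
        · exact le_sup_left.trans Subgroup.le_normalizer
      apply isPSolvable_of_chain3 O (O ⊔ (S : Subgroup G)) hOn hnorm le_sup_left hOc
      · rw [Subgroup.relIndex_sup_left]
        exact S.2.index _
      · have h1 : (O ⊔ (S : Subgroup G)).index ∣ (S : Subgroup G).index :=
          Subgroup.index_dvd_of_le le_sup_right
        have h2 : ((S : Subgroup G).index).Coprime p :=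
          ((Nat.Prime.coprime_iff_not_dvd (Fact.out)).mpr S.not_dvd_index).symm
        exact Nat.Coprime.coprime_dvd_left h1 h2
    · intro Q hQS g hg
      have hgtop : g ∈ O ⊔ N := by rw [sup_comm, h]; trivial
      have hNO : N ≤ Subgroup.normalizer (O : Set G) := by
        rw [Subgroup.normalizer_eq_top]; exact le_top
      obtain ⟨o, ho, n, hn, rfl⟩ := Cfsg.Agent.Helper1.mem_sup_of_le_normalizer hNO hgtop
      refine ⟨n, hn, n⁻¹ * o * n, ?_, by group⟩
      rw [Subgroup.mem_centralizer_iff]
      intro x hx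
      have hx' : n * x * n⁻¹ ∈ (S : Subgroup G) :=
        conj_mem_of_le_normalizer (le_refl N) n hn x (hQS hx)
      have h1 : (o * n) * x * (o * n)⁻¹ ∈ (S : Subgroup G) := hg ⟨x, hx, rfl⟩
      have h2 : o * (n * x * n⁻¹) * o⁻¹ * (n * x * n⁻¹)⁻¹ ∈ (S : Subgroup G) ⊓ O := by
        constructor
        · have : o * (n * x * n⁻¹) * o⁻¹ = (o * n) * x * (o * n)⁻¹ := by group
          rw [this]
          exact Subgroup.mul_mem _ h1 (Subgroup.inv_mem _ hx')
        · have : o * (n * x * n⁻¹) * o⁻¹ * (n * x * n⁻¹)⁻¹ = o * ((n * x * n⁻¹) * o⁻¹ * (n * x * n⁻¹)⁻¹) := by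
            group
          rw [this]
          exact Subgroup.mul_mem _ ho (hOn.conj_mem _ (Subgroup.inv_mem _ ho) _)
      rw [hSO, Subgroup.mem_bot] at h2
      have h3 : o * (n * x * n⁻¹) = (n * x * n⁻¹) * o := by
        have := congrArg (· * ((n * x * n⁻¹) * o)) h2
        simpa [mul_assoc] using this
      calc x * (n⁻¹ * o * n) = n⁻¹ * ((n * x * n⁻¹) * o) * n := by group
        _ = n⁻¹ * (o * (n * x * n⁻¹)) * n := by rw [h3]
        _ = n⁻¹ * o * n * x := by group
  · rintro ⟨hc, hf⟩
    rw [eq_top_iff]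
    intro g _
    have hTn : T.Normal := inferInstance
    obtain ⟨P, hP⟩ := Cfsg.Agent.Helper1.sylow_inf_subnormal p T (Subgroup.Normal.isSubnormal hTn) S
    set P' := (P : Subgroup ↥T).map T.subtype with hP'
    have hP'S : P' ≤ (S : Subgroup G) := by
      rintro _ ⟨x, hx, rfl⟩
      have hx' : x ∈ (P : Subgroup ↥T) := hx
      rw [hP] at hx'
      exact hx'
    have hfr : Subgroup.normalizer (P' : Set G) ⊔ T = ⊤ := Sylow.normalizer_sup_eq_top P
    have hgtop : g ∈ T ⊔ Subgroup.normalizer (P' : Set G) := by rw [sup_comm, hfr]; trivial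
    have hNT : Subgroup.normalizer (P' : Set G) ≤ Subgroup.normalizer (T : Set G) := by
      have : Subgroup.normalizer (T : Set G) = ⊤ := Subgroup.normalizer_eq_top T
      rw [this]; exact le_top
    obtain ⟨t, ht, m, hm, rfl⟩ := Cfsg.Agent.Helper1.mem_sup_of_le_normalizer hNT hgtop
    -- elements of `T` lie in `N ⊔ O`
    have hTNO : T ≤ N ⊔ O := by
      intro t ht
      have h1 : QuotientGroup.mk' O t ∈ Cfsg.pCore p (G ⧸ O) := ht
      rw [← map_sylow_pPrimePCore p P] at h1
      obtain ⟨x, hx, hxt⟩ := h1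
      have h2 : x⁻¹ * t ∈ O := by
        rw [← QuotientGroup.eq_one_iff, QuotientGroup.mk_mul, QuotientGroup.mk_inv]
        have : ((x : G) : G ⧸ O) = (t : G ⧸ O) := hxt
        rw [this, inv_mul_cancel]
      have h3 : t = x * (x⁻¹ * t) := by group
      rw [h3]
      exact Subgroup.mul_mem _ (le_sup_left (a := N) (hSN (hP'S hx))) (le_sup_right (a := N) h2)
    have hmP : P'.map (MulAut.conj m).toMonoidHom ≤ (S : Subgroup G) := by
      rw [(Cfsg.Agent.Helper5.mem_normalizer_iff_map_conj _ _).mp hm]; exact hP'S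
    obtain ⟨n, hn, c, hcc, rfl⟩ := hf P' hP'S m hmP
    have hcT : c ∈ T := hc P hcc
    exact Subgroup.mul_mem _ (hTNO ht) (Subgroup.mul_mem _ (le_sup_left (a := N) hn) (hTNO hcT))

end Cfsg.Agent.S1948
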