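import Mathlib
import Cfsg.Agent.Helper5.SylowSub
import Cfsg.Agent.Helper5.Misc
import Cfsg.Statements.S1956
-- import your own Cfsg.Agent.* helpers here

set_option autoImplicit false
open Cfsg

namespace Cfsg.Agent.S1956

/-- Let P be a Sylow p-subgroup of the finite group G such that every element of P of order dividing p (dividing 4 when p = 2) is central in P. Then the fusion of these elements is controlled by N_G(P): if such an element a of P has g a g⁻¹ in P, then g = n c with n normalizing P and c commuting with a. -/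
theorem result {G : Type*} [Group G] [Finite G] {p : ℕ} [Fact p.Prime] (P : Sylow p G)
    (hcen : ∀ a ∈ (P : Subgroup G), (a ^ p = 1 ∨ (p = 2 ∧ a ^ 4 = 1)) → ∀ y ∈ (P : Subgroup G), a * y = y * a) :
    ∀ a ∈ (P : Subgroup G), (a ^ p = 1 ∨ (p = 2 ∧ a ^ 4 = 1)) → ∀ g : G, g * a * g⁻¹ ∈ (P : Subgroup G) →
      ∃ n ∈ Subgroup.normalizer ((P : Subgroup G) : Set G), ∃ c : G, c * a = a * c ∧ g = n * c := by
  intro a haP ha g hg
  set b := g * a * g⁻¹ with hb
  -- b satisfies the same power condition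
  have hbpow : b ^ p = 1 ∨ (p = 2 ∧ b ^ 4 = 1) := by
    rcases ha with h | ⟨h2, h4⟩
    · left; rw [hb, conj_pow, h]; group
    · right; refine ⟨h2, ?_⟩; rw [hb, conj_pow, h4]; group
  have hPb : (P : Subgroup G) ≤ Subgroup.centralizer ({b} : Set G) := by
    intro y hy
    rw [Subgroup.mem_centralizer_singleton_iff]
    exact (hcen b hg hbpow y hy).symm
  have hDb : (P : Subgroup G).map (MulAut.conj g).toMonoidHom ≤ Subgroup.centralizer ({b} : Set G) := by
    rintro _ ⟨y, hy, rfl⟩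
    rw [Subgroup.mem_centralizer_singleton_iff]
    simp only [MulEquiv.coe_toMonoidHom, MulAut.conj_apply]
    have := hcen a haP ha y hy
    calc g * y * g⁻¹ * b = g * (y * a) * g⁻¹ := by rw [hb]; group
      _ = g * (a * y) * g⁻¹ := by rw [this]
      _ = b * (g * y * g⁻¹) := by rw [hb]; group
  obtain ⟨k, hkb, hk⟩ := Cfsg.Agent.Helper5.exists_conj_le_sylow_of_le P _ hPb _ hDb (P.isPGroup'.map _)
  have hn : k * g ∈ Subgroup.normalizer ((P : Subgroup G) : Set G) := by
    apply Cfsg.Agent.Helper5.mem_normalizer_of_conj_mem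
    intro x hx
    have := hk (g * x * g⁻¹) ⟨x, hx, by simp⟩
    have e : k * g * x * (k * g)⁻¹ = k * (g * x * g⁻¹) * k⁻¹ := by group
    rw [e]; exact this
  refine ⟨k * g, hn, (k * g)⁻¹ * k⁻¹ * (k * g), ?_, by group⟩
  rw [Subgroup.mem_centralizer_singleton_iff] at hkb
  -- k commutes with b = g a g⁻¹
  have h1 : k * (g * a * g⁻¹) = (g * a * g⁻¹) * k := hkb
  have h2 : k⁻¹ * (g * a * g⁻¹) = (g * a * g⁻¹) * k⁻¹ := by
    calc k⁻¹ * (g * a * g⁻¹) = k⁻¹ * ((g * a * g⁻¹) * k) * k⁻¹ := by group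
      _ = k⁻¹ * (k * (g * a * g⁻¹)) * k⁻¹ := by rw [h1]
      _ = (g * a * g⁻¹) * k⁻¹ := by group
  calc (k * g)⁻¹ * k⁻¹ * (k * g) * a = g⁻¹ * (k⁻¹ * (g * a * g⁻¹)) * g := by group
    _ = g⁻¹ * ((g * a * g⁻¹) * k⁻¹) * g := by rw [h2]
    _ = a * ((k * g)⁻¹ * k⁻¹ * (k * g)) := by group

end Cfsg.Agent.S1956
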