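import Mathlib
import Cfsg.Agent.Helper5.Basic
import Cfsg.Agent.Helper5.Cores
import Cfsg.Statements.S1966
-- import your own Cfsg.Agent.* helpers here

set_option autoImplicit false
open Cfsg Cfsg.Agent.Helper5

namespace Cfsg.Agent.S1966

/-- Let p be a prime, G a finite group with Sylow p-subgroup S and 𝓕 a conjugation family for S in G. Then the members of 𝓕 containing O_p(G) still form a conjugation family for S in G. -/
theorem result {G : Type*} [Group G] [Finite G] {p : ℕ} [Fact p.Prime] (S : Sylow p G) (𝓕 : Set (Subgroup G)) (h : Cfsg.IsConjugationFamily 𝓕 (S : Subgroup G)) : Cfsg.IsConjugationFamily {T : Subgroup G | T ∈ 𝓕 ∧ Cfsg.pCore p G ≤ T} (S : Subgroup G) := by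
  obtain ⟨h1, h2⟩ := h
  refine ⟨fun T hT => h1 T hT.1, ?_⟩
  intro A g hAne hAS hAgS
  have hOS : Cfsg.pCore p G ≤ (S : Subgroup G) := pCore_le_sylow S
  have hOn : (Cfsg.pCore p G).Normal := by
    unfold Cfsg.pCore
    exact Subgroup.sSup_normal _ (fun H hH => hH.1)
  -- enlarge A
  have hA' : ((Subgroup.closure A ⊔ Cfsg.pCore p G : Subgroup G) : Set G) ⊆ (S : Subgroup G) := by
    have : Subgroup.closure A ⊔ Cfsg.pCore p G ≤ (S : Subgroup G) :=
      sup_le ((Subgroup.closure_le _).mpr hAS) hOS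
    exact this
  have hA'g : (fun a => g⁻¹ * a * g) '' ((Subgroup.closure A ⊔ Cfsg.pCore p G : Subgroup G) : Set G) ⊆ (S : Subgroup G) := by
    rintro _ ⟨a, ha, rfl⟩
    have hle : Subgroup.closure A ⊔ Cfsg.pCore p G ≤ (S : Subgroup G).map (MulAut.conj g).toMonoidHom := by
      apply sup_le
      · rw [Subgroup.closure_le]
        intro b hb
        have := hAgS ⟨b, hb, rfl⟩
        exact (mem_map_conj_iff _ g b).mpr this
      · intro b hb
        refine (mem_map_conj_iff _ g b).mpr (hOS ?_)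
        have := hOn.conj_mem b hb g⁻¹
        simpa using this
    exact (mem_map_conj_iff _ g a).mp (hle ha)
  have hne' : ((Subgroup.closure A ⊔ Cfsg.pCore p G : Subgroup G) : Set G).Nonempty := ⟨1, Subgroup.one_mem _⟩
  obtain ⟨n, T, x, hprod, hT, hx, h0, hstep⟩ := h2 _ g hne' hA' hA'g
  have hAsub : A ⊆ ((Subgroup.closure A ⊔ Cfsg.pCore p G : Subgroup G) : Set G) := fun a ha =>
    (le_sup_left : Subgroup.closure A ≤ _) (Subgroup.subset_closure ha)
  have hOsub : ((Cfsg.pCore p G : Subgroup G) : Set G) ⊆ ((Subgroup.closure A ⊔ Cfsg.pCore p G : Subgroup G) : Set G) :=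
    fun a ha => (le_sup_right : Cfsg.pCore p G ≤ _) ha
  refine ⟨n, T, x, hprod, ?_, hx, fun h => (hAsub.trans (h0 h)), ?_⟩
  · intro i
    refine ⟨hT i, ?_⟩
    obtain ⟨i, hi⟩ := i
    rcases Nat.eq_zero_or_pos i with rfl | hpos
    · exact fun a ha => h0 hi (hOsub ha)
    · obtain ⟨j, rfl⟩ : ∃ j, i = j + 1 := ⟨i - 1, by omega⟩
      have := hstep ⟨j, by omega⟩ hi
      intro a ha
      apply this
      set y := ((List.ofFn x).take (j + 1)).prod with hy
      refine ⟨y * a * y⁻¹, hOsub ?_, ?_⟩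
      · exact hOn.conj_mem a ha y
      · simp only []
        group
  · intro i hi
    exact (Set.image_mono hAsub).trans (hstep i hi)

end Cfsg.Agent.S1966
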