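import Mathlib
import Cfsg.Agent.Helper5.Basic
import Cfsg.Agent.Helper5.StrongEmb
import Cfsg.Statements.S1967
-- import your own Cfsg.Agent.* helpers here

set_option autoImplicit false
open Cfsg Cfsg.Agent.Helper5

namespace Cfsg.Agent.S1967

/-- Let p be a prime, G a finite group with Sylow p-subgroup S and W a conjugacy functor for p on G. Then W controls strong fusion in G if and only if, whenever T ≤ S and g ∈ G satisfy gTg⁻¹ ≤ S, one can write g = n c with n ∈ N_G(W(S)) and c ∈ C_G(T). -/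
theorem result {G : Type*} [Group G] [Finite G] {p : ℕ} [Fact p.Prime] (S : Sylow p G) (W : Subgroup G → Subgroup G) (hW : Cfsg.IsConjugacyFunctor p W) : Cfsg.ControlsStrongFusionIn p W ⊤ ↔ ∀ (T : Subgroup G) (g : G), T ≤ (S : Subgroup G) → T.map (MulAut.conj g).toMonoidHom ≤ (S : Subgroup G) → ∃ n ∈ Subgroup.normalizer ((W (S : Subgroup G) : Subgroup G) : Set G), ∃ c ∈ Subgroup.centralizer (T : Set G), g = n * c := by
  constructor
  · rintro ⟨T₀, -, hT₀p, hT₀i, hctl⟩ T g hTS hTgS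
    rw [Subgroup.relIndex_top_right] at hT₀i
    obtain ⟨k, hk⟩ := sylow_exists_map_conj_eq (hT₀p.toSylow hT₀i) S
    rw [IsPGroup.toSylow_coe] at hk
    have hA : ((fun a => k⁻¹ * a * k) '' (T : Set G)) ⊆ T₀ := by
      rintro _ ⟨a, ha, rfl⟩
      have : a ∈ T₀.map (MulAut.conj k).toMonoidHom := by rw [hk]; exact hTS ha
      exact (mem_map_conj_iff T₀ k a).mp this
    have hA2 : (fun a => (k⁻¹ * g * k) * a * (k⁻¹ * g * k)⁻¹) '' ((fun a => k⁻¹ * a * k) '' (T : Set G)) ⊆ T₀ := by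
      rintro _ ⟨_, ⟨a, ha, rfl⟩, rfl⟩
      have h1 : g * a * g⁻¹ ∈ T₀.map (MulAut.conj k).toMonoidHom := by
        rw [hk]; exact hTgS (conj_mem_map_conj T g a ha)
      have h2 := (mem_map_conj_iff T₀ k _).mp h1
      have h3 : (k⁻¹ * g * k) * (k⁻¹ * a * k) * (k⁻¹ * g * k)⁻¹ = k⁻¹ * (g * a * g⁻¹) * k := by group
      show (k⁻¹ * g * k) * (k⁻¹ * a * k) * (k⁻¹ * g * k)⁻¹ ∈ T₀
      rw [h3]; exact h2
    obtain ⟨x, hx, hxa⟩ := hctl ((fun a => k⁻¹ * a * k) '' (T : Set G)) (k⁻¹ * g * k) (Subgroup.mem_top _) hA hA2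
    have hxN := hx.2
    refine ⟨k * x * k⁻¹, ?_, (k * x * k⁻¹)⁻¹ * g, ?_, by group⟩
    · have hWS : W (S : Subgroup G) = (W T₀).map (MulAut.conj k).toMonoidHom := by
        rw [← hk]; exact (hW T₀ hT₀p).2.2 k
      rw [hWS, normalizer_map_conj]
      exact conj_mem_map_conj _ k x hxN
    · rw [Subgroup.mem_centralizer_iff]
      intro a ha
      have h1 := hxa (k⁻¹ * a * k) ⟨a, ha, rfl⟩
      have h2 : k * (x * (k⁻¹ * a * k) * x⁻¹) * k⁻¹ = g * a * g⁻¹ := by
        rw [h1]; group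
      have h3 : (k * x * k⁻¹) * a * (k * x * k⁻¹)⁻¹ = g * a * g⁻¹ := by
        rw [← h2]; group
      have h4 : a = (k * x * k⁻¹)⁻¹ * (g * a * g⁻¹) * (k * x * k⁻¹) := by
        rw [← h3]; group
      calc a * ((k * x * k⁻¹)⁻¹ * g) = (k * x * k⁻¹)⁻¹ * (g * a * g⁻¹) * (k * x * k⁻¹) * ((k * x * k⁻¹)⁻¹ * g) := by
            rw [← h4]
        _ = (k * x * k⁻¹)⁻¹ * g * a := by group
  · intro h
    refine ⟨S, le_top, S.isPGroup', ?_, ?_⟩
    · rw [Subgroup.relIndex_top_right]; exact S.not_dvd_index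
    · intro A g _ hAS hAgS
      have h1 : Subgroup.closure A ≤ (S : Subgroup G) := (Subgroup.closure_le _).mpr hAS
      have h2 : (Subgroup.closure A).map (MulAut.conj g).toMonoidHom ≤ (S : Subgroup G) := by
        rw [MonoidHom.map_closure, Subgroup.closure_le]
        rintro _ ⟨a, ha, rfl⟩
        exact hAgS ⟨a, ha, by simp⟩
      obtain ⟨n, hn, c, hc, rfl⟩ := h _ g h1 h2
      refine ⟨n, ⟨Subgroup.mem_top _, hn⟩, fun a ha => ?_⟩
      have hca : c * a = a * c := by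
        have := (Subgroup.mem_centralizer_iff.mp hc) a (Subgroup.subset_closure ha)
        exact this.symm
      have : c * a * c⁻¹ = a := by rw [hca]; group
      calc n * a * n⁻¹ = n * (c * a * c⁻¹) * n⁻¹ := by rw [this]
        _ = n * c * a * (n * c)⁻¹ := by group

end Cfsg.Agent.S1967
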