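import Mathlib
import Cfsg.Agent.Helper5.PGroupCenter
import Cfsg.Agent.Helper5.LQStruct
import Cfsg.Agent.Helper5.Misc
import Cfsg.Agent.Helper1.Coprime
import Cfsg.Statements.S1977
-- import your own Cfsg.Agent.* helpers here

set_option autoImplicit false
open Cfsg Cfsg.Agent.Helper5
open scoped commutatorElement

namespace Cfsg.Agent.S1977

theorem conj_mem_nz {P : Type*} [Group P] (K : Subgroup P) (x : P)
    (hx : x ∈ Subgroup.normalizer (K : Set P)) (k : P) (hk : k ∈ K) : x * k * x⁻¹ ∈ K :=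
  (Subgroup.mem_normalizer_iff.mp hx k).mp hk

theorem conj_inv_mem_nz {P : Type*} [Group P] (K : Subgroup P) (x : P)
    (hx : x ∈ Subgroup.normalizer (K : Set P)) (k : P) (hk : k ∈ K) : x⁻¹ * k * x ∈ K := by
  have := (Subgroup.mem_normalizer_iff.mp (Subgroup.inv_mem _ hx) k).mp hk
  simpa using this

/-- conjugating a centralizing element by a normalizing element gives a centralizing element -/
theorem conj_mem_centralizer_nz {P : Type*} [Group P] (B : Subgroup P) (n c : P)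
    (hn : n ∈ Subgroup.normalizer (B : Set P)) (hc : c ∈ Subgroup.centralizer (B : Set P)) :
    n * c * n⁻¹ ∈ Subgroup.centralizer (B : Set P) := by
  rw [Subgroup.mem_centralizer_iff] at hc ⊢
  intro b hb
  have h1 := hc _ (conj_inv_mem_nz B n hn b hb)
  calc b * (n * c * n⁻¹) = n * ((n⁻¹ * b * n) * c) * n⁻¹ := by group
    _ = n * (c * (n⁻¹ * b * n)) * n⁻¹ := by rw [h1]
    _ = n * c * n⁻¹ * b := by group

open scoped commutatorElement in
/-- a non-self-centralizing subgroup of a `p`-group can be enlarged by a centralizing element that is central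
modulo `B` in the normalizer -/
theorem exists_central_ext {P : Type*} [Group P] [Finite P] {p : ℕ} [Fact p.Prime] (hP : IsPGroup p P)
    (B : Subgroup P) (h : ¬ Subgroup.centralizer (B : Set P) ≤ B) :
    ∃ x ∈ Subgroup.centralizer (B : Set P), x ∉ B ∧
      ∀ z ∈ Subgroup.zpowers x, ∀ g ∈ Subgroup.normalizer (B : Set P), ⁅z, g⁆ ∈ B := by
  classical
  set N := Subgroup.normalizer (B : Set P) with hN
  have hCN : Subgroup.centralizer (B : Set P) ≤ N := Subgroup.centralizer_le_normalizer _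
  set D : Subgroup N := (Subgroup.centralizer (B : Set P)).subgroupOf N with hD
  have hDn : D.Normal := by
    constructor
    intro d hd n
    rw [hD, Subgroup.mem_subgroupOf] at hd ⊢
    exact conj_mem_centralizer_nz B n d n.2 hd
  have hBn : (B.subgroupOf N).Normal := Subgroup.normal_in_normalizer
  set π := QuotientGroup.mk' (B.subgroupOf N) with hπ
  have hπs : Function.Surjective π := QuotientGroup.mk'_surjective _
  have : (D.map π).Normal := Subgroup.Normal.map hDn π hπs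
  have hne : D.map π ≠ ⊥ := by
    intro hbot
    apply h
    intro c hc
    have h1 : π ⟨c, hCN hc⟩ ∈ D.map π := Subgroup.mem_map_of_mem π (by
      rw [hD, Subgroup.mem_subgroupOf]; exact hc)
    rw [hbot, Subgroup.mem_bot, hπ, QuotientGroup.mk'_apply, QuotientGroup.eq_one_iff,
      Subgroup.mem_subgroupOf] at h1
    exact h1
  have hpq : IsPGroup p (N ⧸ B.subgroupOf N) := (hP.to_subgroup N).to_quotient _
  obtain ⟨xb, hxb, hxb1, hxbc⟩ := exists_ne_one_mem_center_of_normal hpq (D.map π) hne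
  obtain ⟨d, hd, rfl⟩ := Subgroup.mem_map.mp hxb
  rw [hD, Subgroup.mem_subgroupOf] at hd
  refine ⟨(d : P), hd, ?_, ?_⟩
  · intro hdB
    apply hxb1
    rw [hπ, QuotientGroup.mk'_apply, QuotientGroup.eq_one_iff, Subgroup.mem_subgroupOf]
    exact hdB
  · intro z hz g hg
    obtain ⟨k, rfl⟩ := Subgroup.mem_zpowers_iff.mp hz
    have h1 : π ⁅d ^ k, (⟨g, hg⟩ : N)⁆ = 1 := by
      rw [map_commutatorElement, map_zpow, commutatorElement_eq_one_iff_commute]
      have : Commute (π d) (π ⟨g, hg⟩) := (hxbc (π ⟨g, hg⟩)).symm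
      exact this.zpow_left k
    rw [hπ, QuotientGroup.mk'_apply, QuotientGroup.eq_one_iff, Subgroup.mem_subgroupOf] at h1
    have h2 : ((⁅d ^ k, (⟨g, hg⟩ : N)⁆ : N) : P) = ⁅(d : P) ^ k, g⁆ := by
      rw [commutatorElement_def, commutatorElement_def]
      simp
    rw [h2] at h1
    exact h1

open scoped commutatorElement in
theorem comm_mul_left_of_comm {A : Type*} [Group A] (u a b : A) (hu : u * b = b * u) :
    ⁅a * u, b⁆ = ⁅a, b⁆ := by
  calc ⁅a * u, b⁆ = a * (u * b) * u⁻¹ * a⁻¹ * b⁻¹ := by rw [commutatorElement_def]; group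
    _ = a * (b * u) * u⁻¹ * a⁻¹ * b⁻¹ := by rw [hu]
    _ = ⁅a, b⁆ := by rw [commutatorElement_def]; group

open scoped commutatorElement in
theorem comm_mul_right_of_comm {A : Type*} [Group A] (u a b : A) (hu : u * a = a * u) :
    ⁅a, b * u⁆ = ⁅a, b⁆ := by
  have hu' : u * a⁻¹ = a⁻¹ * u := by
    calc u * a⁻¹ = a⁻¹ * (a * u) * a⁻¹ := by group
      _ = a⁻¹ * (u * a) * a⁻¹ := by rw [hu]
      _ = a⁻¹ * u := by group
  calc ⁅a, b * u⁆ = a * b * (u * a⁻¹) * u⁻¹ * b⁻¹ := by rw [commutatorElement_def]; group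
    _ = a * b * (a⁻¹ * u) * u⁻¹ * b⁻¹ := by rw [hu']
    _ = ⁅a, b⁆ := by rw [commutatorElement_def]; group

open scoped commutatorElement in
/-- the structure of `B ⊔ ⟨x⟩` for `x` centralizing `B` -/
theorem ext_facts {P : Type*} [Group P] (B : Subgroup P) (x : P)
    (hx : x ∈ Subgroup.centralizer (B : Set P)) (hB2 : B ∈ Cfsg.classTwoSubgroups P) :
    (B ⊔ Subgroup.zpowers x) ∈ Cfsg.classTwoSubgroups P ∧
    B ⊓ Subgroup.centralizer (B : Set P) ≤
      (B ⊔ Subgroup.zpowers x) ⊓ Subgroup.centralizer ((B ⊔ Subgroup.zpowers x : Subgroup P) : Set P) ∧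
    Subgroup.zpowers x ≤
      (B ⊔ Subgroup.zpowers x) ⊓ Subgroup.centralizer ((B ⊔ Subgroup.zpowers x : Subgroup P) : Set P) ∧
    ∀ g ∈ B ⊔ Subgroup.zpowers x, ∃ b ∈ B, ∃ z ∈ Subgroup.zpowers x, g = b * z := by
  set Zx := Subgroup.zpowers x with hZx
  have hZC : Zx ≤ Subgroup.centralizer (B : Set P) := by
    rw [hZx, Subgroup.zpowers_le]; exact hx
  have hBZ : B ≤ Subgroup.centralizer (Zx : Set P) := Subgroup.le_centralizer_iff.mp hZC
  have hZZ : Zx ≤ Subgroup.centralizer (Zx : Set P) := by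
    intro a ha
    rw [Subgroup.mem_centralizer_iff]
    intro b hb
    obtain ⟨i, rfl⟩ := Subgroup.mem_zpowers_iff.mp ha
    obtain ⟨j, rfl⟩ := Subgroup.mem_zpowers_iff.mp hb
    rw [← zpow_add, ← zpow_add, add_comm]
  have hZcent : Zx ≤ Subgroup.centralizer ((B ⊔ Zx : Subgroup P) : Set P) :=
    le_centralizer_sup hZC hZZ
  have hdec : ∀ g ∈ B ⊔ Zx, ∃ b ∈ B, ∃ z ∈ Zx, g = b * z := by
    intro g hg
    exact Cfsg.Agent.Helper1.mem_sup_of_le_normalizer
      (hZC.trans (Subgroup.centralizer_le_normalizer _)) hg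
  have hcomm : ⁅B ⊔ Zx, B ⊔ Zx⁆ ≤ ⁅B, B⁆ := by
    rw [Subgroup.commutator_le]
    intro g₁ hg₁ g₂ hg₂
    obtain ⟨b₁, hb₁, z₁, hz₁, rfl⟩ := hdec g₁ hg₁
    obtain ⟨b₂, hb₂, z₂, hz₂, rfl⟩ := hdec g₂ hg₂
    have h1 : z₁ * (b₂ * z₂) = (b₂ * z₂) * z₁ :=
      ((Subgroup.mem_centralizer_iff.mp (hZcent hz₁)) _ hg₂).symm
    have h2 : z₂ * b₁ = b₁ * z₂ :=
      ((Subgroup.mem_centralizer_iff.mp (hZcent hz₂)) _ (le_sup_left (a := B) hb₁)).symm
    rw [comm_mul_left_of_comm z₁ b₁ (b₂ * z₂) h1, comm_mul_right_of_comm z₂ b₁ b₂ h2]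
    exact Subgroup.commutator_mem_commutator hb₁ hb₂
  refine ⟨?_, ?_, le_inf le_sup_right hZcent, hdec⟩
  · show ⁅B ⊔ Zx, B ⊔ Zx⁆ ≤ Subgroup.centralizer ((B ⊔ Zx : Subgroup P) : Set P)
    refine hcomm.trans (le_centralizer_sup hB2 ?_)
    exact (Subgroup.commutator_le_self B).trans hBZ
  · refine le_inf (inf_le_left.trans le_sup_left) (le_centralizer_sup inf_le_right ?_)
    exact inf_le_left.trans hBZ

open scoped commutatorElement in
/-- the commutator computation shared by the two star families -/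
theorem ext_comm_mem {P : Type*} [Group P] (B : Subgroup P) (x : P)
    (hx : x ∈ Subgroup.centralizer (B : Set P))
    (hxc : ∀ z ∈ Subgroup.zpowers x, ∀ g ∈ Subgroup.normalizer (B : Set P), ⁅z, g⁆ ∈ B)
    (b z a : P) (hb : b ∈ B) (hz : z ∈ Subgroup.zpowers x)
    (ha : a ∈ Subgroup.normalizer (B : Set P))
    (hba : ⁅b, a⁆ ∈ B ⊓ Subgroup.centralizer (B : Set P)) :
    ⁅b * z, a⁆ ∈ B ⊓ Subgroup.centralizer (B : Set P) := by
  have hzC : z ∈ Subgroup.centralizer (B : Set P) := by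
    have : Subgroup.zpowers x ≤ Subgroup.centralizer (B : Set P) := by
      rw [Subgroup.zpowers_le]; exact hx
    exact this hz
  have h1 : ⁅z, a⁆ ∈ B ⊓ Subgroup.centralizer (B : Set P) := by
    refine Subgroup.mem_inf.mpr ⟨hxc z hz a ha, ?_⟩
    have h2 : a * z⁻¹ * a⁻¹ ∈ Subgroup.centralizer (B : Set P) :=
      conj_mem_centralizer_nz B a z⁻¹ ha (Subgroup.inv_mem _ hzC)
    have h3 : ⁅z, a⁆ = z * (a * z⁻¹ * a⁻¹) := by rw [commutatorElement_def]; group
    rw [h3]
    exact Subgroup.mul_mem _ hzC h2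
  rw [commutatorElement_mul_left_eq_conj_mul]
  have h4 : b * ⁅z, a⁆ * b⁻¹ = ⁅z, a⁆ := by
    have := (Subgroup.mem_centralizer_iff.mp (Subgroup.mem_inf.mp h1).2) b hb
    rw [this]; group
  rw [h4]
  exact Subgroup.mul_mem _ h1 hba

/-- Let P be a finite p-group. A member B that is maximal under inclusion in any one of the families used to build the K-sequence of P — the class-two family, the lower-star family relative to an odd-indexed term, or the upper-star family relative to an even-indexed term — contains its centralizer: C_P(B) ≤ B. -/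
theorem result {P : Type*} [Group P] [Finite P] {p : ℕ} [Fact p.Prime] (hP : IsPGroup p P) (B : Subgroup P) (𝒦 : Set (Subgroup P)) (h𝒦 : 𝒦 = Cfsg.classTwoSubgroups P ∨ (∃ n, 𝒦 = Cfsg.kLowerStarFamily (Cfsg.kSeqOdd P n)) ∨ ∃ n, 𝒦 = Cfsg.kUpperStarFamily (Cfsg.kSeqEven P n)) (hB : B ∈ 𝒦) (hmax : ∀ C ∈ 𝒦, B ≤ C → C = B) : Subgroup.centralizer (B : Set P) ≤ B := by
  classical
  by_contra hcon
  obtain ⟨x, hxC, hxB, hxc⟩ := exists_central_ext hP B hcon
  have hB2 : B ∈ Cfsg.classTwoSubgroups P := by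
    rcases h𝒦 with h | ⟨n, h⟩ | ⟨n, h⟩
    · rw [h] at hB; exact hB
    · rw [h] at hB; exact hB.1
    · rw [h] at hB; exact hB.1
  obtain ⟨hS2, hZle, hZx, hdec⟩ := ext_facts B x hxC hB2
  set Bs := B ⊔ Subgroup.zpowers x with hBs
  have hlt : Bs ≠ B := by
    intro h
    apply hxB
    rw [← h]
    exact le_sup_right (a := B) (Subgroup.mem_zpowers x)
  apply hlt
  apply hmax Bs _ le_sup_left
  rcases h𝒦 with h | ⟨n, h⟩ | ⟨n, h⟩
  · rw [h]; exact hS2
  · rw [h] at hB ⊢
    obtain ⟨_, hQN, hcond⟩ := hB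
    refine ⟨hS2, ?_, ?_⟩
    · -- Q normalizes Bs
      intro q hq
      apply mem_normalizer_of_conj_mem
      intro y hy
      obtain ⟨b, hb, z, hz, rfl⟩ := hdec y hy
      have hqN := hQN hq
      have h1 : q * b * q⁻¹ ∈ B := conj_mem_nz B q hqN b hb
      have h2 : ⁅z, q⁆ ∈ B := hxc z hz q hqN
      have h3 : q * (b * z) * q⁻¹ = (q * b * q⁻¹) * (⁅z, q⁆⁻¹ * z) := by
        rw [commutatorElement_def]; group
      rw [h3]
      exact Subgroup.mul_mem _ (le_sup_left (a := B) h1)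
        (Subgroup.mul_mem _ (le_sup_left (a := B) (B.inv_mem h2)) (le_sup_right (a := B) hz))
    · intro A hA hAQ hBsA hc1 hc2
      have hBA : ⁅B, A⁆ ≤ B ⊓ Subgroup.centralizer (B : Set P) := by
        apply hcond A hA hAQ (le_sup_left.trans hBsA)
        · rw [eq_bot_iff, ← hc1]
          exact Subgroup.commutator_mono le_sup_left le_rfl
        · rw [eq_bot_iff, ← hc2]
          exact Subgroup.commutator_mono (Subgroup.commutator_mono hZle le_rfl) le_rfl
      rw [Subgroup.commutator_le]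
      intro g hg a ha
      obtain ⟨b, hb, z, hz, rfl⟩ := hdec g hg
      apply hZle
      exact ext_comm_mem B x hxC hxc b z a hb hz (hQN (hAQ ha))
        (hBA (Subgroup.commutator_mem_commutator hb ha))
  · rw [h] at hB ⊢
    obtain ⟨_, hBQ⟩ := hB
    have hQN : Cfsg.kSeqEven P n ≤ Subgroup.normalizer (B : Set P) := by
      rw [Subgroup.le_normalizer_iff_commutator_le_left]
      exact hBQ.trans inf_le_left
    refine ⟨hS2, ?_⟩
    rw [Subgroup.commutator_le]
    intro g hg a ha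
    obtain ⟨b, hb, z, hz, rfl⟩ := hdec g hg
    apply hZle
    exact ext_comm_mem B x hxC hxc b z a hb hz (hQN ha)
      (hBQ (Subgroup.commutator_mem_commutator hb ha))

end Cfsg.Agent.S1977
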