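import Cfsg.Statements.S1982
import Cfsg.Agent.Lead.KInfS

set_option autoImplicit false
universe u
open Cfsg

namespace Cfsg.Agent.S1982

open Subgroup Cfsg.Agent.Lead.KInf in
theorem aux (W : ∀ (Q : Type u) [Group Q], Subgroup Q)
    {G : Type u} [Group G] [Finite G] {p : ℕ} [hp : Fact p.Prime]
    (hW : Cfsg.IsCharPFunctor.{u} p W) (hWs : SubDetermined.{u} p W)
    (S : Sylow p G) (A : Subgroup G) (hAT : A ≤ (Cfsg.pCore p G))
    (hAchar : (A.subgroupOf (Cfsg.pCore p G)).Characteristic)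
    (hA2 : ⁅A, A⁆ ≤ Subgroup.centralizer ((A : Subgroup G) : Set G))
    (hA3 : ⁅(Cfsg.pCore p G), A⁆ ≤ A ⊓ Subgroup.centralizer ((A : Subgroup G) : Set G))
    (hA5 : ∀ φ : MulAut ↥(Cfsg.pCore p G), (orderOf φ).Coprime p →
      (∀ a : ↥(Cfsg.pCore p G), (a : G) ∈ A → φ a = a) → φ = 1)
    (hK : ¬ (Cfsg.inducedFunctor W (S : Subgroup G)).Normal) :
    ∃ g : G, g ∈ (S : Subgroup G) ∧ g ∉ (Cfsg.pCore p G) ∧
      Cfsg.iterCommutator A (Subgroup.zpowers g) 3 ≤
        A ⊓ Subgroup.centralizer ((A : Subgroup G) : Set G) ∧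
      ⁅⁅A ⊓ Subgroup.centralizer ((A : Subgroup G) : Set G), (Subgroup.zpowers g)⁆,
        (Subgroup.zpowers g)⁆ = ⊥ ∧
      (Subgroup.centralizer (((Cfsg.pCore p G) : Subgroup G) : Set G) ≤ (Cfsg.pCore p G) →
        ∃ U V : Subgroup G, Cfsg.IsChiefFactor U V ∧ U ≤ A ∧
          ⁅⁅U, (Subgroup.zpowers g)⁆, (Subgroup.zpowers g)⁆ ≤ V ∧
          ¬ ⁅U, (Subgroup.zpowers g)⁆ ≤ V) := by
  have hQn : (Cfsg.pCore p G).Normal := inferInstance
  have hQp : IsPGroup p ↥(Cfsg.pCore p G) := Cfsg.Agent.Helper1.pCore_isPGroup p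
  have hAn : A.Normal := by
    have h1 := ConjAct.normal_of_characteristic_of_normal (H := Cfsg.pCore p G)
      (K := A.subgroupOf (Cfsg.pCore p G))
    rwa [map_subgroupOf_eq_of_le hAT] at h1
  have hZn : (A ⊓ centralizer (A : Set G)).Normal := zcent_normal A
  have hthree : ∀ g : G,
      (⁅⁅⁅A, zpowers g⁆, zpowers g⁆, zpowers g⁆ = ⊥ ∨
        ⁅⁅A, zpowers g⁆, zpowers g⁆ ≤ A ⊓ centralizer (A : Set G)) →
      Cfsg.iterCommutator A (zpowers g) 3 ≤ A ⊓ centralizer (A : Set G) := by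
    intro g h
    show ⁅⁅⁅A, zpowers g⁆, zpowers g⁆, zpowers g⁆ ≤ _
    rcases h with h | h
    · rw [h]
      exact bot_le
    · exact (commutator_mono h le_rfl).trans (commutator_le_left _ _)
  by_cases hc : centralizer ((Cfsg.pCore p G : Subgroup G) : Set G) ≤ Cfsg.pCore p G
  · have hcrit : ∀ y : G, (orderOf y).Coprime p → y ∈ centralizer (A : Set G) → y = 1 := by
      intro y hcop hy
      have hφ : (MulAut.conjNormal y : MulAut ↥(Cfsg.pCore p G)) = 1 := by
        apply hA5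
        · exact Nat.Coprime.coprime_dvd_left (orderOf_map_dvd _ y) hcop
        · intro x hx
          apply Subtype.ext
          rw [MulAut.conjNormal_apply]
          have := (mem_centralizer_iff.mp hy) (x : G) hx
          rw [← this]
          group
      have hyC : y ∈ centralizer ((Cfsg.pCore p G : Subgroup G) : Set G) := by
        rw [mem_centralizer_iff]
        intro q hq
        have h1 := congrArg (fun f : MulAut ↥(Cfsg.pCore p G) => ((f ⟨q, hq⟩ : ↥(Cfsg.pCore p G)) : G)) hφ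
        simp only [MulAut.conjNormal_apply, MulAut.one_apply] at h1
        calc q * y = (y * q * y⁻¹) * y := by rw [h1]
          _ = y * q := by group
      have hyQ : y ∈ Cfsg.pCore p G := hc hyC
      obtain ⟨k, hk⟩ := hQp ⟨y, hyQ⟩
      have hk' : y ^ (p ^ k) = 1 := by
        have := congrArg Subtype.val hk
        simpa using this
      have h1 : orderOf y ∣ p ^ k := orderOf_dvd_of_pow_eq_one hk'
      have h2 : orderOf y = 1 :=
        Nat.eq_one_of_dvd_coprimes (Nat.Coprime.pow_right k hcop) dvd_rfl h1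
      exact orderOf_eq_one_iff.mp h2
    obtain ⟨g, hgS, hgQ, h1, h2, hrest⟩ :=
      exists_quadratic_chief W hW hWs S hK A hAT hA2 hA3 hcrit
    exact ⟨g, hgS, hgQ, hthree g h2, h1, fun _ => hrest⟩
  · have hQT : Cfsg.pCore p G ≤ (S : Subgroup G) := Cfsg.Agent.Helper1.pCore_le_sylow S
    have hnn' : ¬ (⊤ : Subgroup G) ≤
        normalizer ((Cfsg.inducedFunctor W (S : Subgroup G) : Subgroup G) : Set G) := by
      intro h
      apply hK
      exact normalizer_eq_top_iff.mp (top_le_iff.mp h)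
    have hQtop : (⊤ : Subgroup G) ≤ normalizer ((Cfsg.pCore p G : Subgroup G) : Set G) := by
      rw [normalizer_eq_top]
    have hAnT : (S : Subgroup G) ≤ normalizer (A : Set G) := by
      rw [normalizer_eq_top]
      exact le_top
    obtain ⟨g, hgT, hgQ, h1, h2⟩ := exists_quadratic_ext W hW hWs S.isPGroup' hQT hQtop
      (hAT.trans hQT) hAnT hA2 hA3 hnn'
    exact ⟨g, hgT, hgQ, hthree g h2, h1, fun h => absurd h hc⟩

/-- Let p be a prime, G a finite group with Sylow p-subgroup S, T = O_p(G), and A a characteristic subgroup of T with A/Z(A) elementary abelian, [T, A] ≤ Z(A), C_T(A) = Z(A), and such that every automorphism of T of order prime to p fixing A elementwise is trivial (a critical subgroup of T). Suppose that the lower or the upper K-infinity subgroup of S is not normal in G. Then there is an element g of S outside T with [A, g, g, g] ≤ Z(A) and [Z(A), g, g] = 1, and such that if moreover C_G(T) ≤ T then some chief factor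 X/Y of G with X ≤ A satisfies [X, g, g] ≤ Y but [X, g] ≰ Y. -/
theorem result {G : Type u} [Group G] [Finite G] {p : ℕ} [Fact p.Prime] (S : Sylow p G) (A : Subgroup G) (hAT : A ≤ (Cfsg.pCore p G)) (hAchar : (A.subgroupOf (Cfsg.pCore p G)).Characteristic) (hA1 : ∀ a ∈ A, a ^ p ∈ A ⊓ Subgroup.centralizer ((A : Subgroup G) : Set G)) (hA2 : ⁅A, A⁆ ≤ Subgroup.centralizer ((A : Subgroup G) : Set G)) (hA3 : ⁅(Cfsg.pCore p G), A⁆ ≤ A ⊓ Subgroup.centralizer ((A : Subgroup G) : Set G)) (hA4 : (Cfsg.pCore p G) ⊓ Subgroup.centralizer ((A : Subgroup G) : Set G) = A ⊓ Subgroup.centralizer ((A : Subgroup G) : Set G)) (hA5 : ∀ φ : MulAut ↥(Cfsg.pCore p G), (orderOf φ).Coprime p → (∀ a : ↥(Cfsg.pCore p G), (a : G) ∈ A → φ a = a) → φ = 1) (hK : ¬ (Cfsg.inducedFunctor Cfsg.kInfLower (S : Subgroup G)).Normal ∨ ¬ (Cfsg.inducedFunctor Cfsg.kInfUpper (S : Subgroup G)).Normal) : ∃ g : G, g ∈ (S : Subgroup G) ∧ g ∉ (Cfsg.pCore p G) ∧ Cfsg.iterCommutator A (Subgroup.zpowers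 g) 3 ≤ A ⊓ Subgroup.centralizer ((A : Subgroup G) : Set G) ∧ ⁅⁅A ⊓ Subgroup.centralizer ((A : Subgroup G) : Set G), (Subgroup.zpowers g)⁆, (Subgroup.zpowers g)⁆ = ⊥ ∧ (Subgroup.centralizer (((Cfsg.pCore p G) : Subgroup G) : Set G) ≤ (Cfsg.pCore p G) → ∃ U V : Subgroup G, Cfsg.IsChiefFactor U V ∧ U ≤ A ∧ ⁅⁅U, (Subgroup.zpowers g)⁆, (Subgroup.zpowers g)⁆ ≤ V ∧ ¬ ⁅U, (Subgroup.zpowers g)⁆ ≤ V) := by
  rcases hK with hK | hK
  · exact aux Cfsg.kInfLower (Cfsg.Agent.Lead.KInf.isCharPFunctor_kInfLower p)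
      (Cfsg.Agent.Lead.KInf.subDetermined_kInfLower p) S A hAT hAchar hA2 hA3 hA5 hK
  · exact aux Cfsg.kInfUpper (Cfsg.Agent.Lead.KInf.isCharPFunctor_kInfUpper p)
      (Cfsg.Agent.Lead.KInf.subDetermined_kInfUpper p) S A hAT hAchar hA2 hA3 hA5 hK

end Cfsg.Agent.S1982
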