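import Cfsg.Statements.S1983
import Cfsg.Agent.Lead.KInfF
import Cfsg.Agent.Lead.KInfS
import Cfsg.Agent.Lead.KInfT

set_option autoImplicit false
universe u
open Cfsg

namespace Cfsg.Agent.S1983

open Subgroup Cfsg.Agent.Lead.KInf in
theorem aux (W : ∀ (Q : Type u) [Group Q], Subgroup Q)
    {G : Type u} [Group G] [Finite G] {p : ℕ} [hp : Fact p.Prime]
    (hW : Cfsg.IsCharPFunctor.{u} p W) (hWs : SubDetermined.{u} p W)
    (S : Sylow p G) (hK : ¬ (Cfsg.inducedFunctor W (S : Subgroup G)).Normal) :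
    ∃ g : G, g ∈ (S : Subgroup G) ∧ g ∉ (Cfsg.pCore p G) ∧
      (∀ U V : Subgroup G, Cfsg.IsChiefFactor U V → U ≤ (Cfsg.pCore p G) →
        Cfsg.iterCommutator U (Subgroup.zpowers g) 4 ≤ V) ∧
      ⁅⁅((Cfsg.pCore p G) ⊓ Subgroup.centralizer (((Cfsg.pCore p G) : Subgroup G) : Set G)),
        (Subgroup.zpowers g)⁆, (Subgroup.zpowers g)⁆ = ⊥ ∧
      (Subgroup.centralizer (((Cfsg.pCore p G) : Subgroup G) : Set G) ≤ (Cfsg.pCore p G) →
        ∃ (N : Subgroup G) (_ : N.Normal), ¬ Cfsg.IsNormalizerPStable p (G ⧸ N)) := by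
  obtain ⟨g, hgS, hgQ, h4, hZ⟩ := engel_four W hW hWs S hK
  refine ⟨g, hgS, hgQ, h4, hZ, ?_⟩
  intro hc
  obtain ⟨A, hAn, hAQ, hA2, hQA, hcrit'⟩ := exists_critical_normal p G
  have hcrit := hcrit' hc
  obtain ⟨g', -, -, -, -, U, V, hch, hUA, hq, hmv⟩ :=
    exists_quadratic_chief W hW hWs S hK A hAQ hA2 hQA hcrit
  have hVn : V.Normal := hch.2.2.1
  have hUp : IsPGroup p ↥U := (Cfsg.Agent.Helper1.pCore_isPGroup p).to_le (hUA.trans hAQ)
  exact ⟨V, hVn, not_stable_of_chief hch hUp hq hmv⟩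

/-- Let p be a prime, G a finite group with Sylow p-subgroup S and T = O_p(G). Suppose that the lower or the upper K-infinity subgroup of S is not normal in G. Then there is an element g of S outside T such that [X, g, g, g, g] ≤ Y for every chief factor X/Y of G with X ≤ T, and [Z(T), g, g] = 1; and if moreover C_G(T) ≤ T then some quotient group of G is not p-stable (in the normalizer form: some quadratically acting element of a normalizer fails to map into O_p of the automizer). -/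
theorem result {G : Type u} [Group G] [Finite G] {p : ℕ} [Fact p.Prime] (S : Sylow p G) (hK : ¬ (Cfsg.inducedFunctor Cfsg.kInfLower (S : Subgroup G)).Normal ∨ ¬ (Cfsg.inducedFunctor Cfsg.kInfUpper (S : Subgroup G)).Normal) : ∃ g : G, g ∈ (S : Subgroup G) ∧ g ∉ (Cfsg.pCore p G) ∧ (∀ U V : Subgroup G, Cfsg.IsChiefFactor U V → U ≤ (Cfsg.pCore p G) → Cfsg.iterCommutator U (Subgroup.zpowers g) 4 ≤ V) ∧ ⁅⁅((Cfsg.pCore p G) ⊓ Subgroup.centralizer (((Cfsg.pCore p G) : Subgroup G) : Set G)), (Subgroup.zpowers g)⁆, (Subgroup.zpowers g)⁆ = ⊥ ∧ (Subgroup.centralizer (((Cfsg.pCore p G) : Subgroup G) : Set G) ≤ (Cfsg.pCore p G) → ∃ (N : Subgroup G) (_ : N.Normal), ¬ Cfsg.IsNormalizerPStable p (G ⧸ N)) := by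
  rcases hK with hK | hK
  · exact aux Cfsg.kInfLower (Cfsg.Agent.Lead.KInf.isCharPFunctor_kInfLower p)
      (Cfsg.Agent.Lead.KInf.subDetermined_kInfLower p) S hK
  · exact aux Cfsg.kInfUpper (Cfsg.Agent.Lead.KInf.isCharPFunctor_kInfUpper p)
      (Cfsg.Agent.Lead.KInf.subDetermined_kInfUpper p) S hK

end Cfsg.Agent.S1983
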