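import Mathlib
import Cfsg.Statements.S2001
import Cfsg.Agent.Helper1.NHg

set_option autoImplicit false
open Cfsg

namespace Cfsg.Agent.S2001

/-- Let p be a prime dividing the order of the finite group G, P a Sylow p-subgroup, W a conjugacy functor for p on G with Z(H) ≤ W(H) for every nontrivial p-subgroup H, and V a central functor: a conjugacy functor with V(H) ≤ Z(H), and V(H) ≤ V(K) whenever Z(H) ≤ Z(K), for nontrivial p-subgroups H, K. Say that W with V controls transfer in a subgroup L when some Sylow p-subgroup Q of L satisfies Q ∩ L' = (Q ∩ (N_L(W(Q)))')·(Q ∩ (C_L(V(Q)))') as a product of two subgroups. If W with V controls transfer in N_G(H) for every subgroup H with Z(P) ≤ H ≤ P, then W with V controls transfer in G. -/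
theorem result {G : Type*} [Group G] [Finite G] {p : ℕ} [Fact p.Prime] (hdiv : p ∣ Nat.card G) (P : Sylow p G) (W V : Subgroup G → Subgroup G) (hW : Cfsg.IsConjugacyFunctor p W) (hV : Cfsg.IsConjugacyFunctor p V) (hWZ : ∀ H : Subgroup G, IsPGroup p ↥H → H ⊓ Subgroup.centralizer ((H : Subgroup G) : Set G) ≤ W H) (hVZ : ∀ H : Subgroup G, IsPGroup p ↥H → V H ≤ H ⊓ Subgroup.centralizer ((H : Subgroup G) : Set G)) (hVmono : ∀ H K : Subgroup G, IsPGroup p ↥H → IsPGroup p ↥K → H ≠ ⊥ → K ≠ ⊥ → H ⊓ Subgroup.centralizer ((H : Subgroup G) : Set G) ≤ K ⊓ Subgroup.centralizer ((K : Subgroup G) : Set G) → V H ≤ V K) (hloc : ∀ H : Subgroup G, (P : Subgroup G) ⊓ Subgroup.centralizer (((P : Subgroup G) : Subgroup G) : Set G) ≤ H → H ≤ (P : Subgroup G) → ∃ Q : Subgroup G, Q ≤ Subgroup.normalizer ((H : Subgroup G) : Set G) ∧ IsPGroup p ↥Q ∧ ¬ p ∣ (Q).relIndex (Subgroup.normalizer ((H : Subgroup G) : Set G)) ∧ ∀ x : G, x ∈ Q ⊓ ⁅Subgroup.normalizer ((H : Subgroup G) : Set G), Subgroup.normalizer ((H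 : Subgroup G) : Set G)⁆ ↔ ∃ a ∈ Q ⊓ ⁅Subgroup.normalizer ((H : Subgroup G) : Set G) ⊓ Subgroup.normalizer ((W Q : Subgroup G) : Set G), Subgroup.normalizer ((H : Subgroup G) : Set G) ⊓ Subgroup.normalizer ((W Q : Subgroup G) : Set G)⁆, ∃ b ∈ Q ⊓ ⁅Subgroup.normalizer ((H : Subgroup G) : Set G) ⊓ Subgroup.centralizer ((V Q : Subgroup G) : Set G), Subgroup.normalizer ((H : Subgroup G) : Set G) ⊓ Subgroup.centralizer ((V Q : Subgroup G) : Set G)⁆, x = a * b) : ∃ Q : Subgroup G, IsPGroup p ↥Q ∧ ¬ p ∣ Q.index ∧ ∀ x : G, x ∈ Q ⊓ commutator G ↔ ∃ a ∈ Q ⊓ ⁅Subgroup.normalizer ((W Q : Subgroup G) : Set G), Subgroup.normalizer ((W Q : Subgroup G) : Set G)⁆, ∃ b ∈ Q ⊓ ⁅Subgroup.centralizer ((V Q : Subgroup G) : Set G), Subgroup.centralizer ((V Q : Subgroup G) : Set G)⁆, x = a * b := by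
  refine ⟨(P : Subgroup G), P.2, P.not_dvd_index, ?_⟩
  have hmain := Cfsg.Agent.Helper1.NH.local_to_global_transfer_WV hdiv P W V hW hV hWZ hVZ hVmono ?_
  · intro x
    constructor
    · intro hx
      have h1 := hmain hx
      have hnorm : (P : Subgroup G) ⊓ ⁅Subgroup.centralizer ((V (P : Subgroup G) : Subgroup G) : Set G),
          Subgroup.centralizer ((V (P : Subgroup G) : Subgroup G) : Set G)⁆ ≤
          Subgroup.normalizer ((((P : Subgroup G) ⊓
            ⁅Subgroup.normalizer ((W (P : Subgroup G) : Subgroup G) : Set G),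
              Subgroup.normalizer ((W (P : Subgroup G) : Subgroup G) : Set G)⁆ : Subgroup G)) : Set G) := by
        intro g hg
        have hgP : g ∈ (P : Subgroup G) := (Subgroup.mem_inf.mp hg).1
        have hgN : g ∈ Subgroup.normalizer ((W (P : Subgroup G) : Subgroup G) : Set G) :=
          Cfsg.Agent.Lead.le_normalizer_functor hW P.2 hgP
        have hfwd : ∀ k ∈ Subgroup.normalizer ((W (P : Subgroup G) : Subgroup G) : Set G),
            k ∈ (P : Subgroup G) →
            ∀ n ∈ (P : Subgroup G) ⊓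
              ⁅Subgroup.normalizer ((W (P : Subgroup G) : Subgroup G) : Set G),
                Subgroup.normalizer ((W (P : Subgroup G) : Subgroup G) : Set G)⁆,
            k * n * k⁻¹ ∈ (P : Subgroup G) ⊓
              ⁅Subgroup.normalizer ((W (P : Subgroup G) : Subgroup G) : Set G),
                Subgroup.normalizer ((W (P : Subgroup G) : Subgroup G) : Set G)⁆ := by
          intro k hkN hkP n hn
          obtain ⟨hn1, hn2⟩ := Subgroup.mem_inf.mp hn
          refine Subgroup.mem_inf.mpr ⟨(P : Subgroup G).mul_mem ((P : Subgroup G).mul_mem hkP hn1)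
            ((P : Subgroup G).inv_mem hkP), ?_⟩
          have h1 : (⁅Subgroup.normalizer ((W (P : Subgroup G) : Subgroup G) : Set G),
              Subgroup.normalizer ((W (P : Subgroup G) : Subgroup G) : Set G)⁆).map
              (MulAut.conj k).toMonoidHom =
              ⁅Subgroup.normalizer ((W (P : Subgroup G) : Subgroup G) : Set G),
                Subgroup.normalizer ((W (P : Subgroup G) : Subgroup G) : Set G)⁆ := by
            rw [Subgroup.map_commutator, Cfsg.Agent.Lead.map_conj_eq_self_of_mem hkN]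
          rw [← h1]
          exact ⟨n, hn2, by simp [MulAut.conj_apply]⟩
        rw [Subgroup.mem_normalizer_iff]
        intro n
        constructor
        · intro hn
          exact hfwd g hgN hgP n hn
        · intro hn
          have := hfwd g⁻¹ (Subgroup.inv_mem _ hgN) ((P : Subgroup G).inv_mem hgP) _ hn
          have e : g⁻¹ * (g * n * g⁻¹) * g⁻¹⁻¹ = n := by group
          rw [e] at this
          exact this
      obtain ⟨a, ha, b, hb, hab⟩ := Cfsg.Agent.Helper1.mem_sup_of_le_normalizer hnorm h1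
      exact ⟨a, ha, b, hb, hab⟩
    · rintro ⟨a, ha, b, hb, rfl⟩
      obtain ⟨ha1, ha2⟩ := Subgroup.mem_inf.mp ha
      obtain ⟨hb1, hb2⟩ := Subgroup.mem_inf.mp hb
      refine Subgroup.mem_inf.mpr ⟨(P : Subgroup G).mul_mem ha1 hb1, ?_⟩
      rw [commutator_def]
      exact Subgroup.mul_mem _ (Subgroup.commutator_mono le_top le_top ha2)
        (Subgroup.commutator_mono le_top le_top hb2)
  · intro H hZH hHP
    obtain ⟨Q, hQN, hQp, hQidx, hQ⟩ := hloc H hZH hHP
    exact ⟨Q, hQN, hQp, hQidx, fun x hx => (hQ x).mp hx⟩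

end Cfsg.Agent.S2001
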