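import Mathlib
import Cfsg.Agent.Helper5.NormalPComplement
import Cfsg.Statements.S2007
-- import your own Cfsg.Agent.* helpers here

set_option autoImplicit false
open Cfsg

namespace Cfsg.Agent.S2007

/-- Let p be a prime, G a finite group with Sylow p-subgroup S, and T a normal subgroup of S containing C_S(T). If N_G(T)/C_G(T) is a p-group (every element of N_G(T) of order prime to p centralizes T), then N_G(T) has a normal p-complement. -/
theorem result {G : Type*} [Group G] [Finite G] {p : ℕ} [Fact p.Prime] (S : Sylow p G) (T : Subgroup G) (hTS : T ≤ (S : Subgroup G)) (hTn : (S : Subgroup G) ≤ Subgroup.normalizer ((T : Subgroup G) : Set G)) (hC : (S : Subgroup G) ⊓ Subgroup.centralizer ((T : Subgroup G) : Set G) ≤ T) (hN : ∀ g ∈ Subgroup.normalizer ((T : Subgroup G) : Set G), (orderOf g).Coprime p → g ∈ Subgroup.centralizer ((T : Subgroup G) : Set G)) : Cfsg.HasNormalPComplement p ↥(Subgroup.normalizer ((T : Subgroup G) : Set G)) := by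
  set N := Subgroup.normalizer ((T : Subgroup G) : Set G) with hNdef
  have hTn' : (T.subgroupOf N).Normal := Subgroup.normal_in_normalizer
  have hTN : T ≤ N := Subgroup.le_normalizer
  have hcenIff : ∀ y : ↥N, y ∈ Subgroup.centralizer ((T.subgroupOf N : Subgroup ↥N) : Set ↥N) ↔
      (y : G) ∈ Subgroup.centralizer ((T : Subgroup G) : Set G) := by
    intro y
    rw [Subgroup.mem_centralizer_iff, Subgroup.mem_centralizer_iff]
    constructor
    · intro h t ht
      have := h ⟨t, hTN ht⟩ (Subgroup.mem_subgroupOf.mpr ht)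
      exact congrArg Subtype.val this
    · intro h t ht
      exact Subtype.ext (h (t : G) (Subgroup.mem_subgroupOf.mp ht))
  apply Cfsg.Agent.Helper5.hasNormalPComplement_of_centralizer (T.subgroupOf N) (S.subtype hTn)
  · intro y hy
    rw [Subgroup.mem_subgroupOf]
    apply hC
    refine ⟨?_, (hcenIff y).mp hy.2⟩
    have h1 : y ∈ ((S.subtype hTn : Sylow p ↥N) : Subgroup ↥N) := hy.1
    rw [Sylow.coe_subtype] at h1
    exact Subgroup.mem_subgroupOf.mp h1
  · intro y hy
    rw [hcenIff]
    apply hN (y : G) y.2
    rwa [Subgroup.orderOf_coe]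

end Cfsg.Agent.S2007
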