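import Mathlib
import Cfsg.Statements.S2009
-- import your own Cfsg.Agent.* helpers here

set_option autoImplicit false
open Cfsg

namespace Cfsg.Agent.S2009

/-- A fixed-point-free involutory conjugation on a finite normal subgroup inverts it. -/
theorem inverts_of_fpf {H : Type*} [Group H] [Finite H] (N : Subgroup H) [hN : N.Normal] (e : H)
    (he : e * e = 1) (hfpf : ∀ n ∈ N, e * n * e⁻¹ = n → n = 1) : ∀ n ∈ N, e * n * e⁻¹ = n⁻¹ := by
  let f : ↥N → ↥N := fun n => ⟨(n : H)⁻¹ * (e * n * e⁻¹), N.mul_mem (N.inv_mem n.2) (hN.conj_mem n n.2 e)⟩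
  have hinj : Function.Injective f := by
    intro n m hnm
    have h1 : (n : H)⁻¹ * (e * n * e⁻¹) = (m : H)⁻¹ * (e * m * e⁻¹) := congrArg Subtype.val hnm
    have h2 : e * ((m : H) * (n : H)⁻¹) * e⁻¹ = (m : H) * (n : H)⁻¹ := by
      calc e * ((m : H) * (n : H)⁻¹) * e⁻¹ = (e * m * e⁻¹) * (e * n * e⁻¹)⁻¹ := by group
        _ = (m : H) * ((m : H)⁻¹ * (e * m * e⁻¹)) * (e * n * e⁻¹)⁻¹ := by group
        _ = (m : H) * ((n : H)⁻¹ * (e * n * e⁻¹)) * (e * n * e⁻¹)⁻¹ := by rw [h1]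
        _ = (m : H) * (n : H)⁻¹ := by group
    have h3 := hfpf _ (N.mul_mem m.2 (N.inv_mem n.2)) h2
    apply Subtype.ext
    exact (mul_inv_eq_one.mp h3).symm
  have hsurj : Function.Surjective f := Finite.injective_iff_surjective.mp hinj
  intro n hn
  obtain ⟨m, hm⟩ := hsurj ⟨n, hn⟩
  have hm' : (m : H)⁻¹ * (e * m * e⁻¹) = n := congrArg Subtype.val hm
  have heinv : e⁻¹ = e := inv_eq_of_mul_eq_one_right he
  rw [← hm']
  calc e * ((m : H)⁻¹ * (e * m * e⁻¹)) * e⁻¹ = (e * m * e⁻¹)⁻¹ * ((e * e) * m * (e⁻¹ * e⁻¹)) := by group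
    _ = (e * m * e⁻¹)⁻¹ * m := by rw [he, heinv, he]; group
    _ = ((m : H)⁻¹ * (e * m * e⁻¹))⁻¹ := by group

theorem exists_two_ne {H : Type*} [Group H] [Finite H] (E : Subgroup H) (hE : IsKleinFour ↥E) :
    ∃ a b : ↥E, a ≠ 1 ∧ b ≠ 1 ∧ b ≠ a := by
  classical
  have hcard : Nat.card ↥E = 4 := hE.card_four
  have : Finite ↥E := inferInstance
  have hone : 1 < Nat.card ↥E := by rw [hcard]; norm_num
  obtain ⟨a, ha1⟩ : ∃ a : ↥E, a ≠ 1 := by
    have : Nontrivial ↥E := Finite.one_lt_card_iff_nontrivial.mp hone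
    exact exists_ne 1
  obtain ⟨b, hb1, hba⟩ : ∃ b : ↥E, b ≠ 1 ∧ b ≠ a := by
    by_contra hcon
    push Not at hcon
    have hsub : ∀ x : ↥E, x ∈ ({1, a} : Finset ↥E) := by
      intro x
      by_cases hx : x = 1
      · simp [hx]
      · simp [hcon x hx]
    have : Fintype ↥E := Fintype.ofFinite _
    have h1 : Fintype.card ↥E ≤ ({1, a} : Finset ↥E).card := by
      rw [← Finset.card_univ]
      exact Finset.card_le_card (fun x _ => hsub x)
    have h2 : ({1, a} : Finset ↥E).card ≤ 2 := Finset.card_le_two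
    rw [Nat.card_eq_fintype_card] at hcard
    omega
  exact ⟨a, b, ha1, hb1, hba⟩

/-- Under the hypotheses, every proper normal subgroup is trivial. -/
theorem proper_normal_eq_bot {H : Type*} [Group H] [Finite H] (z : H)
    (hN : ∀ N : Subgroup H, N.Normal → N ≠ ⊤ → N ⊓ Subgroup.centralizer ({z} : Set H) = ⊥)
    (E : Subgroup H) (hE : IsKleinFour ↥E) (hc : ∀ e ∈ E, e ≠ 1 → IsConj z e)
    (N : Subgroup H) (hNn : N.Normal) (hNt : N ≠ ⊤) : N = ⊥ := by
  classical
  have hsq : ∀ e ∈ E, e * e = 1 := by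
    intro e he
    have h1 : (⟨e, he⟩ : ↥E) ^ 2 = 1 := by
      rw [← hE.exponent_two]; exact Monoid.pow_exponent_eq_one _
    have h2 := congrArg Subtype.val h1
    rw [sq] at h2
    exact h2
  have hfpf : ∀ e ∈ E, e ≠ 1 → ∀ n ∈ N, e * n * e⁻¹ = n → n = 1 := by
    intro e he he1 n hn hen
    obtain ⟨c, hc'⟩ := isConj_iff.mp (hc e he he1)
    have h1 : c⁻¹ * n * c ∈ N ⊓ Subgroup.centralizer ({z} : Set H) := by
      refine ⟨?_, ?_⟩
      · have := hNn.conj_mem n hn c⁻¹
        rwa [inv_inv] at this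
      · apply Subgroup.mem_centralizer_singleton_iff.mpr
        have h2 : e * n = n * e := by
          calc e * n = (e * n * e⁻¹) * e := by group
            _ = n * e := by rw [hen]
        calc c⁻¹ * n * c * z = c⁻¹ * (n * (c * z * c⁻¹)) * c := by group
          _ = c⁻¹ * (n * e) * c := by rw [hc']
          _ = c⁻¹ * (e * n) * c := by rw [h2]
          _ = c⁻¹ * ((c * z * c⁻¹) * n) * c := by rw [hc']
          _ = z * (c⁻¹ * n * c) := by group
    rw [hN N hNn hNt, Subgroup.mem_bot] at h1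
    calc n = c * (c⁻¹ * n * c) * c⁻¹ := by group
      _ = 1 := by rw [h1]; group
  obtain ⟨a, b, ha1, hb1, hba⟩ := exists_two_ne E hE
  have ha1' : (a : H) ≠ 1 := fun h => ha1 (Subtype.ext h)
  have hb1' : (b : H) ≠ 1 := fun h => hb1 (Subtype.ext h)
  have hab1 : (a : H) * b ≠ 1 := by
    intro h
    apply hba
    apply Subtype.ext
    have h2 := hsq a a.2
    have : (a : H) * b = a * a := by rw [h, h2]
    exact (mul_left_cancel this)
  have hia := inverts_of_fpf N a (hsq a a.2) (hfpf a a.2 ha1')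
  have hib := inverts_of_fpf N b (hsq b b.2) (hfpf b b.2 hb1')
  have hiab := inverts_of_fpf N ((a : H) * b) (hsq _ (E.mul_mem a.2 b.2))
    (hfpf _ (E.mul_mem a.2 b.2) hab1)
  rw [eq_bot_iff]
  intro n hn
  rw [Subgroup.mem_bot]
  have h1 : (a : H) * b * n * ((a : H) * b)⁻¹ = n := by
    calc (a : H) * b * n * ((a : H) * b)⁻¹ = a * ((b : H) * n * (b : H)⁻¹) * (a : H)⁻¹ := by group
      _ = a * n⁻¹ * (a : H)⁻¹ := by rw [hib n hn]
      _ = n := by rw [hia n⁻¹ (N.inv_mem hn), inv_inv]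
  have h2 := hiab n hn
  rw [h1] at h2
  -- n = n⁻¹, so a centralizes n
  apply hfpf a a.2 ha1' n hn
  rw [hia n hn, ← h2]

/-- Let H be a finite group and z an involution such that every proper normal subgroup of H meets the centralizer of z trivially, and suppose z lies in a Klein four-subgroup E of H all three of whose involutions are conjugate to z in H. Then H is simple. -/
theorem result {H : Type*} [Group H] [Finite H] (z : H) (hz : orderOf z = 2) (hN : ∀ N : Subgroup H, N.Normal → N ≠ ⊤ → N ⊓ Subgroup.centralizer ({z} : Set H) = ⊥) (E : Subgroup H) (hE : IsKleinFour ↥E) (hzE : z ∈ E) (hc : ∀ e ∈ E, e ≠ 1 → IsConj z e) : IsSimpleGroup H := by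
  have hz1 : z ≠ 1 := by
    intro h
    rw [h, orderOf_one] at hz
    norm_num at hz
  have : Nontrivial H := ⟨⟨z, 1, hz1⟩⟩
  refine ⟨fun N hNn => ?_⟩
  by_cases hNt : N = ⊤
  · exact Or.inr hNt
  · exact Or.inl (proper_normal_eq_bot z hN E hE hc N hNn hNt)

end Cfsg.Agent.S2009
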