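import Mathlib
import Cfsg.Agent.S2009
import Cfsg.Statements.S2008
-- import your own Cfsg.Agent.* helpers here

set_option autoImplicit false
open Cfsg

namespace Cfsg.Agent.S2008

/-- Let H be a finite group and z an involution such that every proper normal subgroup of H meets the centralizer of z trivially, and suppose z lies in a Klein four-subgroup E of H all three of whose involutions are conjugate to z in H. Then H has no non-trivial abelian normal subgroup. -/
theorem result {H : Type*} [Group H] [Finite H] (z : H) (hz : orderOf z = 2) (hN : ∀ N : Subgroup H, N.Normal → N ≠ ⊤ → N ⊓ Subgroup.centralizer ({z} : Set H) = ⊥) (E : Subgroup H) (hE : IsKleinFour ↥E) (hzE : z ∈ E) (hc : ∀ e ∈ E, e ≠ 1 → IsConj z e) (N : Subgroup H) [N.Normal] (hab : IsMulCommutative ↥N) : N = ⊥ := by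
  by_cases hNt : N = ⊤
  · exfalso
    obtain ⟨a, b, ha1, hb1, hba⟩ := Cfsg.Agent.S2009.exists_two_ne E hE
    have ha1' : (a : H) ≠ 1 := fun h => ha1 (Subtype.ext h)
    have hb1' : (b : H) ≠ 1 := fun h => hb1 (Subtype.ext h)
    have hcomm : ∀ x y : H, x * y = y * x := by
      intro x y
      have hx : x ∈ N := by rw [hNt]; trivial
      have hy : y ∈ N := by rw [hNt]; trivial
      exact setLike_mul_comm hx hy
    have heq : ∀ e : H, IsConj z e → z = e := by
      intro e he
      obtain ⟨c, hc'⟩ := isConj_iff.mp he
      rw [← hc', hcomm c z, mul_inv_cancel_right]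
    have h1 := heq a (hc a a.2 ha1')
    have h2 := heq b (hc b b.2 hb1')
    apply hba
    apply Subtype.ext
    rw [← h1, ← h2]
  · exact Cfsg.Agent.S2009.proper_normal_eq_bot z hN E hE hc N inferInstance hNt

end Cfsg.Agent.S2008
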