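import Mathlib
import Cfsg.Agent.Lead.GroupFusion
import Cfsg.Agent.Helper1.Coprime
import Cfsg.Agent.Helper5.NormalPComplement
import Cfsg.Agent.Helper5.PPrimeCore
import Cfsg.Agent.Helper5.ChermakDelgado
import Cfsg.Agent.Helper5.Basic
import Cfsg.Statements.S2011
-- import your own Cfsg.Agent.* helpers here

set_option autoImplicit false
open Cfsg

namespace Cfsg.Agent.S2011

/-- Let G be a finite group with Sylow p-subgroup P and Q ≤ P. Then Q is centric in the fusion system of G on P (C_P(R) ≤ R for every G-conjugate R of Q lying in P) if and only if C_G(Q) is the internal direct product of Z(Q) = Q ∩ C_G(Q) and the largest normal subgroup of C_G(Q) of order prime to p. -/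
theorem result {G : Type*} [Group G] [Finite G] (p : ℕ) [Fact p.Prime] (P : Sylow p G) (Q : Subgroup G) (hQ : Q ≤ P) : (Cfsg.groupFusionSystem (P : Subgroup G)).IsCentric Q ↔ Cfsg.IsInternalDirectProduct (Q ⊓ Subgroup.centralizer (Q : Set G)) ((Cfsg.pPrimeCore p ↥(Subgroup.centralizer (Q : Set G))).map (Subgroup.centralizer (Q : Set G)).subtype) (Subgroup.centralizer (Q : Set G)) := by
  open Cfsg.Agent.Helper5 in
  have hpp : p.Prime := Fact.out
  have hQp : IsPGroup p ↥Q := P.isPGroup'.to_le hQ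
  set C : Subgroup G := Subgroup.centralizer (Q : Set G) with hC
  set K : Subgroup G := (Cfsg.pPrimeCore p ↥C).map C.subtype with hK
  have hZC : Q ⊓ C ≤ C := inf_le_right
  have hKC : K ≤ C := Subgroup.map_subtype_le _
  have hcomm : ∀ a ∈ Q ⊓ C, ∀ b ∈ K, a * b = b * a := by
    intro a ha b hb
    exact (Subgroup.mem_centralizer_iff.mp (hKC hb)) a ha.1
  have hKcard : Nat.card ↥K = Nat.card ↥(Cfsg.pPrimeCore p ↥C) :=
    Subgroup.card_map_of_injective C.subtype_injective
  have hKcop : (Nat.card ↥K).Coprime p := by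
    rw [hKcard]; exact coprime_card_pPrimeCore p
  have hZp : IsPGroup p ↥(Q ⊓ C) := hQp.to_le inf_le_left
  have hdisj : (Q ⊓ C) ⊓ K = ⊥ := by
    apply Disjoint.eq_bot
    apply Subgroup.disjoint_of_coprime_natCard
    obtain ⟨k, hk⟩ := IsPGroup.iff_card.mp hZp
    rw [hk]
    exact Nat.Coprime.pow_left _ hKcop.symm
  constructor
  · -- centric ⇒ direct product
    rintro ⟨-, hcen⟩
    refine ⟨hZC, hKC, hcomm, hdisj, ?_⟩
    -- a Sylow subgroup of C containing Z
    have hZcp : IsPGroup p ↥((Q ⊓ C).subgroupOf C) := hZp.comap_subtype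
    obtain ⟨SC, hSC⟩ := hZcp.exists_le_sylow
    -- SC ≤ Zc
    have hSCle : (SC : Subgroup ↥C) ≤ (Q ⊓ C).subgroupOf C := by
      have hDp : IsPGroup p ↥((SC : Subgroup ↥C).map C.subtype) := SC.isPGroup'.map _
      have hDC : (SC : Subgroup ↥C).map C.subtype ≤ C := Subgroup.map_subtype_le _
      have hDN : (SC : Subgroup ↥C).map C.subtype ≤ Subgroup.normalizer (Q : Set G) :=
        hDC.trans (Subgroup.centralizer_le_normalizer _)
      have hQD : IsPGroup p ↥(Q ⊔ (SC : Subgroup ↥C).map C.subtype) :=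
        IsPGroup.to_sup_of_normal_left' hQp hDp hDN
      obtain ⟨g, hg⟩ := exists_conj_le_sylow P _ hQD
      have hRP : Q.map (MulAut.conj g).toMonoidHom ≤ (P : Subgroup G) := by
        rw [map_conj_le_iff]
        intro x hx
        exact hg x (Subgroup.mem_sup_left hx)
      have hconj : (Cfsg.groupFusionSystem (P : Subgroup G)).IsConj Q (Q.map (MulAut.conj g).toMonoidHom) := by
        rw [Cfsg.Agent.Lead.groupFusionSystem_isConj_iff]
        exact ⟨hQ, hRP, g, rfl⟩
      have hcR := hcen _ hconj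
      intro d hd
      rw [Subgroup.mem_subgroupOf]
      have hdD : (d : G) ∈ (SC : Subgroup ↥C).map C.subtype := ⟨d, hd, rfl⟩
      have h1 : g * (d : G) * g⁻¹ ∈ (P : Subgroup G) := hg _ (Subgroup.mem_sup_right hdD)
      have h2 : g * (d : G) * g⁻¹ ∈ Subgroup.centralizer ((Q.map (MulAut.conj g).toMonoidHom : Subgroup G) : Set G) := by
        rw [Subgroup.mem_centralizer_iff]
        rintro _ ⟨q, hq, rfl⟩
        have hdq : q * (d : G) = (d : G) * q := (Subgroup.mem_centralizer_iff.mp d.2) q hq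
        show (MulAut.conj g) q * (g * (d : G) * g⁻¹) = g * (d : G) * g⁻¹ * (MulAut.conj g) q
        rw [MulAut.conj_apply]
        calc g * q * g⁻¹ * (g * (d : G) * g⁻¹) = g * (q * (d : G)) * g⁻¹ := by group
          _ = g * ((d : G) * q) * g⁻¹ := by rw [hdq]
          _ = g * (d : G) * g⁻¹ * (g * q * g⁻¹) := by group
      have h3 : g * (d : G) * g⁻¹ ∈ Q.map (MulAut.conj g).toMonoidHom := hcR ⟨h1, h2⟩
      rw [mem_map_conj_iff] at h3
      have h4 : g⁻¹ * (g * (d : G) * g⁻¹) * g = (d : G) := by group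
      rw [h4] at h3
      exact ⟨h3, d.2⟩
    have hSCeq : (SC : Subgroup ↥C) = (Q ⊓ C).subgroupOf C := le_antisymm hSCle hSC
    -- Z is central in C
    have hZcentral : ∀ y : ↥C, y ∈ Subgroup.centralizer (((Q ⊓ C).subgroupOf C : Subgroup ↥C) : Set ↥C) := by
      intro y
      rw [Subgroup.mem_centralizer_iff]
      intro z hz
      have hz' : z ∈ (Q ⊓ C).subgroupOf C := hz
      rw [Subgroup.mem_subgroupOf] at hz'
      apply Subtype.ext
      exact (Subgroup.mem_centralizer_iff.mp y.2) z hz'.1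
    have hTn : ((Q ⊓ C).subgroupOf C).Normal := by
      constructor
      intro n hn g
      have := (Subgroup.mem_centralizer_iff.mp (hZcentral g)) n hn
      have h2 : g * n * g⁻¹ = n := by rw [← this]; group
      rw [h2]; exact hn
    have hNPC : Cfsg.HasNormalPComplement p ↥C := by
      apply hasNormalPComplement_of_centralizer ((Q ⊓ C).subgroupOf C) SC
      · rw [hSCeq]; exact inf_le_left
      · intro y _; exact hZcentral y
    obtain ⟨S', N, hNn, hNS'⟩ := hNPC
    have hcard1 := hNS'.card_mul_card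
    have hcard2 := Subgroup.card_mul_index (S' : Subgroup ↥C)
    have hS'card : Nat.card ↥(S' : Subgroup ↥C) = Nat.card ↥(SC : Subgroup ↥C) := by
      rw [Sylow.card_eq_multiplicity, Sylow.card_eq_multiplicity]
    have hNidx : Nat.card ↥N = (S' : Subgroup ↥C).index := by
      have hpos : 0 < Nat.card ↥(S' : Subgroup ↥C) := Nat.card_pos
      have : Nat.card ↥N * Nat.card ↥(S' : Subgroup ↥C) = (S' : Subgroup ↥C).index * Nat.card ↥(S' : Subgroup ↥C) := by
        rw [hcard1, mul_comm, hcard2]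
      exact Nat.eq_of_mul_eq_mul_right hpos this
    have hNcop : (Nat.card ↥N).Coprime p := by
      rw [hNidx, Nat.coprime_comm, hpp.coprime_iff_not_dvd]
      exact S'.not_dvd_index
    have hNle : N ≤ Cfsg.pPrimeCore p ↥C := le_pPrimeCore hNn hNcop
    have hZcard : Nat.card ↥(SC : Subgroup ↥C) = Nat.card ↥(Q ⊓ C) := by
      rw [hSCeq]
      exact Nat.card_congr (Subgroup.subgroupOfEquivOfLe hZC).toEquiv
    -- cardinality comparison
    have hCle : Nat.card ↥C ≤ Nat.card ↥(Q ⊓ C) * Nat.card ↥K := by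
      rw [← hcard1, hS'card, hZcard, hKcard, mul_comm]
      exact Nat.mul_le_mul_left _ (Subgroup.card_le_of_le hNle)
    have hsup_le : (Q ⊓ C) ⊔ K ≤ C := sup_le hZC hKC
    apply Subgroup.eq_of_le_of_card_ge hsup_le
    open scoped Pointwise in
    have h4 := card_mul_set_mul_card_inf (Q ⊓ C) K
    rw [hdisj, Subgroup.card_bot, mul_one] at h4
    have h5 : Nat.card ((((Q ⊓ C : Subgroup G) : Set G) * (K : Set G) : Set G)) ≤ Nat.card ↥((Q ⊓ C) ⊔ K) :=
      Nat.card_mono (Set.toFinite _) (mul_subset_sup _ _)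
    rw [h4] at h5
    exact hCle.trans h5
  · -- direct product ⇒ centric
    rintro ⟨-, -, -, -, hsup⟩
    refine ⟨hQ, ?_⟩
    intro R hR
    rw [Cfsg.Agent.Lead.groupFusionSystem_isConj_iff] at hR
    obtain ⟨-, hRP, g, rfl⟩ := hR
    rintro x ⟨hxP, hxC⟩
    rw [mem_map_conj_iff]
    -- x' = g⁻¹ x g ∈ C
    have hx'C : g⁻¹ * x * g ∈ C := by
      rw [hC, Subgroup.mem_centralizer_iff]
      intro q hq
      have h1 := (Subgroup.mem_centralizer_iff.mp hxC) (g * q * g⁻¹) (conj_mem_map_conj Q g q hq)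
      calc q * (g⁻¹ * x * g) = g⁻¹ * (g * q * g⁻¹ * x) * g := by group
        _ = g⁻¹ * (x * (g * q * g⁻¹)) * g := by rw [h1]
        _ = g⁻¹ * x * g * q := by group
    rw [← hsup] at hx'C
    have hZnK : Q ⊓ C ≤ Subgroup.normalizer (K : Set G) := by
      intro z hz
      have : z ∈ Subgroup.centralizer (K : Set G) := by
        rw [Subgroup.mem_centralizer_iff]
        intro b hb
        exact (hcomm z hz b hb).symm
      exact Subgroup.centralizer_le_normalizer _ this
    rw [sup_comm] at hx'C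
    obtain ⟨k, hk, z, hz, hkz⟩ := Cfsg.Agent.Helper1.mem_sup_of_le_normalizer hZnK hx'C
    -- x' is a p-element
    obtain ⟨a, ha⟩ := (P.isPGroup' ⟨x, hxP⟩)
    have hxa : x ^ p ^ a = 1 := by simpa using congrArg Subtype.val ha
    have hx'a : (g⁻¹ * x * g) ^ p ^ a = 1 := by
      have : (g⁻¹ * x * g) ^ p ^ a = g⁻¹ * x ^ p ^ a * g := by
        have h := map_pow (MulAut.conj g⁻¹) x (p ^ a)
        simpa [MulAut.conj_apply] using h.symm
      rw [this, hxa]; group
    have hkzc : Commute k z := (hcomm z hz k hk).symm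
    rw [hkz, hkzc.mul_pow] at hx'a
    have hkpow : k ^ p ^ a ∈ (Q ⊓ C) ⊓ K := by
      refine ⟨?_, K.pow_mem hk _⟩
      have : k ^ p ^ a = (z ^ p ^ a)⁻¹ := eq_inv_of_mul_eq_one_left hx'a
      rw [this]
      exact Subgroup.inv_mem _ (Subgroup.pow_mem _ hz _)
    rw [hdisj, Subgroup.mem_bot] at hkpow
    have hk1 : k = 1 := by
      have h1 : orderOf k ∣ p ^ a := orderOf_dvd_of_pow_eq_one hkpow
      have h2 : orderOf k ∣ Nat.card ↥K := Subgroup.orderOf_dvd_natCard _ hk
      have h3 : (Nat.card ↥K).Coprime (p ^ a) := Nat.Coprime.pow_right _ hKcop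
      have h4 : orderOf k = 1 := Nat.eq_one_of_dvd_coprimes h3 h2 h1
      exact orderOf_eq_one_iff.mp h4
    rw [hkz, hk1, one_mul]
    exact hz.1

end Cfsg.Agent.S2011
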