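import Mathlib
import Cfsg.Agent.Helper5.Basic
import Cfsg.Agent.Helper5.StrongEmb
import Cfsg.Agent.Helper5.PResidual
import Cfsg.Statements.S2014
-- import your own Cfsg.Agent.* helpers here

set_option autoImplicit false
open Cfsg Cfsg.Agent.Helper5

namespace Cfsg.Agent.S2014

/-- Let P be a Sylow p-subgroup of a finite group G and A, C ≤ P subgroups conjugate in G, with C extremal: N_P(C) is a Sylow p-subgroup of N_G(C). Then there is g with gAg⁻¹ = C and g N_P(A) g⁻¹ ≤ N_P(C); moreover, given any h with hAh⁻¹ = C, g can be chosen so that h g⁻¹ lies in O^p(N_G(C)), the subgroup of N_G(C) generated by its elements of order prime to p. -/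
theorem result {G : Type*} [Group G] [Finite G] (p : ℕ) [Fact p.Prime] (P : Sylow p G) (A C : Subgroup G) (hA : A ≤ P) (hC : C ≤ P) (hext : ¬ p ∣ ((P : Subgroup G) ⊓ Subgroup.normalizer ((C : Subgroup G) : Set G)).relIndex (Subgroup.normalizer ((C : Subgroup G) : Set G))) (h : G) (hh : A.map (MulAut.conj h).toMonoidHom = C) : ∃ g : G, A.map (MulAut.conj g).toMonoidHom = C ∧ ((P : Subgroup G) ⊓ Subgroup.normalizer ((A : Subgroup G) : Set G)).map (MulAut.conj g).toMonoidHom ≤ (P : Subgroup G) ⊓ Subgroup.normalizer ((C : Subgroup G) : Set G) ∧ h * g⁻¹ ∈ (Cfsg.pResidual p ↥(Subgroup.normalizer ((C : Subgroup G) : Set G))).map (Subgroup.normalizer ((C : Subgroup G) : Set G)).subtype := by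
  classical
  set N := Subgroup.normalizer ((C : Subgroup G) : Set G) with hN
  have hTp : IsPGroup p ↥(((P : Subgroup G) ⊓ N).subgroupOf N) :=
    (P.isPGroup'.to_le inf_le_left).comap_subtype
  let ST : Sylow p ↥N := hTp.toSylow hext
  have hSTmem : ∀ y : ↥N, y ∈ (ST : Subgroup ↥N) ↔ (y : G) ∈ (P : Subgroup G) ⊓ N := by
    intro y
    rw [show (ST : Subgroup ↥N) = ((P : Subgroup G) ⊓ N).subgroupOf N from IsPGroup.toSylow_coe hTp hext,
      Subgroup.mem_subgroupOf]
  -- Q = h N_P(A) h⁻¹ ≤ N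
  set Q := ((P : Subgroup G) ⊓ Subgroup.normalizer ((A : Subgroup G) : Set G)).map (MulAut.conj h).toMonoidHom
    with hQ
  have hQN : Q ≤ N := by
    rw [hN, ← hh, normalizer_map_conj]
    exact Subgroup.map_mono inf_le_right
  have hQp : IsPGroup p ↥Q := (P.isPGroup'.to_le inf_le_left).map _
  have hQ'p : IsPGroup p ↥(Q.subgroupOf N) := hQp.comap_subtype
  obtain ⟨n, hn⟩ := exists_conj_le_sylow ST (Q.subgroupOf N) hQ'p
  -- decompose n = t * r
  have hsup := pResidual_sup_sylow (G := ↥N) ST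
  have hn_mem : n ∈ ((ST : Subgroup ↥N) ⊔ Cfsg.pResidual p ↥N : Subgroup ↥N) := by
    rw [sup_comm, hsup]; trivial
  haveI hRc : (Cfsg.pResidual p ↥N).Characteristic := pResidual_characteristic (G := ↥N) p
  have hRn : (Cfsg.pResidual p ↥N).Normal := inferInstance
  rw [← SetLike.mem_coe, Subgroup.mul_normal] at hn_mem
  obtain ⟨t, ht, r, hr, htr⟩ := hn_mem
  have hr_conj : ∀ x ∈ Q.subgroupOf N, r * x * r⁻¹ ∈ (ST : Subgroup ↥N) := by
    intro x hx
    have h1 := hn x hx
    rw [← htr] at h1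
    have h2 : r * x * r⁻¹ = t⁻¹ * (t * r * x * (t * r)⁻¹) * t := by group
    rw [h2]
    exact Subgroup.mul_mem _ (Subgroup.mul_mem _ (Subgroup.inv_mem _ ht) h1) ht
  refine ⟨(r : G) * h, ?_, ?_, ?_⟩
  · rw [← map_conj_map_conj, hh]
    exact (mem_normalizer_iff_map_conj C (r : G)).mp r.2
  · rw [← map_conj_map_conj, ← hQ]
    rw [map_conj_le_iff]
    intro y hy
    have h1 := hr_conj ⟨y, hQN hy⟩ (by rw [Subgroup.mem_subgroupOf]; exact hy)
    rw [hSTmem] at h1
    simpa using h1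
  · refine ⟨r⁻¹, Subgroup.inv_mem _ hr, ?_⟩
    simp

end Cfsg.Agent.S2014
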