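import Mathlib
import Cfsg.Statements.S2087
import Cfsg.Agent.Helper3.StemD
import Cfsg.Agent.S2117
import Cfsg.Agent.S0255
import Cfsg.Agent.Helper4.L2pPSL
import Cfsg.Agent.Helper7.LinearCard
-- import your own Cfsg.Agent.* helpers here

set_option autoImplicit false
open Cfsg

namespace Cfsg.Agent.S2087

open Cfsg.Agent.Helper3 Cfsg.Agent.Helper3.Stem

universe u

/-- A finite group of order at most 2 is a homomorphic image of the cyclic group of order 2. -/
theorem exists_surjective_of_card_le_two {A : Type*} [Group A] [Finite A] (h : Nat.card A ≤ 2) :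
    ∃ π : Multiplicative (ZMod 2) →* A, Function.Surjective π := by
  have hpos : 0 < Nat.card A := Nat.card_pos
  have hc : Nat.card A = 1 ∨ Nat.card A = 2 := by omega
  rcases hc with hc | hc
  · refine ⟨1, ?_⟩
    intro y
    have : Subsingleton A := (Nat.card_eq_one_iff_unique.mp hc).1
    exact ⟨1, Subsingleton.elim _ _⟩
  · have : Fact (Nat.Prime 2) := ⟨Nat.prime_two⟩
    have h2 : Nat.card (Multiplicative (ZMod 2)) = 2 := by
      rw [Nat.card_eq_fintype_card]; rfl
    let e : Multiplicative (ZMod 2) ≃* A := mulEquivOfPrimeCardEq (p := 2) h2 hc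
    exact ⟨e.toMonoidHom, e.surjective⟩

theorem main {F : Type u} [Field F] [Fintype F] (hF : Fintype.card F = 2) :
    Cfsg.HasCyclicSchurMultiplier (Matrix.ProjectiveSpecialLinearGroup (Fin 3) F) 2 := by
  have hK : Fintype.card (ULift.{u} (ZMod 7)) = 7 := by
    rw [Fintype.card_ulift, ZMod.card]
  obtain ⟨ε⟩ := Cfsg.Agent.S0255.result (F := ULift.{u} (ZMod 7)) (K := F) hK hF
  have hperf : commutator (Matrix.SpecialLinearGroup (Fin 2) (ULift.{u} (ZMod 7))) = ⊤ := by
    apply Cfsg.Agent.Helper4.L2p.commutator_SL2_eq_top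
    refine ⟨⟨2⟩, ?_, ?_⟩
    · intro h
      have := congrArg ULift.down h
      revert this; decide
    · intro h
      have := congrArg ULift.down h
      revert this; decide
  have hcard : Nat.card (Subgroup.center (Matrix.SpecialLinearGroup (Fin 2) (ULift.{u} (ZMod 7)))) = 2 := by
    rw [Cfsg.Agent.Helper7.card_center_SL 2 (by norm_num), hK]
    norm_num
  obtain ⟨q, hqdef⟩ : ∃ q : Matrix.SpecialLinearGroup (Fin 2) (ULift.{u} (ZMod 7)) →*
      Matrix.ProjectiveSpecialLinearGroup (Fin 3) F,
      q = ε.toMonoidHom.comp (QuotientGroup.mk' (Subgroup.center _)) := ⟨_, rfl⟩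
  have hq : Function.Surjective q := by
    rw [hqdef]
    exact ε.surjective.comp (QuotientGroup.mk'_surjective _)
  have hqker : q.ker = Subgroup.center _ := by
    ext x
    rw [hqdef, MonoidHom.mem_ker, MonoidHom.comp_apply]
    change ε _ = 1 ↔ _
    rw [MulEquiv.map_eq_one_iff, QuotientGroup.mk'_apply, QuotientGroup.eq_one_iff]
  have h4 : Fintype.card (ULift.{u} (ZMod 7)) ≠ 4 := by rw [hK]; norm_num
  have h9 : Fintype.card (ULift.{u} (ZMod 7)) ≠ 9 := by rw [hK]; norm_num
  refine ⟨⟨Matrix.SpecialLinearGroup (Fin 2) (ULift.{u} (ZMod 7)), inferInstance, inferInstance, q,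
    ⟨hq, by rw [hqker], by rw [hperf]; exact le_top⟩, ⟨?_⟩⟩, ?_⟩
  · have : Fact (Nat.Prime 2) := ⟨Nat.prime_two⟩
    have h2 : Nat.card (Multiplicative (ZMod 2)) = 2 := by
      rw [Nat.card_eq_fintype_card]; rfl
    have h3 : Nat.card q.ker = 2 := by rw [hqker]; exact hcard
    exact mulEquivOfPrimeCardEq (p := 2) h3 h2
  · intro Γ _ _ σ hσ
    have h := card_ker_le_of_cover hperf
      (fun D τ hτ => Cfsg.Agent.S2117.ker_eq_bot h4 h9 τ hτ) q hq σ hσ
    rw [hqker, hcard] at h
    exact exists_surjective_of_card_le_two h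

/-- Exceptional Schur multiplier: over the field with 2 elements, PSL₃ has Schur multiplier cyclic of order 2 (here the Schur multiplier is described through stem extensions, as in the definitions). -/
theorem result {F : Type*} [Field F] [Fintype F] (hF : Fintype.card F = 2) : Cfsg.HasCyclicSchurMultiplier (Matrix.ProjectiveSpecialLinearGroup (Fin 3) F) 2 := by
  exact main hF


end Cfsg.Agent.S2087
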