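import Mathlib
import Cfsg.Agent.Helper5.L34Cov
import Cfsg.Agent.Helper5.StemPH
import Cfsg.Agent.Helper7.SLTransfer
import Cfsg.Statements.S2088
-- import your own Cfsg.Agent.* helpers here

set_option autoImplicit false
open Cfsg

namespace Cfsg.Agent.S2088

/-- Exceptional Schur multiplier: over the field with 4 elements, PSL₃ has Schur multiplier isomorphic to the product of cyclic groups of orders 3, 4 and 4 (order 48, not cyclic; here the Schur multiplier is described through stem extensions, as in the definitions). -/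
theorem result {F : Type*} [Field F] [Fintype F] (hF : Fintype.card F = 4) : Cfsg.HasSchurMultiplier (Matrix.ProjectiveSpecialLinearGroup (Fin 3) F) (Multiplicative (ZMod 3 × ZMod 4 × ZMod 4)) := by
  obtain ⟨e2⟩ := Cfsg.Agent.Helper9.Golay.H21_iso
  have e : Cfsg.Agent.Helper9.K4 ≃+* F :=
    FiniteField.ringEquivOfCardEq (Cfsg.Agent.Helper9.K4.card.trans hF.symm)
  exact Cfsg.Agent.Helper5.StemP.hasSchurMultiplier_congr
    (e2.trans (Cfsg.Agent.Helper7.SLTransfer.pslEquiv e)) Cfsg.Agent.Helper5.L34Cov.main

end Cfsg.Agent.S2088
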