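import Cfsg.Statements.S2094
import Cfsg.Agent.CtRecB.ObMain
import Cfsg.Agent.CtRecB.ObE
import Cfsg.Agent.CtRecB.ObBa
import Cfsg.Agent.CtRecB.ObCext

set_option autoImplicit false
open Cfsg

namespace Cfsg.Agent.S2094

/-- Schur multipliers of the odd-dimensional orthogonal groups: for m ≥ 3 and a field F of odd order q with (m, q) ≠ (3, 3), the Schur multiplier of PΩ_(2m+1)(F) (for the form x₀² + Σ xᵢyᵢ) is cyclic of order 2 = gcd(2, q − 1); here the Schur multiplier is described through stem extensions, as in the definitions. -/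
theorem result {F : Type*} [Field F] [Fintype F] {q : ℕ} (hF : Fintype.card F = q) (hq : Odd q) (m : ℕ) (hm : 3 ≤ m) (hexc : ¬ (m = 3 ∧ q = 3)) : Cfsg.HasCyclicSchurMultiplier (Cfsg.POmega F (Cfsg.quadFormOdd m F)) 2 := by
  subst hF
  have h2 : (2 : F) ≠ 0 := by
    intro h
    rw [Cfsg.Agent.CtRecD.two_eq_zero_iff_card_even] at h
    rcases hq with ⟨k, hk⟩
    omega
  refine Cfsg.Agent.CtRecB.schur_pomega_B_of hm h2 ((Cfsg.Agent.CtRecB.stOB m F).p4Hyp hm)
    (fun g => (Cfsg.Agent.CtRecB.stOB m F).bruhatB hm (Cfsg.Agent.CtRecB.stOB_gens m F) g) ?_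
  intro E _ ψ hs hc
  obtain ⟨SB, hx, hy⟩ := Cfsg.Agent.CtRecB.exists_OB_lift hm h2 hexc (Cfsg.Agent.CtRecB.stOB m F)
    ⟨ψ, hs, hc, Cfsg.Agent.CtRecB.stB_perfect hm⟩
  exact Cfsg.Agent.CtRecB.stB_split_of_lift ψ SB hx hy

end Cfsg.Agent.S2094
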