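import Mathlib
import Cfsg.Statements.S2098
import Cfsg.Agent.Helper3.O8Cov
import Cfsg.Agent.Helper7.IsomTransfer
import Cfsg.Agent.Helper7.B2OK
import Cfsg.Agent.Helper8.CenterChar2
import Cfsg.Agent.Helper8.POmegaCard
import Cfsg.Agent.Helper8.StdForms
-- import your own Cfsg.Agent.* helpers here

set_option autoImplicit false
open Cfsg

namespace Cfsg.Agent.S2098

/-- Exceptional Schur multiplier: over the field with 2 elements, PΩ⁺₈ (for the form Σ xᵢyᵢ) has Schur multiplier a four-group, the product of two cyclic groups of order 2 (here the Schur multiplier is described through stem extensions, as in the definitions). -/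
theorem result {F : Type*} [Field F] [Fintype F] (hF : Fintype.card F = 2) : Cfsg.HasSchurMultiplier (Cfsg.POmega F (Cfsg.quadFormPlus 4 F)) (Multiplicative (ZMod 2 × ZMod 2)) := by
  classical
  have e : ZMod 2 ≃+* F := ZMod.ringEquivOfPrime F Nat.prime_two hF
  have hnat : ∀ v : Fin 4 ⊕ Fin 4 → ZMod 2,
      Cfsg.quadFormPlus 4 F (e ∘ v) = e (Cfsg.quadFormPlus 4 (ZMod 2) v) := by
    intro v
    unfold Cfsg.quadFormPlus
    rw [map_sum]
    apply Finset.sum_congr rfl
    intro i _
    rw [map_mul]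
    rfl
  have e1 : Cfsg.Agent.Helper3.O8X.GG ≃* ↥(Cfsg.Omega F (Cfsg.quadFormPlus 4 F)) :=
    Cfsg.Agent.Helper7.B2O.commutatorCongr
      (Cfsg.Agent.Helper7.IsomTransfer.isoEquiv e _ _ hnat)
  have hQeq : Cfsg.quadFormPlus 4 F = ⇑(Cfsg.Agent.Helper8.StdForms.plusForm F 4) :=
    funext fun v => (Cfsg.Agent.Helper8.StdForms.plusForm_apply F 4 v).symm
  have h2 : (2 : F) = 0 := by
    apply Cfsg.Agent.Helper8.POmegaCard.two_eq_zero_of_even
    rw [hF]
    decide
  have hcen : Subgroup.center ↥(Cfsg.Omega F (Cfsg.quadFormPlus 4 F)) = ⊥ := by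
    rw [hQeq]
    refine Cfsg.Agent.Helper8.CenterChar2.center_omega_eq_bot
      (Cfsg.Agent.Helper8.StdForms.plusForm F 4) h2
      (Cfsg.Agent.Helper8.StdForms.plusForm_nondeg F 4) ?_ (Or.inr ?_)
    · rw [Fintype.card_sum, Fintype.card_fin]
      norm_num
    · rw [Fintype.card_sum, Fintype.card_fin]
      norm_num
  have e2 : ↥(Cfsg.Omega F (Cfsg.quadFormPlus 4 F)) ≃* Cfsg.POmega F (Cfsg.quadFormPlus 4 F) :=
    (QuotientGroup.quotientBot.symm).trans (QuotientGroup.quotientMulEquivOfEq hcen.symm)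
  exact Cfsg.Agent.Helper5.StemP.hasSchurMultiplier_congr (e1.trans e2)
    Cfsg.Agent.Helper3.O8.main


end Cfsg.Agent.S2098
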