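import Cfsg.Statements.S2398
import Cfsg.Agent.Helper7.ScI

set_option autoImplicit false
open Cfsg

namespace Cfsg.Agent.S2398

/-- Universality of the group Δ presented by Steinberg's generators with relators (R1), (R2), over a field with more than four elements (types G₂, B₂, D₄, F₄, E₆, E₇, E₈): for every central extension `π₁ : E → G₁` (surjective, central kernel) and every homomorphism `σ : Δ → G₁` there is exactly one homomorphism `τ : Δ → E` with `π₁ ∘ τ = σ`. In particular every central extension of Δ splits; together with the fact that Δ maps onto the Chevalley group with central kernel, this makes Δ the universal central extension of the Chevalley group. -/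
theorem result {K : Type*} [Field K] (hK5 : ∃ s : Finset K, 4 < s.card) (D : Cfsg.Lie.ChevalleyDatum) (hD : D ∈ [Cfsg.Lie.chevG2, Cfsg.Lie.chevB2, Cfsg.Lie.chevD4, Cfsg.Lie.chevF4, Cfsg.Lie.chevE6, Cfsg.Lie.chevE7, Cfsg.Lie.chevE8])
    {G₁ E : Type*} [Group G₁] [Group E] (π₁ : E →* G₁) (hπ : Function.Surjective π₁) (hc : π₁.ker ≤ Subgroup.center E)
    (σ : D.SteinbergCover K →* G₁) : ∃! τ : D.SteinbergCover K →* E, π₁.comp τ = σ := by
  have hperf : commutator (D.SteinbergCover K) = ⊤ :=
    Cfsg.Agent.S2395.result D hD (fun _ => Cfsg.Agent.Helper7.Sc.exists_ne_zero_one hK5)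
  -- the pullback
  let P : Subgroup (E × D.SteinbergCover K) :=
    { carrier := {x | π₁ x.1 = σ x.2}
      mul_mem' := by
        intro a b ha hb
        rw [Set.mem_setOf_eq] at ha hb ⊢
        rw [Prod.fst_mul, Prod.snd_mul, map_mul, map_mul, ha, hb]
      one_mem' := by
        rw [Set.mem_setOf_eq, Prod.fst_one, Prod.snd_one, map_one, map_one]
      inv_mem' := by
        intro a ha
        rw [Set.mem_setOf_eq] at ha ⊢
        rw [Prod.fst_inv, Prod.snd_inv, map_inv, map_inv, ha] }
  have hP : ∀ x : E × D.SteinbergCover K, x ∈ P ↔ π₁ x.1 = σ x.2 := fun x => Iff.rfl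
  let ψ : ↥P →* D.SteinbergCover K := (MonoidHom.snd E (D.SteinbergCover K)).comp P.subtype
  have hψ_apply : ∀ x : ↥P, ψ x = x.1.2 := fun x => rfl
  have hψ : Function.Surjective ψ := by
    intro d
    obtain ⟨e, he⟩ := hπ (σ d)
    exact ⟨⟨(e, d), (hP _).mpr he⟩, rfl⟩
  have hker : ψ.ker ≤ Subgroup.center ↥P := by
    intro x hx
    rw [MonoidHom.mem_ker, hψ_apply] at hx
    have hx1 : x.1.1 ∈ π₁.ker := by
      rw [MonoidHom.mem_ker, (hP _).mp x.2, hx, map_one]
    have hcen := hc hx1
    rw [Subgroup.mem_center_iff] at hcen ⊢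
    intro y
    apply Subtype.ext
    apply Prod.ext
    · exact hcen y.1.1
    · change y.1.2 * x.1.2 = x.1.2 * y.1.2
      rw [hx, mul_one, one_mul]
  obtain ⟨τ₀, hτ₀⟩ := Cfsg.Agent.Helper7.Sc.cover_splits hD hK5 ψ hψ hker
  have hτ₀' : ∀ d, (τ₀ d).1.2 = d := by
    intro d
    have := congrArg (fun f => f d) hτ₀
    exact this
  refine ⟨((MonoidHom.fst E (D.SteinbergCover K)).comp P.subtype).comp τ₀, ?_, ?_⟩
  · apply MonoidHom.ext
    intro d
    change π₁ (τ₀ d).1.1 = σ d
    rw [(hP _).mp (τ₀ d).2, hτ₀']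
  · intro τ' hτ'
    -- two lifts agree on commutators
    obtain ⟨τ, hτdef⟩ : ∃ τ : D.SteinbergCover K →* E,
        τ = ((MonoidHom.fst E (D.SteinbergCover K)).comp P.subtype).comp τ₀ := ⟨_, rfl⟩
    have hτ : π₁.comp τ = σ := by
      rw [hτdef]
      apply MonoidHom.ext
      intro d
      change π₁ (τ₀ d).1.1 = σ d
      rw [(hP _).mp (τ₀ d).2, hτ₀']
    rw [← hτdef]
    have hdiff : ∀ d, ∀ x : E, (τ d)⁻¹ * τ' d * x = x * ((τ d)⁻¹ * τ' d) := by
      intro d x
      have hz : (τ d)⁻¹ * τ' d ∈ π₁.ker := by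
        rw [MonoidHom.mem_ker, map_mul, map_inv]
        have e1 : π₁ (τ d) = σ d := by rw [← hτ]; rfl
        have e2 : π₁ (τ' d) = σ d := by rw [← hτ']; rfl
        rw [e1, e2, inv_mul_cancel]
      exact (Subgroup.mem_center_iff.mp (hc hz) x).symm
    have hle : commutator (D.SteinbergCover K) ≤ MonoidHom.eqLocus τ' τ := by
      rw [commutator_def, Subgroup.commutator_le]
      intro a _ b _
      change τ' (a * b * a⁻¹ * b⁻¹) = τ (a * b * a⁻¹ * b⁻¹)
      rw [map_mul, map_mul, map_mul,
        map_inv, map_inv, map_mul, map_mul, map_mul, map_inv, map_inv]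
      have ea : τ' a = τ a * ((τ a)⁻¹ * τ' a) := by group
      have eb : τ' b = τ b * ((τ b)⁻¹ * τ' b) := by group
      rw [ea, eb]
      exact Cfsg.Agent.Helper7.Sc.CExt.comm_central_mul (hdiff a) (hdiff b)
    apply MonoidHom.ext
    intro d
    have : d ∈ MonoidHom.eqLocus τ' τ := hle (by rw [hperf]; trivial)
    exact this

end Cfsg.Agent.S2398
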