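import Cfsg.Statements.S2100
import Cfsg.Agent.S2398
import Cfsg.Agent.S1078

set_option autoImplicit false
open Cfsg

namespace Cfsg.Agent.S2100

open Cfsg.Lie Cfsg.Agent.Helper7 Cfsg.Agent.Helper7.Chev Cfsg.Agent.Helper7.St in
/-- The presented group of type G₂ over a finite field maps isomorphically onto the Chevalley group. -/
theorem exists_iso {F : Type*} [Field F] [Fintype F] :
    ∃ θ : chevG2.SteinbergCover F →* ↥(chevG2.group F), Function.Surjective θ ∧ Function.Injective θ := by
  have hD : chevG2 ∈ [chevG2, chevB2, chevD4, chevF4, chevE6, chevE7, chevE8] := by simp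
  have hG := good3_of_mem chevG2 hD
  have hkill : ∀ g ∈ chevG2.steinbergRelsAB F, liftX hG.toGood1 g = 1 :=
    fun g hg => liftX_relsAB hG hg
  refine ⟨toChev hG (chevG2.steinbergRelsAB F) hkill, toChev_surjective hG _ hkill, ?_⟩
  rw [injective_iff_map_eq_one]
  intro x hx
  have hc := (toChev_ker_mem hD (chevG2.steinbergRelsAB F) (le_refl _) hkill hx).2
  -- the centre of the presented group is trivial
  obtain ⟨e, _⟩ := cover_equiv (K := F) hD
  have hez : e x ∈ Subgroup.center (chevG2.SteinbergGroup F) := by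
    rw [Subgroup.mem_center_iff] at hc ⊢
    intro g
    obtain ⟨y, rfl⟩ := e.surjective g
    rw [← map_mul, ← map_mul, hc y]
  rw [Cfsg.Agent.S1078.result chevG2 (by simp), Subgroup.mem_bot] at hez
  exact (MulEquiv.map_eq_one_iff e).mp hez

/-- Schur multipliers of the Chevalley groups of type G₂: over a field with q ≥ 5 elements the Schur multiplier of G₂(q) is trivial (here the Schur multiplier is described through stem extensions, as in the definitions); the cases q = 3 and q = 4 are exceptional and q = 2 gives a non-simple group. -/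
theorem result {F : Type*} [Field F] [Fintype F] (hF : 5 ≤ Fintype.card F) : Cfsg.HasCyclicSchurMultiplier ↥(Cfsg.Lie.chevG2.group F) 1 := by
  classical
  have hK5 : ∃ s : Finset F, 4 < s.card := ⟨Finset.univ, by rw [Finset.card_univ]; omega⟩
  have hD : Cfsg.Lie.chevG2 ∈ [Cfsg.Lie.chevG2, Cfsg.Lie.chevB2, Cfsg.Lie.chevD4, Cfsg.Lie.chevF4,
      Cfsg.Lie.chevE6, Cfsg.Lie.chevE7, Cfsg.Lie.chevE8] := by simp
  obtain ⟨θ, hθs, hθi⟩ := exists_iso (F := F)
  -- every stem extension has trivial kernel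
  have key : ∀ (Γ : Type _) [Group Γ] (σ : Γ →* ↥(Cfsg.Lie.chevG2.group F)), Cfsg.IsStemExtension σ →
      σ.ker = ⊥ := by
    intro Γ _ σ ⟨hσs, hσc, hσd⟩
    obtain ⟨τ, hτ, _⟩ := Cfsg.Agent.S2398.result hK5 Cfsg.Lie.chevG2 hD σ hσs hσc θ
    have hτ' : ∀ d, σ (τ d) = θ d := fun d => DFunLike.congr_fun hτ d
    have hcomm : commutator Γ ≤ τ.range := by
      rw [commutator_def, Subgroup.commutator_le]
      intro a _ b _
      obtain ⟨a', ha'⟩ := hθs (σ a)
      obtain ⟨b', hb'⟩ := hθs (σ b)
      have hza : ∀ x : Γ, (τ a')⁻¹ * a * x = x * ((τ a')⁻¹ * a) := by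
        intro x
        have hz : (τ a')⁻¹ * a ∈ σ.ker := by
          rw [MonoidHom.mem_ker, map_mul, map_inv, hτ', ha', inv_mul_cancel]
        exact (Subgroup.mem_center_iff.mp (hσc hz) x).symm
      have hzb : ∀ x : Γ, (τ b')⁻¹ * b * x = x * ((τ b')⁻¹ * b) := by
        intro x
        have hz : (τ b')⁻¹ * b ∈ σ.ker := by
          rw [MonoidHom.mem_ker, map_mul, map_inv, hτ', hb', inv_mul_cancel]
        exact (Subgroup.mem_center_iff.mp (hσc hz) x).symm
      have ea : a = τ a' * ((τ a')⁻¹ * a) := by group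
      have eb : b = τ b' * ((τ b')⁻¹ * b) := by group
      refine ⟨a' * b' * a'⁻¹ * b'⁻¹, ?_⟩
      change _ = a * b * a⁻¹ * b⁻¹
      rw [map_mul, map_mul, map_mul, map_inv, map_inv]
      conv_rhs => rw [ea, eb]
      exact (Cfsg.Agent.Helper7.Sc.CExt.comm_central_mul hza hzb).symm
    rw [eq_bot_iff]
    intro z hz
    obtain ⟨d, rfl⟩ := hcomm (hσd hz)
    rw [MonoidHom.mem_ker, hτ'] at hz
    rw [Subgroup.mem_bot, (injective_iff_map_eq_one θ).mp hθi d hz, map_one]
  constructor
  · refine ⟨↥(Cfsg.Lie.chevG2.group F), inferInstance, inferInstance,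
      MonoidHom.id _, ⟨Function.surjective_id, ?_, ?_⟩, ?_⟩
    · intro x hx
      rw [MonoidHom.mem_ker, MonoidHom.id_apply] at hx
      rw [hx]; exact one_mem _
    · intro x hx
      rw [MonoidHom.mem_ker, MonoidHom.id_apply] at hx
      rw [hx]; exact one_mem _
    · haveI : Subsingleton ↥(MonoidHom.id ↥(Cfsg.Lie.chevG2.group F)).ker := by
        constructor
        intro a b
        apply Subtype.ext
        have ha := a.2
        have hb := b.2
        rw [MonoidHom.mem_ker, MonoidHom.id_apply] at ha hb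
        rw [ha, hb]
      haveI : Unique ↥(MonoidHom.id ↥(Cfsg.Lie.chevG2.group F)).ker :=
        { default := 1, uniq := fun a => Subsingleton.elim _ _ }
      exact ⟨MulEquiv.ofUnique⟩
  · intro Γ _ _ σ hσ
    refine ⟨1, ?_⟩
    intro y
    refine ⟨1, ?_⟩
    apply Subtype.ext
    have hy : (y : Γ) ∈ (⊥ : Subgroup Γ) := by
      rw [← key Γ σ hσ]; exact y.2
    rw [Subgroup.mem_bot] at hy
    rw [hy]
    rfl

end Cfsg.Agent.S2100
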