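import Cfsg.Statements.S2110
import Cfsg.Agent.CtRecT.TAmb
import Cfsg.Agent.CtRecT.TAmbA
import Cfsg.Agent.CtRecT.TAmbP
import Cfsg.Agent.CtRecT.TThmI2
import Cfsg.Agent.CtRecT.TLiftP

set_option autoImplicit false
open Cfsg

namespace Cfsg.Agent.S2110

open Cfsg.Lie Cfsg.Agent.Helper7.Chev Cfsg.Agent.CtRecT

/-- Schur multipliers of the triality-twisted groups ³D₄: for every prime power q, with the group realised over the field with q³ elements, the Schur multiplier of ³D₄(q) is trivial (here the Schur multiplier is described through stem extensions, as in the definitions). -/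
theorem result {K : Type*} [Field K] [Fintype K] {q : ℕ} (hq : IsPrimePow q) (hK : Fintype.card K = q ^ 3) : Cfsg.HasCyclicSchurMultiplier ↥(Cfsg.Lie.twistedD4 K q) 1 := by
  -- `³D₄(q)` as the twisted group of the development `Helper7/ChevTw*`
  obtain ⟨f, hf, hf3, hG⟩ := twistedD4_eq hq hK
  rw [hG]
  -- it suffices that every finite stem extension is injective
  apply hasCyclicSchurMultiplier_one_of
  intro Γ _ _ σ hσ
  haveI : Fact (ringChar K).Prime := tap_ringChar_prime
  have hf3' : ∀ t : K, f (f (f t)) = t := fun t => hf3 t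
  -- Theorem I (splitting over `U` + transfer): the kernel is a `p'`-group
  have hI : (Nat.card σ.ker).Coprime (ringChar K) :=
    tti_thmI_tw hq hK f hG σ hσ.1 hσ.2.1 hσ.2.2
  -- Theorem II (unique `p`-lifts + `BN`-closure upstairs): the kernel is trivial
  exact (taBNDat f hf3
      (taTTor f (taRa f hf3) (taRb f) (taRa_xp_coe f hf3) (taRa_xm_coe f hf3) (taRb_xp_coe f)
        (taRb_xm_coe f) hf3')
      (taRa_xp_coe f hf3) (taRa_xm_coe f hf3) (taRb_xp_coe f) (taRb_xm_coe f)).stem_ker_eq_bot
    tap_ringChar_cast (tap_isPGroup_twU_sub hq hK f hf hf3) σ hσ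
    (exists_PLift σ hσ.1 hσ.2.1 (ringChar K) hI)

end Cfsg.Agent.S2110
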