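import Mathlib
import Cfsg.Statements.S2118
import Cfsg.Agent.Helper3.StemE
import Cfsg.Agent.Helper3.StemF
import Cfsg.Agent.Helper3.TripleA6
import Cfsg.Agent.S0254
import Cfsg.Agent.Helper7.LinearCard
-- import your own Cfsg.Agent.* helpers here

set_option autoImplicit false
open Cfsg

namespace Cfsg.Agent.S2118

open Cfsg.Agent.Helper3 Cfsg.Agent.Helper3.Stem

universe u

/-- A finite group of order 1 or 3 is a homomorphic image of the cyclic group of order 3. -/
theorem exists_surjective_of_card {A : Type*} [Group A] [Finite A]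
    (hc : Nat.card A = 1 ∨ Nat.card A = 3) :
    ∃ π : Multiplicative (ZMod 3) →* A, Function.Surjective π := by
  rcases hc with hc | hc
  · refine ⟨1, ?_⟩
    intro y
    have : Subsingleton A := (Nat.card_eq_one_iff_unique.mp hc).1
    exact ⟨1, Subsingleton.elim _ _⟩
  · have : Fact (Nat.Prime 3) := ⟨Nat.prime_three⟩
    have h3 : Nat.card (Multiplicative (ZMod 3)) = 3 := by
      rw [Nat.card_eq_fintype_card]; rfl
    let e : Multiplicative (ZMod 3) ≃* A := mulEquivOfPrimeCardEq (p := 3) h3 hc
    exact ⟨e.toMonoidHom, e.surjective⟩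

theorem main {F : Type u} [Field F] [Fintype F] (hF : Fintype.card F = 9) :
    Cfsg.HasCyclicSchurMultiplier (Matrix.SpecialLinearGroup (Fin 2) F) 3 := by
  obtain ⟨ε⟩ := Cfsg.Agent.S0254.result hF
  obtain ⟨X, _, _, π, hπ, hπc, hπd, hπcard⟩ := Cfsg.Agent.Helper3.TripleA6.exists_triple_cover
  obtain ⟨q, hqdef⟩ : ∃ q : Matrix.SpecialLinearGroup (Fin 2) F →* alternatingGroup (Fin 6),
      q = ε.toMonoidHom.comp (QuotientGroup.mk' (Subgroup.center _)) := ⟨_, rfl⟩
  have hq : Function.Surjective q := by
    rw [hqdef]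
    exact ε.surjective.comp (QuotientGroup.mk'_surjective _)
  have hqker : q.ker = Subgroup.center _ := by
    ext x
    rw [hqdef, MonoidHom.mem_ker, MonoidHom.comp_apply]
    change ε _ = 1 ↔ _
    rw [MulEquiv.map_eq_one_iff, QuotientGroup.mk'_apply, QuotientGroup.eq_one_iff]
  have hcard : Nat.card q.ker = 2 := by
    rw [hqker, Cfsg.Agent.Helper7.card_center_SL 2 (by norm_num), hF]
    norm_num
  have hcop : (Nat.card q.ker).Coprime (Nat.card π.ker) := by
    rw [hcard, hπcard]; norm_num
  obtain ⟨Γ, σ, hσ, ⟨e⟩⟩ := exists_stem_of_fiber q hq π hπ hπc hπd hcop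
  refine ⟨⟨Γ, inferInstance, inferInstance, σ, hσ, ⟨?_⟩⟩, ?_⟩
  · have : Fact (Nat.Prime 3) := ⟨Nat.prime_three⟩
    have h3 : Nat.card (Multiplicative (ZMod 3)) = 3 := by
      rw [Nat.card_eq_fintype_card]; rfl
    exact e.trans (mulEquivOfPrimeCardEq (p := 3) hπcard h3)
  · intro Γ' _ _ σ' hσ'
    exact exists_surjective_of_card (card_ker_sl2_nine hF σ' hσ')

/-- For the field with 9 elements, the special linear group SL₂ has Schur multiplier cyclic of order 3 (here the Schur multiplier is described through stem extensions, as in the definitions). -/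
theorem result {F : Type*} [Field F] [Fintype F] (hF : Fintype.card F = 9) : Cfsg.HasCyclicSchurMultiplier (Matrix.SpecialLinearGroup (Fin 2) F) 3 := by
  exact main hF


end Cfsg.Agent.S2118
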