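import Cfsg.Statements.S2162

set_option autoImplicit false
open Cfsg

namespace Cfsg.Agent.S2162

open Module

section Abstract

variable {K V : Type*} [Field K] [AddCommGroup V] [Module K V] [FiniteDimensional K V]

/-- Structure of a square-zero endomorphism: `V = f C ⊕ D ⊕ C` with `ker f = f C ⊕ D`. -/
theorem structure_sq_zero (f : V →ₗ[K] V) (hf : ∀ v, f (f v) = 0) :
    ∃ (C D : Submodule K V) (P : ((C × D) × C) ≃ₗ[K] V),
      (∀ x, P x = f x.1.1 + x.1.2 + x.2) ∧ (∀ d : D, f d = 0) ∧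
      finrank K C = finrank K (LinearMap.range f) := by
  obtain ⟨C, hC⟩ := Submodule.exists_isCompl (LinearMap.ker f)
  obtain ⟨D₀, hD₀⟩ := Submodule.exists_isCompl (LinearMap.range f)
  have hrk : LinearMap.range f ≤ LinearMap.ker f := by
    rintro _ ⟨v, rfl⟩
    exact LinearMap.mem_ker.mpr (hf v)
  have hsup : LinearMap.range f ⊔ (D₀ ⊓ LinearMap.ker f) = LinearMap.ker f := by
    rw [← sup_inf_assoc_of_le _ hrk, hD₀.sup_eq_top, top_inf_eq]
  have hCker : ∀ c : V, c ∈ C → f c = 0 → c = 0 := by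
    intro c hc h0
    have : c ∈ LinearMap.ker f ⊓ C := ⟨LinearMap.mem_ker.mpr h0, hc⟩
    rw [hC.inf_eq_bot] at this
    simpa using this
  let P₀ : ((C × (D₀ ⊓ LinearMap.ker f : Submodule K V)) × C) →ₗ[K] V :=
    (((f ∘ₗ C.subtype).coprod (Submodule.subtype _)).coprod C.subtype)
  have hP₀ : ∀ x, P₀ x = f x.1.1 + x.1.2 + x.2 := by
    intro x; simp [P₀]
  have hD0 : ∀ d : (D₀ ⊓ LinearMap.ker f : Submodule K V), f d = 0 := by
    intro d; exact LinearMap.mem_ker.mp d.2.2
  have hinj : Function.Injective P₀ := by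
    rw [injective_iff_map_eq_zero]
    rintro ⟨⟨c1, d⟩, c2⟩ h
    rw [hP₀] at h
    simp only at h
    have h2 : f (c2 : V) = 0 := by
      have := congrArg f h
      simpa [hf, hD0] using this
    have hc2 : c2 = 0 := Subtype.ext (hCker _ c2.2 h2)
    subst hc2
    simp only [ZeroMemClass.coe_zero, add_zero] at h
    have h3 : f (c1 : V) ∈ LinearMap.range f ⊓ D₀ := by
      refine ⟨⟨_, rfl⟩, ?_⟩
      have : f (c1 : V) = -(d : V) := eq_neg_of_add_eq_zero_left h
      rw [this]
      exact D₀.neg_mem d.2.1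
    rw [hD₀.inf_eq_bot] at h3
    have h4 : f (c1 : V) = 0 := by simpa using h3
    have hc1 : c1 = 0 := Subtype.ext (hCker _ c1.2 h4)
    subst hc1
    have hd : d = 0 := by
      apply Subtype.ext
      simpa [h4] using h
    subst hd
    rfl
  have hsurj : Function.Surjective P₀ := by
    intro v
    have hv : v ∈ LinearMap.ker f ⊔ C := by rw [hC.sup_eq_top]; trivial
    obtain ⟨k, hk, c2, hc2, rfl⟩ := Submodule.mem_sup.mp hv
    rw [← hsup] at hk
    obtain ⟨r, hr, d, hd, rfl⟩ := Submodule.mem_sup.mp hk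
    obtain ⟨u, rfl⟩ := hr
    have hu : u ∈ LinearMap.ker f ⊔ C := by rw [hC.sup_eq_top]; trivial
    obtain ⟨k', hk', c1, hc1, rfl⟩ := Submodule.mem_sup.mp hu
    refine ⟨((⟨c1, hc1⟩, ⟨d, hd⟩), ⟨c2, hc2⟩), ?_⟩
    rw [hP₀]
    simp [LinearMap.mem_ker.mp hk']
  refine ⟨C, D₀ ⊓ LinearMap.ker f, LinearEquiv.ofBijective P₀ ⟨hinj, hsurj⟩, ?_, hD0, ?_⟩
  · intro x
    exact hP₀ x
  · have h1 := Submodule.finrank_add_eq_of_isCompl hC
    have h2 := LinearMap.finrank_range_add_finrank_ker f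
    omega

/-- An automorphism of a nonzero space with prescribed nonzero determinant. -/
theorem exists_equiv_det {W : Type*} [AddCommGroup W] [Module K W] [FiniteDimensional K W]
    (hW : 0 < finrank K W) (s : K) (hs : s ≠ 0) :
    ∃ ζ : W ≃ₗ[K] W, LinearMap.det (ζ : W →ₗ[K] W) = s := by
  haveI : Nontrivial W := Module.finrank_pos_iff.mp hW
  obtain ⟨v, hv⟩ := exists_ne (0 : W)
  have : ¬ ∀ φ : Dual K W, φ v = 0 := by
    rw [Module.forall_dual_apply_eq_zero_iff]; exact hv
  push Not at this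
  obtain ⟨φ, hφ⟩ := this
  let ψ : Dual K W := ((s - 1) / φ v) • φ
  have hψ : ψ v = s - 1 := by
    simp [ψ, hφ]
  have hu : IsUnit (1 + ψ v) := by
    rw [hψ]; simpa using hs
  refine ⟨LinearEquiv.dilatransvection hu, ?_⟩
  rw [LinearEquiv.dilatransvection.coe_toLinearMap, LinearMap.transvection.det, hψ]
  ring

/-- Two square-zero endomorphisms of equal rank are conjugate under a determinant-one map,
provided every scalar is a square and the rank is positive. -/
theorem conj_sq_zero (hsq : ∀ t : K, ∃ s : K, s * s = t)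
    (f f' : V →ₗ[K] V) (hf : ∀ v, f (f v) = 0) (hf' : ∀ v, f' (f' v) = 0)
    (hr : finrank K (LinearMap.range f) = finrank K (LinearMap.range f'))
    (hpos : 0 < finrank K (LinearMap.range f')) :
    ∃ G : V ≃ₗ[K] V, (∀ v, G (f v) = f' (G v)) ∧ LinearMap.det (G : V →ₗ[K] V) = 1 := by
  obtain ⟨C, D, P, hP, hD, hC⟩ := structure_sq_zero f hf
  obtain ⟨C', D', P', hP', hD', hC'⟩ := structure_sq_zero f' hf'
  have hCC : finrank K C = finrank K C' := by omega
  have hDD : finrank K D = finrank K D' := by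
    have h1 := P.finrank_eq
    have h2 := P'.finrank_eq
    simp only [Module.finrank_prod] at h1 h2
    omega
  let α : C ≃ₗ[K] C' := LinearEquiv.ofFinrankEq _ _ hCC
  let γ : D ≃ₗ[K] D' := LinearEquiv.ofFinrankEq _ _ hDD
  let E : ((C × D) × C) ≃ₗ[K] ((C' × D') × C') := (α.prodCongr γ).prodCongr α
  let G₀ : V ≃ₗ[K] V := P.symm.trans (E.trans P')
  have hfP : ∀ x, f (P x) = P ((x.2, 0), 0) := by
    intro x
    rw [hP, hP]
    simp [hf, hD]
  have hfP' : ∀ x, f' (P' x) = P' ((x.2, 0), 0) := by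
    intro x
    rw [hP', hP']
    simp [hf', hD']
  have hG₀ : ∀ v, G₀ (f v) = f' (G₀ v) := by
    intro v
    obtain ⟨x, rfl⟩ := P.surjective v
    rw [hfP]
    simp only [G₀, LinearEquiv.trans_apply, LinearEquiv.symm_apply_apply]
    rw [hfP']
    simp [E]
  have hd0 : LinearMap.det (G₀ : V →ₗ[K] V) ≠ 0 := (LinearEquiv.isUnit_det' G₀).ne_zero
  obtain ⟨s, hs⟩ := hsq (LinearMap.det (G₀ : V →ₗ[K] V))⁻¹
  have hs0 : s ≠ 0 := by
    rintro rfl
    simp at hs
    exact hd0 hs.symm
  obtain ⟨ζ, hζ⟩ := exists_equiv_det (K := K) (W := C') (by omega) s hs0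
  let Eζ : ((C' × D') × C') ≃ₗ[K] ((C' × D') × C') :=
    (ζ.prodCongr (LinearEquiv.refl K D')).prodCongr ζ
  let Z : V ≃ₗ[K] V := P'.symm.trans (Eζ.trans P')
  have hZ : ∀ v, Z (f' v) = f' (Z v) := by
    intro v
    obtain ⟨x, rfl⟩ := P'.surjective v
    rw [hfP']
    simp only [Z, LinearEquiv.trans_apply, LinearEquiv.symm_apply_apply]
    rw [hfP']
    simp [Eζ]
  have hdetZ : LinearMap.det (Z : V →ₗ[K] V) = s * s := by
    have h1 : (Z : V →ₗ[K] V) = (P' : ((C' × D') × C') →ₗ[K] V) ∘ₗ (Eζ : ((C' × D') × C') →ₗ[K] ((C' × D') × C')) ∘ₗ (P'.symm : V →ₗ[K] ((C' × D') × C')) := by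
      ext v; simp [Z]
    rw [h1, LinearMap.det_conj]
    have h2 : (Eζ : ((C' × D') × C') →ₗ[K] ((C' × D') × C')) =
        ((ζ : C' →ₗ[K] C').prodMap (LinearMap.id : D' →ₗ[K] D')).prodMap (ζ : C' →ₗ[K] C') := by
      ext x <;> simp [Eζ]
    rw [h2, LinearMap.det_prodMap, LinearMap.det_prodMap, hζ, LinearMap.det_id, mul_one]
  refine ⟨G₀.trans Z, ?_, ?_⟩
  · intro v
    simp only [LinearEquiv.trans_apply]
    rw [hG₀, hZ]
  · have h1 : ((G₀.trans Z : V ≃ₗ[K] V) : V →ₗ[K] V) = (Z : V →ₗ[K] V) ∘ₗ (G₀ : V →ₗ[K] V) := by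
      ext v; simp
    rw [h1, LinearMap.det_comp, hdetZ, hs]
    exact inv_mul_cancel₀ hd0

end Abstract

theorem sq_zero_of_order_two {F : Type*} [Field F] [CharP F 2] {n : ℕ}
    (a : Matrix.SpecialLinearGroup (Fin n) F) (ha : orderOf a = 2) :
    ((a : Matrix (Fin n) (Fin n) F) - 1) * ((a : Matrix (Fin n) (Fin n) F) - 1) = 0 := by
  have h1 : a * a = 1 := by
    have := pow_orderOf_eq_one a
    rwa [ha, pow_two] at this
  have h2 : (a : Matrix (Fin n) (Fin n) F) * (a : Matrix (Fin n) (Fin n) F) = 1 := by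
    have := congrArg (fun x : Matrix.SpecialLinearGroup (Fin n) F => (x : Matrix (Fin n) (Fin n) F)) h1
    simpa using this
  have h3 : ((a : Matrix (Fin n) (Fin n) F) - 1) * ((a : Matrix (Fin n) (Fin n) F) - 1)
      = (2 : F) • (1 - (a : Matrix (Fin n) (Fin n) F)) := by
    rw [Matrix.sub_mul, Matrix.mul_sub, Matrix.mul_sub, h2, two_smul]
    simp only [Matrix.mul_one, Matrix.one_mul]
    abel
  rw [h3, CharTwo.two_eq_zero, zero_smul]

theorem ne_one_of_order_two {F : Type*} [Field F] {n : ℕ}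
    (a : Matrix.SpecialLinearGroup (Fin n) F) (ha : orderOf a = 2) :
    0 < ((a : Matrix (Fin n) (Fin n) F) - 1).rank := by
  rw [Nat.pos_iff_ne_zero]
  intro h
  have h0 : (a : Matrix (Fin n) (Fin n) F) - 1 = 0 := by
    unfold Matrix.rank at h
    rw [Submodule.finrank_eq_zero, LinearMap.range_eq_bot, ← Matrix.toLin'_apply'] at h
    exact (Matrix.toLin' (R := F) (m := Fin n) (n := Fin n)).injective (by rw [h, map_zero])
  have h1 : a = 1 := by
    apply Subtype.ext
    rw [sub_eq_zero] at h0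
    simpa using h0
  rw [h1, orderOf_one] at ha
  omega

theorem result {F : Type*} [Field F] [Fintype F] [CharP F 2] {n : ℕ} (hn : 3 ≤ n) (a b : Matrix.SpecialLinearGroup (Fin n) F) (ha : orderOf a = 2) (hb : orderOf b = 2) :
    IsConj a b ↔ ((a : Matrix (Fin n) (Fin n) F) - 1).rank = ((b : Matrix (Fin n) (Fin n) F) - 1).rank := by
  constructor
  · intro h
    obtain ⟨c, hc⟩ := isConj_iff.mp h
    have hcc : (c : Matrix (Fin n) (Fin n) F) *
        ((c⁻¹ : Matrix.SpecialLinearGroup (Fin n) F) : Matrix (Fin n) (Fin n) F) = 1 := by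
      rw [← Matrix.SpecialLinearGroup.coe_mul, mul_inv_cancel, Matrix.SpecialLinearGroup.coe_one]
    have h1 : ((b : Matrix (Fin n) (Fin n) F) - 1) = (c : Matrix (Fin n) (Fin n) F) *
        ((a : Matrix (Fin n) (Fin n) F) - 1) *
        ((c⁻¹ : Matrix.SpecialLinearGroup (Fin n) F) : Matrix (Fin n) (Fin n) F) := by
      rw [← hc, Matrix.mul_sub, Matrix.sub_mul, Matrix.mul_one, hcc]
      simp
    rw [h1, Matrix.rank_mul_eq_left_of_isUnit_det, Matrix.rank_mul_eq_right_of_isUnit_det]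
    · rw [c.det_coe]; exact isUnit_one
    · rw [(c⁻¹).det_coe]; exact isUnit_one
  · intro h
    have hsq : ∀ t : F, ∃ s : F, s * s = t := by
      intro t
      refine ⟨(frobeniusEquiv F 2).symm t, ?_⟩
      have := (frobeniusEquiv F 2).apply_symm_apply t
      rw [frobeniusEquiv_def, pow_two] at this
      exact this
    set A : Matrix (Fin n) (Fin n) F := (a : Matrix (Fin n) (Fin n) F) - 1 with hA
    set B : Matrix (Fin n) (Fin n) F := (b : Matrix (Fin n) (Fin n) F) - 1 with hB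
    have hAA : A * A = 0 := sq_zero_of_order_two a ha
    have hBB : B * B = 0 := sq_zero_of_order_two b hb
    have hBpos : 0 < B.rank := ne_one_of_order_two b hb
    obtain ⟨G, hG, hdet⟩ := conj_sq_zero (K := F) (V := Fin n → F) hsq
      (Matrix.toLin' A) (Matrix.toLin' B)
      (by intro v; rw [← LinearMap.comp_apply, ← Matrix.toLin'_mul, hAA]; simp)
      (by intro v; rw [← LinearMap.comp_apply, ← Matrix.toLin'_mul, hBB]; simp)
      (by rw [Matrix.toLin'_apply', Matrix.toLin'_apply']; exact h)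
      (by rw [Matrix.toLin'_apply']; exact hBpos)
    let g : Matrix (Fin n) (Fin n) F := LinearMap.toMatrix' (G : (Fin n → F) →ₗ[F] (Fin n → F))
    have hgdet : g.det = 1 := by
      rw [LinearMap.det_toMatrix']; exact hdet
    have hgAB : g * A = B * g := by
      have h1 : (G : (Fin n → F) →ₗ[F] (Fin n → F)) ∘ₗ Matrix.toLin' A =
          Matrix.toLin' B ∘ₗ (G : (Fin n → F) →ₗ[F] (Fin n → F)) := by
        apply LinearMap.ext
        intro v
        exact hG v
      have h2 := congrArg LinearMap.toMatrix' h1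
      rw [LinearMap.toMatrix'_comp, LinearMap.toMatrix'_comp, LinearMap.toMatrix'_toLin'] at h2
      rw [LinearMap.toMatrix'_toLin'] at h2
      exact h2
    let g' : Matrix.SpecialLinearGroup (Fin n) F := ⟨g, hgdet⟩
    have hgab : g' * a = b * g' := by
      apply Subtype.ext
      rw [Matrix.SpecialLinearGroup.coe_mul, Matrix.SpecialLinearGroup.coe_mul]
      show g * (a : Matrix (Fin n) (Fin n) F) = (b : Matrix (Fin n) (Fin n) F) * g
      have := hgAB
      rw [hA, hB, Matrix.mul_sub, Matrix.sub_mul, Matrix.mul_one, Matrix.one_mul] at this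
      exact sub_left_injective this
    rw [isConj_iff]
    refine ⟨g', ?_⟩
    rw [hgab, mul_assoc, mul_inv_cancel, mul_one]

end Cfsg.Agent.S2162
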