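import Cfsg.Statements.S2163

set_option autoImplicit false
open Cfsg

namespace Cfsg.Agent.S2163

/-- The corner matrix: entries 1 in positions (n − ℓ + j, j), j < ℓ. -/
def cornerN (F : Type*) [Field F] (n ℓ : ℕ) : Matrix (Fin n) (Fin n) F :=
  Matrix.of (fun i j : Fin n => if j.val < ℓ ∧ i.val = j.val + (n - ℓ) then (1 : F) else 0)

/-- The diagonal idempotent with ones in the first ℓ positions. -/
def diagD (F : Type*) [Field F] (n ℓ : ℕ) : Matrix (Fin n) (Fin n) F :=
  Matrix.diagonal (fun j : Fin n => if j.val < ℓ then (1 : F) else 0)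

theorem cornerN_apply {F : Type*} [Field F] (n ℓ : ℕ) (i j : Fin n) :
    cornerN F n ℓ i j = if j.val < ℓ ∧ i.val = j.val + (n - ℓ) then (1 : F) else 0 := rfl

theorem cornerN_sq {F : Type*} [Field F] {n ℓ : ℕ} (h2 : 2 * ℓ ≤ n) :
    cornerN F n ℓ * cornerN F n ℓ = 0 := by
  ext i j
  rw [Matrix.mul_apply]
  simp only [Matrix.zero_apply]
  apply Finset.sum_eq_zero
  intro k _
  rw [cornerN_apply, cornerN_apply]
  by_cases h : j.val < ℓ ∧ k.val = j.val + (n - ℓ)
  · have : ¬ (k.val < ℓ ∧ i.val = k.val + (n - ℓ)) := by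
      rintro ⟨hk, _⟩
      omega
    rw [if_neg this, zero_mul]
  · rw [if_neg h, mul_zero]

theorem cornerN_transpose_mul {F : Type*} [Field F] {n ℓ : ℕ} (h2 : 2 * ℓ ≤ n) :
    (cornerN F n ℓ).transpose * cornerN F n ℓ = diagD F n ℓ := by
  ext j k
  rw [Matrix.mul_apply]
  simp only [Matrix.transpose_apply, cornerN_apply, diagD]
  by_cases hjk : j = k
  · subst hjk
    rw [Matrix.diagonal_apply_eq]
    by_cases hj : j.val < ℓ
    · rw [if_pos hj]
      have hlt : j.val + (n - ℓ) < n := by omega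
      rw [Finset.sum_eq_single (⟨j.val + (n - ℓ), hlt⟩ : Fin n)]
      · simp [hj]
      · intro b _ hb
        have : ¬ (j.val < ℓ ∧ b.val = j.val + (n - ℓ)) := by
          rintro ⟨_, h⟩
          apply hb
          exact Fin.ext h
        rw [if_neg this, zero_mul]
      · intro h
        exact absurd (Finset.mem_univ _) h
    · rw [if_neg hj]
      apply Finset.sum_eq_zero
      intro i _
      have : ¬ (j.val < ℓ ∧ i.val = j.val + (n - ℓ)) := fun h => hj h.1
      rw [if_neg this, zero_mul]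
  · rw [Matrix.diagonal_apply_ne _ hjk]
    apply Finset.sum_eq_zero
    intro i _
    by_cases h : j.val < ℓ ∧ i.val = j.val + (n - ℓ)
    · have : ¬ (k.val < ℓ ∧ i.val = k.val + (n - ℓ)) := by
        rintro ⟨_, h'⟩
        apply hjk
        apply Fin.ext
        omega
      rw [if_neg this, mul_zero]
    · rw [if_neg h, zero_mul]

theorem cornerN_mul_diagD {F : Type*} [Field F] {n ℓ : ℕ} :
    cornerN F n ℓ * diagD F n ℓ = cornerN F n ℓ := by
  ext i j
  rw [diagD, Matrix.mul_diagonal, cornerN_apply]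
  by_cases hj : j.val < ℓ
  · rw [if_pos hj, mul_one]
  · rw [if_neg hj, mul_zero]
    have : ¬ (j.val < ℓ ∧ i.val = j.val + (n - ℓ)) := fun h => hj h.1
    rw [if_neg this]

theorem rank_diagD {F : Type*} [Field F] {n ℓ : ℕ} (h : ℓ ≤ n) :
    (diagD F n ℓ).rank = ℓ := by
  classical
  rw [diagD, Matrix.rank_diagonal]
  have : ∀ i : Fin n, ((if i.val < ℓ then (1 : F) else 0) ≠ 0) ↔ i.val < ℓ := by
    intro i
    by_cases hi : i.val < ℓ <;> simp [hi]
  rw [Fintype.card_congr (Equiv.subtypeEquivRight this)]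
  rw [Fintype.card_subtype]
  have : (Finset.univ.filter (fun i : Fin n => i.val < ℓ)) = (Finset.univ : Finset (Fin ℓ)).map
      ⟨Fin.castLE h, Fin.castLE_injective h⟩ := by
    ext i
    simp only [Finset.mem_filter, Finset.mem_univ, true_and, Finset.mem_map,
      Function.Embedding.coeFn_mk]
    constructor
    · intro hi
      exact ⟨⟨i.val, hi⟩, Fin.ext rfl⟩
    · rintro ⟨a, rfl⟩
      simp
  rw [this, Finset.card_map, Finset.card_univ, Fintype.card_fin]

theorem rank_cornerN {F : Type*} [Field F] {n ℓ : ℕ} (h2 : 2 * ℓ ≤ n) :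
    (cornerN F n ℓ).rank = ℓ := by
  apply le_antisymm
  · have h := Matrix.rank_mul_le_right (cornerN F n ℓ) (diagD F n ℓ)
    rw [cornerN_mul_diagD, rank_diagD (by omega)] at h
    exact h
  · have h := Matrix.rank_mul_le_right (cornerN F n ℓ).transpose (cornerN F n ℓ)
    rw [cornerN_transpose_mul h2, rank_diagD (by omega)] at h
    exact h

theorem det_one_add_cornerN {F : Type*} [Field F] {n ℓ : ℕ} (h1 : 1 ≤ ℓ) (h2 : 2 * ℓ ≤ n) :
    (1 + cornerN F n ℓ).det = 1 := by
  rw [Matrix.det_of_isLowerTriangular]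
  · apply Finset.prod_eq_one
    intro i _
    rw [Matrix.add_apply, Matrix.one_apply_eq, cornerN_apply]
    have : ¬ (i.val < ℓ ∧ i.val = i.val + (n - ℓ)) := by
      rintro ⟨_, h⟩
      omega
    rw [if_neg this, add_zero]
  · intro i j hij
    have hij' : i < j := hij
    rw [Matrix.add_apply, Matrix.one_apply_ne (ne_of_lt hij'), cornerN_apply]
    have : ¬ (j.val < ℓ ∧ i.val = j.val + (n - ℓ)) := by
      rintro ⟨_, h⟩
      have : i.val < j.val := hij'
      omega
    rw [if_neg this, add_zero]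

/-- Over a finite field of characteristic two and for n ≥ 3: for every ℓ with 1 ≤ ℓ and 2ℓ ≤ n, the matrix j_ℓ that is the identity plus the entries 1 in positions (n − ℓ + i, i) for i < ℓ (an identity block of size ℓ in the lower left corner) lies in SL_n(F), has order 2, and j_ℓ − 1 has rank ℓ. Together with the conjugacy criterion by rank, these matrices represent the conjugacy classes of involutions of SL_n(F). -/
theorem result {F : Type*} [Field F] [Fintype F] [CharP F 2] {n : ℕ} (hn : 3 ≤ n) (ℓ : ℕ) (h1 : 1 ≤ ℓ) (h2 : 2 * ℓ ≤ n) :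
    ∃ a : Matrix.SpecialLinearGroup (Fin n) F, (a : Matrix (Fin n) (Fin n) F) = 1 + Matrix.of (fun i j : Fin n => if j.val < ℓ ∧ i.val = j.val + (n - ℓ) then (1 : F) else 0) ∧ orderOf a = 2 ∧ ((a : Matrix (Fin n) (Fin n) F) - 1).rank = ℓ := by
  let a : Matrix.SpecialLinearGroup (Fin n) F := ⟨1 + cornerN F n ℓ, det_one_add_cornerN h1 h2⟩
  have ha : (a : Matrix (Fin n) (Fin n) F) = 1 + cornerN F n ℓ := rfl
  haveI : Nonempty (Fin n) := ⟨⟨0, by omega⟩⟩
  refine ⟨a, rfl, ?_, ?_⟩
  · apply orderOf_eq_prime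
    · apply Subtype.ext
      rw [Matrix.SpecialLinearGroup.coe_pow, ha, pow_two, Matrix.SpecialLinearGroup.coe_one]
      rw [mul_add, add_mul, add_mul, cornerN_sq h2, one_mul, one_mul, mul_one, add_zero,
        add_assoc, CharTwo.add_self_eq_zero, add_zero]
    · intro h
      have h' := congrArg (fun a : Matrix.SpecialLinearGroup (Fin n) F =>
        (a : Matrix (Fin n) (Fin n) F) ⟨n - ℓ, by omega⟩ ⟨0, by omega⟩) h
      simp only [Matrix.SpecialLinearGroup.coe_one, ha] at h'
      rw [Matrix.add_apply, cornerN_apply] at h'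
      have hne : (⟨n - ℓ, by omega⟩ : Fin n) ≠ ⟨0, by omega⟩ := by
        intro h
        have := congrArg Fin.val h
        simp at this
        omega
      rw [Matrix.one_apply_ne hne] at h'
      simp at h'
      omega
  · rw [ha, add_sub_cancel_left]
    exact rank_cornerN h2

end Cfsg.Agent.S2163
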