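import Cfsg.Statements.S2165
import Cfsg.Agent.S2163

set_option autoImplicit false
open Cfsg

namespace Cfsg.Agent.S2165

open Matrix

/-- the involution exchanging `i` and `n - ℓ + i` for `i < ℓ` -/
def tauFun (n ℓ : ℕ) (h2 : 2 * ℓ ≤ n) (i : Fin n) : Fin n :=
  if h : i.val < ℓ then ⟨i.val + (n - ℓ), by omega⟩
  else if h' : n - ℓ ≤ i.val then ⟨i.val - (n - ℓ), by omega⟩
  else i

theorem tauFun_val (n ℓ : ℕ) (h2 : 2 * ℓ ≤ n) (i : Fin n) :
    (tauFun n ℓ h2 i).val = if i.val < ℓ then i.val + (n - ℓ)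
      else if n - ℓ ≤ i.val then i.val - (n - ℓ) else i.val := by
  unfold tauFun
  split_ifs <;> rfl

theorem tauFun_invol (n ℓ : ℕ) (h2 : 2 * ℓ ≤ n) (i : Fin n) :
    tauFun n ℓ h2 (tauFun n ℓ h2 i) = i := by
  apply Fin.ext
  rw [tauFun_val, tauFun_val]
  split_ifs <;> omega

/-- the permutation as an equivalence -/
def tauEquiv (n ℓ : ℕ) (h2 : 2 * ℓ ≤ n) : Equiv.Perm (Fin n) where
  toFun := tauFun n ℓ h2
  invFun := tauFun n ℓ h2
  left_inv := tauFun_invol n ℓ h2
  right_inv := tauFun_invol n ℓ h2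

/-- The permutation matrix of the statement. -/
def swapM (F : Type*) [Field F] (n ℓ : ℕ) : Matrix (Fin n) (Fin n) F :=
  Matrix.of (fun i j : Fin n => if (j.val < ℓ ∧ i.val = j.val + (n - ℓ)) ∨ (i.val < ℓ ∧ j.val = i.val + (n - ℓ)) ∨ (i = j ∧ ℓ ≤ i.val ∧ i.val < n - ℓ) then (1 : F) else 0)

theorem swapM_apply {F : Type*} [Field F] {n ℓ : ℕ} (h2 : 2 * ℓ ≤ n) (i j : Fin n) :
    swapM F n ℓ i j = if j = tauFun n ℓ h2 i then 1 else 0 := by
  unfold swapM
  simp only [Matrix.of_apply]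
  apply if_congr _ rfl rfl
  rw [Fin.ext_iff (a := j), tauFun_val, Fin.ext_iff]
  split_ifs <;> omega

theorem swapM_mulVec {F : Type*} [Field F] {n ℓ : ℕ} (h2 : 2 * ℓ ≤ n) (u : Fin n → F) :
    swapM F n ℓ *ᵥ u = u ∘ tauFun n ℓ h2 := by
  ext i
  rw [Matrix.mulVec, dotProduct]
  simp_rw [swapM_apply h2]
  simp

theorem swapM_sq {F : Type*} [Field F] {n ℓ : ℕ} (h2 : 2 * ℓ ≤ n) :
    swapM F n ℓ * swapM F n ℓ = 1 := by
  rw [Matrix.ext_iff_mulVec]
  intro v
  rw [← Matrix.mulVec_mulVec, swapM_mulVec h2, swapM_mulVec h2, Matrix.one_mulVec]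
  ext i
  simp [tauFun_invol]

theorem swapM_det {F : Type*} [Field F] [CharP F 2] {n ℓ : ℕ} (h2 : 2 * ℓ ≤ n) :
    (swapM F n ℓ).det = 1 := by
  have h := congrArg Matrix.det (swapM_sq (F := F) h2)
  rw [Matrix.det_mul, Matrix.det_one] at h
  have h' : ((swapM F n ℓ).det - 1) * ((swapM F n ℓ).det - 1) = 0 := by
    have : ((swapM F n ℓ).det - 1) * ((swapM F n ℓ).det - 1)
        = (swapM F n ℓ).det * (swapM F n ℓ).det - ((swapM F n ℓ).det + (swapM F n ℓ).det) + 1 := by
      ring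
    rw [this, h, CharTwo.add_self_eq_zero, sub_zero, CharTwo.add_self_eq_zero]
  have := mul_self_eq_zero.mp h'
  exact sub_eq_zero.mp this

theorem swapM_herm {F : Type*} [Field F] {n ℓ q : ℕ} (h2 : 2 * ℓ ≤ n) (u v : Fin n → F) :
    hermForm n F q (swapM F n ℓ *ᵥ u) (swapM F n ℓ *ᵥ v) = hermForm n F q u v := by
  rw [swapM_mulVec h2, swapM_mulVec h2]
  unfold hermForm
  exact Equiv.sum_comp (tauEquiv n ℓ h2) (fun i => u i * v i ^ q)

theorem swapM_sub_one_mulVec {F : Type*} [Field F] {n ℓ : ℕ} (h2 : 2 * ℓ ≤ n) (u : Fin n → F) :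
    (swapM F n ℓ - 1) *ᵥ u = fun i => u (tauFun n ℓ h2 i) - u i := by
  rw [Matrix.sub_mulVec, swapM_mulVec h2, Matrix.one_mulVec]
  rfl

theorem diagD_mulVec {F : Type*} [Field F] {n ℓ : ℕ} (u : Fin n → F) :
    S2163.diagD F n ℓ *ᵥ u = fun i => if i.val < ℓ then u i else 0 := by
  ext i
  rw [S2163.diagD, Matrix.mulVec_diagonal]
  split_ifs <;> simp

theorem swapM_key {F : Type*} [Field F] {n ℓ : ℕ} (h2 : 2 * ℓ ≤ n) :
    swapM F n ℓ - 1 = (-(swapM F n ℓ - 1)) * S2163.diagD F n ℓ * (swapM F n ℓ - 1) := by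
  rw [neg_mul, neg_mul, Matrix.ext_iff_mulVec]
  intro u
  rw [Matrix.neg_mulVec, ← Matrix.mulVec_mulVec, ← Matrix.mulVec_mulVec, swapM_sub_one_mulVec h2 u,
    diagD_mulVec, swapM_sub_one_mulVec h2]
  ext i
  simp only [Pi.neg_apply, tauFun_invol]
  have hv := tauFun_val n ℓ h2 i
  by_cases hi : i.val < ℓ
  · have : ¬ (tauFun n ℓ h2 i).val < ℓ := by
      rw [hv, if_pos hi]; omega
    rw [if_pos hi, if_neg this]
    ring
  · by_cases hi' : n - ℓ ≤ i.val
    · have : (tauFun n ℓ h2 i).val < ℓ := by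
        rw [hv, if_neg hi, if_pos hi']; omega
      rw [if_neg hi, if_pos this]
      ring
    · have : tauFun n ℓ h2 i = i := by
        apply Fin.ext
        rw [hv, if_neg hi, if_neg hi']
      rw [this, if_neg hi]
      ring

theorem rank_swapM_sub_one {F : Type*} [Field F] {n ℓ : ℕ} (h2 : 2 * ℓ ≤ n) :
    (swapM F n ℓ - 1).rank = ℓ := by
  apply le_antisymm
  · rw [swapM_key h2]
    refine le_trans (Matrix.rank_mul_le_left _ _) ?_
    refine le_trans (Matrix.rank_mul_le_right _ _) ?_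
    rw [S2163.rank_diagD (by omega)]
  · let f : Fin ℓ → Fin n := fun a => ⟨a.val + (n - ℓ), by omega⟩
    let g : Fin ℓ → Fin n := fun a => ⟨a.val, by omega⟩
    have hsub : (swapM F n ℓ - 1).submatrix f g = 1 := by
      ext a b
      rw [Matrix.submatrix_apply, Matrix.sub_apply, swapM_apply h2]
      have h1 : (f a) ≠ (g b) := by
        intro h
        have := congrArg Fin.val h
        simp only [f, g] at this
        omega
      rw [Matrix.one_apply_ne h1, sub_zero]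
      have h3 : (g b = tauFun n ℓ h2 (f a)) ↔ a = b := by
        rw [Fin.ext_iff, tauFun_val, Fin.ext_iff]
        simp only [f, g]
        split_ifs <;> omega
      rw [Matrix.one_apply]
      exact if_congr h3 rfl rfl
    have := Matrix.rank_submatrix_le (swapM F n ℓ - 1) f g
    rw [hsub, Matrix.rank_one, Fintype.card_fin] at this
    exact this

/-- In SU_n(q), q even, n ≥ 3 (matrices of determinant 1 over the field with q² elements preserving Σ u_i v_i^q): for every ℓ with 1 ≤ ℓ and 2ℓ ≤ n, the permutation matrix of the involution of {0, …, n−1} exchanging i and n − ℓ + i for each i < ℓ lies in SU_n(q), has order 2, and differs from the identity by a matrix of rank ℓ. So every rank between 1 and n/2 occurs for involutions of SU_n(q). -/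
theorem result {F : Type*} [Field F] [Fintype F] [CharP F 2] {n q : ℕ} (hF : Fintype.card F = q ^ 2) (hn : 3 ≤ n) (ℓ : ℕ) (h1 : 1 ≤ ℓ) (h2 : 2 * ℓ ≤ n) :
    ∃ a : ↥(Cfsg.SU n F q), (((a : Matrix.SpecialLinearGroup (Fin n) F) : Matrix (Fin n) (Fin n) F) = Matrix.of (fun i j : Fin n => if (j.val < ℓ ∧ i.val = j.val + (n - ℓ)) ∨ (i.val < ℓ ∧ j.val = i.val + (n - ℓ)) ∨ (i = j ∧ ℓ ≤ i.val ∧ i.val < n - ℓ) then (1 : F) else 0)) ∧ orderOf a = 2 ∧ ((((a : Matrix.SpecialLinearGroup (Fin n) F) : Matrix (Fin n) (Fin n) F)) - 1).rank = ℓ := by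
  let a₀ : Matrix.SpecialLinearGroup (Fin n) F := ⟨swapM F n ℓ, swapM_det h2⟩
  have ha₀ : (a₀ : Matrix (Fin n) (Fin n) F) = swapM F n ℓ := rfl
  have hmem : a₀ ∈ Cfsg.SU n F q := by
    intro u v
    exact swapM_herm h2 u v
  let a : ↥(Cfsg.SU n F q) := ⟨a₀, hmem⟩
  refine ⟨a, rfl, ?_, ?_⟩
  · apply orderOf_eq_prime
    · apply Subtype.ext
      apply Subtype.ext
      show ((a₀ ^ 2 : Matrix.SpecialLinearGroup (Fin n) F) : Matrix (Fin n) (Fin n) F) = _
      rw [Matrix.SpecialLinearGroup.coe_pow, ha₀, pow_two, swapM_sq h2]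
      rfl
    · intro h
      have h' : (a₀ : Matrix (Fin n) (Fin n) F) = 1 := by
        have := congrArg (fun x : ↥(Cfsg.SU n F q) =>
          ((x : Matrix.SpecialLinearGroup (Fin n) F) : Matrix (Fin n) (Fin n) F)) h
        simpa using this
      rw [ha₀] at h'
      have h00 := congrFun (congrFun h' ⟨0, by omega⟩) ⟨0, by omega⟩
      rw [swapM_apply h2, Matrix.one_apply_eq] at h00
      have : (⟨0, by omega⟩ : Fin n) ≠ tauFun n ℓ h2 ⟨0, by omega⟩ := by
        intro h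
        have := congrArg Fin.val h
        rw [tauFun_val] at this
        simp only at this
        rw [if_pos (by omega)] at this
        omega
      rw [if_neg this] at h00
      exact zero_ne_one h00
  · show (swapM F n ℓ - 1).rank = ℓ
    exact rank_swapM_sub_one h2

end Cfsg.Agent.S2165
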