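import Mathlib
import Cfsg.Statements.S2167
import Cfsg.Agent.Helper7.SympTransitive
import Cfsg.Agent.Helper8.AltRank

set_option autoImplicit false
open Cfsg

namespace Cfsg.Agent.S2167

open Matrix Cfsg.Agent.Helper7.Symp

/-- For an involution t of the symplectic group Sp_{2m}(F), m ≥ 2, F a finite field of characteristic two (matrices A with A J Aᵀ = J acting on column vectors, alternating form f(u, v) = u ⬝ (J v)): the set V(t) of vectors v with f(v, t v) = 0 has either q^{2m} or q^{2m−1} elements, q the order of F (it is a subspace of codimension at most 1), and if it is the whole space then t − 1 has even rank. -/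
theorem result {F : Type*} [Field F] [Fintype F] [CharP F 2] {m : ℕ} (hm : 2 ≤ m) (a : ↥(Matrix.symplecticGroup (Fin m) F)) (ha : orderOf a = 2) :
    (Nat.card {v : Fin m ⊕ Fin m → F // Cfsg.sympForm m F v (Matrix.mulVec ((a : ↥(Matrix.symplecticGroup (Fin m) F)) : Matrix (Fin m ⊕ Fin m) (Fin m ⊕ Fin m) F) v) = 0} = Fintype.card F ^ (2 * m) ∨ Nat.card {v : Fin m ⊕ Fin m → F // Cfsg.sympForm m F v (Matrix.mulVec ((a : ↥(Matrix.symplecticGroup (Fin m) F)) : Matrix (Fin m ⊕ Fin m) (Fin m ⊕ Fin m) F) v) = 0} * Fintype.card F = Fintype.card F ^ (2 * m)) ∧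
    ((∀ v : Fin m ⊕ Fin m → F, Cfsg.sympForm m F v (Matrix.mulVec ((a : ↥(Matrix.symplecticGroup (Fin m) F)) : Matrix (Fin m ⊕ Fin m) (Fin m ⊕ Fin m) F) v) = 0) → Even (((a : ↥(Matrix.symplecticGroup (Fin m) F)) : Matrix (Fin m ⊕ Fin m) (Fin m ⊕ Fin m) F) - 1).rank) := by
  classical
  obtain ⟨A, hA⟩ : ∃ A : Matrix (Fin m ⊕ Fin m) (Fin m ⊕ Fin m) F, A = (a : Matrix (Fin m ⊕ Fin m) (Fin m ⊕ Fin m) F) := ⟨_, rfl⟩
  rw [← hA]
  have h2 : (2 : F) = 0 := by
    have := CharP.cast_eq_zero F 2
    exact_mod_cast this
  have hneg : ∀ x : F, -x = x := fun x => by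
    have : x + x = 0 := by rw [← two_mul, h2, zero_mul]
    exact neg_eq_of_add_eq_zero_left this
  have hAA : A * A = 1 := by
    have h := pow_orderOf_eq_one a
    rw [ha, pow_two] at h
    have := congrArg (fun x : ↥(Matrix.symplecticGroup (Fin m) F) => (x : Matrix (Fin m ⊕ Fin m) (Fin m ⊕ Fin m) F)) h
    simpa [hA] using this
  have hAAv : ∀ v, A *ᵥ (A *ᵥ v) = v := fun v => by
    rw [mulVec_mulVec, hAA, one_mulVec]
  have hpres : ∀ x y, sympForm m F (A *ᵥ x) (A *ᵥ y) = sympForm m F x y := by
    intro x y; rw [hA]; exact sympForm_mulVec a x y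
  have hsym : ∀ u v, sympForm m F v (A *ᵥ u) = sympForm m F u (A *ᵥ v) := by
    intro u v
    rw [← hpres v (A *ᵥ u), hAAv, sympForm_swap, hneg]
  -- the additive map
  let g : (Fin m ⊕ Fin m → F) →+ F :=
    { toFun := fun v => sympForm m F v (A *ᵥ v)
      map_zero' := by
        show sympForm m F 0 (A *ᵥ 0) = 0
        rw [mulVec_zero, sympForm_self]
      map_add' := by
        intro u v
        show sympForm m F (u + v) (A *ᵥ (u + v)) = sympForm m F u (A *ᵥ u) + sympForm m F v (A *ᵥ v)
        rw [mulVec_add, sympForm_add_left, sympForm_add_right, sympForm_add_right, hsym u v]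
        have : sympForm m F u (A *ᵥ v) + sympForm m F u (A *ᵥ v) = 0 := by
          rw [← two_mul, h2, zero_mul]
        linear_combination this }
  have hg : ∀ v, g v = sympForm m F v (A *ᵥ v) := fun v => rfl
  have hgs : ∀ (c : F) v, g (c • v) = c * c * g v := by
    intro c v
    rw [hg, hg, mulVec_smul, sympForm_smul_left, sympForm_smul_right]; ring
  have hcardV : Nat.card (Fin m ⊕ Fin m → F) = Fintype.card F ^ (2 * m) := by
    rw [Nat.card_eq_fintype_card, Fintype.card_fun, Fintype.card_sum, Fintype.card_fin, two_mul]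
  have hsub : Nat.card {v : Fin m ⊕ Fin m → F // sympForm m F v (A *ᵥ v) = 0} = Nat.card ↥g.ker :=
    Nat.card_congr (Equiv.subtypeEquivRight (fun v => by rw [AddMonoidHom.mem_ker, hg]))
  refine ⟨?_, ?_⟩
  · rw [hsub]
    by_cases hz : ∀ v, g v = 0
    · left
      have : g.ker = ⊤ := by
        rw [eq_top_iff]; intro v _; exact (AddMonoidHom.mem_ker).mpr (hz v)
      rw [this, ← hcardV]
      exact Nat.card_congr (AddSubgroup.topEquiv (G := Fin m ⊕ Fin m → F)).toEquiv
    · right
      push Not at hz
      obtain ⟨v₀, hv₀⟩ := hz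
      have hsurj : Function.Surjective g := by
        intro c
        obtain ⟨s, hs⟩ := FiniteField.isSquare_of_char_two (F := F) (by exact ringChar.eq F 2) (c / g v₀)
        refine ⟨s • v₀, ?_⟩
        rw [hgs, ← hs, div_mul_cancel₀ _ hv₀]
      have h1 := AddSubgroup.card_mul_index g.ker
      rw [AddSubgroup.index_ker, AddMonoidHom.range_eq_top.mpr hsurj] at h1
      rw [← hcardV, ← h1]
      congr 1
      rw [← Nat.card_eq_fintype_card]
      exact (Nat.card_congr (AddSubgroup.topEquiv (G := F)).toEquiv).symm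
  · intro hall
    -- the alternating form
    let T : Matrix (Fin m ⊕ Fin m) (Fin m ⊕ Fin m) F := A - 1
    let B : LinearMap.BilinForm F (Fin m ⊕ Fin m → F) :=
      LinearMap.mk₂ F (fun v u => sympForm m F u (T *ᵥ v))
        (fun v v' u => by
          show sympForm m F u (T *ᵥ (v + v')) = _
          rw [mulVec_add, sympForm_add_right])
        (fun c v u => by
          show sympForm m F u (T *ᵥ (c • v)) = _
          rw [mulVec_smul, sympForm_smul_right]; rfl)
        (fun v u u' => by
          show sympForm m F (u + u') (T *ᵥ v) = _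
          rw [sympForm_add_left])
        (fun c v u => by
          show sympForm m F (c • u) (T *ᵥ v) = _
          rw [sympForm_smul_left]; rfl)
    have hB : ∀ v u, B v u = sympForm m F u (T *ᵥ v) := fun v u => rfl
    have hTv : ∀ v, T *ᵥ v = A *ᵥ v - v := fun v => by
      show (A - 1) *ᵥ v = _
      rw [sub_mulVec, one_mulVec]
    have hAlt : B.IsAlt := by
      intro v
      rw [hB, hTv, sympForm_sub_right, hall, sympForm_self, sub_zero]
    obtain ⟨r, hr⟩ := Cfsg.Agent.Helper8.AltRank.exists_finrank_eq' B hAlt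
    have hker : LinearMap.ker B = LinearMap.ker T.mulVecLin := by
      ext v
      rw [LinearMap.mem_ker, LinearMap.mem_ker, Matrix.mulVecLin_apply]
      constructor
      · intro h
        by_contra hne
        obtain ⟨y, hy⟩ := exists_sympForm_ne_zero hne
        apply hy
        rw [sympForm_swap, ← hB, h]; simp
      · intro h
        refine LinearMap.ext (fun u => ?_)
        rw [hB, h]
        show sympForm m F u 0 = 0
        have := sympForm_smul_right (0 : F) u (0 : Fin m ⊕ Fin m → F)
        rwa [zero_smul, zero_mul] at this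
    have hrank : T.rank = 2 * r := by
      have h1 := LinearMap.finrank_range_add_finrank_ker T.mulVecLin
      rw [← hker] at h1
      unfold Matrix.rank
      omega
    exact ⟨r, by rw [hrank, two_mul]⟩

end Cfsg.Agent.S2167
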