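import Mathlib
import Cfsg.Statements.S2202
import Cfsg.Agent.Helper2.AbInvP

set_option autoImplicit false
open Cfsg

namespace Cfsg.Agent.S2202

open Cfsg.Agent.Helper2

/-- Finite groups in which the centralizer of every involution is abelian. Let G be a finite group of even order in which the centralizer of every element of order 2 is abelian. Then the Sylow 2-subgroups of G are cyclic, or a Sylow 2-subgroup of G is normal, or G is isomorphic to the direct product of SL₂(F) for a finite field F of characteristic two and an abelian group of odd order. -/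
theorem result {G : Type*} [Group G] [Finite G] (heven : Even (Nat.card G)) (h : ∀ t : G, orderOf t = 2 → IsMulCommutative ↥(Subgroup.centralizer ({t} : Set G))) :
    (∀ P : Sylow 2 G, IsCyclic ↥P) ∨ (∀ P : Sylow 2 G, (P : Subgroup G).Normal) ∨
    (∃ (F : Type) (_ : Field F) (_ : Fintype F) (A : Type) (_ : CommGroup A) (_ : Finite A), CharP F 2 ∧ Odd (Nat.card A) ∧ Nonempty (G ≃* Matrix.SpecialLinearGroup (Fin 2) F × A)) := by
    haveI : Fact (Nat.Prime 2) := ⟨Nat.prime_two⟩
    have hyp := Cfsg.Agent.Helper2.AbInv.hyp_of_isMulCommutative h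
    by_cases hcyc : ∀ P : Sylow 2 G, IsCyclic ↥P
    · exact Or.inl hcyc
    by_cases hnorm : ∀ P : Sylow 2 G, (P : Subgroup G).Normal
    · exact Or.inr (Or.inl hnorm)
    right; right
    push Not at hcyc hnorm
    obtain ⟨P, hP⟩ := hcyc
    obtain ⟨Q, hQ⟩ := hnorm
    have hPn : ¬ (P : Subgroup G).Normal := by
      intro hn
      apply hQ
      obtain ⟨g, rfl⟩ := MulAction.exists_smul_eq G P Q
      haveI := hn
      rw [Sylow.smul_eq_of_normal]
      exact hn
    have hC := Cfsg.Agent.Helper2.AbInv.concl_of_hyp (Nat.card G) G rfl hyp P hP hPn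
    exact Cfsg.Agent.Helper2.AbInv.exists_equiv hyp P hP hPn hC

end Cfsg.Agent.S2202
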