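import Cfsg.Statements.S2241
import Cfsg.Agent.Helper7.SzSetup
import Cfsg.Agent.S0330

set_option autoImplicit false
open Cfsg

namespace Cfsg.Agent.S2241

open Cfsg.Agent.Helper7.Sz Cfsg.Agent.Helper7 MulAction

variable {F : Type*} [Field F] [Fintype F] {m : ℕ}

theorem sg_add_self_ne_one (h : FH F m) (u : F) : sg m u + u ≠ 1 := by
  intro e
  have e1 : sg m u = u + 1 := by
    have : sg m u = (sg m u + u) + u := by
      rw [add_assoc, h.add_self, add_zero]
    rw [this, e, add_comm]
  have e2 : sg m (sg m u) = u := by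
    rw [e1, h.sg_add, sg_one, e1, add_assoc, h.add_self, add_zero]
  rw [h.sg_sg] at e2
  have hu : u = 0 ∨ u = 1 := by
    have : u * (u - 1) = 0 := by rw [mul_sub, e2, mul_one, sub_self]
    rcases mul_eq_zero.1 this with h0 | h0
    · exact Or.inl h0
    · exact Or.inr (sub_eq_zero.1 h0)
  rcases hu with rfl | rfl
  · rw [sg_zero, add_zero] at e
    exact zero_ne_one e
  · rw [sg_one, h.add_self] at e
    exact zero_ne_one e

/-- The statement for the standard Sylow subgroup. -/
theorem key (h : FH F m) (a b : F) (hne : TelS h a b ≠ 1) :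
    IsConj (TelS h a b) (TelS h a b)⁻¹ ↔ orderOf (TelS h a b) = 2 := by
  have hinv : (TelS h a b)⁻¹ = TelS h a (b + sg m a * a) := Subtype.ext (Tel_inv h a b)
  have hsq : TelS h a b * TelS h a b = TelS h 0 (sg m a * a) := by
    apply Subtype.ext
    show Tel m a b * Tel m a b = Tel m 0 (sg m a * a)
    rw [Tel_mul h, h.add_self, h.add_self, zero_add]
  by_cases ha : a = 0
  · subst ha
    have h1 : TelS h 0 b * TelS h 0 b = 1 := by
      rw [hsq, sg_zero, zero_mul]
      exact Subtype.ext Tel_zero
    have h2 : (TelS h 0 b)⁻¹ = TelS h 0 b := inv_eq_of_mul_eq_one_left h1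
    constructor
    · intro _
      have : Fact (Nat.Prime 2) := ⟨Nat.prime_two⟩
      exact orderOf_eq_prime (by rw [pow_two]; exact h1) hne
    · intro _
      rw [h2]
  · have hsa : sg m a * a ≠ 0 := mul_ne_zero (sg_ne_zero ha) ha
    constructor
    · intro hc
      exfalso
      obtain ⟨c, hc⟩ := isConj_iff.1 hc
      -- `c` fixes the point at infinity
      have hS := setup h
      have hcfix : c • (ωinf m : Cfsg.suzukiOvoid F m) = ωinf m := by
        by_contra hne'
        have hfix : (TelS h a b)⁻¹ • (c • (ωinf m : Cfsg.suzukiOvoid F m)) = c • ωinf m := by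
          rw [← hc, ← mul_smul]
          have : c * TelS h a b * c⁻¹ * c = c * TelS h a b := by group
          rw [this, mul_smul]
          congr 1
          exact hS.le ⟨a, b, rfl⟩
        obtain ⟨s, -, huniq⟩ := hS.reg _ _ hne' hne'
        have e1 := huniq ⟨(TelS h a b)⁻¹, (Usub h).inv_mem ⟨a, b, rfl⟩⟩ hfix
        have e2 := huniq ⟨1, (Usub h).one_mem⟩ (one_smul _ _)
        have : (TelS h a b)⁻¹ = 1 := congrArg Subtype.val (e1.trans e2.symm)
        exact hne (inv_eq_one.1 this)
      have hcfix' : (c : Matrix.SpecialLinearGroup (Fin 4) F) •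
          (Pinf : Projectivization F (Fin 4 → F)) = Pinf := congrArg Subtype.val hcfix
      obtain ⟨c₁, d₁, t, ht, e⟩ := eq_Tel_mul_Hel h c.2 hcfix'
      have hc' : (c : Matrix.SpecialLinearGroup (Fin 4) F) * Tel m a b *
          (c : Matrix.SpecialLinearGroup (Fin 4) F)⁻¹ = Tel m a (b + sg m a * a) := by
        have := congrArg Subtype.val hc
        rw [hinv] at this
        exact this
      have key : (c : Matrix.SpecialLinearGroup (Fin 4) F) * Tel m a b *
          (c : Matrix.SpecialLinearGroup (Fin 4) F)⁻¹ =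
          Tel m c₁ d₁ * Tel m (sg m t * a) (t * t * sg m t * b) * (Tel m c₁ d₁)⁻¹ := by
        rw [e, _root_.mul_inv_rev, mul_assoc (Tel m c₁ d₁), Hel_mul_Tel h ht]
        group
      rw [key, Tel_inv h, Tel_mul h, Tel_mul h] at hc'
      obtain ⟨e1, e2⟩ := Tel_injective hc'
      have hst : sg m t = 1 := by
        have : sg m t * a = 1 * a := by
          have h3 : c₁ + sg m t * a + c₁ = sg m t * a + (c₁ + c₁) := by ring
          rw [h3, h.add_self, add_zero] at e1
          rw [one_mul]
          exact e1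
        exact mul_right_cancel₀ ha this
      have ht1 : t = 1 := h.sg_injective (by rw [hst, sg_one])
      subst ht1
      rw [sg_one] at e2
      -- the equation for the second coordinate
      have e3 : sg m c₁ * a + sg m a * c₁ = sg m a * a := by
        have h2 := h.two_eq_zero
        simp only [one_mul, mul_one] at e2
        rw [h.sg_add] at e2
        linear_combination e2 - (d₁ + sg m c₁ * c₁) * h2
      apply sg_add_self_ne_one h (c₁ / a)
      have : sg m (c₁ / a) = sg m c₁ / sg m a := div_pow _ _ _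
      rw [this]
      have hsa' : sg m a ≠ 0 := sg_ne_zero ha
      field_simp
      linear_combination e3
    · intro ho
      exfalso
      have : (TelS h a b) ^ 2 = 1 := by rw [← ho]; exact pow_orderOf_eq_one _
      rw [pow_two, hsq] at this
      have e1 : Tel m (0 : F) (sg m a * a) = Tel m 0 0 := by
        rw [Tel_zero]
        exact congrArg Subtype.val this
      exact hsa (Tel_injective e1).2

/-- Real 2-elements of the Suzuki group: with q = 2^(2m+1), m ≥ 1, and the group realised as the stabiliser in SL₄ of the Suzuki–Tits ovoid, a non-identity element of a Sylow 2-subgroup is conjugate to its inverse if and only if it is an involution; in particular no element of order 4 is conjugate to its inverse. -/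
theorem result {F : Type*} [Field F] [Fintype F] {m : ℕ} (hm : 1 ≤ m) (hF : Fintype.card F = 2 ^ (2 * m + 1)) (P : Sylow 2 ↥(Cfsg.Sz F m)) (g : ↥(Cfsg.Sz F m)) (hg : g ∈ (P : Subgroup ↥(Cfsg.Sz F m))) (h1 : g ≠ 1) :
    IsConj g g⁻¹ ↔ orderOf g = 2 := by
  have h : FH F m := ⟨hm, hF⟩
  have : Fact (Nat.Prime 2) := ⟨Nat.prime_two⟩
  have hcardU : Nat.card (Usub h) = 2 ^ (Nat.card (Cfsg.Sz F m)).factorization 2 := by
    rw [card_Usub h, card_Sz h, hF, Cfsg.Agent.S0330.factorization_two, pow_mul' 2 2, pow_two]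
  let PU : Sylow 2 (Cfsg.Sz F m) := Sylow.ofCard (Usub h) hcardU
  obtain ⟨y, hy⟩ := MulAction.exists_smul_eq (Cfsg.Sz F m) PU P
  have hmem : ∀ x, x ∈ (P : Subgroup (Cfsg.Sz F m)) ↔ y⁻¹ * x * y ∈ Usub h := by
    intro x
    rw [← hy, Sylow.coe_subgroup_smul, Subgroup.mem_pointwise_smul_iff_inv_smul_mem]
    show (MulAut.conj y)⁻¹ x ∈ Usub h ↔ _
    rw [MulAut.conj_inv_apply]
  obtain ⟨a, b, hab⟩ := (hmem g).1 hg
  have hne : TelS h a b ≠ 1 := by
    rw [← hab]
    intro e
    apply h1
    have : g = y * (y⁻¹ * g * y) * y⁻¹ := by group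
    rw [this, e]
    group
  have hk := key h a b hne
  rw [← hab] at hk
  have e1 : IsConj (y⁻¹ * g * y) (y⁻¹ * g * y)⁻¹ ↔ IsConj g g⁻¹ := by
    have hφ : ∀ z : Cfsg.Sz F m, y⁻¹ * z * y = (MulAut.conj y⁻¹) z := by
      intro z
      rw [MulAut.conj_apply, inv_inv]
    rw [hφ g, ← map_inv]
    constructor
    · intro hc
      have h4 := (MulAut.conj y⁻¹).symm.toMonoidHom.map_isConj hc
      have h5 : ∀ z : Cfsg.Sz F m, (MulAut.conj y⁻¹).symm.toMonoidHom ((MulAut.conj y⁻¹) z) = z :=
        fun z => (MulAut.conj y⁻¹).symm_apply_apply z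
      rw [h5, h5] at h4
      exact h4
    · intro hc
      exact (MulAut.conj y⁻¹).toMonoidHom.map_isConj hc
  have e3 : orderOf (y⁻¹ * g * y) = orderOf g := by
    have : y⁻¹ * g * y = (MulAut.conj y⁻¹) g := by
      rw [MulAut.conj_apply, inv_inv]
    rw [this]
    exact MulEquiv.orderOf_eq _ g
  rw [← e1, ← e3]
  exact hk

end Cfsg.Agent.S2241
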