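import Cfsg.Statements.S2247
import Cfsg.Agent.Helper7.SzSetup
import Cfsg.Agent.Helper7.TwoTransMax
import Cfsg.Agent.S0325
import Cfsg.Agent.S0330

set_option autoImplicit false
open Cfsg

namespace Cfsg.Agent.S2247

/-- In the Suzuki group with q = 2^(2m+1), m ≥ 1 (realised as the stabiliser in SL₄ of the Suzuki–Tits ovoid), the normalizer of a Sylow 2-subgroup P is a maximal subgroup and is the only maximal subgroup containing P. -/
theorem result {F : Type*} [Field F] [Fintype F] {m : ℕ} (hm : 1 ≤ m) (hF : Fintype.card F = 2 ^ (2 * m + 1)) (P : Sylow 2 ↥(Cfsg.Sz F m)) :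
    IsCoatom (Subgroup.normalizer ((P : Subgroup ↥(Cfsg.Sz F m)) : Set ↥(Cfsg.Sz F m))) ∧
    ∀ M : Subgroup ↥(Cfsg.Sz F m), IsCoatom M → (P : Subgroup ↥(Cfsg.Sz F m)) ≤ M → M = Subgroup.normalizer ((P : Subgroup ↥(Cfsg.Sz F m)) : Set ↥(Cfsg.Sz F m)) := by
  have h : Cfsg.Agent.Helper7.Sz.FH F m := ⟨hm, hF⟩
  have : Fact (Nat.Prime 2) := ⟨Nat.prime_two⟩
  have : IsSimpleGroup (Cfsg.Sz F m) := Cfsg.Agent.S0325.result hm hF
  have hcardU : Nat.card (Cfsg.Agent.Helper7.Sz.Usub h) =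
      2 ^ (Nat.card (Cfsg.Sz F m)).factorization 2 := by
    rw [Cfsg.Agent.Helper7.Sz.card_Usub h, Cfsg.Agent.Helper7.Sz.card_Sz h, hF,
      Cfsg.Agent.S0330.factorization_two, pow_mul' 2 2, pow_two]
  let PU : Sylow 2 (Cfsg.Sz F m) := Sylow.ofCard (Cfsg.Agent.Helper7.Sz.Usub h) hcardU
  obtain ⟨g, hg⟩ := MulAction.exists_smul_eq (Cfsg.Sz F m) PU P
  have hmem : ∀ x, x ∈ (P : Subgroup (Cfsg.Sz F m)) ↔ g⁻¹ * x * g ∈ Cfsg.Agent.Helper7.Sz.Usub h := by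
    intro x
    rw [← hg, Sylow.coe_subgroup_smul, Subgroup.mem_pointwise_smul_iff_inv_smul_mem]
    show (MulAut.conj g)⁻¹ x ∈ Cfsg.Agent.Helper7.Sz.Usub h ↔ _
    rw [MulAut.conj_inv_apply]
  exact ((Cfsg.Agent.Helper7.Sz.setup h).conjugate g _ hmem).maximal

end Cfsg.Agent.S2247
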