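import Mathlib
import Cfsg.Statements.S2249
import Cfsg.Agent.Helper8.NRkL

set_option autoImplicit false
open Cfsg

namespace Cfsg.Agent.S2249

open Cfsg.Agent.Helper8.NRk

/-- The normal 2-rank of the general linear group over a finite field of odd order q: for n ≥ 1 and S a Sylow 2-subgroup of GL_n(F), the largest rank of an elementary abelian subgroup of S that is normal in S equals n when q ≡ 1 (mod 4) and ⌊(n + 1)/2⌋ when q ≡ 3 (mod 4). -/
theorem result {F : Type*} [Field F] [Fintype F] {q : ℕ} (hF : Fintype.card F = q) (hodd : Odd q) (n : ℕ) (hn : 1 ≤ n) (S : Sylow 2 (Matrix.GeneralLinearGroup (Fin n) F)) :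
    (q % 4 = 1 → ((∃ E : Subgroup ↥(S : Subgroup (Matrix.GeneralLinearGroup (Fin n) F)), E.Normal ∧ Cfsg.IsElementaryAbelian 2 E ∧ 2 ^ (n) ≤ Nat.card ↥E) ∧
      ∀ E : Subgroup ↥(S : Subgroup (Matrix.GeneralLinearGroup (Fin n) F)), E.Normal → Cfsg.IsElementaryAbelian 2 E → Nat.card ↥E ≤ 2 ^ (n))) ∧
    (q % 4 = 3 → ((∃ E : Subgroup ↥(S : Subgroup (Matrix.GeneralLinearGroup (Fin n) F)), E.Normal ∧ Cfsg.IsElementaryAbelian 2 E ∧ 2 ^ ((n + 1) / 2) ≤ Nat.card ↥E) ∧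
      ∀ E : Subgroup ↥(S : Subgroup (Matrix.GeneralLinearGroup (Fin n) F)), E.Normal → Cfsg.IsElementaryAbelian 2 E → Nat.card ↥E ≤ 2 ^ ((n + 1) / 2))) := by

  subst hF
  have h2 : (2 : F) ≠ 0 := Cfsg.Agent.Helper7.two_ne_zero_of_odd_card hodd
  refine ⟨fun h1 => ⟨?_, fun E hE hEl => upper_one h1 n S E hE hEl⟩,
    fun h3 => ⟨?_, fun E hE hEl => upper_three h3 n S E hE hEl⟩⟩
  · obtain ⟨E, hEn, hEl, hEc⟩ := lower_gen h2 (k := 1) (m := n) (r := 0) (by norm_num)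
      (by omega) (val_eq_one_mod_four h1 n) S
    exact ⟨E, hEn, hEl, by rw [hEc, add_zero]⟩
  · obtain ⟨E, hEn, hEl, hEc⟩ := lower_gen h2 (k := 2) (m := n / 2) (r := n % 2) (by norm_num)
      (by omega) (val_eq_three_mod_four h3 n) S
    refine ⟨E, hEn, hEl, ?_⟩
    rw [hEc]
    have e : (n + 1) / 2 = n / 2 + n % 2 := by omega
    rw [e]

end Cfsg.Agent.S2249
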