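import Cfsg.Statements.S2260
import Mathlib

set_option autoImplicit false
open Cfsg

namespace Cfsg.Agent.S2260

open Polynomial in
/-- A nilpotent `d × d` matrix over a field has `d`-th power zero. -/
theorem nilp_pow_card {F : Type*} [Field F] {d : ℕ} (N : Matrix (Fin d) (Fin d) F) (hN : IsNilpotent N) :
    N ^ d = 0 := by
  have h1 := Matrix.isNilpotent_charpoly_sub_pow_of_isNilpotent hN
  have h2 : N.charpoly - X ^ (Fintype.card (Fin d)) = 0 := h1.eq_zero
  have h3 : N.charpoly = X ^ d := by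
    rw [sub_eq_zero] at h2
    simpa using h2
  have := Matrix.aeval_self_charpoly N
  rw [h3] at this
  simpa using this

/-- In characteristic `p`, `u ^ (p ^ k) = 1` iff `(u - 1) ^ (p ^ k) = 0`. -/
theorem pow_eq_one_iff {F : Type*} [Field F] (p : ℕ) [Fact p.Prime] [CharP F p] {d : ℕ}
    (u : GL (Fin d) F) (k : ℕ) :
    u ^ (p ^ k) = 1 ↔ ((u : Matrix (Fin d) (Fin d) F) - 1) ^ (p ^ k) = 0 := by
  rcases Nat.eq_zero_or_pos d with hd | hd
  · subst hd
    constructor
    · intro _; exact Subsingleton.elim _ _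
    · intro _; exact Subsingleton.elim _ _
  · have : Nonempty (Fin d) := ⟨⟨0, hd⟩⟩
    have hc : Commute (u : Matrix (Fin d) (Fin d) F) 1 := Commute.one_right _
    rw [sub_pow_char_pow_of_commute _ _ hc, one_pow, sub_eq_zero]
    constructor
    · intro h
      have := congrArg (fun g : GL (Fin d) F => (g : Matrix (Fin d) (Fin d) F)) h
      simpa using this
    · intro h
      apply Units.ext
      simpa using h

theorem result {F : Type*} [Field F] [Finite F] (p : ℕ) [Fact p.Prime] [CharP F p] (d : ℕ)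
    (u : GL (Fin d) F) (hu : IsNilpotent ((u : Matrix (Fin d) (Fin d) F) - 1)) :
    orderOf u ≤ p ^ Nat.clog p d ∧
    (((u : Matrix (Fin d) (Fin d) F) - 1) ^ (d - 1) ≠ 0 → orderOf u = p ^ Nat.clog p d) := by
  have hp : p.Prime := Fact.out
  have hp1 : 1 < p := hp.one_lt
  set N := (u : Matrix (Fin d) (Fin d) F) - 1 with hN
  have hNd : N ^ d = 0 := nilp_pow_card N hu
  have hle : d ≤ p ^ Nat.clog p d := Nat.le_pow_clog hp1 d
  have hpow : u ^ (p ^ Nat.clog p d) = 1 := by
    rw [pow_eq_one_iff p u]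
    have : p ^ Nat.clog p d = d + (p ^ Nat.clog p d - d) := by omega
    rw [this, pow_add, hNd, zero_mul]
  have hdvd : orderOf u ∣ p ^ Nat.clog p d := orderOf_dvd_of_pow_eq_one hpow
  refine ⟨Nat.le_of_dvd (pow_pos hp.pos _) hdvd, ?_⟩
  intro hne
  obtain ⟨j, hj, hjo⟩ := (Nat.dvd_prime_pow hp).mp hdvd
  rcases lt_or_eq_of_le hj with hlt | heq
  · exfalso
    have hlt' : p ^ j < d := Nat.pow_lt_of_lt_clog hlt
    have h1 : u ^ (p ^ j) = 1 := by rw [← hjo]; exact pow_orderOf_eq_one u
    rw [pow_eq_one_iff p u] at h1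
    apply hne
    have : d - 1 = p ^ j + (d - 1 - p ^ j) := by omega
    rw [this, pow_add, h1, zero_mul]
  · rw [hjo, heq]

end Cfsg.Agent.S2260
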