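import Cfsg.Statements.S2268

set_option autoImplicit false
open Cfsg

namespace Cfsg.Agent.S2268

open Subgroup in
/-- Let G be a finite group with an abelian Sylow p-subgroup P and let Q ≤ P. Then N_G(Q) = (N_G(Q) ∩ N_G(P))·C_G(Q), so that N_G(Q)/C_G(Q) is a homomorphic image of the subgroup (N_G(Q) ∩ N_G(P))/C_G(P) of N_G(P)/C_G(P); in particular the order of N_G(Q)/C_G(Q) divides the order of N_G(P)/C_G(P). -/
theorem result {G : Type*} [Group G] [Finite G] {p : ℕ} [Fact p.Prime]
    (P : Sylow p G) (hP : IsMulCommutative (P : Subgroup G)) (Q : Subgroup G) (hQ : Q ≤ (P : Subgroup G)) :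
    Subgroup.normalizer (Q : Set G) =
      (Subgroup.normalizer (Q : Set G) ⊓ Subgroup.normalizer ((P : Subgroup G) : Set G)) ⊔ Subgroup.centralizer (Q : Set G) ∧
    ((Subgroup.centralizer (Q : Set G)).subgroupOf (Subgroup.normalizer (Q : Set G))).index ∣ ((Subgroup.centralizer ((P : Subgroup G) : Set G)).subgroupOf (Subgroup.normalizer ((P : Subgroup G) : Set G))).index := by
  haveI := hP
  have hPcP : (P : Subgroup G) ≤ centralizer ((P : Subgroup G) : Set G) := Subgroup.le_centralizer _
  have hcPcQ : centralizer ((P : Subgroup G) : Set G) ≤ centralizer (Q : Set G) :=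
    Subgroup.centralizer_le (by exact_mod_cast hQ)
  have hPC : (P : Subgroup G) ≤ centralizer (Q : Set G) := hPcP.trans hcPcQ
  have hCN : centralizer (Q : Set G) ≤ normalizer (Q : Set G) := centralizer_le_normalizer _
  have hcPnP : centralizer ((P : Subgroup G) : Set G) ≤ normalizer ((P : Subgroup G) : Set G) :=
    centralizer_le_normalizer _
  have part1 : Subgroup.normalizer (Q : Set G) =
      (Subgroup.normalizer (Q : Set G) ⊓ Subgroup.normalizer ((P : Subgroup G) : Set G)) ⊔ Subgroup.centralizer (Q : Set G) := by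
    apply le_antisymm
    · intro g hg
      have h2 : ↑(g • P) ≤ centralizer (Q : Set G) := by
        rintro - ⟨z, hz, rfl⟩
        rw [mem_centralizer_iff]
        intro q hq
        have hg' : g⁻¹ ∈ normalizer (Q : Set G) := inv_mem hg
        have hq' : g⁻¹ * q * g⁻¹⁻¹ ∈ (Q : Set G) := (mem_set_normalizer_iff.mp hg' q).mp hq
        rw [inv_inv] at hq'
        have hcomm := (mem_centralizer_iff.mp (hPcP hz)) (g⁻¹ * q * g) (hQ hq')
        show q * (g * z * g⁻¹) = (g * z * g⁻¹) * q
        have : q = g * (g⁻¹ * q * g) * g⁻¹ := by group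
        rw [this]
        calc g * (g⁻¹ * q * g) * g⁻¹ * (g * z * g⁻¹) = g * ((g⁻¹ * q * g) * z) * g⁻¹ := by group
          _ = g * (z * (g⁻¹ * q * g)) * g⁻¹ := by rw [hcomm]
          _ = g * z * g⁻¹ * (g * (g⁻¹ * q * g) * g⁻¹) := by group
      obtain ⟨h, hh⟩ :=
        MulAction.exists_smul_eq (centralizer (Q : Set G)) ((g • P).subtype h2) (P.subtype hPC)
      simp_rw [Sylow.smul_subtype, Subgroup.smul_def, smul_smul] at hh
      have hhg : (h : G) * g ∈ normalizer ((P : Subgroup G) : Set G) :=
        Sylow.smul_eq_iff_mem_normalizer.mp (Sylow.subtype_injective hh)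
      have hhgN : (h : G) * g ∈ normalizer (Q : Set G) := mul_mem (hCN h.2) hg
      have : g = (h : G)⁻¹ * ((h : G) * g) := by group
      rw [this]
      rw [sup_comm]
      exact Subgroup.mul_mem_sup (inv_mem h.2) (Subgroup.mem_inf.mpr ⟨hhgN, hhg⟩)
    · exact sup_le inf_le_left hCN
  refine ⟨part1, ?_⟩
  set N := normalizer (Q : Set G) with hN
  set C := centralizer (Q : Set G) with hC
  set NP := normalizer ((P : Subgroup G) : Set G) with hNP
  set CP := centralizer ((P : Subgroup G) : Set G) with hCP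
  set M := N ⊓ NP with hM
  change C.relIndex N ∣ CP.relIndex NP
  have hMN : M ≤ N := inf_le_left
  have hMNP : M ≤ NP := inf_le_right
  have hCPM : CP ≤ M := le_inf (hcPcQ.trans hCN) hcPnP
  -- C.relIndex N = C.relIndex M
  have h1 : C.relIndex N = C.relIndex M := by
    have htop : M.subgroupOf N ⊔ C.subgroupOf N = ⊤ := by
      rw [← Subgroup.subgroupOf_sup hMN hCN, ← part1, Subgroup.subgroupOf_self]
    haveI : (C.subgroupOf N).Normal := Subgroup.normal_subgroupOf_centralizer_normalizer _
    have := Subgroup.relIndex_sup_right (H := M.subgroupOf N) (K := C.subgroupOf N)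
    rw [htop, Subgroup.relIndex_top_right] at this
    rw [Subgroup.relIndex_subgroupOf hMN] at this
    exact this
  rw [h1, ← Subgroup.inf_relIndex_right]
  have h2 : (C ⊓ M).relIndex M ∣ CP.relIndex M :=
    Subgroup.relIndex_dvd_of_le_left M (le_inf hcPcQ hCPM)
  have h3 : CP.relIndex M ∣ CP.relIndex NP :=
    Dvd.intro _ (Subgroup.relIndex_mul_relIndex CP M NP hCPM hMNP)
  exact h2.trans h3

end Cfsg.Agent.S2268
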