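import Cfsg.Statements.S2270

set_option autoImplicit false
open Cfsg

namespace Cfsg.Agent.S2270

open Subgroup in
/-- Let n ≥ 3, p an odd prime, and P an abelian Sylow p-subgroup of the symmetric group S_n (with p dividing n!, so that P ≠ 1). Then N(P)/C(P) has even order. -/
theorem result (n : ℕ) (hn : 3 ≤ n) {p : ℕ} [Fact p.Prime] (hp : p ≠ 2) (hpn : p ≤ n)
    (P : Sylow p (Equiv.Perm (Fin n))) (hP : IsMulCommutative (P : Subgroup (Equiv.Perm (Fin n)))) :
    2 ∣ ((Subgroup.centralizer ((P : Subgroup (Equiv.Perm (Fin n))) : Set (Equiv.Perm (Fin n)))).subgroupOf (Subgroup.normalizer ((P : Subgroup (Equiv.Perm (Fin n))) : Set (Equiv.Perm (Fin n))))).index := by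
  have hpp : p.Prime := Fact.out
  have hP' : IsMulCommutative P := hP
  have hPcP : (P : Subgroup (Equiv.Perm (Fin n))) ≤ centralizer ((P : Subgroup (Equiv.Perm (Fin n))) : Set (Equiv.Perm (Fin n))) :=
    Subgroup.le_centralizer _
  -- p divides n!
  have hdvd : p ∣ Nat.card (Equiv.Perm (Fin n)) := by
    rw [Nat.card_eq_fintype_card, Fintype.card_perm, Fintype.card_fin]
    exact (Nat.Prime.dvd_factorial hpp).mpr hpn
  have hdvdP : p ∣ Nat.card P := P.dvd_card_of_dvd_card hdvd
  obtain ⟨x, hx⟩ := exists_prime_orderOf_dvd_card' p hdvdP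
  have hxG : orderOf (x : Equiv.Perm (Fin n)) = p := by rw [Subgroup.orderOf_coe, hx]
  have hxP : (x : Equiv.Perm (Fin n)) ∈ P := x.2
  set y : Equiv.Perm (Fin n) := (x : Equiv.Perm (Fin n)) with hy
  have hyne : y ≠ y⁻¹ := by
    intro h
    have h2 : y ^ 2 = 1 := by
      rw [pow_two]
      nth_rewrite 1 [h]
      exact inv_mul_cancel y
    have := orderOf_dvd_of_pow_eq_one h2
    rw [hxG] at this
    exact hp ((Nat.prime_dvd_prime_iff_eq hpp Nat.prime_two).mp this)
  -- y is conjugate to y⁻¹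
  have hconj : IsConj y y⁻¹ := by
    rw [Equiv.Perm.isConj_iff_cycleType_eq, Equiv.Perm.cycleType_inv]
  obtain ⟨c, hc⟩ := isConj_iff.mp hconj
  have hy' : (c⁻¹)⁻¹ * y * c⁻¹ ∈ P := by
    rw [inv_inv, hc]
    exact inv_mem hxP
  obtain ⟨m, hmN, hm⟩ := P.conj_eq_normalizer_conj_of_mem y c⁻¹ hxP hy'
  rw [inv_inv, hc] at hm
  -- m ∈ N(P), y⁻¹ = m⁻¹ y m
  have hmN' : m ∈ normalizer ((P : Subgroup (Equiv.Perm (Fin n))) : Set (Equiv.Perm (Fin n))) := hmN
  set N := normalizer ((P : Subgroup (Equiv.Perm (Fin n))) : Set (Equiv.Perm (Fin n))) with hN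
  set C := centralizer ((P : Subgroup (Equiv.Perm (Fin n))) : Set (Equiv.Perm (Fin n))) with hC
  haveI : (C.subgroupOf N).Normal := Subgroup.normal_subgroupOf_centralizer_normalizer _
  let q : N ⧸ C.subgroupOf N := QuotientGroup.mk ⟨m, hmN'⟩
  have hq : orderOf q ∣ (C.subgroupOf N).index := by
    rw [Subgroup.index_eq_card]
    exact orderOf_dvd_natCard q
  refine dvd_trans ?_ hq
  by_contra hodd
  have hodd' : Odd (orderOf q) := by
    rw [← Nat.not_even_iff_odd, even_iff_two_dvd]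
    exact hodd
  obtain ⟨k, hk⟩ := hodd'
  have hqpow : q ^ (orderOf q) = 1 := pow_orderOf_eq_one q
  have hmem : (⟨m, hmN'⟩ : N) ^ (orderOf q) ∈ C.subgroupOf N := by
    rw [← QuotientGroup.eq_one_iff, QuotientGroup.mk_pow]
    exact hqpow
  have hmem' : m ^ (orderOf q) ∈ C := by
    rw [Subgroup.mem_subgroupOf] at hmem
    simpa using hmem
  have hcomm1 : Commute (m ^ (orderOf q)) y := by
    have := mem_centralizer_iff.mp hmem' y hxP
    exact this.symm
  -- m^2 commutes with y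
  have hmy : m * y⁻¹ = y * m := by
    rw [hm]; group
  have hmy' : m * y = y⁻¹ * m := by
    have h := congrArg (fun t => y⁻¹ * t * y) hmy
    simp only [mul_assoc, inv_mul_cancel, mul_one, inv_mul_cancel_left] at h
    exact h.symm
  have hcomm2 : Commute (m ^ 2) y := by
    show m ^ 2 * y = y * m ^ 2
    rw [pow_two, mul_assoc, hmy', ← mul_assoc, hmy, mul_assoc]
  have hcomm3 : Commute ((m ^ 2) ^ k) y := hcomm2.pow_left k
  have hmk : m ^ (orderOf q) = (m ^ 2) ^ k * m := by
    rw [hk, pow_succ, pow_mul]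
  have hcomm4 : Commute m y := by
    have : m = ((m ^ 2) ^ k)⁻¹ * m ^ (orderOf q) := by
      rw [hmk]; group
    rw [this]
    exact (hcomm3.inv_left).mul_left hcomm1
  apply hyne
  have : m * y = y * m := hcomm4
  rw [hm]
  rw [mul_assoc, ← this, inv_mul_cancel_left]

end Cfsg.Agent.S2270
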