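import Cfsg.Statements.S2271
import Cfsg.Agent.Helper4.FixProdE

set_option autoImplicit false
open Cfsg

namespace Cfsg.Agent.S2271

/-- Let n ≥ 5 and let a, b be non-identity permutations in the symmetric group S_n. Then the number of fixed points is not constant on the set of products a′b′ with a′ conjugate to a and b′ conjugate to b under the alternating group: there are even permutations g₁, h₁, g₂, h₂ such that (g₁ a g₁⁻¹)(h₁ b h₁⁻¹) and (g₂ a g₂⁻¹)(h₂ b h₂⁻¹) have different numbers of fixed points. -/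
theorem result (n : ℕ) (hn : 5 ≤ n) (a b : Equiv.Perm (Fin n)) (ha : a ≠ 1) (hb : b ≠ 1) :
    ∃ g₁ h₁ g₂ h₂ : Equiv.Perm (Fin n), g₁ ∈ alternatingGroup (Fin n) ∧ h₁ ∈ alternatingGroup (Fin n) ∧ g₂ ∈ alternatingGroup (Fin n) ∧ h₂ ∈ alternatingGroup (Fin n) ∧
      Nat.card (Function.fixedPoints ⇑(g₁ * a * g₁⁻¹ * (h₁ * b * h₁⁻¹))) ≠
        Nat.card (Function.fixedPoints ⇑(g₂ * a * g₂⁻¹ * (h₂ * b * h₂⁻¹))) := by
  obtain ⟨h₁, hh₁, h₂, hh₂, hne⟩ := Cfsg.Agent.Helper4.FixProd.main hn a b ha hb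
  refine ⟨1, h₁, 1, h₂, one_mem _, Cfsg.Agent.Helper4.FixProd.mem_E.1 hh₁, one_mem _,
    Cfsg.Agent.Helper4.FixProd.mem_E.1 hh₂, ?_⟩
  rw [Cfsg.Agent.Helper4.FixProd.card_fixedPoints_eq, Cfsg.Agent.Helper4.FixProd.card_fixedPoints_eq]
  simp only [one_mul, inv_one, mul_one]
  exact hne

end Cfsg.Agent.S2271
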