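import Cfsg.Statements.S2276
import Cfsg.Agent.Helper4.AnP14

set_option autoImplicit false
open Cfsg

namespace Cfsg.Agent.S2276

/-- Let n ≥ 5, p ≥ 3 a prime, and u, w non-identity elements of p-power order in the alternating group A_n. Then there is g ∈ A_n such that u·(g w g⁻¹) does not have p-power order and ⟨u, g w g⁻¹⟩ is not solvable. -/
theorem result (n : ℕ) (hn : 5 ≤ n) (p : ℕ) (hp : p.Prime) (hp3 : 3 ≤ p) (u w : alternatingGroup (Fin n)) (hu : u ≠ 1) (hw : w ≠ 1)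
    (hu' : ∃ k : ℕ, orderOf u = p ^ k) (hw' : ∃ k : ℕ, orderOf w = p ^ k) :
    ∃ g : alternatingGroup (Fin n), (¬ ∃ k : ℕ, orderOf (u * (g * w * g⁻¹)) = p ^ k) ∧
      ¬ Group.IsSolvable ↥(Subgroup.closure ({u, g * w * g⁻¹} : Set (alternatingGroup (Fin n)))) := by
  classical
  have hpow : ∀ (x : alternatingGroup (Fin n)), (∃ k : ℕ, orderOf x = p ^ k) →
      ∀ a ∈ (x : Equiv.Perm (Fin n)).cycleType, ∃ j : ℕ, a = p ^ j := by
    rintro x ⟨k, hk⟩ a ha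
    have h1 : a ∣ orderOf (x : Equiv.Perm (Fin n)) := Equiv.Perm.dvd_of_mem_cycleType ha
    rw [Subgroup.orderOf_coe, hk] at h1
    obtain ⟨j, _, hj⟩ := (Nat.dvd_prime_pow hp).1 h1
    exact ⟨j, hj⟩
  have hu1 : (u : Equiv.Perm (Fin n)) ≠ 1 := fun h => hu (Subtype.ext h)
  have hw1 : (w : Equiv.Perm (Fin n)) ≠ 1 := fun h => hw (Subtype.ext h)
  obtain ⟨g, hs, hg⟩ := Cfsg.Agent.Helper4.AnP.star hn hp hp3 (u : Equiv.Perm (Fin n))
    (w : Equiv.Perm (Fin n)) hu1 hw1 (hpow u hu') (hpow w hw') 1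
  have hgA : g ∈ alternatingGroup (Fin n) := Equiv.Perm.mem_alternatingGroup.2 hs
  refine ⟨⟨g, hgA⟩, ?_⟩
  have hgood : Cfsg.Agent.Helper4.AnP.Good p u ((⟨g, hgA⟩ : alternatingGroup (Fin n)) * w *
      (⟨g, hgA⟩ : alternatingGroup (Fin n))⁻¹) := by
    apply Cfsg.Agent.Helper4.AnP.good_of_map hp (alternatingGroup (Fin n)).subtype
    exact hg
  exact hgood

end Cfsg.Agent.S2276
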