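import Cfsg.Statements.S2278
import Mathlib
import Cfsg.Agent.SL3G.C2
import Cfsg.Agent.SL3G.H1_NT
import Cfsg.Agent.SL3G.H3_Q4
import Cfsg.Agent.SL3G.H4_Odd
import Cfsg.Agent.SL3G.H8_Reg

set_option autoImplicit false
open Cfsg

namespace Cfsg.Agent.S2278

open Cfsg.Agent.SL3G in
/-- Let F be a finite field. Then SL_3(F) is generated by two conjugate regular unipotent elements: there are u with u − 1 nilpotent and (u − 1)² ≠ 0, and g, such that u and g u g⁻¹ generate SL_3(F). -/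
theorem result {F : Type*} [Field F] [Fintype F] :
    ∃ u g : Matrix.SpecialLinearGroup (Fin 3) F, IsNilpotent ((u : Matrix (Fin 3) (Fin 3) F) - 1) ∧ ((u : Matrix (Fin 3) (Fin 3) F) - 1) ^ (3 - 1) ≠ 0 ∧
      Subgroup.closure ({u, g * u * g⁻¹} : Set (Matrix.SpecialLinearGroup (Fin 3) F)) = ⊤ := by
  classical
  by_cases h2 : (2 : F) = 0
  · by_cases h4 : Fintype.card F = 4
    · -- the field with four elements
      obtain ⟨w, _, hne, hcl, u, g, hu, _, ha, hb, hc, hd⟩ := h3_Q4 h4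
      obtain ⟨hn1, hn2⟩ := h8_regular_of_upper (1 : F) 1 w (by simp) _ hu
      exact ⟨u, g, hn1, hn2, gp_top 1 (w + 1) one_ne_zero hne hcl ha hb (w + 1) 0 (Or.inl hne) hc
        0 (w + 1) (Or.inr hne) hd⟩
    · -- characteristic two, more than four elements (or two)
      obtain ⟨ζ, hζ, hcl⟩ := h1_nt_even h2 h4
      exact goal_char2 h2 ζ hζ hcl
  · by_cases h3 : Fintype.card F = 3
    · obtain ⟨u, g, hu, _, ha, hb, hc, hd⟩ := h8_Q3 h3
      obtain ⟨hn1, hn2⟩ := h8_regular_of_upper (1 : F) 1 0 (by simp) _ hu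
      have hcl : Subfield.closure ({(1 : F) * 1} : Set F) = ⊤ :=
        h8_subfield_eq_top_of_card_prime (by rw [h3]; norm_num) _
      exact ⟨u, g, hn1, hn2, gp_top 1 1 one_ne_zero one_ne_zero hcl ha hb 1 1 (Or.inl one_ne_zero) hc
        1 1 (Or.inl one_ne_zero) hd⟩
    · by_cases h7 : Fintype.card F = 7
      · obtain ⟨u, g, hu, _, ha, hb, hc, hd⟩ := h8_Q7 h7
        obtain ⟨hn1, hn2⟩ := h8_regular_of_upper (1 : F) 1 0 (by simp) _ hu
        have hcl : Subfield.closure ({(3 : F) * 3} : Set F) = ⊤ :=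
          h8_subfield_eq_top_of_card_prime (by rw [h7]; norm_num) _
        have : CharP F 7 := h8_charP_of_card_prime (by norm_num) h7
        have h30 : (3 : F) ≠ 0 := by
          have := (CharP.cast_eq_zero_iff F 7 3).not.mpr (by norm_num)
          simpa using this
        exact ⟨u, g, hn1, hn2, gp_top 3 3 h30 h30 hcl ha hb 2 6 (Or.inl h2) hc 3 2 (Or.inl h30) hd⟩
      · exact h4_odd h2 h3 h7

end Cfsg.Agent.S2278
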