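import Mathlib
import Cfsg.Statements.S2300
import Cfsg.Agent.Helper8.SL2Count

set_option autoImplicit false
open Cfsg

namespace Cfsg.Agent.S2300

open Cfsg.Agent.Helper8.SL2C Cfsg.Agent.Helper7.SL2

/-- Over a finite field F with q elements, q even, every irreducible complex character of SL₂ has degree 1, q − 1, q or q + 1; and when q ≥ 4 (so that these four numbers are distinct) there are exactly one irreducible character of degree 1, one of degree q, (q − 2)/2 of degree q + 1 and q/2 of degree q − 1. -/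
theorem result {F : Type*} [Field F] [Fintype F] [CharP F 2] :
    (∀ χ : Matrix.SpecialLinearGroup (Fin 2) F → ℂ, Cfsg.IsIrrCharacter (Matrix.SpecialLinearGroup (Fin 2) F) χ →
      χ 1 = 1 ∨ χ 1 = (Fintype.card F : ℂ) - 1 ∨ χ 1 = (Fintype.card F : ℂ) ∨ χ 1 = (Fintype.card F : ℂ) + 1) ∧
    (4 ≤ Fintype.card F →
      Nat.card {χ : Cfsg.IrrCharacter (Matrix.SpecialLinearGroup (Fin 2) F) // (χ : Matrix.SpecialLinearGroup (Fin 2) F → ℂ) 1 = 1} = 1 ∧
      Nat.card {χ : Cfsg.IrrCharacter (Matrix.SpecialLinearGroup (Fin 2) F) // (χ : Matrix.SpecialLinearGroup (Fin 2) F → ℂ) 1 = (Fintype.card F : ℂ)} = 1 ∧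
      Nat.card {χ : Cfsg.IrrCharacter (Matrix.SpecialLinearGroup (Fin 2) F) // (χ : Matrix.SpecialLinearGroup (Fin 2) F → ℂ) 1 = (Fintype.card F : ℂ) + 1} = (Fintype.card F - 2) / 2 ∧
      Nat.card {χ : Cfsg.IrrCharacter (Matrix.SpecialLinearGroup (Fin 2) F) // (χ : Matrix.SpecialLinearGroup (Fin 2) F → ℂ) 1 = (Fintype.card F : ℂ) - 1} = Fintype.card F / 2) := by
  classical
  obtain ⟨t, ht⟩ := exists_ellt (F := F)
  have hq1 : 1 ≤ Fintype.card F := Fintype.card_pos
  have heven : Even (Fintype.card F) := by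
    have h2 : ringChar F = 2 := ringChar.eq F 2
    have := FiniteField.even_card_iff_char_two.mp h2
    exact Nat.even_iff.mpr this
  have hnodd : ¬ Odd (Fintype.card F) := Nat.not_odd_iff_even.mpr heven
  constructor
  · intro χ hχ
    obtain ⟨n, hn, hcases⟩ := natDegree_cases ht hχ
    rw [hn]
    rcases hcases with ⟨h1, -⟩ | ⟨h1, -⟩ | ⟨h1, -⟩ | ⟨h1, -⟩ | ⟨ho, -⟩ | ⟨ho, -⟩
    · left
      rw [h1, Nat.cast_one]
    · right; right; left
      rw [h1]
    · right; right; right
      rw [h1, Nat.cast_add, Nat.cast_one]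
    · right; left
      rw [h1, Nat.cast_sub hq1, Nat.cast_one]
    · exact absurd ho hnodd
    · exact absurd ho hnodd
  · intro hq
    refine ⟨natCard_deg_one hq, natCard_deg_q, ?_, ?_⟩
    · have h := two_mul_card_deg_add_one (F := F) hq
      rw [natCard_mulChar_sq_ne_one_even heven] at h
      omega
    · have h := two_mul_card_deg_sub_one (F := F) hq ht
      rw [natCard_hom_ne_inv_even heven ht] at h
      omega

end Cfsg.Agent.S2300
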