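import Mathlib
import Cfsg.Statements.S2301
import Cfsg.Agent.Helper8.SL2Parab
import Cfsg.Agent.Helper4.ClassSize

set_option autoImplicit false
open Cfsg

namespace Cfsg.Agent.S2301

open Cfsg.Agent.Helper8.SL2C Cfsg.Agent.Helper7.SL2

theorem two_ne_zero' {F : Type*} [Field F] (p : ℕ) [Fact p.Prime] [CharP F p] (hp : p ≠ 2) :
    (2 : F) ≠ 0 := by
  intro h
  have h1 : ((2 : ℕ) : F) = 0 := by exact_mod_cast h
  have h2 := (CharP.cast_eq_zero_iff F p 2).mp h1
  exact hp ((Nat.prime_dvd_prime_iff_eq Fact.out Nat.prime_two).mp h2)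

theorem index_ZU {F : Type*} [Field F] [Fintype F] (h2 : (2 : F) ≠ 0) :
    (ZU F).index = (Fintype.card F ^ 2 - 1) / 2 := by
  have h := Subgroup.card_mul_index (ZU F)
  rw [card_ZU h2, card_SL2] at h
  have hq : 0 < Fintype.card F := Fintype.card_pos
  have h' : Fintype.card F * (2 * (ZU F).index) = Fintype.card F * (Fintype.card F ^ 2 - 1) := by
    rw [← h]; ring
  have := Nat.eq_of_mul_eq_mul_left hq h'
  omega

/-- Over a finite field with q elements of odd characteristic p, the elements of order p of SL₂ (the non-identity unipotent elements) fall into exactly two conjugacy classes, each of size (q² − 1)/2; two upper unitriangular matrices with non-zero off-diagonal entries b and b′ are conjugate exactly when bb′ is a square. -/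
theorem result {F : Type*} [Field F] [Fintype F] (p : ℕ) [Fact p.Prime] [CharP F p] (hp : p ≠ 2) :
    Nat.card {C : ConjClasses (Matrix.SpecialLinearGroup (Fin 2) F) // ∃ g : Matrix.SpecialLinearGroup (Fin 2) F, orderOf g = p ∧ ConjClasses.mk g = C} = 2 ∧
    (∀ g : Matrix.SpecialLinearGroup (Fin 2) F, orderOf g = p → Nat.card (ConjClasses.mk g).carrier = (Fintype.card F ^ 2 - 1) / 2) ∧
    ∀ g h : Matrix.SpecialLinearGroup (Fin 2) F, (g : Matrix (Fin 2) (Fin 2) F) 0 0 = 1 → (g : Matrix (Fin 2) (Fin 2) F) 1 1 = 1 → (g : Matrix (Fin 2) (Fin 2) F) 1 0 = 0 → (g : Matrix (Fin 2) (Fin 2) F) 0 1 ≠ 0 →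
      (h : Matrix (Fin 2) (Fin 2) F) 0 0 = 1 → (h : Matrix (Fin 2) (Fin 2) F) 1 1 = 1 → (h : Matrix (Fin 2) (Fin 2) F) 1 0 = 0 → (h : Matrix (Fin 2) (Fin 2) F) 0 1 ≠ 0 →
      (IsConj g h ↔ IsSquare ((g : Matrix (Fin 2) (Fin 2) F) 0 1 * (h : Matrix (Fin 2) (Fin 2) F) 0 1)) := by
  have h2 : (2 : F) ≠ 0 := two_ne_zero' p hp
  obtain ⟨ν, hν⟩ := exists_nonsq (F := F) h2
  have hν0 : ν ≠ 0 := by
    rintro rfl
    exact hν IsSquare.zero
  refine ⟨?_, ?_, ?_⟩
  · rw [Nat.card_eq_two_iff]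
    refine ⟨⟨ConjClasses.mk (up 1), up 1, orderOf_up p one_ne_zero, rfl⟩,
      ⟨ConjClasses.mk (up ν), up ν, orderOf_up p hν0, rfl⟩, ?_, ?_⟩
    · intro h
      have h1 := congrArg Subtype.val h
      change ConjClasses.mk (up 1) = ConjClasses.mk (up ν) at h1
      rw [ConjClasses.mk_eq_mk_iff_isConj, isConj_up_iff_isSquare one_ne_zero hν0, one_mul] at h1
      exact hν h1
    · ext ⟨C, g, hg, hC⟩
      simp only [Set.mem_insert_iff, Set.mem_singleton_iff, Set.mem_univ, iff_true, Subtype.mk.injEq]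
      obtain ⟨ht, hne⟩ := (orderOf_eq_char_iff p g).mp hg
      obtain ⟨β, hβ, hc⟩ := isConj_up_of_tr ht hne
      rw [← hC]
      by_cases hsq : IsSquare β
      · left
        rw [ConjClasses.mk_eq_mk_iff_isConj]
        refine hc.trans ?_
        rw [isConj_up_iff_isSquare hβ one_ne_zero, mul_one]
        exact hsq
      · right
        rw [ConjClasses.mk_eq_mk_iff_isConj]
        refine hc.trans ?_
        rw [isConj_up_iff_isSquare hβ hν0]
        exact sq_mul_of_not hβ hsq hν
  · intro g hg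
    obtain ⟨ht, hne⟩ := (orderOf_eq_char_iff p g).mp hg
    obtain ⟨β, hβ, hc⟩ := isConj_up_of_tr ht hne
    rw [ConjClasses.mk_eq_mk_iff_isConj.mpr hc, ← Cfsg.Agent.Helper4.index_centralizer_eq_card_carrier,
      centralizer_up hβ, index_ZU h2]
  · intro g h g00 g11 g10 g01 h00 h11 h10 h01
    have hg : g = up ((g : Matrix (Fin 2) (Fin 2) F) 0 1) := by
      apply ext'
      · rw [g00, up_00]
      · rw [up_01]
      · rw [g10, up_10]
      · rw [g11, up_11]
    have hh : h = up ((h : Matrix (Fin 2) (Fin 2) F) 0 1) := by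
      apply ext'
      · rw [h00, up_00]
      · rw [up_01]
      · rw [h10, up_10]
      · rw [h11, up_11]
    rw [← isConj_up_iff_isSquare g01 h01, ← hg, ← hh]

end Cfsg.Agent.S2301
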