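import Cfsg.Statements.S2331
import Cfsg.Agent.Helper8.GL2

set_option autoImplicit false
open Cfsg

namespace Cfsg.Agent.S2331
open Cfsg.Agent.Helper8 Matrix

/-- companion element of `SL₂` with trace `t` -/
def compSL {F : Type*} [Field F] (t : F) : Matrix.SpecialLinearGroup (Fin 2) F :=
  ⟨compM t 1, det_compM t 1⟩

theorem coe_compSL {F : Type*} [Field F] (t : F) :
    ((compSL t : Matrix.SpecialLinearGroup (Fin 2) F) : Matrix (Fin 2) (Fin 2) F) = compM t 1 := rfl

/-- representatives of the conjugacy classes of `SL₂(F)` in characteristic 2 -/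
def rep {F : Type*} [Field F] : Option F → ConjClasses (Matrix.SpecialLinearGroup (Fin 2) F)
  | none => ConjClasses.mk 1
  | some t => ConjClasses.mk (compSL t)

theorem trace_conj_SL {F : Type*} [Field F] (c g : Matrix.SpecialLinearGroup (Fin 2) F) :
    ((c * g * c⁻¹ : Matrix.SpecialLinearGroup (Fin 2) F) : Matrix (Fin 2) (Fin 2) F).trace =
      (g : Matrix (Fin 2) (Fin 2) F).trace := by
  rw [Matrix.SpecialLinearGroup.coe_mul, Matrix.SpecialLinearGroup.coe_mul, Matrix.trace_mul_comm,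
    ← Matrix.mul_assoc, ← Matrix.SpecialLinearGroup.coe_mul, inv_mul_cancel,
    Matrix.SpecialLinearGroup.coe_one, Matrix.one_mul]

theorem compSL_ne_one {F : Type*} [Field F] (t : F) : compSL t ≠ 1 := by
  intro h
  have := congrArg (fun g : Matrix.SpecialLinearGroup (Fin 2) F => (g : Matrix (Fin 2) (Fin 2) F) 1 0) h
  simp [coe_compSL, compM] at this

theorem rep_injective {F : Type*} [Field F] : Function.Injective (rep (F := F)) := by
  rintro (_ | t) (_ | t') h
  · rfl
  · exfalso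
    simp only [rep, ConjClasses.mk_eq_mk_iff_isConj] at h
    obtain ⟨c, hc⟩ := isConj_iff.mp h
    apply compSL_ne_one t'
    rw [← hc]
    simp
  · exfalso
    simp only [rep, ConjClasses.mk_eq_mk_iff_isConj] at h
    obtain ⟨c, hc⟩ := isConj_iff.mp h.symm
    apply compSL_ne_one t
    rw [← hc]
    simp
  · simp only [rep, ConjClasses.mk_eq_mk_iff_isConj] at h
    obtain ⟨c, hc⟩ := isConj_iff.mp h
    have ht := trace_conj_SL c (compSL t)
    rw [hc, coe_compSL, coe_compSL, trace_compM, trace_compM] at ht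
    rw [ht]

theorem isConj_compSL {F : Type*} [Field F] [Fintype F] [CharP F 2]
    (g : Matrix.SpecialLinearGroup (Fin 2) F) (hg : g ≠ 1) :
    IsConj g (compSL (g : Matrix (Fin 2) (Fin 2) F).trace) := by
  have hdet : (g : Matrix (Fin 2) (Fin 2) F).det = 1 := g.2
  have hns : ¬ ((g : Matrix (Fin 2) (Fin 2) F) 0 1 = 0 ∧ (g : Matrix (Fin 2) (Fin 2) F) 1 0 = 0 ∧
      (g : Matrix (Fin 2) (Fin 2) F) 0 0 = (g : Matrix (Fin 2) (Fin 2) F) 1 1) := by
    rintro ⟨h01, h10, h00⟩
    apply hg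
    rw [Matrix.det_fin_two, h01, ← h00] at hdet
    have h1 : ((g : Matrix (Fin 2) (Fin 2) F) 0 0 - 1) * ((g : Matrix (Fin 2) (Fin 2) F) 0 0 - 1) = 0 := by
      have : ((g : Matrix (Fin 2) (Fin 2) F) 0 0 - 1) * ((g : Matrix (Fin 2) (Fin 2) F) 0 0 - 1)
          = (g : Matrix (Fin 2) (Fin 2) F) 0 0 * (g : Matrix (Fin 2) (Fin 2) F) 0 0
            - ((g : Matrix (Fin 2) (Fin 2) F) 0 0 + (g : Matrix (Fin 2) (Fin 2) F) 0 0) + 1 := by ring
      rw [this, CharTwo.add_self_eq_zero]
      have h' : (g : Matrix (Fin 2) (Fin 2) F) 0 0 * (g : Matrix (Fin 2) (Fin 2) F) 0 0 = 1 := by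
        linear_combination hdet
      rw [h', sub_zero, CharTwo.add_self_eq_zero]
    have h2 : (g : Matrix (Fin 2) (Fin 2) F) 0 0 = 1 := sub_eq_zero.mp (mul_self_eq_zero.mp h1)
    apply Subtype.ext
    ext i j
    fin_cases i <;> fin_cases j <;> simp [h01, h10, ← h00, h2]
  obtain ⟨x, y, hxy⟩ := exists_cyc (g : Matrix (Fin 2) (Fin 2) F) hns
  obtain ⟨s, hs⟩ := FiniteField.isSquare_of_char_two (ringChar.eq F 2) ((cycP (g : Matrix (Fin 2) (Fin 2) F) x y).det)⁻¹
  have hdetP : (s • cycP (g : Matrix (Fin 2) (Fin 2) F) x y).det = 1 := by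
    rw [Matrix.det_smul, Fintype.card_fin, pow_two, ← hs, inv_mul_cancel₀ hxy]
  let P : Matrix.SpecialLinearGroup (Fin 2) F := ⟨s • cycP (g : Matrix (Fin 2) (Fin 2) F) x y, hdetP⟩
  have hrel : g * P = P * compSL (g : Matrix (Fin 2) (Fin 2) F).trace := by
    apply Subtype.ext
    rw [Matrix.SpecialLinearGroup.coe_mul, Matrix.SpecialLinearGroup.coe_mul, coe_compSL]
    show (g : Matrix (Fin 2) (Fin 2) F) * (s • cycP (g : Matrix (Fin 2) (Fin 2) F) x y) = (s • cycP (g : Matrix (Fin 2) (Fin 2) F) x y) * _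
    rw [Matrix.mul_smul, Matrix.smul_mul, mul_cycP, hdet]
  rw [isConj_iff]
  refine ⟨P⁻¹, ?_⟩
  rw [inv_inv, mul_assoc, hrel, ← mul_assoc, inv_mul_cancel, one_mul]

theorem rep_surjective {F : Type*} [Field F] [Fintype F] [CharP F 2] :
    Function.Surjective (rep (F := F)) := by
  intro C
  obtain ⟨g, rfl⟩ := ConjClasses.mk_surjective C
  by_cases hg : g = 1
  · exact ⟨none, by rw [hg]; rfl⟩
  · refine ⟨some (g : Matrix (Fin 2) (Fin 2) F).trace, ?_⟩
    simp only [rep, ConjClasses.mk_eq_mk_iff_isConj]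
    exact (isConj_compSL g hg).symm

/-- Over a finite field with q elements, q even, the special linear group SL₂ has exactly q + 1 conjugacy classes. -/
theorem result {F : Type*} [Field F] [Fintype F] [CharP F 2] :
    Nat.card (ConjClasses (Matrix.SpecialLinearGroup (Fin 2) F)) = Fintype.card F + 1 := by
  classical
  rw [← Nat.card_congr (Equiv.ofBijective rep ⟨rep_injective (F := F), rep_surjective⟩)]
  rw [Nat.card_eq_fintype_card, Fintype.card_option]

end Cfsg.Agent.S2331
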