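import Cfsg.Statements.S2302
import Cfsg.Agent.S2331

set_option autoImplicit false
open Cfsg

namespace Cfsg.Agent.S2302
open Cfsg.Agent.Helper8 Matrix

/-- in characteristic 2, `x * x = y * y → x = y` -/
theorem eq_of_mul_self_eq {F : Type*} [Field F] [CharP F 2] {x y : F} (h : x * x = y * y) : x = y := by
  have h1 : (x - y) * (x - y) = 0 := by
    have : (x - y) * (x - y) = x * x - (x * y + x * y) + y * y := by ring
    rw [this, CharTwo.add_self_eq_zero, sub_zero, h, CharTwo.add_self_eq_zero]
  exact sub_eq_zero.mp (mul_self_eq_zero.mp h1)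

/-- an involution of `SL₂` in characteristic 2 has trace 0 -/
theorem trace_eq_zero {F : Type*} [Field F] [CharP F 2] (g : Matrix.SpecialLinearGroup (Fin 2) F)
    (hg : orderOf g = 2) : (g : Matrix (Fin 2) (Fin 2) F).trace = 0 := by
  have hg2 : g ^ 2 = 1 := by
    have := pow_orderOf_eq_one g
    rwa [hg] at this
  have hg1 : g ≠ 1 := by
    intro h
    rw [h, orderOf_one] at hg
    norm_num at hg
  have hM : (g : Matrix (Fin 2) (Fin 2) F) * (g : Matrix (Fin 2) (Fin 2) F) = 1 := by
    have := congrArg (fun x : Matrix.SpecialLinearGroup (Fin 2) F => (x : Matrix (Fin 2) (Fin 2) F)) hg2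
    simpa [pow_two] using this
  have hdet : (g : Matrix (Fin 2) (Fin 2) F).det = 1 := g.2
  set M := (g : Matrix (Fin 2) (Fin 2) F) with hMdef
  have e00 := congrFun (congrFun hM 0) 0
  have e01 := congrFun (congrFun hM 0) 1
  have e10 := congrFun (congrFun hM 1) 0
  have e11 := congrFun (congrFun hM 1) 1
  simp only [Matrix.mul_apply, Fin.sum_univ_two, Matrix.one_apply_eq, Matrix.one_apply_ne,
    ne_eq, Fin.isValue, zero_ne_one, one_ne_zero, not_false_eq_true] at e00 e01 e10 e11
  rw [Matrix.trace_fin_two]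
  by_contra htr
  have hb : M 0 1 = 0 := by
    have : M 0 1 * (M 0 0 + M 1 1) = 0 := by linear_combination e01
    rcases mul_eq_zero.mp this with h | h
    · exact h
    · exact absurd h htr
  have hc : M 1 0 = 0 := by
    have : M 1 0 * (M 0 0 + M 1 1) = 0 := by linear_combination e10
    rcases mul_eq_zero.mp this with h | h
    · exact h
    · exact absurd h htr
  rw [hb, hc] at e00 e11
  simp only [mul_zero, add_zero, zero_mul, zero_add] at e00 e11
  have ha : M 0 0 = 1 := eq_of_mul_self_eq (by rw [e00, one_mul])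
  have hd : M 1 1 = 1 := eq_of_mul_self_eq (by rw [e11, one_mul])
  apply htr
  rw [ha, hd]
  exact CharTwo.add_self_eq_zero 1

/-- characterisation of the class -/
theorem isConj_iff' {F : Type*} [Field F] [Fintype F] [CharP F 2]
    (g : Matrix.SpecialLinearGroup (Fin 2) F) (hg : orderOf g = 2)
    (h : Matrix.SpecialLinearGroup (Fin 2) F) :
    IsConj g h ↔ (h ≠ 1 ∧ (h : Matrix (Fin 2) (Fin 2) F).trace = 0) := by
  have hg1 : g ≠ 1 := by
    intro h'
    rw [h', orderOf_one] at hg
    norm_num at hg
  have htg := trace_eq_zero g hg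
  constructor
  · intro hc
    obtain ⟨c, hc⟩ := isConj_iff.mp hc
    constructor
    · intro h1
      apply hg1
      rw [h1] at hc
      have : g = c⁻¹ * 1 * c := by rw [← hc]; group
      rw [this]; group
    · rw [← hc, S2331.trace_conj_SL, htg]
  · rintro ⟨h1, ht⟩
    have c1 := S2331.isConj_compSL g hg1
    have c2 := S2331.isConj_compSL h h1
    rw [htg] at c1
    rw [ht] at c2
    exact c1.trans c2.symm

/-- Over a finite field with q elements of characteristic 2, the involutions of SL₂ (the non-identity unipotent elements) form a single conjugacy class, of size q² − 1. -/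
theorem result {F : Type*} [Field F] [Fintype F] [CharP F 2] (g h : Matrix.SpecialLinearGroup (Fin 2) F) (hg : orderOf g = 2) (hh : orderOf h = 2) :
    IsConj g h ∧ Nat.card (ConjClasses.mk g).carrier = Fintype.card F ^ 2 - 1 := by
  classical
  have hh1 : h ≠ 1 := by
    intro h'
    rw [h', orderOf_one] at hh
    norm_num at hh
  refine ⟨(isConj_iff' g hg h).mpr ⟨hh1, trace_eq_zero h hh⟩, ?_⟩
  -- the class as a subtype
  have hcar : ∀ x : Matrix.SpecialLinearGroup (Fin 2) F, x ∈ (ConjClasses.mk g).carrier ↔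
      (x ≠ 1 ∧ (x : Matrix (Fin 2) (Fin 2) F).trace = 0) := by
    intro x
    rw [ConjClasses.mem_carrier_iff_mk_eq, ConjClasses.mk_eq_mk_iff_isConj]
    rw [← isConj_iff' g hg x]
    exact ⟨IsConj.symm, IsConj.symm⟩
  let T := {p : F × F // ¬ (p = (0, 0))}
  have hsq : ∀ y : F, ∃ a : F, a * a = y := fun y => by
    obtain ⟨a, ha⟩ := FiniteField.isSquare_of_char_two (ringChar.eq F 2) y
    exact ⟨a, ha.symm⟩
  let Φ : (ConjClasses.mk g).carrier → T := fun x =>
    ⟨(((x : Matrix.SpecialLinearGroup (Fin 2) F) : Matrix (Fin 2) (Fin 2) F) 0 1,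
      ((x : Matrix.SpecialLinearGroup (Fin 2) F) : Matrix (Fin 2) (Fin 2) F) 1 0), by
      intro h0
      have hx := (hcar x.1).mp x.2
      rw [Prod.mk.injEq] at h0
      obtain ⟨h01, h10⟩ := h0
      apply hx.1
      have htr := hx.2
      rw [Matrix.trace_fin_two] at htr
      have had : ((x : Matrix.SpecialLinearGroup (Fin 2) F) : Matrix (Fin 2) (Fin 2) F) 0 0 =
          ((x : Matrix.SpecialLinearGroup (Fin 2) F) : Matrix (Fin 2) (Fin 2) F) 1 1 := by
        have := CharTwo.add_eq_zero.mp htr
        exact this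
      have hdet : ((x : Matrix.SpecialLinearGroup (Fin 2) F) : Matrix (Fin 2) (Fin 2) F).det = 1 := x.1.2
      rw [Matrix.det_fin_two, h01, ← had, zero_mul, sub_zero] at hdet
      have ha : ((x : Matrix.SpecialLinearGroup (Fin 2) F) : Matrix (Fin 2) (Fin 2) F) 0 0 = 1 :=
        eq_of_mul_self_eq (by rw [hdet, one_mul])
      apply Subtype.ext
      ext i j
      fin_cases i <;> fin_cases j <;> simp [h01, h10, ← had, ha]⟩
  have hΦinj : Function.Injective Φ := by
    intro x y hxy
    have h1 := congrArg (fun t : T => t.1) hxy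
    simp only [Φ, Prod.mk.injEq] at h1
    obtain ⟨h01, h10⟩ := h1
    have hx := (hcar x.1).mp x.2
    have hy := (hcar y.1).mp y.2
    have hxtr := hx.2
    have hytr := hy.2
    rw [Matrix.trace_fin_two] at hxtr hytr
    have hxad := CharTwo.add_eq_zero.mp hxtr
    have hyad := CharTwo.add_eq_zero.mp hytr
    have hxdet : ((x : Matrix.SpecialLinearGroup (Fin 2) F) : Matrix (Fin 2) (Fin 2) F).det = 1 := x.1.2
    have hydet : ((y : Matrix.SpecialLinearGroup (Fin 2) F) : Matrix (Fin 2) (Fin 2) F).det = 1 := y.1.2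
    rw [Matrix.det_fin_two, ← hxad] at hxdet
    rw [Matrix.det_fin_two, ← hyad, ← h01, ← h10] at hydet
    have h00 : ((x : Matrix.SpecialLinearGroup (Fin 2) F) : Matrix (Fin 2) (Fin 2) F) 0 0 =
        ((y : Matrix.SpecialLinearGroup (Fin 2) F) : Matrix (Fin 2) (Fin 2) F) 0 0 :=
      eq_of_mul_self_eq (by linear_combination hxdet - hydet)
    apply Subtype.ext
    apply Subtype.ext
    ext i j
    fin_cases i <;> fin_cases j
    · exact h00
    · exact h01
    · exact h10
    · show ((x : Matrix.SpecialLinearGroup (Fin 2) F) : Matrix (Fin 2) (Fin 2) F) 1 1 =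
        ((y : Matrix.SpecialLinearGroup (Fin 2) F) : Matrix (Fin 2) (Fin 2) F) 1 1
      rw [← hxad, ← hyad, h00]
  have hΦsurj : Function.Surjective Φ := by
    rintro ⟨⟨b, c⟩, hbc⟩
    obtain ⟨a, ha⟩ := hsq (1 + b * c)
    let M : Matrix (Fin 2) (Fin 2) F := !![a, b; c, a]
    have hdet : M.det = 1 := by
      simp only [M, Matrix.det_fin_two_of]
      rw [ha]; ring
    let x : Matrix.SpecialLinearGroup (Fin 2) F := ⟨M, hdet⟩
    have hxmem : x ∈ (ConjClasses.mk g).carrier := by
      rw [hcar]
      constructor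
      · intro h1
        apply hbc
        have e01 := congrArg (fun y : Matrix.SpecialLinearGroup (Fin 2) F => (y : Matrix (Fin 2) (Fin 2) F) 0 1) h1
        have e10 := congrArg (fun y : Matrix.SpecialLinearGroup (Fin 2) F => (y : Matrix (Fin 2) (Fin 2) F) 1 0) h1
        simp [x, M] at e01 e10
        rw [e01, e10]
      · show M.trace = 0
        simp only [M, Matrix.trace_fin_two_of]
        exact CharTwo.add_self_eq_zero a
    refine ⟨⟨x, hxmem⟩, ?_⟩
    apply Subtype.ext
    simp [Φ, x, M]
  rw [Nat.card_congr (Equiv.ofBijective Φ ⟨hΦinj, hΦsurj⟩), Nat.card_eq_fintype_card,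
    Fintype.card_subtype_compl, Fintype.card_subtype_eq, Fintype.card_prod, pow_two]

end Cfsg.Agent.S2302
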