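import Cfsg.Statements.S2303

set_option autoImplicit false
open Cfsg

namespace Cfsg.Agent.S2303
open Matrix

/-- commutation of 2×2 matrices, entrywise -/
theorem comm_iff {F : Type*} [Field F] (h g : GL (Fin 2) F) :
    h * g = g * h ↔
      ((h : Matrix (Fin 2) (Fin 2) F) * (g : Matrix (Fin 2) (Fin 2) F) =
        (g : Matrix (Fin 2) (Fin 2) F) * (h : Matrix (Fin 2) (Fin 2) F)) := by
  constructor
  · intro e
    have := congrArg (fun x : GL (Fin 2) F => (x : Matrix (Fin 2) (Fin 2) F)) e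
    simpa using this
  · intro e
    apply Units.ext
    simpa using e

theorem card_ne_zero_pairs {F : Type*} [Field F] [Fintype F] [DecidableEq F] :
    Fintype.card {p : F × F // ¬ (p = (0, 0))} = Fintype.card F ^ 2 - 1 := by
  rw [Fintype.card_subtype_compl, Fintype.card_subtype_eq, Fintype.card_prod, pow_two]

theorem part1 {F : Type*} [Field F] [Fintype F] (g : GL (Fin 2) F)
    (h01 : (g : Matrix (Fin 2) (Fin 2) F) 0 1 = 0) (h10 : (g : Matrix (Fin 2) (Fin 2) F) 1 0 = 0)
    (hne : (g : Matrix (Fin 2) (Fin 2) F) 0 0 ≠ (g : Matrix (Fin 2) (Fin 2) F) 1 1) :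
    Nat.card (Subgroup.centralizer ({g} : Set (GL (Fin 2) F))) = (Fintype.card F - 1) ^ 2 := by
  classical
  set M := (g : Matrix (Fin 2) (Fin 2) F) with hM
  -- elements of the centralizer are diagonal
  have hdiag : ∀ h : GL (Fin 2) F, h ∈ Subgroup.centralizer ({g} : Set (GL (Fin 2) F)) ↔
      ((h : Matrix (Fin 2) (Fin 2) F) 0 1 = 0 ∧ (h : Matrix (Fin 2) (Fin 2) F) 1 0 = 0) := by
    intro h
    rw [Subgroup.mem_centralizer_singleton_iff, comm_iff]
    set H := (h : Matrix (Fin 2) (Fin 2) F) with hH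
    constructor
    · intro e
      have e01 := congrFun (congrFun e 0) 1
      have e10 := congrFun (congrFun e 1) 0
      simp only [Matrix.mul_apply, Fin.sum_univ_two, ← hM, h01, h10, mul_zero, zero_mul, add_zero,
        zero_add] at e01 e10
      constructor
      · have : H 0 1 * (M 1 1 - M 0 0) = 0 := by linear_combination e01
        rcases mul_eq_zero.mp this with h' | h'
        · exact h'
        · exact absurd (sub_eq_zero.mp h').symm hne
      · have : H 1 0 * (M 0 0 - M 1 1) = 0 := by linear_combination e10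
        rcases mul_eq_zero.mp this with h' | h'
        · exact h'
        · exact absurd (sub_eq_zero.mp h') hne
    · rintro ⟨e01, e10⟩
      ext i j
      fin_cases i <;> fin_cases j <;>
        simp [Matrix.mul_apply, Fin.sum_univ_two, ← hM, h01, h10, e01, e10, mul_comm]
  -- bijection with Fˣ × Fˣ
  let toPair : Subgroup.centralizer ({g} : Set (GL (Fin 2) F)) → F × F := fun h =>
    (((h : GL (Fin 2) F) : Matrix (Fin 2) (Fin 2) F) 0 0, ((h : GL (Fin 2) F) : Matrix (Fin 2) (Fin 2) F) 1 1)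
  have hdetne : ∀ h : GL (Fin 2) F, (h : Matrix (Fin 2) (Fin 2) F).det ≠ 0 := by
    intro h
    have := (Matrix.GeneralLinearGroup.det h).ne_zero
    rwa [Matrix.GeneralLinearGroup.val_det_apply] at this
  let Ψ : Subgroup.centralizer ({g} : Set (GL (Fin 2) F)) → {p : F × F // p.1 ≠ 0 ∧ p.2 ≠ 0} := fun h =>
    ⟨toPair h, by
      have hd := (hdiag h.1).mp h.2
      have := hdetne h.1
      rw [Matrix.det_fin_two, hd.1, hd.2, mul_zero, sub_zero] at this
      exact ⟨left_ne_zero_of_mul this, right_ne_zero_of_mul this⟩⟩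
  have hΨinj : Function.Injective Ψ := by
    intro x y hxy
    have h1 := congrArg (fun t : {p : F × F // p.1 ≠ 0 ∧ p.2 ≠ 0} => t.1) hxy
    simp only [Ψ, toPair, Prod.mk.injEq] at h1
    have hx := (hdiag x.1).mp x.2
    have hy := (hdiag y.1).mp y.2
    apply Subtype.ext
    apply Units.ext
    ext i j
    fin_cases i <;> fin_cases j
    · exact h1.1
    · show ((x : GL (Fin 2) F) : Matrix (Fin 2) (Fin 2) F) 0 1 = ((y : GL (Fin 2) F) : Matrix (Fin 2) (Fin 2) F) 0 1
      rw [hx.1, hy.1]
    · show ((x : GL (Fin 2) F) : Matrix (Fin 2) (Fin 2) F) 1 0 = ((y : GL (Fin 2) F) : Matrix (Fin 2) (Fin 2) F) 1 0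
      rw [hx.2, hy.2]
    · exact h1.2
  have hΨsurj : Function.Surjective Ψ := by
    rintro ⟨⟨x, y⟩, hx, hy⟩
    simp only at hx hy
    let H : Matrix (Fin 2) (Fin 2) F := !![x, 0; 0, y]
    have hHdet : H.det ≠ 0 := by
      simp only [H, Matrix.det_fin_two_of, mul_zero, sub_zero]
      exact mul_ne_zero hx hy
    let h : GL (Fin 2) F := Matrix.GeneralLinearGroup.mkOfDetNeZero H hHdet
    have hmem : h ∈ Subgroup.centralizer ({g} : Set (GL (Fin 2) F)) := by
      rw [hdiag]
      simp [h, H, Matrix.GeneralLinearGroup.mkOfDetNeZero]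
    refine ⟨⟨h, hmem⟩, ?_⟩
    apply Subtype.ext
    simp [Ψ, toPair, h, H, Matrix.GeneralLinearGroup.mkOfDetNeZero]
  rw [Nat.card_congr (Equiv.ofBijective Ψ ⟨hΨinj, hΨsurj⟩)]
  have e : {p : F × F // p.1 ≠ 0 ∧ p.2 ≠ 0} ≃ {a : F // a ≠ 0} × {a : F // a ≠ 0} :=
    { toFun := fun p => (⟨p.1.1, p.2.1⟩, ⟨p.1.2, p.2.2⟩)
      invFun := fun p => ⟨(p.1.1, p.2.1), p.1.2, p.2.2⟩
      left_inv := fun p => rfl
      right_inv := fun p => rfl }
  rw [Nat.card_congr e, Nat.card_prod, Nat.card_eq_fintype_card]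
  have : Fintype.card {a : F // a ≠ 0} = Fintype.card F - 1 := by
    rw [Fintype.card_subtype_compl, Fintype.card_subtype_eq]
  rw [this, pow_two]

theorem part2 {F : Type*} [Field F] [Fintype F] (g : GL (Fin 2) F)
    (hno : ∀ (c : F) (v : Fin 2 → F), v ≠ 0 → (g : Matrix (Fin 2) (Fin 2) F).mulVec v ≠ c • v) :
    Nat.card (Subgroup.centralizer ({g} : Set (GL (Fin 2) F))) = Fintype.card F ^ 2 - 1 := by
  classical
  set M := (g : Matrix (Fin 2) (Fin 2) F) with hM
  have hc : M 1 0 ≠ 0 := by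
    intro h0
    apply hno (M 0 0) ![1, 0]
    · intro e
      have := congrFun e 0
      simp at this
    · ext i
      fin_cases i <;> simp [Matrix.mulVec, dotProduct, Fin.sum_univ_two, h0]
  have hcent : ∀ h : GL (Fin 2) F, h ∈ Subgroup.centralizer ({g} : Set (GL (Fin 2) F)) ↔
      ((h : Matrix (Fin 2) (Fin 2) F) 0 1 * M 1 0 = M 0 1 * (h : Matrix (Fin 2) (Fin 2) F) 1 0 ∧
       (h : Matrix (Fin 2) (Fin 2) F) 1 1 * M 1 0 = M 1 0 * (h : Matrix (Fin 2) (Fin 2) F) 0 0 +
          (M 1 1 - M 0 0) * (h : Matrix (Fin 2) (Fin 2) F) 1 0) := by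
    intro h
    rw [Subgroup.mem_centralizer_singleton_iff, comm_iff]
    set H := (h : Matrix (Fin 2) (Fin 2) F) with hH
    constructor
    · intro e
      have e00 := congrFun (congrFun e 0) 0
      have e10 := congrFun (congrFun e 1) 0
      simp only [Matrix.mul_apply, Fin.sum_univ_two, ← hM] at e00 e10
      constructor
      · linear_combination e00
      · linear_combination e10
    · rintro ⟨e1, e2⟩
      have h01 : H 0 1 = M 0 1 * H 1 0 / M 1 0 := by
        field_simp
        exact e1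
      have h11 : H 1 1 = H 0 0 + (M 1 1 - M 0 0) * H 1 0 / M 1 0 := by
        field_simp
        linear_combination e2
      ext i j
      fin_cases i <;> fin_cases j <;>
        simp only [Matrix.mul_apply, Fin.sum_univ_two, ← hM, Fin.zero_eta, Fin.mk_one, h01, h11] <;>
        field_simp <;> ring
  have hdetne : ∀ h : GL (Fin 2) F, (h : Matrix (Fin 2) (Fin 2) F).det ≠ 0 := by
    intro h
    have := (Matrix.GeneralLinearGroup.det h).ne_zero
    rwa [Matrix.GeneralLinearGroup.val_det_apply] at this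
  let toPair : Subgroup.centralizer ({g} : Set (GL (Fin 2) F)) → F × F := fun h =>
    (((h : GL (Fin 2) F) : Matrix (Fin 2) (Fin 2) F) 0 0 -
        ((h : GL (Fin 2) F) : Matrix (Fin 2) (Fin 2) F) 1 0 / M 1 0 * M 0 0,
      ((h : GL (Fin 2) F) : Matrix (Fin 2) (Fin 2) F) 1 0 / M 1 0)
  have hform : ∀ h : Subgroup.centralizer ({g} : Set (GL (Fin 2) F)),
      ((h : GL (Fin 2) F) : Matrix (Fin 2) (Fin 2) F) =
        (toPair h).1 • (1 : Matrix (Fin 2) (Fin 2) F) + (toPair h).2 • M := by
    intro h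
    obtain ⟨e1, e2⟩ := (hcent h.1).mp h.2
    set H := ((h : GL (Fin 2) F) : Matrix (Fin 2) (Fin 2) F) with hH
    have h01 : H 0 1 = M 0 1 * H 1 0 / M 1 0 := by
      field_simp
      exact e1
    have h11 : H 1 1 = H 0 0 + (M 1 1 - M 0 0) * H 1 0 / M 1 0 := by
      field_simp
      linear_combination e2
    ext i j
    fin_cases i <;> fin_cases j <;>
      simp only [toPair, ← hH, Matrix.add_apply, Matrix.smul_apply, Matrix.one_apply_eq, smul_eq_mul,
        Fin.zero_eta, Fin.mk_one, mul_one, mul_zero, zero_add, h01, h11, ne_eq, one_ne_zero,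
        zero_ne_one, not_false_eq_true, Matrix.one_apply_ne] <;>
      field_simp <;> ring
  let Ψ : Subgroup.centralizer ({g} : Set (GL (Fin 2) F)) → {p : F × F // ¬ (p = (0, 0))} := fun h =>
    ⟨toPair h, by
      intro e
      have hf := hform h
      rw [e] at hf
      simp only [zero_smul, add_zero] at hf
      have := hdetne h.1
      rw [hf] at this
      simp at this⟩
  have hΨinj : Function.Injective Ψ := by
    intro x y hxy
    have h1 : toPair x = toPair y := congrArg (fun t : {p : F × F // ¬ (p = (0, 0))} => t.1) hxy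
    apply Subtype.ext
    apply Units.ext
    show ((x : GL (Fin 2) F) : Matrix (Fin 2) (Fin 2) F) = ((y : GL (Fin 2) F) : Matrix (Fin 2) (Fin 2) F)
    rw [hform x, hform y, h1]
  have hΨsurj : Function.Surjective Ψ := by
    rintro ⟨⟨x, y⟩, hxy⟩
    let H : Matrix (Fin 2) (Fin 2) F := x • (1 : Matrix (Fin 2) (Fin 2) F) + y • M
    have hHdet : H.det ≠ 0 := by
      intro hd
      obtain ⟨v, hv, hv0⟩ := Matrix.exists_mulVec_eq_zero_iff.mpr hd
      simp only [H, Matrix.add_mulVec, Matrix.smul_mulVec, Matrix.one_mulVec] at hv0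
      by_cases hy : y = 0
      · subst hy
        simp only [zero_smul, add_zero] at hv0
        rcases smul_eq_zero.mp hv0 with h' | h'
        · exact hxy (by rw [h'])
        · exact hv h'
      · apply hno (-x / y) v hv
        have : y • M.mulVec v = -(x • v) := by
          rw [eq_neg_iff_add_eq_zero, add_comm]; exact hv0
        have h2 : M.mulVec v = y⁻¹ • (y • M.mulVec v) := by
          rw [smul_smul, inv_mul_cancel₀ hy, one_smul]
        rw [h2, this, smul_neg, smul_smul, ← neg_smul]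
        congr 1
        field_simp
    let h : GL (Fin 2) F := Matrix.GeneralLinearGroup.mkOfDetNeZero H hHdet
    have hmem : h ∈ Subgroup.centralizer ({g} : Set (GL (Fin 2) F)) := by
      rw [Subgroup.mem_centralizer_singleton_iff, comm_iff]
      show H * M = M * H
      simp [H, add_mul, mul_add]
    refine ⟨⟨h, hmem⟩, ?_⟩
    apply Subtype.ext
    show toPair ⟨h, hmem⟩ = (x, y)
    have h00 : ((h : GL (Fin 2) F) : Matrix (Fin 2) (Fin 2) F) 0 0 = x + y * M 0 0 := by
      show H 0 0 = _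
      simp [H]
    have h10 : ((h : GL (Fin 2) F) : Matrix (Fin 2) (Fin 2) F) 1 0 = y * M 1 0 := by
      show H 1 0 = _
      simp [H]
    simp only [toPair, h00, h10, Prod.mk.injEq]
    constructor
    · field_simp
      ring
    · field_simp
  rw [Nat.card_congr (Equiv.ofBijective Ψ ⟨hΨinj, hΨsurj⟩), Nat.card_eq_fintype_card,
    card_ne_zero_pairs]

theorem result {F : Type*} [Field F] [Fintype F] (g : Matrix.GeneralLinearGroup (Fin 2) F) :
    ((g : Matrix (Fin 2) (Fin 2) F) 0 1 = 0 → (g : Matrix (Fin 2) (Fin 2) F) 1 0 = 0 → (g : Matrix (Fin 2) (Fin 2) F) 0 0 ≠ (g : Matrix (Fin 2) (Fin 2) F) 1 1 →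
      Nat.card (Subgroup.centralizer ({g} : Set (Matrix.GeneralLinearGroup (Fin 2) F))) = (Fintype.card F - 1) ^ 2) ∧
    ((∀ (c : F) (v : Fin 2 → F), v ≠ 0 → (g : Matrix (Fin 2) (Fin 2) F).mulVec v ≠ c • v) →
      Nat.card (Subgroup.centralizer ({g} : Set (Matrix.GeneralLinearGroup (Fin 2) F))) = Fintype.card F ^ 2 - 1) :=
  ⟨part1 g, part2 g⟩

end Cfsg.Agent.S2303
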