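import Mathlib
import Cfsg.Statements.S2307
import Cfsg.Agent.Helper8.SL2Half

set_option autoImplicit false
open Cfsg

namespace Cfsg.Agent.S2307

open Cfsg.Agent.Helper8.SL2C Cfsg.Agent.Helper7.SL2

/-- the diagonal matrix `diag(ν, 1)` in `GL₂`. -/
noncomputable def dmat {F : Type*} [Field F] (ν : Fˣ) : Matrix.GeneralLinearGroup (Fin 2) F :=
  Matrix.GeneralLinearGroup.mkOfDetNeZero !![(ν : F), 0; 0, 1] (by
    rw [Matrix.det_fin_two_of]
    simp)

theorem eq_dconj_of_toGL {F : Type*} [Field F] (ν : Fˣ) (g h : Matrix.SpecialLinearGroup (Fin 2) F)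
    (hgh : Matrix.SpecialLinearGroup.toGL h = dmat ν * Matrix.SpecialLinearGroup.toGL g * (dmat ν)⁻¹) :
    h = dconj ν g := by
  have h1 : Matrix.SpecialLinearGroup.toGL h * dmat ν = dmat ν * Matrix.SpecialLinearGroup.toGL g :=
    mul_inv_eq_iff_eq_mul.mp hgh.symm |>.symm
  have h2 := congrArg (fun u : Matrix.GeneralLinearGroup (Fin 2) F => (u : Matrix (Fin 2) (Fin 2) F)) h1
  simp only [Matrix.GeneralLinearGroup.coe_mul, Matrix.SpecialLinearGroup.coe_GL_coe_matrix] at h2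
  have hd : ((dmat ν : Matrix.GeneralLinearGroup (Fin 2) F) : Matrix (Fin 2) (Fin 2) F) =
      !![(ν : F), 0; 0, 1] := rfl
  rw [hd] at h2
  have e00 := congrFun (congrFun h2 0) 0
  have e01 := congrFun (congrFun h2 0) 1
  have e10 := congrFun (congrFun h2 1) 0
  have e11 := congrFun (congrFun h2 1) 1
  simp only [Matrix.mul_apply, Fin.sum_univ_two, Matrix.of_apply, Matrix.cons_val_zero,
    Matrix.cons_val_one, Matrix.cons_val', Matrix.empty_val', Matrix.cons_val_fin_one,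
    mul_zero, add_zero, zero_add, mul_one, zero_mul, one_mul] at e00 e01 e10 e11
  have hν0 : (ν : F) ≠ 0 := Units.ne_zero ν
  apply ext'
  · rw [dconj_00]
    apply mul_right_cancel₀ hν0
    rw [e00, mul_comm]
  · rw [dconj_01, e01]
  · rw [dconj_10, ← e10, Units.val_inv_eq_inv_val]
    field_simp
  · rw [dconj_11, e11]

/-- Over a finite field F with q elements, q odd, let α be the multiplicative character of F of order 2. The character of SL₂ induced from the linear character b ↦ α(b₁₁) of the upper triangular subgroup is the sum of two distinct irreducible characters, each of degree (q + 1)/2, which are conjugate under GL₂: some fixed element of GL₂ conjugates the one into the other. -/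
theorem result {F : Type*} [Field F] [Fintype F] [DecidableEq F] (hodd : Odd (Fintype.card F)) (α : MulChar F ℂ)
    (hα : α ^ 2 = 1) (hα1 : α ≠ 1) :
    ∃ χ₁ χ₂ : Matrix.SpecialLinearGroup (Fin 2) F → ℂ, Cfsg.IsIrrCharacter (Matrix.SpecialLinearGroup (Fin 2) F) χ₁ ∧ Cfsg.IsIrrCharacter (Matrix.SpecialLinearGroup (Fin 2) F) χ₂ ∧ χ₁ ≠ χ₂ ∧
      Cfsg.indFun ((Cfsg.upperTriangularGL 2 F).comap Matrix.SpecialLinearGroup.toGL) (fun b => α (((b : Matrix.SpecialLinearGroup (Fin 2) F) : Matrix (Fin 2) (Fin 2) F) 0 0)) = χ₁ + χ₂ ∧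
      χ₁ 1 = (((Fintype.card F + 1) / 2 : ℕ) : ℂ) ∧ χ₂ 1 = (((Fintype.card F + 1) / 2 : ℕ) : ℂ) ∧
      ∃ x : Matrix.GeneralLinearGroup (Fin 2) F, ∀ g h : Matrix.SpecialLinearGroup (Fin 2) F,
        Matrix.SpecialLinearGroup.toGL h = x * Matrix.SpecialLinearGroup.toGL g * x⁻¹ → χ₂ h = χ₁ g := by
  obtain ⟨χ₁, χ₂, h1, h2, hne, hR, ν, hν⟩ := exists_halves hodd α hα hα1
  have h12 : χ₂ 1 = χ₁ 1 := by
    have := hν 1
    rwa [map_one] at this
  have hsum : χ₁ 1 + χ₂ 1 = (Fintype.card F : ℂ) + 1 := by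
    have := congrFun hR 1
    rw [Rind_one, Pi.add_apply] at this
    exact this.symm
  obtain ⟨k, hk⟩ := hodd
  have hdiv : (Fintype.card F + 1) / 2 = k + 1 := by omega
  have hχ1 : χ₁ 1 = (((Fintype.card F + 1) / 2 : ℕ) : ℂ) := by
    rw [hdiv]
    rw [h12, hk] at hsum
    push_cast at hsum ⊢
    linear_combination hsum / 2
  refine ⟨χ₁, χ₂, h1, h2, hne, hR, hχ1, by rw [h12, hχ1], dmat ν, ?_⟩
  intro g h hgh
  rw [eq_dconj_of_toGL ν g h hgh]
  exact hν g

end Cfsg.Agent.S2307
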