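import Mathlib
import Cfsg.Statements.S2308
import Cfsg.Agent.Helper8.GL2Perm

set_option autoImplicit false
open Cfsg

namespace Cfsg.Agent.S2308

open Cfsg.Agent.Helper8.GL2C

/-- Values of the permutation character of GL₂ over a finite field F with q elements on the cosets of its upper triangular subgroup (equivalently, the number of lines of F² that an element maps to themselves): q + 1 at a scalar matrix, 2 at a diagonal matrix with two different diagonal entries, 0 at an element with no eigenvector in F², and 1 at an upper triangular matrix with equal diagonal entries and non-zero upper right entry. -/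
theorem result {F : Type*} [Field F] [Fintype F] (g : Matrix.GeneralLinearGroup (Fin 2) F) :
    ((∃ a : F, (g : Matrix (Fin 2) (Fin 2) F) = a • (1 : Matrix (Fin 2) (Fin 2) F)) → Cfsg.fixedPointCharacter (Cfsg.upperTriangularGL 2 F) g = Fintype.card F + 1) ∧
    ((g : Matrix (Fin 2) (Fin 2) F) 0 1 = 0 → (g : Matrix (Fin 2) (Fin 2) F) 1 0 = 0 → (g : Matrix (Fin 2) (Fin 2) F) 0 0 ≠ (g : Matrix (Fin 2) (Fin 2) F) 1 1 →
      Cfsg.fixedPointCharacter (Cfsg.upperTriangularGL 2 F) g = 2) ∧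
    ((∀ (c : F) (v : Fin 2 → F), v ≠ 0 → (g : Matrix (Fin 2) (Fin 2) F).mulVec v ≠ c • v) → Cfsg.fixedPointCharacter (Cfsg.upperTriangularGL 2 F) g = 0) ∧
    ((g : Matrix (Fin 2) (Fin 2) F) 1 0 = 0 → (g : Matrix (Fin 2) (Fin 2) F) 0 0 = (g : Matrix (Fin 2) (Fin 2) F) 1 1 → (g : Matrix (Fin 2) (Fin 2) F) 0 1 ≠ 0 →
      Cfsg.fixedPointCharacter (Cfsg.upperTriangularGL 2 F) g = 1) := by
  classical
  rw [fixedPointCharacter_B]
  refine ⟨?_, ?_, ?_, ?_⟩
  · rintro ⟨a, ha⟩
    have h00 : (g : Matrix (Fin 2) (Fin 2) F) 0 0 = a := by rw [ha]; simp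
    have h01 : (g : Matrix (Fin 2) (Fin 2) F) 0 1 = 0 := by rw [ha]; simp
    have h10 : (g : Matrix (Fin 2) (Fin 2) F) 1 0 = 0 := by rw [ha]; simp
    have h11 : (g : Matrix (Fin 2) (Fin 2) F) 1 1 = a := by rw [ha]; simp
    have hne : (g : Matrix (Fin 2) (Fin 2) F) 0 0 ≠ 0 :=
      (diag_ne_zero_of_mem_B (mem_B.mpr h10)).1
    rw [R2_scalar 1 1 h01 h10 (by rw [h00, h11]), MulChar.one_apply (IsUnit.mk0 _ hne)]
    ring
  · intro h01 h10 hne
    have hd := diag_ne_zero_of_mem_B (mem_B.mpr h10)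
    rw [R2_diag 1 1 h01 h10 hne, MulChar.one_apply (IsUnit.mk0 _ hd.1),
      MulChar.one_apply (IsUnit.mk0 _ hd.2)]
    norm_num
  · intro h
    exact R2_ell 1 1 h
  · intro h10 heq h01
    have hd := diag_ne_zero_of_mem_B (mem_B.mpr h10)
    rw [R2_unip 1 1 h10 heq h01, MulChar.one_apply (IsUnit.mk0 _ hd.1)]
    norm_num

end Cfsg.Agent.S2308
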