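import Mathlib
import Cfsg.Statements.S2309
import Cfsg.Agent.Helper8.GL2Table

set_option autoImplicit false
open Cfsg

namespace Cfsg.Agent.S2309

open Cfsg.Agent.Helper8.GL2C Cfsg.Agent.Helper6

/-- Over a finite field F with q elements: every irreducible complex character of GL₂ of degree q − 1 vanishes at every diagonal matrix with two distinct entries, and every irreducible complex character of degree q + 1 vanishes at every element with no eigenvector in F². -/
theorem result {F : Type*} [Field F] [Fintype F] (χ : Matrix.GeneralLinearGroup (Fin 2) F → ℂ) (hχ : Cfsg.IsIrrCharacter (Matrix.GeneralLinearGroup (Fin 2) F) χ) (g : Matrix.GeneralLinearGroup (Fin 2) F) :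
    (χ 1 = (Fintype.card F : ℂ) - 1 → (g : Matrix (Fin 2) (Fin 2) F) 0 1 = 0 → (g : Matrix (Fin 2) (Fin 2) F) 1 0 = 0 → (g : Matrix (Fin 2) (Fin 2) F) 0 0 ≠ (g : Matrix (Fin 2) (Fin 2) F) 1 1 → χ g = 0) ∧
    (χ 1 = (Fintype.card F : ℂ) + 1 → (∀ (c : F) (v : Fin 2 → F), v ≠ 0 → (g : Matrix (Fin 2) (Fin 2) F).mulVec v ≠ c • v) → χ g = 0) := by
  classical
  constructor
  · intro hdeg h01 h10 hne
    by_cases hq : 3 ≤ Fintype.card F
    · exact isCusp_diag (IsCharacter.isClassFunction (IsIrrCharacter.isCharacter hχ))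
        (type_deg_sub_one hq hχ hdeg).1 h01 h10 hne
    · exfalso
      have hq2 : 2 ≤ Fintype.card F := Fintype.one_lt_card
      have hcard : Fintype.card Fˣ = 1 := by
        rw [Fintype.card_units]
        omega
      obtain ⟨h0, h1⟩ := diag_ne_zero_of_mem_B (mem_B.mpr h10)
      have hsub : Subsingleton Fˣ := Fintype.card_le_one_iff_subsingleton.mp hcard.le
      have := congrArg Units.val (Subsingleton.elim (Units.mk0 _ h0) (Units.mk0 _ h1))
      exact hne this
  · intro hdeg hg
    obtain ⟨α, β, -, rfl⟩ := type_deg_add_one hχ hdeg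
    exact R2_ell α β hg

end Cfsg.Agent.S2309
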