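import Mathlib
import Cfsg.Statements.S2310
import Cfsg.Agent.Helper8.GL2Table

set_option autoImplicit false
open Cfsg

namespace Cfsg.Agent.S2310

open Cfsg.Agent.Helper8.GL2C

/-- Over a finite field F with q ≥ 3 elements, let u be the upper unitriangular matrix of GL₂ with off-diagonal entry 1. An irreducible complex character χ of GL₂ takes at u the value 1 if χ has degree 1 or q + 1, the value −1 if χ has degree q − 1, and the value 0 if χ has degree q. -/
theorem result {F : Type*} [Field F] [Fintype F] (hq : 3 ≤ Fintype.card F) (χ : Matrix.GeneralLinearGroup (Fin 2) F → ℂ) (hχ : Cfsg.IsIrrCharacter (Matrix.GeneralLinearGroup (Fin 2) F) χ)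
    (u : Matrix.GeneralLinearGroup (Fin 2) F) (hu : (u : Matrix (Fin 2) (Fin 2) F) = !![1, 1; 0, 1]) :
    (χ 1 = 1 → χ u = 1) ∧ (χ 1 = (Fintype.card F : ℂ) + 1 → χ u = 1) ∧
    (χ 1 = (Fintype.card F : ℂ) - 1 → χ u = -1) ∧ (χ 1 = (Fintype.card F : ℂ) → χ u = 0) := by
  classical
  have hu' : u = uu 1 := by
    apply ext'
    · rw [hu]; rfl
    · rw [hu]; rfl
    · rw [hu]; rfl
    · rw [hu]; rfl
  subst hu'
  refine ⟨?_, ?_, ?_, ?_⟩
  · intro hdeg
    obtain ⟨α, rfl⟩ := type_deg_one hq hχ hdeg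
    rw [← bmat_one_one, detChar_bmat, Units.val_one, map_one, mul_one]
  · intro hdeg
    obtain ⟨α, β, -, rfl⟩ := type_deg_add_one hχ hdeg
    rw [R2_unip α β (uu_10 1) (by rw [uu_00, uu_11]) (by rw [uu_01]; exact one_ne_zero), uu_00,
      map_one, map_one, mul_one]
  · intro hdeg
    exact (type_deg_sub_one hq hχ hdeg).2
  · intro hdeg
    exact vanish_uu_of_degree hχ hdeg one_ne_zero

end Cfsg.Agent.S2310
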