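import Cfsg.Statements.S2312
import Cfsg.Agent.Lead.SteinChevD
import Cfsg.Agent.Helper4.StFixCount
import Cfsg.Agent.StV.Arith
import Cfsg.Agent.StV.Min
import Cfsg.Agent.StV.EndF
import Cfsg.Agent.StV.Chev
import Cfsg.Agent.StV.PartI9

set_option autoImplicit false
open Cfsg

namespace Cfsg.Agent.S2312

open Cfsg.Lie Matrix MulAction
open Cfsg.Agent.Helper7.BN Cfsg.Agent.Helper7.InvWords Cfsg.Agent.Helper7.Chev
open Cfsg.Agent.Lead.CoxComb Cfsg.Agent.Lead.SteinBN Cfsg.Agent.Lead.SteinChar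
  Cfsg.Agent.Lead.SteinChev Cfsg.Agent.Helper6 Cfsg.Agent.Helper4.StFix Cfsg.Agent.StV

/-- In a Chevalley group of type G₂, B₂, D₄, F₄, E₆, E₇ or E₈ over a finite field of characteristic p, the value of the Steinberg character at an element g of order prime to p (a semisimple element) is, up to sign, the largest power of p dividing the order of the centralizer of g. -/
theorem result {F : Type*} [Field F] [Fintype F] (p : ℕ) [Fact p.Prime] [CharP F p] (D : Cfsg.Lie.ChevalleyDatum) (hD : D ∈ [Cfsg.Lie.chevG2, Cfsg.Lie.chevB2, Cfsg.Lie.chevD4, Cfsg.Lie.chevF4, Cfsg.Lie.chevE6, Cfsg.Lie.chevE7, Cfsg.Lie.chevE8]) (g : ↥(D.group F)) (hg : ¬ p ∣ orderOf g) :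
    D.steinbergCharacter F g = ((p ^ (Nat.card ↥(Subgroup.centralizer ({g} : Set ↥(D.group F)))).factorization p : ℕ) : ℂ) ∨
      D.steinbergCharacter F g = -((p ^ (Nat.card ↥(Subgroup.centralizer ({g} : Set ↥(D.group F)))).factorization p : ℕ) : ℂ) := by
  classical
  have hG := good3_of_mem D hD
  have hT := T0_of_mem D hD
  have h5 := T5_of_mem D hD
  have h6 := T6_of_mem D hD
  have h8 := T8_of_mem D hD
  have h9 := T9_of_mem D hD
  have hG2 := hG.toGood2
  obtain ⟨P, hPB, hPN, hPS⟩ := exists_bnPair (F := F) hG2 hT hG.t3 hG.t4 h5 h6 h8 h9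
  have : Fintype ↥(D.group F) := Fintype.ofFinite _
  have himg : sRep hG2 F '' ((Finset.range D.rank : Finset ℕ) : Set ℕ) = P.S := by
    rw [hPS]
    exact image_sRep hG2
  have hpar : ∀ J, J ⊆ Finset.range D.rank →
      D.parabolicIn F J = P.parabolic (sRep hG2 F '' (J : Set ℕ)) := by
    intro J hJ
    exact parabolicIn_eq hG2 P.B hPB J hJ
  have hinj := stv_sRep_injOn (F := F) hG2 hD
  have hirr := steinberg_irr (F := F) D hD
  have hchar : Cfsg.IsCharacter ↥(D.group F) (D.steinbergCharacter F) :=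
    IsIrrCharacter.isCharacter hirr
  have hcl := IsCharacter.isClassFunction hchar
  have hvan := steinberg_vanish (F := F) p D hD
  -- reduce to a conjugate in a minimal parabolic subgroup
  obtain ⟨J, c, hJ, hgJ, hmin⟩ := stv_exists_min P himg g
  have hg' : ¬ p ∣ orderOf (c⁻¹ * g * c) := by rw [stv_orderOf_conj]; exact hg
  have hStg : D.steinbergCharacter F (c⁻¹ * g * c) = D.steinbergCharacter F g := by
    have := hcl g c⁻¹
    rwa [inv_inv] at this
  rw [← hStg, ← stv_card_centralizer_conj g c]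
  -- the end formula
  obtain ⟨w, K, hK, hasc, hinto, hSt⟩ := stv3_end_formula P (par := D.parabolicIn F) himg hpar hinj hJ
    (c⁻¹ * g * c) hgJ hmin
  obtain ⟨V, hVP, hnorm, hV, htrans⟩ := stv_chev p hD hG2 P hPB hPN hPS hJ hK w hasc hinto
  obtain ⟨k, hk, hkdvd⟩ := h4sf_card_fixed_in_orbit p (P.parabolic (sRep hG2 F '' (J : Set ℕ))) V hVP
    hnorm hV ((rep P w : ↥(D.group F)) : ↥(D.group F) ⧸ P.parabolic (sRep hG2 F '' (K : Set ℕ)))
    htrans (c⁻¹ * g * c) hgJ hg'
  have hF : stv_F P (sRep hG2 F '' (J : Set ℕ)) (sRep hG2 F '' (K : Set ℕ)) (c⁻¹ * g * c) w =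
      p ^ k := by
    rw [← hk]
    unfold stv_F
    apply Nat.card_congr
    apply Equiv.subtypeEquivRight
    intro x
    rw [mem_orbit_iff]
    constructor
    · rintro ⟨⟨a, hgx⟩, hfix⟩
      exact ⟨⟨a.1, a.2, hgx.symm⟩, hfix⟩
    · rintro ⟨⟨a, ha, hgx⟩, hfix⟩
      exact ⟨⟨⟨a, ha⟩, hgx.symm⟩, hfix⟩
  have hval : D.steinbergCharacter F (c⁻¹ * g * c) = (-1 : ℂ) ^ J.card * ((p ^ k : ℕ) : ℂ) := by
    change St (Finset.range D.rank) (D.parabolicIn F) (c⁻¹ * g * c) = _
    rw [hSt, hF]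
  exact stv_final_arith p _ (c⁻¹ * g * c)
    (fun Q hQ hQc => stv9_partI p _ hchar hvan (c⁻¹ * g * c) hg' Q hQ hQc) J.card k hval hkdvd

end Cfsg.Agent.S2312
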