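import Cfsg.Statements.S2314
import Cfsg.Agent.ChevUni.H1_Rel
import Cfsg.Agent.ChevUni.H1_Split

set_option autoImplicit false
open Cfsg

namespace Cfsg.Agent.S2314

/-- Steinberg's count of unipotent elements: in a Chevalley group of type G₂, B₂, D₄, F₄, E₆, E₇ or E₈ over a finite field of characteristic p with q elements, the number of elements of p-power order is q^(2N), N the number of positive roots — the square of the order of a Sylow p-subgroup. -/
theorem result {F : Type*} [Field F] [Fintype F] (p : ℕ) [Fact p.Prime] [CharP F p] (D : Cfsg.Lie.ChevalleyDatum) (hD : D ∈ [Cfsg.Lie.chevG2, Cfsg.Lie.chevB2, Cfsg.Lie.chevD4, Cfsg.Lie.chevF4, Cfsg.Lie.chevE6, Cfsg.Lie.chevE7, Cfsg.Lie.chevE8]) :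
    Nat.card {g : ↥(D.group F) // ∃ k : ℕ, orderOf g = p ^ k} = Fintype.card F ^ (2 * (D.nroots / 2)) := by
  open Cfsg.Lie Cfsg.Agent.Helper7.Chev Cfsg.Agent.Lead.SteinChev Cfsg.Agent.ChevUni in
  have hG := good3_of_mem D hD
  have hT := T0_of_mem D hD
  have h5 := T5_of_mem D hD
  have h6 := T6_of_mem D hD
  have h7 := T7_of_mem D hD
  have h8 := T8_of_mem D hD
  have h9 := T9_of_mem D hD
  obtain ⟨P, hPB, hPN, hPS⟩ := exists_bnPair (F := F) hG.toGood2 hT hG.t3 hG.t4 h5 h6 h8 h9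
  have himg : sRep hG.toGood2 F '' ((Finset.range D.rank : Finset ℕ) : Set ℕ) = P.S := by
    rw [hPS]
    exact image_sRep hG.toGood2
  refine h1_final p D hD (fun K => P.parabolic (l_J (sRep hG.toGood2 F) K))
    (fun J hJ => parabolicIn_eq hG.toGood2 P.B hPB J hJ) ?_
  intro J hJ 𝒱 h𝒱
  exact h1_rel p D hD
    (fun J w hw hJ => h1_reflWord_neg hG.toGood2 hT hG.t3 h7 (h1_T7n_of_mem D hD)
      (h1_split_of_mem D hD) hw hJ)
    P hPB hPN (sRep hG.toGood2 F) rfl himg hJ 𝒱 h𝒱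

end Cfsg.Agent.S2314
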