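import Cfsg.Statements.S2318
import Cfsg.Agent.ChevDZ.H8_Main
import Cfsg.Agent.ChevDZ.H1_UH
import Cfsg.Agent.ChevDZ.H1_Gen
import Cfsg.Agent.ChevDZ.H1_D5
import Cfsg.Agent.ChevDZ.H6_Cells
import Cfsg.Agent.ChevDZ.L_PalW
import Cfsg.Agent.ChevDZ.L_St
import Cfsg.Agent.ChevDZ.L_StVan
import Cfsg.Agent.ChevUni.H1_Split
import Cfsg.Agent.Helper7.ChevInvA

set_option autoImplicit false
open Cfsg

namespace Cfsg.Agent.S2318

open Cfsg.Agent.ChevDZ

/-- In a Chevalley group of type G₂, B₂, D₄, F₄, E₆, E₇ or E₈ over a finite field of characteristic p (for types G₂ and B₂ the field is assumed to have at least 3 elements, so that the group is perfect), the Steinberg character is the only irreducible complex character whose degree is divisible by the full power of p dividing the group order (the only irreducible character of p-defect zero). -/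
theorem result {F : Type*} [Field F] [Fintype F] (p : ℕ) [Fact p.Prime] [CharP F p] (D : Cfsg.Lie.ChevalleyDatum) (hD : D ∈ [Cfsg.Lie.chevG2, Cfsg.Lie.chevB2, Cfsg.Lie.chevD4, Cfsg.Lie.chevF4, Cfsg.Lie.chevE6, Cfsg.Lie.chevE7, Cfsg.Lie.chevE8]) (hq : (D = Cfsg.Lie.chevG2 ∨ D = Cfsg.Lie.chevB2) → 3 ≤ Fintype.card F)
    (χ : ↥(D.group F) → ℂ) (hχ : Cfsg.IsIrrCharacter ↥(D.group F) χ)
    (hdeg : ∃ d : ℕ, χ 1 = (d : ℂ) ∧ p ^ (Nat.card ↥(D.group F)).factorization p ∣ d) :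
    χ = D.steinbergCharacter F := by
  classical
  have hG3 := Cfsg.Agent.Helper7.Chev.good3_of_mem D hD
  have hG := hG3.toGood2
  have hT := Cfsg.Agent.Helper7.Chev.T0_of_mem D hD
  have h3 := hG3.t3
  have h4 := hG3.t4
  have h5 := Cfsg.Agent.Helper7.Chev.T5_of_mem D hD
  have h6 := Cfsg.Agent.Helper7.Chev.T6_of_mem D hD
  have h7 := Cfsg.Agent.Helper7.Chev.T7_of_mem D hD
  have h7n := Cfsg.Agent.ChevUni.h1_T7n_of_mem D hD
  have h8 := Cfsg.Agent.Helper7.Chev.T8_of_mem D hD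
  have h9 := Cfsg.Agent.Helper7.Chev.T9_of_mem D hD
  obtain ⟨W, hW⟩ := Cfsg.Agent.Helper7.Chev.exists_wList hG hT h6 h8
  have hpal := Cfsg.Agent.ChevDZ.l_hpal_of_mem D hD hW (Fintype.card F)
  have : Fintype ↥(D.group F) := Fintype.ofFinite _
  exact Cfsg.Agent.ChevDZ.dz_main (F := F) (h1_B D F) (h1_U D F) (h1_H D F) h1_hUB h1_hHB
    (h1_hUn hG) (h1_hBUH hG) (h1_hUH hG hT) D.rank (h1_iota hG F) (h1_hx hG hT)
    (h1_hnorm hG hT h3 h4 h5 h6) (h1_hgen hG) W (fun w hw => (hW.ok w hw).1)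
    (h6_hcover hG hT h3 h4 h5 h6 h8 h9 hW)
    (fun w hw w' hw' g => h6_hdisj hG hT h3 h4 h5 h6 h8 h9 hW hw hw' g) hW.nodup
    (fun w hw => h6_hcard hG hT h3 h4 h5 h6 h7 h7n h8 h9 hW hw)
    (fun i hi => h6_hW1 hG hT h6 hW hi) (h1_hpeel hG hT h3 h4 h5 h6 hW) (D.nroots / 2)
    (h1_hUN hG hT h3 h4 h7 h8) hpal.1 hpal.2 χ (D.steinbergCharacter F) hχ (l_st_irr D hD)
    (l_vanish_U p D hD χ hχ hdeg) (l_st_vanish_U p D hD)

end Cfsg.Agent.S2318
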