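import Cfsg.Statements.S2319
import Mathlib
import Cfsg.Agent.Hk.Const
import Cfsg.Agent.Hk.OrbB
import Cfsg.Agent.Hk.Cnt
import Cfsg.Agent.Hk.ChevC

set_option autoImplicit false
open Cfsg

namespace Cfsg.Agent.S2319

open Cfsg.Agent.Hk Cfsg.Agent.Helper7.BN

/-- In a Chevalley group of type G₂, B₂, D₄, F₄, E₆, E₇ or E₈ over a finite field, the number of distinct irreducible constituents of the permutation character on the cosets of B = UH equals the number of conjugacy classes (equivalently, of irreducible characters) of the Weyl group, the Coxeter group of the type with nodes numbered as the fundamental roots. -/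
theorem result {F : Type*} [Field F] [Fintype F]
    (dw : Cfsg.Lie.ChevalleyDatum × (Σ n : ℕ, CoxeterMatrix (Fin n)))
    (hdw : dw ∈ [(Cfsg.Lie.chevG2, ⟨2, CoxeterMatrix.G₂⟩), (Cfsg.Lie.chevB2, ⟨2, CoxeterMatrix.B 2⟩), (Cfsg.Lie.chevD4, ⟨4, Cfsg.Lie.coxeterD4⟩), (Cfsg.Lie.chevF4, ⟨4, CoxeterMatrix.F₄⟩),
      (Cfsg.Lie.chevE6, ⟨6, CoxeterMatrix.E₆⟩), (Cfsg.Lie.chevE7, ⟨7, CoxeterMatrix.E₇⟩), (Cfsg.Lie.chevE8, ⟨8, CoxeterMatrix.E₈⟩)]) :
    Nat.card {χ : Cfsg.IrrCharacter ↥(dw.1.group F) //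
      ∃ φ : ↥(dw.1.group F) → ℂ, Cfsg.IsCharacter ↥(dw.1.group F) φ ∧
        Cfsg.fixedPointCharacter ((dw.1.borelSubgroup F).subgroupOf (dw.1.group F)) = (χ : ↥(dw.1.group F) → ℂ) + φ} =
      Nat.card (ConjClasses dw.2.2.Group) := by
  classical
  -- P7: the (B,N)-pair, its parameter `|F|`, and the class number of its Weyl group
  obtain ⟨P, hB, hq, hconj⟩ := hk_chev (F := F) dw hdw
  haveI : Finite ↥(dw.1.group F) := inferInstance
  haveI : Fintype (W P) := Fintype.ofFinite _
  -- P6: constituents ↔ centre of the commutant; P5: Iwahori; P1–P4: generic Hecke algebra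
  rw [← hB, ← hk_permRep_character P.B,
    hk_card_constituents (Cfsg.permRep ℂ ↥(dw.1.group F) (↥(dw.1.group F) ⧸ P.B)),
    hk_finrank_commCenter P (Fintype.card F) hq, ← hconj]
  have hsys : Sys (RS P) := ⟨invol_RS P, exchange_RS P, mem_closure_RS P⟩
  have hpos : (0 : ℝ) < (Fintype.card F : ℝ) := by
    have : 0 < Fintype.card F := Fintype.card_pos
    exact_mod_cast this
  have h := hk_main hsys hpos
  rw [Complex.ofReal_natCast] at h
  exact h

end Cfsg.Agent.S2319
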