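import Mathlib
import Cfsg.Statements.S2321
import Cfsg.Agent.Helper8.SL2Steinberg

set_option autoImplicit false
open Cfsg

namespace Cfsg.Agent.S2321

open Cfsg.Agent.Helper8.SL2C Cfsg.Agent.Helper7.SL2

/-- Over a finite field F with q elements, an irreducible complex character of SL₂ of degree q (the Steinberg character) takes the value 1 at every diagonal matrix whose diagonal entry a has a² ≠ 1, the value −1 at every element with no eigenvector in F², and the value 0 at every upper triangular matrix with equal diagonal entries and non-zero upper right entry. -/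
theorem result {F : Type*} [Field F] [Fintype F] (χ : Matrix.SpecialLinearGroup (Fin 2) F → ℂ) (hχ : Cfsg.IsIrrCharacter (Matrix.SpecialLinearGroup (Fin 2) F) χ) (hdeg : χ 1 = (Fintype.card F : ℂ)) (g : Matrix.SpecialLinearGroup (Fin 2) F) :
    ((g : Matrix (Fin 2) (Fin 2) F) 0 1 = 0 → (g : Matrix (Fin 2) (Fin 2) F) 1 0 = 0 → (g : Matrix (Fin 2) (Fin 2) F) 0 0 ^ 2 ≠ 1 → χ g = 1) ∧
    ((∀ (c : F) (v : Fin 2 → F), v ≠ 0 → (g : Matrix (Fin 2) (Fin 2) F).mulVec v ≠ c • v) → χ g = -1) ∧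
    ((g : Matrix (Fin 2) (Fin 2) F) 1 0 = 0 → (g : Matrix (Fin 2) (Fin 2) F) 0 0 = (g : Matrix (Fin 2) (Fin 2) F) 1 1 → (g : Matrix (Fin 2) (Fin 2) F) 0 1 ≠ 0 → χ g = 0) := by
  classical
  rw [eq_St_of_degree hχ hdeg]
  have hd := det_eq g
  refine ⟨?_, ?_, ?_⟩
  · intro h01 h10 ha
    rw [h01, zero_mul, sub_zero] at hd
    have hu0 : IsUnit ((g : Matrix (Fin 2) (Fin 2) F) 0 0) := IsUnit.of_mul_eq_one _ hd
    have hu1 : IsUnit ((g : Matrix (Fin 2) (Fin 2) F) 1 1) := IsUnit.of_mul_eq_one_right _ hd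
    rw [St_apply, Rind_diag 1 h01 h10 ha, MulChar.one_apply hu0, MulChar.one_apply hu1]
    norm_num
  · intro hE
    rw [St_apply, Rind_ell 1 hE]
    norm_num
  · intro h10 heq h01
    rw [h10, mul_zero, sub_zero] at hd
    have hu0 : IsUnit ((g : Matrix (Fin 2) (Fin 2) F) 0 0) := IsUnit.of_mul_eq_one _ hd
    rw [St_apply, Rind_unip 1 h10 heq h01, MulChar.one_apply hu0]
    norm_num

end Cfsg.Agent.S2321
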