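import Mathlib
import Cfsg.Statements.S2322
import Cfsg.Agent.Helper8.SL2Values2

set_option autoImplicit false
open Cfsg

namespace Cfsg.Agent.S2322

open Cfsg.Agent.Helper8.SL2C Cfsg.Agent.Helper7.SL2

/-- Over a finite field F with q elements, q odd: every irreducible complex character of SL₂ of degree q − 1 or (q − 1)/2 vanishes at every diagonal matrix whose diagonal entry a has a² ≠ 1, and every irreducible complex character of degree q + 1 or (q + 1)/2 vanishes at every element with no eigenvector in F². -/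
theorem result {F : Type*} [Field F] [Fintype F] (hodd : Odd (Fintype.card F)) (χ : Matrix.SpecialLinearGroup (Fin 2) F → ℂ) (hχ : Cfsg.IsIrrCharacter (Matrix.SpecialLinearGroup (Fin 2) F) χ) (g : Matrix.SpecialLinearGroup (Fin 2) F) :
    ((χ 1 = (Fintype.card F : ℂ) - 1 ∨ χ 1 = (((Fintype.card F - 1) / 2 : ℕ) : ℂ)) →
      (g : Matrix (Fin 2) (Fin 2) F) 0 1 = 0 → (g : Matrix (Fin 2) (Fin 2) F) 1 0 = 0 → (g : Matrix (Fin 2) (Fin 2) F) 0 0 ^ 2 ≠ 1 → χ g = 0) ∧
    ((χ 1 = (Fintype.card F : ℂ) + 1 ∨ χ 1 = (((Fintype.card F + 1) / 2 : ℕ) : ℂ)) →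
      (∀ (c : F) (v : Fin 2 → F), v ≠ 0 → (g : Matrix (Fin 2) (Fin 2) F).mulVec v ≠ c • v) → χ g = 0) := by
  classical
  obtain ⟨t, ht⟩ := exists_ellt (F := F)
  have hq2 : 2 ≤ Fintype.card F := Fintype.one_lt_card
  obtain ⟨n, hn, hcases⟩ := natDegree_cases ht hχ
  obtain ⟨k, hk⟩ := hodd
  constructor
  · intro hdeg h01 h10 ha
    have hq3 : Fintype.card F ≠ 3 := by
      intro h3
      apply ha
      have hd := det_eq g
      rw [h01, zero_mul, sub_zero] at hd
      have hne0 : (g : Matrix (Fin 2) (Fin 2) F) 0 0 ≠ 0 := left_ne_zero_of_mul_eq_one hd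
      have := FiniteField.pow_card_sub_one_eq_one _ hne0
      rw [h3] at this
      exact this
    have hn' : n = Fintype.card F - 1 ∨ n = (Fintype.card F - 1) / 2 := by
      rcases hdeg with h | h
      · left
        rw [hn] at h
        have h' : (n : ℂ) = ((Fintype.card F - 1 : ℕ) : ℂ) := by
          rw [h, Nat.cast_sub (by omega), Nat.cast_one]
        exact_mod_cast h'
      · right
        rw [hn] at h
        exact_mod_cast h
    rcases hcases with ⟨h1, -⟩ | ⟨h1, -⟩ | ⟨h1, -⟩ | ⟨-, θ, -, rfl⟩ | ⟨-, h1, -⟩ |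
      ⟨-, -, θ, χ', ν, -, -, hp, -, -⟩
    · omega
    · omega
    · omega
    · unfold cuspOf
      exact cusp_split ht _ θ h01 h10 ha
    · omega
    · rw [hp.apply_diag h01 h10]
      unfold cuspOf
      rw [cusp_split ht _ θ h01 h10 ha, zero_div]
  · intro hdeg hell
    have hell' : IsEll g := hell
    have hn' : n = Fintype.card F + 1 ∨ n = (Fintype.card F + 1) / 2 := by
      rcases hdeg with h | h
      · left
        rw [hn] at h
        exact_mod_cast h
      · right
        rw [hn] at h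
        exact_mod_cast h
    rcases hcases with ⟨h1, -⟩ | ⟨h1, -⟩ | ⟨-, α, -, rfl⟩ | ⟨h1, θ, hθ, rfl⟩ |
      ⟨-, -, α, χ', ν, -, -, hp⟩ | ⟨-, h1, -⟩
    · omega
    · omega
    · exact Rind_ell α hell'
    · have hq3 : Fintype.card F = 3 := by omega
      exact cuspOf_ell_card_three hq3 ht hθ hell'
    · rw [hp.apply_ell hell', Rind_ell α hell', zero_div]
    · omega

end Cfsg.Agent.S2322
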