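import Mathlib
import Cfsg.Statements.S2323
import Cfsg.Agent.Helper8.SL2Values

set_option autoImplicit false
open Cfsg

namespace Cfsg.Agent.S2323

open Cfsg.Agent.Helper8.SL2C Cfsg.Agent.Helper7.SL2

/-- Over a finite field F with q ≥ 4 elements, let u be the upper unitriangular matrix of SL₂ with off-diagonal entry 1. An irreducible complex character of SL₂ takes at u the value 1 if its degree is q + 1 and the value −1 if its degree is q − 1. -/
theorem result {F : Type*} [Field F] [Fintype F] (hq : 4 ≤ Fintype.card F) (χ : Matrix.SpecialLinearGroup (Fin 2) F → ℂ) (hχ : Cfsg.IsIrrCharacter (Matrix.SpecialLinearGroup (Fin 2) F) χ)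
    (u : Matrix.SpecialLinearGroup (Fin 2) F) (hu : (u : Matrix (Fin 2) (Fin 2) F) = !![1, 1; 0, 1]) :
    (χ 1 = (Fintype.card F : ℂ) + 1 → χ u = 1) ∧ (χ 1 = (Fintype.card F : ℂ) - 1 → χ u = -1) := by
  classical
  obtain ⟨t, ht⟩ := exists_ellt (F := F)
  have u00 : (u : Matrix (Fin 2) (Fin 2) F) 0 0 = 1 := by rw [hu]; rfl
  have u01 : (u : Matrix (Fin 2) (Fin 2) F) 0 1 = 1 := by rw [hu]; rfl
  have u10 : (u : Matrix (Fin 2) (Fin 2) F) 1 0 = 0 := by rw [hu]; rfl
  have u11 : (u : Matrix (Fin 2) (Fin 2) F) 1 1 = 1 := by rw [hu]; rfl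
  obtain ⟨n, hn, hcases⟩ := natDegree_cases ht hχ
  constructor
  · intro h
    rw [hn] at h
    have hn' : n = Fintype.card F + 1 := by exact_mod_cast h
    rcases hcases with ⟨h1, -⟩ | ⟨h1, -⟩ | ⟨-, α, -, rfl⟩ | ⟨h1, -⟩ | ⟨⟨k, hk⟩, h1, -⟩ | ⟨⟨k, hk⟩, h1, -⟩
    · omega
    · omega
    · rw [Rind_unip α u10 (by rw [u00, u11]) (by rw [u01]; exact one_ne_zero), u00, map_one]
    · omega
    · omega
    · omega
  · intro h
    rw [hn] at h
    have hn' : n = Fintype.card F - 1 := by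
      have h' : (n : ℂ) = ((Fintype.card F - 1 : ℕ) : ℂ) := by
        rw [h, Nat.cast_sub (by omega), Nat.cast_one]
      exact_mod_cast h'
    rcases hcases with ⟨h1, -⟩ | ⟨h1, -⟩ | ⟨h1, -⟩ | ⟨-, θ, -, rfl⟩ | ⟨⟨k, hk⟩, h1, -⟩ | ⟨⟨k, hk⟩, h1, -⟩
    · omega
    · omega
    · omega
    · unfold cuspOf
      rw [cusp_unip ht _ θ u10 (by rw [u00, u11]) (by rw [u01]; exact one_ne_zero), u00, map_one]
    · omega
    · omega

end Cfsg.Agent.S2323
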