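import Mathlib
import Cfsg.Statements.S2324
import Cfsg.Agent.Helper8.SL2Trans

set_option autoImplicit false
open Cfsg

namespace Cfsg.Agent.S2324

open Cfsg.Agent.Helper8.SL2C Cfsg.Agent.Helper7.SL2

/-- Over a finite field F with q elements, q odd and q ≥ 5, let u be the upper unitriangular matrix of SL₂ with off-diagonal entry 1 and let δ = (−1)^((q−1)/2). Every irreducible complex character χ of SL₂ of degree (q + 1)/2 satisfies (2χ(u) − 1)² = δq, and every irreducible complex character χ of degree (q − 1)/2 satisfies (2χ(u) + 1)² = δq; that is, χ(u) = (1 ± √(δq))/2 in the first case and χ(u) = (−1 ± √(δq))/2 in the second. Moreover two different irreducible characters of degree (q + 1)/2 take the two different values (their values at u add up to 1), and likewise for degree (q − 1)/2 (values adding up to −1). -/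
theorem result {F : Type*} [Field F] [Fintype F] (hodd : Odd (Fintype.card F)) (hq : 5 ≤ Fintype.card F)
    (u : Matrix.SpecialLinearGroup (Fin 2) F) (hu : (u : Matrix (Fin 2) (Fin 2) F) = !![1, 1; 0, 1]) :
    (∀ χ : Matrix.SpecialLinearGroup (Fin 2) F → ℂ, Cfsg.IsIrrCharacter (Matrix.SpecialLinearGroup (Fin 2) F) χ → χ 1 = (((Fintype.card F + 1) / 2 : ℕ) : ℂ) → (2 * χ u - 1) ^ 2 = (-1 : ℂ) ^ ((Fintype.card F - 1) / 2) * (Fintype.card F : ℂ)) ∧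
    (∀ χ : Matrix.SpecialLinearGroup (Fin 2) F → ℂ, Cfsg.IsIrrCharacter (Matrix.SpecialLinearGroup (Fin 2) F) χ → χ 1 = (((Fintype.card F - 1) / 2 : ℕ) : ℂ) → (2 * χ u + 1) ^ 2 = (-1 : ℂ) ^ ((Fintype.card F - 1) / 2) * (Fintype.card F : ℂ)) ∧
    (∀ χ₁ χ₂ : Matrix.SpecialLinearGroup (Fin 2) F → ℂ, Cfsg.IsIrrCharacter (Matrix.SpecialLinearGroup (Fin 2) F) χ₁ → Cfsg.IsIrrCharacter (Matrix.SpecialLinearGroup (Fin 2) F) χ₂ → χ₁ ≠ χ₂ →
      χ₁ 1 = (((Fintype.card F + 1) / 2 : ℕ) : ℂ) → χ₂ 1 = (((Fintype.card F + 1) / 2 : ℕ) : ℂ) → χ₁ u + χ₂ u = 1) ∧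
    (∀ χ₁ χ₂ : Matrix.SpecialLinearGroup (Fin 2) F → ℂ, Cfsg.IsIrrCharacter (Matrix.SpecialLinearGroup (Fin 2) F) χ₁ → Cfsg.IsIrrCharacter (Matrix.SpecialLinearGroup (Fin 2) F) χ₂ → χ₁ ≠ χ₂ →
      χ₁ 1 = (((Fintype.card F - 1) / 2 : ℕ) : ℂ) → χ₂ 1 = (((Fintype.card F - 1) / 2 : ℕ) : ℂ) → χ₁ u + χ₂ u = -1) := by
  classical
  obtain ⟨t, ht⟩ := exists_ellt (F := F)
  have hu1 : u = up 1 := by
    apply ext'
    · rw [hu, up_00]; rfl
    · rw [hu, up_01]; rfl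
    · rw [hu, up_10]; rfl
    · rw [hu, up_11]; rfl
  rw [hu1]
  refine ⟨?_, ?_, ?_, ?_⟩
  · intro χ hχ hdeg
    obtain ⟨α, χ', ν, -, -, hp⟩ := type_half_add hodd hq ht hχ hdeg
    have hs := congrFun hp.sum (up 1)
    rw [Rind_up α one_ne_zero, Pi.add_apply] at hs
    rw [← hp.sq_diff hodd]
    have : 2 * χ (up 1) - 1 = χ (up 1) - χ' (up 1) := by linear_combination -hs
    rw [this]
  · intro χ hχ hdeg
    obtain ⟨θ, χ', ν, -, -, hp⟩ := type_half_sub hodd hq ht hχ hdeg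
    have hs := congrFun hp.sum (up 1)
    rw [cuspOf_up ht θ one_ne_zero, Pi.add_apply] at hs
    rw [← hp.sq_diff hodd]
    have : 2 * χ (up 1) + 1 = χ (up 1) - χ' (up 1) := by linear_combination -hs
    rw [this]
  · intro χ₁ χ₂ hχ₁ hχ₂ hne hd1 hd2
    obtain ⟨α, χ₁', ν₁, hα2, hα1, hp₁⟩ := type_half_add hodd hq ht hχ₁ hd1
    obtain ⟨β, χ₂', ν₂, hβ2, hβ1, hp₂⟩ := type_half_add hodd hq ht hχ₂ hd2
    have hαβ : α = β := mulChar_eq_of_order_two hα2 hα1 hβ2 hβ1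
    subst hαβ
    have h2 : χ₂ = χ₁' := hp₁.eq_right_of_ne hχ₂ (by rw [hp₂.classInner_left]; exact one_ne_zero)
      hne.symm
    have hs := congrFun hp₁.sum (up 1)
    rw [Rind_up α one_ne_zero, Pi.add_apply] at hs
    rw [h2, ← hs]
  · intro χ₁ χ₂ hχ₁ hχ₂ hne hd1 hd2
    obtain ⟨θ, χ₁', ν₁, hθ2, hθ1, hp₁⟩ := type_half_sub hodd hq ht hχ₁ hd1
    obtain ⟨θ', χ₂', ν₂, hθ'2, hθ'1, hp₂⟩ := type_half_sub hodd hq ht hχ₂ hd2
    have hθθ : θ = θ' := hom_eq_of_order_two ht hθ2 hθ'2 hθ1 hθ'1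
    subst hθθ
    have h2 : χ₂ = χ₁' := hp₁.eq_right_of_ne hχ₂ (by rw [hp₂.classInner_left]; exact one_ne_zero)
      hne.symm
    have hs := congrFun hp₁.sum (up 1)
    rw [cuspOf_up ht θ one_ne_zero, Pi.add_apply] at hs
    rw [h2, ← hs]

end Cfsg.Agent.S2324
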