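import Cfsg.Statements.S2329
import Cfsg.Agent.S2260

set_option autoImplicit false
open Cfsg

namespace Cfsg.Agent.S2329

open Matrix

/-- the standard unipotent matrix -/
def stdU (F : Type*) [Field F] : GL (Fin 2) F where
  val := !![1, 1; 0, 1]
  inv := !![1, -1; 0, 1]
  val_inv := by
    ext i j
    fin_cases i <;> fin_cases j <;> simp [Matrix.mul_apply, Fin.sum_univ_two]
  inv_val := by
    ext i j
    fin_cases i <;> fin_cases j <;> simp [Matrix.mul_apply, Fin.sum_univ_two]

theorem conj_stdU {F : Type*} [Field F] (p : ℕ) [Fact p.Prime] [CharP F p]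
    (g : GL (Fin 2) F) (hg : orderOf g = p) : IsConj g (stdU F) := by
  have hp : p.Prime := Fact.out
  set M : Matrix (Fin 2) (Fin 2) F := (g : Matrix (Fin 2) (Fin 2) F) with hM
  set N : Matrix (Fin 2) (Fin 2) F := M - 1 with hN
  have hgp : g ^ (p ^ 1) = 1 := by
    rw [pow_one, ← hg]; exact pow_orderOf_eq_one g
  have hNp : N ^ (p ^ 1) = 0 := (S2260.pow_eq_one_iff p g 1).mp hgp
  have hNnil : IsNilpotent N := ⟨p ^ 1, hNp⟩
  have hN2 : N * N = 0 := by
    have := S2260.nilp_pow_card N hNnil
    rwa [pow_two] at this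
  have hg1 : g ≠ 1 := by
    intro h
    rw [h, orderOf_one] at hg
    exact hp.one_lt.ne' hg.symm
  have hN0 : N ≠ 0 := by
    intro h
    apply hg1
    apply Units.ext
    have : M = 1 := sub_eq_zero.mp h
    exact this
  obtain ⟨v, hv⟩ : ∃ v : Fin 2 → F, N *ᵥ v ≠ 0 := by
    by_contra hcon
    push Not at hcon
    apply hN0
    rw [Matrix.ext_iff_mulVec]
    intro v
    rw [hcon v, Matrix.zero_mulVec]
  set w : Fin 2 → F := N *ᵥ v with hw
  have hNw : N *ᵥ w = 0 := by
    rw [hw, Matrix.mulVec_mulVec, hN2, Matrix.zero_mulVec]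
  have hMw : M *ᵥ w = w := by
    have : M = 1 + N := by rw [hN]; abel
    rw [this, Matrix.add_mulVec, Matrix.one_mulVec, hNw, add_zero]
  have hMv : M *ᵥ v = v + w := by
    have : M = 1 + N := by rw [hN]; abel
    rw [this, Matrix.add_mulVec, Matrix.one_mulVec]
  let P : Matrix (Fin 2) (Fin 2) F := Matrix.of (fun i j => if j = 0 then w i else v i)
  have hPc : ∀ c : Fin 2 → F, P *ᵥ c = c 0 • w + c 1 • v := by
    intro c
    ext i
    simp [P, Matrix.mulVec, dotProduct, Fin.sum_univ_two, mul_comm]
  have hPinj : Function.Injective P.mulVec := by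
    intro c c' hcc
    have h0 : P *ᵥ (c - c') = 0 := by
      rw [Matrix.mulVec_sub]
      exact sub_eq_zero.mpr hcc
    set d := c - c' with hd
    rw [hPc] at h0
    have h1 : N *ᵥ (d 0 • w + d 1 • v) = d 1 • w := by
      rw [Matrix.mulVec_add, Matrix.mulVec_smul, Matrix.mulVec_smul, hNw, smul_zero, zero_add]
    rw [h0, Matrix.mulVec_zero] at h1
    have hd1 : d 1 = 0 := by
      rcases smul_eq_zero.mp h1.symm with h | h
      · exact h
      · exact absurd h hv
    rw [hd1, zero_smul, add_zero] at h0
    have hd0 : d 0 = 0 := by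
      rcases smul_eq_zero.mp h0 with h | h
      · exact h
      · exact absurd h hv
    have : d = 0 := by
      ext i
      fin_cases i
      · exact hd0
      · exact hd1
    exact sub_eq_zero.mp this
  have hPunit : IsUnit P := Matrix.mulVec_injective_iff_isUnit.mp hPinj
  obtain ⟨P', hP'⟩ := hPunit
  have hrel : g * P' = P' * stdU F := by
    apply Units.ext
    rw [Units.val_mul, Units.val_mul, hP']
    show M * P = P * !![1, 1; 0, 1]
    ext i j
    have hcol0 : (M * P) i 0 = (M *ᵥ w) i := by
      simp [P, Matrix.mul_apply, Matrix.mulVec, dotProduct]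
    have hcol1 : (M * P) i 1 = (M *ᵥ v) i := by
      simp [P, Matrix.mul_apply, Matrix.mulVec, dotProduct]
    fin_cases j
    · show (M * P) i 0 = _
      rw [hcol0, hMw]
      simp [P, Matrix.mul_apply, Fin.sum_univ_two]
    · show (M * P) i 1 = _
      rw [hcol1, hMv]
      simp [P, Matrix.mul_apply, Fin.sum_univ_two, add_comm]
  rw [isConj_iff]
  refine ⟨P'⁻¹, ?_⟩
  rw [inv_inv, mul_assoc, hrel, ← mul_assoc, inv_mul_cancel, one_mul]

/-- Over a finite field of characteristic p, any two elements of order p of GL₂ are conjugate: there is a single conjugacy class of non-identity unipotent elements. -/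
theorem result {F : Type*} [Field F] [Fintype F] (p : ℕ) [Fact p.Prime] [CharP F p] (g h : Matrix.GeneralLinearGroup (Fin 2) F)
    (hg : orderOf g = p) (hh : orderOf h = p) : IsConj g h := by
  exact (conj_stdU p g hg).trans (conj_stdU p h hh).symm

end Cfsg.Agent.S2329
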