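import Cfsg.Statements.S2330
import Cfsg.Agent.Helper8.GL2

set_option autoImplicit false
open Cfsg

namespace Cfsg.Agent.S2330
open Cfsg.Agent.Helper8 Matrix

/-- representatives of the conjugacy classes of `GL₂(F)` -/
noncomputable def rep {F : Type*} [Field F] : Fˣ ⊕ (F × Fˣ) → ConjClasses (GL (Fin 2) F)
  | Sum.inl u => ConjClasses.mk (Matrix.GeneralLinearGroup.scalar (Fin 2) u)
  | Sum.inr (t, d) => ConjClasses.mk (compGL t d)

theorem scalar_mem_center {F : Type*} [Field F] (u : Fˣ) :
    Matrix.GeneralLinearGroup.scalar (Fin 2) u ∈ Subgroup.center (GL (Fin 2) F) := by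
  rw [Matrix.GeneralLinearGroup.center_eq_range_scalar]
  exact ⟨u, rfl⟩

theorem eq_of_isConj_of_mem_center {G : Type*} [Group G] {a b : G} (ha : a ∈ Subgroup.center G)
    (h : IsConj a b) : a = b := by
  obtain ⟨c, hc⟩ := isConj_iff.mp h
  rw [← hc, (Subgroup.mem_center_iff.mp ha c), mul_inv_cancel_right]

theorem rep_injective {F : Type*} [Field F] : Function.Injective (rep (F := F)) := by
  rintro (u | ⟨t, d⟩) (u' | ⟨t', d'⟩) h
  · simp only [rep, ConjClasses.mk_eq_mk_iff_isConj] at h
    have := eq_of_isConj_of_mem_center (scalar_mem_center u) h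
    have h00 := congrArg (fun g : GL (Fin 2) F => (g : Matrix (Fin 2) (Fin 2) F) 0 0) this
    simp [Matrix.GeneralLinearGroup.coe_scalar] at h00
    rw [Units.ext h00]
  · exfalso
    simp only [rep, ConjClasses.mk_eq_mk_iff_isConj] at h
    have := eq_of_isConj_of_mem_center (scalar_mem_center u) h
    exact compGL_not_mem_center t' d' (this ▸ scalar_mem_center u)
  · exfalso
    simp only [rep, ConjClasses.mk_eq_mk_iff_isConj] at h
    have := eq_of_isConj_of_mem_center (scalar_mem_center u') h.symm
    exact compGL_not_mem_center t d (this ▸ scalar_mem_center u')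
  · simp only [rep, ConjClasses.mk_eq_mk_iff_isConj] at h
    obtain ⟨c, hc⟩ := isConj_iff.mp h
    have ht := trace_conj_GL c (compGL t d)
    rw [hc, trace_compGL, trace_compGL] at ht
    have hd : Matrix.GeneralLinearGroup.det (c * compGL t d * c⁻¹) = Matrix.GeneralLinearGroup.det (compGL t d) := by
      rw [map_mul, map_mul, map_inv, mul_comm, ← mul_assoc, inv_mul_cancel, one_mul]
    rw [hc, det_compGL, det_compGL] at hd
    rw [ht, hd]

theorem rep_surjective {F : Type*} [Field F] : Function.Surjective (rep (F := F)) := by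
  intro C
  obtain ⟨g, rfl⟩ := ConjClasses.mk_surjective C
  by_cases hg : g ∈ Subgroup.center (GL (Fin 2) F)
  · rw [Matrix.GeneralLinearGroup.center_eq_range_scalar] at hg
    obtain ⟨u, rfl⟩ := hg
    exact ⟨Sum.inl u, rfl⟩
  · refine ⟨Sum.inr ((g : Matrix (Fin 2) (Fin 2) F).trace, Matrix.GeneralLinearGroup.det g), ?_⟩
    simp only [rep, ConjClasses.mk_eq_mk_iff_isConj]
    exact (isConj_compGL g hg).symm

/-- Over a finite field with q elements, the general linear group GL₂ has exactly q² − 1 conjugacy classes. -/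
theorem result {F : Type*} [Field F] [Fintype F] :
    Nat.card (ConjClasses (Matrix.GeneralLinearGroup (Fin 2) F)) = Fintype.card F ^ 2 - 1 := by
  classical
  rw [← Nat.card_congr (Equiv.ofBijective rep ⟨rep_injective (F := F), rep_surjective⟩)]
  rw [Nat.card_sum, Nat.card_prod, Nat.card_eq_fintype_card (α := Fˣ), Fintype.card_units,
    Nat.card_eq_fintype_card]
  obtain ⟨k, hk⟩ : ∃ k, Fintype.card F = k + 1 := ⟨Fintype.card F - 1, by
    have := Fintype.card_pos (α := F)
    omega⟩
  rw [hk]
  have : (k + 1) ^ 2 = (k + (k + 1) * k) + 1 := by ring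
  rw [this]
  simp

end Cfsg.Agent.S2330
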