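import Cfsg.Statements.S2335
import Cfsg.Agent.LS3.H3_SUEven
import Cfsg.Agent.LS3.L_HermOrb

set_option autoImplicit false
open Cfsg

namespace Cfsg.Agent.S2335

/-- For even n ≥ 4 and a finite field F with q² elements, (n, q) not (4, 2) or (4, 3), every irreducible complex representation of the special unitary group SU_n(q) (the determinant-one isometries of the standard Hermitian form over F) of degree at least 2 has degree at least (q^n − 1)/(q + 1). -/
theorem result {F : Type*} [Field F] [Fintype F] [DecidableEq F] (n q : ℕ) (hn : 4 ≤ n) (heven : Even n) (hF : Fintype.card F = q ^ 2) (hex : (n, q) ≠ (4, 2) ∧ (n, q) ≠ (4, 3)) :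
    (∀ (k : ℕ) (ρ : Representation ℂ (Cfsg.SU n F q) (Fin k → ℂ)), ρ.IsIrreducible → 2 ≤ k → (q ^ n - 1) / (q + 1) ≤ k) := by
  obtain ⟨m, rfl⟩ := heven
  have hm : 2 ≤ m := by omega
  have hq1 : 1 < q := by
    by_contra h
    have hq : q = 0 ∨ q = 1 := by omega
    have h2 : 1 < Fintype.card F := Fintype.one_lt_card
    rcases hq with rfl | rfl <;> simp at hF <;> omega
  have hex' : ¬ (m = 2 ∧ q ≤ 3) := by
    rintro ⟨rfl, hq3⟩
    have : q = 2 ∨ q = 3 := by omega
    rcases this with rfl | rfl
    · exact hex.1 rfl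
    · exact hex.2 rfl
  intro k ρ hirr hk
  exact Cfsg.Agent.LS3.h3_su_even_of_orbit hF hm
    (fun T hT hT0 => Cfsg.Agent.LS3.l_herm_orbit_det hF m hm hex' T hT hT0) k ρ hirr hk

end Cfsg.Agent.S2335
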