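import Cfsg.Statements.S2352

set_option autoImplicit false
open Cfsg

namespace Cfsg.Agent.S2352

/-- trajectory lemma: if the `j`-th permutation maps `p (j+1)` to `p j`, the product maps
`p (length)` to `p 0`. -/
theorem traj {X : Type*} (gs : List (Equiv.Perm X)) (p : ℕ → X)
    (h : ∀ j (hj : j < gs.length), gs[j] (p (j + 1)) = p j) : gs.prod (p gs.length) = p 0 := by
  induction gs generalizing p with
  | nil => simp
  | cons g gs ih =>
    rw [List.prod_cons, Equiv.Perm.mul_apply, List.length_cons]
    have h1 := ih (fun j => p (j + 1)) (fun j hj => by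
      have := h (j + 1) (by simpa using hj)
      simpa using this)
    rw [h1]
    have := h 0 (by simp)
    simpa using this

/-- the condition for moving down -/
def downCond (W : List (ℕ × Bool)) (i : ℕ) (x : ℕ) : Prop :=
  1 ≤ x ∧ W[x - 1]? = some (i, true)

/-- sources of the partial injection attached to generator `i` -/
def src (W : List (ℕ × Bool)) (n : ℕ) (i : ℕ) : Set (Fin n) :=
  {x | downCond W i x.val ∨ W[x.val]? = some (i, false)}

open Classical in
/-- the partial injection, as a total function -/
noncomputable def phi (W : List (ℕ × Bool)) (n : ℕ) (hn : 0 < n) (i : ℕ) (x : Fin n) : Fin n :=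
  if downCond W i x.val then ⟨(x.val - 1) % n, Nat.mod_lt _ hn⟩ else ⟨(x.val + 1) % n, Nat.mod_lt _ hn⟩

theorem phi_injOn (W : List (ℕ × Bool)) (hW : FreeGroup.IsReduced W) (n : ℕ) (hn : W.length + 3 ≤ n)
    (i : ℕ) : Set.InjOn (phi W n (by omega) i) (src W n i) := by
  intro x hx y hy hxy
  have hred : ∀ k (hk : k + 1 < W.length), (W[k]).1 = (W[k + 1]).1 → (W[k]).2 = (W[k + 1]).2 :=
    fun k hk => List.IsChain.getElem hW k hk
  unfold phi at hxy
  apply Fin.ext
  by_cases cx : downCond W i x.val <;> by_cases cy : downCond W i y.val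
  · rw [if_pos cx, if_pos cy] at hxy
    have h := congrArg Fin.val hxy
    simp only at h
    obtain ⟨hx1, hx2⟩ := cx
    obtain ⟨hy1, hy2⟩ := cy
    rw [Nat.mod_eq_of_lt (by omega), Nat.mod_eq_of_lt (by omega)] at h
    omega
  · rw [if_pos cx, if_neg cy] at hxy
    have h := congrArg Fin.val hxy
    simp only at h
    obtain ⟨hx1, hx2⟩ := cx
    have hy' : W[y.val]? = some (i, false) := by
      rcases hy with hy | hy
      · exact absurd hy cy
      · exact hy
    obtain ⟨hyl, hyv⟩ := List.getElem?_eq_some_iff.mp hy'
    obtain ⟨hxl, hxv⟩ := List.getElem?_eq_some_iff.mp hx2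
    rw [Nat.mod_eq_of_lt (by omega), Nat.mod_eq_of_lt (by omega)] at h
    exfalso
    have hk : y.val + 1 < W.length := by omega
    have h2 := hred y.val hk
    have hxv' : W[y.val + 1] = (i, true) := by
      have : x.val - 1 = y.val + 1 := h
      simp only [this] at hxv
      exact hxv
    rw [hyv, hxv'] at h2
    simpa using h2 rfl
  · rw [if_neg cx, if_pos cy] at hxy
    have h := congrArg Fin.val hxy
    simp only at h
    obtain ⟨hy1, hy2⟩ := cy
    have hx' : W[x.val]? = some (i, false) := by
      rcases hx with hx | hx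
      · exact absurd hx cx
      · exact hx
    obtain ⟨hxl, hxv⟩ := List.getElem?_eq_some_iff.mp hx'
    obtain ⟨hyl, hyv⟩ := List.getElem?_eq_some_iff.mp hy2
    rw [Nat.mod_eq_of_lt (by omega), Nat.mod_eq_of_lt (by omega)] at h
    exfalso
    have hk : x.val + 1 < W.length := by omega
    have h2 := hred x.val hk
    have hyv' : W[x.val + 1] = (i, true) := by
      have : y.val - 1 = x.val + 1 := h.symm
      simp only [this] at hyv
      exact hyv
    rw [hxv, hyv'] at h2
    simpa using h2 rfl
  · rw [if_neg cx, if_neg cy] at hxy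
    have h := congrArg Fin.val hxy
    simp only at h
    have hx' : W[x.val]? = some (i, false) := by
      rcases hx with hx | hx
      · exact absurd hx cx
      · exact hx
    have hy' : W[y.val]? = some (i, false) := by
      rcases hy with hy | hy
      · exact absurd hy cy
      · exact hy
    obtain ⟨hxl, hxv⟩ := List.getElem?_eq_some_iff.mp hx'
    obtain ⟨hyl, hyv⟩ := List.getElem?_eq_some_iff.mp hy'
    rw [Nat.mod_eq_of_lt (by omega), Nat.mod_eq_of_lt (by omega)] at h
    omega

/-- existence of permutations extending the partial injections -/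
theorem exists_perm (W : List (ℕ × Bool)) (hW : FreeGroup.IsReduced W) (n : ℕ)
    (hn : W.length + 3 ≤ n) (i : ℕ) :
    ∃ σ : Equiv.Perm (Fin n), ∀ x ∈ src W n i, σ x = phi W n (by omega) i x := by
  classical
  obtain ⟨g, hg⟩ := Set.MapsTo.exists_equiv_extend_of_card_eq (α := Fin n) (β := Fin n)
    (t := Finset.univ) (by simp) (s := src W n i) (f := phi W n (by omega) i)
    (by intro x _; simp) (phi_injOn W hW n hn i)
  refine ⟨g.trans (Equiv.subtypeUnivEquiv (by simp)), ?_⟩
  intro x hx
  rw [Equiv.trans_apply, Equiv.subtypeUnivEquiv_apply]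
  exact hg x hx

/-- A non-trivial law holds in only finitely many alternating groups: for every non-trivial element w of the free group on countably many generators there is N such that for all n ≥ N some substitution of elements of the alternating group of degree n into w is not the identity. -/
theorem result (w : FreeGroup ℕ) (hw : w ≠ 1) :
    ∃ N : ℕ, ∀ n : ℕ, N ≤ n → ∃ f : ℕ → alternatingGroup (Fin n), FreeGroup.lift f w ≠ 1 := by
  classical
  set W := w.toWord with hWdef
  have hW : FreeGroup.IsReduced W := FreeGroup.isReduced_toWord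
  have hWne : W ≠ [] := by
    intro h
    exact hw (FreeGroup.toWord_eq_nil_iff.mp h)
  have hL : 1 ≤ W.length := by
    rcases W with _ | ⟨a, t⟩
    · exact absurd rfl hWne
    · simp
  refine ⟨W.length + 3, fun n hn => ?_⟩
  have hn0 : 0 < n := by omega
  choose σ hσ using exists_perm W hW n hn
  -- sign correction
  let τ : Equiv.Perm (Fin n) := Equiv.swap ⟨n - 2, by omega⟩ ⟨n - 1, by omega⟩
  have hτsign : Equiv.Perm.sign τ = -1 := by
    apply Equiv.Perm.sign_swap
    intro h
    have := congrArg Fin.val h
    simp only at this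
    omega
  let f' : ℕ → Equiv.Perm (Fin n) := fun i => if Equiv.Perm.sign (σ i) = 1 then σ i else σ i * τ
  have hf'sign : ∀ i, f' i ∈ alternatingGroup (Fin n) := by
    intro i
    rw [Equiv.Perm.mem_alternatingGroup]
    simp only [f']
    split_ifs with h
    · exact h
    · rw [Equiv.Perm.sign_mul, hτsign]
      rcases Int.units_eq_one_or (Equiv.Perm.sign (σ i)) with h1 | h1
      · exact absurd h1 h
      · rw [h1]; rfl
  have hsrc_lt : ∀ i, ∀ x ∈ src W n i, x.val ≤ W.length := by
    intro i x hx
    rcases hx with ⟨h1, h2⟩ | h2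
    · obtain ⟨hl, _⟩ := List.getElem?_eq_some_iff.mp h2
      omega
    · obtain ⟨hl, _⟩ := List.getElem?_eq_some_iff.mp h2
      omega
  have hf' : ∀ i, ∀ x ∈ src W n i, f' i x = phi W n hn0 i x := by
    intro i x hx
    have hxl := hsrc_lt i x hx
    have hτx : τ x = x := by
      apply Equiv.swap_apply_of_ne_of_ne
      · intro h
        have := congrArg Fin.val h
        simp only at this
        omega
      · intro h
        have := congrArg Fin.val h
        simp only at this
        omega
    simp only [f']
    split_ifs with h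
    · exact hσ i x hx
    · rw [Equiv.Perm.mul_apply, hτx]
      exact hσ i x hx
  let F : ℕ → alternatingGroup (Fin n) := fun i => ⟨f' i, hf'sign i⟩
  refine ⟨F, ?_⟩
  intro hone
  have hcoe : ((FreeGroup.lift F w : alternatingGroup (Fin n)) : Equiv.Perm (Fin n)) = FreeGroup.lift f' w := by
    have := FreeGroup.lift_unique ((alternatingGroup (Fin n)).subtype.comp (FreeGroup.lift F)) (f := f')
      (fun i => by simp [F]) (x := w)
    simpa using this
  rw [hone] at hcoe
  have hprod : FreeGroup.lift f' w = (W.map fun x => cond x.2 (f' x.1) (f' x.1)⁻¹).prod := by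
    conv_lhs => rw [← FreeGroup.mk_toWord (x := w)]
    rw [FreeGroup.lift_mk]
  let p : ℕ → Fin n := fun j => ⟨j % n, Nat.mod_lt _ hn0⟩
  have htraj := traj (W.map fun x => cond x.2 (f' x.1) (f' x.1)⁻¹) p (by
    intro j hj
    rw [List.length_map] at hj
    rw [List.getElem_map]
    have hred : ∀ k (hk : k + 1 < W.length), (W[k]).1 = (W[k + 1]).1 → (W[k]).2 = (W[k + 1]).2 :=
      fun k hk => List.IsChain.getElem hW k hk
    rcases hWj : W[j] with ⟨i, b⟩
    have hpj : (p j).val = j := Nat.mod_eq_of_lt (by omega)
    have hpj1 : (p (j + 1)).val = j + 1 := Nat.mod_eq_of_lt (by omega)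
    cases b with
    | true =>
      simp only [cond_true]
      have hmem : p (j + 1) ∈ src W n i := by
        left
        refine ⟨by rw [hpj1]; omega, ?_⟩
        rw [hpj1, Nat.add_sub_cancel, List.getElem?_eq_some_iff]
        exact ⟨hj, hWj⟩
      rw [hf' i _ hmem]
      have hdc : downCond W i (p (j + 1)).val := by
        refine ⟨by rw [hpj1]; omega, ?_⟩
        rw [hpj1, Nat.add_sub_cancel, List.getElem?_eq_some_iff]
        exact ⟨hj, hWj⟩
      unfold phi
      rw [if_pos hdc]
      apply Fin.ext
      simp only [p]
      rw [Nat.mod_eq_of_lt (show j + 1 < n by omega), Nat.add_sub_cancel]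
    | false =>
      simp only [cond_false]
      rw [Equiv.Perm.inv_eq_iff_eq]
      have hmem : p j ∈ src W n i := by
        right
        rw [hpj, List.getElem?_eq_some_iff]
        exact ⟨hj, hWj⟩
      rw [hf' i _ hmem]
      have hdc : ¬ downCond W i (p j).val := by
        rintro ⟨h1, h2⟩
        rw [hpj] at h1 h2
        obtain ⟨hl, hv⟩ := List.getElem?_eq_some_iff.mp h2
        have h3 := hred (j - 1) (by omega)
        have hj' : W[j - 1 + 1]'(by omega) = (i, false) := by
          have : j - 1 + 1 = j := by omega
          simp only [this]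
          exact hWj
        rw [hv, hj'] at h3
        simpa using h3 rfl
      unfold phi
      rw [if_neg hdc]
      apply Fin.ext
      simp only [p]
      rw [Nat.mod_eq_of_lt (show j < n by omega)])
  rw [← hprod, ← hcoe, List.length_map] at htraj
  have h0 : (p W.length).val = (p 0).val := by
    have : ((1 : alternatingGroup (Fin n)) : Equiv.Perm (Fin n)) = 1 := rfl
    rw [this, Equiv.Perm.one_apply] at htraj
    rw [htraj]
  simp only [p] at h0
  rw [Nat.mod_eq_of_lt (by omega), Nat.zero_mod] at h0
  omega

end Cfsg.Agent.S2352
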