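import Cfsg.Statements.S2354

set_option autoImplicit false
open Cfsg

namespace Cfsg.Agent.S2354

open Polynomial

section Core

variable {F : Type*} [Field F]

theorem natDegree_Xpow_mul_le (k : ℕ) (p : F[X]) : (X ^ k * p).natDegree ≤ p.natDegree + k := by
  have := (natDegree_mul_le (p := (X ^ k : F[X])) (q := p)).trans
    (Nat.add_le_add_right (natDegree_X_pow_le k) _)
  omega

/-- raw degree lemma 1: the top term dominates -/
theorem raw1 (K d : ℕ) (hK : d < K) (p q r : F[X]) (hp : p ≠ 0)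
    (hq : q.natDegree ≤ p.natDegree) (hr : r.natDegree ≤ p.natDegree) :
    (X ^ K * p + X ^ d * q + r) ≠ 0 ∧
      (X ^ K * p + X ^ d * q + r).natDegree = p.natDegree + K := by
  have h0 : (X ^ K * p : F[X]).natDegree = p.natDegree + K := natDegree_X_pow_mul K hp
  have h1 : (X ^ d * q + r).natDegree ≤ p.natDegree + d := by
    refine (natDegree_add_le _ _).trans ?_
    have := natDegree_Xpow_mul_le d q
    omega
  have h2 := natDegree_add_eq_left_of_natDegree_lt (p := X ^ K * p) (q := X ^ d * q + r)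
    (by rw [h0]; omega)
  rw [← add_assoc] at h2
  refine ⟨ne_zero_of_natDegree_gt (n := p.natDegree) (by rw [h2, h0]; omega), ?_⟩
  rw [h2, h0]

/-- raw degree lemma 2: the last term dominates -/
theorem raw2 (K d J : ℕ) (hK : K < J) (hd : d < J) (p q r : F[X])
    (hq : q.natDegree ≤ p.natDegree) (hr : r.natDegree = p.natDegree + J) :
    (X ^ K * p + X ^ d * q + r) ≠ 0 ∧
      (X ^ K * p + X ^ d * q + r).natDegree = p.natDegree + J := by
  have h1 : (X ^ K * p + X ^ d * q).natDegree < r.natDegree := by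
    refine lt_of_le_of_lt (natDegree_add_le _ _) ?_
    have a1 := natDegree_Xpow_mul_le K p
    have a2 := natDegree_Xpow_mul_le d q
    omega
  have h2 := natDegree_add_eq_right_of_natDegree_lt h1
  refine ⟨ne_zero_of_natDegree_gt (n := p.natDegree) (by rw [h2, hr]; omega), ?_⟩
  rw [h2, hr]

/-- reversal of a 4-vector -/
def rev (u : Fin 4 → F[X]) : Fin 4 → F[X] := ![u 3, u 2, u 1, u 0]

@[simp] theorem rev_rev (u : Fin 4 → F[X]) : rev (rev u) = u := by
  funext k
  fin_cases k <;> rfl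

/-- the unipotent action -/
noncomputable def actS (E d : ℕ) (u : Fin 4 → F[X]) : Fin 4 → F[X] :=
  ![u 0, u 1, X ^ d * u 0 + u 2, X ^ (E * d) * u 0 + X ^ d * u 1 + u 3]

/-- weakly `u 3`-dominant -/
def WD3 (u : Fin 4 → F[X]) : Prop :=
  u 3 ≠ 0 ∧ (u 0).natDegree ≤ (u 3).natDegree ∧ (u 1).natDegree ≤ (u 3).natDegree ∧
    (u 2).natDegree ≤ (u 3).natDegree

/-- the positive region of parameter `j` -/
def Pos (E j : ℕ) (u : Fin 4 → F[X]) : Prop :=
  u 0 ≠ 0 ∧ u 3 ≠ 0 ∧ (u 3).natDegree = (u 0).natDegree + E * j ∧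
    (u 1).natDegree ≤ (u 0).natDegree ∧ (u 2).natDegree ≤ (u 0).natDegree + j

theorem lemA (E d : ℕ) (hE : 2 ≤ E) (hd : 1 ≤ d) (u : Fin 4 → F[X]) (h : WD3 u) :
    Pos E d (actS E d (rev u)) := by
  obtain ⟨h3, h0, h1, h2⟩ := h
  have hK : d < E * d := by nlinarith
  obtain ⟨r1, r2⟩ := raw1 (E * d) d hK (u 3) (u 2) (u 0) h3 h2 h0
  refine ⟨h3, r1, r2, h2, ?_⟩
  show (X ^ d * u 3 + u 1).natDegree ≤ (u 3).natDegree + d
  refine (natDegree_add_le _ _).trans ?_
  have := natDegree_Xpow_mul_le d (u 3)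
  omega

theorem lemB (E j : ℕ) (u : Fin 4 → F[X]) (h : Pos E j u) (hE : 1 ≤ E) : WD3 u := by
  obtain ⟨h0, h3, hd, h1, h2⟩ := h
  have : j ≤ E * j := Nat.le_mul_of_pos_left j hE
  exact ⟨h3, by omega, by omega, by omega⟩

theorem lemC (E d j : ℕ) (hE : 2 ≤ E) (hd : 1 ≤ d) (hj : 1 ≤ j) (hdj : j ≠ d) (u : Fin 4 → F[X])
    (h : Pos E j (rev u)) : WD3 (actS E d (rev u)) := by
  obtain ⟨h3, h0, hdeg, h2, h1⟩ := h
  change u 3 ≠ 0 at h3
  change u 0 ≠ 0 at h0
  change (u 0).natDegree = (u 3).natDegree + E * j at hdeg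
  change (u 2).natDegree ≤ (u 3).natDegree at h2
  change (u 1).natDegree ≤ (u 3).natDegree + j at h1
  have hb : (X ^ d * u 3 + u 1).natDegree ≤ (u 3).natDegree + max d j := by
    refine (natDegree_add_le _ _).trans ?_
    have := natDegree_Xpow_mul_le d (u 3)
    omega
  rcases lt_or_gt_of_ne hdj with hlt | hgt
  · -- j < d : top term dominates; but `u 0` is not small, so use raw1-like argument directly
    have hK1 : E * j < E * d := by nlinarith
    have hK2 : d < E * d := by nlinarith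
    have hK3 : d ≤ E * d := hK2.le
    have t0 : (X ^ (E * d) * u 3 : F[X]).natDegree = (u 3).natDegree + E * d :=
      natDegree_X_pow_mul _ h3
    have t1 : (X ^ d * u 2 + u 0).natDegree < (u 3).natDegree + E * d := by
      refine lt_of_le_of_lt (natDegree_add_le _ _) ?_
      have := natDegree_Xpow_mul_le d (u 2)
      omega
    have t2 := natDegree_add_eq_left_of_natDegree_lt (p := X ^ (E * d) * u 3)
      (q := X ^ d * u 2 + u 0) (by rw [t0]; exact t1)
    rw [← add_assoc] at t2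
    have hmax : max d j = d := max_eq_left hlt.le
    refine ⟨?_, ?_, ?_, ?_⟩
    · show X ^ (E * d) * u 3 + X ^ d * u 2 + u 0 ≠ 0
      exact ne_zero_of_natDegree_gt (n := (u 3).natDegree) (by rw [t2, t0]; omega)
    · show (u 3).natDegree ≤ (X ^ (E * d) * u 3 + X ^ d * u 2 + u 0).natDegree
      rw [t2, t0]; omega
    · show (u 2).natDegree ≤ (X ^ (E * d) * u 3 + X ^ d * u 2 + u 0).natDegree
      rw [t2, t0]; omega
    · show (X ^ d * u 3 + u 1).natDegree ≤ (X ^ (E * d) * u 3 + X ^ d * u 2 + u 0).natDegree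
      rw [t2, t0]; omega
  · -- d < j : `u 0` dominates
    have hK1 : E * d < E * j := by nlinarith
    have hK2 : d < E * j := by nlinarith
    have hK3 : j ≤ E * j := by nlinarith
    obtain ⟨r1, r2⟩ := raw2 (E * d) d (E * j) hK1 hK2 (u 3) (u 2) (u 0) h2 hdeg
    have hmax : max d j = j := max_eq_right hgt.le
    refine ⟨r1, ?_, ?_, ?_⟩
    · show (u 3).natDegree ≤ (X ^ (E * d) * u 3 + X ^ d * u 2 + u 0).natDegree
      rw [r2]; omega
    · show (u 2).natDegree ≤ (X ^ (E * d) * u 3 + X ^ d * u 2 + u 0).natDegree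
      rw [r2]; omega
    · show (X ^ d * u 3 + u 1).natDegree ≤ (X ^ (E * d) * u 3 + X ^ d * u 2 + u 0).natDegree
      rw [r2]; omega

/-- the combined positive step -/
theorem stepPos (E d : ℕ) (hE : 2 ≤ E) (hd : 1 ≤ d) (q : Fin 4 → F[X])
    (h : WD3 q ∨ ∃ j, 1 ≤ j ∧ j ≠ d ∧ Pos E j (rev q)) :
    Pos E d (actS E d (rev (actS E d (rev q)))) := by
  apply lemA E d hE hd
  rcases h with h | ⟨j, hj, hjd, h⟩
  · exact lemB E d _ (lemA E d hE hd q h) (by omega)
  · exact lemC E d j hE hd hj hjd q h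

/-- action of a letter -/
noncomputable def actOne (E : ℕ) (x : ℕ × Bool) (q : Fin 4 → F[X]) : Fin 4 → F[X] :=
  if x.2 then actS E (x.1 + 1) (rev (actS E (x.1 + 1) (rev q)))
  else rev (actS E (x.1 + 1) (rev (actS E (x.1 + 1) q)))

/-- action of a word -/
noncomputable def actWord (E : ℕ) (L : List (ℕ × Bool)) (p : Fin 4 → F[X]) : Fin 4 → F[X] :=
  L.foldr (actOne E) p

/-- the state predicate -/
def St (E : ℕ) (x : ℕ × Bool) (q : Fin 4 → F[X]) : Prop :=
  if x.2 then Pos E (x.1 + 1) q else Pos E (x.1 + 1) (rev q)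

/-- the base vector -/
noncomputable def e0 : Fin 4 → F[X] := ![1, 1, 1, 1]

theorem wd3_e0 : WD3 (e0 : Fin 4 → F[X]) := by
  refine ⟨?_, ?_, ?_, ?_⟩ <;> simp [e0]

theorem rev_e0 : rev (e0 : Fin 4 → F[X]) = e0 := by
  funext k
  fin_cases k <;> rfl

theorem step (E : ℕ) (hE : 2 ≤ E) (x : ℕ × Bool) (q : Fin 4 → F[X])
    (h : q = e0 ∨ ∃ y : ℕ × Bool, St E y q ∧ (x.1 = y.1 → x.2 = y.2)) :
    St E x (actOne E x q) := by
  obtain ⟨i, s⟩ := x
  cases s
  · -- negative letter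
    show Pos E (i + 1) (rev (actOne E (i, false) q))
    simp only [actOne, Bool.false_eq_true, if_false, rev_rev]
    have := stepPos E (i + 1) hE (by omega) (rev q) ?_
    · simpa using this
    · rcases h with h | ⟨⟨j, t⟩, hst, hxy⟩
      · left; rw [h, rev_e0]; exact wd3_e0
      · cases t
        · left
          exact lemB E (j + 1) _ hst (by omega)
        · right
          refine ⟨j + 1, by omega, ?_, ?_⟩
          · intro hji
            have : i = j := by omega
            simpa using hxy this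
          · rw [rev_rev]; exact hst
  · show Pos E (i + 1) (actOne E (i, true) q)
    simp only [actOne, if_true]
    apply stepPos E (i + 1) hE (by omega) q
    rcases h with h | ⟨⟨j, t⟩, hst, hxy⟩
    · left; rw [h]; exact wd3_e0
    · cases t
      · right
        refine ⟨j + 1, by omega, ?_, hst⟩
        intro hji
        have : i = j := by omega
        simpa using hxy this
      · left
        exact lemB E (j + 1) _ hst (by omega)

theorem main_inv (E : ℕ) (hE : 2 ≤ E) : ∀ L : List (ℕ × Bool), FreeGroup.IsReduced L →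
    ∀ x ∈ L.head?, St E x (actWord E L (e0 : Fin 4 → F[X])) := by
  intro L
  induction L with
  | nil => intro _ x hx; simp at hx
  | cons y L ih =>
    intro hred x hx
    simp only [List.head?_cons, Option.mem_def, Option.some.injEq] at hx
    subst hx
    show St E y (actOne E y (actWord E L e0))
    cases L with
    | nil =>
      apply step E hE
      left; rfl
    | cons z L' =>
      rw [FreeGroup.isReduced_cons_cons] at hred
      obtain ⟨hyz, hred'⟩ := hred
      apply step E hE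
      right
      exact ⟨z, ih hred' z (by simp), hyz⟩

/-- the degree bound of a word -/
def bnd (L : List (ℕ × Bool)) : ℕ := (L.map (fun x => 2 * (x.1 + 1))).sum

theorem actS_bound (E d B : ℕ) (hE : 1 ≤ E) (u : Fin 4 → F[X]) (h : ∀ k, (u k).natDegree ≤ B) :
    ∀ k, (actS E d u k).natDegree ≤ B + E * d := by
  have hd : d ≤ E * d := Nat.le_mul_of_pos_left d hE
  intro k
  fin_cases k
  · show (u 0).natDegree ≤ _
    have := h 0; omega
  · show (u 1).natDegree ≤ _
    have := h 1; omega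
  · show (X ^ d * u 0 + u 2).natDegree ≤ _
    refine (natDegree_add_le _ _).trans ?_
    have := natDegree_Xpow_mul_le d (u 0)
    have := h 0; have := h 2
    omega
  · show (X ^ (E * d) * u 0 + X ^ d * u 1 + u 3).natDegree ≤ _
    refine (natDegree_add_le _ _).trans ?_
    have a0 := natDegree_add_le (X ^ (E * d) * u 0) (X ^ d * u 1)
    have := natDegree_Xpow_mul_le d (u 1)
    have := natDegree_Xpow_mul_le (E * d) (u 0)
    have := h 0; have := h 1; have := h 3
    omega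

theorem rev_bound (B : ℕ) (u : Fin 4 → F[X]) (h : ∀ k, (u k).natDegree ≤ B) :
    ∀ k, (rev u k).natDegree ≤ B := by
  intro k
  fin_cases k
  · exact h 3
  · exact h 2
  · exact h 1
  · exact h 0

theorem actOne_bound (E B : ℕ) (hE : 1 ≤ E) (x : ℕ × Bool) (u : Fin 4 → F[X])
    (h : ∀ k, (u k).natDegree ≤ B) :
    ∀ k, (actOne E x u k).natDegree ≤ B + E * (2 * (x.1 + 1)) := by
  have e : B + E * (2 * (x.1 + 1)) = B + E * (x.1 + 1) + E * (x.1 + 1) := by ring
  rw [e]
  unfold actOne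
  split_ifs
  · exact actS_bound E _ _ hE _ (rev_bound _ _ (actS_bound E _ _ hE _ (rev_bound _ _ h)))
  · exact rev_bound _ _ (actS_bound E _ _ hE _ (rev_bound _ _ (actS_bound E _ _ hE _ h)))

theorem actWord_bound (E : ℕ) (hE : 1 ≤ E) (L : List (ℕ × Bool)) :
    ∀ k, (actWord E L (e0 : Fin 4 → F[X]) k).natDegree ≤ E * bnd L := by
  induction L with
  | nil =>
    intro k
    fin_cases k <;> simp [actWord, e0]
  | cons x L ih =>
    have h2 : E * bnd (x :: L) = E * bnd L + E * (2 * (x.1 + 1)) := by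
      simp [bnd]; ring
    rw [h2]
    exact actOne_bound E _ hE x _ ih

end Core

section Group

variable {F : Type*} [Field F]

/-- the reversal matrix -/
def Tmat : Matrix (Fin 4) (Fin 4) F := !![0,0,0,1; 0,0,1,0; 0,1,0,0; 1,0,0,0]

/-- the central unipotent matrix `S(0,b)` -/
def Smat (e : ℕ) (b : F) : Matrix (Fin 4) (Fin 4) F :=
  !![1,0,0,0; 0,1,0,0; b,0,1,0; b ^ e, b, 0, 1]

theorem Tmat_mulVec (v : Fin 4 → F) : (Tmat : Matrix (Fin 4) (Fin 4) F).mulVec v =
    ![v 3, v 2, v 1, v 0] := by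
  funext k
  fin_cases k <;> simp [Tmat, Matrix.mulVec, dotProduct, Fin.sum_univ_four]

theorem Smat_mulVec (e : ℕ) (b : F) (v : Fin 4 → F) : (Smat e b).mulVec v =
    ![v 0, v 1, b * v 0 + v 2, b ^ e * v 0 + b * v 1 + v 3] := by
  funext k
  fin_cases k <;> simp [Smat, Matrix.mulVec, dotProduct, Fin.sum_univ_four]

theorem Tmat_sq : (Tmat : Matrix (Fin 4) (Fin 4) F) * Tmat = 1 := by
  ext i j
  fin_cases i <;> fin_cases j <;> simp [Tmat, Matrix.mul_apply, Fin.sum_univ_four]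

theorem Smat_sq [CharP F 2] (e : ℕ) (b : F) : Smat e b * Smat e b = 1 := by
  ext i j
  fin_cases i <;> fin_cases j <;>
    simp [Smat, Matrix.mul_apply, Fin.sum_univ_four, CharTwo.add_self_eq_zero]

/-- `T` as an element of `GL₄` -/
def tGL : GL (Fin 4) F := ⟨Tmat, Tmat, Tmat_sq, Tmat_sq⟩

/-- `S(0,b)` as an element of `GL₄` -/
def sGL [CharP F 2] (e : ℕ) (b : F) : GL (Fin 4) F := ⟨Smat e b, Smat e b, Smat_sq e b, Smat_sq e b⟩

theorem tGL_inv : (tGL : GL (Fin 4) F)⁻¹ = tGL := rfl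

theorem sGL_inv [CharP F 2] (e : ℕ) (b : F) : (sGL e b)⁻¹ = sGL e b := rfl

theorem tGL_mem [CharP F 2] (e : ℕ) (he : e ≠ 0) : (tGL : GL (Fin 4) F) ∈ Cfsg.Lie.Sz F e := by
  apply Subgroup.subset_closure
  refine ⟨?_, ?_⟩
  · intro u v
    show Cfsg.Lie.altForm4 (Tmat.mulVec u) (Tmat.mulVec v) = Cfsg.Lie.altForm4 u v
    rw [Tmat_mulVec, Tmat_mulVec]
    simp [Cfsg.Lie.altForm4]
    ring
  · show Cfsg.Lie.star4 (Tmat : Matrix (Fin 4) (Fin 4) F) = Tmat.map (fun x => x ^ e)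
    ext p r
    fin_cases p <;> fin_cases r <;>
      simp [Cfsg.Lie.star4, Cfsg.Lie.pairOf, Tmat, zero_pow he, CharTwo.neg_eq]

theorem sGL_mem [CharP F 2] (e : ℕ) (he : e ≠ 0) (b : F) (hb : (b ^ e) ^ e = b ^ 2) :
    sGL e b ∈ Cfsg.Lie.Sz F e := by
  apply Subgroup.subset_closure
  refine ⟨?_, ?_⟩
  · intro u v
    show Cfsg.Lie.altForm4 ((Smat e b).mulVec u) ((Smat e b).mulVec v) = Cfsg.Lie.altForm4 u v
    rw [Smat_mulVec, Smat_mulVec]
    simp only [Cfsg.Lie.altForm4, Matrix.cons_val_zero, Matrix.cons_val_one, Matrix.cons_val]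
    have h2 : ∀ x : F, x + x = 0 := CharTwo.add_self_eq_zero
    linear_combination (u 0 * v 0 * b ^ e + b * u 0 * v 1 + b * u 1 * v 0) * h2 1
  · show Cfsg.Lie.star4 (Smat e b) = (Smat e b).map (fun x => x ^ e)
    ext p r
    fin_cases p <;> fin_cases r <;>
      simp [Cfsg.Lie.star4, Cfsg.Lie.pairOf, Smat, zero_pow he, CharTwo.neg_eq, hb, pow_two]

/-- evaluation of a polynomial vector -/
noncomputable def evv (t : F) (u : Fin 4 → F[X]) : Fin 4 → F := fun k => eval t (u k)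

theorem evv_rev (t : F) (u : Fin 4 → F[X]) : evv t (rev u) = Tmat.mulVec (evv t u) := by
  rw [Tmat_mulVec]
  funext k
  fin_cases k <;> rfl

theorem evv_actS (t : F) (E d : ℕ) (u : Fin 4 → F[X]) :
    evv t (actS E d u) = (Smat E (t ^ d)).mulVec (evv t u) := by
  rw [Smat_mulVec]
  funext k
  fin_cases k
  · rfl
  · rfl
  · show eval t (X ^ d * u 0 + u 2) = _
    simp [evv]
  · show eval t (X ^ (E * d) * u 0 + X ^ d * u 1 + u 3) = _
    simp [evv, pow_mul']

/-- the generators, as elements of `GL₄(F)` -/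
def gg [CharP F 2] (E : ℕ) (t : F) (i : ℕ) : GL (Fin 4) F :=
  (sGL E (t ^ (i + 1)) * tGL) * (sGL E (t ^ (i + 1)) * tGL)

theorem gg_inv [CharP F 2] (E : ℕ) (t : F) (i : ℕ) :
    (gg E t i)⁻¹ = (tGL * sGL E (t ^ (i + 1))) * (tGL * sGL E (t ^ (i + 1))) := by
  unfold gg
  rw [mul_inv_rev, mul_inv_rev, tGL_inv, sGL_inv]

/-- the matrix of a letter -/
def letter [CharP F 2] (E : ℕ) (t : F) (x : ℕ × Bool) : GL (Fin 4) F :=
  cond x.2 (gg E t x.1) (gg E t x.1)⁻¹

theorem mulVec_letter [CharP F 2] (E : ℕ) (t : F) (x : ℕ × Bool) (q : Fin 4 → F[X]) :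
    ((letter E t x : GL (Fin 4) F) : Matrix (Fin 4) (Fin 4) F).mulVec (evv t q) =
      evv t (actOne E x q) := by
  obtain ⟨i, s⟩ := x
  cases s
  · show (((gg E t i)⁻¹ : GL (Fin 4) F) : Matrix (Fin 4) (Fin 4) F).mulVec (evv t q) = _
    rw [gg_inv]
    simp only [actOne, Bool.false_eq_true, if_false, Units.val_mul]
    show (Tmat * Smat E (t ^ (i + 1)) * (Tmat * Smat E (t ^ (i + 1)))).mulVec (evv t q) = _
    rw [← Matrix.mulVec_mulVec, ← Matrix.mulVec_mulVec, ← Matrix.mulVec_mulVec,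
      evv_rev, evv_actS, evv_rev, evv_actS]
  · show ((gg E t i : GL (Fin 4) F) : Matrix (Fin 4) (Fin 4) F).mulVec (evv t q) = _
    simp only [actOne, if_true, gg, Units.val_mul]
    show (Smat E (t ^ (i + 1)) * Tmat * (Smat E (t ^ (i + 1)) * Tmat)).mulVec (evv t q) = _
    rw [← Matrix.mulVec_mulVec, ← Matrix.mulVec_mulVec, ← Matrix.mulVec_mulVec,
      evv_actS, evv_rev, evv_actS, evv_rev]

theorem mulVec_word [CharP F 2] (E : ℕ) (t : F) (L : List (ℕ × Bool)) (q : Fin 4 → F[X]) :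
    (((L.map (letter E t)).prod : GL (Fin 4) F) : Matrix (Fin 4) (Fin 4) F).mulVec (evv t q) =
      evv t (actWord E L q) := by
  induction L with
  | nil => simp [actWord]
  | cons x L ih =>
    rw [List.map_cons, List.prod_cons, Units.val_mul, ← Matrix.mulVec_mulVec, ih, mulVec_letter]
    rfl

end Group

theorem charP_two' {K : Type*} [Field K] [Fintype K] {k : ℕ} (hK : Fintype.card K = 2 ^ k) :
    CharP K 2 := by
  obtain ⟨n, hp, hc⟩ := FiniteField.card K (ringChar K)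
  rw [hK] at hc
  have h2 : ringChar K ∣ 2 ^ k := by
    rw [hc]
    exact dvd_pow_self _ n.ne_zero
  have h3 : ringChar K ∣ 2 := hp.dvd_of_dvd_pow h2
  have h4 : ringChar K = 2 := (Nat.prime_dvd_prime_iff_eq hp Nat.prime_two).mp h3
  rw [← h4]
  exact ringChar.charP K

theorem result (w : FreeGroup ℕ) (hw : w ≠ 1) :
    ∃ N : ℕ, ∀ (F : Type*) [Field F] [Fintype F] (m : ℕ), 1 ≤ m → N ≤ m →
      Fintype.card F = 2 ^ (2 * m + 1) →
      ∃ f : ℕ → ↥(Cfsg.Lie.Sz F (2 ^ (m + 1))), FreeGroup.lift f w ≠ 1 := by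
  refine ⟨bnd w.toWord, ?_⟩
  intro F _ _ m hm hN hcard
  haveI : CharP F 2 := charP_two' hcard
  have hE2 : 2 ≤ 2 ^ (m + 1) := by
    calc 2 = 2 ^ 1 := by norm_num
      _ ≤ 2 ^ (m + 1) := Nat.pow_le_pow_right (by norm_num) (by omega)
  have hE0 : 2 ^ (m + 1) ≠ 0 := by positivity
  have hθ : ∀ b : F, (b ^ 2 ^ (m + 1)) ^ 2 ^ (m + 1) = b ^ 2 := by
    intro b
    have : 2 ^ (m + 1) * 2 ^ (m + 1) = Fintype.card F * 2 := by rw [hcard]; ring
    rw [← pow_mul, this, pow_mul, FiniteField.pow_card]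
  have hL : w.toWord ≠ [] := fun h => hw (FreeGroup.toWord_eq_nil_iff.mp h)
  obtain ⟨x, L', hxL⟩ := List.exists_cons_of_ne_nil hL
  have hred : FreeGroup.IsReduced w.toWord := FreeGroup.isReduced_toWord
  set q : Fin 4 → F[X] := actWord (2 ^ (m + 1)) w.toWord e0 with hq
  have hSt : St (2 ^ (m + 1)) x q := main_inv _ hE2 w.toWord hred x (by rw [hxL]; simp)
  have hbound := actWord_bound (F := F) (2 ^ (m + 1)) (by omega) w.toWord
  rw [← hq] at hbound
  have hne : q 3 - q 0 ≠ 0 := by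
    intro h
    rw [sub_eq_zero] at h
    have hpos : 0 < 2 ^ (m + 1) * (x.1 + 1) := by positivity
    unfold St at hSt
    split_ifs at hSt
    · obtain ⟨_, _, h3, _⟩ := hSt
      rw [h] at h3
      omega
    · obtain ⟨_, _, h3, _⟩ := hSt
      change (q 0).natDegree = (q 3).natDegree + _ at h3
      rw [h] at h3
      omega
  have hdeg : (q 3 - q 0).natDegree < Fintype.card F := by
    have h1 := natDegree_sub_le (q 3) (q 0)
    have h2 := hbound 3
    have h3 := hbound 0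
    have h4 : bnd w.toWord < 2 ^ m := lt_of_le_of_lt hN (Nat.lt_two_pow_self)
    have h5 : 2 ^ (m + 1) * bnd w.toWord < 2 ^ (m + 1) * 2 ^ m :=
      Nat.mul_lt_mul_of_pos_left h4 (by positivity)
    have h6 : 2 ^ (m + 1) * 2 ^ m = Fintype.card F := by rw [hcard]; ring
    omega
  obtain ⟨t, ht⟩ := Polynomial.exists_eval_ne_zero_of_natDegree_lt_card (q 3 - q 0) hne
    (by rw [Cardinal.mk_fintype]; exact_mod_cast hdeg)
  have hmem : ∀ i, gg (2 ^ (m + 1)) t i ∈ Cfsg.Lie.Sz F (2 ^ (m + 1)) := by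
    intro i
    have h1 := sGL_mem (2 ^ (m + 1)) hE0 (t ^ (i + 1)) (hθ _)
    have h2 := tGL_mem (F := F) (2 ^ (m + 1)) hE0
    exact mul_mem (mul_mem h1 h2) (mul_mem h1 h2)
  refine ⟨fun i => ⟨gg (2 ^ (m + 1)) t i, hmem i⟩, ?_⟩
  intro h1
  have hlift : (Cfsg.Lie.Sz F (2 ^ (m + 1))).subtype
      (FreeGroup.lift (fun i => (⟨gg (2 ^ (m + 1)) t i, hmem i⟩ : ↥(Cfsg.Lie.Sz F (2 ^ (m + 1))))) w) =
      FreeGroup.lift (gg (2 ^ (m + 1)) t) w :=
    FreeGroup.lift_unique ((Cfsg.Lie.Sz F (2 ^ (m + 1))).subtype.comp (FreeGroup.lift _))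
      (fun i => by simp)
  rw [h1, map_one] at hlift
  have hM : FreeGroup.lift (gg (2 ^ (m + 1)) t) w = ((w.toWord).map (letter (2 ^ (m + 1)) t)).prod := by
    conv_lhs => rw [← FreeGroup.mk_toWord (x := w), FreeGroup.lift_mk]
    rfl
  have hmv := mulVec_word (2 ^ (m + 1)) t w.toWord (e0 : Fin 4 → F[X])
  rw [← hM, ← hlift, ← hq, Units.val_one, Matrix.one_mulVec] at hmv
  apply ht
  rw [eval_sub, sub_eq_zero]
  have a3 := congrFun hmv 3
  have a0 := congrFun hmv 0
  change eval t (e0 3) = eval t (q 3) at a3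
  change eval t (e0 0) = eval t (q 0) at a0
  rw [← a3, ← a0]
  simp [e0]

end Cfsg.Agent.S2354
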