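import Cfsg.Statements.S2355
import Cfsg.Agent.S2352
import Cfsg.Agent.S2353
import Cfsg.Agent.Helper8.Laws
import Cfsg.Agent.Helper8.LawsSL2
import Cfsg.Agent.Helper8.LawsClassical
import Cfsg.Agent.Helper8.LawsSU

set_option autoImplicit false
open Cfsg

namespace Cfsg.Agent.S2355

open Cfsg.Agent.Helper8.Laws

/-- `SL₂(F)` takes a non-central value once the field is large -/
theorem CLF_SL2 {F : Type*} [Field F] [Fintype F] (w : FreeGroup ℕ) (hw : w ≠ 1)
    (hB : Cfsg.Agent.S2353.bnd w.toWord < Fintype.card F) :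
    CLF w (Matrix.SpecialLinearGroup (Fin 2) F) := by
  classical
  obtain ⟨t, -, ht⟩ := exists_eval_nonscalar w hw (Finset.univ : Finset F)
    (by rw [Finset.card_univ]; exact hB)
  refine ⟨gEval t, ?_⟩
  intro hc
  apply ht
  rw [Subgroup.mem_center_iff] at hc
  exact comm_T_scalar _ (hc T1).symm (hc T2).symm

/-- the parameters of `SL_m(F)` are small when `w` takes only central values -/
theorem sl_params_small {F : Type*} [Field F] [Fintype F] (w : FreeGroup ℕ) (hw : w ≠ 1) (NA : ℕ)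
    (hNA : ∀ n : ℕ, NA ≤ n → ∃ f : ℕ → alternatingGroup (Fin n), FreeGroup.lift f w ≠ 1)
    (m : ℕ) (h : ¬ CLF w (Matrix.SpecialLinearGroup (Fin m) F)) :
    m < max NA 4 ∧ (2 ≤ m → Fintype.card F ≤ Cfsg.Agent.S2353.bnd w.toWord) := by
  constructor
  · by_contra hm
    push Not at hm
    apply h
    exact CLF_SL_of_alt m (le_trans (le_max_right _ _) hm) (hNA m (le_trans (le_max_left _ _) hm))
  · intro hm
    by_contra hF
    push Not at hF
    exact h (CLF_SL_of_SL2 m hm (CLF_SL2 w hw hF))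

theorem card_matrix_le {ι : Type*} [Fintype ι] [DecidableEq ι] {F : Type*} [Fintype F]
    (K D : ℕ) (hK1 : 1 ≤ K) (hK : Fintype.card F ≤ K) (hD : Fintype.card ι ≤ D) :
    Nat.card (Matrix ι ι F) ≤ K ^ (D * D) := by
  classical
  have h1 : Nat.card (Matrix ι ι F) = (Fintype.card F ^ Fintype.card ι) ^ Fintype.card ι := by
    rw [Nat.card_eq_fintype_card]
    show Fintype.card (ι → ι → F) = _
    rw [Fintype.card_fun, Fintype.card_fun]
  rw [h1, ← pow_mul]
  calc Fintype.card F ^ (Fintype.card ι * Fintype.card ι)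
      ≤ K ^ (Fintype.card ι * Fintype.card ι) := Nat.pow_le_pow_left hK _
    _ ≤ K ^ (D * D) := Nat.pow_le_pow_right hK1 (Nat.mul_le_mul hD hD)

/-- cardinality bound through an injection into matrices, composed with an isomorphism onto a quotient -/
theorem card_le_of_iso {G S : Type*} [Group G] [Group S] (H : Subgroup S)
    (e : G ≃ S ⧸ H) {ι : Type*} [Fintype ι] [DecidableEq ι] {F : Type*} [Fintype F]
    (j : S → Matrix ι ι F) (hj : Function.Injective j)
    (K D : ℕ) (hK1 : 1 ≤ K) (hK : Fintype.card F ≤ K) (hD : Fintype.card ι ≤ D) :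
    Nat.card G ≤ K ^ (D * D) := by
  classical
  haveI : Finite S := Finite.of_injective j hj
  rw [Nat.card_congr e]
  calc Nat.card (S ⧸ H) ≤ Nat.card S := Nat.le_of_dvd Nat.card_pos (Subgroup.card_quotient_dvd_card H)
    _ ≤ Nat.card (Matrix ι ι F) := Nat.card_le_card_of_injective j hj
    _ ≤ K ^ (D * D) := card_matrix_le K D hK1 hK hD

theorem law_transfer {G H : Type*} [Group G] [Group H] (w : FreeGroup ℕ) (e : G ≃* H)
    (hlaw : ∀ f : ℕ → G, FreeGroup.lift f w = 1) : ∀ f : ℕ → H, FreeGroup.lift f w = 1 := by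
  intro f
  have h := lift_comp e.symm.toMonoidHom f w
  rw [hlaw] at h
  have h2 : e.symm (FreeGroup.lift f w) = 1 := h.symm
  rw [← map_one e.symm] at h2
  exact e.symm.injective h2

theorem result (w : FreeGroup ℕ) (hw : w ≠ 1) :
    ∃ N : ℕ, ∀ (G : Type*) [Group G] [Finite G],
      (Cfsg.IsAlternating G ∨ Cfsg.IsPSL G ∨ Cfsg.IsPSp G ∨ Cfsg.IsPSU G ∨ Cfsg.IsPOmegaOdd G ∨
          Cfsg.IsPOmegaPlus G ∨ Cfsg.IsPOmegaMinus G) →
      (∀ f : ℕ → G, FreeGroup.lift f w = 1) → Nat.card G ≤ N := by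
  obtain ⟨NA, hNA⟩ := Cfsg.Agent.S2352.result w hw
  set B := Cfsg.Agent.S2353.bnd w.toWord with hB
  set D := max NA 4 with hD
  set K := (B + 1) ^ 2 with hK
  refine ⟨D.factorial + K ^ ((2 * D + 1) * (2 * D + 1)), ?_⟩
  intro G _ _ hfam hlaw
  have hK1 : 1 ≤ K := Nat.one_le_pow _ _ (by omega)
  have hBK : B ≤ K := by rw [hK]; nlinarith
  have hD4 : 4 ≤ D := le_max_right _ _
  rcases hfam with h | h | h | h | h | h | h
  · -- alternating
    obtain ⟨n, hn, ⟨e⟩⟩ := h
    have hn' : n < NA := by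
      by_contra hc
      push Not at hc
      obtain ⟨f, hf⟩ := hNA n hc
      exact hf (law_transfer w e hlaw f)
    have hnD : n ≤ D := le_trans hn'.le (le_max_left _ _)
    have h1 : Nat.card G ≤ n.factorial := by
      rw [Nat.card_congr e.toEquiv]
      calc Nat.card (alternatingGroup (Fin n)) ≤ Nat.card (Equiv.Perm (Fin n)) :=
            Nat.card_le_card_of_injective Subtype.val Subtype.val_injective
        _ = n.factorial := by rw [Nat.card_perm, Nat.card_eq_fintype_card, Fintype.card_fin]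
    have h2 := Nat.factorial_le hnD
    omega
  · -- PSL
    obtain ⟨F, _, _, n, hn2, _, ⟨e⟩⟩ := h
    have hncl : ¬ CLF w (Matrix.SpecialLinearGroup (Fin n) F) := not_CLF_of_law e hlaw
    obtain ⟨h1, h2⟩ := sl_params_small w hw NA hNA n hncl
    have := card_le_of_iso (Subgroup.center (Matrix.SpecialLinearGroup (Fin n) F)) e.toEquiv
      (fun A : Matrix.SpecialLinearGroup (Fin n) F => (A : Matrix (Fin n) (Fin n) F))
      Subtype.val_injective K (2 * D + 1) hK1 (le_trans (h2 hn2) hBK)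
      (by rw [Fintype.card_fin]; omega)
    omega
  · -- PSp
    obtain ⟨F, _, _, m, hm2, _, ⟨e⟩⟩ := h
    have hncl : ¬ CLF w (Matrix.symplecticGroup (Fin m) F) := not_CLF_of_law e hlaw
    have hncl' : ¬ CLF w (Matrix.SpecialLinearGroup (Fin m) F) := fun hc => hncl (CLF_Sp m hc)
    obtain ⟨h1, h2⟩ := sl_params_small w hw NA hNA m hncl'
    have := card_le_of_iso (Subgroup.center (Matrix.symplecticGroup (Fin m) F)) e.toEquiv
      (fun A : Matrix.symplecticGroup (Fin m) F => (A : Matrix (Fin m ⊕ Fin m) (Fin m ⊕ Fin m) F))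
      Subtype.val_injective K (2 * D + 1) hK1 (le_trans (h2 hm2) hBK)
      (by rw [Fintype.card_sum, Fintype.card_fin]; omega)
    omega
  · -- PSU
    obtain ⟨F, _, _, n, q, hF, hn3, _, ⟨e⟩⟩ := h
    have hncl : ¬ CLF w ↥(Cfsg.SU n F q) := not_CLF_of_law e hlaw
    have hnD : n < D := by
      by_contra hc
      push Not at hc
      exact hncl (CLF_SU_of_alt n q (le_trans hD4 hc) (hNA n (le_trans (le_max_left _ _) hc)))
    have hq : q ≤ B := by
      by_contra hc
      push Not at hc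
      exact hncl (CLF_SU_of_field hw n q (by omega) hF hc)
    have hFK : Fintype.card F ≤ K := by
      rw [hF, hK]
      exact Nat.pow_le_pow_left (by omega) 2
    have := card_le_of_iso (Subgroup.center ↥(Cfsg.SU n F q)) e.toEquiv
      (fun A : ↥(Cfsg.SU n F q) => ((A : Matrix.SpecialLinearGroup (Fin n) F) : Matrix (Fin n) (Fin n) F))
      (Subtype.val_injective.comp Subtype.val_injective) K (2 * D + 1) hK1 hFK
      (by rw [Fintype.card_fin]; omega)
    omega
  · -- PΩ odd
    obtain ⟨F, _, _, m, hm3, _, ⟨e⟩⟩ := h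
    have hncl : ¬ CLF w ↥(Cfsg.Omega F (Cfsg.quadFormOdd m F)) := not_CLF_of_law e hlaw
    have hncl' : ¬ CLF w (Matrix.SpecialLinearGroup (Fin m) F) :=
      fun hc => hncl (CLF_Omega_odd m hm3 hc)
    obtain ⟨h1, h2⟩ := sl_params_small w hw NA hNA m hncl'
    have := card_le_of_iso (Subgroup.center ↥(Cfsg.Omega F (Cfsg.quadFormOdd m F))) e.toEquiv
      (fun A : ↥(Cfsg.Omega F (Cfsg.quadFormOdd m F)) =>
        (((A : ↥(Cfsg.isometryGroup F (Cfsg.quadFormOdd m F))) : GL (Unit ⊕ (Fin m ⊕ Fin m)) F) :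
          Matrix (Unit ⊕ (Fin m ⊕ Fin m)) (Unit ⊕ (Fin m ⊕ Fin m)) F))
      (Units.val_injective.comp (Subtype.val_injective.comp Subtype.val_injective))
      K (2 * D + 1) hK1 (le_trans (h2 (by omega)) hBK)
      (by simp only [Fintype.card_sum, Fintype.card_fin, Fintype.card_unit]; omega)
    omega
  · -- PΩ plus
    obtain ⟨F, _, _, m, hm4, ⟨e⟩⟩ := h
    have hncl : ¬ CLF w ↥(Cfsg.Omega F (Cfsg.quadFormPlus m F)) := not_CLF_of_law e hlaw
    have hncl' : ¬ CLF w (Matrix.SpecialLinearGroup (Fin m) F) :=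
      fun hc => hncl (CLF_Omega_plus m (by omega) hc)
    obtain ⟨h1, h2⟩ := sl_params_small w hw NA hNA m hncl'
    have := card_le_of_iso (Subgroup.center ↥(Cfsg.Omega F (Cfsg.quadFormPlus m F))) e.toEquiv
      (fun A : ↥(Cfsg.Omega F (Cfsg.quadFormPlus m F)) =>
        (((A : ↥(Cfsg.isometryGroup F (Cfsg.quadFormPlus m F))) : GL (Fin m ⊕ Fin m) F) :
          Matrix (Fin m ⊕ Fin m) (Fin m ⊕ Fin m) F))
      (Units.val_injective.comp (Subtype.val_injective.comp Subtype.val_injective))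
      K (2 * D + 1) hK1 (le_trans (h2 (by omega)) hBK)
      (by simp only [Fintype.card_sum, Fintype.card_fin]; omega)
    omega
  · -- PΩ minus
    obtain ⟨F, _, _, m, a, b, hm4, _, ⟨e⟩⟩ := h
    have hncl : ¬ CLF w ↥(Cfsg.Omega F (Cfsg.quadFormMinus (m - 1) F a b)) := not_CLF_of_law e hlaw
    have hncl' : ¬ CLF w (Matrix.SpecialLinearGroup (Fin (m - 1)) F) :=
      fun hc => hncl (CLF_Omega_minus (m - 1) (by omega) a b hc)
    obtain ⟨h1, h2⟩ := sl_params_small w hw NA hNA (m - 1) hncl'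
    have := card_le_of_iso (Subgroup.center ↥(Cfsg.Omega F (Cfsg.quadFormMinus (m - 1) F a b)))
      e.toEquiv
      (fun A : ↥(Cfsg.Omega F (Cfsg.quadFormMinus (m - 1) F a b)) =>
        (((A : ↥(Cfsg.isometryGroup F (Cfsg.quadFormMinus (m - 1) F a b))) :
          GL ((Fin (m - 1) ⊕ Fin (m - 1)) ⊕ Fin 2) F) :
          Matrix ((Fin (m - 1) ⊕ Fin (m - 1)) ⊕ Fin 2) ((Fin (m - 1) ⊕ Fin (m - 1)) ⊕ Fin 2) F))
      (Units.val_injective.comp (Subtype.val_injective.comp Subtype.val_injective))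
      K (2 * D + 1) hK1 (le_trans (h2 (by omega)) hBK)
      (by simp only [Fintype.card_sum, Fintype.card_fin]; omega)
    omega

end Cfsg.Agent.S2355
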