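import Cfsg.Statements.S2358
import Cfsg.Agent.Helper7.ReeLinE
-- import your own Cfsg.Agent.* helpers here

set_option autoImplicit false
open Cfsg

namespace Cfsg.Agent.S2358

open Cfsg.Agent.Helper7.ReeLin Cfsg.Agent.Helper7.ReeTor Cfsg.Agent.Helper7.ReeCyc Cfsg.Agent.Helper7.Chev in
/-- Let R be the small Ree group over the field with q = 3^(2m+1) ≥ 27 elements. If d divides one of (q−1)/2, (q+1)/4, q − 3^(m+1) + 1 or q + 3^(m+1) + 1, then any two cyclic subgroups of R of order d are conjugate in R. -/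
theorem result {K : Type*} [Field K] [Fintype K] {m : ℕ} (hm : 1 ≤ m)
    (hK : Fintype.card K = 3 ^ (2 * m + 1)) (d : ℕ)
    (hd : d ∣ (3 ^ (2 * m + 1) - 1) / 2 ∨ d ∣ (3 ^ (2 * m + 1) + 1) / 4 ∨ d ∣ 3 ^ (2 * m + 1) - 3 ^ (m + 1) + 1 ∨ d ∣ 3 ^ (2 * m + 1) + 3 ^ (m + 1) + 1)
    (A B : Subgroup ↥(Cfsg.Lie.twistedG2 K (3 ^ m))) (hA : IsCyclic A) (hB : IsCyclic B)
    (hAd : Nat.card A = d) (hBd : Nat.card B = d) :
    ∃ g : ↥(Cfsg.Lie.twistedG2 K (3 ^ m)), B = A.map (MulAut.conj g).toMonoidHom := by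
  haveI := charP_three_of_card (by omega) hK
  by_cases hd1 : d = 1
  · subst hd1
    refine ⟨1, ?_⟩
    rw [Subgroup.card_eq_one.mp hAd, Subgroup.card_eq_one.mp hBd, Subgroup.map_bot]
  have hprime : ∀ p : ℕ, p.Prime → p ∣ d → 3 < p := fun p hp hpd => toral_prime_gt_three hm hd hp hpd
  have hsyl : ∀ p : ℕ, p.Prime → p ∣ d → ∀ P : Sylow p ↥(Cfsg.Lie.twistedG2 K (3 ^ m)), IsCyclic P := by
    intro p hp hpd P
    haveI : Fact p.Prime := ⟨hp⟩
    exact ree_S1156 hm hK (hprime p hp hpd) P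
  have hAne : A ≠ ⊥ := by
    intro h
    rw [h, Subgroup.card_bot] at hAd
    exact hd1 hAd.symm
  have hBne : B ≠ ⊥ := by
    intro h
    rw [h, Subgroup.card_bot] at hBd
    exact hd1 hBd.symm
  obtain ⟨p, hp, hpd⟩ := Nat.exists_prime_and_dvd hd1
  haveI : Fact p.Prime := ⟨hp⟩
  obtain ⟨⟨a, haA⟩, hao⟩ := exists_prime_orderOf_dvd_card' (G := ↥A) p (hAd ▸ hpd)
  obtain ⟨⟨b, hbB⟩, hbo⟩ := exists_prime_orderOf_dvd_card' (G := ↥B) p (hBd ▸ hpd)
  have hao' : orderOf a = p := by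
    rw [← hao]
    exact (Subgroup.orderOf_mk a haA).symm
  have hbo' : orderOf b = p := by
    rw [← hbo]
    exact (Subgroup.orderOf_mk b hbB).symm
  have ha1 : a ≠ 1 := by
    rintro rfl
    rw [orderOf_one] at hao'
    exact hp.one_lt.ne hao'
  have hb1 : b ≠ 1 := by
    rintro rfl
    rw [orderOf_one] at hbo'
    exact hp.one_lt.ne hbo'
  have hap : a ^ p = 1 := by rw [← hao']; exact pow_orderOf_eq_one a
  have hbp : b ^ p = 1 := by rw [← hbo']; exact pow_orderOf_eq_one b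
  obtain ⟨g, hg⟩ := zpowers_conj_of_cyclic_sylow hp (hsyl p hp hpd) ha1 hap hb1 hbp
  refine ⟨g⁻¹, ?_⟩
  set x := g⁻¹ * a * g with hx
  have hxp : x ^ p = 1 := by
    have := conj_pow (a := g⁻¹) (b := a) (i := p)
    rw [inv_inv] at this
    rw [hx, this, hap, mul_one, inv_mul_cancel]
  have hx1 : x ≠ 1 := by
    intro h
    apply ha1
    have : a = g * x * g⁻¹ := by rw [hx]; group
    rw [this, h]
    group
  have hxB : x ∈ B := by
    have : x ∈ Subgroup.zpowers b := by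
      rw [← hg]
      exact Subgroup.mem_zpowers x
    exact (Subgroup.zpowers_le.mpr hbB) this
  have hxA : x ∈ A.map (MulAut.conj g⁻¹).toMonoidHom := by
    refine ⟨a, haA, ?_⟩
    simp [hx]
  have hC := ree_centralizer_comm hm hK hp (hprime p hp hpd) hx1 hxp
  have hBcomm : ∀ u ∈ B, ∀ v ∈ B, u * v = v * u := by
    intro u hu v hv
    letI := IsCyclic.commGroup (α := ↥B)
    exact congrArg Subtype.val (mul_comm (⟨u, hu⟩ : ↥B) ⟨v, hv⟩)
  have hAcomm : ∀ u ∈ A, ∀ v ∈ A, u * v = v * u := by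
    intro u hu v hv
    letI := IsCyclic.commGroup (α := ↥A)
    exact congrArg Subtype.val (mul_comm (⟨u, hu⟩ : ↥A) ⟨v, hv⟩)
  symm
  apply subgroup_unique_of_comm (Subgroup.centralizer {x}) hC d hsyl
  · rintro _ ⟨u, hu, rfl⟩
    rw [Subgroup.mem_centralizer_singleton_iff]
    have e1 := hAcomm u hu a haA
    simp only [MulEquiv.coe_toMonoidHom, MulAut.conj_apply, inv_inv, hx]
    calc g⁻¹ * u * g * (g⁻¹ * a * g) = g⁻¹ * (u * a) * g := by group
      _ = g⁻¹ * (a * u) * g := by rw [e1]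
      _ = g⁻¹ * a * g * (g⁻¹ * u * g) := by group
  · intro u hu
    rw [Subgroup.mem_centralizer_singleton_iff]
    exact hBcomm u hu x hxB
  · rw [← hAd]
    exact (Nat.card_congr (A.equivMapOfInjective _ (MulAut.conj g⁻¹).injective).toEquiv).symm
  · exact hBd

end Cfsg.Agent.S2358
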