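import Cfsg.Statements.S2359
import Cfsg.Agent.Helper7.ReeTorK
-- import your own Cfsg.Agent.* helpers here

set_option autoImplicit false
open Cfsg

namespace Cfsg.Agent.S2359

open Cfsg.Agent.Helper7.ReeTor Cfsg.Agent.Helper7.ReeCyc Cfsg.Agent.Helper7.Chev in
/-- Let R be the small Ree group over the field with q = 3^(2m+1) ≥ 27 elements. If H is a cyclic subgroup of R of order (q−1)/2, then the centralizer of H in R is cyclic of order q−1, and every non-trivial subgroup of H has the same centralizer as H. If H is a cyclic subgroup of order (q+1)/4, then the centralizer of H is abelian of order q+1 with no element of order 4 (so it is the direct product of H and a group of order 4 whose non-identity elements all have order 2), and every non-trivial subgroup of H has the same centralizer as H. -/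
theorem result {K : Type*} [Field K] [Fintype K] {m : ℕ} (hm : 1 ≤ m)
    (hK : Fintype.card K = 3 ^ (2 * m + 1)) (H : Subgroup ↥(Cfsg.Lie.twistedG2 K (3 ^ m))) (hH : IsCyclic H) :
    (Nat.card H = (3 ^ (2 * m + 1) - 1) / 2 →
      IsCyclic ↥(Subgroup.centralizer (H : Set ↥(Cfsg.Lie.twistedG2 K (3 ^ m)))) ∧
        Nat.card ↥(Subgroup.centralizer (H : Set ↥(Cfsg.Lie.twistedG2 K (3 ^ m)))) = 3 ^ (2 * m + 1) - 1 ∧
        ∀ A : Subgroup ↥(Cfsg.Lie.twistedG2 K (3 ^ m)), A ≤ H → A ≠ ⊥ →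
          Subgroup.centralizer (A : Set ↥(Cfsg.Lie.twistedG2 K (3 ^ m))) = Subgroup.centralizer (H : Set ↥(Cfsg.Lie.twistedG2 K (3 ^ m)))) ∧
    (Nat.card H = (3 ^ (2 * m + 1) + 1) / 4 →
      IsMulCommutative ↥(Subgroup.centralizer (H : Set ↥(Cfsg.Lie.twistedG2 K (3 ^ m)))) ∧
        Nat.card ↥(Subgroup.centralizer (H : Set ↥(Cfsg.Lie.twistedG2 K (3 ^ m)))) = 3 ^ (2 * m + 1) + 1 ∧
        (∀ x ∈ Subgroup.centralizer (H : Set ↥(Cfsg.Lie.twistedG2 K (3 ^ m))), orderOf x ≠ 4) ∧
        ∀ A : Subgroup ↥(Cfsg.Lie.twistedG2 K (3 ^ m)), A ≤ H → A ≠ ⊥ →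
          Subgroup.centralizer (A : Set ↥(Cfsg.Lie.twistedG2 K (3 ^ m))) = Subgroup.centralizer (H : Set ↥(Cfsg.Lie.twistedG2 K (3 ^ m)))) := by
  haveI := charP_three_of_card (by omega) hK
  have h8 := ree_card_mod_eight hK
  have hq3 : Fintype.card K % 3 = 0 := by
    rw [hK, pow_succ]
    omega
  rw [← hK]
  have hHcomm : ∀ a ∈ H, ∀ b ∈ H, a * b = b * a := by
    intro a ha b hb
    letI := IsCyclic.commGroup (α := ↥H)
    exact congrArg Subtype.val (mul_comm (⟨a, ha⟩ : ↥H) ⟨b, hb⟩)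
  have hHfin : Nat.card ↥H ≠ 1 → H ≠ ⊥ := by
    intro h1 h2
    rw [h2, Subgroup.card_bot] at h1
    exact h1 rfl
  constructor
  · -- the split torus
    intro hcard
    have key : ∀ A : Subgroup ↥(Cfsg.Lie.twistedG2 K (3 ^ m)), A ≤ H → A ≠ ⊥ →
        ∃ g : ↥(Cfsg.Lie.twistedG2 K (3 ^ m)),
          Subgroup.centralizer (A : Set ↥(Cfsg.Lie.twistedG2 K (3 ^ m))) =
            (ghHom hK).range.map (MulAut.conj g).toMonoidHom ∧
          Subgroup.centralizer (H : Set ↥(Cfsg.Lie.twistedG2 K (3 ^ m))) =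
            (ghHom hK).range.map (MulAut.conj g).toMonoidHom := by
      intro A hAH hA
      obtain ⟨p, hp, hpd, x, hxA, hx1, hxp⟩ := exists_prime_order_mem hA
      have hpH : p ∣ (Fintype.card K - 1) / 2 := by
        rw [← hcard]
        exact hpd.trans (Subgroup.card_dvd_of_le hAH)
      have hpq : p ∣ Fintype.card K - 1 := hpH.trans (Nat.div_dvd_of_dvd (by omega))
      have hp2 : p ≠ 2 := by
        rintro rfl
        omega
      have hp3 : p ≠ 3 := by
        rintro rfl
        omega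
      have hp3' : 3 < p := by
        have := hp.two_le
        omega
      obtain ⟨g, hg⟩ := split_centralizer_conj hK hp hp3' hpq hx1 hxp
      have hC : ∀ g₁ ∈ Subgroup.centralizer {x}, ∀ g₂ ∈ Subgroup.centralizer {x}, g₁ * g₂ = g₂ * g₁ := by
        rw [hg]
        rintro _ ⟨_, ⟨s₁, rfl⟩, rfl⟩ _ ⟨_, ⟨s₂, rfl⟩, rfl⟩
        rw [← map_mul, ← map_mul, ← map_mul, ← map_mul, mul_comm]
      refine ⟨g, ?_, ?_⟩
      · rw [← hg]
        exact centralizer_eq_of_mem hxA (fun a ha => hHcomm a (hAH ha) x (hAH hxA)) hC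
      · rw [← hg]
        exact centralizer_eq_of_mem (hAH hxA) (fun a ha => hHcomm a ha x (hAH hxA)) hC
    have hHne : H ≠ ⊥ := by
      apply hHfin
      rw [hcard]
      have : 27 ≤ Fintype.card K := by
        rw [hK]
        calc 27 = 3 ^ 3 := by norm_num
          _ ≤ 3 ^ (2 * m + 1) := Nat.pow_le_pow_right (by norm_num) (by omega)
      omega
    obtain ⟨g, -, hg⟩ := key H le_rfl hHne
    refine ⟨?_, ?_, ?_⟩
    · rw [hg]
      exact isCyclic_of_surjective ((MulAut.conj g).toMonoidHom.subgroupMap (ghHom hK).range)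
        (MonoidHom.subgroupMap_surjective _ _)
    · rw [hg, Subgroup.card_map_of_injective (MulEquiv.injective _), card_range_ghHom]
    · intro A hAH hA
      obtain ⟨g', h1, h2⟩ := key A hAH hA
      rw [h1, h2]
  · -- the quarter torus
    intro hcard
    have key : ∀ A : Subgroup ↥(Cfsg.Lie.twistedG2 K (3 ^ m)), A ≤ H → A ≠ ⊥ →
        ∃ x : ↥(Cfsg.Lie.twistedG2 K (3 ^ m)),
          Subgroup.centralizer (A : Set ↥(Cfsg.Lie.twistedG2 K (3 ^ m))) = Subgroup.centralizer {x} ∧
          Subgroup.centralizer (H : Set ↥(Cfsg.Lie.twistedG2 K (3 ^ m))) = Subgroup.centralizer {x} ∧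
          (∀ g₁ ∈ Subgroup.centralizer {x}, ∀ g₂ ∈ Subgroup.centralizer {x}, g₁ * g₂ = g₂ * g₁) ∧
          Nat.card ↥(Subgroup.centralizer {x}) = Fintype.card K + 1 := by
      intro A hAH hA
      obtain ⟨p, hp, hpd, x, hxA, hx1, hxp⟩ := exists_prime_order_mem hA
      have hpH : p ∣ (Fintype.card K + 1) / 4 := by
        rw [← hcard]
        exact hpd.trans (Subgroup.card_dvd_of_le hAH)
      have hpq : p ∣ Fintype.card K + 1 := hpH.trans (Nat.div_dvd_of_dvd (by omega))
      have hp2 : p ≠ 2 := by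
        rintro rfl
        omega
      have hp3 : p ≠ 3 := by
        rintro rfl
        omega
      have hp3' : 3 < p := by
        have := hp.two_le
        omega
      obtain ⟨hC, hCc⟩ := quarter_centralizer hK hm hp hp3' hpq hx1 hxp
      refine ⟨x, ?_, ?_, hC, hCc⟩
      · exact centralizer_eq_of_mem hxA (fun a ha => hHcomm a (hAH ha) x (hAH hxA)) hC
      · exact centralizer_eq_of_mem (hAH hxA) (fun a ha => hHcomm a ha x (hAH hxA)) hC
    have hHne : H ≠ ⊥ := by
      apply hHfin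
      rw [hcard]
      have : 27 ≤ Fintype.card K := by
        rw [hK]
        calc 27 = 3 ^ 3 := by norm_num
          _ ≤ 3 ^ (2 * m + 1) := Nat.pow_le_pow_right (by norm_num) (by omega)
      omega
    obtain ⟨x, -, hx, hC, hCc⟩ := key H le_rfl hHne
    refine ⟨?_, ?_, ?_, ?_⟩
    · rw [hx]
      refine ⟨⟨?_⟩⟩
      rintro ⟨g₁, h₁⟩ ⟨g₂, h₂⟩
      exact Subtype.ext (hC g₁ h₁ g₂ h₂)
    · rw [hx, hCc]
    · intro y _ hy
      have h4 : y ^ 2 ^ 2 = 1 := by
        have := pow_orderOf_eq_one y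
        rw [hy] at this
        exact this
      have h2 := sq_eq_one_of_two_pow hK y ⟨2, h4⟩
      have h3 : orderOf y ∣ 2 := by
        apply orderOf_dvd_of_pow_eq_one
        rw [pow_two, h2]
      rw [hy] at h3
      omega
    · intro A hAH hA
      obtain ⟨x', h1, h2, -, -⟩ := key A hAH hA
      rw [h1, h2]

end Cfsg.Agent.S2359
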