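import Mathlib
import Cfsg.Statements.S2366
import Cfsg.Agent.Helper8.PU3K

set_option autoImplicit false
open Cfsg

namespace Cfsg.Agent.S2366

/-- The set of element orders of PSU(3, q) for an odd prime power q = p^n: writing d = gcd(3, q + 1), a positive integer is the order of some element exactly when it divides one of q + 1, p(q + 1)/d, (q² − 1)/d, (q² − q + 1)/d. -/
theorem result {F : Type*} [Field F] [Fintype F] (p : ℕ) [Fact p.Prime] [CharP F p] (hp : p ≠ 2) (q : ℕ) (hF : Fintype.card F = q ^ 2) :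
    Set.range (orderOf : Cfsg.PSU 3 F q → ℕ) =
      {s : ℕ | s ∣ q + 1} ∪ {s : ℕ | s ∣ p * (q + 1) / Nat.gcd 3 (q + 1)} ∪
        {s : ℕ | s ∣ (q ^ 2 - 1) / Nat.gcd 3 (q + 1)} ∪ {s : ℕ | s ∣ (q ^ 2 - q + 1) / Nat.gcd 3 (q + 1)} := by

  classical
  have : Fact (Fintype.card F = q ^ 2) := ⟨hF⟩
  have hq := Cfsg.Agent.Helper8.PU3.two_le_q' (K := F) (q := q)
  have hodd : Odd q := Cfsg.Agent.Helper8.PU3.q_odd (K := F) p hp
  have hq3 : 3 ≤ q := by
    obtain ⟨w, hw⟩ := hodd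
    omega
  have hfin : Finite (Cfsg.PSU 3 F q) := inferInstance
  have key : ∀ (x₀ : Cfsg.PSU 3 F q) (m : ℕ), m ∣ orderOf x₀ → ∃ x : Cfsg.PSU 3 F q, orderOf x = m := by
    intro x₀ m h
    obtain ⟨w, hw⟩ := h
    have hpos : 0 < orderOf x₀ := orderOf_pos x₀
    have hw0 : w ≠ 0 := by
      rintro rfl
      rw [mul_zero] at hw
      omega
    have hm0 : 0 < w := Nat.pos_of_ne_zero hw0
    refine ⟨x₀ ^ w, ?_⟩
    rw [orderOf_pow_of_dvd hw0 ⟨m, by rw [hw, mul_comm]⟩, hw, Nat.mul_div_cancel _ hm0]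
  ext m
  simp only [Set.mem_range, Set.mem_union, Set.mem_ofPred_eq]
  constructor
  · rintro ⟨x, rfl⟩
    rcases Cfsg.Agent.Helper8.PU3.orderOf_dvd_cases' p hp x with h | h | h | h
    · exact Or.inl (Or.inl (Or.inl h))
    · exact Or.inl (Or.inl (Or.inr h))
    · exact Or.inl (Or.inr h)
    · exact Or.inr h
  · rintro (((h | h) | h) | h)
    · obtain ⟨x₀, hx₀⟩ := Cfsg.Agent.Helper8.PU3.exists_orderOf_one (K := F) (q := q)
      rw [← hx₀] at h
      exact key x₀ m h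
    · obtain ⟨x₀, hx₀⟩ := Cfsg.Agent.Helper8.PU3.exists_orderOf_three (K := F) (q := q) p hp
      rw [← hx₀] at h
      exact key x₀ m h
    · obtain ⟨x₀, hx₀⟩ := Cfsg.Agent.Helper8.PU3.exists_orderOf_two (K := F) (q := q) p hp
      rw [← hx₀] at h
      exact key x₀ m h
    · obtain ⟨x₀, hx₀⟩ := Cfsg.Agent.Helper8.PU3.exists_orderOf_four (K := F) (q := q) p hq3
      rw [← hx₀] at h
      exact key x₀ m h

end Cfsg.Agent.S2366
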