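import Cfsg.Statements.S2367
import Cfsg.Agent.Helper8.ListFactor

set_option autoImplicit false
open Cfsg

namespace Cfsg.Agent.S2367
open Cfsg.Agent.Helper8

theorem spor_check (L : List (ℕ × ℕ)) (N a : ℕ) (hN : N = listProd L)
    (hprime : ∀ x ∈ L, x.1.Prime) (hnodup : (L.map Prod.fst).Nodup) (h2 : (2, a) ∈ L)
    (hcheck : ∀ x ∈ L, x.2 = 3 → x.1 ≠ 2 → x.1 ^ 3 < 2 ^ a)
    (p : ℕ) (hp : p.Prime) (hodd : p ≠ 2) (h3 : N.factorization p = 3) :
    p ^ 3 < 2 ^ N.factorization 2 := by
  subst hN
  have ha : (listProd L).factorization 2 = a := factorization_listProd L hprime hnodup (2, a) h2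
  rw [ha]
  have hmem := mem_of_factorization_eq L hprime hnodup p 3 hp (by norm_num) h3
  exact hcheck (p, 3) hmem rfl hodd

theorem spor_case {G : Type*} [Group G] (hG : Cfsg.IsSporadic G)
    (p : ℕ) (hp : p.Prime) (hodd : p ≠ 2) (h3 : (Nat.card G).factorization p = 3) :
    p ^ 3 < 2 ^ (Nat.card G).factorization 2 := by
  unfold Cfsg.IsSporadic at hG
  rcases hG with h | h | h | h | h | h | h | h | h | h | h | h | h | h | h | h | h | h | h | h | h | h | h | h | h | h
  · rw [h.2] at h3 ⊢
    exact spor_check [(2,4),(3,2),(5,1),(11,1)] _ 4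
      (by decide) (by decide) (by decide) (by decide) (by decide) p hp hodd h3
  · rw [h.2] at h3 ⊢
    exact spor_check [(2,6),(3,3),(5,1),(11,1)] _ 6
      (by decide) (by decide) (by decide) (by decide) (by decide) p hp hodd h3
  · rw [h.2] at h3 ⊢
    exact spor_check [(2,7),(3,2),(5,1),(7,1),(11,1)] _ 7
      (by decide) (by decide) (by decide) (by decide) (by decide) p hp hodd h3
  · rw [h.2] at h3 ⊢
    exact spor_check [(2,7),(3,2),(5,1),(7,1),(11,1),(23,1)] _ 7
      (by decide) (by decide) (by decide) (by decide) (by decide) p hp hodd h3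
  · rw [h.2] at h3 ⊢
    exact spor_check [(2,10),(3,3),(5,1),(7,1),(11,1),(23,1)] _ 10
      (by decide) (by decide) (by decide) (by decide) (by decide) p hp hodd h3
  · rw [h.2] at h3 ⊢
    exact spor_check [(2,3),(3,1),(5,1),(7,1),(11,1),(19,1)] _ 3
      (by decide) (by decide) (by decide) (by decide) (by decide) p hp hodd h3
  · rw [h.2] at h3 ⊢
    exact spor_check [(2,7),(3,3),(5,2),(7,1)] _ 7
      (by decide) (by decide) (by decide) (by decide) (by decide) p hp hodd h3
  · rw [h.2] at h3 ⊢
    exact spor_check [(2,7),(3,5),(5,1),(17,1),(19,1)] _ 7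
      (by decide) (by decide) (by decide) (by decide) (by decide) p hp hodd h3
  · rw [h.2] at h3 ⊢
    exact spor_check [(2,21),(3,3),(5,1),(7,1),(11,3),(23,1),(29,1),(31,1),(37,1),(43,1)] _ 21
      (by decide) (by decide) (by decide) (by decide) (by decide) p hp hodd h3
  · rw [h.2] at h3 ⊢
    exact spor_check [(2,21),(3,9),(5,4),(7,2),(11,1),(13,1),(23,1)] _ 21
      (by decide) (by decide) (by decide) (by decide) (by decide) p hp hodd h3
  · rw [h.2] at h3 ⊢
    exact spor_check [(2,18),(3,6),(5,3),(7,1),(11,1),(23,1)] _ 18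
      (by decide) (by decide) (by decide) (by decide) (by decide) p hp hodd h3
  · rw [h.2] at h3 ⊢
    exact spor_check [(2,10),(3,7),(5,3),(7,1),(11,1),(23,1)] _ 10
      (by decide) (by decide) (by decide) (by decide) (by decide) p hp hodd h3
  · rw [h.2] at h3 ⊢
    exact spor_check [(2,17),(3,9),(5,2),(7,1),(11,1),(13,1)] _ 17
      (by decide) (by decide) (by decide) (by decide) (by decide) p hp hodd h3
  · rw [h.2] at h3 ⊢
    exact spor_check [(2,18),(3,13),(5,2),(7,1),(11,1),(13,1),(17,1),(23,1)] _ 18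
      (by decide) (by decide) (by decide) (by decide) (by decide) p hp hodd h3
  · rw [h.2] at h3 ⊢
    exact spor_check [(2,21),(3,16),(5,2),(7,3),(11,1),(13,1),(17,1),(23,1),(29,1)] _ 21
      (by decide) (by decide) (by decide) (by decide) (by decide) p hp hodd h3
  · rw [h.2] at h3 ⊢
    exact spor_check [(2,9),(3,2),(5,3),(7,1),(11,1)] _ 9
      (by decide) (by decide) (by decide) (by decide) (by decide) p hp hodd h3
  · rw [h.2] at h3 ⊢
    exact spor_check [(2,7),(3,6),(5,3),(7,1),(11,1)] _ 7
      (by decide) (by decide) (by decide) (by decide) (by decide) p hp hodd h3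
  · rw [h.2] at h3 ⊢
    exact spor_check [(2,10),(3,3),(5,2),(7,3),(17,1)] _ 10
      (by decide) (by decide) (by decide) (by decide) (by decide) p hp hodd h3
  · rw [h.2] at h3 ⊢
    exact spor_check [(2,14),(3,3),(5,3),(7,1),(13,1),(29,1)] _ 14
      (by decide) (by decide) (by decide) (by decide) (by decide) p hp hodd h3
  · rw [h.2] at h3 ⊢
    exact spor_check [(2,13),(3,7),(5,2),(7,1),(11,1),(13,1)] _ 13
      (by decide) (by decide) (by decide) (by decide) (by decide) p hp hodd h3
  · rw [h.2] at h3 ⊢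
    exact spor_check [(2,9),(3,4),(5,1),(7,3),(11,1),(19,1),(31,1)] _ 9
      (by decide) (by decide) (by decide) (by decide) (by decide) p hp hodd h3
  · rw [h.2] at h3 ⊢
    exact spor_check [(2,14),(3,6),(5,6),(7,1),(11,1),(19,1)] _ 14
      (by decide) (by decide) (by decide) (by decide) (by decide) p hp hodd h3
  · rw [h.2] at h3 ⊢
    exact spor_check [(2,8),(3,7),(5,6),(7,1),(11,1),(31,1),(37,1),(67,1)] _ 8
      (by decide) (by decide) (by decide) (by decide) (by decide) p hp hodd h3
  · rw [h.2] at h3 ⊢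
    exact spor_check [(2,15),(3,10),(5,3),(7,2),(13,1),(19,1),(31,1)] _ 15
      (by decide) (by decide) (by decide) (by decide) (by decide) p hp hodd h3
  · rw [h.2] at h3 ⊢
    exact spor_check [(2,41),(3,13),(5,6),(7,2),(11,1),(13,1),(17,1),(19,1),(23,1),(31,1),(47,1)] _ 41
      (by decide) (by decide) (by decide) (by decide) (by decide) p hp hodd h3
  · rw [h.2] at h3 ⊢
    exact spor_check [(2,46),(3,20),(5,9),(7,6),(11,2),(13,3),(17,1),(19,1),(23,1),(29,1),(31,1),(41,1),(47,1),(59,1),(71,1)] _ 46
      (by decide) (by decide) (by decide) (by decide) (by decide) p hp hodd h3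

open Nat in
theorem vfac (p : ℕ) [hp : Fact p.Prime] (n : ℕ) :
    padicValNat p n ! = n / p + padicValNat p (n / p)! := by
  conv_lhs => rw [← Nat.div_add_mod n p]
  rw [padicValNat_factorial_mul_add _ (Nat.mod_lt _ hp.out.pos), padicValNat_factorial_mul, add_comm]

theorem cube_lt_four_pow (p : ℕ) (hp : 5 ≤ p) : p ^ 3 < 4 ^ p := by
  induction p, hp using Nat.le_induction with
  | base => norm_num
  | succ k hk ih =>
    rw [pow_succ 4 k]
    nlinarith [sq_nonneg k, mul_pos (show 0 < k by omega) (show 0 < k by omega)]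

open Nat in
theorem alt_case (n : ℕ) (hn : 5 ≤ n) (c : ℕ) (hc : 2 * c = n !)
    (p : ℕ) (hp : p.Prime) (hodd : p ≠ 2) (h3 : c.factorization p = 3) :
    p ^ 3 < 2 ^ c.factorization 2 := by
  haveI : Fact p.Prime := ⟨hp⟩
  haveI : Fact (2 : ℕ).Prime := ⟨Nat.prime_two⟩
  have hc0 : c ≠ 0 := by
    intro h
    rw [h, mul_zero] at hc
    exact (Nat.factorial_ne_zero n) hc.symm
  have hfp : (n !).factorization p = c.factorization p := by
    rw [← hc, Nat.factorization_mul two_ne_zero hc0, Finsupp.add_apply, Nat.prime_two.factorization,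
      Finsupp.single_apply, if_neg (Ne.symm hodd), zero_add]
  have hf2 : (n !).factorization 2 = 1 + c.factorization 2 := by
    rw [← hc, Nat.factorization_mul two_ne_zero hc0, Finsupp.add_apply, Nat.prime_two.factorization,
      Finsupp.single_apply, if_pos rfl]
  rw [Nat.factorization_def _ hp, vfac] at hfp
  rw [Nat.factorization_def _ Nat.prime_two, vfac 2 n, vfac 2 (n / 2), vfac 2 (n / 2 / 2)] at hf2
  have hp3 : 3 ≤ p := by
    have := hp.two_le
    omega
  set m := n / p with hm
  have hmlt : m < p := by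
    by_contra hge
    push Not at hge
    have h1 := vfac p m
    have h2 : 1 ≤ m / p := (Nat.one_le_div_iff hp.pos).mpr hge
    omega
  have hm0 : padicValNat p m ! = 0 := by
    rw [vfac, Nat.div_eq_of_lt hmlt]
    simp
  have hm3 : m = 3 := by omega
  have hp5 : 5 ≤ p := by
    have h4 : p ≠ 4 := by
      intro h
      rw [h] at hp
      norm_num at hp
    omega
  have hn3p : 3 * p ≤ n := by
    have := Nat.div_mul_le_self n p
    rw [← hm, hm3] at this
    exact this
  have h2p : 2 * p ≤ c.factorization 2 := by omega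
  calc p ^ 3 < 4 ^ p := cube_lt_four_pow p hp5
    _ = 2 ^ (2 * p) := by rw [pow_mul]; norm_num
    _ ≤ 2 ^ c.factorization 2 := Nat.pow_le_pow_right (by norm_num) h2p

/-- Let G be an alternating group of degree at least 5 or a simple group with the order of one of the 26 sporadic groups, and let p be an odd prime such that p³ is the exact power of p dividing the order of G. Then p³ is less than the 2-part of the order of G. -/
theorem result {G : Type*} [Group G] [Finite G] (hG : Cfsg.IsAlternating G ∨ Cfsg.IsSporadic G)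
    (p : ℕ) (hp : p.Prime) (hodd : p ≠ 2) (h3 : (Nat.card G).factorization p = 3) :
    p ^ 3 < 2 ^ (Nat.card G).factorization 2 := by
  rcases hG with hA | hS
  · obtain ⟨n, hn, ⟨e⟩⟩ := hA
    have hcard : Nat.card G = Nat.card (alternatingGroup (Fin n)) := Nat.card_congr e.toEquiv
    haveI : Nontrivial (Fin n) := Fin.nontrivial_iff_two_le.mpr (by omega)
    have h2c : 2 * Nat.card G = n.factorial := by
      rw [hcard, two_mul_nat_card_alternatingGroup, Nat.card_perm, Nat.card_eq_fintype_card, Fintype.card_fin]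
    exact alt_case n hn _ h2c p hp hodd h3
  · exact spor_case hS p hp hodd h3

end Cfsg.Agent.S2367
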