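import Cfsg.Statements.S2368
import Cfsg.Agent.S2260
import Mathlib

set_option autoImplicit false
open Cfsg

namespace Cfsg.Agent.S2368

/-- The nilpotent Jordan block (ones on the superdiagonal). -/
def jordanN (F : Type*) [Field F] (m : ℕ) : Matrix (Fin m) (Fin m) F :=
  Matrix.of fun i j => if (j : ℕ) = (i : ℕ) + 1 then 1 else 0

theorem jordanN_pow (F : Type*) [Field F] (m : ℕ) (k : ℕ) (i j : Fin m) :
    (jordanN F m ^ k) i j = if (j : ℕ) = (i : ℕ) + k then 1 else 0 := by
  induction k generalizing i j with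
  | zero =>
    simp only [pow_zero, Nat.add_zero, Matrix.one_apply]
    by_cases h : i = j
    · subst h; simp
    · have : ¬ ((j : ℕ) = (i : ℕ)) := fun h' => h (Fin.ext h'.symm)
      simp [h, this]
  | succ k ih =>
    rw [pow_succ, Matrix.mul_apply]
    simp only [ih]
    by_cases h : (j : ℕ) = (i : ℕ) + (k + 1)
    · rw [if_pos h]
      have hl : (i : ℕ) + k < m := by have := j.2; omega
      rw [Finset.sum_eq_single (⟨(i : ℕ) + k, hl⟩ : Fin m)]
      · simp [jordanN, h]; omega
      · intro l _ hne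
        by_cases h1 : (l : ℕ) = (i : ℕ) + k
        · exact absurd (Fin.ext h1) hne
        · simp [h1]
      · intro hh; exact absurd (Finset.mem_univ _) hh
    · rw [if_neg h]
      apply Finset.sum_eq_zero
      intro l _
      by_cases h1 : (l : ℕ) = (i : ℕ) + k
      · have : ¬ ((j : ℕ) = (l : ℕ) + 1) := by omega
        simp [jordanN, this]
      · simp [h1]

theorem jordanN_pow_card (F : Type*) [Field F] (m : ℕ) : jordanN F m ^ m = 0 := by
  ext i j
  rw [jordanN_pow]
  have := j.2
  have : ¬ ((j : ℕ) = (i : ℕ) + m) := by omega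
  simp [this]

theorem jordanN_pow_pred_ne (F : Type*) [Field F] (m : ℕ) (hm : 1 ≤ m) : jordanN F m ^ (m - 1) ≠ 0 := by
  intro h
  have h1 := congrFun (congrFun h ⟨0, by omega⟩) ⟨m - 1, by omega⟩
  rw [jordanN_pow] at h1
  simp at h1

theorem result {F : Type*} [Field F] [Fintype F] (p : ℕ) [Fact p.Prime] [CharP F p] (m : ℕ) (hm : 1 ≤ m) :
    (∀ g : Matrix.GeneralLinearGroup (Fin m) F, (∃ j : ℕ, orderOf g = p ^ j) → orderOf g < p * m) ∧
      ∃ g : Matrix.GeneralLinearGroup (Fin m) F, (∃ j : ℕ, orderOf g = p ^ j) ∧ m ≤ orderOf g := by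
  have hp : p.Prime := Fact.out
  have hp1 : 1 < p := hp.one_lt
  have hbound : p ^ Nat.clog p m < p * m := by
    rcases Nat.lt_or_ge 1 m with h | h
    · have h2 := Nat.pow_pred_clog_lt_self hp1 h
      have hpos : 0 < Nat.clog p m := Nat.clog_pos hp1 h
      have : p ^ Nat.clog p m = p * p ^ (Nat.clog p m).pred := by
        rw [← pow_succ']; congr 1; exact (Nat.succ_pred_eq_of_pos hpos).symm
      rw [this]
      exact Nat.mul_lt_mul_of_pos_left h2 hp.pos
    · have hm1 : m = 1 := le_antisymm h hm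
      subst hm1
      simp [Nat.clog_one_right, hp1]
  constructor
  · rintro g ⟨j, hj⟩
    have h1 : g ^ (p ^ j) = 1 := by rw [← hj]; exact pow_orderOf_eq_one g
    rw [Cfsg.Agent.S2260.pow_eq_one_iff p g] at h1
    have hnil : IsNilpotent ((g : Matrix (Fin m) (Fin m) F) - 1) := ⟨p ^ j, h1⟩
    exact lt_of_le_of_lt (Cfsg.Agent.S2260.result p m g hnil).1 hbound
  · have hnil : IsNilpotent (jordanN F m) := ⟨m, jordanN_pow_card F m⟩
    have hunit : IsUnit (1 + jordanN F m) := hnil.isUnit_one_add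
    set g : GL (Fin m) F := hunit.unit with hg
    have hgval : (g : Matrix (Fin m) (Fin m) F) = 1 + jordanN F m := IsUnit.unit_spec hunit
    have hsub : (g : Matrix (Fin m) (Fin m) F) - 1 = jordanN F m := by rw [hgval]; abel
    have hnil' : IsNilpotent ((g : Matrix (Fin m) (Fin m) F) - 1) := by rw [hsub]; exact hnil
    have hne : ((g : Matrix (Fin m) (Fin m) F) - 1) ^ (m - 1) ≠ 0 := by
      rw [hsub]; exact jordanN_pow_pred_ne F m hm
    have hord := (Cfsg.Agent.S2260.result p m g hnil').2 hne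
    refine ⟨g, ⟨Nat.clog p m, hord⟩, ?_⟩
    rw [hord]
    exact Nat.le_pow_clog hp1 m

end Cfsg.Agent.S2368
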