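import Mathlib
import Cfsg.Statements.S2390
import Cfsg.Agent.Helper8.SUSemiE

set_option autoImplicit false
open Cfsg

namespace Cfsg.Agent.S2390

open Cfsg.Agent.Helper8.GUOrder Cfsg.Agent.Helper8.SUCenter Cfsg.Agent.Helper8.PSUSing Cfsg.Agent.Helper8.Wall Cfsg.Agent.Helper8.SemiS Cfsg.Agent.Helper8.SUSemi

/-- In the special unitary group `SU_n(q)` (inside `SL_n` over the field with `q²` elements), `q` a power of the prime `p`, two elements of order prime to `p` with the same characteristic polynomial are conjugate in `SU_n(q)`. -/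
theorem result {F : Type*} [Field F] [Fintype F] {q : ℕ} (hF : Fintype.card F = q ^ 2) (p : ℕ) [Fact p.Prime] [CharP F p] (n : ℕ)
    (g h : ↥(Cfsg.SU n F q)) (hg : (orderOf g).Coprime p) (hh : (orderOf h).Coprime p)
    (hc : ((g : Matrix.SpecialLinearGroup (Fin n) F) : Matrix (Fin n) (Fin n) F).charpoly =
      ((h : Matrix.SpecialLinearGroup (Fin n) F) : Matrix (Fin n) (Fin n) F).charpoly) : IsConj g h := by

  have hFact : Fact (Fintype.card F = q ^ 2) := ⟨hF⟩
  rcases Nat.eq_zero_or_pos n with rfl | hn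
  · have : g = h := by
      apply Subtype.ext
      apply Matrix.SpecialLinearGroup.ext
      intro i
      exact i.elim0
    rw [this]
  set Gm : Matrix (Fin n) (Fin n) F := ((g : Matrix.SpecialLinearGroup (Fin n) F) :
    Matrix (Fin n) (Fin n) F) with hGm
  set Hm : Matrix (Fin n) (Fin n) F := ((h : Matrix.SpecialLinearGroup (Fin n) F) :
    Matrix (Fin n) (Fin n) F) with hHm
  have hGu : st (q := q) Gm * Gm = 1 := (unitary_iff_st _).mp ((mem_SU_iff hF g.1).mp g.2)
  have hHu : st (q := q) Hm * Hm = 1 := (unitary_iff_st _).mp ((mem_SU_iff hF h.1).mp h.2)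
  have hg' : (orderOf (g : Matrix.SpecialLinearGroup (Fin n) F)).Coprime p := by
    rw [Subgroup.orderOf_coe]; exact hg
  have hh' : (orderOf (h : Matrix.SpecialLinearGroup (Fin n) F)).Coprime p := by
    rw [Subgroup.orderOf_coe]; exact hh
  obtain ⟨k, hk1, hk2⟩ := semisimple_of_coprime_SL p (g : Matrix.SpecialLinearGroup (Fin n) F) hg'
  obtain ⟨k', hk1', hk2'⟩ :=
    semisimple_of_coprime_SL p (h : Matrix.SpecialLinearGroup (Fin n) F) hh'
  obtain ⟨x, hx⟩ := exists_conj_of_charpoly_eq Gm Hm k k' hk1 hk1' hk2 hk2' hc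
  have hx1 : (x : Matrix (Fin n) (Fin n) F) * ((x⁻¹ : GL (Fin n) F) : Matrix (Fin n) (Fin n) F)
      = 1 := by
    rw [← Units.val_mul, mul_inv_cancel, Units.val_one]
  have hx2 : ((x⁻¹ : GL (Fin n) F) : Matrix (Fin n) (Fin n) F) * (x : Matrix (Fin n) (Fin n) F)
      = 1 := mul_eq_one_comm.mp hx1
  have hxG : (x : Matrix (Fin n) (Fin n) F) * Gm = Hm * (x : Matrix (Fin n) (Fin n) F) := by
    rw [← hx, Matrix.mul_assoc, hx2, Matrix.mul_one]
  obtain ⟨Y, hY, hYc⟩ := exists_unitary_conj_of_conj (q := q) Gm Hm _ _ hGu hHu hx1 hxG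
  have hdY : Y.det ^ q * Y.det = 1 := by
    have := congrArg Matrix.det hY
    rw [Matrix.det_mul, det_st, Matrix.det_one] at this
    exact this
  have hdY0 : Y.det ≠ 0 := by
    intro h0
    rw [h0, mul_zero] at hdY
    exact zero_ne_one hdY
  -- the element of the centraliser
  let G : GL (Fin n) F := Matrix.SpecialLinearGroup.toGL (g : Matrix.SpecialLinearGroup (Fin n) F)
  have hGcoe : (G : Matrix (Fin n) (Fin n) F) = Gm := rfl
  have hordG : (orderOf G).Coprime p := by
    have hinj : Function.Injective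
        (Matrix.SpecialLinearGroup.toGL : Matrix.SpecialLinearGroup (Fin n) F →* GL (Fin n) F) := by
      intro a b hab
      apply Matrix.SpecialLinearGroup.ext
      intro i j
      have := congrArg (fun u : GL (Fin n) F => (u : Matrix (Fin n) (Fin n) F) i j) hab
      exact this
    have : orderOf G = orderOf (g : Matrix.SpecialLinearGroup (Fin n) F) :=
      orderOf_injective _ hinj _
    rw [this]
    exact hg'
  have hz : (Y.det)⁻¹ * ((Y.det)⁻¹) ^ q = 1 := by
    rw [inv_pow, ← _root_.mul_inv, mul_comm, hdY, inv_one]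
  obtain ⟨y, hyu, hyc, hyd⟩ := exists_unitary_centralizer_det (q := q) p hn G
    (by rw [hGcoe]; exact hGu) hordG (Y.det)⁻¹ hz
  rw [hGcoe] at hyc
  have hZu : st (q := q) (Y * y) * (Y * y) = 1 := by
    rw [st_mul]
    calc st (q := q) y * st (q := q) Y * (Y * y) = st (q := q) y * (st (q := q) Y * Y) * y := by
          simp only [Matrix.mul_assoc]
      _ = 1 := by rw [hY, Matrix.mul_one, hyu]
  have hZd : (Y * y).det = 1 := by
    rw [Matrix.det_mul, hyd, mul_inv_cancel₀ hdY0]
  have hZc : Y * y * Gm = Hm * (Y * y) := by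
    rw [Matrix.mul_assoc, hyc, ← Matrix.mul_assoc, hYc, Matrix.mul_assoc]
  rw [isConj_iff]
  refine ⟨mkSU hF (Y * y) ((unitary_iff_st _).mpr hZu) hZd, ?_⟩
  rw [mul_inv_eq_iff_eq_mul]
  apply Subtype.ext
  apply Subtype.ext
  exact hZc

end Cfsg.Agent.S2390
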