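import Mathlib
import Cfsg.Statements.S2386
import Cfsg.Agent.Helper8.SUSemiH
import Cfsg.Agent.S2390

set_option autoImplicit false
open Cfsg

namespace Cfsg.Agent.S2386

open Cfsg.Agent.Helper8.GUOrder Cfsg.Agent.Helper8.SUCenter Cfsg.Agent.Helper8.PSUSing Cfsg.Agent.Helper8.SemiS Cfsg.Agent.Helper8.SUSemi

/-- In the special unitary group `SU_n(q)` (matrices of determinant one over the field with `q²` elements preserving the standard Hermitian form), `q` a power of the prime `p`, the number of conjugacy classes of elements of order prime to `p` is `q^(n-1)`. -/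
theorem result {F : Type*} [Field F] [Fintype F] {q : ℕ} (hF : Fintype.card F = q ^ 2) (p : ℕ) [Fact p.Prime] [CharP F p] (n : ℕ) (hn : 1 ≤ n) :
    Nat.card {c : ConjClasses ↥(Cfsg.SU n F q) // ∃ g : ↥(Cfsg.SU n F q), ConjClasses.mk g = c ∧ (orderOf g).Coprime p} = q ^ (n - 1) := by

  classical
  have hFact : Fact (Fintype.card F = q ^ 2) := ⟨hF⟩
  rw [← card_hpal (K := F) (q := q) n hn]
  apply Nat.card_congr
  let rep : {c : ConjClasses ↥(Cfsg.SU n F q) //
      ∃ g : ↥(Cfsg.SU n F q), ConjClasses.mk g = c ∧ (orderOf g).Coprime p} → ↥(Cfsg.SU n F q) :=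
    fun c => Classical.choose c.2
  have hrep1 : ∀ c, ConjClasses.mk (rep c) = c.1 := fun c => (Classical.choose_spec c.2).1
  have hrep2 : ∀ c, (orderOf (rep c)).Coprime p := fun c => (Classical.choose_spec c.2).2
  refine Equiv.ofBijective
    (fun c => (⟨(((rep c : ↥(Cfsg.SU n F q)) : Matrix.SpecialLinearGroup (Fin n) F) :
      Matrix (Fin n) (Fin n) F).charpoly, su_charpoly_mem n _⟩ : HPal F q n)) ⟨?_, ?_⟩
  · intro c c' h
    have h1 : (((rep c : ↥(Cfsg.SU n F q)) : Matrix.SpecialLinearGroup (Fin n) F) :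
        Matrix (Fin n) (Fin n) F).charpoly =
        (((rep c' : ↥(Cfsg.SU n F q)) : Matrix.SpecialLinearGroup (Fin n) F) :
        Matrix (Fin n) (Fin n) F).charpoly := congrArg Subtype.val h
    apply Subtype.ext
    rw [← hrep1 c, ← hrep1 c', ConjClasses.mk_eq_mk_iff_isConj]
    exact Cfsg.Agent.S2390.result hF p n _ _ (hrep2 c) (hrep2 c') h1
  · rintro ⟨f, hf1, hf2, hf3⟩
    obtain ⟨hf0, hfs⟩ := ustar_of_hpal (q := q) hf1 hf2 hf3
    have hf0' : f.coeff 0 ≠ 0 := by
      rw [hf0]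
      exact pow_ne_zero _ (neg_ne_zero.mpr one_ne_zero)
    obtain ⟨U, hU, hUc, hUo⟩ := exists_unitary_realization (q := q) p n f hf1 hf2 hf0' hfs
    have hdet : (U : Matrix (Fin n) (Fin n) F).det = 1 := by
      rw [Matrix.det_eq_sign_charpoly_coeff, hUc, hf0, Fintype.card_fin, ← mul_pow]
      simp
    let g₁ : ↥(Cfsg.SU n F q) := mkSU hF (U : Matrix (Fin n) (Fin n) F)
      ((unitary_iff_st _).mpr hU) hdet
    have hg₁ : Matrix.SpecialLinearGroup.toGL (g₁ : Matrix.SpecialLinearGroup (Fin n) F) = U := by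
      apply Units.ext
      rfl
    have hord : orderOf g₁ = orderOf U := by
      rw [← hg₁, ← Subgroup.orderOf_coe]
      exact (orderOf_injective (Matrix.SpecialLinearGroup.toGL)
        Matrix.SpecialLinearGroup.toGL_injective _).symm
    let c : {c : ConjClasses ↥(Cfsg.SU n F q) //
      ∃ g : ↥(Cfsg.SU n F q), ConjClasses.mk g = c ∧ (orderOf g).Coprime p} :=
      ⟨ConjClasses.mk g₁, g₁, rfl, by rw [hord]; exact hUo⟩
    refine ⟨c, ?_⟩
    apply Subtype.ext
    change (((rep c : ↥(Cfsg.SU n F q)) : Matrix.SpecialLinearGroup (Fin n) F) :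
      Matrix (Fin n) (Fin n) F).charpoly = f
    have h3 : IsConj g₁ (rep c) := ConjClasses.mk_eq_mk_iff_isConj.mp (hrep1 c).symm
    rw [← su_charpoly_eq_of_isConj g₁ (rep c) h3, ← hUc]
    rfl

end Cfsg.Agent.S2386
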