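import Mathlib
import Cfsg.Statements.S2391
import Cfsg.Agent.Helper8.BorelTitsFlag

set_option autoImplicit false
open Cfsg

namespace Cfsg.Agent.S2391

open Matrix Cfsg.Agent.Helper8.BTFlag

/-- The Borel–Tits property of `SL_n(q)` in flag form: for a field `F` of characteristic `p` with finitely many elements and a non-trivial `p`-subgroup `U` of `SL_n(F)`, there is a flag `0 = V₀ < V₁ < ⋯ < V_{k+1} = F^n` with at least one proper non-zero member such that every element of the normaliser of `U` maps each `V_i` onto itself and every element of `U` acts trivially on each quotient `V_{i+1}/V_i` (so the normaliser lies in the parabolic subgroup of the flag and `U` in its unipotent radical). -/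
theorem result {F : Type*} [Field F] [Fintype F] (p : ℕ) [Fact p.Prime] [CharP F p] (n : ℕ)
    (U : Subgroup (Matrix.SpecialLinearGroup (Fin n) F)) (hU : IsPGroup p ↥U) (hne : U ≠ ⊥) :
    ∃ (k : ℕ) (V : Fin (k + 2) → Submodule F (Fin n → F)), 1 ≤ k ∧ StrictMono V ∧ V 0 = ⊥ ∧ V (Fin.last (k + 1)) = ⊤ ∧
      (∀ g ∈ Subgroup.normalizer (U : Set (Matrix.SpecialLinearGroup (Fin n) F)), ∀ i, (V i).map (Matrix.mulVecLin (g : Matrix (Fin n) (Fin n) F)) = V i) ∧
      (∀ u ∈ U, ∀ i : Fin (k + 1), ∀ v ∈ V i.succ, (u : Matrix (Fin n) (Fin n) F).mulVec v - v ∈ V (Fin.castSucc i)) := by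
  classical
  have hex := exists_chain_eq_top p U hU
  -- `n` is positive
  have hn : 0 < n := by
    rcases Nat.eq_zero_or_pos n with h | h
    · exfalso
      subst h
      apply hne
      rw [eq_bot_iff]
      intro g _
      rw [Subgroup.mem_bot]
      apply Subtype.ext
      ext i
      exact Fin.elim0 i
    · exact h
  haveI : Nonempty (Fin n) := ⟨⟨0, hn⟩⟩
  have h0 : chain U 0 ≠ ⊤ := by
    rw [chain_zero]
    exact bot_ne_top
  have h1 : chain U 1 ≠ ⊤ := by
    intro h
    apply hne
    rw [eq_bot_iff]
    intro u hu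
    rw [Subgroup.mem_bot]
    apply Subtype.ext
    apply Matrix.toLin'.injective
    apply LinearMap.ext
    intro v
    have hv : v ∈ chain U 1 := by rw [h]; trivial
    have := hv u hu
    rw [chain_zero, Submodule.mem_bot, sub_eq_zero] at this
    rw [Matrix.toLin'_apply, this]
    simp
  obtain ⟨k, hk⟩ : ∃ k, Nat.find hex = k + 2 := by
    have hm := Nat.find_spec hex
    rcases hfe : Nat.find hex with _ | _ | k
    · rw [hfe] at hm
      exact absurd hm h0
    · rw [hfe] at hm
      exact absurd hm h1
    · exact ⟨k, rfl⟩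
  have hmin : ∀ i, i < k + 2 → chain U i ≠ ⊤ := by
    intro i hi
    exact Nat.find_min hex (by omega)
  have htop : chain U (k + 2) = ⊤ := by
    rw [← hk]
    exact Nat.find_spec hex
  refine ⟨k + 1, fun i => chain U i.val, by omega, ?_, rfl, ?_, ?_, ?_⟩
  · rw [Fin.strictMono_iff_lt_succ]
    intro i
    change chain U i.castSucc.val < chain U i.succ.val
    rw [Fin.val_succ, Fin.val_castSucc]
    exact chain_lt_succ p U hU i.val (hmin _ (by omega))
  · show chain U (Fin.last (k + 1 + 1)).val = ⊤
    rw [Fin.val_last]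
    exact htop
  · intro g hg i
    exact map_chain U i.val g hg
  · intro u hu i v hv
    change v ∈ chain U i.succ.val at hv
    change _ ∈ chain U i.castSucc.val
    rw [Fin.val_succ, chain_succ] at hv
    rw [Fin.val_castSucc]
    exact hv u hu

end Cfsg.Agent.S2391
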