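import Cfsg.Statements.S2399
import Cfsg.Agent.Helper7.ScP4
import Cfsg.Agent.Helper7.ScP5
import Cfsg.Agent.Helper7.ScX

set_option autoImplicit false
open scoped MatrixGroups
open Cfsg

namespace Cfsg.Agent.S2399

/-- Projective representations in the natural characteristic lift: for each of the types G₂, B₂, D₄, F₄, E₆, E₇, E₈ over any field `K` (for types B₂ and G₂ the field must have more than two elements — the cases where the Chevalley group is not simple are set aside), every homomorphism from the Chevalley group to `PGL_n(L) = GL_n(L)/Z`, `L` a field of the same characteristic as `K`, lifts uniquely to a homomorphism from the group Δ presented by (R1), (R2) to `GL_n(L)`, compatibly with the projection Δ → Chevalley group sending x̄_r(t) to x_r(t). -/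
theorem result {K : Type*} [Field K] (D : Cfsg.Lie.ChevalleyDatum) (hD : D ∈ [Cfsg.Lie.chevG2, Cfsg.Lie.chevB2, Cfsg.Lie.chevD4, Cfsg.Lie.chevF4, Cfsg.Lie.chevE6, Cfsg.Lie.chevE7, Cfsg.Lie.chevE8]) (hK : D ∈ [Cfsg.Lie.chevB2, Cfsg.Lie.chevG2] → ∃ x : K, x ≠ 0 ∧ x ≠ 1)
    (θ : D.SteinbergCover K →* ↥(D.group K))
    (hθ : ∀ (r : ℕ) (t : K), r < D.nroots → ((θ (D.scGen K r t) : GL D.Idx K) : Matrix D.Idx D.Idx K) = D.x K r t)
    {L : Type*} [Field L] (hL : ringChar L = ringChar K) {n : ℕ}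
    (φ : ↥(D.group K) →* GL (Fin n) L ⧸ Subgroup.center (GL (Fin n) L)) :
    ∃! ψ : D.SteinbergCover K →* GL (Fin n) L, (QuotientGroup.mk' (Subgroup.center (GL (Fin n) L))).comp ψ = φ.comp θ := by
  have hc : (QuotientGroup.mk' (Subgroup.center (GL (Fin n) L))).ker ≤
      Subgroup.center (GL (Fin n) L) := by rw [QuotientGroup.ker_mk']
  have hπ : Function.Surjective (QuotientGroup.mk' (Subgroup.center (GL (Fin n) L))) :=
    QuotientGroup.mk'_surjective _
  by_cases hE : D ∈ [Cfsg.Lie.chevE6, Cfsg.Lie.chevE7, Cfsg.Lie.chevE8]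
  · exact Cfsg.Agent.Helper7.Sc.lift_unique0 hE _ hπ hc (φ.comp θ)
  have hD4 : D ∈ [Cfsg.Lie.chevG2, Cfsg.Lie.chevB2, Cfsg.Lie.chevD4, Cfsg.Lie.chevF4] := by
    simp only [List.mem_cons, List.not_mem_nil, or_false] at hD hE ⊢
    tauto
  have hperf : commutator (D.SteinbergCover K) = ⊤ := Cfsg.Agent.S2395.result D hD hK
  by_cases hbig : ∃ s : Finset K, 4 < s.card
  · exact Cfsg.Agent.Helper7.Sc.exists_unique_lift hperf _ hπ hc (φ.comp θ)
      (fun _ ψ h1 h2 => Cfsg.Agent.Helper7.Sc.cover_splits hD hbig ψ h1 h2)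
  have hfin : Finite K := by
    by_contra hinf
    rw [not_finite_iff_infinite] at hinf
    obtain ⟨s, hs⟩ := Infinite.exists_subset_card_eq K 5
    exact hbig ⟨s, by omega⟩
  obtain ⟨p, hpc⟩ := CharP.exists K
  have hpp : p.Prime := CharP.char_is_prime K p
  haveI : Fact p.Prime := ⟨hpp⟩
  haveI hLp : CharP L p := by
    have h1 : ringChar K = p := ringChar.eq K p
    rw [h1] at hL
    rw [← hL]
    exact ringChar.charP L
  apply Cfsg.Agent.Helper7.Sc.exists_unique_lift_pb _ _ hperf hc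
  apply Cfsg.Agent.Helper7.Sc.cover_splits_fin hD4 p hK _ (Cfsg.Agent.Helper7.Sc.pbSnd_surjective _ _ hπ) (Cfsg.Agent.Helper7.Sc.pbSnd_ker_le_center _ _ hc)
  intro z hz hzp
  have h1 : z.1.1 ∈ Subgroup.center (GL (Fin n) L) := hc (Cfsg.Agent.Helper7.Sc.pbSnd_ker_fst _ _ hz)
  have h2 : z.1.1 ^ p = 1 := by
    have := congrArg (fun x : ↥(Cfsg.Agent.Helper7.Sc.pbSub _ _) => x.1.1) hzp
    exact this
  have h3 := Cfsg.Agent.Helper7.Sc.gl_center_pow_char p h1 h2
  apply Subtype.ext
  apply Prod.ext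
  · exact h3
  · exact hz

end Cfsg.Agent.S2399
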