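import Cfsg.Statements.S2400
import Cfsg.Agent.Helper7.SqO

set_option autoImplicit false
open Cfsg

namespace Cfsg.Agent.S2400

/-- Over a finite field `K`, the group presented by Steinberg's relators (R1)–(R3) (the universal Chevalley group) of type E₆ or E₇, or of type B₂ or D₄ with `K` of more than two elements, has trivial Schur multiplier: every finite stem extension of it is an isomorphism (Schur multiplier described through stem extensions as in the definitions). Types G₂, F₄ and E₈ are not covered here. -/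
theorem result {K : Type*} [Field K] [Fintype K] (e : Cfsg.Lie.ChevalleyDatum × ℕ)
    (he : e ∈ [(Cfsg.Lie.chevE6, 0), (Cfsg.Lie.chevE7, 0), (Cfsg.Lie.chevB2, 2), (Cfsg.Lie.chevD4, 2)]) (hK : Fintype.card K ≠ e.2) :
    Cfsg.HasCyclicSchurMultiplier (e.1.SteinbergGroup K) 1 := by
  have h2 : 2 ≤ Fintype.card K := Fintype.one_lt_card
  simp only [List.mem_cons, List.not_mem_nil, or_false] at he
  rcases he with rfl | rfl | rfl | rfl
  · have hD : Cfsg.Lie.chevE6 ∈ [Cfsg.Lie.chevE6, Cfsg.Lie.chevE7, Cfsg.Lie.chevE8] := by simp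
    exact Cfsg.Agent.Helper7.Sq.schur_steinberg (Cfsg.Agent.Helper7.Sc.mem7_of_memE hD)
      (Cfsg.Agent.Helper7.Sc.cover_perfect hD)
      (fun E _ ψ h1 h2 => Cfsg.Agent.Helper7.Sc.cover_splits0 hD ψ h1 h2)
  · have hD : Cfsg.Lie.chevE7 ∈ [Cfsg.Lie.chevE6, Cfsg.Lie.chevE7, Cfsg.Lie.chevE8] := by simp
    exact Cfsg.Agent.Helper7.Sq.schur_steinberg (Cfsg.Agent.Helper7.Sc.mem7_of_memE hD)
      (Cfsg.Agent.Helper7.Sc.cover_perfect hD)
      (fun E _ ψ h1 h2 => Cfsg.Agent.Helper7.Sc.cover_splits0 hD ψ h1 h2)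
  · have hK3 : 3 ≤ Fintype.card K := by
      have : Fintype.card K ≠ 2 := hK
      omega
    have hD7 : Cfsg.Lie.chevB2 ∈ [Cfsg.Lie.chevG2, Cfsg.Lie.chevB2, Cfsg.Lie.chevD4, Cfsg.Lie.chevF4,
        Cfsg.Lie.chevE6, Cfsg.Lie.chevE7, Cfsg.Lie.chevE8] := by simp
    have hx : ∃ x : K, x ≠ 0 ∧ x ≠ 1 := by
      classical
      by_contra hcon
      push_neg at hcon
      have hsub : (Finset.univ : Finset K) ⊆ {0, 1} := by
        intro x _
        simp only [Finset.mem_insert, Finset.mem_singleton]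
        by_cases hx : x = 0
        · left; exact hx
        · right; exact hcon x hx
      have := Finset.card_le_card hsub
      have h2' : ({0, 1} : Finset K).card ≤ 2 := Finset.card_le_two
      rw [Finset.card_univ] at this
      omega
    exact Cfsg.Agent.Helper7.Sq.schur_steinberg hD7
      (Cfsg.Agent.S2395.result Cfsg.Lie.chevB2 hD7 (fun _ => hx))
      (fun E _ ψ h1 h2 => Cfsg.Agent.Helper7.Sq.cover_splits_B2 hK3 ψ h1 h2)
  · have hK3 : 3 ≤ Fintype.card K := by
      have : Fintype.card K ≠ 2 := hK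
      omega
    have hD : Cfsg.Lie.chevD4 ∈ [Cfsg.Lie.chevD4, Cfsg.Lie.chevF4] := by simp
    exact Cfsg.Agent.Helper7.Sq.schur_steinberg (Cfsg.Agent.Helper7.Sq.mem7_of_memDF hD)
      (Cfsg.Agent.Helper7.Sq.cover_perfect_DF hD)
      (fun E _ ψ h1 h2 => Cfsg.Agent.Helper7.Sq.cover_splits_DF hD hK3 ψ h1 h2)

end Cfsg.Agent.S2400
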