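import Mathlib
import Cfsg.Statements.S2413
import Cfsg.Agent.Helper8.OGenI
import Cfsg.Agent.Helper8.StdForms
import Cfsg.Agent.Helper8.OmegaStd2
import Cfsg.Agent.S0301
import Cfsg.Agent.S2411

set_option autoImplicit false
open Cfsg

namespace Cfsg.Agent.S2413

open Module Cfsg.Agent.Helper8.QuadForm Cfsg.Agent.Helper8.StdForms Cfsg.Agent.Helper8.OmegaStd
  Cfsg.Agent.Helper8.OmegaStd2 Cfsg.Agent.Helper8.OGenB Cfsg.Agent.Helper8.OGenI


/-- The simple orthogonal group `PΩ_{2m+1}(q)` (commutator subgroup of the orthogonal group of `x₀² + Σ x_i y_i` modulo its centre) with `m ≥ 2` and `q` odd is generated by two of its elements. -/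
theorem result {F : Type*} [Field F] [Fintype F] (hodd : Odd (Fintype.card F)) (m : ℕ) (hm : 2 ≤ m) :
    ∃ a b : Cfsg.POmega F (Cfsg.quadFormOdd m F), Subgroup.closure ({a, b} : Set (Cfsg.POmega F (Cfsg.quadFormOdd m F))) = ⊤ := by
  classical
  have h2 : (2 : F) ≠ 0 := two_ne_zero_of_odd hodd
  by_cases hm2 : m = 2
  · subst hm2
    obtain ⟨φ⟩ := Cfsg.Agent.S0301.result hodd
    have h1lt : 1 < Fintype.card F := Fintype.one_lt_card
    have hF2 : 2 < Fintype.card F := by
      rcases hodd with ⟨k, hk⟩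
      omega
    obtain ⟨a, b, hab⟩ := Cfsg.Agent.S2411.result (F := F) 2 (le_refl 2) (fun _ => hF2)
    exact ⟨φ.symm a, φ.symm b,
      closure_pair_of_surjective φ.symm.toMonoidHom φ.symm.surjective hab⟩
  have hm3 : 3 ≤ m := by omega
  have hQeq : Cfsg.quadFormOdd m F = ⇑(oddForm F m) :=
    funext (fun v => (oddForm_apply F m v).symm)
  rw [hQeq]
  have hcard : Fintype.card (Unit ⊕ (Fin m ⊕ Fin m)) = 2 * m + 1 := by
    simp only [Fintype.card_sum, Fintype.card_fin, Fintype.card_unit]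
    ring
  apply two_gen_POmega (oddForm F m) (oddForm_nondeg F m h2) (by rw [hcard]; omega)
  obtain ⟨n, rfl⟩ : ∃ n, m = n + 1 := ⟨m - 1, by omega⟩
  have hyp := odd_isHyp F (n + 1)
  set z : Unit ⊕ (Fin (n + 1) ⊕ Fin (n + 1)) → F := Pi.single (Sum.inl ()) 1 with hz
  have hperp : ∀ i : Fin (n + 1), i.val ≤ 2 →
      QuadraticMap.polar (oddForm F (n + 1)) (Pi.single (Sum.inr (Sum.inl i)) 1) z = 0 ∧
      QuadraticMap.polar (oddForm F (n + 1)) (Pi.single (Sum.inr (Sum.inr i)) 1) z = 0 := by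
    intro i _
    constructor
    · rw [odd_polar_e, hz, Pi.single_apply, if_neg (by simp)]
    · rw [odd_polar_f, hz, Pi.single_apply, if_neg (by simp)]
  have hQ0 : oddForm F (n + 1) z = 1 := by
    rw [oddForm_apply]
    unfold quadFormOdd
    simp [hz]
  have hb : QuadraticMap.polar (oddForm F (n + 1)) z z ≠ 0 := by
    rw [polar_self', hQ0, mul_one]
    exact h2
  refine two_gen_all ((nondeg_iff _).mp (oddForm_nondeg F (n + 1) h2)) (by omega) hyp
    z z hperp hperp hQ0 (by rw [hQ0]; exact one_ne_zero) (fun _ => hb) ?_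
    (fun _ => Or.inl rfl)
  right
  refine ⟨hb, ?_⟩
  intro w hw1 hw2
  refine ⟨w (Sum.inl ()), 0, ?_⟩
  funext x
  rcases x with u | i | i
  · simp [hz]
  · have := congrFun hw2 i
    rw [co_apply, odd_polar_f] at this
    simp [hz, this]
  · have := congrFun hw1 i
    rw [co_apply, odd_polar_e] at this
    simp [hz, this]

end Cfsg.Agent.S2413
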