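import Mathlib
import Cfsg.Statements.S2414
import Cfsg.Agent.Helper8.OGenI
import Cfsg.Agent.Helper8.StdForms
import Cfsg.Agent.Helper8.OmegaStd

set_option autoImplicit false
open Cfsg

namespace Cfsg.Agent.S2414

open Module Cfsg.Agent.Helper8.QuadForm Cfsg.Agent.Helper8.StdForms Cfsg.Agent.Helper8.OmegaStd
  Cfsg.Agent.Helper8.OGenB Cfsg.Agent.Helper8.OGenI


/-- The simple orthogonal group `PΩ⁺_{2m}(q)` (commutator subgroup of the orthogonal group of `Σ x_i y_i` modulo its centre) with `m ≥ 4` is generated by two of its elements. -/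
theorem result {F : Type*} [Field F] [Fintype F] (m : ℕ) (hm : 4 ≤ m) :
    ∃ a b : Cfsg.POmega F (Cfsg.quadFormPlus m F), Subgroup.closure ({a, b} : Set (Cfsg.POmega F (Cfsg.quadFormPlus m F))) = ⊤ := by
  classical
  have hQeq : Cfsg.quadFormPlus m F = ⇑(plusForm F m) :=
    funext (fun v => (plusForm_apply F m v).symm)
  rw [hQeq]
  have hcard : Fintype.card (Fin m ⊕ Fin m) = 2 * m := by
    simp only [Fintype.card_sum, Fintype.card_fin]
    ring
  apply two_gen_POmega (plusForm F m) (plusForm_nondeg F m) (by rw [hcard]; omega)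
  obtain ⟨n, rfl⟩ : ∃ n, m = n + 1 := ⟨m - 1, by omega⟩
  have hyp := plus_isHyp F (n + 1)
  set e : Fin (n + 1) → (Fin (n + 1) ⊕ Fin (n + 1) → F) :=
    fun j => Pi.single (Sum.inl j) 1 with he
  set f : Fin (n + 1) → (Fin (n + 1) ⊕ Fin (n + 1) → F) :=
    fun j => Pi.single (Sum.inr j) 1 with hf
  obtain ⟨i3, hi3⟩ : ∃ i3 : Fin (n + 1), i3.val = 3 := ⟨⟨3, by omega⟩, rfl⟩
  have hperp : ∀ i : Fin (n + 1), i.val ≤ 2 →
      QuadraticMap.polar (plusForm F (n + 1)) (e i) (e i3 + f i3) = 0 ∧
      QuadraticMap.polar (plusForm F (n + 1)) (f i) (e i3 + f i3) = 0 := by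
    intro i hi
    have hne : i ≠ i3 := by
      intro h
      rw [h, hi3] at hi
      omega
    constructor
    · rw [QuadraticMap.polar_add_right, (hyp.2.2 i i3).1, hyp.2.1 i i3, if_neg hne, add_zero]
    · rw [QuadraticMap.polar_add_right, (hyp.2.2 i i3).2, polar_fe hyp, if_neg hne, add_zero]
  have hQ0 : plusForm F (n + 1) (e i3 + f i3) = 1 := by
    rw [QuadraticMap.map_add (plusForm F (n + 1)), (hyp.1 i3).1, (hyp.1 i3).2, hyp.2.1 i3 i3, if_pos rfl]
    simp
  refine two_gen_all ((nondeg_iff _).mp (plusForm_nondeg F (n + 1))) (by omega) hyp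
    (e i3 + f i3) (e i3 + f i3) hperp hperp hQ0 (by rw [hQ0]; exact one_ne_zero) ?_ ?_
    (fun _ => Or.inl rfl)
  · intro h2
    rw [polar_self', hQ0, mul_one]
    exact h2
  · left
    intro w hw1 hw2
    funext x
    rcases x with i | i
    · have := congrFun hw2 i
      rw [co_apply, plus_polar_f] at this
      exact this
    · have := congrFun hw1 i
      rw [co_apply, plus_polar_e] at this
      exact this

end Cfsg.Agent.S2414
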