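-- Statement S2405: the Chevalley groups of types G₂, B₂, D₄, F₄, E₆, E₇, E₈ over finite fields are generated by
-- two elements.
import Cfsg.Statements.S2405
import Cfsg.Agent.Helper8.CGenC
import Cfsg.Agent.Helper8.CGenE
import Cfsg.Agent.Helper8.CGenG
import Cfsg.Agent.Helper8.CGenH
import Cfsg.Agent.Helper8.OGenI
import Cfsg.Agent.S1082
import Cfsg.Agent.S1083
import Cfsg.Agent.S2413
import Cfsg.Agent.S2414

set_option autoImplicit false
open Cfsg

namespace Cfsg.Agent.S2405

/-- Transfer of a generating pair along an isomorphism. -/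
theorem two_gen_of_equiv {G H : Type*} [Group G] [Group H] (e : G ≃* H)
    (h : ∃ a b : H, Subgroup.closure ({a, b} : Set H) = ⊤) :
    ∃ a b : G, Subgroup.closure ({a, b} : Set G) = ⊤ := by
  obtain ⟨a, b, hab⟩ := h
  exact ⟨e.symm a, e.symm b,
    Cfsg.Agent.Helper8.OGenI.closure_pair_of_surjective e.symm.toMonoidHom e.symm.surjective hab⟩

/-- Each Chevalley group of type G₂, B₂, D₄, F₄, E₆, E₇ or E₈ over a finite field is generated by two of its elements (types B₂ and G₂ over the field with two elements, where the group is not simple, excepted). -/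
theorem result {F : Type*} [Field F] [Finite F] (D : Cfsg.Lie.ChevalleyDatum) (hD : D ∈ [Cfsg.Lie.chevG2, Cfsg.Lie.chevB2, Cfsg.Lie.chevD4, Cfsg.Lie.chevF4, Cfsg.Lie.chevE6, Cfsg.Lie.chevE7, Cfsg.Lie.chevE8])
    (hF : D ∈ [Cfsg.Lie.chevB2, Cfsg.Lie.chevG2] → ∃ x : F, x ≠ 0 ∧ x ≠ 1) :
    ∃ a b : ↥(D.group F), Subgroup.closure ({a, b} : Set ↥(D.group F)) = ⊤ := by
  classical
  have : Fintype F := Fintype.ofFinite F
  simp only [List.mem_cons, List.not_mem_nil, or_false] at hD
  rcases hD with rfl | rfl | rfl | rfl | rfl | rfl | rfl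
  · -- G₂
    by_cases h3 : ringChar F = 3
    · have : CharP F 3 := by
        have := ringChar.charP F
        rwa [h3] at this
      exact Cfsg.Agent.Helper8.CGen.two_gen_G2_char3 F
    · exact Cfsg.Agent.Helper8.CGen.two_gen_G2 F (Cfsg.Agent.Helper7.Chev.three_ne_zero_of_ringChar h3)
  · -- B₂
    have hF' : ∃ x : F, x ≠ 0 ∧ x ≠ 1 := hF (by simp)
    by_cases h2 : ringChar F = 2
    · have : CharP F 2 := by
        have := ringChar.charP F
        rwa [h2] at this
      exact Cfsg.Agent.Helper8.CGen.two_gen_B2_char2 F hF'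
    · obtain ⟨e⟩ := Cfsg.Agent.S1083.result (F := F) hF'
      have hodd : Odd (Fintype.card F) :=
        Nat.odd_iff.mpr (FiniteField.odd_card_of_char_ne_two h2)
      exact two_gen_of_equiv e (Cfsg.Agent.S2413.result (F := F) hodd 2 le_rfl)
  · -- D₄
    obtain ⟨e⟩ := Cfsg.Agent.S1082.result (F := F)
    exact two_gen_of_equiv e (Cfsg.Agent.S2414.result (F := F) 4 le_rfl)
  · exact Cfsg.Agent.Helper8.CGen.two_gen_F4_all F
  · exact Cfsg.Agent.Helper8.CGen.two_gen_E6 F
  · exact Cfsg.Agent.Helper8.CGen.two_gen_E7 F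
  · exact Cfsg.Agent.Helper8.CGen.two_gen_E8 F

end Cfsg.Agent.S2405
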