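import Cfsg.Statements.S2410
import Cfsg.Agent.Helper7.SzSetup
import Cfsg.Agent.Helper7.SzSylow

set_option autoImplicit false
open Cfsg

namespace Cfsg.Agent.S2410

open Cfsg.Agent.Helper7.Sz Cfsg.Agent.Helper7 MulAction
open scoped commutatorElement

variable {F : Type*} [Field F] [Fintype F] {m : ℕ}

omit [Fintype F] in
theorem Wmat_Hmat_Wmat {t : F} (ht : t ≠ 0) :
    (Wmat : Matrix (Fin 4) (Fin 4) F) * Hmat m t * Wmat = Hmat m t⁻¹ := by
  have hs : sg m t ≠ 0 := sg_ne_zero ht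
  ext i j
  rw [Wmat_conj_apply]
  fin_cases i <;> fin_cases j <;> simp [Hmat, Fin.rev, sg_inv, mul_comm]

theorem TelS_mul (h : FH F m) (a b c d : F) :
    TelS h a b * TelS h c d = TelS h (a + c) (b + d + sg m a * c) :=
  Subtype.ext (Tel_mul h a b c d)

theorem TelS_inv (h : FH F m) (a b : F) : (TelS h a b)⁻¹ = TelS h a (b + sg m a * a) :=
  Subtype.ext (Tel_inv h a b)

/-- The torus as a homomorphism. -/
def HelHom (h : FH F m) : Fˣ →* Cfsg.Sz F m where
  toFun := HelS h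
  map_one' := Subtype.ext Hel_one
  map_mul' t u := Subtype.ext (Hel_mul t.ne_zero u.ne_zero).symm

theorem HelS_conj_TelS (h : FH F m) (t : Fˣ) (a b : F) :
    HelS h t * TelS h a b * (HelS h t)⁻¹ =
      TelS h (sg m (t : F) * a) ((t : F) * t * sg m (t : F) * b) := by
  rw [mul_inv_eq_iff_eq_mul]
  exact Subtype.ext (Hel_mul_Tel h t.ne_zero a b)

theorem WelS_conj_HelS (h : FH F m) (t : Fˣ) :
    WelS h * HelS h t * WelS h = HelS h t⁻¹ := by
  apply Subtype.ext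
  apply Subtype.ext
  show (Wmat : Matrix (Fin 4) (Fin 4) F) * Hmat m (t : F) * Wmat = Hmat m ((t⁻¹ : Fˣ) : F)
  rw [Wmat_Hmat_Wmat t.ne_zero, Units.val_inv_eq_inv_val]

theorem WelS_mul_WelS (h : FH F m) : WelS h * WelS h = 1 := Subtype.ext Wel_mul_Wel

/-- The Suzuki group over the field with `2^(2m+1)` elements, `m ≥ 1` (realised as the stabiliser in `SL₄` of the Suzuki–Tits ovoid), is generated by two of its elements. -/
theorem result {F : Type*} [Field F] [Fintype F] {m : ℕ} (hm : 1 ≤ m) (hF : Fintype.card F = 2 ^ (2 * m + 1)) :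
    ∃ a b : ↥(Cfsg.Sz F m), Subgroup.closure ({a, b} : Set ↥(Cfsg.Sz F m)) = ⊤ := by
  have h : FH F m := ⟨hm, hF⟩
  have h2 := h.two_eq_zero
  obtain ⟨t₀, ht₀⟩ := IsCyclic.exists_generator (α := Fˣ)
  have ht1 : t₀ ≠ 1 := by
    intro e
    have hall : ∀ x : Fˣ, x = 1 := by
      intro x
      have := ht₀ x
      rw [e, Subgroup.zpowers_one_eq_bot, Subgroup.mem_bot] at this
      exact this
    have hc : Nat.card Fˣ = 1 := Nat.card_eq_one_iff_unique.2 ⟨⟨fun a b => (hall a).trans (hall b).symm⟩, ⟨1⟩⟩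
    rw [Nat.card_units, Nat.card_eq_fintype_card] at hc
    have := h.card_ge
    omega
  refine ⟨HelS h t₀, TelS h 1 0 * WelS h, ?_⟩
  set K := Subgroup.closure ({HelS h t₀, TelS h 1 0 * WelS h} : Set ↥(Cfsg.Sz F m)) with hK
  have haK : HelS h t₀ ∈ K := Subgroup.subset_closure (by simp)
  have hbK : TelS h 1 0 * WelS h ∈ K := Subgroup.subset_closure (by simp)
  -- the torus
  have hH : ∀ t : Fˣ, HelS h t ∈ K := by
    intro t
    obtain ⟨k, rfl⟩ := Subgroup.mem_zpowers_iff.1 (ht₀ t)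
    have : HelS h (t₀ ^ k) = (HelS h t₀) ^ k := map_zpow (HelHom h) t₀ k
    rw [this]
    exact K.zpow_mem haK k
  -- a first unipotent element
  have hWinv : (WelS h)⁻¹ = WelS h := inv_eq_of_mul_eq_one_left (WelS_mul_WelS h)
  have hc : TelS h (1 + sg m ((t₀⁻¹ : Fˣ) : F)) (((t₀⁻¹ : Fˣ) : F) * ((t₀⁻¹ : Fˣ) : F) * sg m ((t₀⁻¹ : Fˣ) : F) + sg m ((t₀⁻¹ : Fˣ) : F)) ∈ K := by
    have h1 : (TelS h 1 0 * WelS h) * HelS h t₀ * (TelS h 1 0 * WelS h)⁻¹ * HelS h t₀ ∈ K :=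
      K.mul_mem (K.mul_mem (K.mul_mem hbK haK) (K.inv_mem hbK)) haK
    have e : (TelS h 1 0 * WelS h) * HelS h t₀ * (TelS h 1 0 * WelS h)⁻¹ * HelS h t₀ =
        TelS h (1 + sg m ((t₀⁻¹ : Fˣ) : F)) (((t₀⁻¹ : Fˣ) : F) * ((t₀⁻¹ : Fˣ) : F) * sg m ((t₀⁻¹ : Fˣ) : F) + sg m ((t₀⁻¹ : Fˣ) : F)) := by
      have e1 : (TelS h 1 0 * WelS h) * HelS h t₀ * (TelS h 1 0 * WelS h)⁻¹ * HelS h t₀ =
          TelS h 1 0 * (WelS h * HelS h t₀ * WelS h) * (TelS h 1 0)⁻¹ * HelS h t₀ := by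
        rw [_root_.mul_inv_rev, hWinv]
        group
      rw [e1, WelS_conj_HelS, TelS_inv]
      have e2 : TelS h 1 0 * HelS h t₀⁻¹ * TelS h 1 (0 + sg m 1 * 1) * HelS h t₀ =
          TelS h 1 0 * (HelS h t₀⁻¹ * TelS h 1 (0 + sg m 1 * 1) * (HelS h t₀⁻¹)⁻¹) *
            (HelS h t₀⁻¹ * HelS h t₀) := by group
      rw [e2, HelS_conj_TelS, TelS_mul]
      have e3 : HelS h t₀⁻¹ * HelS h t₀ = 1 := by
        have : HelS h t₀⁻¹ * HelS h t₀ = HelHom h (t₀⁻¹ * t₀) := (map_mul (HelHom h) _ _).symm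
        rw [this, inv_mul_cancel, map_one]
      rw [e3, mul_one, sg_one]
      congr 1
      · ring
      · ring
    rw [← e]
    exact h1
  -- the set of first coordinates
  have hadd : ∀ x y x' y' : F, TelS h x y ∈ K → TelS h x' y' ∈ K →
      ∃ y'', TelS h (x + x') y'' ∈ K := by
    intro x y x' y' h1 h1'
    exact ⟨_, by rw [← TelS_mul]; exact K.mul_mem h1 h1'⟩
  have hscale : ∀ (t : Fˣ) (x y : F), TelS h x y ∈ K → ∃ y', TelS h (sg m (t : F) * x) y' ∈ K := by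
    intro t x y h1
    exact ⟨_, by rw [← HelS_conj_TelS h t]; exact K.mul_mem (K.mul_mem (hH t) h1) (K.inv_mem (hH t))⟩
  have hx0 : 1 + sg m ((t₀⁻¹ : Fˣ) : F) ≠ 0 := by
    intro e
    have e1 : sg m ((t₀⁻¹ : Fˣ) : F) = 1 := by
      have := h.eq_of_add_eq_zero e
      exact this.symm
    have e2 : ((t₀⁻¹ : Fˣ) : F) = 1 := h.sg_injective (by rw [e1, sg_one])
    apply ht1
    have : t₀⁻¹ = 1 := Units.ext e2
    exact inv_eq_one.1 this
  have hall : ∀ x : F, ∃ y, TelS h x y ∈ K := by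
    intro x
    by_cases hx : x = 0
    · exact ⟨0, by rw [hx]; have : TelS h 0 0 = 1 := Subtype.ext Tel_zero
                   rw [this]; exact K.one_mem⟩
    · obtain ⟨s, hs⟩ := h.sg_surjective (x / (1 + sg m ((t₀⁻¹ : Fˣ) : F)))
      have hs0 : s ≠ 0 := by
        intro e
        rw [e, sg_zero] at hs
        have := div_eq_zero_iff.1 hs.symm
        rcases this with h' | h'
        · exact hx h'
        · exact hx0 h'
      obtain ⟨y', hy'⟩ := hscale (Units.mk0 s hs0) _ _ hc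
      refine ⟨y', ?_⟩
      have : sg m ((Units.mk0 s hs0 : Fˣ) : F) * (1 + sg m ((t₀⁻¹ : Fˣ) : F)) = x := by
        rw [Units.val_mk0, hs]
        field_simp
      rw [this] at hy'
      exact hy'
  -- the centre of the unipotent group
  have hcen : ∀ v : F, TelS h 0 v ∈ K := by
    intro v
    obtain ⟨a, c, hac⟩ := exists_comm_form h v
    obtain ⟨y, hy⟩ := hall a
    obtain ⟨y', hy'⟩ := hall c
    have hl : SuzLaw m (fun x : F × F => TelS h x.1 x.2) := fun a b c d => TelS_mul h a b c d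
    have := hl.comm_formula h a y c y'
    rw [hac] at this
    have hmem : ⁅TelS h a y, TelS h c y'⁆ ∈ K := by
      rw [commutatorElement_def]
      exact K.mul_mem (K.mul_mem (K.mul_mem hy hy') (K.inv_mem hy)) (K.inv_mem hy')
    have e : ⁅TelS h a y, TelS h c y'⁆ = TelS h 0 v := this
    rw [← e]
    exact hmem
  have hU : ∀ x y : F, TelS h x y ∈ K := by
    intro x y
    obtain ⟨y₀, hy₀⟩ := hall x
    have e : TelS h x y = TelS h x y₀ * TelS h 0 (y + y₀) := by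
      rw [TelS_mul, add_zero, mul_zero, add_zero]
      congr 1
      rw [add_comm y y₀, ← add_assoc, h.add_self, zero_add]
    rw [e]
    exact K.mul_mem hy₀ (hcen _)
  have hW : WelS h ∈ K := by
    have : WelS h = (TelS h 1 0)⁻¹ * (TelS h 1 0 * WelS h) := by group
    rw [this]
    exact K.mul_mem (K.inv_mem (hU 1 0)) hbK
  rw [eq_top_iff]
  rintro ⟨g, hg⟩ -
  rcases eq_prod h hg with ⟨a, b, t, ht, e⟩ | ⟨a, b, a', b', t, ht, e⟩
  · have : (⟨g, hg⟩ : Cfsg.Sz F m) = TelS h a b * HelS h (Units.mk0 t ht) := Subtype.ext e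
    rw [this]
    exact K.mul_mem (hU a b) (hH _)
  · have : (⟨g, hg⟩ : Cfsg.Sz F m) = TelS h a b * WelS h * (TelS h a' b' * HelS h (Units.mk0 t ht)) :=
      Subtype.ext e
    rw [this]
    exact K.mul_mem (K.mul_mem (hU a b) hW) (K.mul_mem (hU a' b') (hH _))

end Cfsg.Agent.S2410
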