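import Mathlib
import Cfsg.Statements.S2415
import Cfsg.Agent.Helper8.OGenI
import Cfsg.Agent.Helper8.StdForms
import Cfsg.Agent.Helper8.OmegaStd2

set_option autoImplicit false
open Cfsg

namespace Cfsg.Agent.S2415

open Module Cfsg.Agent.Helper8.QuadForm Cfsg.Agent.Helper8.StdForms Cfsg.Agent.Helper8.OmegaStd
  Cfsg.Agent.Helper8.OmegaStd2 Cfsg.Agent.Helper8.OGenB Cfsg.Agent.Helper8.OGenI


/-- The simple orthogonal group `PΩ⁻_{2m}(q)` with `m ≥ 4` (commutator subgroup, modulo its centre, of the orthogonal group of `Σ_{i<m−1} x_i y_i + z₁² + a z₁z₂ + b z₂²` with the binary part anisotropic) is generated by two of its elements. -/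
theorem result {F : Type*} [Field F] [Fintype F] (m : ℕ) (hm : 4 ≤ m) (a b : F)
    (hab : ∀ z₁ z₂ : F, z₁ ^ 2 + a * z₁ * z₂ + b * z₂ ^ 2 = 0 → z₁ = 0 ∧ z₂ = 0) :
    ∃ g h : Cfsg.POmega F (Cfsg.quadFormMinus (m - 1) F a b),
      Subgroup.closure ({g, h} : Set (Cfsg.POmega F (Cfsg.quadFormMinus (m - 1) F a b))) = ⊤ := by
  classical
  generalize hr : m - 1 = r
  have hr3 : 3 ≤ r := by omega
  have hQeq : Cfsg.quadFormMinus r F a b = ⇑(minusForm F r a b) :=
    funext (fun v => (minusForm_apply F r a b v).symm)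
  rw [hQeq]
  have hcard : Fintype.card ((Fin r ⊕ Fin r) ⊕ Fin 2) = 2 * r + 2 := by
    simp only [Fintype.card_sum, Fintype.card_fin]
    ring
  apply two_gen_POmega (minusForm F r a b) (minusForm_nondeg F r hab) (by rw [hcard]; omega)
  obtain ⟨n, rfl⟩ : ∃ n, r = n + 1 := ⟨r - 1, by omega⟩
  have hyp := minus_isHyp F (n + 1) a b
  set z₁ : (Fin (n + 1) ⊕ Fin (n + 1)) ⊕ Fin 2 → F := Pi.single (Sum.inr 0) 1 with hz₁
  set z₂ : (Fin (n + 1) ⊕ Fin (n + 1)) ⊕ Fin 2 → F := Pi.single (Sum.inr 1) 1 with hz₂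
  have hQz₁ : minusForm F (n + 1) a b z₁ = 1 := by
    rw [minusForm_apply]
    unfold quadFormMinus
    simp [hz₁]
  have hQz₂ : minusForm F (n + 1) a b z₂ = b := by
    rw [minusForm_apply]
    unfold quadFormMinus
    simp [hz₂]
  have hpz : QuadraticMap.polar (minusForm F (n + 1) a b) z₁ z₂ = a := by
    rw [polar_minusForm]
    simp [hz₁, hz₂]
  have hb0 : b ≠ 0 := by
    intro hb
    have := (hab 0 1 (by rw [hb]; ring)).2
    exact one_ne_zero this
  have hperp₁ : ∀ i : Fin (n + 1), i.val ≤ 2 →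
      QuadraticMap.polar (minusForm F (n + 1) a b) (Pi.single (Sum.inl (Sum.inl i)) 1) z₁ = 0 ∧
      QuadraticMap.polar (minusForm F (n + 1) a b) (Pi.single (Sum.inl (Sum.inr i)) 1) z₁ = 0 := by
    intro i _
    constructor
    · rw [minus_polar_e, hz₁, Pi.single_apply, if_neg (by simp)]
    · rw [minus_polar_f, hz₁, Pi.single_apply, if_neg (by simp)]
  have hperp₂ : ∀ i : Fin (n + 1), i.val ≤ 2 →
      QuadraticMap.polar (minusForm F (n + 1) a b) (Pi.single (Sum.inl (Sum.inl i)) 1) z₂ = 0 ∧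
      QuadraticMap.polar (minusForm F (n + 1) a b) (Pi.single (Sum.inl (Sum.inr i)) 1) z₂ = 0 := by
    intro i _
    constructor
    · rw [minus_polar_e, hz₂, Pi.single_apply, if_neg (by simp)]
    · rw [minus_polar_f, hz₂, Pi.single_apply, if_neg (by simp)]
  -- vectors orthogonal to all hyperbolic pairs are combinations of `z₁` and `z₂`
  have hspan : ∀ w, co (minusForm F (n + 1) a b) (fun j : Fin (n + 1) =>
        (Pi.single (Sum.inl (Sum.inl j)) 1 : (Fin (n + 1) ⊕ Fin (n + 1)) ⊕ Fin 2 → F)) w = 0 →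
      co (minusForm F (n + 1) a b) (fun j : Fin (n + 1) =>
        (Pi.single (Sum.inl (Sum.inr j)) 1 : (Fin (n + 1) ⊕ Fin (n + 1)) ⊕ Fin 2 → F)) w = 0 →
      w = w (Sum.inr 0) • z₁ + w (Sum.inr 1) • z₂ := by
    intro w hw1 hw2
    funext x
    rcases x with (i | i) | k
    · have := congrFun hw2 i
      rw [co_apply, minus_polar_f] at this
      simp [hz₁, hz₂, this]
    · have := congrFun hw1 i
      rw [co_apply, minus_polar_e] at this
      simp [hz₁, hz₂, this]
    · fin_cases k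
      · simp [hz₁, hz₂]
      · simp [hz₁, hz₂]
  have h1ne : ∀ c : F, Fintype.card F = 2 → c ≠ 0 → c = 1 := by
    intro c hF2 hc
    have := FiniteField.pow_card_sub_one_eq_one c hc
    rwa [hF2, pow_one] at this
  by_cases ha : a = 0
  · -- then the characteristic is odd
    have h2 : (2 : F) ≠ 0 := by
      intro h2
      obtain ⟨c, hc⟩ := Cfsg.Agent.Helper8.ReflGen.exists_sqrt_of_char_two h2 b
      have := (hab c 1 (by rw [ha, ← hc]; linear_combination c * c * h2)).2
      exact one_ne_zero this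
    have hQ1 : minusForm F (n + 1) a b (z₁ + z₂) = 1 + b := by
      rw [QuadraticMap.map_add (minusForm F (n + 1) a b), hQz₁, hQz₂, hpz, ha, add_zero]
    have hQ1ne : minusForm F (n + 1) a b (z₁ + z₂) ≠ 0 := by
      rw [hQ1]
      intro h
      have := (hab 1 1 (by rw [ha]; linear_combination h)).1
      exact one_ne_zero this
    have hβ : QuadraticMap.polar (minusForm F (n + 1) a b) z₁ (z₁ + z₂) ≠ 0 := by
      rw [QuadraticMap.polar_add_right, polar_self', hQz₁, hpz, ha, add_zero, mul_one]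
      exact h2
    refine two_gen_all ((nondeg_iff _).mp (minusForm_nondeg F (n + 1) hab)) (by omega) hyp
      z₁ (z₁ + z₂) hperp₁ ?_ hQz₁ hQ1ne (fun _ => hβ) (Or.inr ⟨hβ, ?_⟩) ?_
    · intro i hi
      rw [QuadraticMap.polar_add_right, QuadraticMap.polar_add_right, (hperp₁ i hi).1,
        (hperp₁ i hi).2, (hperp₂ i hi).1, (hperp₂ i hi).2, add_zero]
      exact ⟨rfl, rfl⟩
    · intro w hw1 hw2
      refine ⟨w (Sum.inr 0) - w (Sum.inr 1), w (Sum.inr 1), ?_⟩
      conv_lhs => rw [hspan w hw1 hw2]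
      module
    · intro hF2
      exfalso
      have : Fact (Nat.Prime 2) := ⟨Nat.prime_two⟩
      have hchar : CharP F 2 := charP_of_card_eq_prime hF2
      exact h2 CharTwo.two_eq_zero
  · have hβ : QuadraticMap.polar (minusForm F (n + 1) a b) z₁ z₂ ≠ 0 := by
      rw [hpz]
      exact ha
    refine two_gen_all ((nondeg_iff _).mp (minusForm_nondeg F (n + 1) hab)) (by omega) hyp
      z₁ z₂ hperp₁ hperp₂ hQz₁ (by rw [hQz₂]; exact hb0) (fun _ => hβ) (Or.inr ⟨hβ, ?_⟩) ?_
    · intro w hw1 hw2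
      exact ⟨w (Sum.inr 0), w (Sum.inr 1), hspan w hw1 hw2⟩
    · intro hF2
      right
      rw [hQz₂, hpz]
      exact ⟨h1ne b hF2 hb0, h1ne a hF2 ha⟩

end Cfsg.Agent.S2415
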