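import Cfsg.Statements.S2418
import Cfsg.Agent.Helper7.CoxCenter
import Cfsg.Agent.Helper7.CoxB2
import Cfsg.Agent.Helper7.CoxG2
import Cfsg.Agent.Helper7.CoxD4
import Cfsg.Agent.Helper7.CoxF4
import Cfsg.Agent.Helper7.CoxE6
import Cfsg.Agent.Helper7.CoxE7
import Cfsg.Agent.Helper7.CoxE8

set_option autoImplicit false
set_option maxRecDepth 100000
open Cfsg

namespace Cfsg.Agent.S2418

open Cfsg.Agent.Helper7 Cfsg.Agent.Helper7.CoxEnum

/-- Parent functions of spanning trees of the diagrams. -/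
def par2 (j : Fin 2) : Fin 2 := ([0, 0] : List (Fin 2)).getD j 0
def parD4 (j : Fin 4) : Fin 4 := ([1, 1, 1, 1] : List (Fin 4)).getD j 1
def parF4 (j : Fin 4) : Fin 4 := ([0, 0, 1, 2] : List (Fin 4)).getD j 0
def parE6 (j : Fin 6) : Fin 6 := ([2, 3, 3, 3, 3, 4] : List (Fin 6)).getD j 3
def parE7 (j : Fin 7) : Fin 7 := ([2, 3, 3, 3, 3, 4, 5] : List (Fin 7)).getD j 3
def parE8 (j : Fin 8) : Fin 8 := ([2, 3, 3, 3, 3, 4, 5, 6] : List (Fin 8)).getD j 3

theorem one_ne_neg_one {n : ℕ} [NeZero n] : (1 : Matrix (Fin n) (Fin n) ℤ) ≠ -1 := by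
  intro h
  have := congrFun (congrFun h 0) 0
  simp at this

theorem cB2 : Nat.card (Subgroup.center (CoxeterMatrix.B 2).Group) = 2 ∧
    Subgroup.center (CoxeterMatrix.B 2).Group ≤
      Subgroup.zpowers ((List.finRange 2).map (CoxeterMatrix.B 2).simple).prod := by
  obtain ⟨f, hinj, hf⟩ := CoxB2.main.2
  exact center_two _ CoxB2.A f hinj hf (by decide) par2 0 (by decide) (by decide) 2
    (by decide +kernel) one_ne_neg_one

theorem cG2 : Nat.card (Subgroup.center (CoxeterMatrix.G₂).Group) = 2 ∧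
    Subgroup.center (CoxeterMatrix.G₂).Group ≤
      Subgroup.zpowers ((List.finRange 2).map (CoxeterMatrix.G₂).simple).prod := by
  obtain ⟨f, hinj, hf⟩ := CoxG2.main.2
  exact center_two _ CoxG2.A f hinj hf (by decide) par2 0 (by decide) (by decide) 3
    (by decide +kernel) one_ne_neg_one

theorem cD4 : Nat.card (Subgroup.center (Cfsg.Lie.coxeterD4).Group) = 2 ∧
    Subgroup.center (Cfsg.Lie.coxeterD4).Group ≤
      Subgroup.zpowers ((List.finRange 4).map (Cfsg.Lie.coxeterD4).simple).prod := by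
  obtain ⟨f, hinj, hf⟩ := CoxD4.main.2
  exact center_two _ CoxD4.A f hinj hf (by decide) parD4 1 (by decide) (by decide) 3
    (by decide +kernel) one_ne_neg_one

theorem cF4 : Nat.card (Subgroup.center (CoxeterMatrix.F₄).Group) = 2 ∧
    Subgroup.center (CoxeterMatrix.F₄).Group ≤
      Subgroup.zpowers ((List.finRange 4).map (CoxeterMatrix.F₄).simple).prod := by
  obtain ⟨f, hinj, hf⟩ := CoxF4.main.2
  exact center_two _ CoxF4.A f hinj hf (by decide) parF4 0 (by decide) (by decide) 6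
    (by decide +kernel) one_ne_neg_one

/-- The weights of the 27-dimensional representation of `E₆`. -/
def VE6 : List (List Int) :=
  [[-1, -1, 1, 0, 0, 0], [-1, 0, 0, 0, 0, 1], [-1, 0, 0, 0, 1, -1], [-1, 0, 0, 1, -1, 0], [-1, 0, 1, 0, 0, 0], [-1, 1, 1, -1, 0, 0], [0, -1, -1, 1, 0, 0], [0, -1, 0, 0, 1, 0], [0, -1, 0, 1, -1, 1], [0, -1, 0, 1, 0, -1], [0, 0, -1, 1, 0, 0], [0, 0, 0, -1, 1, 0], [0, 0, 0, 0, -1, 1], [0, 0, 0, 0, 0, -1], [0, 0, 1, -1, 0, 1], [0, 0, 1, -1, 1, -1], [0, 0, 1, 0, -1, 0], [0, 1, -1, 0, 0, 0], [0, 1, 0, -1, 1, 0], [0, 1, 0, 0, -1, 1], [0, 1, 0, 0, 0, -1], [1, -1, 0, 0, 0, 0], [1, 0, -1, 0, 0, 1], [1, 0, -1, 0, 1, -1], [1, 0, -1, 1, -1, 0], [1, 0, 0, 0, 0, 0], [1, 1, 0, -1, 0, 0]]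

theorem VE6_ok : setOk 6 CoxE6.A VE6 := by decide +kernel

theorem cE6 : Nat.card (Subgroup.center (CoxeterMatrix.E₆).Group) = 1 ∧
    Subgroup.center (CoxeterMatrix.E₆).Group ≤
      Subgroup.zpowers ((List.finRange 6).map (CoxeterMatrix.E₆).simple).prod := by
  obtain ⟨f, hinj, hf⟩ := CoxE6.main.2
  exact center_one _ CoxE6.A f hinj hf (by decide) parE6 3 (by decide) (by decide) VE6 VE6_ok
    ![1, 0, 0, 0, 0, 0] (by decide) (by decide)

theorem cE7 : Nat.card (Subgroup.center (CoxeterMatrix.E₇).Group) = 2 ∧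
    Subgroup.center (CoxeterMatrix.E₇).Group ≤
      Subgroup.zpowers ((List.finRange 7).map (CoxeterMatrix.E₇).simple).prod := by
  obtain ⟨f, hinj, hf⟩ := CoxE7.main.2
  exact center_two _ CoxE7.A f hinj hf (by decide) parE7 3 (by decide) (by decide) 9
    (by decide +kernel) one_ne_neg_one

theorem cE8 : Nat.card (Subgroup.center (CoxeterMatrix.E₈).Group) = 2 ∧
    Subgroup.center (CoxeterMatrix.E₈).Group ≤
      Subgroup.zpowers ((List.finRange 8).map (CoxeterMatrix.E₈).simple).prod := by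
  obtain ⟨f, hinj, hf⟩ := CoxE8.main.2
  exact center_two _ CoxE8.A f hinj hf (by decide) parE8 3 (by decide) (by decide) 15
    (by decide +kernel) one_ne_neg_one

/-- For the Coxeter groups of types B₂, G₂, D₄, F₄, E₇, E₈ the centre has order 2 (the element acting as −1 on the root system) and is generated by a power of the Coxeter element `s₁ s₂ ⋯ s_l`; the Coxeter group of type E₆ has trivial centre. -/
theorem result (c : (Σ n : ℕ, CoxeterMatrix (Fin n)) × ℕ)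
    (hc : c ∈ [(⟨2, CoxeterMatrix.B 2⟩, 2), (⟨2, CoxeterMatrix.G₂⟩, 2), (⟨4, Cfsg.Lie.coxeterD4⟩, 2), (⟨4, CoxeterMatrix.F₄⟩, 2),
      (⟨6, CoxeterMatrix.E₆⟩, 1), (⟨7, CoxeterMatrix.E₇⟩, 2), (⟨8, CoxeterMatrix.E₈⟩, 2)]) :
    Nat.card (Subgroup.center c.1.2.Group) = c.2 ∧
      Subgroup.center c.1.2.Group ≤ Subgroup.zpowers ((List.finRange c.1.1).map c.1.2.simple).prod := by
  simp only [List.mem_cons, List.mem_nil_iff, or_false] at hc
  rcases hc with rfl | rfl | rfl | rfl | rfl | rfl | rfl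
  · exact cB2
  · exact cG2
  · exact cD4
  · exact cF4
  · exact cE6
  · exact cE7
  · exact cE8

end Cfsg.Agent.S2418
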