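import Cfsg.Statements.S2419
import Cfsg.Agent.Helper7.CoxGen
import Cfsg.Agent.Helper7.CoxB2
import Cfsg.Agent.Helper7.CoxG2
import Cfsg.Agent.Helper7.CoxD4
import Cfsg.Agent.Helper7.CoxF4
import Cfsg.Agent.Helper7.CoxE6
import Cfsg.Agent.Helper7.CoxE7
import Cfsg.Agent.Helper7.CoxE8

set_option autoImplicit false
set_option maxRecDepth 100000
open Cfsg

namespace Cfsg.Agent.S2419

open Cfsg.Agent.Helper7 Cfsg.Agent.Helper7.CoxEnum

variable {n : ℕ}

/-- One reflection suffices. -/
theorem gen_one (M : CoxeterMatrix (Fin n)) (A : Nat → Nat → Int)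
    (hmain : ∃ f : M.Group →* Matrix (Fin n) (Fin n) ℤ, Function.Injective f ∧
      ∀ j, f (M.simple j) = Smat A j)
    (i : Fin n) (words : List (List (Option (Fin n) × ℕ)))
    (hok : ∀ j : Fin n, wordOk [i] (words.getD j []) ∧ evalM A (words.getD j []) = Smat A j) :
    ∃ T : Finset M.Group, T.card = 1 ∧ (∀ t ∈ T, ∃ (g : M.Group) (i : Fin n), t = g * M.simple i * g⁻¹) ∧
      Subgroup.closure (({((List.finRange n).map M.simple).prod} : Set M.Group) ∪ ↑T) = ⊤ := by
  refine ⟨{M.simple i}, Finset.card_singleton _, ?_, ?_⟩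
  · intro t ht
    rw [Finset.mem_singleton] at ht
    exact ⟨1, i, by rw [ht, one_mul, inv_one, mul_one]⟩
  · apply closure_eq_top_of_words M A hmain _ _ [i] _ words hok
    · apply Subgroup.subset_closure
      left
      rfl
    · intro i' hi'
      rw [List.mem_singleton] at hi'
      apply Subgroup.subset_closure
      right
      rw [hi']
      simp

/-- Two reflections suffice. -/
theorem gen_two (M : CoxeterMatrix (Fin n)) (A : Nat → Nat → Int)
    (hmain : ∃ f : M.Group →* Matrix (Fin n) (Fin n) ℤ, Function.Injective f ∧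
      ∀ j, f (M.simple j) = Smat A j)
    (i i' : Fin n) (hne : Smat A i ≠ Smat A i') (words : List (List (Option (Fin n) × ℕ)))
    (hok : ∀ j : Fin n, wordOk [i, i'] (words.getD j []) ∧ evalM A (words.getD j []) = Smat A j) :
    ∃ T : Finset M.Group, T.card = 2 ∧ (∀ t ∈ T, ∃ (g : M.Group) (i : Fin n), t = g * M.simple i * g⁻¹) ∧
      Subgroup.closure (({((List.finRange n).map M.simple).prod} : Set M.Group) ∪ ↑T) = ⊤ := by
  classical
  have hne' : M.simple i ≠ M.simple i' := by
    obtain ⟨f, -, hf⟩ := hmain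
    intro h
    apply hne
    rw [← hf i, ← hf i', h]
  refine ⟨{M.simple i, M.simple i'}, Finset.card_pair hne', ?_, ?_⟩
  · intro t ht
    rw [Finset.mem_insert, Finset.mem_singleton] at ht
    rcases ht with ht | ht
    · exact ⟨1, i, by rw [ht, one_mul, inv_one, mul_one]⟩
    · exact ⟨1, i', by rw [ht, one_mul, inv_one, mul_one]⟩
  · apply closure_eq_top_of_words M A hmain _ _ [i, i'] _ words hok
    · apply Subgroup.subset_closure
      left
      rfl
    · intro j hj
      simp only [List.mem_cons, List.mem_nil_iff, or_false] at hj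
      apply Subgroup.subset_closure
      right
      rcases hj with rfl | rfl <;> simp

/-- Words for type B2. -/
def wordsB2 : List (List (Option (Fin 2) × ℕ)) :=
  [[(some 0, 1)],
   [(some 0, 1), (none, 1)]]

theorem okB2 : ∀ j : Fin 2, wordOk ([0] : List (Fin 2)) (wordsB2.getD j []) ∧
    evalM CoxB2.A (wordsB2.getD j []) = Smat CoxB2.A j := by
  decide +kernel

/-- Words for type G2. -/
def wordsG2 : List (List (Option (Fin 2) × ℕ)) :=
  [[(some 0, 1)],
   [(some 0, 1), (none, 1)]]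

theorem okG2 : ∀ j : Fin 2, wordOk ([0] : List (Fin 2)) (wordsG2.getD j []) ∧
    evalM CoxG2.A (wordsG2.getD j []) = Smat CoxG2.A j := by
  decide +kernel

/-- Words for type D4. -/
def wordsD4 : List (List (Option (Fin 4) × ℕ)) :=
  [[(some 0, 1)],
   [(none, 1), (some 0, 1), (none, 5)],
   [(some 2, 1)],
   [(none, 2), (some 0, 1), (none, 5), (some 2, 1), (none, 1), (some 0, 1), (none, 4)]]

theorem okD4 : ∀ j : Fin 4, wordOk ([0, 2] : List (Fin 4)) (wordsD4.getD j []) ∧
    evalM CoxD4.A (wordsD4.getD j []) = Smat CoxD4.A j := by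
  decide +kernel

/-- Words for type F4. -/
def wordsF4 : List (List (Option (Fin 4) × ℕ)) :=
  [[(some 0, 1)],
   [(none, 1), (some 0, 1), (none, 11)],
   [(some 2, 1)],
   [(none, 1), (some 2, 1), (none, 11)]]

theorem okF4 : ∀ j : Fin 4, wordOk ([0, 2] : List (Fin 4)) (wordsF4.getD j []) ∧
    evalM CoxF4.A (wordsF4.getD j []) = Smat CoxF4.A j := by
  decide +kernel

/-- Words for type E6. -/
def wordsE6 : List (List (Option (Fin 6) × ℕ)) :=
  [[(some 0, 1)],
   [(none, 2), (some 0, 1), (none, 3), (some 0, 1), (none, 9), (some 0, 1), (none, 10)],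
   [(none, 1), (some 0, 1), (none, 11)],
   [(none, 5), (some 0, 1), (none, 7)],
   [(none, 6), (some 0, 1), (none, 6)],
   [(none, 7), (some 0, 1), (none, 5)]]

theorem okE6 : ∀ j : Fin 6, wordOk ([0] : List (Fin 6)) (wordsE6.getD j []) ∧
    evalM CoxE6.A (wordsE6.getD j []) = Smat CoxE6.A j := by
  decide +kernel

/-- Words for type E7. -/
def wordsE7 : List (List (Option (Fin 7) × ℕ)) :=
  [[(none, 3), (some 1, 1), (none, 2), (some 1, 1), (none, 16), (some 1, 1), (none, 15)],
   [(some 1, 1)],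
   [(none, 4), (some 1, 1), (none, 2), (some 1, 1), (none, 16), (some 1, 1), (none, 14)],
   [(some 1, 1), (none, 5), (some 1, 1), (none, 2), (some 1, 1), (none, 16), (some 1, 1), (none, 13), (some 1, 1)],
   [(none, 6), (some 1, 1), (none, 13), (some 1, 1), (none, 7), (some 1, 1), (none, 11), (some 1, 1), (none, 5), (some 1, 1), (none, 12)],
   [(none, 7), (some 1, 1), (none, 11), (some 1, 1), (none, 2), (some 1, 1), (none, 16), (some 1, 1), (none, 7), (some 1, 1), (none, 11)],
   [(none, 8), (some 1, 1), (none, 11), (some 1, 1), (none, 2), (some 1, 1), (none, 16), (some 1, 1), (none, 7), (some 1, 1), (none, 10)]]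

theorem okE7 : ∀ j : Fin 7, wordOk ([1] : List (Fin 7)) (wordsE7.getD j []) ∧
    evalM CoxE7.A (wordsE7.getD j []) = Smat CoxE7.A j := by
  decide +kernel

/-- Words for type E8. -/
def wordsE8 : List (List (Option (Fin 8) × ℕ)) :=
  [[(some 0, 1)],
   [(none, 4), (some 0, 1), (none, 8), (some 0, 1), (none, 22), (some 0, 1), (none, 26)],
   [(none, 1), (some 0, 1), (none, 29)],
   [(none, 4), (some 0, 1), (none, 3), (some 0, 1), (none, 27), (some 0, 1), (none, 26)],
   [(none, 5), (some 0, 1), (none, 3), (some 0, 1), (none, 27), (some 0, 1), (none, 25)],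
   [(none, 6), (some 0, 1), (none, 3), (some 0, 1), (none, 27), (some 0, 1), (none, 24)],
   [(none, 7), (some 0, 1), (none, 3), (some 0, 1), (none, 27), (some 0, 1), (none, 23)],
   [(none, 8), (some 0, 1), (none, 3), (some 0, 1), (none, 27), (some 0, 1), (none, 22)]]

theorem okE8 : ∀ j : Fin 8, wordOk ([0] : List (Fin 8)) (wordsE8.getD j []) ∧
    evalM CoxE8.A (wordsE8.getD j []) = Smat CoxE8.A j := by
  decide +kernel

theorem neD4 : Smat (n := 4) CoxD4.A 0 ≠ Smat CoxD4.A 2 := by decide +kernel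

theorem neF4 : Smat (n := 4) CoxF4.A 0 ≠ Smat CoxF4.A 2 := by decide +kernel

/-- The Coxeter groups of types B₂, G₂, E₆, E₇, E₈ are generated by the Coxeter element `s₁ s₂ ⋯ s_l` together with one suitable reflection (a conjugate of a simple reflection); for types D₄ and F₄ the Coxeter element together with two suitable reflections suffices. -/
theorem result (c : (Σ n : ℕ, CoxeterMatrix (Fin n)) × ℕ)
    (hc : c ∈ [(⟨2, CoxeterMatrix.B 2⟩, 1), (⟨2, CoxeterMatrix.G₂⟩, 1), (⟨4, Cfsg.Lie.coxeterD4⟩, 2), (⟨4, CoxeterMatrix.F₄⟩, 2),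
      (⟨6, CoxeterMatrix.E₆⟩, 1), (⟨7, CoxeterMatrix.E₇⟩, 1), (⟨8, CoxeterMatrix.E₈⟩, 1)]) :
    ∃ T : Finset c.1.2.Group, T.card = c.2 ∧ (∀ t ∈ T, ∃ (g : c.1.2.Group) (i : Fin c.1.1), t = g * c.1.2.simple i * g⁻¹) ∧
      Subgroup.closure (({((List.finRange c.1.1).map c.1.2.simple).prod} : Set c.1.2.Group) ∪ ↑T) = ⊤ := by
  simp only [List.mem_cons, List.mem_nil_iff, or_false] at hc
  rcases hc with rfl | rfl | rfl | rfl | rfl | rfl | rfl
  · exact gen_one _ CoxB2.A CoxB2.main.2 0 wordsB2 okB2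
  · exact gen_one _ CoxG2.A CoxG2.main.2 0 wordsG2 okG2
  · exact gen_two _ CoxD4.A CoxD4.main.2 0 2 neD4 wordsD4 okD4
  · exact gen_two _ CoxF4.A CoxF4.main.2 0 2 neF4 wordsF4 okF4
  · exact gen_one _ CoxE6.A CoxE6.main.2 0 wordsE6 okE6
  · exact gen_one _ CoxE7.A CoxE7.main.2 1 wordsE7 okE7
  · exact gen_one _ CoxE8.A CoxE8.main.2 0 wordsE8 okE8

end Cfsg.Agent.S2419
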