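import Mathlib
import Cfsg.Statements.S2426
import Cfsg.Agent.Helper3.SteinB
-- import your own Cfsg.Agent.* helpers here

set_option autoImplicit false
open Cfsg

namespace Cfsg.Agent.S2426

open Cfsg.Agent.Helper5.SLB Cfsg.Agent.Helper3.Stein

universe u

/-- The relations of the statement. -/
def rels (K : Type u) [Field K] : Set (FreeGroup (Bool × K)) :=
  ({g : FreeGroup (Bool × K) | ∃ (b : Bool) (t u : K), g = FreeGroup.of (b, t) * FreeGroup.of (b, u) * (FreeGroup.of (b, t + u))⁻¹} ∪
          {g | ∃ (b : Bool) (t u : K), t ≠ 0 ∧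
            g = (FreeGroup.of (b, t) * FreeGroup.of (!b, -t⁻¹) * FreeGroup.of (b, t)) * FreeGroup.of (b, u) *
                  (FreeGroup.of (b, t) * FreeGroup.of (!b, -t⁻¹) * FreeGroup.of (b, t))⁻¹ * (FreeGroup.of (!b, -(t⁻¹ ^ 2 * u)))⁻¹})

/-- Images of the generators. -/
def gen {K : Type u} [Field K] (a : Bool × K) : Matrix.SpecialLinearGroup (Fin 2) K :=
  if a.1 then uMat a.2 else lMat a.2

theorem lMat_mul {K : Type u} [Field K] (s t : K) : lMat s * lMat t = lMat (s + t) := by
  apply sl2_ext <;> simp [mul_apply', lMat_coe, add_comm]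

theorem relU {K : Type u} [Field K] (t u : K) (ht : t ≠ 0) :
    (uMat t * lMat (-t⁻¹) * uMat t) * uMat u * (uMat t * lMat (-t⁻¹) * uMat t)⁻¹ *
      (lMat (-(t⁻¹ ^ 2 * u)))⁻¹ = 1 := by
  rw [mul_inv_eq_one, mul_inv_eq_iff_eq_mul]
  apply sl2_ext <;>
    simp only [mul_apply', uMat_00, uMat_01, uMat_10, uMat_11, lMat_00, lMat_01, lMat_10, lMat_11] <;>
    field_simp <;> ring

theorem relL {K : Type u} [Field K] (t u : K) (ht : t ≠ 0) :
    (lMat t * uMat (-t⁻¹) * lMat t) * lMat u * (lMat t * uMat (-t⁻¹) * lMat t)⁻¹ *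
      (uMat (-(t⁻¹ ^ 2 * u)))⁻¹ = 1 := by
  rw [mul_inv_eq_one, mul_inv_eq_iff_eq_mul]
  apply sl2_ext <;>
    simp only [mul_apply', uMat_00, uMat_01, uMat_10, uMat_11, lMat_00, lMat_01, lMat_10, lMat_11] <;>
    field_simp <;> ring

theorem lift_rels {K : Type u} [Field K] :
    ∀ r ∈ rels K, FreeGroup.lift (gen (K := K)) r = 1 := by
  rintro r (⟨b, t, u, rfl⟩ | ⟨b, t, u, ht, rfl⟩)
  · simp only [map_mul, map_inv, FreeGroup.lift_apply_of]
    cases b
    · simp only [gen, Bool.false_eq_true, if_false]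
      rw [lMat_mul, mul_inv_cancel]
    · simp only [gen, if_true]
      rw [uMat_mul, mul_inv_cancel]
  · simp only [map_mul, map_inv, FreeGroup.lift_apply_of]
    cases b
    · simp only [gen, Bool.false_eq_true, if_false, Bool.not_false, if_true]
      exact relL t u ht
    · simp only [gen, if_true, Bool.not_true, Bool.false_eq_true, if_false]
      exact relU t u ht

/-- The Steinberg data on the presented group. -/
noncomputable def data (K : Type u) [Field K] : StData K (PresentedGroup (rels K)) where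
  x t := PresentedGroup.of (true, t)
  y t := PresentedGroup.of (false, t)
  x_add t u := by
    have h : PresentedGroup.mk (rels K)
        (FreeGroup.of (true, t) * FreeGroup.of (true, u) * (FreeGroup.of (true, t + u))⁻¹) = 1 :=
      PresentedGroup.one_of_mem (Or.inl ⟨true, t, u, rfl⟩)
    rw [map_mul, map_mul, map_inv, mul_inv_eq_one] at h
    exact h
  y_add t u := by
    have h : PresentedGroup.mk (rels K)
        (FreeGroup.of (false, t) * FreeGroup.of (false, u) * (FreeGroup.of (false, t + u))⁻¹) = 1 :=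
      PresentedGroup.one_of_mem (Or.inl ⟨false, t, u, rfl⟩)
    rw [map_mul, map_mul, map_inv, mul_inv_eq_one] at h
    exact h
  relx t u ht := by
    have h : PresentedGroup.mk (rels K)
        ((FreeGroup.of (true, t) * FreeGroup.of (!true, -t⁻¹) * FreeGroup.of (true, t)) * FreeGroup.of (true, u) *
                  (FreeGroup.of (true, t) * FreeGroup.of (!true, -t⁻¹) * FreeGroup.of (true, t))⁻¹ * (FreeGroup.of (!true, -(t⁻¹ ^ 2 * u)))⁻¹) = 1 :=
      PresentedGroup.one_of_mem (Or.inr ⟨true, t, u, ht, rfl⟩)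
    simp only [map_mul, map_inv, Bool.not_true] at h
    rw [mul_inv_eq_one] at h
    exact h
  rely t u ht := by
    have h : PresentedGroup.mk (rels K)
        ((FreeGroup.of (false, t) * FreeGroup.of (!false, -t⁻¹) * FreeGroup.of (false, t)) * FreeGroup.of (false, u) *
                  (FreeGroup.of (false, t) * FreeGroup.of (!false, -t⁻¹) * FreeGroup.of (false, t))⁻¹ * (FreeGroup.of (!false, -(t⁻¹ ^ 2 * u)))⁻¹) = 1 :=
      PresentedGroup.one_of_mem (Or.inr ⟨false, t, u, ht, rfl⟩)
    simp only [map_mul, map_inv, Bool.not_false] at h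
    rw [mul_inv_eq_one] at h
    exact h
  gen P hx hy := by
    rw [eq_top_iff]
    intro g _
    apply PresentedGroup.generated_by
    rintro ⟨b, t⟩
    cases b
    · exact hy t
    · exact hx t
  π := PresentedGroup.toGroup lift_rels
  πx t := by
    rw [PresentedGroup.toGroup.of]
    rfl
  πy t := by
    rw [PresentedGroup.toGroup.of]
    rfl

theorem main {K : Type u} [Field K] [Finite K] :
    ∃ e : PresentedGroup (rels K) ≃* Matrix.SpecialLinearGroup (Fin 2) K,
      (∀ t : K, ((e (PresentedGroup.of (true, t)) : Matrix (Fin 2) (Fin 2) K)) = !![1, t; 0, 1]) ∧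
      (∀ t : K, ((e (PresentedGroup.of (false, t)) : Matrix (Fin 2) (Fin 2) K)) = !![1, 0; t, 1]) := by
  refine ⟨(data K).equiv, fun t => ?_, fun t => ?_⟩
  · rw [StData.equiv_apply]
    have h := (data K).πx t
    change (data K).π (PresentedGroup.of (true, t)) = _ at h
    rw [h, uMat_coe]
  · rw [StData.equiv_apply]
    have h := (data K).πy t
    change (data K).π (PresentedGroup.of (false, t)) = _ at h
    rw [h, lMat_coe]

/-- The rank-one Steinberg presentation of `SL₂` over a finite field `K`: generators `x(t)`, `y(t)` (`t ∈ K`; the two opposite root subgroups) subject to additivity `x(t)x(u) = x(t+u)`, `y(t)y(u) = y(t+u)` and, with `w(t) = x(t) y(−t⁻¹) x(t)` and `w'(t) = y(t) x(−t⁻¹) y(t)` for `t ≠ 0`, the relations `w(t) x(u) w(t)⁻¹ = y(−t⁻² u)` and `w'(t) y(u) w'(t)⁻¹ = x(−t⁻² u)`, present `SL₂(K)`, with `x(t) ↦ (1 t; 0 1)` and `y(t) ↦ (1 0; t 1)`. -/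
theorem result {K : Type*} [Field K] [Finite K] :
    ∃ e : PresentedGroup
        ({g : FreeGroup (Bool × K) | ∃ (b : Bool) (t u : K), g = FreeGroup.of (b, t) * FreeGroup.of (b, u) * (FreeGroup.of (b, t + u))⁻¹} ∪
          {g | ∃ (b : Bool) (t u : K), t ≠ 0 ∧
            g = (FreeGroup.of (b, t) * FreeGroup.of (!b, -t⁻¹) * FreeGroup.of (b, t)) * FreeGroup.of (b, u) *
                  (FreeGroup.of (b, t) * FreeGroup.of (!b, -t⁻¹) * FreeGroup.of (b, t))⁻¹ * (FreeGroup.of (!b, -(t⁻¹ ^ 2 * u)))⁻¹})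
        ≃* Matrix.SpecialLinearGroup (Fin 2) K,
      (∀ t : K, ((e (PresentedGroup.of (true, t)) : Matrix (Fin 2) (Fin 2) K)) = !![1, t; 0, 1]) ∧
      (∀ t : K, ((e (PresentedGroup.of (false, t)) : Matrix (Fin 2) (Fin 2) K)) = !![1, 0; t, 1]) := by
  exact main


end Cfsg.Agent.S2426
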