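import Mathlib
import Cfsg.Statements.S2427
import Cfsg.Agent.Helper7.LinearCard
import Cfsg.Agent.S0261

set_option autoImplicit false
open Cfsg

namespace Cfsg.Agent.S2427

/-- The group `SL₂(𝔽₃)`. -/
abbrev G := Matrix.SpecialLinearGroup (Fin 2) (ZMod 3)

theorem card_G : Nat.card G = 24 := by
  rw [Nat.card_eq_fintype_card]
  decide +kernel

theorem fact2 : (24 : ℕ).factorization 2 = 3 := by decide +kernel

theorem fact3 : (24 : ℕ).factorization 3 = 1 := by decide +kernel

theorem mul_mem_aux : ∀ g h : G, g ^ 4 = 1 → h ^ 4 = 1 → (g * h) ^ 4 = 1 := by decide +kernel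

/-- The quaternion subgroup: the elements of order dividing 4. -/
def Q : Subgroup G where
  carrier := {g | g ^ 4 = 1}
  mul_mem' := by
    intro a b ha hb
    exact mul_mem_aux a b ha hb
  one_mem' := one_pow 4
  inv_mem' := by
    intro a ha
    show a⁻¹ ^ 4 = 1
    rw [inv_pow, show a ^ 4 = 1 from ha, inv_one]

theorem mem_Q (g : G) : g ∈ Q ↔ g ^ 4 = 1 := Iff.rfl

theorem card_Q : Nat.card Q = 8 := by
  have : Nat.card Q = Fintype.card {g : G // g ^ 4 = 1} := by
    rw [← Nat.card_eq_fintype_card]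
    rfl
  rw [this]
  decide +kernel

theorem comm_mem_aux : ∀ a b : G, (a * b * a⁻¹ * b⁻¹) ^ 4 = 1 := by decide +kernel

theorem comm_surj_aux : ∀ g : G, g ^ 4 = 1 → ∃ a b : G, a * b * a⁻¹ * b⁻¹ = g := by
  decide +kernel

theorem commutator_eq_Q : commutator G = Q := by
  rw [commutator_eq_closure]
  apply le_antisymm
  · rw [Subgroup.closure_le]
    intro g hg
    rw [mem_commutatorSet_iff] at hg
    obtain ⟨a, b, rfl⟩ := hg
    exact comm_mem_aux a b
  · intro g hg
    obtain ⟨a, b, hab⟩ := comm_surj_aux g hg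
    apply Subgroup.subset_closure
    rw [mem_commutatorSet_iff]
    exact ⟨a, b, hab⟩

theorem center_aux : ∀ g : G, (∀ h : G, h * g = g * h) ↔ (g = 1 ∨ g = -1) := by decide +kernel

theorem mem_center (g : G) : g ∈ Subgroup.center G ↔ (g = 1 ∨ g = -1) := by
  rw [Subgroup.mem_center_iff]
  exact center_aux g

theorem F1 : ∀ x : G, x ^ 4 ≠ 1 → ∃ a : G, (a * x * a⁻¹ * x⁻¹) ^ 2 ≠ 1 := by decide +kernel

theorem F2 : ∀ y : G, y ^ 4 = 1 → y ^ 2 ≠ 1 → ∀ z : G, z ^ 4 = 1 →
    z = 1 ∨ z = y ^ 2 ∨ ∃ a : G, z = a * y * a⁻¹ := by decide +kernel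

theorem F3 : ∀ x : G, x ^ 4 ≠ 1 → ∀ g : G,
    (g ^ 4 = 1 ∨ (g * x) ^ 4 = 1 ∨ (g * x ^ 2) ^ 4 = 1) := by decide +kernel

theorem F4 : ∀ g : G, g ^ 2 = 1 → g = 1 ∨ g = -1 := by decide +kernel

theorem Q_le_of_mem (N : Subgroup G) (hN : N.Normal) (y : G) (hyN : y ∈ N) (hy4 : y ^ 4 = 1)
    (hy2 : y ^ 2 ≠ 1) : Q ≤ N := by
  intro z hz
  rcases F2 y hy4 hy2 z hz with h | h | ⟨a, h⟩
  · rw [h]
    exact N.one_mem
  · rw [h]
    exact N.pow_mem hyN 2
  · rw [h]
    exact hN.conj_mem y hyN a

theorem normal_cases (N : Subgroup G) (hN : N.Normal) :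
    N = ⊥ ∨ N = ⊤ ∨ N = Subgroup.center G ∨ N = Q := by
  by_cases h1 : ∃ x ∈ N, x ^ 4 ≠ 1
  · -- N = ⊤
    obtain ⟨x, hxN, hx⟩ := h1
    right; left
    obtain ⟨a, ha⟩ := F1 x hx
    have hyN : a * x * a⁻¹ * x⁻¹ ∈ N := N.mul_mem (hN.conj_mem x hxN a) (N.inv_mem hxN)
    have hQ : Q ≤ N := Q_le_of_mem N hN _ hyN (comm_mem_aux a x) ha
    rw [eq_top_iff]
    intro g _
    rcases F3 x hx g with h | h | h
    · exact hQ h
    · have h2 : g * x ∈ N := hQ h
      have : g = (g * x) * x⁻¹ := by group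
      rw [this]
      exact N.mul_mem h2 (N.inv_mem hxN)
    · have h2 : g * x ^ 2 ∈ N := hQ h
      have : g = (g * x ^ 2) * (x ^ 2)⁻¹ := by group
      rw [this]
      exact N.mul_mem h2 (N.inv_mem (N.pow_mem hxN 2))
  · push Not at h1
    have hNQ : N ≤ Q := fun x hx => h1 x hx
    by_cases h2 : ∃ y ∈ N, y ^ 2 ≠ 1
    · obtain ⟨y, hyN, hy⟩ := h2
      right; right; right
      exact le_antisymm hNQ (Q_le_of_mem N hN y hyN (h1 y hyN) hy)
    · push Not at h2
      by_cases h3 : (-1 : G) ∈ N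
      · right; right; left
        ext g
        rw [mem_center]
        constructor
        · intro hg
          exact F4 g (h2 g hg)
        · rintro (h | h)
          · rw [h]
            exact N.one_mem
          · rw [h]
            exact h3
      · left
        rw [eq_bot_iff]
        intro g hg
        rcases F4 g (h2 g hg) with h | h
        · rw [h]
          exact Subgroup.mem_bot.mpr rfl
        · rw [h] at hg
          exact absurd hg h3

/-- The group SL₂ over the field with 3 elements has order 24 and centre of order 2; its commutator subgroup has order 8, is isomorphic to the quaternion group of order 8 and is complemented by every Sylow 3-subgroup (so the group is a semidirect product of a quaternion group of order 8 by a cyclic group of order 3); and its only normal subgroups besides the trivial subgroup and the whole group are the centre and the commutator subgroup. -/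
theorem result :
    Nat.card (Matrix.SpecialLinearGroup (Fin 2) (ZMod 3)) = 24 ∧
    Nat.card (Subgroup.center (Matrix.SpecialLinearGroup (Fin 2) (ZMod 3))) = 2 ∧
    Nat.card (commutator (Matrix.SpecialLinearGroup (Fin 2) (ZMod 3))) = 8 ∧
    Nonempty (commutator (Matrix.SpecialLinearGroup (Fin 2) (ZMod 3)) ≃* QuaternionGroup 2) ∧
    (∀ P : Sylow 3 (Matrix.SpecialLinearGroup (Fin 2) (ZMod 3)),
      Subgroup.IsComplement' (commutator (Matrix.SpecialLinearGroup (Fin 2) (ZMod 3)))
        (P : Subgroup (Matrix.SpecialLinearGroup (Fin 2) (ZMod 3)))) ∧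
    ∀ N : Subgroup (Matrix.SpecialLinearGroup (Fin 2) (ZMod 3)), N.Normal →
      N = ⊥ ∨ N = ⊤ ∨ N = Subgroup.center (Matrix.SpecialLinearGroup (Fin 2) (ZMod 3)) ∨
        N = commutator (Matrix.SpecialLinearGroup (Fin 2) (ZMod 3)) := by
  classical
  refine ⟨card_G, ?_, ?_, ?_, ?_, ?_⟩
  · have := Cfsg.Agent.Helper7.card_center_SL (F := ZMod 3) 2 (by norm_num)
    rw [this, ZMod.card]
    rfl
  · rw [commutator_eq_Q, card_Q]
  · -- quaternion
    rw [commutator_eq_Q]
    have hcard : Nat.card Q = 2 ^ (Nat.card G).factorization 2 := by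
      rw [card_Q, card_G, fact2]
      norm_num
    obtain ⟨k, hk, ⟨e⟩⟩ := Cfsg.Agent.S0261.result (F := ZMod 3) (by rw [ZMod.card]; decide)
      (Sylow.ofCard Q hcard)
    have e' : Q ≃* QuaternionGroup (2 ^ k) :=
      (MulEquiv.subgroupCongr (Sylow.coe_ofCard Q hcard)).symm.trans e
    have hk1 : k = 1 := by
      have h1 := Nat.card_congr e'.toEquiv
      haveI : NeZero (2 ^ k) := ⟨pow_ne_zero _ (by norm_num)⟩
      rw [card_Q, Nat.card_eq_fintype_card, QuaternionGroup.card] at h1
      have h2 : 2 ^ k = 2 ^ 1 := by omega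
      exact Nat.pow_right_injective (le_refl 2) h2
    subst hk1
    exact ⟨e'⟩
  · intro P
    rw [commutator_eq_Q]
    have hP : Nat.card (P : Subgroup G) = 3 := by
      rw [Sylow.card_eq_multiplicity, card_G, fact3]
      rfl
    apply Subgroup.isComplement'_of_coprime
    · rw [card_Q, hP, card_G]
    · rw [card_Q, hP]
      decide
  · intro N hN
    rw [commutator_eq_Q]
    exact normal_cases N hN

end Cfsg.Agent.S2427
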