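import Mathlib
import Cfsg.Statements.S2429
import Cfsg.Agent.Helper8.SL2Ell2
import Cfsg.Agent.Helper7.FiniteFieldBasics

set_option autoImplicit false
open Cfsg

namespace Cfsg.Agent.S2429

open Cfsg.Agent.Helper8.SL2C Cfsg.Agent.Helper7.SL2 Cfsg.Agent.Helper8

/-- Let F be a finite field with q elements, q odd. Then SL₂ over F contains a cyclic subgroup T′ of order q + 1 (a non-split torus) with the following properties: T′ is its own centraliser, and indeed the centraliser of each element of T′ other than 1 and −1 is exactly T′; every element of SL₂ having no eigenvector in F² is conjugate to an element of T′; the normaliser of T′ has order 2(q + 1) and exactly (q + 7)/2 conjugacy classes; and every element of that normaliser outside T′ has square −1. -/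
theorem result {F : Type*} [Field F] [Fintype F] (hodd : Odd (Fintype.card F)) :
    ∃ T' : Subgroup (Matrix.SpecialLinearGroup (Fin 2) F), IsCyclic T' ∧ Nat.card T' = Fintype.card F + 1 ∧
      Subgroup.centralizer ((T' : Set (Matrix.SpecialLinearGroup (Fin 2) F))) = T' ∧
      (∀ g : Matrix.SpecialLinearGroup (Fin 2) F, g ∈ T' → (g : Matrix (Fin 2) (Fin 2) F) ≠ 1 → (g : Matrix (Fin 2) (Fin 2) F) ≠ -1 → Subgroup.centralizer ({g} : Set (Matrix.SpecialLinearGroup (Fin 2) F)) = T') ∧
      (∀ g : Matrix.SpecialLinearGroup (Fin 2) F, (∀ (c : F) (v : Fin 2 → F), v ≠ 0 → (g : Matrix (Fin 2) (Fin 2) F).mulVec v ≠ c • v) → ∃ h : Matrix.SpecialLinearGroup (Fin 2) F, h * g * h⁻¹ ∈ T') ∧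
      Nat.card (Subgroup.normalizer (T' : Set (Matrix.SpecialLinearGroup (Fin 2) F))) = 2 * (Fintype.card F + 1) ∧
      Nat.card (ConjClasses (Subgroup.normalizer (T' : Set (Matrix.SpecialLinearGroup (Fin 2) F)))) = (Fintype.card F + 7) / 2 ∧
      ∀ g : Matrix.SpecialLinearGroup (Fin 2) F, g ∈ Subgroup.normalizer (T' : Set (Matrix.SpecialLinearGroup (Fin 2) F)) → g ∉ T' → ((g * g) : Matrix (Fin 2) (Fin 2) F) = -1 := by
  have h2 : (2 : F) ≠ 0 := Cfsg.Agent.Helper7.two_ne_zero_of_odd_card hodd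
  obtain ⟨t₀, ht₀⟩ := exists_ellt (F := F)
  have hne := ellt_sq_ne ht₀
  obtain ⟨w, hw⟩ := exists_isW ht₀
  have hidx := index_Tc_subgroupOf hne hw
  have hcardsub : Nat.card ((Tc t₀).subgroupOf (Subgroup.normalizer
      ((Tc t₀ : Subgroup (Matrix.SpecialLinearGroup (Fin 2) F)) :
        Set (Matrix.SpecialLinearGroup (Fin 2) F)))) = Fintype.card F + 1 := by
    rw [Nat.card_congr (Subgroup.subgroupOfEquivOfLe (Subgroup.le_normalizer)).toEquiv, card_Tc ht₀]
  have hsq : ∀ g : Matrix.SpecialLinearGroup (Fin 2) F,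
      g ∈ Subgroup.normalizer ((Tc t₀ : Subgroup (Matrix.SpecialLinearGroup (Fin 2) F)) :
        Set (Matrix.SpecialLinearGroup (Fin 2) F)) → g ∉ Tc t₀ → g * g = -1 := by
    intro g hg hgT
    rcases (mem_normalizer_Tc_iff hne).mp hg with h | h
    · exact absurd h hgT
    · exact sq_of_isW h
  refine ⟨Tc t₀, isCyclic_Tc hne, card_Tc ht₀, centralizer_Tc t₀, ?_, ?_, ?_, ?_, ?_⟩
  · intro g hg h1 h1'
    apply centralizer_of_mem_Tc hg
    intro hz
    rcases eq_one_or_neg_one_of_mem_Tc hg hz with h | h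
    · apply h1
      rw [h]
      rfl
    · apply h1'
      rw [h]
      exact Matrix.SpecialLinearGroup.coe_neg 1
  · intro g hg
    exact exists_conj_mem_Tc h2 ht₀ hg
  · rw [← Subgroup.card_mul_index ((Tc t₀).subgroupOf (Subgroup.normalizer
      ((Tc t₀ : Subgroup (Matrix.SpecialLinearGroup (Fin 2) F)) :
        Set (Matrix.SpecialLinearGroup (Fin 2) F)))), hidx, hcardsub, mul_comm]
  · have := Dicyclic.card_conjClasses ((Tc t₀).subgroupOf (Subgroup.normalizer
      ((Tc t₀ : Subgroup (Matrix.SpecialLinearGroup (Fin 2) F)) :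
        Set (Matrix.SpecialLinearGroup (Fin 2) F))))
      ⟨-1, Subgroup.le_normalizer (neg_one_mem_Tc t₀)⟩ hidx ?_ ?_ ?_ ?_ ?_ ?_
    · rw [hcardsub] at this
      omega
    · rintro ⟨a, ha'⟩ ha ⟨b, hb'⟩ hb
      rw [Subgroup.mem_subgroupOf] at ha hb
      exact Subtype.ext (Tc_comm ha hb)
    · rw [Subgroup.mem_subgroupOf]
      exact neg_one_mem_Tc t₀
    · intro h
      exact neg_one_ne_one h2 (congrArg Subtype.val h)
    · exact Subtype.ext neg_one_mul_neg_one
    · rintro ⟨x, hx'⟩ hx
      rw [Subgroup.mem_subgroupOf] at hx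
      exact Subtype.ext (hsq x hx' hx)
    · rintro ⟨a, ha'⟩ ha h
      rcases eq_one_or_neg_one_of_sq h2 (congrArg Subtype.val h) with h1 | h1
      · exact Or.inl (Subtype.ext h1)
      · exact Or.inr (Subtype.ext h1)
  · intro g hg hgT
    have h := hsq g hg hgT
    have h' := congrArg (fun x : Matrix.SpecialLinearGroup (Fin 2) F => (x : Matrix (Fin 2) (Fin 2) F)) h
    simp only [Matrix.SpecialLinearGroup.coe_mul, Matrix.SpecialLinearGroup.coe_neg,
      Matrix.SpecialLinearGroup.coe_one] at h'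
    exact h'

end Cfsg.Agent.S2429
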