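import Mathlib
import Cfsg.Statements.S2430
import Cfsg.Agent.Helper8.SL2Ell2
import Cfsg.Agent.Helper8.SylowTorus
import Cfsg.Agent.Helper7.FiniteFieldBasics

set_option autoImplicit false
open Cfsg

namespace Cfsg.Agent.S2430

open Cfsg.Agent.Helper8.SL2C Cfsg.Agent.Helper7.SL2 Cfsg.Agent.Helper8 Cfsg.Agent.Helper8.SylowTorus

theorem card_normalizer_Tc {F : Type*} [Field F] [Fintype F] {t : F} (ht : Ellt t) :
    Nat.card (Subgroup.normalizer ((Tc t : Subgroup (Matrix.SpecialLinearGroup (Fin 2) F)) :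
      Set (Matrix.SpecialLinearGroup (Fin 2) F))) = 2 * (Fintype.card F + 1) := by
  obtain ⟨w, hw⟩ := exists_isW ht
  have hidx := index_Tc_subgroupOf (ellt_sq_ne ht) hw
  rw [← Subgroup.card_mul_index ((Tc t).subgroupOf (Subgroup.normalizer
      ((Tc t : Subgroup (Matrix.SpecialLinearGroup (Fin 2) F)) :
        Set (Matrix.SpecialLinearGroup (Fin 2) F)))), hidx,
    Nat.card_congr (Subgroup.subgroupOfEquivOfLe (Subgroup.le_normalizer)).toEquiv, card_Tc ht, mul_comm]

theorem index_Tc {F : Type*} [Field F] [Fintype F] {t : F} (ht : Ellt t) :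
    (Tc t).index = Fintype.card F * (Fintype.card F - 1) := by
  have h2 := Subgroup.card_mul_index (Tc t)
  rw [card_Tc ht, card_SL2] at h2
  have hq : 2 ≤ Fintype.card F := Fintype.one_lt_card
  obtain ⟨k, hk⟩ : ∃ k, Fintype.card F = k + 2 := ⟨Fintype.card F - 2, by omega⟩
  rw [hk] at h2 ⊢
  have e1 : (k + 2) ^ 2 - 1 = (k + 1) * (k + 3) := by
    apply Nat.sub_eq_of_eq_add; ring
  have e2 : k + 2 - 1 = k + 1 := by omega
  rw [e1] at h2
  rw [e2]
  have h3 : (k + 2 + 1) * (Tc t).index = (k + 2 + 1) * ((k + 2) * (k + 1)) := by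
    linarith [h2]
  exact Nat.eq_of_mul_eq_mul_left (by positivity) h3

theorem orderOf_ne_of_sq {G : Type*} [Group G] {x : G} (h : x * x = 1) {ℓ : ℕ} (hℓ : ℓ.Prime)
    (hℓ2 : ℓ ≠ 2) : orderOf x ≠ ℓ := by
  intro ho
  have : orderOf x ∣ 2 := orderOf_dvd_of_pow_eq_one (by rw [pow_two]; exact h)
  rw [ho] at this
  exact hℓ2 ((Nat.prime_dvd_prime_iff_eq hℓ Nat.prime_two).mp this)

/-- Let F be a finite field with q elements, q odd, ℓ an odd prime, and P a Sylow ℓ-subgroup of SL₂ over F. If ℓ divides q − 1, the centraliser of P is cyclic of order q − 1 (a split torus) and the normaliser of P has order 2(q − 1); if ℓ divides q + 1, the centraliser of P is cyclic of order q + 1 (a non-split torus) and the normaliser of P has order 2(q + 1). -/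
theorem result {F : Type*} [Field F] [Fintype F] (hodd : Odd (Fintype.card F)) (ℓ : ℕ) [Fact ℓ.Prime] (hℓ : ℓ ≠ 2)
    (P : Sylow ℓ (Matrix.SpecialLinearGroup (Fin 2) F)) :
    (ℓ ∣ Fintype.card F - 1 →
      Nat.card (Subgroup.centralizer ((P : Subgroup (Matrix.SpecialLinearGroup (Fin 2) F)) : Set (Matrix.SpecialLinearGroup (Fin 2) F))) = Fintype.card F - 1 ∧
      IsCyclic (Subgroup.centralizer ((P : Subgroup (Matrix.SpecialLinearGroup (Fin 2) F)) : Set (Matrix.SpecialLinearGroup (Fin 2) F))) ∧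
      Nat.card (Subgroup.normalizer ((P : Subgroup (Matrix.SpecialLinearGroup (Fin 2) F)) : Set (Matrix.SpecialLinearGroup (Fin 2) F))) = 2 * (Fintype.card F - 1)) ∧
    (ℓ ∣ Fintype.card F + 1 →
      Nat.card (Subgroup.centralizer ((P : Subgroup (Matrix.SpecialLinearGroup (Fin 2) F)) : Set (Matrix.SpecialLinearGroup (Fin 2) F))) = Fintype.card F + 1 ∧
      IsCyclic (Subgroup.centralizer ((P : Subgroup (Matrix.SpecialLinearGroup (Fin 2) F)) : Set (Matrix.SpecialLinearGroup (Fin 2) F))) ∧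
      Nat.card (Subgroup.normalizer ((P : Subgroup (Matrix.SpecialLinearGroup (Fin 2) F)) : Set (Matrix.SpecialLinearGroup (Fin 2) F))) = 2 * (Fintype.card F + 1)) := by
  have h2 : (2 : F) ≠ 0 := Cfsg.Agent.Helper7.two_ne_zero_of_odd_card hodd
  have hℓp : ℓ.Prime := Fact.out
  have hq : 2 ≤ Fintype.card F := Fintype.one_lt_card
  constructor
  · intro hdvd
    have hidx : ¬ ℓ ∣ (D F).index := by
      rw [D_eq_range, index_torus]
      intro h
      rcases (Nat.Prime.dvd_mul hℓp).mp h with h | h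
      · have : ℓ ∣ 1 := by
          have := Nat.dvd_sub h hdvd
          rwa [show Fintype.card F - (Fintype.card F - 1) = 1 by omega] at this
        exact hℓp.one_lt.ne' (Nat.dvd_one.mp this)
      · have : ℓ ∣ 2 := by
          have := Nat.dvd_sub h hdvd
          rwa [show Fintype.card F + 1 - (Fintype.card F - 1) = 2 by omega] at this
        exact hℓ ((Nat.prime_dvd_prime_iff_eq hℓp Nat.prime_two).mp this)
    have hdvd' : ℓ ∣ Nat.card (D F) := by rw [card_D]; exact hdvd
    have hne : ∀ x ∈ D F, orderOf x = ℓ → (x : Matrix (Fin 2) (Fin 2) F) 0 0 ^ 2 ≠ 1 := by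
      intro x hx ho h1
      apply orderOf_ne_of_sq (x := x) _ hℓp hℓ ho
      have hd := diag_of_mem_D hx
      have h11 : (x : Matrix (Fin 2) (Fin 2) F) 1 1 = (x : Matrix (Fin 2) (Fin 2) F) 0 0 := by
        have h0 : (x : Matrix (Fin 2) (Fin 2) F) 0 0 ≠ 0 := by
          intro h0; rw [h0, zero_mul] at hd; exact zero_ne_one hd
        apply mul_left_cancel₀ h0
        rw [hd, ← sq, h1]
      apply ext'
      · rw [coe_mul_apply, hx.1, one_00]; linear_combination h1
      · rw [coe_mul_apply, hx.1, one_01]; ring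
      · rw [coe_mul_apply, hx.2, one_10]; ring
      · rw [coe_mul_apply, hx.2, h11, one_11]; linear_combination h1
    have hcent : ∀ x ∈ D F, orderOf x = ℓ →
        Subgroup.centralizer ({x} : Set (Matrix.SpecialLinearGroup (Fin 2) F)) = D F :=
      fun x hx ho => centralizer_diag hx (hne x hx ho)
    obtain ⟨g, hc, hn⟩ := sylow_cent_norm ℓ (D F) (fun a ha b hb => D_comm ha hb) hidx hdvd' hcent P
    obtain ⟨x, hx⟩ := exists_prime_orderOf_dvd_card' ℓ hdvd'
    have hN : Subgroup.normalizer (D F : Set (Matrix.SpecialLinearGroup (Fin 2) F)) = Mon F :=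
      normalizer_D ⟨x, x.2, hne x x.2 (by rw [Subgroup.orderOf_coe, hx])⟩
    rw [hc, hn, hN, card_map_conj, card_map_conj, card_D, card_Mon]
    haveI := isCyclic_D (F := F)
    exact ⟨rfl, isCyclic_map_conj _ g, rfl⟩
  · intro hdvd
    obtain ⟨t₀, ht₀⟩ := exists_ellt (F := F)
    have hidx : ¬ ℓ ∣ (Tc t₀).index := by
      rw [index_Tc ht₀]
      intro h
      rcases (Nat.Prime.dvd_mul hℓp).mp h with h | h
      · have : ℓ ∣ 1 := by
          have := Nat.dvd_sub hdvd h
          rwa [show Fintype.card F + 1 - Fintype.card F = 1 by omega] at this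
        exact hℓp.one_lt.ne' (Nat.dvd_one.mp this)
      · have : ℓ ∣ 2 := by
          have := Nat.dvd_sub hdvd h
          rwa [show Fintype.card F + 1 - (Fintype.card F - 1) = 2 by omega] at this
        exact hℓ ((Nat.prime_dvd_prime_iff_eq hℓp Nat.prime_two).mp this)
    have hdvd' : ℓ ∣ Nat.card (Tc t₀) := by rw [card_Tc ht₀]; exact hdvd
    have hcent : ∀ x ∈ Tc t₀, orderOf x = ℓ →
        Subgroup.centralizer ({x} : Set (Matrix.SpecialLinearGroup (Fin 2) F)) = Tc t₀ := by
      intro x hx ho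
      apply centralizer_of_mem_Tc hx
      intro hz
      rcases eq_one_or_neg_one_of_mem_Tc hx hz with h | h
      · rw [h, orderOf_one] at ho
        exact hℓp.one_lt.ne ho
      · exact orderOf_ne_of_sq (x := x) (by rw [h]; exact neg_one_mul_neg_one) hℓp hℓ ho
    obtain ⟨g, hc, hn⟩ := sylow_cent_norm ℓ (Tc t₀) (fun a ha b hb => Tc_comm ha hb) hidx hdvd' hcent P
    rw [hc, hn, card_map_conj, card_map_conj, card_Tc ht₀, card_normalizer_Tc ht₀]
    haveI := isCyclic_Tc (ellt_sq_ne ht₀)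
    exact ⟨rfl, isCyclic_map_conj _ g, rfl⟩

end Cfsg.Agent.S2430
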