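import Mathlib
import Cfsg.Statements.S2434
import Cfsg.Agent.Helper8.SL2Cyclic

set_option autoImplicit false
open Cfsg

namespace Cfsg.Agent.S2434

open Matrix Cfsg.Agent.Helper8.SL2C Cfsg.Agent.Helper7.SL2 Cfsg.Agent.Helper6

variable {F : Type*} [Field F]

/-- conjugation onto the standard torus. -/
def eHom (C : Subgroup (SpecialLinearGroup (Fin 2) F)) (t : F) (h : SpecialLinearGroup (Fin 2) F)
    (hmem : ∀ c : SpecialLinearGroup (Fin 2) F, c ∈ C ↔ h * c * h⁻¹ ∈ Tc t) : C →* Tc t where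
  toFun c := ⟨h * c * h⁻¹, (hmem c).mp c.2⟩
  map_one' := by
    apply Subtype.ext
    simp
  map_mul' a b := by
    apply Subtype.ext
    simp only [Subgroup.coe_mul]
    group

/-- conjugation back from the standard torus. -/
def fHom (C : Subgroup (SpecialLinearGroup (Fin 2) F)) (t : F) (h : SpecialLinearGroup (Fin 2) F)
    (hmem : ∀ c : SpecialLinearGroup (Fin 2) F, c ∈ C ↔ h * c * h⁻¹ ∈ Tc t) : Tc t →* C where
  toFun y := ⟨h⁻¹ * y * h, (hmem _).mpr (by
    have e : h * (h⁻¹ * (y : SpecialLinearGroup (Fin 2) F) * h) * h⁻¹ = y := by group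
    rw [e]
    exact y.2)⟩
  map_one' := by
    apply Subtype.ext
    simp
  map_mul' a b := by
    apply Subtype.ext
    simp only [Subgroup.coe_mul]
    group

theorem fHom_eHom (C : Subgroup (SpecialLinearGroup (Fin 2) F)) (t : F)
    (h : SpecialLinearGroup (Fin 2) F)
    (hmem : ∀ c : SpecialLinearGroup (Fin 2) F, c ∈ C ↔ h * c * h⁻¹ ∈ Tc t) (c : C) :
    fHom C t h hmem (eHom C t h hmem c) = c := by
  apply Subtype.ext
  change h⁻¹ * (h * (c : SpecialLinearGroup (Fin 2) F) * h⁻¹) * h = c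
  group

theorem eHom_fHom (C : Subgroup (SpecialLinearGroup (Fin 2) F)) (t : F)
    (h : SpecialLinearGroup (Fin 2) F)
    (hmem : ∀ c : SpecialLinearGroup (Fin 2) F, c ∈ C ↔ h * c * h⁻¹ ∈ Tc t) (y : Tc t) :
    eHom C t h hmem (fHom C t h hmem y) = y := by
  apply Subtype.ext
  change h * (h⁻¹ * (y : SpecialLinearGroup (Fin 2) F) * h) * h⁻¹ = y
  group

theorem eHom_coe (C : Subgroup (SpecialLinearGroup (Fin 2) F)) (t : F)
    (h : SpecialLinearGroup (Fin 2) F)
    (hmem : ∀ c : SpecialLinearGroup (Fin 2) F, c ∈ C ↔ h * c * h⁻¹ ∈ Tc t) (c : C) :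
    ((eHom C t h hmem c : Tc t) : SpecialLinearGroup (Fin 2) F) = h * c * h⁻¹ := rfl

section fin
variable [Fintype F] [DecidableEq F]

theorem eHom_10_ne (C : Subgroup (SpecialLinearGroup (Fin 2) F)) (t : F)
    (h : SpecialLinearGroup (Fin 2) F)
    (hmem : ∀ c : SpecialLinearGroup (Fin 2) F, c ∈ C ↔ h * c * h⁻¹ ∈ Tc t) (c : C)
    (hc : (c : SpecialLinearGroup (Fin 2) F) ∉ Subgroup.center (SpecialLinearGroup (Fin 2) F)) :
    (((eHom C t h hmem c : Tc t) : SpecialLinearGroup (Fin 2) F) :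
      Matrix (Fin 2) (Fin 2) F) 1 0 ≠ 0 := by
  intro hz
  apply hc
  have hcen := central_of_mem_Tc (eHom C t h hmem c).2 hz
  rw [eHom_coe] at hcen
  have := (inferInstance : (Subgroup.center (SpecialLinearGroup (Fin 2) F)).Normal).conj_mem _ hcen h⁻¹
  have e : h⁻¹ * (h * (c : SpecialLinearGroup (Fin 2) F) * h⁻¹) * h⁻¹⁻¹ = c := by group
  rw [e] at this
  exact this

/-- the value of a cuspidal virtual character at a non-central element of `C`. -/
theorem cuspOf_apply (C : Subgroup (SpecialLinearGroup (Fin 2) F)) {t : F} (ht : Ellt t)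
    (h : SpecialLinearGroup (Fin 2) F)
    (hmem : ∀ c : SpecialLinearGroup (Fin 2) F, c ∈ C ↔ h * c * h⁻¹ ∈ Tc t)
    (θ' : Tc t →* ℂˣ) (c : C)
    (hc : (c : SpecialLinearGroup (Fin 2) F) ∉ Subgroup.center (SpecialLinearGroup (Fin 2) F)) :
    cuspOf θ' (c : SpecialLinearGroup (Fin 2) F) =
      -((θ' (eHom C t h hmem c)).val + (θ' (eHom C t h hmem c))⁻¹.val) := by
  rw [← isClassFunction_cuspOf θ' (c : SpecialLinearGroup (Fin 2) F) h, ← eHom_coe C t h hmem c]
  unfold cuspOf
  rw [cusp_of_mem_Tc ht _ θ' (eHom C t h hmem c) (eHom_10_ne C t h hmem c hc)]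
  unfold thT
  rw [map_inv]

end fin

/-- Let F be a finite field with q elements, q odd, and C a cyclic subgroup of order q + 1 of SL₂ over F (a non-split torus; it contains the centre). For every homomorphism θ from C to the non-zero complex numbers with θ² ≠ 1 there is an irreducible complex character χ of degree q − 1 such that χ(c) = −θ(c) − θ(c)⁻¹ for every non-central c in C, χ(zg) = θ(z)χ(g) for central z in C, χ vanishes at diagonal elements with entry a, a² ≠ 1, and χ takes the value −1 at every upper unitriangular element other than 1. Conversely every irreducible character of degree q − 1 has, for some such θ, the values −θ(c) − θ(c)⁻¹ at the non-central elements c of C (for q ≥ 5 these are exactly the cuspidal characters of degree q − 1). -/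
theorem result {F : Type*} [Field F] [Fintype F] (hodd : Odd (Fintype.card F))
    (C : Subgroup (Matrix.SpecialLinearGroup (Fin 2) F)) (hC : IsCyclic C) (hcard : Nat.card C = Fintype.card F + 1) :
    (∀ θ : C →* ℂˣ, (∃ c : C, θ c ^ 2 ≠ 1) →
      ∃ χ : Matrix.SpecialLinearGroup (Fin 2) F → ℂ, Cfsg.IsIrrCharacter (Matrix.SpecialLinearGroup (Fin 2) F) χ ∧ χ 1 = (Fintype.card F : ℂ) - 1 ∧
        (∀ c : C, (c : Matrix.SpecialLinearGroup (Fin 2) F) ∉ Subgroup.center (Matrix.SpecialLinearGroup (Fin 2) F) → χ c = -((θ c).val + (θ c)⁻¹.val)) ∧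
        (∀ c : C, (c : Matrix.SpecialLinearGroup (Fin 2) F) ∈ Subgroup.center (Matrix.SpecialLinearGroup (Fin 2) F) → ∀ g : Matrix.SpecialLinearGroup (Fin 2) F, χ ((c : Matrix.SpecialLinearGroup (Fin 2) F) * g) = (θ c).val * χ g) ∧
        (∀ g : Matrix.SpecialLinearGroup (Fin 2) F, (g : Matrix (Fin 2) (Fin 2) F) 0 1 = 0 → (g : Matrix (Fin 2) (Fin 2) F) 1 0 = 0 → (g : Matrix (Fin 2) (Fin 2) F) 0 0 ^ 2 ≠ 1 → χ g = 0) ∧
        (∀ g : Matrix.SpecialLinearGroup (Fin 2) F, (g : Matrix (Fin 2) (Fin 2) F) 1 0 = 0 → (g : Matrix (Fin 2) (Fin 2) F) 0 0 = 1 → (g : Matrix (Fin 2) (Fin 2) F) 1 1 = 1 → (g : Matrix (Fin 2) (Fin 2) F) 0 1 ≠ 0 → χ g = -1)) ∧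
    (∀ χ : Matrix.SpecialLinearGroup (Fin 2) F → ℂ, Cfsg.IsIrrCharacter (Matrix.SpecialLinearGroup (Fin 2) F) χ → χ 1 = (Fintype.card F : ℂ) - 1 →
      ∃ θ : C →* ℂˣ, (∃ c : C, θ c ^ 2 ≠ 1) ∧
        ∀ c : C, (c : Matrix.SpecialLinearGroup (Fin 2) F) ∉ Subgroup.center (Matrix.SpecialLinearGroup (Fin 2) F) → χ c = -((θ c).val + (θ c)⁻¹.val)) := by
  classical
  obtain ⟨t, h, ht, hmem⟩ := exists_conj_Tc_of_cyclic C hC hcard
  have hq2 : 2 ≤ Fintype.card F := Fintype.one_lt_card
  constructor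
  · intro θ hθ
    obtain ⟨c₀, hc₀⟩ := hθ
    set θ' : Tc t →* ℂˣ := θ.comp (fHom C t h hmem) with hθ'
    have hθe : ∀ c : C, θ' (eHom C t h hmem c) = θ c := by
      intro c
      rw [hθ', MonoidHom.comp_apply, fHom_eHom]
    have hne : θ' ≠ θ'⁻¹ := by
      intro hcon
      apply hc₀
      have := congrArg (fun ψ : Tc t →* ℂˣ => ψ (eHom C t h hmem c₀)) hcon
      simp only [MonoidHom.inv_apply, hθe] at this
      rw [pow_two]
      exact mul_eq_one_iff_eq_inv.mpr this
    refine ⟨cuspOf θ', isIrrCharacter_cuspOf ht hne, cuspOf_one ht θ', ?_, ?_, ?_, ?_⟩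
    · intro c hc
      rw [cuspOf_apply C ht h hmem θ' c hc, hθe]
    · intro c hc g
      have hcen : h * (c : SpecialLinearGroup (Fin 2) F) * h⁻¹ = c := by
        rw [Subgroup.mem_center_iff] at hc
        rw [hc h, mul_assoc, mul_inv_cancel, mul_one]
      have hcoe : ((eHom C t h hmem c : Tc t) : SpecialLinearGroup (Fin 2) F) = c := by
        rw [eHom_coe, hcen]
      have := cusp_central_mul (alphaOf θ') θ' (compat_alphaOf θ') (eHom C t h hmem c)
        (by rw [hcoe]; exact hc) g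
      rw [hcoe] at this
      unfold cuspOf
      rw [this]
      unfold thT
      rw [hθe]
    · intro g h01 h10 ha
      unfold cuspOf
      exact cusp_split ht _ θ' h01 h10 ha
    · intro g h10 h00 h11 h01
      unfold cuspOf
      rw [cusp_unip ht _ θ' h10 (by rw [h00, h11]) h01, h00, map_one]
  · intro χ hχ hdeg
    obtain ⟨n, hn, hcases⟩ := natDegree_cases ht hχ
    obtain ⟨k, hk⟩ := id hodd
    rw [hn] at hdeg
    have hn' : n = Fintype.card F - 1 := by
      have h' : (n : ℂ) = ((Fintype.card F - 1 : ℕ) : ℂ) := by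
        rw [hdeg, Nat.cast_sub (by omega), Nat.cast_one]
      exact_mod_cast h'
    rcases hcases with ⟨h1, -⟩ | ⟨h1, -⟩ | ⟨h1, -⟩ | ⟨-, θ', hθ', rfl⟩ |
      ⟨-, h1, α, χ', ν, -, -, hp⟩ | ⟨-, h1, -⟩
    · omega
    · omega
    · omega
    · refine ⟨θ'.comp (eHom C t h hmem), ?_, ?_⟩
      · by_contra hcon
        push Not at hcon
        apply hθ'
        apply MonoidHom.ext
        intro y
        have := hcon (fHom C t h hmem y)
        rw [MonoidHom.comp_apply, eHom_fHom, pow_two] at this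
        rw [MonoidHom.inv_apply]
        exact mul_eq_one_iff_eq_inv.mp this
      · intro c hc
        rw [cuspOf_apply C ht h hmem θ' c hc]
        rfl
    · -- `q = 3`
      have hq3 : Fintype.card F = 3 := by omega
      obtain ⟨θ', hθ'⟩ := exists_hom_ne_inv ht
      refine ⟨θ'.comp (eHom C t h hmem), ?_, ?_⟩
      · by_contra hcon
        push Not at hcon
        apply hθ'
        apply MonoidHom.ext
        intro y
        have := hcon (fHom C t h hmem y)
        rw [MonoidHom.comp_apply, eHom_fHom, pow_two] at this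
        rw [MonoidHom.inv_apply]
        exact mul_eq_one_iff_eq_inv.mp this
      · intro c hc
        have hell : IsEll (c : SpecialLinearGroup (Fin 2) F) := by
          have h1 := isEll_of_mem_Tc ht (eHom C t h hmem c).2 (eHom_10_ne C t h hmem c hc)
          rw [eHom_coe] at h1
          exact (isEll_conj h).mp h1
        have h0 := cuspOf_ell_card_three hq3 ht hθ' hell
        rw [cuspOf_apply C ht h hmem θ' c hc] at h0
        rw [hp.apply_ell hell, Rind_ell α hell, zero_div]
        exact h0.symm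
    · omega

end Cfsg.Agent.S2434
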