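import Mathlib
import Cfsg.Statements.S2435
import Cfsg.Agent.Helper8.SL2Values3

set_option autoImplicit false
open Cfsg

namespace Cfsg.Agent.S2435

open Cfsg.Agent.Helper8.SL2C Cfsg.Agent.Helper7.SL2

/-- Let F be a finite field with q elements, q odd and q ≥ 5, and χ an irreducible complex character of SL₂ over F. If χ has degree (q + 1)/2, then at a diagonal element with entry a, a² ≠ 1, χ takes the value 1 when a is a square in F and −1 otherwise. If χ has degree (q − 1)/2, then at an element g with no eigenvector in F² (so g has order dividing q + 1), χ takes the value −1 when g raised to the power (q + 1)/2 is the identity and the value 1 otherwise. -/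
theorem result {F : Type*} [Field F] [Fintype F] (hodd : Odd (Fintype.card F)) (hq : 5 ≤ Fintype.card F)
    (χ : Matrix.SpecialLinearGroup (Fin 2) F → ℂ) (hχ : Cfsg.IsIrrCharacter (Matrix.SpecialLinearGroup (Fin 2) F) χ) (g : Matrix.SpecialLinearGroup (Fin 2) F) :
    (χ 1 = (((Fintype.card F + 1) / 2 : ℕ) : ℂ) → (g : Matrix (Fin 2) (Fin 2) F) 0 1 = 0 → (g : Matrix (Fin 2) (Fin 2) F) 1 0 = 0 → (g : Matrix (Fin 2) (Fin 2) F) 0 0 ^ 2 ≠ 1 →
      (IsSquare ((g : Matrix (Fin 2) (Fin 2) F) 0 0) → χ g = 1) ∧ (¬ IsSquare ((g : Matrix (Fin 2) (Fin 2) F) 0 0) → χ g = -1)) ∧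
    (χ 1 = (((Fintype.card F - 1) / 2 : ℕ) : ℂ) → (∀ (c : F) (v : Fin 2 → F), v ≠ 0 → (g : Matrix (Fin 2) (Fin 2) F).mulVec v ≠ c • v) →
      (((g ^ ((Fintype.card F + 1) / 2)) : Matrix (Fin 2) (Fin 2) F) = 1 → χ g = -1) ∧ (((g ^ ((Fintype.card F + 1) / 2)) : Matrix (Fin 2) (Fin 2) F) ≠ 1 → χ g = 1)) := by
  classical
  obtain ⟨t, ht⟩ := exists_ellt (F := F)
  have h2F : (2 : F) ≠ 0 := Cfsg.Agent.Helper7.two_ne_zero_of_odd_card hodd
  obtain ⟨n, hn, hcases⟩ := natDegree_cases ht hχ
  obtain ⟨k, hk⟩ := id hodd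
  constructor
  · intro h h01 h10 ha
    rw [hn] at h
    have hn' : n = (Fintype.card F + 1) / 2 := by exact_mod_cast h
    rcases hcases with ⟨h1, -⟩ | ⟨h1, -⟩ | ⟨h1, -⟩ | ⟨h1, -⟩ |
      ⟨-, -, α, χ', ν, hα2, hα1, hp⟩ | ⟨-, h1, -⟩
    · omega
    · omega
    · omega
    · omega
    · have hd := det_eq g
      rw [h01, zero_mul, sub_zero] at hd
      have h00 : (g : Matrix (Fin 2) (Fin 2) F) 0 0 ≠ 0 := left_ne_zero_of_mul_eq_one hd
      have h11 : (g : Matrix (Fin 2) (Fin 2) F) 1 1 ≠ 0 := right_ne_zero_of_mul_eq_one hd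
      have hsq : IsSquare ((g : Matrix (Fin 2) (Fin 2) F) 1 1) ↔
          IsSquare ((g : Matrix (Fin 2) (Fin 2) F) 0 0) := by
        constructor
        · rintro ⟨s, hs⟩
          refine ⟨(g : Matrix (Fin 2) (Fin 2) F) 0 0 * s, ?_⟩
          have : (g : Matrix (Fin 2) (Fin 2) F) 0 0 * ((g : Matrix (Fin 2) (Fin 2) F) 0 0 * (s * s)) =
              (g : Matrix (Fin 2) (Fin 2) F) 0 0 := by
            rw [← hs, hd, mul_one]
          linear_combination -this
        · rintro ⟨s, hs⟩
          refine ⟨(g : Matrix (Fin 2) (Fin 2) F) 1 1 * s, ?_⟩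
          have : (g : Matrix (Fin 2) (Fin 2) F) 1 1 * ((s * s) * (g : Matrix (Fin 2) (Fin 2) F) 1 1) =
              (g : Matrix (Fin 2) (Fin 2) F) 1 1 := by
            rw [← hs, hd, mul_one]
          linear_combination -this
      rw [hp.apply_diag h01 h10, Rind_diag α h01 h10 ha]
      constructor
      · intro hs
        rw [mulChar_order_two_of_isSquare hα2 h00 hs,
          mulChar_order_two_of_isSquare hα2 h11 (hsq.mpr hs)]
        norm_num
      · intro hs
        rw [mulChar_order_two_of_not_isSquare hα2 hα1 hs,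
          mulChar_order_two_of_not_isSquare hα2 hα1 (fun h' => hs (hsq.mp h'))]
        norm_num
    · omega
  · intro h hell
    have hell' : IsEll g := hell
    rw [hn] at h
    have hn' : n = (Fintype.card F - 1) / 2 := by exact_mod_cast h
    rcases hcases with ⟨h1, -⟩ | ⟨h1, -⟩ | ⟨h1, -⟩ | ⟨h1, -⟩ | ⟨-, h1, -⟩ |
      ⟨-, -, θ, χ', ν, hθ2, hθ1, hp, -, -⟩
    · omega
    · omega
    · omega
    · omega
    · omega
    · obtain ⟨x, hconj, -, hval⟩ := cuspOf_ell h2F ht θ hell'
      obtain ⟨c, hc⟩ := isConj_iff.mp hconj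
      have hpow : ∀ m : ℕ, ((g ^ m : Matrix.SpecialLinearGroup (Fin 2) F) :
          Matrix (Fin 2) (Fin 2) F) = 1 ↔ x ^ m = 1 := by
        intro m
        have e1 : ((x ^ m : Tc t) : Matrix.SpecialLinearGroup (Fin 2) F) = c * g ^ m * c⁻¹ := by
          rw [Subgroup.coe_pow, ← hc, conj_pow]
        constructor
        · intro hm
          have hm' : g ^ m = 1 := Subtype.ext hm
          apply Subtype.ext
          rw [e1, hm', mul_one, mul_inv_cancel]
          rfl
        · intro hm
          have hm' : c * g ^ m * c⁻¹ = 1 := by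
            rw [← e1, hm]
            rfl
          have : g ^ m = 1 := by
            have := congrArg (fun y => c⁻¹ * y * c) hm'
            simp only [mul_one, inv_mul_cancel] at this
            rw [← this]
            group
          rw [this]
          rfl
      have hθx := hom_order_two_apply hodd ht hθ2 hθ1 x
      rw [hp.apply_ell hell', hval, map_inv]
      constructor
      · intro hm
        rw [hθx.1 ((hpow _).mp hm)]
        simp
      · intro hm
        rw [hθx.2 (fun h' => hm ((hpow _).mpr h'))]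
        simp

end Cfsg.Agent.S2435
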