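import Mathlib
import Cfsg.Statements.S2436
import Cfsg.Agent.Helper8.McKC
import Cfsg.Agent.Helper8.McKE
import Cfsg.Agent.Helper8.McKF
import Cfsg.Agent.Helper8.McKI

set_option autoImplicit false
open Cfsg

namespace Cfsg.Agent.S2436

open Cfsg.Agent.Helper8.McK

/-- Let F be a finite field with q elements, q odd, ℓ any prime and S a Sylow ℓ-subgroup of SL₂ over F with normaliser N. Then SL₂ and N have the same number of irreducible complex characters of degree not divisible by ℓ (the McKay equality holds for SL₂ over F at every prime). -/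
theorem result {F : Type*} [Field F] [Fintype F] (hodd : Odd (Fintype.card F)) (ℓ : ℕ) [Fact ℓ.Prime] (S : Sylow ℓ (Matrix.SpecialLinearGroup (Fin 2) F)) :
    Nat.card {χ : Cfsg.IrrCharacter (Matrix.SpecialLinearGroup (Fin 2) F) // ¬ ℓ ∣ Cfsg.charDegree (χ : Matrix.SpecialLinearGroup (Fin 2) F → ℂ)} =
      Nat.card {ψ : Cfsg.IrrCharacter (Subgroup.normalizer ((S : Subgroup (Matrix.SpecialLinearGroup (Fin 2) F)) : Set (Matrix.SpecialLinearGroup (Fin 2) F))) //
        ¬ ℓ ∣ Cfsg.charDegree (ψ : Subgroup.normalizer ((S : Subgroup (Matrix.SpecialLinearGroup (Fin 2) F)) : Set (Matrix.SpecialLinearGroup (Fin 2) F)) → ℂ)} := by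

  classical
  obtain ⟨p, hchar⟩ := CharP.exists F
  have hp : Fact p.Prime := ⟨CharP.char_is_prime F p⟩
  have hℓ : ℓ.Prime := Fact.out
  have hq2 : 1 < Fintype.card F := Fintype.one_lt_card
  by_cases hℓp : ℓ = p
  · subst hℓp
    rw [lhs_p hodd ℓ, rhs_p hodd ℓ S]
  · by_cases hℓ2 : ℓ = 2
    · subst hℓ2
      by_cases hq : 5 ≤ Fintype.card F
      · rw [lhs_two hodd hq, rhs_two hodd S]
      · have hq3 : Fintype.card F = 3 := by
          obtain ⟨j, hj⟩ := hodd
          omega
        exact mckay_of_normalizer_eq_top 2 _ (normalizer_two_eq_top hq3 S)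
    · have hℓ3 : 3 ≤ ℓ := by
        have := hℓ.two_le
        omega
      by_cases hm : ℓ ∣ Fintype.card F - 1
      · have hq : 5 ≤ Fintype.card F := by
          have := Nat.le_of_dvd (by omega) hm
          obtain ⟨j, hj⟩ := hodd
          omega
        have h1 := lhs_minus hodd hq ℓ hℓ hℓ2 hm
        have h2 := rhs_minus hodd hq ℓ hℓ2 hm S
        omega
      · by_cases hpl : ℓ ∣ Fintype.card F + 1
        · have hq : 5 ≤ Fintype.card F := by
            by_contra hq
            have hq3 : Fintype.card F = 3 := by
              obtain ⟨j, hj⟩ := hodd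
              omega
            rw [hq3] at hpl
            have h4 : ℓ ∣ 2 ^ 2 := by norm_num; exact hpl
            have := hℓ.dvd_of_dvd_pow h4
            exact hℓ2 ((Nat.prime_dvd_prime_iff_eq hℓ Nat.prime_two).mp this)
          have h1 := lhs_plus hodd hq ℓ hℓ hℓ2 hpl
          have h2 := rhs_plus hodd ℓ hℓ2 hpl S
          omega
        · have hnd : ¬ ℓ ∣ Nat.card (Matrix.SpecialLinearGroup (Fin 2) F) := by
            rw [card_SL2']
            intro h
            rcases (Nat.Prime.dvd_mul hℓ).mp h with h1 | h1
            · obtain ⟨n, -, hn⟩ := FiniteField.card F p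
              rw [hn] at h1
              have := hℓ.dvd_of_dvd_pow h1
              exact hℓp ((Nat.prime_dvd_prime_iff_eq hℓ hp.out).mp this)
            · rcases (Nat.Prime.dvd_mul hℓ).mp h1 with h2 | h2
              · exact hm h2
              · exact hpl h2
          have hS1 : Nat.card (S : Subgroup (Matrix.SpecialLinearGroup (Fin 2) F)) = 1 := by
            rw [Sylow.card_eq_multiplicity, Nat.factorization_eq_zero_of_not_dvd hnd, pow_zero]
          have hSbot : (S : Subgroup (Matrix.SpecialLinearGroup (Fin 2) F)) = ⊥ :=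
            Subgroup.card_eq_one.mp hS1
          apply mckay_of_normalizer_eq_top
          rw [Subgroup.normalizer_eq_top_iff, hSbot]
          infer_instance

end Cfsg.Agent.S2436
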