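import Mathlib
import Cfsg.Statements.S2438
import Cfsg.Agent.Helper8.SL2Values3

set_option autoImplicit false
open Cfsg

namespace Cfsg.Agent.S2438

open Cfsg.Agent.Helper8.SL2C Cfsg.Agent.Helper7.SL2

/-- Let F be a finite field with q elements, q odd, q ≥ 5, U the upper unitriangular subgroup of SL₂ over F, and χ an irreducible complex character. The sum of the values of χ over U equals 2q, q, 0, q, 0 according as the degree of χ is q + 1, q, q − 1, (q + 1)/2, (q − 1)/2; so among these five degrees the sum vanishes exactly for the degrees q − 1 and (q − 1)/2, i.e. the irreducible characters of those two degrees are the ones whose restriction to U does not contain the trivial character (the cuspidal characters), while those of degree q + 1, q and (q + 1)/2 are not cuspidal. -/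
theorem result {F : Type*} [Field F] [Fintype F] [DecidableEq F] (hodd : Odd (Fintype.card F)) (hq : 5 ≤ Fintype.card F)
    (χ : Matrix.SpecialLinearGroup (Fin 2) F → ℂ) (hχ : Cfsg.IsIrrCharacter (Matrix.SpecialLinearGroup (Fin 2) F) χ) :
    (χ 1 = (Fintype.card F : ℂ) + 1 →
      (∑ g : Matrix.SpecialLinearGroup (Fin 2) F, if (g : Matrix (Fin 2) (Fin 2) F) 1 0 = 0 ∧ (g : Matrix (Fin 2) (Fin 2) F) 0 0 = 1 ∧ (g : Matrix (Fin 2) (Fin 2) F) 1 1 = 1 then χ g else 0) = 2 * (Fintype.card F : ℂ)) ∧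
    (χ 1 = (Fintype.card F : ℂ) →
      (∑ g : Matrix.SpecialLinearGroup (Fin 2) F, if (g : Matrix (Fin 2) (Fin 2) F) 1 0 = 0 ∧ (g : Matrix (Fin 2) (Fin 2) F) 0 0 = 1 ∧ (g : Matrix (Fin 2) (Fin 2) F) 1 1 = 1 then χ g else 0) = (Fintype.card F : ℂ)) ∧
    (χ 1 = (Fintype.card F : ℂ) - 1 →
      (∑ g : Matrix.SpecialLinearGroup (Fin 2) F, if (g : Matrix (Fin 2) (Fin 2) F) 1 0 = 0 ∧ (g : Matrix (Fin 2) (Fin 2) F) 0 0 = 1 ∧ (g : Matrix (Fin 2) (Fin 2) F) 1 1 = 1 then χ g else 0) = 0) ∧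
    (χ 1 = (((Fintype.card F + 1) / 2 : ℕ) : ℂ) →
      (∑ g : Matrix.SpecialLinearGroup (Fin 2) F, if (g : Matrix (Fin 2) (Fin 2) F) 1 0 = 0 ∧ (g : Matrix (Fin 2) (Fin 2) F) 0 0 = 1 ∧ (g : Matrix (Fin 2) (Fin 2) F) 1 1 = 1 then χ g else 0) = (Fintype.card F : ℂ)) ∧
    (χ 1 = (((Fintype.card F - 1) / 2 : ℕ) : ℂ) →
      (∑ g : Matrix.SpecialLinearGroup (Fin 2) F, if (g : Matrix (Fin 2) (Fin 2) F) 1 0 = 0 ∧ (g : Matrix (Fin 2) (Fin 2) F) 0 0 = 1 ∧ (g : Matrix (Fin 2) (Fin 2) F) 1 1 = 1 then χ g else 0) = 0) := by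
  obtain ⟨t, ht⟩ := exists_ellt (F := F)
  rw [sum_ite_unip χ]
  obtain ⟨n, hn, hcases⟩ := natDegree_cases ht hχ
  obtain ⟨k, hk⟩ := hodd
  -- the sum in each of the six cases
  have hsum : (n = 1 ∧ ∑ x : F, χ (up x) = (Fintype.card F : ℂ)) ∨
      (n = Fintype.card F ∧ ∑ x : F, χ (up x) = (Fintype.card F : ℂ)) ∨
      (n = Fintype.card F + 1 ∧ ∑ x : F, χ (up x) = 2 * (Fintype.card F : ℂ)) ∨
      (n = Fintype.card F - 1 ∧ ∑ x : F, χ (up x) = 0) ∨
      (n = (Fintype.card F + 1) / 2 ∧ ∑ x : F, χ (up x) = (Fintype.card F : ℂ)) ∨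
      (n = (Fintype.card F - 1) / 2 ∧ ∑ x : F, χ (up x) = 0) := by
    rcases hcases with ⟨h1, rfl⟩ | ⟨h1, rfl⟩ | ⟨h1, α, -, rfl⟩ | ⟨h1, θ, -, rfl⟩ |
      ⟨-, h1, α, χ', ν, -, -, hp⟩ | ⟨-, h1, θ, χ', ν, -, -, hp, -, -⟩
    · left
      refine ⟨h1, ?_⟩
      simp
    · right; left
      exact ⟨h1, sum_St_up⟩
    · right; right; left
      exact ⟨h1, sum_Rind_up α⟩
    · right; right; right; left
      exact ⟨h1, sum_cuspOf_up ht θ⟩
    · right; right; right; right; left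
      refine ⟨h1, ?_⟩
      rw [hp.sum_up_eq, sum_Rind_up]
      ring
    · right; right; right; right; right
      refine ⟨h1, ?_⟩
      rw [hp.sum_up_eq, sum_cuspOf_up ht, zero_div]
  refine ⟨?_, ?_, ?_, ?_, ?_⟩
  · intro h
    rw [hn] at h
    have hn' : n = Fintype.card F + 1 := by exact_mod_cast h
    rcases hsum with ⟨h1, h2⟩ | ⟨h1, h2⟩ | ⟨h1, h2⟩ | ⟨h1, h2⟩ | ⟨h1, h2⟩ | ⟨h1, h2⟩
    · omega
    · omega
    · exact h2
    · omega
    · omega
    · omega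
  · intro h
    rw [hn] at h
    have hn' : n = Fintype.card F := by exact_mod_cast h
    rcases hsum with ⟨h1, h2⟩ | ⟨h1, h2⟩ | ⟨h1, h2⟩ | ⟨h1, h2⟩ | ⟨h1, h2⟩ | ⟨h1, h2⟩
    · omega
    · exact h2
    · omega
    · omega
    · omega
    · omega
  · intro h
    rw [hn] at h
    have hn' : n = Fintype.card F - 1 := by
      have h' : (n : ℂ) = ((Fintype.card F - 1 : ℕ) : ℂ) := by
        rw [h, Nat.cast_sub (by omega), Nat.cast_one]
      exact_mod_cast h'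
    rcases hsum with ⟨h1, h2⟩ | ⟨h1, h2⟩ | ⟨h1, h2⟩ | ⟨h1, h2⟩ | ⟨h1, h2⟩ | ⟨h1, h2⟩
    · omega
    · omega
    · omega
    · exact h2
    · omega
    · omega
  · intro h
    rw [hn] at h
    have hn' : n = (Fintype.card F + 1) / 2 := by exact_mod_cast h
    rcases hsum with ⟨h1, h2⟩ | ⟨h1, h2⟩ | ⟨h1, h2⟩ | ⟨h1, h2⟩ | ⟨h1, h2⟩ | ⟨h1, h2⟩
    · omega
    · omega
    · omega
    · omega
    · exact h2
    · omega
  · intro h
    rw [hn] at h
    have hn' : n = (Fintype.card F - 1) / 2 := by exact_mod_cast h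
    rcases hsum with ⟨h1, h2⟩ | ⟨h1, h2⟩ | ⟨h1, h2⟩ | ⟨h1, h2⟩ | ⟨h1, h2⟩ | ⟨h1, h2⟩
    · omega
    · omega
    · omega
    · omega
    · omega
    · exact h2

end Cfsg.Agent.S2438
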