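import Mathlib
import Cfsg.Statements.S2439
import Cfsg.Agent.Helper8.SL2BlkC

set_option autoImplicit false
open Cfsg

namespace Cfsg.Agent.S2439

open Cfsg.Agent.Helper6 Cfsg.Agent.Helper8.SL2Blk

/-- Let F be a finite field with q elements of odd characteristic p, and M a maximal ideal of the algebraic integers containing p. Then SL₂ over F has exactly three p-blocks relative to M: the irreducible character of degree q (the Steinberg character) alone; the other irreducible characters taking the same value at −1 as at 1 (the principal block); and the irreducible characters χ with χ(−1) = −χ(1). Every Sylow p-subgroup is a defect group of each of the last two blocks. -/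
theorem result {F : Type*} [Field F] [Fintype F] (p : ℕ) [Fact p.Prime] [CharP F p] (hp : p ≠ 2)
    (M : Ideal Cfsg.AlgInt) (hM : Cfsg.IsPModular p M) :
    (∀ B : Set (Cfsg.IrrCharacter (Matrix.SpecialLinearGroup (Fin 2) F)), Cfsg.IsPBlock M B ↔
      (B = {χ : Cfsg.IrrCharacter (Matrix.SpecialLinearGroup (Fin 2) F) | (χ : Matrix.SpecialLinearGroup (Fin 2) F → ℂ) 1 = (Fintype.card F : ℂ)} ∨
       B = {χ : Cfsg.IrrCharacter (Matrix.SpecialLinearGroup (Fin 2) F) | (χ : Matrix.SpecialLinearGroup (Fin 2) F → ℂ) (-1) = (χ : Matrix.SpecialLinearGroup (Fin 2) F → ℂ) 1 ∧ (χ : Matrix.SpecialLinearGroup (Fin 2) F → ℂ) 1 ≠ (Fintype.card F : ℂ)} ∨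
       B = {χ : Cfsg.IrrCharacter (Matrix.SpecialLinearGroup (Fin 2) F) | (χ : Matrix.SpecialLinearGroup (Fin 2) F → ℂ) (-1) = -(χ : Matrix.SpecialLinearGroup (Fin 2) F → ℂ) 1})) ∧
    Nat.card {B : Set (Cfsg.IrrCharacter (Matrix.SpecialLinearGroup (Fin 2) F)) // Cfsg.IsPBlock M B} = 3 ∧
    ∀ P : Sylow p (Matrix.SpecialLinearGroup (Fin 2) F),
      Cfsg.IsDefectGroup p M {χ : Cfsg.IrrCharacter (Matrix.SpecialLinearGroup (Fin 2) F) | (χ : Matrix.SpecialLinearGroup (Fin 2) F → ℂ) (-1) = (χ : Matrix.SpecialLinearGroup (Fin 2) F → ℂ) 1 ∧ (χ : Matrix.SpecialLinearGroup (Fin 2) F → ℂ) 1 ≠ (Fintype.card F : ℂ)} (P : Subgroup (Matrix.SpecialLinearGroup (Fin 2) F)) ∧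
      Cfsg.IsDefectGroup p M {χ : Cfsg.IrrCharacter (Matrix.SpecialLinearGroup (Fin 2) F) | (χ : Matrix.SpecialLinearGroup (Fin 2) F → ℂ) (-1) = -(χ : Matrix.SpecialLinearGroup (Fin 2) F → ℂ) 1} (P : Subgroup (Matrix.SpecialLinearGroup (Fin 2) F)) := by

  classical
  have hpr : p.Prime := Fact.out
  have hodd : Odd (Fintype.card F) := by
    obtain ⟨n, -, hn⟩ := FiniteField.card F p
    rw [hn]
    exact Odd.pow (hpr.odd_of_ne_two hp)
  have h2F : (2 : F) ≠ 0 := Cfsg.Agent.Helper7.two_ne_zero_of_odd_card hodd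
  have hq2 : 1 < Fintype.card F := Fintype.one_lt_card
  have hBSt' : {χ : Cfsg.IrrCharacter (Matrix.SpecialLinearGroup (Fin 2) F) |
      (χ : Matrix.SpecialLinearGroup (Fin 2) F → ℂ) 1 = (Fintype.card F : ℂ)} = {StI F} := by
    ext χ
    constructor
    · exact eq_StI_of_degree χ
    · intro h
      rw [Set.mem_singleton_iff] at h
      rw [h]
      exact StI_one
  have hblkSt : Cfsg.blockOf M ((StI F : Cfsg.IrrCharacter (Matrix.SpecialLinearGroup (Fin 2) F)) :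
      Matrix.SpecialLinearGroup (Fin 2) F → ℂ) =
      {χ : Cfsg.IrrCharacter (Matrix.SpecialLinearGroup (Fin 2) F) |
      (χ : Matrix.SpecialLinearGroup (Fin 2) F → ℂ) 1 = (Fintype.card F : ℂ)} := by
    rw [hBSt', blockOf_StI p hM]
  have htriv : ((trivIrr (Matrix.SpecialLinearGroup (Fin 2) F) :
      Cfsg.IrrCharacter (Matrix.SpecialLinearGroup (Fin 2) F)) :
      Matrix.SpecialLinearGroup (Fin 2) F → ℂ) (-1) =
      ((trivIrr (Matrix.SpecialLinearGroup (Fin 2) F) :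
      Cfsg.IrrCharacter (Matrix.SpecialLinearGroup (Fin 2) F)) :
      Matrix.SpecialLinearGroup (Fin 2) F → ℂ) 1 := rfl
  have htrivne : ((trivIrr (Matrix.SpecialLinearGroup (Fin 2) F) :
      Cfsg.IrrCharacter (Matrix.SpecialLinearGroup (Fin 2) F)) :
      Matrix.SpecialLinearGroup (Fin 2) F → ℂ) 1 ≠ (Fintype.card F : ℂ) := by
    change (1 : ℂ) ≠ _
    intro h
    have : (1 : ℕ) = Fintype.card F := by exact_mod_cast h
    omega
  have hblk0 := blockOf_plus hodd p hp hM (trivIrr (Matrix.SpecialLinearGroup (Fin 2) F)) htriv htrivne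
  obtain ⟨χm, hχm⟩ := exists_minus h2F
  have hblk1 := blockOf_minus hodd p hp hM χm hχm
  have part1 : ∀ B : Set (Cfsg.IrrCharacter (Matrix.SpecialLinearGroup (Fin 2) F)), Cfsg.IsPBlock M B ↔
      (B = {χ : Cfsg.IrrCharacter (Matrix.SpecialLinearGroup (Fin 2) F) | (χ : Matrix.SpecialLinearGroup (Fin 2) F → ℂ) 1 = (Fintype.card F : ℂ)} ∨
       B = {χ : Cfsg.IrrCharacter (Matrix.SpecialLinearGroup (Fin 2) F) | (χ : Matrix.SpecialLinearGroup (Fin 2) F → ℂ) (-1) = (χ : Matrix.SpecialLinearGroup (Fin 2) F → ℂ) 1 ∧ (χ : Matrix.SpecialLinearGroup (Fin 2) F → ℂ) 1 ≠ (Fintype.card F : ℂ)} ∨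
       B = {χ : Cfsg.IrrCharacter (Matrix.SpecialLinearGroup (Fin 2) F) | (χ : Matrix.SpecialLinearGroup (Fin 2) F → ℂ) (-1) = -(χ : Matrix.SpecialLinearGroup (Fin 2) F → ℂ) 1}) := by
    intro B
    constructor
    · rintro ⟨χ, rfl⟩
      by_cases hq : (χ : Matrix.SpecialLinearGroup (Fin 2) F → ℂ) 1 = (Fintype.card F : ℂ)
      · left
        rw [eq_StI_of_degree χ hq]
        exact hblkSt
      · rcases sign_cases χ with h | h
        · right; left
          exact blockOf_plus hodd p hp hM χ h hq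
        · right; right
          exact blockOf_minus hodd p hp hM χ h
    · rintro (rfl | rfl | rfl)
      · exact ⟨StI F, hblkSt.symm⟩
      · exact ⟨trivIrr _, hblk0.symm⟩
      · exact ⟨χm, hblk1.symm⟩
  refine ⟨part1, ?_, ?_⟩
  · rw [Nat.card_congr (Equiv.subtypeEquivRight part1)]
    have hne1 : {χ : Cfsg.IrrCharacter (Matrix.SpecialLinearGroup (Fin 2) F) | (χ : Matrix.SpecialLinearGroup (Fin 2) F → ℂ) 1 = (Fintype.card F : ℂ)} ≠
        {χ : Cfsg.IrrCharacter (Matrix.SpecialLinearGroup (Fin 2) F) | (χ : Matrix.SpecialLinearGroup (Fin 2) F → ℂ) (-1) = (χ : Matrix.SpecialLinearGroup (Fin 2) F → ℂ) 1 ∧ (χ : Matrix.SpecialLinearGroup (Fin 2) F → ℂ) 1 ≠ (Fintype.card F : ℂ)} := by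
      intro h
      have hmem : StI F ∈ {χ : Cfsg.IrrCharacter (Matrix.SpecialLinearGroup (Fin 2) F) | (χ : Matrix.SpecialLinearGroup (Fin 2) F → ℂ) 1 = (Fintype.card F : ℂ)} := StI_one
      rw [h] at hmem
      exact hmem.2 StI_one
    have hne2 : {χ : Cfsg.IrrCharacter (Matrix.SpecialLinearGroup (Fin 2) F) | (χ : Matrix.SpecialLinearGroup (Fin 2) F → ℂ) 1 = (Fintype.card F : ℂ)} ≠
        {χ : Cfsg.IrrCharacter (Matrix.SpecialLinearGroup (Fin 2) F) | (χ : Matrix.SpecialLinearGroup (Fin 2) F → ℂ) (-1) = -(χ : Matrix.SpecialLinearGroup (Fin 2) F → ℂ) 1} := by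
      intro h
      have hmem : StI F ∈ {χ : Cfsg.IrrCharacter (Matrix.SpecialLinearGroup (Fin 2) F) | (χ : Matrix.SpecialLinearGroup (Fin 2) F → ℂ) 1 = (Fintype.card F : ℂ)} := StI_one
      rw [h] at hmem
      exact degree_ne_of_minus _ hmem StI_one
    have hne3 : {χ : Cfsg.IrrCharacter (Matrix.SpecialLinearGroup (Fin 2) F) | (χ : Matrix.SpecialLinearGroup (Fin 2) F → ℂ) (-1) = (χ : Matrix.SpecialLinearGroup (Fin 2) F → ℂ) 1 ∧ (χ : Matrix.SpecialLinearGroup (Fin 2) F → ℂ) 1 ≠ (Fintype.card F : ℂ)} ≠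
        {χ : Cfsg.IrrCharacter (Matrix.SpecialLinearGroup (Fin 2) F) | (χ : Matrix.SpecialLinearGroup (Fin 2) F → ℂ) (-1) = -(χ : Matrix.SpecialLinearGroup (Fin 2) F → ℂ) 1} := by
      intro h
      have hmem : trivIrr (Matrix.SpecialLinearGroup (Fin 2) F) ∈ {χ : Cfsg.IrrCharacter (Matrix.SpecialLinearGroup (Fin 2) F) | (χ : Matrix.SpecialLinearGroup (Fin 2) F → ℂ) (-1) = (χ : Matrix.SpecialLinearGroup (Fin 2) F → ℂ) 1 ∧ (χ : Matrix.SpecialLinearGroup (Fin 2) F → ℂ) 1 ≠ (Fintype.card F : ℂ)} := ⟨htriv, htrivne⟩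
      rw [h] at hmem
      have h1 : (1 : ℂ) = -1 := hmem
      norm_num at h1
    have hset : ∀ B : Set (Cfsg.IrrCharacter (Matrix.SpecialLinearGroup (Fin 2) F)),
      (B = {χ : Cfsg.IrrCharacter (Matrix.SpecialLinearGroup (Fin 2) F) | (χ : Matrix.SpecialLinearGroup (Fin 2) F → ℂ) 1 = (Fintype.card F : ℂ)} ∨
       B = {χ : Cfsg.IrrCharacter (Matrix.SpecialLinearGroup (Fin 2) F) | (χ : Matrix.SpecialLinearGroup (Fin 2) F → ℂ) (-1) = (χ : Matrix.SpecialLinearGroup (Fin 2) F → ℂ) 1 ∧ (χ : Matrix.SpecialLinearGroup (Fin 2) F → ℂ) 1 ≠ (Fintype.card F : ℂ)} ∨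
       B = {χ : Cfsg.IrrCharacter (Matrix.SpecialLinearGroup (Fin 2) F) | (χ : Matrix.SpecialLinearGroup (Fin 2) F → ℂ) (-1) = -(χ : Matrix.SpecialLinearGroup (Fin 2) F → ℂ) 1}) ↔
      B ∈ ({{χ : Cfsg.IrrCharacter (Matrix.SpecialLinearGroup (Fin 2) F) | (χ : Matrix.SpecialLinearGroup (Fin 2) F → ℂ) 1 = (Fintype.card F : ℂ)},
       {χ : Cfsg.IrrCharacter (Matrix.SpecialLinearGroup (Fin 2) F) | (χ : Matrix.SpecialLinearGroup (Fin 2) F → ℂ) (-1) = (χ : Matrix.SpecialLinearGroup (Fin 2) F → ℂ) 1 ∧ (χ : Matrix.SpecialLinearGroup (Fin 2) F → ℂ) 1 ≠ (Fintype.card F : ℂ)},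
       {χ : Cfsg.IrrCharacter (Matrix.SpecialLinearGroup (Fin 2) F) | (χ : Matrix.SpecialLinearGroup (Fin 2) F → ℂ) (-1) = -(χ : Matrix.SpecialLinearGroup (Fin 2) F → ℂ) 1}} :
       Set (Set (Cfsg.IrrCharacter (Matrix.SpecialLinearGroup (Fin 2) F)))) := by
      intro B
      rw [Set.mem_insert_iff, Set.mem_insert_iff, Set.mem_singleton_iff]
    rw [Nat.card_congr (Equiv.subtypeEquivRight hset), Nat.card_coe_set_eq, Set.ncard_eq_three]
    exact ⟨_, _, _, hne1, hne2, hne3, rfl⟩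
  · intro P
    constructor
    · have hpb : {χ : Cfsg.IrrCharacter (Matrix.SpecialLinearGroup (Fin 2) F) | (χ : Matrix.SpecialLinearGroup (Fin 2) F → ℂ) (-1) = (χ : Matrix.SpecialLinearGroup (Fin 2) F → ℂ) 1 ∧ (χ : Matrix.SpecialLinearGroup (Fin 2) F → ℂ) 1 ≠ (Fintype.card F : ℂ)} =
          Cfsg.principalBlock M (Matrix.SpecialLinearGroup (Fin 2) F) := by
        rw [principalBlock_eq]
        exact hblk0.symm
      rw [hpb]
      exact (isDefectGroup_principal_iff p hM.2.1 hM.2.2 _).mpr ⟨P, rfl⟩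
    · apply isDefectGroup_sylow_of_not_dvd p hM.2.1 _ ⟨χm, hblk1.symm⟩ _ P
      intro g hg hdvd
      apply hg.2.2 χm hχm
      exact centralChar_mem_of_dvd_index hM χm
        (not_dvd_degree hodd p χm (degree_ne_of_minus χm hχm)) g hdvd

end Cfsg.Agent.S2439
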