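import Mathlib
import Cfsg.Statements.S2450
import Cfsg.Agent.Helper8.PSL2Cent

set_option autoImplicit false
open Cfsg

namespace Cfsg.Agent.S2450

open Cfsg.Agent.Helper8.SL2C Cfsg.Agent.Helper7.SL2 Cfsg.Agent.Helper8

variable {F : Type*} [Field F]

/-- a quadratic polynomial function over a field with at least four elements whose square is not
constant. -/
theorem exists_sq_ne [Fintype F] (h4 : 4 ≤ Fintype.card F) (α β γ : F) (hα : α ≠ 0) :
    ∃ x₁ x₂ : F, (α * x₁ ^ 2 + β * x₁ + γ) ^ 2 ≠ (α * x₂ ^ 2 + β * x₂ + γ) ^ 2 := by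
  classical
  by_contra hcon
  push Not at hcon
  have h0 : ∀ x : F, (α * x ^ 2 + β * x + γ) ^ 2 = γ ^ 2 := by
    intro x
    have := hcon x 0
    rw [this]; ring
  have hprod : ∀ x : F, (x * (α * x + β)) * (α * x ^ 2 + β * x + 2 * γ) = 0 := by
    intro x
    linear_combination h0 x
  have hcard : 2 ≤ ((Finset.univ : Finset F) \ {0, -β / α}).card := by
    rw [Finset.card_sdiff_of_subset (Finset.subset_univ _), Finset.card_univ]
    have : ({0, -β / α} : Finset F).card ≤ 2 := Finset.card_le_two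
    omega
  have hgood : ∀ x ∈ (Finset.univ : Finset F) \ {0, -β / α}, x * (α * x + β) ≠ 0 := by
    intro x hx
    rw [Finset.mem_sdiff, Finset.mem_insert, Finset.mem_singleton] at hx
    push Not at hx
    intro h
    rcases mul_eq_zero.mp h with h | h
    · exact hx.2.1 h
    · apply hx.2.2
      field_simp
      linear_combination h
  by_cases h2 : (2 : F) = 0
  · obtain ⟨x, hx⟩ : ∃ x, x ∈ (Finset.univ : Finset F) \ {0, -β / α} := by
      apply Finset.card_pos.mp
      omega
    have h1 := h0 x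
    have h3 : (α * x ^ 2 + β * x) ^ 2 = 0 := by
      linear_combination h1 - (α * x ^ 2 + β * x) * γ * h2
    have h4' := pow_eq_zero_iff (two_ne_zero) |>.mp h3
    exact hgood x hx (by linear_combination h4')
  · have hq5 : 5 ≤ Fintype.card F := by
      have hchar : ringChar F ≠ 2 := by
        intro h
        apply h2
        have : ((ringChar F : ℕ) : F) = 0 := ringChar.Nat.cast_ringChar
        rw [h] at this
        exact_mod_cast this
      have := FiniteField.odd_card_of_char_ne_two hchar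
      omega
    have hcard3 : 2 < ((Finset.univ : Finset F) \ {0, -β / α}).card := by
      rw [Finset.card_sdiff_of_subset (Finset.subset_univ _), Finset.card_univ]
      have : ({0, -β / α} : Finset F).card ≤ 2 := Finset.card_le_two
      omega
    obtain ⟨x₁, x₂, x₃, hx₁, hx₂, hx₃, h12, h13, h23⟩ := Finset.two_lt_card_iff.mp hcard3
    have hr : ∀ x ∈ (Finset.univ : Finset F) \ {0, -β / α}, α * x ^ 2 + β * x + 2 * γ = 0 := by
      intro x hx
      exact (mul_eq_zero.mp (hprod x)).resolve_left (hgood x hx)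
    have e1 := hr x₁ hx₁
    have e2 := hr x₂ hx₂
    have e3 := hr x₃ hx₃
    have d12 : α * (x₁ + x₂) + β = 0 := by
      have : (x₁ - x₂) * (α * (x₁ + x₂) + β) = 0 := by linear_combination e1 - e2
      exact (mul_eq_zero.mp this).resolve_left (sub_ne_zero.mpr h12)
    have d13 : α * (x₁ + x₃) + β = 0 := by
      have : (x₁ - x₃) * (α * (x₁ + x₃) + β) = 0 := by linear_combination e1 - e3
      exact (mul_eq_zero.mp this).resolve_left (sub_ne_zero.mpr h13)
    have : α * (x₂ - x₃) = 0 := by linear_combination d12 - d13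
    rcases mul_eq_zero.mp this with h | h
    · exact hα h
    · exact h23 (sub_eq_zero.mp h)

/-- a non-central element has a conjugate with non-zero lower left entry. -/
theorem exists_conj_10_ne {A : Matrix.SpecialLinearGroup (Fin 2) F} (h1 : A ≠ 1) (h2 : A ≠ -1) :
    ∃ k : Matrix.SpecialLinearGroup (Fin 2) F,
      ((k * A * k⁻¹ : Matrix.SpecialLinearGroup (Fin 2) F) : Matrix (Fin 2) (Fin 2) F) 1 0 ≠ 0 := by
  by_cases h10 : (A : Matrix (Fin 2) (Fin 2) F) 1 0 ≠ 0
  · exact ⟨1, by rw [one_mul, inv_one, mul_one]; exact h10⟩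
  · push Not at h10
    by_cases h01 : (A : Matrix (Fin 2) (Fin 2) F) 0 1 ≠ 0
    · refine ⟨wey F, ?_⟩
      obtain ⟨i00, i01, i10, i11⟩ := coe_inv_apply (wey F)
      have w10 : (wey F : Matrix (Fin 2) (Fin 2) F) 1 0 = -1 := rfl
      have w11 : (wey F : Matrix (Fin 2) (Fin 2) F) 1 1 = 0 := rfl
      simp only [coe_mul_apply, i00, i10, w10, w11]
      intro h
      apply h01
      linear_combination -h
    · push Not at h01
      have hne : (A : Matrix (Fin 2) (Fin 2) F) 0 0 ≠ (A : Matrix (Fin 2) (Fin 2) F) 1 1 := by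
        intro h
        have hA : A ∈ D F := ⟨h01, h10⟩
        have hd := diag_of_mem_D hA
        rw [← h] at hd
        have h3 : ((A : Matrix (Fin 2) (Fin 2) F) 0 0 - 1) * ((A : Matrix (Fin 2) (Fin 2) F) 0 0 + 1) = 0 := by
          linear_combination hd
        rcases mul_eq_zero.mp h3 with h' | h'
        · apply h1
          have h00 : (A : Matrix (Fin 2) (Fin 2) F) 0 0 = 1 := by linear_combination h'
          apply ext'
          · rw [h00, one_00]
          · rw [h01, one_01]
          · rw [h10, one_10]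
          · rw [← h, h00, one_11]
        · apply h2
          have h00 : (A : Matrix (Fin 2) (Fin 2) F) 0 0 = -1 := by linear_combination h'
          apply ext'
          · rw [h00, SL2C.neg_apply, one_00]
          · rw [h01, SL2C.neg_apply, one_01, neg_zero]
          · rw [h10, SL2C.neg_apply, one_10, neg_zero]
          · rw [← h, h00, SL2C.neg_apply, one_11]
      refine ⟨lo 1, ?_⟩
      obtain ⟨i00, i01, i10, i11⟩ := coe_inv_apply (lo (1 : F))
      simp only [coe_mul_apply, i00, i10, lo_00, lo_01, lo_10, lo_11, h10, h01]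
      intro h
      apply hne
      linear_combination h

theorem tr_sq_eq_of_isConj_pmk {g h : Matrix.SpecialLinearGroup (Fin 2) F}
    (hc : IsConj (pmk g) (pmk h)) : tr g ^ 2 = tr h ^ 2 := by
  obtain ⟨c, hc⟩ := isConj_iff.mp hc
  obtain ⟨C, rfl⟩ := pmk_surjective c
  rw [pmk_inv, pmk_mul, pmk_mul, pmk_eq_iff] at hc
  rcases hc with hc | hc
  · rw [← hc, tr_conj]
  · have := congrArg tr hc
    rw [tr_conj, tr_neg] at this
    rw [this]; ring

/-- The Arad–Herzog conjecture for PSL(2,q): let F be a finite field with q ≥ 4 elements. For any two non-identity elements a, b of PSL(2,F), the set of products of a conjugate of a with a conjugate of b is not a single conjugacy class. -/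
theorem result {F : Type*} [Field F] [Fintype F] (h4 : 4 ≤ Fintype.card F)
    (a b : Matrix.ProjectiveSpecialLinearGroup (Fin 2) F) (ha : a ≠ 1) (hb : b ≠ 1) (c : Matrix.ProjectiveSpecialLinearGroup (Fin 2) F) :
    {g : Matrix.ProjectiveSpecialLinearGroup (Fin 2) F | ∃ u v : Matrix.ProjectiveSpecialLinearGroup (Fin 2) F, g = (u * a * u⁻¹) * (v * b * v⁻¹)} ≠ {g | IsConj c g} := by
  obtain ⟨A, rfl⟩ := pmk_surjective a
  obtain ⟨B, rfl⟩ := pmk_surjective b
  have hA : A ≠ 1 ∧ A ≠ -1 := by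
    constructor
    · rintro rfl; exact ha rfl
    · rintro rfl; apply ha; rw [pmk_neg]; rfl
  have hB : B ≠ 1 ∧ B ≠ -1 := by
    constructor
    · rintro rfl; exact hb rfl
    · rintro rfl; apply hb; rw [pmk_neg]; rfl
  obtain ⟨k, hk⟩ := exists_conj_10_ne hA.1 hA.2
  obtain ⟨m, hm⟩ := exists_conj_10_ne hB.1 hB.2
  obtain ⟨A', hA'⟩ : ∃ A', A' = k * A * k⁻¹ := ⟨_, rfl⟩
  obtain ⟨B', hB'⟩ : ∃ B', B' = m * B * m⁻¹ := ⟨_, rfl⟩
  rw [← hA'] at hk
  rw [← hB'] at hm
  have htr : ∀ x : F, tr (up x * A' * (up x)⁻¹ * B') =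
      (-((A' : Matrix (Fin 2) (Fin 2) F) 1 0 * (B' : Matrix (Fin 2) (Fin 2) F) 1 0)) * x ^ 2 +
      ((A' : Matrix (Fin 2) (Fin 2) F) 1 0 * ((B' : Matrix (Fin 2) (Fin 2) F) 0 0 -
        (B' : Matrix (Fin 2) (Fin 2) F) 1 1) + ((A' : Matrix (Fin 2) (Fin 2) F) 1 1 -
        (A' : Matrix (Fin 2) (Fin 2) F) 0 0) * (B' : Matrix (Fin 2) (Fin 2) F) 1 0) * x +
      tr (A' * B') := by
    intro x
    obtain ⟨i00, i01, i10, i11⟩ := coe_inv_apply (up x)
    unfold tr
    simp only [coe_mul_apply, i00, i01, i10, i11, up_00, up_01, up_10, up_11]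
    ring
  obtain ⟨x₁, x₂, hx⟩ := exists_sq_ne h4 _ _ (tr (A' * B'))
    (neg_ne_zero.mpr (mul_ne_zero hk hm))
  rw [← htr x₁, ← htr x₂] at hx
  intro hset
  have hmem : ∀ x : F, pmk (up x * A' * (up x)⁻¹ * B') ∈
      {g : Matrix.ProjectiveSpecialLinearGroup (Fin 2) F | ∃ u v : Matrix.ProjectiveSpecialLinearGroup (Fin 2) F,
        g = (u * pmk A * u⁻¹) * (v * pmk B * v⁻¹)} := by
    intro x
    refine ⟨pmk (up x * k), pmk m, ?_⟩
    rw [pmk_inv, pmk_inv, pmk_mul, pmk_mul, pmk_mul, pmk_mul, pmk_mul, hA', hB']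
    congr 1
    group
  have h1 := hmem x₁
  have h2 := hmem x₂
  rw [hset] at h1 h2
  have hc : IsConj (pmk (up x₁ * A' * (up x₁)⁻¹ * B')) (pmk (up x₂ * A' * (up x₂)⁻¹ * B')) :=
    (IsConj.symm h1).trans h2
  exact hx (tr_sq_eq_of_isConj_pmk hc)

end Cfsg.Agent.S2450
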