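import Mathlib
import Cfsg.Statements.S2455
import Cfsg.Agent.Helper8.SL2Products
import Cfsg.Agent.Helper8.PSL2ClassSize

set_option autoImplicit false
open Cfsg

namespace Cfsg.Agent.S2455

open Cfsg.Agent.Helper8.SL2C Cfsg.Agent.Helper7.SL2 Cfsg.Agent.Helper8

theorem two_ne_zero' {F : Type*} [Field F] (p : ℕ) [Fact p.Prime] [CharP F p] (hp : p ≠ 2) :
    (2 : F) ≠ 0 := by
  intro h
  have h1 : ((2 : ℕ) : F) = 0 := by exact_mod_cast h
  have h2 := (CharP.cast_eq_zero_iff F p 2).mp h1
  exact hp ((Nat.prime_dvd_prime_iff_eq Fact.out Nat.prime_two).mp h2)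

/-- A strong covering result in the direction of Thompson's conjecture (non-identity elements) for PSL(2,q), q odd: let F be a finite field of odd characteristic p with at least 5 elements and let x ∈ PSL(2,F) have order greater than 2 and not divisible by p (so x is not unipotent). Then every non-identity element of PSL(2,F) is a product of two conjugates of x. -/
theorem result {F : Type*} [Field F] [Fintype F] (p : ℕ) [Fact p.Prime] [CharP F p] (hp : p ≠ 2) (h5 : 5 ≤ Fintype.card F)
    (x : Matrix.ProjectiveSpecialLinearGroup (Fin 2) F) (hx2 : 2 < orderOf x) (hxp : ¬ p ∣ orderOf x) : ∀ g : Matrix.ProjectiveSpecialLinearGroup (Fin 2) F, g ≠ 1 → ∃ u v : Matrix.ProjectiveSpecialLinearGroup (Fin 2) F, g = (u * x * u⁻¹) * (v * x * v⁻¹) := by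
  have h2 : (2 : F) ≠ 0 := two_ne_zero' p hp
  have hpp : p.Prime := Fact.out
  obtain ⟨X, rfl⟩ := pmk_surjective x
  have hs0 : tr X ≠ 0 := by
    intro h
    have h1 := sq_eq_neg_one_of_tr h
    have : pmk X ^ 2 = 1 := by
      rw [pmk_pow, pow_two, h1, pmk_neg]
      rfl
    have := orderOf_dvd_of_pow_eq_one this
    have := Nat.le_of_dvd (by norm_num) this
    omega
  have hup : ∀ β : F, ¬ IsConj X (up β) ∧ ¬ IsConj X (-up β) := by
    have key : ∀ β : F, orderOf (pmk (up β)) ≠ orderOf (pmk X) := by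
      intro β h
      have hd : orderOf (pmk (up β)) ∣ p := by
        rw [orderOf_pmk_dvd_iff]
        left
        rw [up_pow, CharP.cast_eq_zero, zero_mul, up_zero]
      rcases (Nat.dvd_prime hpp).mp hd with h1 | h1
      · rw [h1] at h; omega
      · apply hxp
        rw [← h, h1]
    intro β
    constructor
    · intro hc
      exact key β (orderOf_eq_of_isConj (isConj_pmk hc)).symm
    · intro hc
      have := orderOf_eq_of_isConj (isConj_pmk hc)
      rw [pmk_neg] at this
      exact key β this.symm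
  have hs4 : tr X ^ 2 ≠ 4 := by
    rcases classify X with hX | ⟨a, ha, hc⟩ | ⟨β, hc⟩ | ⟨β, hc⟩
    · exact ellt_sq_ne (isEll_iff_ellt.mp hX)
    · rw [tr_eq_of_isConj hc, tr_tor, Units.val_inv_eq_inv_val]
      intro h
      apply ha
      have ha0 := a.ne_zero
      field_simp at h
      have h' : ((a : F) ^ 2 - 1) ^ 2 = 0 := by linear_combination h
      have := pow_eq_zero_iff (two_ne_zero) |>.mp h'
      linear_combination this
    · exact absurd hc (hup β).1
    · exact absurd hc (hup β).2
  intro g hg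
  obtain ⟨G, rfl⟩ := pmk_surjective g
  have hG1 : G ≠ 1 := by
    rintro rfl
    exact hg rfl
  have hG2 : G ≠ -1 := by
    rintro rfl
    apply hg
    rw [pmk_neg]
    rfl
  by_cases hτ : tr G ^ 2 ≠ 4
  · obtain ⟨P, hP⟩ := isConj_iff.mp (isConj_comp_of_tr_sq_ne hτ).symm
    obtain ⟨Y, Y', hY, hY', hYY⟩ := exists_factor_comp (tr X) hτ
    exact exists_pmk_prod hs4 hY hY' (by rw [hYY, hP])
  · push Not at hτ
    have h5' : (tr G - 2) * (tr G + 2) = 0 := by linear_combination hτ
    rcases mul_eq_zero.mp h5' with h | h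
    · obtain ⟨β, hβ, hc⟩ := isConj_up_of_tr (g := G) (by linear_combination h) hG1
      have hc' := isConj_neg_iff.mpr hc
      obtain ⟨P, hP⟩ := isConj_iff.mp hc'.symm
      obtain ⟨Y, Y', hY, hY', hYY⟩ := exists_factor_neg_up h2 hs0 hβ
      rw [← pmk_neg G]
      exact exists_pmk_prod hs4 hY hY' (by rw [hYY, hP])
    · obtain ⟨β, hβ, hc⟩ := isConj_neg_up_of_tr (g := G) (by linear_combination h) hG2
      obtain ⟨P, hP⟩ := isConj_iff.mp hc.symm
      obtain ⟨Y, Y', hY, hY', hYY⟩ := exists_factor_neg_up h2 hs0 hβ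
      exact exists_pmk_prod hs4 hY hY' (by rw [hYY, hP])

end Cfsg.Agent.S2455
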