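import Mathlib
import Cfsg.Statements.S2456
import Cfsg.Agent.Helper8.SL2Products
import Cfsg.Agent.Helper8.PSL2ClassSize

set_option autoImplicit false
open Cfsg

namespace Cfsg.Agent.S2456

open Cfsg.Agent.Helper8.SL2C Cfsg.Agent.Helper7.SL2 Cfsg.Agent.Helper8

/-- A strong covering result in the direction of Thompson's conjecture (non-identity elements) for PSL(2,q), q even: let F be a finite field of characteristic 2 with q ≥ 4 elements and let x ∈ PSL(2,F) have order greater than 2 and not dividing q + 1. Then every non-identity element of PSL(2,F) is a product of two conjugates of x. -/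
theorem result {F : Type*} [Field F] [Fintype F] [CharP F 2] (h4 : 4 ≤ Fintype.card F)
    (x : Matrix.ProjectiveSpecialLinearGroup (Fin 2) F) (hx2 : 2 < orderOf x) (hxq : ¬ orderOf x ∣ Fintype.card F + 1) : ∀ g : Matrix.ProjectiveSpecialLinearGroup (Fin 2) F, g ≠ 1 → ∃ u v : Matrix.ProjectiveSpecialLinearGroup (Fin 2) F, g = (u * x * u⁻¹) * (v * x * v⁻¹) := by
  have h2 : (2 : F) = 0 := by
    have : ((2 : ℕ) : F) = 0 := CharP.cast_eq_zero F 2
    exact_mod_cast this
  obtain ⟨X, rfl⟩ := pmk_surjective x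
  have hup : ∀ β : F, ¬ IsConj X (up β) := by
    intro β hc
    have h1 : orderOf (pmk (up β)) ∣ 2 := by
      rw [orderOf_pmk_dvd_iff]
      left
      rw [up_pow]
      have : ((2 : ℕ) : F) * β = 0 := by
        have : ((2 : ℕ) : F) = 0 := CharP.cast_eq_zero F 2
        rw [this, zero_mul]
      rw [this, up_zero]
    rw [← orderOf_eq_of_isConj (isConj_pmk hc)] at h1
    have := Nat.le_of_dvd (by norm_num) h1
    omega
  obtain ⟨a, ha, hXa⟩ : ∃ a : Fˣ, (a : F) ^ 2 ≠ 1 ∧ IsConj X (tor a) := by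
    rcases classify X with hX | ⟨a, ha, hc⟩ | ⟨β, hc⟩ | ⟨β, hc⟩
    · exfalso
      apply hxq
      rw [orderOf_pmk_dvd_iff]
      exact Or.inl (pow_card_add_one_of_ell hX)
    · exact ⟨a, ha, hc⟩
    · exact absurd hc (hup β)
    · rw [neg_eq_self_of_char_two h2] at hc
      exact absurd hc (hup β)
  have htr : tr X = tr (tor a) := tr_eq_of_isConj hXa
  have hs4 : tr X ^ 2 ≠ 4 := by
    rw [htr, tr_tor, Units.val_inv_eq_inv_val]
    intro h
    apply ha
    have ha0 := a.ne_zero
    field_simp at h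
    have h' : ((a : F) ^ 2 - 1) ^ 2 = 0 := by linear_combination h
    have := pow_eq_zero_iff (two_ne_zero) |>.mp h'
    linear_combination this
  intro g hg
  obtain ⟨G, rfl⟩ := pmk_surjective g
  have hG1 : G ≠ 1 := by
    rintro rfl
    exact hg rfl
  by_cases hτ : tr G ^ 2 ≠ 4
  · obtain ⟨P, hP⟩ := isConj_iff.mp (isConj_comp_of_tr_sq_ne hτ).symm
    obtain ⟨Y, Y', hY, hY', hYY⟩ := exists_factor_comp (tr X) hτ
    exact exists_pmk_prod hs4 hY hY' (by rw [hYY, hP])
  · push Not at hτ
    have ht2 : tr G = 2 := by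
      have h0 : tr G ^ 2 = 0 := by rw [hτ]; linear_combination (2 : F) * h2
      have := pow_eq_zero_iff (two_ne_zero) |>.mp h0
      rw [this, h2]
    obtain ⟨β, hβ, hc⟩ := isConj_up_of_tr ht2 hG1
    obtain ⟨P, hP⟩ := isConj_iff.mp hc.symm
    obtain ⟨Y, Y', hY, hY', hYY⟩ := exists_factor_up_split a β
    exact exists_pmk_prod hs4 (hY.trans htr.symm) (hY'.trans htr.symm) (by rw [hYY, hP])

end Cfsg.Agent.S2456
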