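import Cfsg.Statements.S2466
import Cfsg.Agent.Helper8.CycleType

set_option autoImplicit false
open Cfsg

namespace Cfsg.Agent.S2466

/-- Adjacency of odd primes in the prime graph of the alternating groups: let r ≠ s be odd primes at most n. The alternating group of degree n has an element of order r·s if and only if r + s ≤ n. -/
theorem result (n r s : ℕ) (hr : r.Prime) (hs : s.Prime) (hr2 : r ≠ 2) (hs2 : s ≠ 2) (hrs : r ≠ s) (hrn : r ≤ n) (hsn : s ≤ n) :
    (r * s ∈ Set.range (orderOf : alternatingGroup (Fin n) → ℕ)) ↔ r + s ≤ n := by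
  have hr3 : 3 ≤ r := by
    have := hr.two_le
    omega
  have hs3 : 3 ≤ s := by
    have := hs.two_le
    omega
  have hcop : Nat.Coprime r s := (Nat.coprime_primes hr hs).mpr hrs
  have hrsle : r + s ≤ r * s := by
    obtain ⟨r', rfl⟩ : ∃ r', r = r' + 3 := ⟨r - 3, by omega⟩
    obtain ⟨s', rfl⟩ : ∃ s', s = s' + 3 := ⟨s - 3, by omega⟩
    nlinarith
  constructor
  · rintro ⟨σ, hσ⟩
    have hord : orderOf (σ : Equiv.Perm (Fin n)) = r * s := by
      rw [← hσ, Subgroup.orderOf_coe]
    have hlcm : (σ : Equiv.Perm (Fin n)).cycleType.lcm = r * s := by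
      rw [Equiv.Perm.lcm_cycleType, hord]
    have hsum : (σ : Equiv.Perm (Fin n)).cycleType.sum ≤ n := by
      have := Equiv.Perm.sum_cycleType_le (σ : Equiv.Perm (Fin n))
      simpa using this
    obtain ⟨a, ha, hra⟩ := Helper8.exists_dvd_of_prime_dvd_lcm _ r hr (hlcm ▸ Dvd.intro _ rfl)
    obtain ⟨b, hb, hsb⟩ := Helper8.exists_dvd_of_prime_dvd_lcm _ s hs (hlcm ▸ Dvd.intro_left _ rfl)
    have ha2 := Equiv.Perm.two_le_of_mem_cycleType ha
    have hb2 := Equiv.Perm.two_le_of_mem_cycleType hb
    by_cases hab : a = b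
    · subst hab
      have h1 : r * s ∣ a := hcop.mul_dvd_of_dvd_of_dvd hra hsb
      have h2 : r * s ≤ a := Nat.le_of_dvd (by omega) h1
      have h3 : a ≤ (σ : Equiv.Perm (Fin n)).cycleType.sum := Multiset.le_sum_of_mem ha
      omega
    · have h1 := Helper8.add_le_sum_of_mem_of_ne _ a b ha hb hab
      have h2 : r ≤ a := Nat.le_of_dvd (by omega) hra
      have h3 : s ≤ b := Nat.le_of_dvd (by omega) hsb
      omega
  · intro h
    obtain ⟨g, hg⟩ := (Equiv.Perm.exists_with_cycleType_iff (α := Fin n) (m := {r, s})).mpr (by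
      constructor
      · simpa using h
      · intro a ha
        simp only [Multiset.insert_eq_cons, Multiset.mem_cons, Multiset.mem_singleton] at ha
        rcases ha with rfl | rfl <;> omega)
    have hsign : Equiv.Perm.sign g = 1 := by
      rw [Equiv.Perm.sign_of_cycleType', hg]
      have hro : Odd r := hr.odd_of_ne_two hr2
      have hso : Odd s := hs.odd_of_ne_two hs2
      simp [hro.neg_one_pow, hso.neg_one_pow]
    have hmem : g ∈ alternatingGroup (Fin n) := Equiv.Perm.mem_alternatingGroup.mpr hsign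
    refine ⟨⟨g, hmem⟩, ?_⟩
    rw [Subgroup.orderOf_mk, ← Equiv.Perm.lcm_cycleType, hg]
    simp [lcm_eq_nat_lcm, hcop.lcm_eq_mul]

end Cfsg.Agent.S2466
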