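import Cfsg.Statements.S2467
import Cfsg.Agent.Helper8.CycleType

set_option autoImplicit false
open Cfsg

namespace Cfsg.Agent.S2467

/-- Adjacency of 2 and an odd prime in the prime graph of the alternating groups: let r be an odd prime at most n, with n ≥ 4. The alternating group of degree n has an element of order 2r if and only if r + 4 ≤ n. -/
theorem result (n r : ℕ) (hn : 4 ≤ n) (hr : r.Prime) (hr2 : r ≠ 2) (hrn : r ≤ n) :
    (2 * r ∈ Set.range (orderOf : alternatingGroup (Fin n) → ℕ)) ↔ r + 4 ≤ n := by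
  have hr3 : 3 ≤ r := by
    have := hr.two_le
    omega
  have hro : Odd r := hr.odd_of_ne_two hr2
  have hcop : Nat.Coprime 2 r := (Nat.coprime_primes Nat.prime_two hr).mpr (Ne.symm hr2)
  constructor
  · rintro ⟨σ, hσ⟩
    have hord : orderOf (σ : Equiv.Perm (Fin n)) = 2 * r := by
      rw [← hσ, Subgroup.orderOf_coe]
    set m := (σ : Equiv.Perm (Fin n)).cycleType with hm
    have hlcm : m.lcm = 2 * r := by
      rw [hm, Equiv.Perm.lcm_cycleType, hord]
    have hsum : m.sum ≤ n := by
      have := Equiv.Perm.sum_cycleType_le (σ : Equiv.Perm (Fin n))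
      simpa using this
    have hsign : Equiv.Perm.sign (σ : Equiv.Perm (Fin n)) = 1 :=
      Equiv.Perm.mem_alternatingGroup.mp σ.2
    rw [Equiv.Perm.sign_of_cycleType', Helper8.prod_sign_eq_pow_card_even] at hsign
    set E := m.filter (fun k => Even k) with hE
    have hEven : Even (Multiset.card E) := by
      by_contra hodd
      rw [Nat.not_even_iff_odd] at hodd
      rw [hodd.neg_one_pow] at hsign
      exact absurd hsign (by decide)
    obtain ⟨a, ha, hra⟩ := Helper8.exists_dvd_of_prime_dvd_lcm _ r hr (hlcm ▸ Dvd.intro_left _ rfl)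
    obtain ⟨b, hb, h2b⟩ := Helper8.exists_dvd_of_prime_dvd_lcm _ 2 Nat.prime_two (hlcm ▸ Dvd.intro _ rfl)
    have hbE : b ∈ E := Multiset.mem_filter.mpr ⟨hb, even_iff_two_dvd.mpr h2b⟩
    have hcard2 : 2 ≤ Multiset.card E := by
      have hpos : 0 < Multiset.card E := Multiset.card_pos_iff_exists_mem.mpr ⟨b, hbE⟩
      obtain ⟨k, hk⟩ := hEven
      omega
    have hE2 : ∀ x ∈ E, 2 ≤ x := fun x hx =>
      Equiv.Perm.two_le_of_mem_cycleType (Multiset.mem_of_mem_filter hx)
    have hsplit : m.sum = E.sum + (m.filter (fun k => ¬ Even k)).sum := by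
      rw [← Multiset.sum_add, Multiset.filter_add_not]
    have ha2 := Equiv.Perm.two_le_of_mem_cycleType ha
    have hra' : r ≤ a := Nat.le_of_dvd (by omega) hra
    by_cases hae : Even a
    · -- a ∈ E, a ≥ 2r, and another element of E
      have haE : a ∈ E := Multiset.mem_filter.mpr ⟨ha, hae⟩
      obtain ⟨E', hE'⟩ := Multiset.exists_cons_of_mem haE
      have h2r : 2 * r ∣ a := hcop.mul_dvd_of_dvd_of_dvd (even_iff_two_dvd.mp hae) hra
      have h2r' : 2 * r ≤ a := Nat.le_of_dvd (by omega) h2r
      have hc' : 1 ≤ Multiset.card E' := by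
        have : Multiset.card E = Multiset.card E' + 1 := by rw [hE', Multiset.card_cons]
        omega
      have hE'2 : Multiset.card E' • 2 ≤ E'.sum := by
        apply Multiset.card_nsmul_le_sum
        intro x hx
        exact hE2 x (hE' ▸ Multiset.mem_cons_of_mem hx)
      have : E.sum = a + E'.sum := by rw [hE', Multiset.sum_cons]
      simp only [smul_eq_mul] at hE'2
      omega
    · have haO : a ∈ m.filter (fun k => ¬ Even k) := Multiset.mem_filter.mpr ⟨ha, hae⟩
      have h1 : a ≤ (m.filter (fun k => ¬ Even k)).sum := Multiset.le_sum_of_mem haO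
      have hE'2 : Multiset.card E • 2 ≤ E.sum := Multiset.card_nsmul_le_sum hE2
      simp only [smul_eq_mul] at hE'2
      omega
  · intro h
    obtain ⟨g, hg⟩ := (Equiv.Perm.exists_with_cycleType_iff (α := Fin n) (m := {r, 2, 2})).mpr (by
      constructor
      · simp
        omega
      · intro a ha
        simp only [Multiset.insert_eq_cons, Multiset.mem_cons, Multiset.mem_singleton] at ha
        rcases ha with rfl | rfl | rfl <;> omega)
    have hsign : Equiv.Perm.sign g = 1 := by
      rw [Equiv.Perm.sign_of_cycleType', hg]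
      simp [hro.neg_one_pow]
    have hmem : g ∈ alternatingGroup (Fin n) := Equiv.Perm.mem_alternatingGroup.mpr hsign
    refine ⟨⟨g, hmem⟩, ?_⟩
    rw [Subgroup.orderOf_mk, ← Equiv.Perm.lcm_cycleType, hg]
    have : Nat.lcm r 2 = 2 * r := by
      rw [Nat.lcm_comm, hcop.lcm_eq_mul]
    simp [lcm_eq_nat_lcm, this]

end Cfsg.Agent.S2467
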