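import Cfsg.Statements.S2471
import Mathlib

set_option autoImplicit false
open Cfsg

namespace Cfsg.Agent.S2471

variable {F : Type*} [Field F]

theorem cayley (A : Matrix (Fin 2) (Fin 2) F) :
    A * A = A.trace • A - A.det • (1 : Matrix (Fin 2) (Fin 2) F) := by
  rw [Matrix.det_fin_two, Matrix.trace_fin_two]
  ext i j
  fin_cases i <;> fin_cases j <;> simp [Matrix.mul_apply, Fin.sum_univ_two] <;> ring

theorem sq_zero_of_pow_zero (N : Matrix (Fin 2) (Fin 2) F) (k : ℕ) (hk : N ^ k = 0) : N * N = 0 := by
  have hdet : N.det = 0 := by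
    have := congrArg Matrix.det hk
    rw [Matrix.det_pow] at this
    rcases Nat.eq_zero_or_pos k with rfl | hkpos
    · simp at this
    · rw [Matrix.det_zero] at this
      exact pow_eq_zero_iff (by omega) |>.mp this
  have hsq : N * N = N.trace • N := by
    rw [cayley, hdet, zero_smul, sub_zero]
  have hpow : ∀ j : ℕ, N ^ (j + 1) = N.trace ^ j • N := by
    intro j
    induction j with
    | zero => simp
    | succ j ih =>
      rw [pow_succ, ih, Matrix.smul_mul, hsq, smul_smul, pow_succ]
  rcases Nat.eq_zero_or_pos k with rfl | hkpos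
  · rw [pow_zero] at hk
    have := congrFun (congrFun hk 0) 0
    simp at this
  · obtain ⟨j, rfl⟩ : ∃ j, k = j + 1 := ⟨k - 1, by omega⟩
    rw [hpow] at hk
    rcases smul_eq_zero.mp hk with h | h
    · rcases Nat.eq_zero_or_pos j with rfl | hj
      · simp at h
      · have ht : N.trace = 0 := pow_eq_zero_iff (by omega) |>.mp h
        rw [hsq, ht, zero_smul]
    · rw [h, mul_zero]

theorem trace_sq (A N : Matrix (Fin 2) (Fin 2) F) (hdet : A.det = 1) (hN2 : N * N = 0) (hN0 : N ≠ 0)
    (hc : A * N = N * A) : A.trace ^ 2 = 4 := by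
  rw [Matrix.det_fin_two] at hdet
  rw [Matrix.trace_fin_two]
  have n1 := congrFun (congrFun hN2 0) 0
  have n2 := congrFun (congrFun hN2 0) 1
  have n3 := congrFun (congrFun hN2 1) 0
  have n4 := congrFun (congrFun hN2 1) 1
  have c1 := congrFun (congrFun hc 0) 0
  have c2 := congrFun (congrFun hc 0) 1
  have c3 := congrFun (congrFun hc 1) 0
  have c4 := congrFun (congrFun hc 1) 1
  simp only [Matrix.mul_apply, Fin.sum_univ_two, Matrix.zero_apply] at n1 n2 n3 n4 c1 c2 c3 c4
  have hN0' : ¬ (N 0 0 = 0 ∧ N 0 1 = 0 ∧ N 1 0 = 0 ∧ N 1 1 = 0) := by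
    rintro ⟨h00, h01, h10, h11⟩
    apply hN0
    ext i j
    fin_cases i <;> fin_cases j <;> simp [h00, h01, h10, h11]
  clear hN0 hN2 hc
  generalize A 0 0 = x at *
  generalize A 0 1 = y at *
  generalize A 1 0 = z at *
  generalize A 1 1 = w at *
  generalize N 0 0 = a at *
  generalize N 0 1 = b at *
  generalize N 1 0 = c at *
  generalize N 1 1 = d at *
  have goal' : (x - w) ^ 2 + 4 * y * z = 0 → (x + w) ^ 2 = 4 := by
    intro h
    linear_combination h + 4 * hdet
  apply goal'
  by_cases hb : b = 0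
  · by_cases hcz : c = 0
    · exfalso
      apply hN0'
      subst hb hcz
      simp only [mul_zero, add_zero, zero_add] at n1 n4
      exact ⟨mul_self_eq_zero.mp n1, rfl, rfl, mul_self_eq_zero.mp n4⟩
    · -- c ≠ 0
      have hd : d = - a := by
        have : c * (a + d) = 0 := by linear_combination n3
        rcases mul_eq_zero.mp this with h | h
        · exact absurd h hcz
        · linear_combination h
      subst hd
      have : c ^ 2 * ((x - w) ^ 2 + 4 * y * z) = 0 := by
        linear_combination (exp := 1) (c * (x - w) + 2 * a * z) * (-c3) + 4 * z * c * c1 + 4 * z ^ 2 * n1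
      rcases mul_eq_zero.mp this with h | h
      · exact absurd (pow_eq_zero_iff (by norm_num) |>.mp h) hcz
      · exact h
  · have hd : d = - a := by
      have : b * (a + d) = 0 := by linear_combination n2
      rcases mul_eq_zero.mp this with h | h
      · exact absurd h hb
      · linear_combination h
    subst hd
    have : b ^ 2 * ((x - w) ^ 2 + 4 * y * z) = 0 := by
      linear_combination (exp := 1) (b * (x - w) + 2 * a * y) * c2 - 4 * y * b * c1 + 4 * y ^ 2 * n1
    rcases mul_eq_zero.mp this with h | h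
    · exact absurd (pow_eq_zero_iff (by norm_num) |>.mp h) hb
    · exact h

theorem pow_char (p : ℕ) [Fact p.Prime] [CharP F p] (hp : p ≠ 2) (A : Matrix (Fin 2) (Fin 2) F)
    (hdet : A.det = 1) (htr : A.trace ^ 2 = 4) :
    ∃ ε : F, ε ^ 2 = 1 ∧ A ^ p = ε • (1 : Matrix (Fin 2) (Fin 2) F) := by
  have h : (A.trace - 2) * (A.trace + 2) = 0 := by linear_combination htr
  have hodd : Odd p := (Fact.out : p.Prime).odd_of_ne_two hp
  have hp2 : 2 ≤ p := (Fact.out : p.Prime).two_le
  rcases mul_eq_zero.mp h with h | h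
  · refine ⟨1, by norm_num, ?_⟩
    have ht : A.trace = 2 := by linear_combination h
    set M := A - 1 with hM
    have hM2 : M ^ 2 = 0 := by
      rw [hM, pow_two, sub_mul, mul_sub, cayley, hdet, ht]
      simp only [mul_one, one_mul, one_smul, two_smul]
      abel
    have hA : A = 1 + M := by rw [hM]; abel
    rw [hA, add_pow_char_of_commute p (Commute.one_left M), one_pow, pow_eq_zero_of_le hp2 hM2,
      add_zero, one_smul]
  · refine ⟨-1, by norm_num, ?_⟩
    have ht : A.trace = -2 := by linear_combination h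
    set M := A + 1 with hM
    have hM2 : M ^ 2 = 0 := by
      rw [hM, pow_two, add_mul, mul_add, cayley, hdet, ht]
      simp only [mul_one, one_mul, one_smul, neg_smul, two_smul]
      abel
    have hA : A = -1 + M := by rw [hM]; abel
    rw [hA, add_pow_char_of_commute p (Commute.neg_one_left M), hodd.neg_one_pow,
      pow_eq_zero_of_le hp2 hM2, add_zero, neg_smul, one_smul]

/-- In PSL(2,q) with q odd, the characteristic p is isolated from 2 in the prime graph: for F a finite field of odd characteristic p with at least 5 elements, PSL(2,F) has no element of order 2p. -/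
theorem result {F : Type*} [Field F] [Fintype F] (p : ℕ) [Fact p.Prime] [CharP F p] (hp : p ≠ 2) (h5 : 5 ≤ Fintype.card F) (g : Matrix.ProjectiveSpecialLinearGroup (Fin 2) F) :
    orderOf g ≠ 2 * p := by
  intro hord
  obtain ⟨g, rfl⟩ := QuotientGroup.mk_surjective g
  have hp2 : 2 ≤ p := (Fact.out : p.Prime).two_le
  have hodd : Odd p := (Fact.out : p.Prime).odd_of_ne_two hp
  have hcen : ∀ (k : ℕ) (ε : F), ε ^ 2 = 1 →
      ((g : Matrix (Fin 2) (Fin 2) F)) ^ k = ε • (1 : Matrix (Fin 2) (Fin 2) F) → 2 * p ∣ k := by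
    intro k ε hε hk
    rw [← hord]
    apply orderOf_dvd_of_pow_eq_one
    rw [← QuotientGroup.mk_pow]
    apply (QuotientGroup.eq_one_iff _).mpr
    rw [Matrix.SpecialLinearGroup.mem_center_iff]
    refine ⟨ε, by simpa using hε, ?_⟩
    rw [Matrix.SpecialLinearGroup.coe_pow, hk, Matrix.smul_one_eq_diagonal]
    rfl
  have h1 : (g ^ (2 * p)) ∈ Subgroup.center (Matrix.SpecialLinearGroup (Fin 2) F) := by
    apply (QuotientGroup.eq_one_iff _).mp
    rw [QuotientGroup.mk_pow, ← hord, pow_orderOf_eq_one]
  obtain ⟨r, hr2, hr⟩ := Matrix.SpecialLinearGroup.mem_center_iff.mp h1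
  simp only [Fintype.card_fin] at hr2
  set A : Matrix (Fin 2) (Fin 2) F := (g : Matrix (Fin 2) (Fin 2) F) with hAdef
  have hdet : A.det = 1 := g.2
  have hA2p : A ^ (2 * p) = r • (1 : Matrix (Fin 2) (Fin 2) F) := by
    rw [hAdef, ← Matrix.SpecialLinearGroup.coe_pow, ← hr, Matrix.smul_one_eq_diagonal]
    rfl
  have hrp : r ^ p = r := by
    obtain ⟨k, hk⟩ := hodd
    rw [hk, pow_succ, pow_mul, hr2, one_pow, one_mul]
  set Y : Matrix (Fin 2) (Fin 2) F := r • A ^ 2 with hY
  have hYp : Y ^ p = 1 := by
    rw [hY, smul_pow, ← pow_mul, hA2p, hrp, smul_smul, ← pow_two, hr2, one_smul]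
  set N := Y - 1 with hN
  have hNp : N ^ p = 0 := by
    rw [hN, sub_pow_char_of_commute p (Commute.one_right Y), hYp, one_pow, sub_self]
  have hN2 : N * N = 0 := sq_zero_of_pow_zero N p hNp
  have hc : A * N = N * A := by
    have : Commute A N := by
      rw [hN, hY]
      exact (((Commute.refl A).pow_right 2).smul_right r).sub_right (Commute.one_right A)
    exact this
  by_cases hN0 : N = 0
  · have hY1 : Y = 1 := by
      rw [hN] at hN0
      exact sub_eq_zero.mp hN0
    have hA2 : A ^ 2 = r • (1 : Matrix (Fin 2) (Fin 2) F) := by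
      rw [← hY1, hY, smul_smul, ← pow_two, hr2, one_smul]
    have := hcen 2 r hr2 hA2
    have : 2 * p ≤ 2 := Nat.le_of_dvd (by norm_num) this
    omega
  · have htr := trace_sq A N hdet hN2 hN0 hc
    obtain ⟨ε, hε, hAp⟩ := pow_char p hp A hdet htr
    have := hcen p ε hε hAp
    have : 2 * p ≤ p := Nat.le_of_dvd (by omega) this
    omega

end Cfsg.Agent.S2471
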