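import Mathlib
import Cfsg.Statements.S2475
import Cfsg.Agent.Helper8.SL2Cent

set_option autoImplicit false
open Cfsg

namespace Cfsg.Agent.S2475

open Cfsg.Agent.Helper8.SL2C Cfsg.Agent.Helper7.SL2 Cfsg.Agent.Helper8

variable {F : Type*} [Field F]

theorem neg_one_eq_one (h2 : (2 : F) = 0) : (-1 : Matrix.SpecialLinearGroup (Fin 2) F) = 1 := by
  apply ext'
  · rw [SL2C.neg_apply, one_00]; linear_combination -h2
  · rw [SL2C.neg_apply, one_01, neg_zero]
  · rw [SL2C.neg_apply, one_10, neg_zero]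
  · rw [SL2C.neg_apply, one_11]; linear_combination -h2

/-- the parity data: `d = gcd(2, q - 1)`. -/
def Par (F : Type*) [Field F] (d : ℕ) : Prop := ((2 : F) = 0 ∧ d = 1) ∨ ((2 : F) ≠ 0 ∧ d = 2)

theorem par_gcd [Fintype F] : Par F (Nat.gcd 2 (Fintype.card F - 1)) := by
  have hq : 2 ≤ Fintype.card F := Fintype.one_lt_card
  by_cases h2 : (2 : F) = 0
  · left
    refine ⟨h2, ?_⟩
    have hchar : ringChar F = 2 := by
      have hdvd : ringChar F ∣ 2 := by
        have : ((2 : ℕ) : F) = 0 := by exact_mod_cast h2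
        exact (ringChar.spec F 2).mp this
      have hp : (ringChar F).Prime := CharP.char_is_prime F (ringChar F)
      exact (Nat.prime_dvd_prime_iff_eq hp Nat.prime_two).mp hdvd
    have := FiniteField.even_card_iff_char_two.mp hchar
    have hodd : (Fintype.card F - 1) % 2 = 1 := by omega
    rw [Nat.gcd_rec, hodd]
    rfl
  · right
    refine ⟨h2, ?_⟩
    have hchar : ringChar F ≠ 2 := by
      intro h
      apply h2
      have : ((ringChar F : ℕ) : F) = 0 := ringChar.Nat.cast_ringChar
      rw [h] at this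
      exact_mod_cast this
    have := FiniteField.odd_card_of_char_ne_two hchar
    have heven : (Fintype.card F - 1) % 2 = 0 := by omega
    rw [Nat.gcd_rec, heven]
    rfl

theorem par_dvd [Fintype F] {d : ℕ} (hd : d = Nat.gcd 2 (Fintype.card F - 1)) :
    d ∣ Fintype.card F - 1 ∧ d ∣ Fintype.card F + 1 := by
  have h1 : d ∣ Fintype.card F - 1 := by rw [hd]; exact Nat.gcd_dvd_right _ _
  have h2 : d ∣ 2 := by rw [hd]; exact Nat.gcd_dvd_left _ _
  refine ⟨h1, ?_⟩
  have hq : 2 ≤ Fintype.card F := Fintype.one_lt_card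
  have : Fintype.card F + 1 = (Fintype.card F - 1) + 2 := by omega
  rw [this]
  exact Nat.dvd_add h1 h2

theorem pmk_order_dvd {d : ℕ} (hpar : Par F d) {g : Matrix.SpecialLinearGroup (Fin 2) F} {n : ℕ}
    (hdn : d ∣ n) (hg : g ^ n = 1) : orderOf (pmk g) ∣ n / d := by
  rcases hpar with ⟨-, rfl⟩ | ⟨h2, rfl⟩
  · rw [Nat.div_one, orderOf_pmk_dvd_iff]
    exact Or.inl hg
  · obtain ⟨k, rfl⟩ := hdn
    rw [Nat.mul_div_cancel_left k (by norm_num), orderOf_pmk_dvd_iff]
    apply eq_one_or_neg_one_of_sq h2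
    rw [← pow_add, ← two_mul, hg]

theorem pmk_order_eq {d : ℕ} (hpar : Par F d) {g : Matrix.SpecialLinearGroup (Fin 2) F} {n : ℕ}
    (hdn : d ∣ n) (hg : orderOf g = n) : orderOf (pmk g) = n / d := by
  apply Nat.dvd_antisymm
  · exact pmk_order_dvd hpar hdn (by rw [← hg]; exact pow_orderOf_eq_one g)
  · have h := orderOf_pmk_dvd_iff.mp (dvd_refl (orderOf (pmk g)))
    rcases hpar with ⟨h2, rfl⟩ | ⟨h2, rfl⟩
    · rw [Nat.div_one, ← hg]
      rw [neg_one_eq_one h2, or_self] at h
      exact orderOf_dvd_of_pow_eq_one h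
    · obtain ⟨k, rfl⟩ := hdn
      rw [Nat.mul_div_cancel_left k (by norm_num)]
      have h' : g ^ (2 * orderOf (pmk g)) = 1 := by
        rw [two_mul, pow_add]
        rcases h with h | h
        · rw [h, one_mul]
        · rw [h, neg_one_mul_neg_one]
      have := orderOf_dvd_of_pow_eq_one h'
      rw [hg] at this
      exact Nat.dvd_of_mul_dvd_mul_left (by norm_num) this

theorem exists_order {G : Type*} [Group G] {y : G} {m : ℕ} (hm : m ∣ orderOf y)
    (h0 : 0 < orderOf y) : ∃ x : G, orderOf x = m := by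
  obtain ⟨k, hk⟩ := hm
  have hk0 : k ≠ 0 := by
    rintro rfl
    rw [mul_zero] at hk
    omega
  have hm0 : m ≠ 0 := by
    rintro rfl
    rw [zero_mul] at hk
    omega
  refine ⟨y ^ k, ?_⟩
  rw [orderOf_pow_of_dvd hk0 ⟨m, by rw [hk, mul_comm]⟩, hk, Nat.mul_div_cancel _ (Nat.pos_of_ne_zero hk0)]

theorem orderOf_pmk_eq_of_isConj {g h : Matrix.SpecialLinearGroup (Fin 2) F} (hc : IsConj g h) :
    orderOf (pmk g) = orderOf (pmk h) :=
  orderOf_eq_of_isConj (isConj_pmk hc)

/-- The set of element orders of PSL(2,q): let F be a finite field of characteristic p with q ≥ 4 elements and d = gcd(2, q − 1). The orders of elements of PSL(2,F) are exactly the divisors of p, of (q − 1)/d and of (q + 1)/d. -/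
theorem result {F : Type*} [Field F] [Fintype F] (p : ℕ) [Fact p.Prime] [CharP F p] (h4 : 4 ≤ Fintype.card F) :
    Set.range (orderOf : Matrix.ProjectiveSpecialLinearGroup (Fin 2) F → ℕ) =
      {m : ℕ | m ∣ p ∨ m ∣ (Fintype.card F - 1) / Nat.gcd 2 (Fintype.card F - 1) ∨ m ∣ (Fintype.card F + 1) / Nat.gcd 2 (Fintype.card F - 1)} := by
  have hp : p.Prime := Fact.out
  obtain ⟨d, hd⟩ : ∃ d, d = Nat.gcd 2 (Fintype.card F - 1) := ⟨_, rfl⟩
  rw [← hd]
  have hpar : Par F d := by rw [hd]; exact par_gcd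
  obtain ⟨hd1, hd2⟩ := par_dvd hd
  have hup : ∀ β : F, orderOf (pmk (up β)) ∣ p := by
    intro β
    rw [orderOf_pmk_dvd_iff]
    left
    rw [up_pow, CharP.cast_eq_zero, zero_mul, up_zero]
  ext m
  rw [Set.mem_range, Set.mem_setOf_eq]
  constructor
  · rintro ⟨x, rfl⟩
    obtain ⟨g, rfl⟩ := pmk_surjective x
    rcases classify g with hg | ⟨a, -, hc⟩ | ⟨β, hc⟩ | ⟨β, hc⟩
    · right; right
      exact pmk_order_dvd hpar hd2 (pow_card_add_one_of_ell hg)
    · right; left
      rw [orderOf_pmk_eq_of_isConj hc]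
      exact pmk_order_dvd hpar hd1 (pow_card_sub_one_tor a)
    · left
      rw [orderOf_pmk_eq_of_isConj hc]
      exact hup β
    · left
      rw [orderOf_pmk_eq_of_isConj hc, pmk_neg]
      exact hup β
  · rintro (hm | hm | hm)
    · rcases (Nat.dvd_prime hp).mp hm with rfl | rfl
      · exact ⟨1, orderOf_one⟩
      · refine ⟨pmk (up 1), ?_⟩
        apply orderOf_eq_prime
        · rw [pmk_pow, up_pow, CharP.cast_eq_zero, zero_mul, up_zero]
          rfl
        · intro h
          rcases pmk_eq_one_iff.mp h with h | h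
          · exact up_ne_one one_ne_zero h
          · have := congrArg (fun g : Matrix.SpecialLinearGroup (Fin 2) F =>
              (g : Matrix (Fin 2) (Fin 2) F) 0 1) h
            simp only [up_01, SL2C.neg_apply, one_01, neg_zero] at this
            exact one_ne_zero this
    · obtain ⟨a, ha⟩ := IsCyclic.exists_ofOrder_eq_natCard (α := Fˣ)
      rw [Nat.card_units, Nat.card_eq_fintype_card] at ha
      have hto : orderOf (tor a) = Fintype.card F - 1 := by
        rw [← ha]
        exact orderOf_injective (torusHom F) torusHom_injective a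
      have := pmk_order_eq hpar hd1 hto
      have hpos : 0 < orderOf (pmk (tor a)) := by
        rw [this]
        apply Nat.div_pos (Nat.le_of_dvd (by omega) hd1)
        rcases hpar with ⟨-, rfl⟩ | ⟨-, rfl⟩ <;> norm_num
      exact exists_order (by rw [this]; exact hm) hpos
    · obtain ⟨t₀, ht₀⟩ := exists_ellt (F := F)
      haveI := isCyclic_Tc (ellt_sq_ne ht₀)
      obtain ⟨g, hg⟩ := IsCyclic.exists_ofOrder_eq_natCard (α := Tc t₀)
      rw [card_Tc ht₀] at hg
      have hto : orderOf (g : Matrix.SpecialLinearGroup (Fin 2) F) = Fintype.card F + 1 := by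
        rw [Subgroup.orderOf_coe, hg]
      have := pmk_order_eq hpar hd2 hto
      have hpos : 0 < orderOf (pmk (g : Matrix.SpecialLinearGroup (Fin 2) F)) := by
        rw [this]
        apply Nat.div_pos (Nat.le_of_dvd (by omega) hd2)
        rcases hpar with ⟨-, rfl⟩ | ⟨-, rfl⟩ <;> norm_num
      exact exists_order (by rw [this]; exact hm) hpos

end Cfsg.Agent.S2475
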