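import Cfsg.Statements.S2477
import Cfsg.Agent.Helper8.CycleType

set_option autoImplicit false
open Cfsg

namespace Cfsg.Agent.S2477

/-- Table: possible (lcm, parity of the number of even parts) for multisets of parts `≥ 2` with sum `s`. -/
def tbl : ℕ → List (ℕ × ℕ)
  | 0 => [(1, 0)]
  | 1 => []
  | 2 => [(2, 1)]
  | 3 => [(3, 0)]
  | 4 => [(2, 0), (4, 1)]
  | 5 => [(5, 0), (6, 1)]
  | 6 => [(2, 1), (3, 0), (4, 0), (6, 1)]
  | 7 => [(6, 0), (7, 0), (10, 1), (12, 1)]
  | 8 => [(2, 0), (4, 0), (4, 1), (6, 0), (6, 1), (8, 1), (15, 0)]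
  | 9 => [(3, 0), (6, 1), (9, 0), (10, 0), (12, 0), (14, 1), (20, 1)]
  | 10 => [(2, 1), (4, 0), (4, 1), (5, 0), (6, 0), (6, 1), (8, 0), (10, 1), (12, 0), (12, 1), (21, 0), (30, 1)]
  | _ => []

theorem tbl_step : ∀ s ∈ List.range 11, ∀ a ∈ List.range 11, 2 ≤ a → a ≤ s → ∀ p ∈ tbl (s - a),
    (Nat.lcm a p.1, (a + 1 + p.2) % 2) ∈ tbl s := by
  decide

theorem tbl_final : ∀ s ∈ List.range 11, ∀ p ∈ tbl s, p.2 = 0 →
    p.1 ∈ [1, 2, 3, 4, 5, 6, 7, 8, 9, 10, 12, 15, 21] := by
  decide

theorem mem_tbl (s : ℕ) : s ≤ 10 → ∀ m : Multiset ℕ, (∀ x ∈ m, 2 ≤ x) → m.sum = s →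
    (m.lcm, (Multiset.card (m.filter (fun n => Even n))) % 2) ∈ tbl s := by
  induction s using Nat.strong_induction_on with
  | _ s ih =>
    intro hs m h2 hsum
    induction m using Multiset.induction_on with
    | empty =>
      simp at hsum
      subst hsum
      simp [tbl]
    | cons a m' _ =>
      have ha : 2 ≤ a := h2 a (Multiset.mem_cons_self _ _)
      have h2' : ∀ x ∈ m', 2 ≤ x := fun x hx => h2 x (Multiset.mem_cons_of_mem hx)
      rw [Multiset.sum_cons] at hsum
      have hale : a ≤ s := by omega
      have hrec := ih (s - a) (by omega) (by omega) m' h2' (by omega)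
      have hstep := tbl_step s (List.mem_range.mpr (by omega)) a (List.mem_range.mpr (by omega)) ha hale _ hrec
      have e1 : (a ::ₘ m').lcm = Nat.lcm a m'.lcm := by
        rw [Multiset.lcm_cons]; rfl
      have e2 : (Multiset.card ((a ::ₘ m').filter (fun n => Even n))) % 2
          = (a + 1 + (Multiset.card (m'.filter (fun n => Even n))) % 2) % 2 := by
        by_cases hea : Even a
        · rw [Multiset.filter_cons_of_pos _ hea, Multiset.card_cons]
          obtain ⟨k, hk⟩ := hea
          have key : ∀ c : ℕ, (c + 1) % 2 = (a + 1 + c % 2) % 2 := by intro c; omega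
          exact key _
        · rw [Multiset.filter_cons_of_neg _ hea]
          obtain ⟨k, hk⟩ := Nat.not_even_iff_odd.mp hea
          have key : ∀ c : ℕ, c % 2 = (a + 1 + c % 2) % 2 := by intro c; omega
          exact key _
      rw [e1, e2]
      exact hstep

/-- The set of element orders of the alternating group of degree 10 is {1, 2, 3, 4, 5, 6, 7, 8, 9, 10, 12, 15, 21}. -/
theorem result : Set.range (orderOf : alternatingGroup (Fin 10) → ℕ) = {1, 2, 3, 4, 5, 6, 7, 8, 9, 10, 12, 15, 21} := by
  apply Set.eq_of_subset_of_subset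
  · rintro _ ⟨σ, rfl⟩
    have hord : orderOf σ = orderOf (σ : Equiv.Perm (Fin 10)) := by
      rw [Subgroup.orderOf_coe]
    set m := (σ : Equiv.Perm (Fin 10)).cycleType with hm
    have hlcm : m.lcm = orderOf σ := by
      rw [hm, Equiv.Perm.lcm_cycleType, hord]
    have hsum : m.sum ≤ 10 := by
      have := Equiv.Perm.sum_cycleType_le (σ : Equiv.Perm (Fin 10))
      simpa using this
    have hsign : Equiv.Perm.sign (σ : Equiv.Perm (Fin 10)) = 1 :=
      Equiv.Perm.mem_alternatingGroup.mp σ.2
    rw [Equiv.Perm.sign_of_cycleType', Helper8.prod_sign_eq_pow_card_even] at hsign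
    have hEven : (Multiset.card (m.filter (fun k => Even k))) % 2 = 0 := by
      by_contra hodd
      have hodd' : Odd (Multiset.card (m.filter (fun k => Even k))) := by
        rw [Nat.odd_iff]; omega
      rw [hodd'.neg_one_pow] at hsign
      exact absurd hsign (by decide)
    have h2 : ∀ x ∈ m, 2 ≤ x := fun x hx => Equiv.Perm.two_le_of_mem_cycleType hx
    have hmem := mem_tbl m.sum hsum m h2 rfl
    have hfin := tbl_final m.sum (List.mem_range.mpr (by omega)) _ hmem hEven
    rw [hlcm] at hfin
    simp only [List.mem_cons, List.not_mem_nil, or_false] at hfin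
    simp only [Set.mem_insert_iff, Set.mem_singleton_iff]
    exact hfin
  · intro k hk
    simp only [Set.mem_insert_iff, Set.mem_singleton_iff] at hk
    have key : ∀ (m : Multiset ℕ), m.sum ≤ 10 → (∀ a ∈ m, 2 ≤ a) →
        Even (Multiset.card (m.filter (fun n => Even n))) →
        m.lcm ∈ Set.range (orderOf : alternatingGroup (Fin 10) → ℕ) := by
      intro m hs h2 he
      obtain ⟨g, hg⟩ := (Equiv.Perm.exists_with_cycleType_iff (α := Fin 10) (m := m)).mpr
        ⟨by simpa using hs, h2⟩
      have hsign : Equiv.Perm.sign g = 1 := by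
        rw [Equiv.Perm.sign_of_cycleType', hg, Helper8.prod_sign_eq_pow_card_even, he.neg_one_pow]
      have hmem : g ∈ alternatingGroup (Fin 10) := Equiv.Perm.mem_alternatingGroup.mpr hsign
      refine ⟨⟨g, hmem⟩, ?_⟩
      rw [Subgroup.orderOf_mk, ← Equiv.Perm.lcm_cycleType, hg]
    rcases hk with rfl | rfl | rfl | rfl | rfl | rfl | rfl | rfl | rfl | rfl | rfl | rfl | rfl
    · exact key 0 (by decide) (by decide) (by decide)
    · exact key {2, 2} (by decide) (by decide) (by decide)
    · exact key {3} (by decide) (by decide) (by decide)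
    · exact key {4, 2} (by decide) (by decide) (by decide)
    · exact key {5} (by decide) (by decide) (by decide)
    · exact key {3, 2, 2} (by decide) (by decide) (by decide)
    · exact key {7} (by decide) (by decide) (by decide)
    · exact key {8, 2} (by decide) (by decide) (by decide)
    · exact key {9} (by decide) (by decide) (by decide)
    · exact key {5, 2, 2} (by decide) (by decide) (by decide)
    · exact key {4, 3, 2} (by decide) (by decide) (by decide)
    · exact key {5, 3} (by decide) (by decide) (by decide)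
    · exact key {7, 3} (by decide) (by decide) (by decide)

end Cfsg.Agent.S2477
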