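import Mathlib
import Cfsg.Statements.S2485
import Cfsg.Agent.Helper8.PGL2Mersenne

set_option autoImplicit false
open scoped Pointwise
open Cfsg

namespace Cfsg.Agent.S2485

open Matrix Cfsg.Agent.Helper8.PGL2M

/-- Let q = 2^k − 1 ≥ 7 be a prime and let G = PGL(2,q), the general linear group of degree 2 over the field with q elements modulo its centre. Then any two Sylow 2-subgroups of G have a non-trivial intersection: for a Sylow 2-subgroup H and every x ∈ G, H ∩ H^x ≠ 1. -/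
theorem result {q k : ℕ} [Fact q.Prime] (hk : q + 1 = 2 ^ k) (hq : 7 ≤ q)
    (H : Sylow 2 (GL (Fin 2) (ZMod q) ⧸ Subgroup.center (GL (Fin 2) (ZMod q))))
    (x : GL (Fin 2) (ZMod q) ⧸ Subgroup.center (GL (Fin 2) (ZMod q))) :
    (H : Subgroup (GL (Fin 2) (ZMod q) ⧸ Subgroup.center (GL (Fin 2) (ZMod q)))) ⊓ MulAut.conj x • (H : Subgroup _) ≠ ⊥ := by
  classical
  have hk2 : 3 ≤ k := by
    by_contra hcon
    have hk' : k ≤ 2 := by omega
    have : 2 ^ k ≤ 2 ^ 2 := Nat.pow_le_pow_right (by norm_num) hk'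
    omega
  have h3 : q % 4 = 3 := by
    obtain ⟨j, rfl⟩ : ∃ j, k = j + 2 := ⟨k - 2, by omega⟩
    have : 2 ^ (j + 2) = 4 * 2 ^ j := by rw [pow_add]; ring
    omega
  let π : GL (Fin 2) (ZMod q) →* GL (Fin 2) (ZMod q) ⧸ Subgroup.center (GL (Fin 2) (ZMod q)) :=
    QuotientGroup.mk' (Subgroup.center (GL (Fin 2) (ZMod q)))
  have hπs : Function.Surjective π := QuotientGroup.mk'_surjective _
  have hker : ∀ g : GL (Fin 2) (ZMod q), π g = 1 ↔ g ∈ Subgroup.center (GL (Fin 2) (ZMod q)) := by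
    intro g
    exact QuotientGroup.eq_one_iff g
  -- the image of `S` is a `2`-group
  have hS2 : IsPGroup 2 ↥((S q).map π) := by
    rintro ⟨_, s, hs, rfl⟩
    refine ⟨k, ?_⟩
    apply Subtype.ext
    show π s ^ 2 ^ k = 1
    rw [← map_pow, hker]
    exact pow_mem_center hk h3 hs
  obtain ⟨P, hP⟩ := hS2.exists_le_sylow
  obtain ⟨z, hz⟩ := MulAction.exists_smul_eq (GL (Fin 2) (ZMod q) ⧸ Subgroup.center (GL (Fin 2) (ZMod q))) H P
  -- membership in `H` of conjugates of elements of the image of `S`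
  have hmem : ∀ s ∈ S q, z⁻¹ * π s * z ∈ (H : Subgroup _) := by
    intro s hs
    have h1 : π s ∈ (P : Subgroup _) := hP ⟨s, hs, rfl⟩
    rw [← hz, Sylow.coe_subgroup_smul, Subgroup.mem_pointwise_smul_iff_inv_smul_mem] at h1
    rw [MulAut.smul_def, ← map_inv, MulAut.conj_apply, inv_inv] at h1
    exact h1
  obtain ⟨y, hy⟩ := hπs (z * x * z⁻¹)
  obtain ⟨g, hgS, hgZ, hgy⟩ := exists_common h3 y
  intro hbot
  have hin : z⁻¹ * π g * z ∈ (H : Subgroup _) ⊓ MulAut.conj x • (H : Subgroup _) := by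
    refine Subgroup.mem_inf.mpr ⟨hmem g hgS, ?_⟩
    rw [Subgroup.mem_pointwise_smul_iff_inv_smul_mem, MulAut.smul_def, ← map_inv,
      MulAut.conj_apply, inv_inv]
    have := hmem _ hgy
    rw [map_mul, map_mul, map_inv, hy] at this
    have e : z⁻¹ * ((z * x * z⁻¹)⁻¹ * π g * (z * x * z⁻¹)) * z = x⁻¹ * (z⁻¹ * π g * z) * x := by
      group
    rw [e] at this
    exact this
  rw [hbot, Subgroup.mem_bot] at hin
  apply hgZ
  rw [← hker]
  have : π g = z * (z⁻¹ * π g * z) * z⁻¹ := by group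
  rw [this, hin]
  group

end Cfsg.Agent.S2485
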