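import Mathlib
import Cfsg.Statements.S2503
import Cfsg.Agent.Helper8.SL2ABA

set_option autoImplicit false
open Cfsg

namespace Cfsg.Agent.S2503

open Matrix Cfsg.Agent.Helper7.SL2 Cfsg.Agent.Helper8.SL2C Cfsg.Agent.Helper8.SL2ABA

/-- Let F be a finite field with q = 2^t ≥ 4 elements and L = PSL(2,F). Then L has a cyclic subgroup A of order q + 1 and an elementary abelian 2-subgroup B of order q such that L = ABA: every element of L is a product a·b·a' with a, a' ∈ A and b ∈ B. -/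
theorem result {F : Type*} [Field F] [Fintype F]
    (h2 : 2 ∣ Fintype.card F) (h4 : 4 ≤ Fintype.card F) :
    ∃ A B : Subgroup (Matrix.ProjectiveSpecialLinearGroup (Fin 2) F),
      IsCyclic A ∧ Nat.card A = Fintype.card F + 1 ∧ IsMulCommutative B ∧ (∀ b ∈ B, b * b = 1) ∧
        Nat.card B = Fintype.card F ∧
        ∀ g : Matrix.ProjectiveSpecialLinearGroup (Fin 2) F, ∃ a ∈ A, ∃ b ∈ B, ∃ c ∈ A, g = a * b * c := by
  classical
  have h2F : (2 : F) = 0 := two_eq_zero_of_dvd h2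
  obtain ⟨t, ht⟩ := exists_ellt (F := F)
  have hcen := center_eq_bot h2F
  let π : SpecialLinearGroup (Fin 2) F →* Matrix.ProjectiveSpecialLinearGroup (Fin 2) F :=
    QuotientGroup.mk' (Subgroup.center (SpecialLinearGroup (Fin 2) F))
  have hπ : Function.Injective π := by
    rw [← MonoidHom.ker_eq_bot_iff, QuotientGroup.ker_mk', hcen]
  have hπs : Function.Surjective π := QuotientGroup.mk'_surjective _
  refine ⟨(Tc t).map π, (U F).map π, ?_, ?_, ?_, ?_, ?_, ?_⟩
  · haveI : IsCyclic (Tc t) := isCyclic_Tc (ellt_sq_ne ht)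
    exact isCyclic_of_surjective (π.subgroupMap (Tc t)) (π.subgroupMap_surjective (Tc t))
  · rw [Subgroup.card_map_of_injective hπ, card_Tc ht]
  · refine ⟨⟨?_⟩⟩
    rintro ⟨_, a, ha, rfl⟩ ⟨_, b, hb, rfl⟩
    apply Subtype.ext
    show π a * π b = π b * π a
    rw [← map_mul, ← map_mul, U_comm ha hb]
  · rintro _ ⟨a, ha, rfl⟩
    rw [← map_mul, U_sq h2F ha, map_one]
  · rw [Subgroup.card_map_of_injective hπ, card_U]
  · intro g
    obtain ⟨g', rfl⟩ := hπs g
    obtain ⟨a, ha, u, hu, c, hc, hg⟩ := exists_decomp h2F ht g'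
    refine ⟨π a, ⟨a, ha, rfl⟩, π u, ⟨u, hu, rfl⟩, π c, ⟨c, hc, rfl⟩, ?_⟩
    rw [hg, map_mul, map_mul]

end Cfsg.Agent.S2503
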