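import Mathlib
import Cfsg.Statements.S2507
import Cfsg.Agent.Helper8.PSL2Cent

set_option autoImplicit false
open Cfsg

namespace Cfsg.Agent.S2507

open Cfsg.Agent.Helper8.SL2C Cfsg.Agent.Helper7.SL2 Cfsg.Agent.Helper8

variable {F : Type*} [Field F]

theorem index_centralizer_eq_of_isConj {G : Type*} [Group G] {g h : G} (hc : IsConj g h) :
    (Subgroup.centralizer ({g} : Set G)).index = (Subgroup.centralizer ({h} : Set G)).index := by
  rw [Cfsg.Agent.Helper4.index_centralizer_eq_card_carrier,
    Cfsg.Agent.Helper4.index_centralizer_eq_card_carrier, ConjClasses.mk_eq_mk_iff_isConj.mpr hc]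

theorem two_eq_zero_of_even [Fintype F] (h2 : 2 ∣ Fintype.card F) : (2 : F) = 0 := by
  have h := FiniteField.even_card_iff_char_two.mpr (Nat.mod_eq_zero_of_dvd h2)
  have : ((ringChar F : ℕ) : F) = 0 := ringChar.Nat.cast_ringChar
  rw [h] at this
  exact_mod_cast this

theorem exists_ne_zero_one [Fintype F] (h3 : 3 ≤ Fintype.card F) : ∃ a : F, a ≠ 0 ∧ a ≠ 1 := by
  classical
  by_contra hcon
  push Not at hcon
  have : (Finset.univ : Finset F) ⊆ {0, 1} := by
    intro a _
    by_cases ha : a = 0
    · rw [ha]; simp
    · rw [hcon a ha]; simp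
  have h1 := Finset.card_le_card this
  have h2 : ({0, 1} : Finset F).card ≤ 2 := Finset.card_le_two
  rw [Finset.card_univ] at h1
  omega

/-- Let F be a finite field with q = 2^f ≥ 4 elements. The conjugacy class sizes of PSL(2,F) are exactly 1, q(q − 1), q² − 1 and q(q + 1). -/
theorem result {F : Type*} [Field F] [Fintype F]
    (h2 : 2 ∣ Fintype.card F) (h4 : 4 ≤ Fintype.card F) :
    Set.range (fun g : (Matrix.ProjectiveSpecialLinearGroup (Fin 2) F) => (Subgroup.centralizer ({g} : Set (Matrix.ProjectiveSpecialLinearGroup (Fin 2) F))).index) =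
      {1, Fintype.card F * (Fintype.card F - 1), Fintype.card F ^ 2 - 1, Fintype.card F * (Fintype.card F + 1)} := by
  have h20 : (2 : F) = 0 := two_eq_zero_of_even h2
  obtain ⟨k, hk⟩ : ∃ k, Fintype.card F = k + 1 := ⟨Fintype.card F - 1, by omega⟩
  have hsq : Fintype.card F ^ 2 - 1 = k * (k + 2) := by
    rw [hk]; apply Nat.sub_eq_of_eq_add; ring
  have hidx : ∀ g : Matrix.SpecialLinearGroup (Fin 2) F,
      (Subgroup.centralizer ({pmk g} : Set (Matrix.ProjectiveSpecialLinearGroup (Fin 2) F))).index =
        (Subgroup.centralizer ({g} : Set (Matrix.SpecialLinearGroup (Fin 2) F))).index := by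
    intro g
    rw [index_centralizer_pmk, Cstar_eq_of_char_two h20]
  -- the four types
  have hell : ∀ g : Matrix.SpecialLinearGroup (Fin 2) F, IsEll g →
      (Subgroup.centralizer ({g} : Set (Matrix.SpecialLinearGroup (Fin 2) F))).index =
        Fintype.card F * (Fintype.card F - 1) := by
    intro g hg
    apply index_of_card (card_centralizer_of_ell hg)
    rw [hsq, hk, Nat.add_sub_cancel]; ring
  have htor : ∀ a : Fˣ, (a : F) ^ 2 ≠ 1 →
      (Subgroup.centralizer ({tor a} : Set (Matrix.SpecialLinearGroup (Fin 2) F))).index =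
        Fintype.card F * (Fintype.card F + 1) := by
    intro a ha
    apply index_of_card (card_centralizer_tor ha)
    rw [hsq, hk, Nat.add_sub_cancel]; ring
  have hup : ∀ β : F, β ≠ 0 →
      (Subgroup.centralizer ({up β} : Set (Matrix.SpecialLinearGroup (Fin 2) F))).index =
        Fintype.card F ^ 2 - 1 := by
    intro β hβ
    rw [centralizer_up hβ]
    exact index_of_card (card_ZU_char_two h20) rfl
  have hone : (Subgroup.centralizer ({(1 : Matrix.SpecialLinearGroup (Fin 2) F)} :
      Set (Matrix.SpecialLinearGroup (Fin 2) F))).index = 1 := by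
    have : Subgroup.centralizer ({(1 : Matrix.SpecialLinearGroup (Fin 2) F)} :
        Set (Matrix.SpecialLinearGroup (Fin 2) F)) = ⊤ := by
      rw [eq_top_iff]
      intro h _
      rw [Subgroup.mem_centralizer_singleton_iff, one_mul, mul_one]
    rw [this, Subgroup.index_top]
  ext n
  simp only [Set.mem_range, Set.mem_insert_iff, Set.mem_singleton_iff]
  constructor
  · rintro ⟨x, rfl⟩
    obtain ⟨g, rfl⟩ := pmk_surjective x
    rw [hidx]
    have hupcase : ∀ β : F, IsConj g (up β) →
        (Subgroup.centralizer ({g} : Set (Matrix.SpecialLinearGroup (Fin 2) F))).index = 1 ∨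
        (Subgroup.centralizer ({g} : Set (Matrix.SpecialLinearGroup (Fin 2) F))).index =
          Fintype.card F ^ 2 - 1 := by
      intro β hc
      rw [index_centralizer_eq_of_isConj hc]
      by_cases hβ : β = 0
      · left
        rw [hβ, up_zero]
        exact hone
      · right
        exact hup β hβ
    rcases classify g with hg | ⟨a, ha, hc⟩ | ⟨β, hc⟩ | ⟨β, hc⟩
    · right; left
      exact hell g hg
    · right; right; right
      rw [index_centralizer_eq_of_isConj hc]
      exact htor a ha
    · rcases hupcase β hc with h | h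
      · exact Or.inl h
      · exact Or.inr (Or.inr (Or.inl h))
    · rw [neg_eq_self_of_char_two h20] at hc
      rcases hupcase β hc with h | h
      · exact Or.inl h
      · exact Or.inr (Or.inr (Or.inl h))
  · rintro (rfl | rfl | rfl | rfl)
    · exact ⟨pmk 1, by rw [hidx]; exact hone⟩
    · obtain ⟨t₀, ht₀⟩ := exists_ellt (F := F)
      refine ⟨pmk (comp t₀), ?_⟩
      rw [hidx]
      apply hell
      rw [isEll_iff_ellt, tr_comp]
      exact ht₀
    · exact ⟨pmk (up 1), by rw [hidx]; exact hup 1 one_ne_zero⟩
    · obtain ⟨a, ha0, ha1⟩ := exists_ne_zero_one (F := F) (by omega)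
      refine ⟨pmk (tor (Units.mk0 a ha0)), ?_⟩
      rw [hidx]
      apply htor
      rw [Units.val_mk0]
      intro h
      apply ha1
      have : (a - 1) ^ 2 = 0 := by linear_combination h + (1 - a) * h20
      have := pow_eq_zero_iff (two_ne_zero) |>.mp this
      linear_combination this

end Cfsg.Agent.S2507
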