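import Mathlib
import Cfsg.Statements.S2508
import Cfsg.Agent.Helper8.PSL2ClassSize

set_option autoImplicit false
open Cfsg

namespace Cfsg.Agent.S2508

open Cfsg.Agent.Helper8.SL2C Cfsg.Agent.Helper7.SL2 Cfsg.Agent.Helper8

/-- Let F be a finite field with q elements, q odd and q ≥ 7. If q ≡ 1 (mod 4) the conjugacy class sizes of PSL(2,F) are exactly 1, (q² − 1)/2, q(q + 1)/2, q(q − 1) and q(q + 1); if q ≡ 3 (mod 4) they are exactly 1, (q² − 1)/2, q(q − 1)/2, q(q + 1) and q(q − 1). -/
theorem result {F : Type*} [Field F] [Fintype F]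
    (hodd : ¬ 2 ∣ Fintype.card F) (h7 : 7 ≤ Fintype.card F) :
    (Fintype.card F % 4 = 1 →
      Set.range (fun g : (Matrix.ProjectiveSpecialLinearGroup (Fin 2) F) => (Subgroup.centralizer ({g} : Set (Matrix.ProjectiveSpecialLinearGroup (Fin 2) F))).index) =
        {1, (Fintype.card F ^ 2 - 1) / 2, Fintype.card F * (Fintype.card F + 1) / 2,
          Fintype.card F * (Fintype.card F - 1), Fintype.card F * (Fintype.card F + 1)}) ∧
    (Fintype.card F % 4 = 3 →
      Set.range (fun g : (Matrix.ProjectiveSpecialLinearGroup (Fin 2) F) => (Subgroup.centralizer ({g} : Set (Matrix.ProjectiveSpecialLinearGroup (Fin 2) F))).index) =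
        {1, (Fintype.card F ^ 2 - 1) / 2, Fintype.card F * (Fintype.card F - 1) / 2,
          Fintype.card F * (Fintype.card F + 1), Fintype.card F * (Fintype.card F - 1)}) := by
  obtain ⟨k, hk⟩ : ∃ k, Fintype.card F = 2 * k + 1 := ⟨Fintype.card F / 2, by omega⟩
  have hk3 : 3 ≤ k := by omega
  have h2 : (2 : F) ≠ 0 := Cfsg.Agent.Helper7.two_ne_zero_of_odd_card ⟨k, hk⟩
  have c1 : (Fintype.card F ^ 2 - 1) / 2 = 2 * (k * (k + 1)) := by
    apply Nat.div_eq_of_eq_mul_left (by norm_num)
    rw [hk]; apply Nat.sub_eq_of_eq_add; ring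
  have c2 : Fintype.card F * (Fintype.card F + 1) / 2 = (2 * k + 1) * (k + 1) := by
    apply Nat.div_eq_of_eq_mul_left (by norm_num)
    rw [hk]; ring
  have c3 : Fintype.card F * (Fintype.card F - 1) / 2 = (2 * k + 1) * k := by
    apply Nat.div_eq_of_eq_mul_left (by norm_num)
    rw [hk, Nat.add_sub_cancel]; ring
  have c4 : Fintype.card F * (Fintype.card F - 1) = (2 * k + 1) * (2 * k) := by
    rw [hk, Nat.add_sub_cancel]
  have c5 : Fintype.card F * (Fintype.card F + 1) = (2 * k + 1) * (2 * k + 2) := by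
    rw [hk]
  rw [c1, c2, c3, c4, c5]
  have hrange : ∀ n : ℕ, n ∈ Set.range (fun g : (Matrix.ProjectiveSpecialLinearGroup (Fin 2) F) =>
      (Subgroup.centralizer ({g} : Set (Matrix.ProjectiveSpecialLinearGroup (Fin 2) F))).index) ↔
      ∃ g : Matrix.SpecialLinearGroup (Fin 2) F, csize g = n := by
    intro n
    constructor
    · rintro ⟨x, rfl⟩
      obtain ⟨g, rfl⟩ := pmk_surjective x
      exact ⟨g, rfl⟩
    · rintro ⟨g, rfl⟩
      exact ⟨pmk g, rfl⟩
  constructor
  · intro h4
    have hsq : IsSquare (-1 : F) := FiniteField.isSquare_neg_one_iff.mpr (by omega)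
    ext n
    rw [hrange]
    simp only [Set.mem_insert_iff, Set.mem_singleton_iff]
    constructor
    · rintro ⟨g, rfl⟩
      rcases csize_cases h2 hk g with h | h | h | h | ⟨h, -⟩ | ⟨-, h⟩
      · exact Or.inl h
      · exact Or.inr (Or.inl h)
      · exact Or.inr (Or.inr (Or.inr (Or.inr h)))
      · exact Or.inr (Or.inr (Or.inr (Or.inl h)))
      · exact Or.inr (Or.inr (Or.inl h))
      · exact absurd hsq h
    · rintro (rfl | rfl | rfl | rfl | rfl)
      · exact ⟨1, csize_one⟩
      · exact ⟨up 1, csize_up h2 hk one_ne_zero⟩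
      · exact exists_csize_split_zero h2 hk hsq
      · exact exists_csize_ell h2 hk (by omega)
      · exact exists_csize_split h2 hk hk3
  · intro h4
    have hsq : ¬ IsSquare (-1 : F) := by
      rw [FiniteField.isSquare_neg_one_iff]
      omega
    ext n
    rw [hrange]
    simp only [Set.mem_insert_iff, Set.mem_singleton_iff]
    constructor
    · rintro ⟨g, rfl⟩
      rcases csize_cases h2 hk g with h | h | h | h | ⟨-, h⟩ | ⟨h, -⟩
      · exact Or.inl h
      · exact Or.inr (Or.inl h)
      · exact Or.inr (Or.inr (Or.inr (Or.inl h)))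
      · exact Or.inr (Or.inr (Or.inr (Or.inr h)))
      · exact absurd h hsq
      · exact Or.inr (Or.inr (Or.inl h))
    · rintro (rfl | rfl | rfl | rfl | rfl)
      · exact ⟨1, csize_one⟩
      · exact ⟨up 1, csize_up h2 hk one_ne_zero⟩
      · exact exists_csize_ell_zero h2 hk hsq
      · exact exists_csize_split h2 hk hk3
      · exact exists_csize_ell h2 hk (by omega)

end Cfsg.Agent.S2508
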