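import Cfsg.Statements.S2510
import Mathlib
import Cfsg.Agent.Lead.SpecPSLh

set_option autoImplicit false
open Cfsg

namespace Cfsg.Agent.S2510

/-- Let F be a finite field with q = p^a elements, n ≥ 2 (with q ≥ 4 when n = 2), L = PSL(n, F), and let r be a prime dividing q − 1 and not dividing n. Then for every m the direct product L × L × L × (ℤ/r)^m has the same set of element orders as L × L × L; and if n − 1 ≠ p^j for every j ≥ 0 (so never when n = 2, since 1 = p^0), then already L × L × (ℤ/r)^m has the same set of element orders as L × L. -/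
theorem result {F : Type*} [Field F] [Fintype F] (p a n r m : ℕ) (hp : p.Prime) (ha : 1 ≤ a) (hF : Fintype.card F = p ^ a)
    (hn : 2 ≤ n) (hn2 : n = 2 → 4 ≤ Fintype.card F) (hr : r.Prime) (hrq : r ∣ Fintype.card F - 1) (hrn : ¬ r ∣ n) :
    Set.range (orderOf : Matrix.ProjectiveSpecialLinearGroup (Fin n) F × Matrix.ProjectiveSpecialLinearGroup (Fin n) F × Matrix.ProjectiveSpecialLinearGroup (Fin n) F × Multiplicative (Fin m → ZMod r) → ℕ) =
      Set.range (orderOf : Matrix.ProjectiveSpecialLinearGroup (Fin n) F × Matrix.ProjectiveSpecialLinearGroup (Fin n) F × Matrix.ProjectiveSpecialLinearGroup (Fin n) F → ℕ) ∧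
    ((¬ ∃ j : ℕ, n - 1 = p ^ j) →
      Set.range (orderOf : Matrix.ProjectiveSpecialLinearGroup (Fin n) F × Matrix.ProjectiveSpecialLinearGroup (Fin n) F × Multiplicative (Fin m → ZMod r) → ℕ) =
        Set.range (orderOf : Matrix.ProjectiveSpecialLinearGroup (Fin n) F × Matrix.ProjectiveSpecialLinearGroup (Fin n) F → ℕ)) := by
  classical
  haveI : Fact p.Prime := ⟨hp⟩
  haveI : CharP F p := charP_of_card_eq_prime_pow hF
  haveI : Fact r.Prime := ⟨hr⟩
  have hv : ∀ v : Multiplicative (Fin m → ZMod r), orderOf v = 1 ∨ orderOf v = r := by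
    intro v
    have h1 : v ^ r = 1 := by
      have : ∀ w : Fin m → ZMod r, r • w = 0 := by
        intro w; funext i; simp
      exact congrArg Multiplicative.ofAdd (this (Multiplicative.toAdd v))
    exact (Nat.dvd_prime hr).mp (orderOf_dvd_of_pow_eq_one h1)
  refine ⟨?_, fun hj => ?_⟩
  · apply Set.eq_of_subset_of_subset
    · rintro N ⟨⟨x₁, x₂, x₃, v⟩, rfl⟩
      simp only [Prod.orderOf]
      rcases hv v with h | h
      · refine ⟨(x₁, x₂, x₃), ?_⟩
        simp only [Prod.orderOf, h, Nat.lcm_one_right]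
      · obtain ⟨y₁, y₂, y₃, hy⟩ := Cfsg.Agent.Lead.SpecPSL.three p hr hrq hrn hn x₁ x₂ x₃
        refine ⟨(y₁, y₂, y₃), ?_⟩
        simp only [Prod.orderOf, h]
        exact hy
    · rintro N ⟨⟨x₁, x₂, x₃⟩, rfl⟩
      refine ⟨(x₁, x₂, x₃, 1), ?_⟩
      simp only [Prod.orderOf, orderOf_one, Nat.lcm_one_right]
  · apply Set.eq_of_subset_of_subset
    · rintro N ⟨⟨x₁, x₂, v⟩, rfl⟩
      simp only [Prod.orderOf]
      rcases hv v with h | h
      · refine ⟨(x₁, x₂), ?_⟩
        simp only [Prod.orderOf, h, Nat.lcm_one_right]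
      · obtain ⟨y₁, y₂, hy⟩ := Cfsg.Agent.Lead.SpecPSL.two p hr hrq hrn hn hj x₁ x₂
        refine ⟨(y₁, y₂), ?_⟩
        simp only [Prod.orderOf, h]
        exact hy
    · rintro N ⟨⟨x₁, x₂⟩, rfl⟩
      refine ⟨(x₁, x₂, 1), ?_⟩
      simp only [Prod.orderOf, orderOf_one, Nat.lcm_one_right]

end Cfsg.Agent.S2510
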