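import Cfsg.Statements.S2514

set_option autoImplicit false
open Cfsg

namespace Cfsg.Agent.S2514

section
variable {X : Type*} [Group X] [Finite X]

theorem om_dvd {n d : ℕ} (hn : n ∈ Set.range (orderOf : X → ℕ)) (hd : d ∣ n) :
    d ∈ Set.range (orderOf : X → ℕ) := by
  obtain ⟨x, rfl⟩ := hn
  obtain ⟨e, he⟩ := hd
  have hpos : 0 < orderOf x := orderOf_pos x
  have he0 : e ≠ 0 := by
    rintro rfl
    rw [mul_zero] at he
    omega
  refine ⟨x ^ e, ?_⟩
  rw [orderOf_pow_of_dvd he0 ⟨d, by rw [he, mul_comm]⟩, he]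
  exact Nat.mul_div_cancel _ (Nat.pos_of_ne_zero he0)

theorem exists_mu {n : ℕ} (hn : n ∈ Set.range (orderOf : X → ℕ)) :
    ∃ m, (m ∈ Set.range (orderOf : X → ℕ) ∧ ∀ m' ∈ Set.range (orderOf : X → ℕ), m ∣ m' → m' = m) ∧ n ∣ m := by
  classical
  have hfin : (Set.range (orderOf : X → ℕ)).Finite := Set.finite_range _
  set S : Finset ℕ := hfin.toFinset.filter (fun m => n ∣ m) with hS
  have hne : S.Nonempty := ⟨n, by simp [hS, hn]⟩
  obtain ⟨m, hmS, hmax⟩ := S.exists_max_image id hne
  have hm : m ∈ Set.range (orderOf : X → ℕ) ∧ n ∣ m := by simpa [hS] using hmS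
  refine ⟨m, ⟨hm.1, ?_⟩, hm.2⟩
  intro m' hm' hdvd
  have hm'S : m' ∈ S := by
    simp only [hS, Finset.mem_filter, Set.Finite.mem_toFinset]
    exact ⟨hm', hm.2.trans hdvd⟩
  have h1 : m' ≤ m := hmax m' hm'S
  obtain ⟨y, rfl⟩ := hm'
  have h2 : m ≤ orderOf y := Nat.le_of_dvd (orderOf_pos y) hdvd
  omega

end

/-- For a finite group X write μ(X) for the set of element orders of X that are maximal under divisibility. Let G and H be finite groups and k ≥ 1 such that μ(H) ⊆ μ(G) and μ(G) has fewer than k elements outside μ(H). Then the direct product of k copies of G has the same set of element orders as the direct product of k − 1 copies of G with H. -/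
theorem result {G H : Type*} [Group G] [Finite G] [Group H] [Finite H] (k : ℕ) (hk : 1 ≤ k)
    (hsub : {n : ℕ | n ∈ Set.range (orderOf : H → ℕ) ∧ ∀ m ∈ Set.range (orderOf : H → ℕ), n ∣ m → m = n} ⊆ {n : ℕ | n ∈ Set.range (orderOf : G → ℕ) ∧ ∀ m ∈ Set.range (orderOf : G → ℕ), n ∣ m → m = n})
    (hfew : ({n : ℕ | n ∈ Set.range (orderOf : G → ℕ) ∧ ∀ m ∈ Set.range (orderOf : G → ℕ), n ∣ m → m = n} \ {n : ℕ | n ∈ Set.range (orderOf : H → ℕ) ∧ ∀ m ∈ Set.range (orderOf : H → ℕ), n ∣ m → m = n}).ncard < k) :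
    Set.range (orderOf : (Fin k → G) → ℕ) = Set.range (orderOf : (Fin (k - 1) → G) × H → ℕ) := by
  classical
  obtain ⟨k', rfl⟩ : ∃ k', k = k' + 1 := ⟨k - 1, by omega⟩
  change Set.range (orderOf : (Fin (k' + 1) → G) → ℕ) = Set.range (orderOf : (Fin k' → G) × H → ℕ)
  -- order of H-elements occur in G
  have hHG : ∀ n, n ∈ Set.range (orderOf : H → ℕ) → n ∈ Set.range (orderOf : G → ℕ) := by
    intro n hn
    obtain ⟨m, hm, hnm⟩ := exists_mu hn
    exact om_dvd (hsub hm).1 hnm
  have powPi : ∀ (ι : Type) (x : ι → G) (d : ℕ), x ^ d = 1 ↔ ∀ i, orderOf (x i) ∣ d := by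
    intro ι x d
    rw [funext_iff]
    simp only [Pi.pow_apply, Pi.one_apply, orderOf_dvd_iff_pow_eq_one]
  have powProd : ∀ (y : (Fin k' → G) × H) (d : ℕ), y ^ d = 1 ↔ (∀ i, orderOf (y.1 i) ∣ d) ∧ orderOf y.2 ∣ d := by
    intro y d
    rw [Prod.ext_iff, Prod.pow_fst, Prod.pow_snd, Prod.fst_one, Prod.snd_one, powPi,
      orderOf_dvd_iff_pow_eq_one]
  apply Set.eq_of_subset_of_subset
  · rintro _ ⟨x, rfl⟩
    -- each component order divides some maximal order
    have hμ : ∀ i, ∃ m, (m ∈ Set.range (orderOf : G → ℕ) ∧ ∀ m' ∈ Set.range (orderOf : G → ℕ), m ∣ m' → m' = m) ∧ orderOf (x i) ∣ m :=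
      fun i => exists_mu ⟨x i, rfl⟩
    choose μ hμ1 hμ2 using hμ
    by_cases hcase : ∃ j, μ j ∈ {n : ℕ | n ∈ Set.range (orderOf : H → ℕ) ∧ ∀ m ∈ Set.range (orderOf : H → ℕ), n ∣ m → m = n}
    · obtain ⟨j, hj⟩ := hcase
      obtain ⟨h, hh⟩ := om_dvd hj.1 (hμ2 j)
      refine ⟨(fun t => x (j.succAbove t), h), ?_⟩
      rw [orderOf_eq_orderOf_iff]
      intro d
      rw [powProd, powPi]
      simp only [hh]
      constructor
      · rintro ⟨h1, h2⟩ i
        rcases Fin.eq_self_or_eq_succAbove j i with rfl | ⟨t, rfl⟩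
        · exact h2
        · exact h1 t
      · intro h1
        exact ⟨fun t => h1 _, h1 j⟩
    · push Not at hcase
      set S := ({n : ℕ | n ∈ Set.range (orderOf : G → ℕ) ∧ ∀ m ∈ Set.range (orderOf : G → ℕ), n ∣ m → m = n} \ {n : ℕ | n ∈ Set.range (orderOf : H → ℕ) ∧ ∀ m ∈ Set.range (orderOf : H → ℕ), n ∣ m → m = n}) with hS
      have hSfin : S.Finite := by
        apply Set.Finite.subset (Set.finite_range (orderOf : G → ℕ))
        intro n hn
        exact hn.1.1
      have hμS : ∀ i, μ i ∈ S := fun i => ⟨hμ1 i, hcase i⟩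
      have hninj : ¬ Function.Injective μ := by
        intro hinj
        have h1 : (Set.range μ).ncard = k' + 1 := by
          rw [← Set.image_univ, Set.ncard_image_of_injective _ hinj, Set.ncard_univ, Nat.card_fin]
        have h2 : (Set.range μ).ncard ≤ S.ncard := by
          apply Set.ncard_le_ncard _ hSfin
          rintro _ ⟨i, rfl⟩
          exact hμS i
        omega
      rw [Function.Injective] at hninj
      push Not at hninj
      obtain ⟨i, j, hij, hne⟩ := hninj
      -- an element of order lcm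
      have hl : Nat.lcm (orderOf (x i)) (orderOf (x j)) ∈ Set.range (orderOf : G → ℕ) :=
        om_dvd (hμ1 i).1 (Nat.lcm_dvd (hμ2 i) (hij ▸ hμ2 j))
      obtain ⟨g, hg⟩ := hl
      refine ⟨(fun t => if j.succAbove t = i then g else x (j.succAbove t), 1), ?_⟩
      rw [orderOf_eq_orderOf_iff]
      intro d
      rw [powProd, powPi]
      simp only [orderOf_one, one_dvd, and_true]
      constructor
      · intro h1 t
        rcases Fin.eq_self_or_eq_succAbove j t with rfl | ⟨s, rfl⟩
        · obtain ⟨s, hs⟩ := Fin.exists_succAbove_eq hne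
          have := h1 s
          rw [if_pos hs, hg] at this
          exact (Nat.dvd_lcm_right _ _).trans this
        · have := h1 s
          split_ifs at this with hs
          · rw [hg] at this
            rw [hs]
            exact (Nat.dvd_lcm_left _ _).trans this
          · exact this
      · intro h1 t
        split_ifs with ht
        · rw [hg]
          exact Nat.lcm_dvd (h1 i) (h1 j)
        · exact h1 _
  · rintro _ ⟨y, rfl⟩
    obtain ⟨g, hg⟩ := hHG (orderOf y.2) ⟨y.2, rfl⟩
    refine ⟨Fin.cons g y.1, ?_⟩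
    rw [orderOf_eq_orderOf_iff]
    intro d
    rw [powProd, powPi, Fin.forall_fin_succ]
    simp only [Fin.cons_zero, Fin.cons_succ, hg]
    tauto

end Cfsg.Agent.S2514
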