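import Cfsg.Statements.S2516

set_option autoImplicit false
open Cfsg

namespace Cfsg.Agent.S2516

variable {F : Type*} [Field F] {V : Type*} [AddCommGroup V] [Module F V]
  {G : Type*} [Group G]

/-- The action used in the semidirect product. -/
abbrev phi (ρ : Representation F G V) : G →* MulAut (Multiplicative V) :=
  (MulAutMultiplicative V).symm.toMonoidHom.comp
    ((DistribMulAction.toAddAut ((V →ₗ[F] V)ˣ) V).comp ρ.asGroupHom)

theorem phi_apply (ρ : Representation F G V) (g : G) (v : V) :
    phi ρ g (Multiplicative.ofAdd v) = Multiplicative.ofAdd (ρ g v) := rfl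

theorem pow_formula (ρ : Representation F G V) (g : G) (v : V) (n : ℕ) :
    (⟨Multiplicative.ofAdd v, g⟩ : Multiplicative V ⋊[phi ρ] G) ^ n
      = ⟨Multiplicative.ofAdd ((∑ i ∈ Finset.range n, (ρ g) ^ i) v), g ^ n⟩ := by
  induction n with
  | zero =>
    simp
  | succ n ih =>
    rw [pow_succ, ih]
    apply SemidirectProduct.ext
    · rw [SemidirectProduct.mul_left]
      simp only
      rw [phi_apply, ← ofAdd_add, Finset.sum_range_succ, LinearMap.add_apply, map_pow]
    · rw [SemidirectProduct.mul_right]
      simp only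
      rw [pow_succ]

/-- Let F be a field of characteristic p > 0, V a non-zero finite-dimensional F-vector space, G a finite group and ρ a representation of G on V; form the semidirect product V ⋊ G. For g ∈ G of order k, the coset Vg contains an element of order pk if and only if the minimal polynomial of ρ(g) does not divide 1 + X + ⋯ + X^(k−1). -/
theorem result {F : Type*} [Field F] (p : ℕ) [Fact p.Prime] [CharP F p] {V : Type*} [AddCommGroup V] [Module F V] [FiniteDimensional F V] [Nontrivial V]
    {G : Type*} [Group G] [Finite G] (ρ : Representation F G V) (g : G) :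
    (∃ x : Multiplicative V ⋊[(MulAutMultiplicative V).symm.toMonoidHom.comp
        ((DistribMulAction.toAddAut ((V →ₗ[F] V)ˣ) V).comp ρ.asGroupHom)] G,
        x.right = g ∧ orderOf x = p * orderOf g) ↔
      ¬ (minpoly F (ρ g) ∣ ∑ i ∈ Finset.range (orderOf g), (Polynomial.X : Polynomial F) ^ i) := by
  have hp2 := (Fact.out : p.Prime).two_le
  have hkpos : 0 < orderOf g := orderOf_pos g
  set k := orderOf g with hk
  set T : V →ₗ[F] V := ∑ i ∈ Finset.range k, (ρ g) ^ i with hT
  have haeval : Polynomial.aeval (ρ g) (∑ i ∈ Finset.range k, (Polynomial.X : Polynomial F) ^ i) = T := by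
    simp [map_sum, hT]
  rw [minpoly.dvd_iff, haeval]
  have hxk : ∀ v : V, (⟨Multiplicative.ofAdd v, g⟩ : Multiplicative V ⋊[phi ρ] G) ^ k
      = ⟨Multiplicative.ofAdd (T v), 1⟩ := by
    intro v
    rw [pow_formula, hk, pow_orderOf_eq_one]
  constructor
  · rintro ⟨x, hxg, hord⟩ hT0
    obtain ⟨l, r⟩ := x
    simp only at hxg
    subst hxg
    have h1 := hxk (Multiplicative.toAdd l)
    rw [hT0, LinearMap.zero_apply] at h1
    have h2 : (⟨l, r⟩ : Multiplicative V ⋊[phi ρ] G) ^ k = 1 := h1
    have hdvd := orderOf_dvd_of_pow_eq_one h2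
    rw [hord] at hdvd
    have := Nat.le_of_dvd hkpos hdvd
    nlinarith
  · intro hT0
    obtain ⟨v, hv⟩ : ∃ v, T v ≠ 0 := by
      by_contra h
      push Not at h
      exact hT0 (LinearMap.ext h)
    refine ⟨⟨Multiplicative.ofAdd v, g⟩, rfl, ?_⟩
    set x : Multiplicative V ⋊[phi ρ] G := ⟨Multiplicative.ofAdd v, g⟩ with hx
    have h1 : orderOf (x ^ k) = p := by
      rw [hxk]
      have : (⟨Multiplicative.ofAdd (T v), 1⟩ : Multiplicative V ⋊[phi ρ] G)
          = SemidirectProduct.inl (Multiplicative.ofAdd (T v)) := rfl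
      rw [this, orderOf_injective _ SemidirectProduct.inl_injective, orderOf_ofAdd_eq_addOrderOf]
      apply addOrderOf_eq_prime _ hv
      rw [← Nat.cast_smul_eq_nsmul F, CharP.cast_eq_zero F p, zero_smul]
    have h2 : k ∣ orderOf x := by
      have := orderOf_map_dvd (SemidirectProduct.rightHom : Multiplicative V ⋊[phi ρ] G →* G) x
      simpa [hx] using this
    have h3 := orderOf_pow' x (hkpos.ne')
    rw [Nat.gcd_eq_right h2] at h3
    obtain ⟨m, hm⟩ := h2
    rw [hm, Nat.mul_div_cancel_left _ hkpos] at h3
    change orderOf x = p * k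
    rw [hm, ← h1, h3]
    ring

end Cfsg.Agent.S2516
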