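import Mathlib
import Cfsg.Agent.Helper2.G23P.Inst
import Cfsg.Agent.Helper2.G23P.PslSide
import Cfsg.Agent.Helper5.ChevEquiv
import Cfsg.Statements.S2518
-- import your own Cfsg.Agent.* helpers here

set_option autoImplicit false
open Cfsg

namespace Cfsg.Agent.S2518

/-- Let F₃ be the field with 3 elements and F₁₃ the field with 13 elements. The Chevalley group G₂(F₃) and PSL(2, F₁₃) have the same prime graph: the same prime divisors of their orders, and for distinct primes r, s an element of order rs in one iff in the other. -/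
theorem result {F : Type*} [Field F] [Fintype F] (hF : Fintype.card F = 3) {E : Type*} [Field E] [Fintype E] (hE : Fintype.card E = 13) :
    ((∀ r : ℕ, r.Prime → (r ∣ Nat.card ↥(Cfsg.Lie.chevG2.group F) ↔ r ∣ Nat.card (Matrix.ProjectiveSpecialLinearGroup (Fin 2) E))) ∧
      (∀ r s : ℕ, r.Prime → s.Prime → r ≠ s → ((∃ x : ↥(Cfsg.Lie.chevG2.group F), orderOf x = r * s) ↔ (∃ y : (Matrix.ProjectiveSpecialLinearGroup (Fin 2) E), orderOf y = r * s)))) := by
  have e : ZMod 3 ≃+* F := FiniteField.ringEquivOfCardEq (by rw [ZMod.card, hF])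
  have φ : ↥(Cfsg.Lie.chevG2.group (ZMod 3)) ≃* ↥(Cfsg.Lie.chevG2.group F) :=
    Cfsg.Agent.Helper5.ChevEquiv.chevEquiv Cfsg.Lie.chevG2 e
  obtain ⟨hG1, hG2⟩ := Cfsg.Agent.Helper2.G23P.main_GG
  have hcard : Nat.card ↥(Cfsg.Lie.chevG2.group F) =
      Nat.card ↥(Cfsg.Lie.chevG2.group (ZMod 3)) := (Nat.card_congr φ.toEquiv).symm
  have hex : ∀ k : ℕ, (∃ x : ↥(Cfsg.Lie.chevG2.group F), orderOf x = k) ↔
      (∃ x : ↥(Cfsg.Lie.chevG2.group (ZMod 3)), orderOf x = k) := by
    intro k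
    constructor
    · rintro ⟨x, hx⟩
      exact ⟨φ.symm x, by rw [MulEquiv.orderOf_eq]; exact hx⟩
    · rintro ⟨x, hx⟩
      exact ⟨φ x, by rw [MulEquiv.orderOf_eq]; exact hx⟩
  constructor
  · intro r hr
    rw [hcard, Cfsg.Agent.Helper2.G23P.psl13_prime_dvd hE r hr]
    exact hG1 r hr
  · intro r s hr hs hrs
    rw [hex, Cfsg.Agent.Helper2.G23P.psl13_pair hE r s hr hs hrs]
    exact hG2 r s hr hs hrs

end Cfsg.Agent.S2518
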