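import Cfsg.Statements.S2521

set_option autoImplicit false
open Cfsg

namespace Cfsg.Agent.S2521

/-- Let B be a finite group that is the semidirect product of a nilpotent normal subgroup U by an abelian subgroup T (U ∩ T = 1, UT = B), and let t ∈ T have centralizer exactly T. Then every element of the coset tU is conjugate to t in B: for each u ∈ U there is b ∈ B with b t b⁻¹ = t u. -/
theorem result {B : Type*} [Group B] [Finite B] (U T : Subgroup B) [U.Normal] (hU : Group.IsNilpotent ↥U) (hT : IsMulCommutative ↥T)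
    (hcompl : Subgroup.IsComplement' U T) (t : B) (ht : t ∈ T) (hreg : Subgroup.centralizer ({t} : Set B) = T) (u : B) (hu : u ∈ U) :
    ∃ b : B, b * t * b⁻¹ = t * u := by
  have hdisj : Disjoint U T := hcompl.disjoint
  -- ψ x = t⁻¹ x t x⁻¹
  let ψ : U → U := fun x => ⟨t⁻¹ * (x : B) * t * (x : B)⁻¹, by
    have h1 : t⁻¹ * (x : B) * t ∈ U := by
      have := ‹U.Normal›.conj_mem (x : B) x.2 t⁻¹
      simpa using this
    exact U.mul_mem h1 (U.inv_mem x.2)⟩
  have hinj : Function.Injective ψ := by
    intro x y hxy
    have h := congrArg (fun z : U => (z : B)) hxy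
    simp only [ψ] at h
    -- x t x⁻¹ = y t y⁻¹
    have h1 : (x : B) * t * (x : B)⁻¹ = (y : B) * t * (y : B)⁻¹ := by
      have := congrArg (fun z => t * z) h
      simpa [mul_assoc] using this
    have h2 : ((y : B)⁻¹ * (x : B)) * t = t * ((y : B)⁻¹ * (x : B)) := by
      have := congrArg (fun z => (y : B)⁻¹ * z * (x : B)) h1
      simp only [mul_assoc, inv_mul_cancel, mul_one, inv_mul_cancel_left] at this
      rw [mul_assoc]
      exact this
    have h3 : (y : B)⁻¹ * (x : B) ∈ Subgroup.centralizer ({t} : Set B) := by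
      rw [Subgroup.mem_centralizer_iff]
      intro z hz
      rw [Set.mem_singleton_iff] at hz
      rw [hz]
      exact h2.symm
    rw [hreg] at h3
    have h4 : (y : B)⁻¹ * (x : B) ∈ U := U.mul_mem (U.inv_mem y.2) x.2
    have h5 : (y : B)⁻¹ * (x : B) = 1 := by
      have := Subgroup.disjoint_def.mp hdisj h4 h3
      exact this
    apply Subtype.ext
    have := inv_mul_eq_one.mp h5
    exact this.symm
  have hsurj : Function.Surjective ψ := Finite.injective_iff_surjective.mp hinj
  obtain ⟨x, hx⟩ := hsurj ⟨u, hu⟩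
  refine ⟨(x : B), ?_⟩
  have h := congrArg (fun z : U => (z : B)) hx
  simp only [ψ] at h
  rw [← h]
  group

end Cfsg.Agent.S2521
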