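import Cfsg.Statements.S2522
import Cfsg.Agent.Helper2.Lev.LevI

set_option autoImplicit false
open Cfsg

namespace Cfsg.Agent.S2522

open Cfsg.Agent.Helper2.Lev in
/-- Let K be a field with at least four elements (finite or infinite), n ≥ 3, and J ∈ GL(n, K) the regular unipotent matrix (ones on the diagonal and the superdiagonal, zeros elsewhere). Then every non-scalar g ∈ GL(n, K) with det g = 1 is a product of two GL(n, K)-conjugates of J. -/
theorem result {K : Type*} [Field K] (hK : 4 ≤ Cardinal.mk K) (n : ℕ) (hn : 3 ≤ n) (J g : GL (Fin n) K)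
    (hJ : ∀ i j : Fin n, (J : Matrix (Fin n) (Fin n) K) i j = if i = j then 1 else if j.val = i.val + 1 then 1 else 0)
    (hg : ¬ ∃ c : K, (g : Matrix (Fin n) (Fin n) K) = c • (1 : Matrix (Fin n) (Fin n) K))
    (hdet : (g : Matrix (Fin n) (Fin n) K).det = 1) :
    ∃ x y : GL (Fin n) K, g = (x * J * x⁻¹) * (y * J * y⁻¹) := by
  obtain ⟨f4⟩ := exists_fin4_emb hK
  have h5 : (1 : K) ≠ -1 → Nonempty (Fin 5 ↪ K) := by
    intro h
    apply exists_fin5_emb f4
    intro h2
    apply h
    linear_combination h2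
  have hfin : Module.finrank K (Fin n → K) = n := by simp
  have hdetl : LinearMap.det (Matrix.toLin' (g : Matrix (Fin n) (Fin n) K)) = 1 := by
    rw [LinearMap.det_toLin']
    exact hdet
  have hns : ∀ μ : K, Matrix.toLin' (g : Matrix (Fin n) (Fin n) K) ≠
      μ • (1 : Module.End K (Fin n → K)) := by
    intro μ h
    apply hg
    refine ⟨μ, ?_⟩
    have h1 := congrArg LinearMap.toMatrix' h
    rw [LinearMap.toMatrix'_toLin', map_smul, LinearMap.toMatrix'_one] at h1
    exact h1
  obtain ⟨a, b, hab, ha, hka, hb, hkb⟩ := exists_regular_factorization f4 h5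
    (by rw [hfin]; exact hn) (Matrix.toLin' (g : Matrix (Fin n) (Fin n) K)) hdetl hns
  obtain ⟨P, Q, hPQ, hQP, hPa⟩ := exists_conj_jordan (by omega)
    (J : Matrix (Fin n) (Fin n) K) hJ a ha hka
  obtain ⟨P', Q', hPQ', hQP', hPb⟩ := exists_conj_jordan (by omega)
    (J : Matrix (Fin n) (Fin n) K) hJ b hb hkb
  refine ⟨⟨P, Q, hPQ, hQP⟩, ⟨P', Q', hPQ', hQP'⟩, ?_⟩
  apply Units.ext
  have h1 : (g : Matrix (Fin n) (Fin n) K) =
      LinearMap.toMatrix' (Matrix.toLin' (g : Matrix (Fin n) (Fin n) K)) :=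
    (LinearMap.toMatrix'_toLin' _).symm
  change (g : Matrix (Fin n) (Fin n) K) = P * (J : Matrix (Fin n) (Fin n) K) * Q *
    (P' * (J : Matrix (Fin n) (Fin n) K) * Q')
  rw [h1, hab, LinearMap.toMatrix'_comp, hPa, hPb]

end Cfsg.Agent.S2522
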