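import Cfsg.Statements.S2532

set_option autoImplicit false
open Cfsg

namespace Cfsg.Agent.S2532
open Equiv

/-- the permutation of `Fin r × Q` acting on the first coordinate, as a homomorphism -/
def prodHom (r : ℕ) (Q : Type*) : Perm (Fin r) →* Perm (Fin r × Q) where
  toFun σ := Equiv.prodCongrLeft (fun _ => σ)
  map_one' := Equiv.ext (fun ⟨_, _⟩ => rfl)
  map_mul' _ _ := Equiv.ext (fun ⟨_, _⟩ => rfl)

theorem prodHom_apply (r : ℕ) (Q : Type*) (σ : Perm (Fin r)) (i : Fin r) (q : Q) :
    prodHom r Q σ (i, q) = (σ i, q) := rfl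

theorem prodHom_injective (r : ℕ) (Q : Type*) [Nonempty Q] : Function.Injective (prodHom r Q) := by
  intro σ τ h
  obtain ⟨q⟩ := ‹Nonempty Q›
  ext i
  have := congrArg (fun e : Perm (Fin r × Q) => (e (i, q)).1) h
  simp only [prodHom_apply] at this
  rw [this]

theorem sign_prodHom (r : ℕ) (Q : Type*) [Fintype Q] [DecidableEq Q] (σ : Perm (Fin r))
    (hσ : Equiv.Perm.sign σ = 1) : Equiv.Perm.sign (prodHom r Q σ) = 1 := by
  show Equiv.Perm.sign (Equiv.prodCongrLeft (fun _ : Q => σ)) = 1
  rw [Equiv.Perm.sign_prodCongrLeft]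
  simp [hσ]

/-- There is a function `f` of two natural-number arguments such that, whenever `m ≥ f(n, r)`, every subgroup of order `n` of the alternating group of degree `m` centralizes some subgroup of that alternating group isomorphic to the alternating group of degree `r`. -/
theorem result :
    ∃ f : ℕ → ℕ → ℕ, ∀ (m r : ℕ) (H : Subgroup ↥(alternatingGroup (Fin m))), f (Nat.card H) r ≤ m →
      ∃ K : Subgroup ↥(alternatingGroup (Fin m)), Nonempty (↥K ≃* ↥(alternatingGroup (Fin r))) ∧
        K ≤ Subgroup.centralizer (H : Set ↥(alternatingGroup (Fin m))) := by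
  classical
  refine ⟨fun n r => 2 ^ n * (n * r) + 1, ?_⟩
  intro m r H hm
  haveI : Fintype H := Fintype.ofFinite H
  haveI : Fintype (Subgroup H) := Fintype.ofFinite _
  set n := Nat.card H with hn
  have hnc : Fintype.card H = n := by rw [hn, Nat.card_eq_fintype_card]
  have hsub : Fintype.card (Subgroup H) ≤ 2 ^ n := by
    calc Fintype.card (Subgroup H) ≤ Fintype.card (Set H) :=
          Fintype.card_le_of_injective (fun S => (S : Set H)) SetLike.coe_injective
      _ = 2 ^ n := by rw [Fintype.card_set, hnc]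
  have h1 : Fintype.card (Subgroup H) * (n * r) < Fintype.card (Fin m) := by
    rw [Fintype.card_fin]
    calc Fintype.card (Subgroup H) * (n * r) ≤ 2 ^ n * (n * r) := Nat.mul_le_mul_right _ hsub
      _ < m := hm
  obtain ⟨S, hS⟩ := Fintype.exists_lt_card_fiber_of_mul_lt_card
    (fun x : Fin m => MulAction.stabilizer H x) h1
  set T := Finset.univ.filter (fun x : Fin m => MulAction.stabilizer H x = S) with hT
  let o : Fin m → Set (Fin m) := fun x => MulAction.orbit H x
  have h2 : T.card ≤ n * (T.image o).card := by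
    apply Finset.card_le_mul_card_image
    intro a ha
    obtain ⟨y, hy, rfl⟩ := Finset.mem_image.mp ha
    calc (T.filter (fun x => o x = o y)).card
        ≤ (Finset.univ.image (fun h : H => h • y)).card := by
          apply Finset.card_le_card
          intro x hx
          rw [Finset.mem_filter] at hx
          have hxo : x ∈ MulAction.orbit H y := MulAction.orbit_eq_iff.mp hx.2
          obtain ⟨h, rfl⟩ := hxo
          exact Finset.mem_image.mpr ⟨h, Finset.mem_univ _, rfl⟩
      _ ≤ (Finset.univ : Finset H).card := Finset.card_image_le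
      _ = n := by rw [Finset.card_univ, hnc]
  have h3 : r ≤ (T.image o).card := by
    by_contra hlt
    push Not at hlt
    have : n * (T.image o).card ≤ n * r := Nat.mul_le_mul_left _ (le_of_lt hlt)
    omega
  have h4 : Fintype.card (Fin r) ≤ Fintype.card ↥(T.image o) := by
    rw [Fintype.card_fin, Fintype.card_coe]
    exact h3
  obtain ⟨emb⟩ := Function.Embedding.nonempty_of_card_le h4
  have hpre : ∀ i : Fin r, ∃ x ∈ T, o x = ((emb i : ↥(T.image o)) : Set (Fin m)) := fun i => by
    have := (emb i).2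
    rwa [Finset.mem_image] at this
  choose x hxT hxo using hpre
  have hstab : ∀ i, MulAction.stabilizer H (x i) = S := fun i => (Finset.mem_filter.mp (hxT i)).2
  have horb : ∀ i j, MulAction.orbit H (x i) = MulAction.orbit H (x j) → i = j := by
    intro i j h
    apply emb.injective
    apply Subtype.ext
    rw [← hxo i, ← hxo j]
    exact h
  -- the maps from `H ⧸ S` onto the orbits
  let g : Fin r → H ⧸ S → Fin m := fun i q => Quotient.liftOn' q (fun h => h • x i) (by
    intro a b hab
    rw [QuotientGroup.leftRel_apply, ← hstab i, MulAction.mem_stabilizer_iff] at hab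
    show a • x i = b • x i
    conv_lhs => rw [← hab]
    rw [← mul_smul, mul_inv_cancel_left])
  have hg_mk : ∀ i (h : H), g i (QuotientGroup.mk h) = h • x i := fun i h => rfl
  have hg_smul : ∀ (h : H) i q, h • g i q = g i (h • q) := by
    intro h i q
    induction q using QuotientGroup.induction_on with
    | H a =>
      rw [hg_mk, MulAction.Quotient.smul_coe, hg_mk, smul_eq_mul, mul_smul]
  have hg_inj : ∀ i j q q', g i q = g j q' → i = j ∧ q = q' := by
    intro i j q q' h
    induction q using QuotientGroup.induction_on with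
    | H a =>
      induction q' using QuotientGroup.induction_on with
      | H b =>
        rw [hg_mk, hg_mk] at h
        have hij : i = j := by
          apply horb
          rw [MulAction.orbit_eq_iff]
          refine ⟨a⁻¹ * b, ?_⟩
          show (a⁻¹ * b) • x j = x i
          rw [mul_smul, ← h, ← mul_smul, inv_mul_cancel, one_smul]
        subst hij
        refine ⟨rfl, ?_⟩
        rw [QuotientGroup.eq, ← hstab i, MulAction.mem_stabilizer_iff, mul_smul, ← h, ← mul_smul,
          inv_mul_cancel, one_smul]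
  let ι : Fin r × (H ⧸ S) ↪ Fin m := ⟨fun p => g p.1 p.2, by
    rintro ⟨i, q⟩ ⟨j, q'⟩ h
    obtain ⟨h1, h2⟩ := hg_inj i j q q' h
    rw [h1, h2]⟩
  have hι : ∀ i q, ι (i, q) = g i q := fun i q => rfl
  haveI : Fintype (H ⧸ S) := Fintype.ofFinite _
  let ψ : Perm (Fin r) →* Perm (Fin m) := (Equiv.Perm.viaEmbeddingHom ι).comp (prodHom r (H ⧸ S))
  have hψ_apply : ∀ σ i q, ψ σ (g i q) = g (σ i) q := by
    intro σ i q
    show (Equiv.Perm.viaEmbedding (prodHom r (H ⧸ S) σ) ι) (g i q) = _
    rw [← hι, Equiv.Perm.viaEmbedding_apply, prodHom_apply, hι]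
  have hψ_not : ∀ σ y, y ∉ Set.range ι → ψ σ y = y := by
    intro σ y hy
    show (Equiv.Perm.viaEmbedding (prodHom r (H ⧸ S) σ) ι) y = _
    exact Equiv.Perm.viaEmbedding_apply_of_notMem _ _ _ hy
  have hψ_inj : Function.Injective ψ := by
    intro σ τ h
    exact prodHom_injective r (H ⧸ S) (Equiv.Perm.viaEmbeddingHom_injective ι h)
  have hψ_sign : ∀ σ : Perm (Fin r), Equiv.Perm.sign σ = 1 → Equiv.Perm.sign (ψ σ) = 1 := by
    intro σ hσ
    show Equiv.Perm.sign (Equiv.Perm.viaEmbedding (prodHom r (H ⧸ S) σ) ι) = 1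
    unfold Equiv.Perm.viaEmbedding
    rw [Equiv.Perm.sign_extendDomain]
    exact sign_prodHom r (H ⧸ S) σ hσ
  let ψ' : ↥(alternatingGroup (Fin r)) →* ↥(alternatingGroup (Fin m)) :=
    (ψ.comp (alternatingGroup (Fin r)).subtype).codRestrict (alternatingGroup (Fin m)) (fun σ => by
      rw [Equiv.Perm.mem_alternatingGroup]
      exact hψ_sign σ.1 (Equiv.Perm.mem_alternatingGroup.mp σ.2))
  have hψ'_coe : ∀ σ : ↥(alternatingGroup (Fin r)), ((ψ' σ : ↥(alternatingGroup (Fin m))) : Perm (Fin m)) = ψ σ.1 :=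
    fun σ => rfl
  have hψ'_inj : Function.Injective ψ' := by
    intro σ τ h
    apply Subtype.ext
    apply hψ_inj
    rw [← hψ'_coe, ← hψ'_coe, h]
  refine ⟨ψ'.range, ⟨(MonoidHom.ofInjective hψ'_inj).symm⟩, ?_⟩
  rintro _ ⟨σ, rfl⟩
  rw [Subgroup.mem_centralizer_iff]
  intro h hh
  apply Subtype.ext
  apply Equiv.ext
  intro y
  show (h : Perm (Fin m)) (((ψ' σ : ↥(alternatingGroup (Fin m))) : Perm (Fin m)) y) =
    ((ψ' σ : ↥(alternatingGroup (Fin m))) : Perm (Fin m)) ((h : Perm (Fin m)) y)
  rw [hψ'_coe]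
  have hact : ∀ z : Fin m, (h : Perm (Fin m)) z = (⟨h, hh⟩ : H) • z := fun z => rfl
  rw [hact, hact]
  by_cases hy : y ∈ Set.range ι
  · obtain ⟨⟨i, q⟩, rfl⟩ := hy
    rw [hι, hψ_apply, hg_smul, hg_smul, hψ_apply]
  · have hy' : (⟨h, hh⟩ : H) • y ∉ Set.range ι := by
      rintro ⟨⟨i, q⟩, hiq⟩
      apply hy
      refine ⟨(i, (⟨h, hh⟩ : H)⁻¹ • q), ?_⟩
      rw [hι] at hiq ⊢
      rw [← hg_smul, hiq, ← mul_smul, inv_mul_cancel, one_smul]
    rw [hψ_not σ.1 y hy, hψ_not σ.1 _ hy']

end Cfsg.Agent.S2532
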