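import Cfsg.Statements.S2535
import Cfsg.Agent.Helper8.HallConjC

set_option autoImplicit false
open Cfsg


namespace Cfsg.Agent.S2535

/-- For every `n` and every set of primes `π`, the following are equivalent for the symmetric group `S` of degree `n` and its alternating subgroup `A`: `S` has a Hall `π`-subgroup; `S` has a Hall `π`-subgroup and all of them are conjugate; `A` has a Hall `π`-subgroup; `A` has a Hall `π`-subgroup and all of them are conjugate. -/
theorem result (n : ℕ) (π : Set ℕ) :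
    (Cfsg.IsEPiGroup π (Equiv.Perm (Fin n)) ↔ Cfsg.IsCPiGroup π (Equiv.Perm (Fin n))) ∧
    (Cfsg.IsEPiGroup π (Equiv.Perm (Fin n)) ↔ Cfsg.IsEPiGroup π ↥(alternatingGroup (Fin n))) ∧
    (Cfsg.IsEPiGroup π ↥(alternatingGroup (Fin n)) ↔ Cfsg.IsCPiGroup π ↥(alternatingGroup (Fin n))) := by
  refine ⟨⟨fun h => ⟨h, fun H K hH hK => Cfsg.Agent.Helper8.HallSym.conj_of_hall_perm hH hK⟩,
    fun h => h.1⟩, ⟨?_, ?_⟩, ⟨fun h => ⟨h, fun H K hH hK =>
      Cfsg.Agent.Helper8.HallSym.conj_of_hall_alt hH hK⟩, fun h => h.1⟩⟩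
  · rintro ⟨H, hH⟩
    have hA := Cfsg.Agent.Helper8.HallSym.ahall_inf_of_hall hH
    rw [Cfsg.Agent.Helper8.HallSym.ahall_iff inf_le_right] at hA
    exact ⟨_, hA⟩
  · rintro ⟨M, hM⟩
    obtain ⟨K, hK, _⟩ := Cfsg.Agent.Helper8.HallSym.exists_hall_of_ahall
      (Cfsg.Agent.Helper8.HallSym.ahall_map_subtype hM)
    exact ⟨K, hK⟩

end Cfsg.Agent.S2535
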