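import Cfsg.Statements.S2536
import Cfsg.Agent.Helper8.HallSymK

set_option autoImplicit false
open Cfsg

namespace Cfsg.Agent.S2536

/-- Let `π` be a set of primes and `n` a natural number such that at least two primes of `π` divide `n!` but not every prime dividing `n!` lies in `π`. Then the symmetric group of degree `n` has a Hall `π`-subgroup if and only if either `n` is prime and the primes of `π` dividing `n!` are exactly the primes smaller than `n` (a point stabilizer is then such a subgroup), or `n ∈ {7, 8}` and the primes of `π` dividing `n!` are exactly 2 and 3. -/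
theorem result (n : ℕ) (π : Set ℕ)
    (h2 : ∃ r s : ℕ, r.Prime ∧ s.Prime ∧ r ≠ s ∧ r ∈ π ∧ s ∈ π ∧ r ≤ n ∧ s ≤ n)
    (hns : ∃ r : ℕ, r.Prime ∧ r ≤ n ∧ r ∉ π) :
    Cfsg.IsEPiGroup π (Equiv.Perm (Fin n)) ↔
      ((n.Prime ∧ ∀ r : ℕ, r.Prime → r ≤ n → (r ∈ π ↔ r < n)) ∨
       ((n = 7 ∨ n = 8) ∧ ∀ r : ℕ, r.Prime → r ≤ n → (r ∈ π ↔ (r = 2 ∨ r = 3)))) := by
  constructor
  · rintro ⟨H, hH⟩
    obtain ⟨p1, p2, hp1, hp2, h12, hp1π, hp2π, hp1n, hp2n⟩ := h2
    obtain ⟨r, hr, hrn, hrπ⟩ := hns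
    have ht := Cfsg.Agent.Helper8.HallSym.hall_classify hH
    cases ht with
    | top h =>
      exfalso
      subst h
      exact hrπ (Cfsg.Agent.Helper8.HallSym.mem_of_top hH hr (by rw [Fintype.card_fin]; exact hrn))
    | pgroup p k hp hk =>
      exfalso
      have e1 := Cfsg.Agent.Helper8.HallSym.prime_eq_of_pgroup hH hp hk hp1 hp1π (by rw [Fintype.card_fin]; exact hp1n)
      have e2 := Cfsg.Agent.Helper8.HallSym.prime_eq_of_pgroup hH hp hk hp2 hp2π (by rw [Fintype.card_fin]; exact hp2n)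
      exact h12 (e1.trans e2.symm)
    | point x hprime hmem hπ =>
      left
      rw [Nat.card_eq_fintype_card, Fintype.card_fin] at hprime hπ
      exact ⟨hprime, hπ⟩
    | seven P hc hk hP hP4 hπ =>
      right
      rw [Nat.card_eq_fintype_card, Fintype.card_fin] at hc
      subst hc
      exact ⟨Or.inl rfl, hπ⟩
    | eight hc hk htr hπ =>
      right
      rw [Nat.card_eq_fintype_card, Fintype.card_fin] at hc
      subst hc
      exact ⟨Or.inr rfl, hπ⟩
  · rintro (⟨hn, hπ⟩ | ⟨hn, hπ⟩)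
    · exact Cfsg.Agent.Helper8.HallSym.exists_hall_prime hn hπ
    · have h2π : ∀ m : ℕ, 7 ≤ m → (∀ r : ℕ, r.Prime → r ≤ m → (r ∈ π ↔ (r = 2 ∨ r = 3))) →
          (2 : ℕ) ∈ π ∧ (3 : ℕ) ∈ π ∧ (5 : ℕ) ∉ π ∧ (7 : ℕ) ∉ π := by
        intro m hm h
        refine ⟨(h 2 Nat.prime_two (by omega)).mpr (Or.inl rfl),
          (h 3 Nat.prime_three (by omega)).mpr (Or.inr rfl), fun h5 => ?_, fun h7 => ?_⟩
        · have := (h 5 (by norm_num) (by omega)).mp h5
          omega
        · have := (h 7 (by norm_num) (by omega)).mp h7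
          omega
      rcases hn with rfl | rfl
      · obtain ⟨a, b, c, d⟩ := h2π 7 le_rfl hπ
        exact Cfsg.Agent.Helper8.HallSym.exists_hall_seven a b c d
      · obtain ⟨a, b, c, d⟩ := h2π 8 (by norm_num) hπ
        exact Cfsg.Agent.Helper8.HallSym.exists_hall_eight a b c d

end Cfsg.Agent.S2536
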