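import Cfsg.Statements.S2538
import Cfsg.Agent.Helper8.HallAltK

set_option autoImplicit false
open Cfsg


namespace Cfsg.Agent.S2538

/-- For every `n` and every set of primes `π`, a subgroup of the alternating group of degree `n` is a Hall `π`-subgroup of it if and only if it is the intersection with the alternating group of some Hall `π`-subgroup of the symmetric group of degree `n`. -/
theorem result (n : ℕ) (π : Set ℕ)
    (M : Subgroup ↥(alternatingGroup (Fin n))) :
    Cfsg.IsPiHall π M ↔ ∃ M₀ : Subgroup (Equiv.Perm (Fin n)), Cfsg.IsPiHall π M₀ ∧ M = M₀.subgroupOf (alternatingGroup (Fin n)) := by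
  constructor
  · intro h
    have hle : M.map (alternatingGroup (Fin n)).subtype ≤ alternatingGroup (Fin n) :=
      Subgroup.map_subtype_le M
    have hback : (M.map (alternatingGroup (Fin n)).subtype).subgroupOf (alternatingGroup (Fin n)) = M :=
      Subgroup.comap_map_eq_self_of_injective (Subgroup.subtype_injective _) M
    have hA : Cfsg.Agent.Helper8.HallSym.AHall π (M.map (alternatingGroup (Fin n)).subtype) := by
      rw [Cfsg.Agent.Helper8.HallSym.ahall_iff hle, hback]
      exact h
    obtain ⟨M₀, hM₀, hinf⟩ := Cfsg.Agent.Helper8.HallSym.exists_hall_of_ahall hA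
    refine ⟨M₀, hM₀, ?_⟩
    rw [← Subgroup.inf_subgroupOf_right, hinf, hback]
  · rintro ⟨M₀, hM₀, rfl⟩
    have hA := Cfsg.Agent.Helper8.HallSym.ahall_inf_of_hall hM₀
    rw [Cfsg.Agent.Helper8.HallSym.ahall_iff inf_le_right, Subgroup.inf_subgroupOf_right] at hA
    exact hA

end Cfsg.Agent.S2538
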