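import Cfsg.Statements.S2540
import Cfsg.Agent.Helper7.PSLSimple

set_option autoImplicit false
open Cfsg

namespace Cfsg.Agent.S2540
open Matrix
open scoped commutatorElement

/-- conjugation by a central element times `k` is conjugation by `k` -/
theorem conj_central_mul {G : Type*} [Group G] (z : G) (hz : z ∈ Subgroup.center G) (k x : G) :
    (z * k) * x * (z * k)⁻¹ = k * x * k⁻¹ := by
  have hz' : ∀ g : G, g * z = z * g := Subgroup.mem_center_iff.mp hz
  calc (z * k) * x * (z * k)⁻¹ = z * (k * x * k⁻¹) * z⁻¹ := by group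
    _ = (k * x * k⁻¹) * z * z⁻¹ := by rw [hz']
    _ = k * x * k⁻¹ := by group

/-- if every element is central times an element of `K`, then `K` contains the commutator subgroup -/
theorem commutator_le_of_central_mul {G : Type*} [Group G] (K : Subgroup G)
    (hsurj : ∀ g : G, ∃ z ∈ Subgroup.center G, ∃ k ∈ K, g = z * k) : commutator G ≤ K := by
  rw [commutator_eq_closure, Subgroup.closure_le]
  rintro _ ⟨g, h, rfl⟩
  obtain ⟨z₁, hz₁, k₁, hk₁, rfl⟩ := hsurj g
  obtain ⟨z₂, hz₂, k₂, hk₂, rfl⟩ := hsurj h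
  have h1 : ⁅z₁ * k₁, z₂ * k₂⁆ = k₁ * (k₂ * k₁⁻¹ * k₂⁻¹) := by
    rw [commutatorElement_def, conj_central_mul z₁ hz₁ k₁ (z₂ * k₂)]
    have h2 : k₁ * (z₂ * k₂) * k₁⁻¹ * (z₂ * k₂)⁻¹ = k₁ * ((z₂ * k₂) * k₁⁻¹ * (z₂ * k₂)⁻¹) := by
      group
    rw [h2, conj_central_mul z₂ hz₂ k₂ k₁⁻¹]
  rw [SetLike.mem_coe, h1]
  exact K.mul_mem hk₁ (K.mul_mem (K.mul_mem hk₂ (K.inv_mem hk₁)) (K.inv_mem hk₂))

/-- normal subgroups of a perfect group with simple central quotient -/
theorem normal_le_center_or_eq_top {S : Type*} [Group S] (hperf : commutator S = ⊤)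
    (hsimple : IsSimpleGroup (S ⧸ Subgroup.center S)) (N : Subgroup S) (hN : N.Normal) :
    N ≤ Subgroup.center S ∨ N = ⊤ := by
  have hmap : (N.map (QuotientGroup.mk' (Subgroup.center S))).Normal :=
    hN.map _ (QuotientGroup.mk'_surjective _)
  rcases hmap.eq_bot_or_eq_top with h | h
  · left
    intro x hx
    have : (QuotientGroup.mk' (Subgroup.center S)) x ∈ N.map (QuotientGroup.mk' (Subgroup.center S)) :=
      Subgroup.mem_map_of_mem _ hx
    rw [h, Subgroup.mem_bot] at this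
    exact (QuotientGroup.eq_one_iff x).mp this
  · right
    have h2 := Subgroup.comap_map_eq (QuotientGroup.mk' (Subgroup.center S)) N
    rw [h, Subgroup.comap_top, QuotientGroup.ker_mk'] at h2
    rw [eq_top_iff, ← hperf]
    apply commutator_le_of_central_mul
    intro g
    have hg : g ∈ Subgroup.center S ⊔ N := by
      rw [sup_comm, ← h2]
      exact Subgroup.mem_top g
    have hg' : g ∈ ((Subgroup.center S ⊔ N : Subgroup S) : Set S) := hg
    rw [Subgroup.mul_normal, Set.mem_mul] at hg'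
    obtain ⟨z, hz, k, hk, hzk⟩ := hg'
    exact ⟨z, hz, k, hk, hzk.symm⟩

theorem exists_sq_ne_one {F : Type*} [Field F] [Fintype F] (hF : 4 ≤ Fintype.card F) :
    ∃ a : F, a ≠ 0 ∧ a ^ 2 ≠ 1 := by
  classical
  obtain ⟨x, hx⟩ : IsCyclic Fˣ := by infer_instance
  refine ⟨x, Units.ne_zero x, fun h ↦ ?_⟩
  have h1 : orderOf x = Fintype.card Fˣ := by
    rw [← Nat.card_eq_fintype_card]
    exact orderOf_eq_card_of_forall_mem_zpowers hx
  have h2 : orderOf x ≤ 2 := orderOf_le_of_pow_eq_one zero_lt_two (Units.ext <| by simpa using h)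
  rw [h1, Fintype.card_units] at h2
  omega

/-- a perfect group acting by conjugation with central commutators centralizes -/
theorem commute_of_central_commutators {S Γ : Type*} [Group S] [Group Γ] (ι : S →* Γ) (g : Γ)
    (hperf : commutator S = ⊤)
    (hc_mem : ∀ s : S, ι s * g * (ι s)⁻¹ * g⁻¹ ∈ Subgroup.center Γ) :
    ∀ s : S, ι s * g = g * ι s := by
  obtain ⟨c, hc⟩ : ∃ c : S →* Subgroup.center Γ, ∀ s, ((c s : Subgroup.center Γ) : Γ) = ι s * g * (ι s)⁻¹ * g⁻¹ := by
    refine ⟨MonoidHom.mk' (fun s => ⟨ι s * g * (ι s)⁻¹ * g⁻¹, hc_mem s⟩) ?_, fun s => rfl⟩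
    intro s₁ s₂
    apply Subtype.ext
    show ι (s₁ * s₂) * g * (ι (s₁ * s₂))⁻¹ * g⁻¹ =
      (ι s₁ * g * (ι s₁)⁻¹ * g⁻¹) * (ι s₂ * g * (ι s₂)⁻¹ * g⁻¹)
    have hcen := Subgroup.mem_center_iff.mp (hc_mem s₂)
    rw [map_mul]
    calc ι s₁ * ι s₂ * g * (ι s₁ * ι s₂)⁻¹ * g⁻¹
        = ι s₁ * (ι s₂ * g * (ι s₂)⁻¹ * g⁻¹) * (g * (ι s₁)⁻¹ * g⁻¹) := by group
      _ = (ι s₂ * g * (ι s₂)⁻¹ * g⁻¹) * ι s₁ * (g * (ι s₁)⁻¹ * g⁻¹) := by rw [hcen (ι s₁)]
      _ = (ι s₂ * g * (ι s₂)⁻¹ * g⁻¹) * (ι s₁ * g * (ι s₁)⁻¹ * g⁻¹) := by group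
      _ = (ι s₁ * g * (ι s₁)⁻¹ * g⁻¹) * (ι s₂ * g * (ι s₂)⁻¹ * g⁻¹) := by
        rw [hcen (ι s₁ * g * (ι s₁)⁻¹ * g⁻¹)]
  have hker : c.ker = ⊤ := by
    rw [eq_top_iff, ← hperf, commutator_eq_closure, Subgroup.closure_le]
    rintro _ ⟨a, b, rfl⟩
    rw [SetLike.mem_coe, MonoidHom.mem_ker, map_commutatorElement,
      commutatorElement_eq_one_iff_commute]
    apply Subtype.ext
    exact Subgroup.mem_center_iff.mp (c b).2 (c a)
  intro s
  have hs : s ∈ c.ker := by rw [hker]; exact Subgroup.mem_top s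
  have h1 : ι s * g * (ι s)⁻¹ * g⁻¹ = 1 := by
    rw [← hc s, MonoidHom.mem_ker.mp hs]
    rfl
  calc ι s * g = (ι s * g * (ι s)⁻¹ * g⁻¹) * (g * ι s) := by group
    _ = g * ι s := by rw [h1, one_mul]

/-- the structural input: `SL_n` is perfect with simple central quotient -/
theorem sl_input {F : Type*} [Field F] [Fintype F] (n : ℕ) (hn : 2 ≤ n)
    (hex : ¬ (n = 2 ∧ Fintype.card F ≤ 3)) :
    commutator (Matrix.SpecialLinearGroup (Fin n) F) = ⊤ ∧
      IsSimpleGroup (Matrix.SpecialLinearGroup (Fin n) F ⧸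
        Subgroup.center (Matrix.SpecialLinearGroup (Fin n) F)) := by
  rcases Nat.lt_or_ge n 3 with h3 | h3
  · have h2 : n = 2 := by omega
    subst h2
    have hF : 4 ≤ Fintype.card F := by
      by_contra hcon
      exact hex ⟨rfl, by omega⟩
    obtain ⟨a, ha, hasq⟩ := exists_sq_ne_one hF
    refine ⟨SL2.commutator_eq_top ha hasq, ?_⟩
    exact Matrix.ProjectiveSpecialLinearGroup.rank_two_simple (by
      rw [Nat.card_eq_fintype_card]; exact hF)
  · exact ⟨Cfsg.Agent.Helper7.Transv.commutator_SL_eq_top h3,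
      Cfsg.Agent.Helper7.Transv.isSimpleGroup_PSL h3⟩

/-- Let F be a finite field and n ≥ 1, excluding the case n = 2 with #F ≤ 3. A subgroup of GL_n(F) that is normalized by every element of SL_n(F) either consists of scalar matrices or contains SL_n(F). -/
theorem result {F : Type*} [Field F] [Fintype F] (n : ℕ) (hn : 1 ≤ n) (hex : ¬ (n = 2 ∧ Fintype.card F ≤ 3)) (G : Subgroup (Matrix.GeneralLinearGroup (Fin n) F)) (hG : ∀ s : Matrix.SpecialLinearGroup (Fin n) F, ∀ g ∈ G, (Matrix.SpecialLinearGroup.toGL s) * g * (Matrix.SpecialLinearGroup.toGL s)⁻¹ ∈ G) : (∀ g ∈ G, ∃ c : F, (g : Matrix (Fin n) (Fin n) F) = c • (1 : Matrix (Fin n) (Fin n) F)) ∨ (Matrix.SpecialLinearGroup.toGL : Matrix.SpecialLinearGroup (Fin n) F →* _).range ≤ G := by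
  classical
  rcases Nat.lt_or_ge n 2 with h2 | h2
  · -- n = 1
    have h1 : n = 1 := by omega
    subst h1
    left
    intro g _
    refine ⟨(g : Matrix (Fin 1) (Fin 1) F) 0 0, ?_⟩
    ext i j
    fin_cases i
    fin_cases j
    simp
  obtain ⟨hperf, hsimple⟩ := sl_input (F := F) n h2 hex
  set ι : Matrix.SpecialLinearGroup (Fin n) F →* GL (Fin n) F := Matrix.SpecialLinearGroup.toGL with hι
  let N₀ : Subgroup (Matrix.SpecialLinearGroup (Fin n) F) := G.comap ι
  have hN₀ : N₀.Normal := by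
    constructor
    intro x hx s
    show ι (s * x * s⁻¹) ∈ G
    rw [map_mul, map_mul, map_inv]
    exact hG s (ι x) hx
  rcases normal_le_center_or_eq_top hperf hsimple N₀ hN₀ with hcase | hcase
  · left
    -- every element of G commutes with SL
    have hscalar_central : ∀ z : Matrix.SpecialLinearGroup (Fin n) F,
        z ∈ Subgroup.center (Matrix.SpecialLinearGroup (Fin n) F) → ι z ∈ Subgroup.center (GL (Fin n) F) := by
      intro z hz
      obtain ⟨r, -, hr⟩ := Matrix.SpecialLinearGroup.mem_center_iff.mp hz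
      rw [Subgroup.mem_center_iff]
      intro y
      apply Units.ext
      show (y : Matrix (Fin n) (Fin n) F) * (z : Matrix (Fin n) (Fin n) F) =
        (z : Matrix (Fin n) (Fin n) F) * (y : Matrix (Fin n) (Fin n) F)
      rw [← hr]
      exact ((Matrix.scalar_commute r (fun r' => Commute.all _ _) _).eq).symm
    intro g hg
    -- the commutator map
    have hc_mem : ∀ s : Matrix.SpecialLinearGroup (Fin n) F,
        ι s * g * (ι s)⁻¹ * g⁻¹ ∈ Subgroup.center (GL (Fin n) F) := by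
      intro s
      set y : GL (Fin n) F := ι s * g * (ι s)⁻¹ * g⁻¹ with hy
      have hyG : y ∈ G := G.mul_mem (hG s g hg) (G.inv_mem hg)
      have hdet : Matrix.GeneralLinearGroup.det y = 1 := by
        rw [hy, map_mul, map_mul, map_mul, map_inv, map_inv,
          mul_comm (Matrix.GeneralLinearGroup.det (ι s))]
        group
      have hdet' : (y : Matrix (Fin n) (Fin n) F).det = 1 := by
        have := congrArg Units.val hdet
        simpa using this
      let s' : Matrix.SpecialLinearGroup (Fin n) F := ⟨(y : Matrix (Fin n) (Fin n) F), hdet'⟩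
      have hs' : ι s' = y := by
        apply Units.ext
        rfl
      have hs'N : s' ∈ N₀ := by
        show ι s' ∈ G
        rw [hs']
        exact hyG
      rw [← hs']
      exact hscalar_central s' (hcase hs'N)
    have hcomm := commute_of_central_commutators ι g hperf hc_mem
    have hrange : (g : Matrix (Fin n) (Fin n) F) ∈ Set.range (Matrix.scalar (Fin n)) := by
      apply Matrix.mem_range_scalar_of_commute_transvectionStruct
      intro t
      have h1 := hcomm ⟨t.toMatrix, t.det⟩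
      have h2 : ((ι ⟨t.toMatrix, t.det⟩ * g : GL (Fin n) F) : Matrix (Fin n) (Fin n) F) =
          ((g * ι ⟨t.toMatrix, t.det⟩ : GL (Fin n) F) : Matrix (Fin n) (Fin n) F) := by rw [h1]
      rw [Units.val_mul, Units.val_mul] at h2
      exact h2
    obtain ⟨r, hr⟩ := hrange
    refine ⟨r, ?_⟩
    rw [← hr, Matrix.scalar_apply, Matrix.smul_one_eq_diagonal]
  · right
    rintro _ ⟨s, rfl⟩
    have : s ∈ N₀ := by rw [hcase]; exact Subgroup.mem_top s
    exact this

end Cfsg.Agent.S2540
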