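import Cfsg.Statements.S2541

set_option autoImplicit false
open Cfsg

namespace Cfsg.Agent.S2541

/-- every element of `S_6` has order dividing 60 -/
theorem orderOf_dvd_sixty (σ : Equiv.Perm (Fin 6)) : orderOf σ ∣ 60 := by
  rw [← Equiv.Perm.lcm_cycleType]
  apply Multiset.lcm_dvd.mpr
  intro a ha
  have h1 : a ≤ σ.cycleType.sum := Multiset.le_sum_of_mem ha
  have h2 := Equiv.Perm.sum_cycleType_le σ
  simp only [Fintype.card_fin] at h2
  have h3 := Equiv.Perm.two_le_of_mem_cycleType ha
  have h4 : a ≤ 6 := le_trans h1 h2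
  interval_cases a <;> decide

/-- the monoid hom `x ↦ diag(x, 1)` -/
noncomputable def diagHom (F : Type*) [Field F] : F →* Matrix (Fin 2) (Fin 2) F where
  toFun x := Matrix.diagonal ![x, 1]
  map_one' := by
    ext i j
    fin_cases i <;> fin_cases j <;> simp
  map_mul' x y := by
    rw [Matrix.diagonal_mul_diagonal]
    congr 1
    ext i
    fin_cases i <;> simp

/-- Let F be a field with 9 elements. The symmetric group S_6 is not isomorphic to PGL_2(F) (although both have index-2 subgroups isomorphic to A_6). -/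
theorem result {F : Type*} [Field F] [Fintype F] (hF : Fintype.card F = 9) : ¬ Nonempty (Equiv.Perm (Fin 6) ≃* Matrix.ProjGenLinGroup (Fin 2) F) := by
  rintro ⟨e⟩
  classical
  obtain ⟨ζ, hζ⟩ := IsCyclic.exists_generator (α := Fˣ)
  have hord : orderOf ζ = 8 := by
    rw [orderOf_eq_card_of_forall_mem_zpowers hζ, Nat.card_eq_fintype_card, Fintype.card_units, hF]
  let ψ : Fˣ →* Matrix.ProjGenLinGroup (Fin 2) F :=
    Matrix.ProjGenLinGroup.mk.comp (Units.map (diagHom F))
  have hinj : Function.Injective ψ := by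
    rw [injective_iff_map_eq_one]
    intro u hu
    simp only [ψ, MonoidHom.comp_apply, Matrix.ProjGenLinGroup.mk_eq_one,
      Matrix.GeneralLinearGroup.center_eq_range_scalar, MonoidHom.mem_range] at hu
    obtain ⟨c, hc⟩ := hu
    have h := congrArg (fun M : GL (Fin 2) F => (M : Matrix (Fin 2) (Fin 2) F)) hc
    simp only [Matrix.GeneralLinearGroup.coe_scalar, Units.coe_map, diagHom, MonoidHom.coe_mk,
      OneHom.coe_mk] at h
    have h00 := congrFun (congrFun h 0) 0
    have h11 := congrFun (congrFun h 1) 1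
    simp at h00 h11
    ext
    rw [← h00, h11]
  have h8 : orderOf (ψ ζ) = 8 := by
    rw [orderOf_injective ψ hinj, hord]
  have h8' : orderOf (e.symm (ψ ζ)) = 8 := by
    rw [MulEquiv.orderOf_eq, h8]
  have := orderOf_dvd_sixty (e.symm (ψ ζ))
  rw [h8'] at this
  exact absurd this (by decide)

end Cfsg.Agent.S2541
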