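import Mathlib
import Cfsg.Statements.S2542
import Cfsg.Agent.Helper8.PSL211
import Cfsg.Agent.Helper7.SLTransfer

set_option autoImplicit false
open Cfsg

namespace Cfsg.Agent.S2542

open Cfsg.Agent.Helper8

/-- Let F be a field with 11 elements. PSL_2(F) has a subgroup H of index 11 isomorphic to the alternating group A_5, and the action of PSL_2(F) on the cosets of H is 2-transitive (of degree 11). -/
theorem result {F : Type*} [Field F] [Fintype F] (hF : Fintype.card F = 11) : ∃ H : Subgroup (Matrix.ProjectiveSpecialLinearGroup (Fin 2) F), H.index = 11 ∧ Nonempty (H ≃* alternatingGroup (Fin 5)) ∧ MulAction.IsMultiplyPretransitive (Matrix.ProjectiveSpecialLinearGroup (Fin 2) F) ((Matrix.ProjectiveSpecialLinearGroup (Fin 2) F) ⧸ H) 2 := by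
  have hp : Nat.Prime 11 := by norm_num
  have φ : F ≃+* ZMod 11 := (ZMod.ringEquivOfPrime F hp hF).symm
  let e : Matrix.ProjectiveSpecialLinearGroup (Fin 2) F ≃* PSL211.P :=
    Cfsg.Agent.Helper7.SLTransfer.pslEquiv φ
  have hmem : ∀ g : Matrix.ProjectiveSpecialLinearGroup (Fin 2) F,
      g ∈ PSL211.H.map e.symm.toMonoidHom ↔ e g ∈ PSL211.H := by
    intro g
    constructor
    · rintro ⟨a, ha, rfl⟩
      have : e (e.symm.toMonoidHom a) = a := e.apply_symm_apply a
      rw [this]
      exact ha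
    · intro hg
      exact ⟨e g, hg, e.symm_apply_apply g⟩
  refine ⟨PSL211.H.map e.symm.toMonoidHom, ?_, ?_, ?_⟩
  · have := Subgroup.index_map_equiv PSL211.H e.symm
    exact this.trans PSL211.index_H
  · obtain ⟨ε⟩ := PSL211.H_equiv
    exact ⟨((e.symm.subgroupMap PSL211.H).symm).trans ε⟩
  · apply TwoTrans.two_pretransitive_of_double_coset
    intro g₁ g₂ h₁ h₂
    rw [hmem] at h₁ h₂
    obtain ⟨a, ha, b, hb, hab⟩ := PSL211.double_coset (e g₁) (e g₂) h₁ h₂
    refine ⟨e.symm a, (hmem _).mpr (by rw [e.apply_symm_apply]; exact ha),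
      e.symm b, (hmem _).mpr (by rw [e.apply_symm_apply]; exact hb), ?_⟩
    apply e.injective
    rw [map_mul, map_mul, e.apply_symm_apply, e.apply_symm_apply]
    exact hab

end Cfsg.Agent.S2542
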