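import Mathlib
import Cfsg.Statements.S2548
import Cfsg.Agent.Helper8.ODtF
import Cfsg.Agent.Helper8.OStY
import Cfsg.Agent.Helper8.OStZ
import Cfsg.Agent.Helper8.OPlC
import Cfsg.Agent.S0305
import Cfsg.Agent.S0299
import Cfsg.Agent.S2544

set_option autoImplicit false
open Cfsg

namespace Cfsg.Agent.S2548

/-- Let F be a finite field of characteristic p and consider the group PΩ⁺_{2m}(F) of the hyperbolic quadratic form Σ x_i y_i with m ≥ 1, where Ω denotes the commutator subgroup of the full isometry group. This group has an irreducible complex character χ whose degree equals the order of a Sylow p-subgroup (equal to q^(m(m−1)) when #F = q, except in the degenerate case m = 2, q = 2, where this commutator subgroup has order 18 and its Sylow 2-subgroups have order 2) and whose restriction to any Sylow p-subgroup P is the regular character of P: χ vanishes on the non-identity elements of P. (This is the Steinberg character.) -/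
theorem result {F : Type*} [Field F] [Fintype F] (p : ℕ) [Fact p.Prime] [CharP F p] (m : ℕ) (hm : 1 ≤ m) : ∃ χ : Cfsg.POmega F (Cfsg.quadFormPlus m F) → ℂ, Cfsg.IsIrrCharacter (Cfsg.POmega F (Cfsg.quadFormPlus m F)) χ ∧ ∀ P : Sylow p (Cfsg.POmega F (Cfsg.quadFormPlus m F)), χ 1 = Nat.card P ∧ ∀ x : Cfsg.POmega F (Cfsg.quadFormPlus m F), x ∈ P → x ≠ 1 → χ x = 0 := by
  rcases m with _ | _ | _ | k
  · omega
  · obtain ⟨φ⟩ := Cfsg.Agent.S0305.result (F := F) rfl
    exact Cfsg.Agent.Helper8.OSt.hasSteinberg_quot_center_of_comm p _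
      (Cfsg.Agent.Helper8.OSt.comm_of_iso_dihedral φ)
  · by_cases hF : 3 ≤ Fintype.card F
    · obtain ⟨φ⟩ := Cfsg.Agent.S0299.result (F := F) hF
      exact Cfsg.Agent.Helper8.OSt.HasSteinberg.of_mulEquiv φ
        (Cfsg.Agent.Helper8.OSt.HasSteinberg.prod (Cfsg.Agent.S2544.result p 2 le_rfl)
          (Cfsg.Agent.S2544.result p 2 le_rfl))
    · have hF2 : Fintype.card F = 2 := by
        have : 2 ≤ Fintype.card F := Fintype.one_lt_card
        omega
      have hp2 : p = 2 := by
        obtain ⟨n, hp, hn⟩ := FiniteField.card F p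
        rw [hF2] at hn
        have hdvd : p ∣ 2 := by
          rw [hn]
          exact dvd_pow_self p n.pos.ne'
        exact (Nat.prime_dvd_prime_iff_eq hp Nat.prime_two).mp hdvd
      subst hp2
      have hQeq : Cfsg.quadFormPlus 2 F = ⇑(Cfsg.Agent.Helper8.StdForms.plusForm F 2) :=
        funext (fun v => (Cfsg.Agent.Helper8.StdForms.plusForm_apply F 2 v).symm)
      have key := Cfsg.Agent.Helper8.OPl.hasSteinberg_plus_two (F := F) hF2
      rw [← hQeq] at key
      exact key
  · exact Cfsg.Agent.Helper8.ODt.steinberg_plus F (k + 1) p (by omega)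

end Cfsg.Agent.S2548
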