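import Cfsg.Statements.S2550
import Cfsg.Agent.S2162
import Cfsg.Agent.Helper7.LinearCard

set_option autoImplicit false
open Cfsg

namespace Cfsg.Agent.S2550

open Matrix

theorem charP_two {K : Type*} [Field K] [Fintype K] {k : ℕ} (hK : Fintype.card K = 2 ^ k) :
    CharP K 2 := by
  obtain ⟨n, hp, hc⟩ := FiniteField.card K (ringChar K)
  rw [hK] at hc
  have h2 : ringChar K ∣ 2 ^ k := by
    rw [hc]
    exact dvd_pow_self _ n.ne_zero
  have h3 : ringChar K ∣ 2 := hp.dvd_of_dvd_pow h2
  have h4 : ringChar K = 2 := (Nat.prime_dvd_prime_iff_eq hp Nat.prime_two).mp h3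
  rw [← h4]
  exact ringChar.charP K

theorem card_PSL4 {F : Type*} [Field F] [Fintype F] (hF : Fintype.card F = 2) :
    Nat.card (Matrix.ProjectiveSpecialLinearGroup (Fin 4) F) = 20160 := by
  have h1 := Matrix.card_GL_field (𝔽 := F) 4
  have h2 := Cfsg.Agent.Helper7.card_units_mul_card_SL (n := Fin 4) (F := F)
  have h3 := Cfsg.Agent.Helper7.card_center_mul_card_PSL (F := F) 4 (by norm_num)
  rw [hF] at h1 h2 h3
  simp [Fin.prod_univ_succ] at h1
  norm_num at h2 h3
  omega

theorem card_PSL3 {K : Type*} [Field K] [Fintype K] (hK : Fintype.card K = 4) :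
    Nat.card (Matrix.ProjectiveSpecialLinearGroup (Fin 3) K) = 20160 := by
  have h1 := Matrix.card_GL_field (𝔽 := K) 3
  have h2 := Cfsg.Agent.Helper7.card_units_mul_card_SL (n := Fin 3) (F := K)
  have h3 := Cfsg.Agent.Helper7.card_center_mul_card_PSL (F := K) 3 (by norm_num)
  rw [hK] at h1 h2 h3
  simp [Fin.prod_univ_succ] at h1
  norm_num at h2 h3
  omega

/-- In `PSL₃(K)`, `|K| = 4`, every involution lifts to an involution of `SL₃(K)`. -/
theorem lift_involution {K : Type*} [Field K] [Fintype K] [CharP K 2]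
    (x : Matrix.ProjectiveSpecialLinearGroup (Fin 3) K) (hx : orderOf x = 2) :
    ∃ g : Matrix.SpecialLinearGroup (Fin 3) K, orderOf g = 2 ∧
      (QuotientGroup.mk g : Matrix.ProjectiveSpecialLinearGroup (Fin 3) K) = x := by
  obtain ⟨g, rfl⟩ := QuotientGroup.mk_surjective x
  have hx2 : (QuotientGroup.mk g : Matrix.ProjectiveSpecialLinearGroup (Fin 3) K) ^ 2 = 1 := by
    rw [← hx]; exact pow_orderOf_eq_one _
  have hx1 : (QuotientGroup.mk g : Matrix.ProjectiveSpecialLinearGroup (Fin 3) K) ≠ 1 := by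
    intro h
    rw [h, orderOf_one] at hx
    omega
  have hg2 : g ^ 2 ∈ Subgroup.center (Matrix.SpecialLinearGroup (Fin 3) K) := by
    rw [← QuotientGroup.eq_one_iff]
    exact hx2
  rw [Matrix.SpecialLinearGroup.mem_center_iff] at hg2
  obtain ⟨r, hr3, hr⟩ := hg2
  rw [Fintype.card_fin] at hr3
  let z : Matrix.SpecialLinearGroup (Fin 3) K := ⟨Matrix.scalar (Fin 3) r, by
    rw [Matrix.scalar_apply, Matrix.det_diagonal]; simp [hr3]⟩
  have hz : z ∈ Subgroup.center (Matrix.SpecialLinearGroup (Fin 3) K) := by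
    rw [Matrix.SpecialLinearGroup.mem_center_iff]
    exact ⟨r, by rw [Fintype.card_fin]; exact hr3, rfl⟩
  have hmk : (QuotientGroup.mk (z * g) : Matrix.ProjectiveSpecialLinearGroup (Fin 3) K) =
      QuotientGroup.mk g := by
    rw [QuotientGroup.mk_mul, (QuotientGroup.eq_one_iff z).mpr hz, one_mul]
  refine ⟨z * g, ?_, hmk⟩
  apply orderOf_eq_prime
  · have hcomm : Commute z g := (Subgroup.mem_center_iff.mp hz g).symm
    rw [hcomm.mul_pow]
    apply Subtype.ext
    rw [Matrix.SpecialLinearGroup.coe_mul, ← hr, Matrix.SpecialLinearGroup.coe_pow]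
    show (Matrix.scalar (Fin 3) r) ^ 2 * Matrix.scalar (Fin 3) r = 1
    rw [← map_pow, ← map_mul, ← pow_succ, hr3, map_one]
  · intro h
    apply hx1
    rw [← hmk, h]
    rfl

theorem rank_eq_one {K : Type*} [Field K] [CharP K 2]
    (g : Matrix.SpecialLinearGroup (Fin 3) K) (hg : orderOf g = 2) :
    ((g : Matrix (Fin 3) (Fin 3) K) - 1).rank = 1 := by
  have h1 := Cfsg.Agent.S2162.sq_zero_of_order_two g hg
  have h2 := Cfsg.Agent.S2162.ne_one_of_order_two g hg
  have h3 := Matrix.rank_add_rank_le_card_of_mul_eq_zero h1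
  rw [Fintype.card_fin] at h3
  omega

theorem psl3_involutions_conj {K : Type*} [Field K] [Fintype K] [CharP K 2]
    (x y : Matrix.ProjectiveSpecialLinearGroup (Fin 3) K) (hx : orderOf x = 2) (hy : orderOf y = 2) :
    IsConj x y := by
  obtain ⟨g, hg, rfl⟩ := lift_involution x hx
  obtain ⟨h, hh, rfl⟩ := lift_involution y hy
  have hc : IsConj g h := by
    rw [Cfsg.Agent.S2162.result (le_refl 3) g h hg hh, rank_eq_one g hg, rank_eq_one h hh]
  obtain ⟨c, hc⟩ := isConj_iff.mp hc
  rw [isConj_iff]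
  refine ⟨QuotientGroup.mk c, ?_⟩
  rw [← hc]
  rfl

section FourTwo

variable {F : Type*} [Field F] [Fintype F]

/-- the transvection `1 + E₀₁` in `SL₄` -/
noncomputable def ta : Matrix.SpecialLinearGroup (Fin 4) F :=
  ⟨Matrix.transvection 0 1 1, Matrix.det_transvection_of_ne 0 1 (by decide) 1⟩

/-- the transvection `1 + E₂₃` in `SL₄` -/
noncomputable def tb : Matrix.SpecialLinearGroup (Fin 4) F :=
  ⟨Matrix.transvection 2 3 1, Matrix.det_transvection_of_ne 2 3 (by decide) 1⟩

theorem ta_sq [CharP F 2] : (ta : Matrix.SpecialLinearGroup (Fin 4) F) * ta = 1 := by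
  apply Subtype.ext
  rw [Matrix.SpecialLinearGroup.coe_mul]
  show Matrix.transvection 0 1 (1 : F) * Matrix.transvection 0 1 (1 : F) = 1
  rw [Matrix.transvection_mul_transvection_same (R := F) (i := (0 : Fin 4)) (j := 1) (by decide) 1 1,
    CharTwo.add_self_eq_zero, Matrix.transvection_zero]

theorem tb_sq [CharP F 2] : (tb : Matrix.SpecialLinearGroup (Fin 4) F) * tb = 1 := by
  apply Subtype.ext
  rw [Matrix.SpecialLinearGroup.coe_mul]
  show Matrix.transvection 2 3 (1 : F) * Matrix.transvection 2 3 (1 : F) = 1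
  rw [Matrix.transvection_mul_transvection_same (R := F) (i := (2 : Fin 4)) (j := 3) (by decide) 1 1,
    CharTwo.add_self_eq_zero, Matrix.transvection_zero]

theorem ta_tb_val : ((ta * tb : Matrix.SpecialLinearGroup (Fin 4) F) : Matrix (Fin 4) (Fin 4) F) =
    1 + Matrix.single 0 1 1 + Matrix.single 2 3 1 := by
  rw [Matrix.SpecialLinearGroup.coe_mul]
  show Matrix.transvection 0 1 (1 : F) * Matrix.transvection 2 3 (1 : F) = _
  unfold Matrix.transvection
  rw [Matrix.add_mul, Matrix.mul_add, Matrix.mul_add, Matrix.one_mul, Matrix.mul_one,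
    Matrix.one_mul, Matrix.single_mul_single_of_ne _ _ _ _ (by decide)]
  simp only [add_zero]
  abel

theorem tb_ta_val : ((tb * ta : Matrix.SpecialLinearGroup (Fin 4) F) : Matrix (Fin 4) (Fin 4) F) =
    1 + Matrix.single 0 1 1 + Matrix.single 2 3 1 := by
  rw [Matrix.SpecialLinearGroup.coe_mul]
  show Matrix.transvection 2 3 (1 : F) * Matrix.transvection 0 1 (1 : F) = _
  unfold Matrix.transvection
  rw [Matrix.add_mul, Matrix.mul_add, Matrix.mul_add, Matrix.one_mul, Matrix.mul_one,
    Matrix.one_mul, Matrix.single_mul_single_of_ne _ _ _ _ (by decide)]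
  simp only [add_zero]

theorem ta_tb_comm : (ta * tb : Matrix.SpecialLinearGroup (Fin 4) F) = tb * ta := by
  apply Subtype.ext
  rw [ta_tb_val, tb_ta_val]

theorem order_ta [CharP F 2] : orderOf (ta : Matrix.SpecialLinearGroup (Fin 4) F) = 2 := by
  apply orderOf_eq_prime
  · rw [pow_two]; exact ta_sq
  · intro h
    have := congrArg (fun g : Matrix.SpecialLinearGroup (Fin 4) F => (g : Matrix (Fin 4) (Fin 4) F) 0 1) h
    simp [ta, Matrix.transvection] at this

theorem order_tab [CharP F 2] : orderOf (ta * tb : Matrix.SpecialLinearGroup (Fin 4) F) = 2 := by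
  apply orderOf_eq_prime
  · rw [pow_two]
    have h : Commute (ta : Matrix.SpecialLinearGroup (Fin 4) F) tb := ta_tb_comm
    calc (ta * tb : Matrix.SpecialLinearGroup (Fin 4) F) * (ta * tb)
        = (ta * ta) * (tb * tb) := by
          rw [mul_assoc, ← mul_assoc tb, ← h.eq, mul_assoc, ← mul_assoc]
      _ = 1 := by rw [ta_sq, tb_sq, one_mul]
  · intro h
    have := congrArg (fun g : Matrix.SpecialLinearGroup (Fin 4) F => (g : Matrix (Fin 4) (Fin 4) F) 0 1) h
    simp only [ta_tb_val] at this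
    simp at this

theorem rank_ta : (((ta : Matrix.SpecialLinearGroup (Fin 4) F) : Matrix (Fin 4) (Fin 4) F) - 1).rank ≤ 1 := by
  have h : ((ta : Matrix.SpecialLinearGroup (Fin 4) F) : Matrix (Fin 4) (Fin 4) F) - 1 =
      Matrix.vecMulVec (Pi.single 0 1) (Pi.single 1 1) := by
    show Matrix.transvection 0 1 (1 : F) - 1 = _
    unfold Matrix.transvection
    rw [add_sub_cancel_left]
    ext i j
    rw [Matrix.vecMulVec_apply, Matrix.single_apply, Pi.single_apply, Pi.single_apply]
    by_cases hi : i = 0 <;> by_cases hj : j = 1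
    · simp [hi, hj]
    · have : ¬ (1 : Fin 4) = j := fun h => hj h.symm
      simp [hi, hj, this]
    · have : ¬ (0 : Fin 4) = i := fun h => hi h.symm
      simp [hi, hj, this]
    · have : ¬ (0 : Fin 4) = i := fun h => hi h.symm
      simp [hi, hj, this]
  rw [h]
  exact Matrix.rank_vecMulVec_le _ _

theorem rank_tab : 2 ≤ (((ta * tb : Matrix.SpecialLinearGroup (Fin 4) F) : Matrix (Fin 4) (Fin 4) F) - 1).rank := by
  have h : (((ta * tb : Matrix.SpecialLinearGroup (Fin 4) F) : Matrix (Fin 4) (Fin 4) F) - 1).submatrix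
      ![(0 : Fin 4), 2] ![(1 : Fin 4), 3] = (1 : Matrix (Fin 2) (Fin 2) F) := by
    rw [ta_tb_val]
    ext i j
    fin_cases i <;> fin_cases j <;> simp [Matrix.single_apply]
  have h2 := Matrix.rank_submatrix_le
    (((ta * tb : Matrix.SpecialLinearGroup (Fin 4) F) : Matrix (Fin 4) (Fin 4) F) - 1)
    ![(0 : Fin 4), 2] ![(1 : Fin 4), 3]
  rw [h, Matrix.rank_one, Fintype.card_fin] at h2
  exact h2

end FourTwo

theorem result {F K : Type*} [Field F] [Fintype F] [Field K] [Fintype K] (hF : Fintype.card F = 2) (hK : Fintype.card K = 4) : Nat.card (Matrix.ProjectiveSpecialLinearGroup (Fin 4) F) = Nat.card (Matrix.ProjectiveSpecialLinearGroup (Fin 3) K) ∧ ¬ Nonempty (Matrix.ProjectiveSpecialLinearGroup (Fin 4) F ≃* Matrix.ProjectiveSpecialLinearGroup (Fin 3) K) := by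
  haveI : CharP F 2 := charP_two (k := 1) (by rw [hF]; norm_num)
  haveI : CharP K 2 := charP_two (k := 2) (by rw [hK]; norm_num)
  refine ⟨by rw [card_PSL4 hF, card_PSL3 hK], ?_⟩
  rintro ⟨φ⟩
  -- the centre of SL₄(F) is trivial
  have hZ : Subgroup.center (Matrix.SpecialLinearGroup (Fin 4) F) = ⊥ := by
    apply Subgroup.eq_bot_of_card_eq
    rw [Cfsg.Agent.Helper7.card_center_SL 4 (by norm_num), hF]
    norm_num
  have hinj : ∀ u v : Matrix.SpecialLinearGroup (Fin 4) F,
      (QuotientGroup.mk u : Matrix.ProjectiveSpecialLinearGroup (Fin 4) F) = QuotientGroup.mk v → u = v := by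
    intro u v h
    have h1 := QuotientGroup.eq.mp h
    rw [hZ, Subgroup.mem_bot] at h1
    exact inv_mul_eq_one.mp h1
  have hord : ∀ u : Matrix.SpecialLinearGroup (Fin 4) F, orderOf u = 2 →
      orderOf (QuotientGroup.mk u : Matrix.ProjectiveSpecialLinearGroup (Fin 4) F) = 2 := by
    intro u hu
    apply orderOf_eq_prime
    · rw [← QuotientGroup.mk_pow, ← hu, pow_orderOf_eq_one]
      rfl
    · intro h
      have := hinj u 1 h
      rw [this, orderOf_one] at hu
      omega
  set x : Matrix.ProjectiveSpecialLinearGroup (Fin 4) F := QuotientGroup.mk ta with hx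
  set y : Matrix.ProjectiveSpecialLinearGroup (Fin 4) F := QuotientGroup.mk (ta * tb) with hy
  have hxo : orderOf (φ x) = 2 := by rw [MulEquiv.orderOf_eq]; exact hord _ order_ta
  have hyo : orderOf (φ y) = 2 := by rw [MulEquiv.orderOf_eq]; exact hord _ order_tab
  have hconj := psl3_involutions_conj (φ x) (φ y) hxo hyo
  obtain ⟨c, hc⟩ := isConj_iff.mp hconj
  obtain ⟨d, rfl⟩ := φ.surjective c
  rw [← map_inv, ← map_mul, ← map_mul] at hc
  have hc' := φ.injective hc
  obtain ⟨e, rfl⟩ := QuotientGroup.mk_surjective d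
  have hc'' : e * ta * e⁻¹ = ta * tb := hinj _ _ hc'
  have hconj2 : IsConj (ta : Matrix.SpecialLinearGroup (Fin 4) F) (ta * tb) := isConj_iff.mpr ⟨e, hc''⟩
  rw [Cfsg.Agent.S2162.result (by norm_num) _ _ order_ta order_tab] at hconj2
  have h1 := rank_ta (F := F)
  have h2 := rank_tab (F := F)
  omega

end Cfsg.Agent.S2550
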