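import Cfsg.Statements.S2552

set_option autoImplicit false
open Cfsg

namespace Cfsg.Agent.S2552
open Module

/-- Let F be a finite field and n ≥ 1. For every k, the special linear group SL_n(F) acts transitively on the set of k-dimensional subspaces of F^n: any two subspaces of the same dimension are carried onto each other by some matrix of determinant 1. -/
theorem result {F : Type*} [Field F] [Fintype F] (n : ℕ) (hn : 1 ≤ n) (U₁ U₂ : Submodule F (Fin n → F)) (h : Module.finrank F U₁ = Module.finrank F U₂) : ∃ g : Matrix.SpecialLinearGroup (Fin n) F, U₁.map ((Matrix.SpecialLinearGroup.toLin' g : (Fin n → F) ≃ₗ[F] (Fin n → F)) : (Fin n → F) →ₗ[F] (Fin n → F)) = U₂ := by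
  classical
  by_cases hbot : U₂ = ⊥
  · have h1 : U₁ = ⊥ := by
      rw [hbot, finrank_bot] at h
      exact Submodule.finrank_eq_zero.mp h
    refine ⟨1, ?_⟩
    rw [h1, hbot, Submodule.map_bot]
  · -- extend an isomorphism U₁ ≃ U₂
    let f : U₁ ≃ₗ[F] U₂ := LinearEquiv.ofFinrankEq U₁ U₂ h
    obtain ⟨g, hg⟩ := Submodule.exists_linearEquiv_restrict_eq f
    have hmap : U₁.map (g : (Fin n → F) →ₗ[F] (Fin n → F)) = U₂ := by
      apply le_antisymm
      · rintro _ ⟨x, hx, rfl⟩
        have := hg ⟨x, hx⟩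
        show g x ∈ U₂
        rw [← this]
        exact (f ⟨x, hx⟩).2
      · intro y hy
        refine ⟨(f.symm ⟨y, hy⟩ : Fin n → F), (f.symm ⟨y, hy⟩).2, ?_⟩
        show g (f.symm ⟨y, hy⟩ : Fin n → F) = y
        rw [← hg (f.symm ⟨y, hy⟩), LinearEquiv.apply_symm_apply]
    set δ : F := LinearMap.det (g : (Fin n → F) →ₗ[F] (Fin n → F)) with hδ
    have hδ0 : δ ≠ 0 := (LinearEquiv.isUnit_det' g).ne_zero
    obtain ⟨v, hvU, hv0⟩ := Submodule.exists_mem_ne_zero_of_ne_bot hbot
    obtain ⟨i, hi⟩ := Function.ne_iff.mp hv0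
    let φ : Module.Dual F (Fin n → F) := ((δ⁻¹ - 1) * (v i)⁻¹) • LinearMap.proj i
    have hφv : φ v = δ⁻¹ - 1 := by
      show ((δ⁻¹ - 1) * (v i)⁻¹) * v i = δ⁻¹ - 1
      rw [mul_assoc, inv_mul_cancel₀ hi, mul_one]
    have hu : IsUnit (1 + φ v) := by
      rw [hφv, add_sub_cancel]
      exact (inv_ne_zero hδ0).isUnit
    let hD : (Fin n → F) ≃ₗ[F] (Fin n → F) := LinearEquiv.dilatransvection hu
    have hDapply : ∀ x, hD x = x + φ x • v := fun x => LinearEquiv.dilatransvection.apply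
    have hDmap : U₂.map (hD : (Fin n → F) →ₗ[F] (Fin n → F)) = U₂ := by
      apply Submodule.eq_of_le_of_finrank_eq
      · rintro _ ⟨x, hx, rfl⟩
        show hD x ∈ U₂
        rw [hDapply]
        exact U₂.add_mem hx (U₂.smul_mem _ hvU)
      · exact LinearEquiv.finrank_map_eq hD U₂
    let L : (Fin n → F) →ₗ[F] (Fin n → F) :=
      (hD : (Fin n → F) →ₗ[F] (Fin n → F)) ∘ₗ (g : (Fin n → F) →ₗ[F] (Fin n → F))
    have hLdet : LinearMap.det L = 1 := by
      show LinearMap.det ((hD : (Fin n → F) →ₗ[F] (Fin n → F)) ∘ₗ (g : (Fin n → F) →ₗ[F] (Fin n → F))) = 1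
      rw [LinearMap.det_comp]
      have h1 : LinearMap.det (hD : (Fin n → F) →ₗ[F] (Fin n → F)) = 1 + φ v := by
        show LinearMap.det (LinearEquiv.dilatransvection hu).toLinearMap = _
        rw [LinearEquiv.dilatransvection.coe_toLinearMap, LinearMap.transvection.det]
      rw [h1, hφv, add_sub_cancel, ← hδ, inv_mul_cancel₀ hδ0]
    have hMdet : (LinearMap.toMatrix' L).det = 1 := by
      rw [LinearMap.det_toMatrix', hLdet]
    let A : Matrix.SpecialLinearGroup (Fin n) F := ⟨LinearMap.toMatrix' L, hMdet⟩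
    refine ⟨A, ?_⟩
    rw [Matrix.SpecialLinearGroup.toLin'_to_linearMap]
    show U₁.map (Matrix.toLin' (LinearMap.toMatrix' L)) = U₂
    rw [Matrix.toLin'_toMatrix']
    show U₁.map ((hD : (Fin n → F) →ₗ[F] (Fin n → F)) ∘ₗ (g : (Fin n → F) →ₗ[F] (Fin n → F))) = U₂
    rw [Submodule.map_comp, hmap, hDmap]

end Cfsg.Agent.S2552
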