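import Mathlib
import Cfsg.Statements.S2563
import Cfsg.Agent.Helper8.SymOrthHom
import Cfsg.Agent.Helper8.SymOrthCount
import Cfsg.Agent.Helper8.StdTransfer
import Cfsg.Agent.S2616
import Cfsg.Agent.S0289
import Cfsg.Agent.S0290

set_option autoImplicit false
open Cfsg

namespace Cfsg.Agent.S2563

open Module Cfsg.Agent.Helper8.SymOrth Cfsg.Agent.Helper8.StdForms Cfsg.Agent.Helper8.StdTransfer

/-- transporting along the identification of `Fin (4k+4)` with `Fin (2(2k+1)+2)`. -/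
theorem cast_perm {G : Type*} [Group G] (k : ℕ)
    (h : ∃ φ : Equiv.Perm (Fin (2 * (2 * k + 1) + 2)) →* G, Function.Injective φ) :
    ∃ φ : Equiv.Perm (Fin (4 * k + 4)) →* G, Function.Injective φ := by
  obtain ⟨φ, hφ⟩ := h
  have e : 4 * k + 4 = 2 * (2 * k + 1) + 2 := by ring
  refine ⟨φ.comp (Equiv.permCongrHom (finCongr e)).toMonoidHom, ?_⟩
  exact hφ.comp (Equiv.permCongrHom (finCongr e)).injective

theorem hn (k : ℕ) : (((2 * (2 * k + 1) + 2).choose 2 : ℕ) : ZMod 2) = 0 := by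
  rw [ZMod.natCast_eq_zero_iff, Nat.choose_two_right]
  have : (2 * (2 * k + 1) + 2) * (2 * (2 * k + 1) + 2 - 1) = 2 * (2 * ((k + 1) * (4 * k + 3))) := by
    have : 2 * (2 * k + 1) + 2 - 1 = 4 * k + 3 := by omega
    rw [this]; ring
  rw [this, Nat.mul_div_cancel_left _ (by norm_num : 0 < 2)]
  exact ⟨_, rfl⟩

theorem finrank_V (m : ℕ) : finrank (ZMod 2) (Fin m ⊕ Fin m → ZMod 2) = 2 * m := by
  rw [Module.finrank_pi, Fintype.card_sum, Fintype.card_fin]; ring

/-- the number of singular vectors in natural-number form. -/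
theorem card_N (k : ℕ) : ∃ a : ℕ, 1 ≤ a ∧ a = 2 ^ (2 * k) ∧
    ((Odd k → Nat.card {x : Fin (2 * k + 1) ⊕ Fin (2 * k + 1) → ZMod 2 // Qs (2 * k + 1) x = 0}
        = 2 * (a * a) + a) ∧
     (Even k → Nat.card {x : Fin (2 * k + 1) ⊕ Fin (2 * k + 1) → ZMod 2 // Qs (2 * k + 1) x = 0} + a
        = 2 * (a * a))) := by
  refine ⟨2 ^ (2 * k), Nat.one_le_two_pow, rfl, ?_, ?_⟩
  · intro hodd
    have h := card_singular k
    have h1 : (2 : ℤ) ^ (2 * (2 * k + 1)) = 4 * ((2 : ℤ) ^ (2 * k) * (2 : ℤ) ^ (2 * k)) := by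
      rw [← pow_add]
      have : 2 * (2 * k + 1) = (2 * k + 2 * k) + 2 := by ring
      rw [this, pow_add]; ring
    have h2 : (-4 : ℤ) ^ k = -((2 : ℤ) ^ (2 * k)) := by
      rw [pow_mul, Odd.neg_pow hodd]; norm_num
    rw [h1, h2] at h
    have : ((Nat.card {x : Fin (2 * k + 1) ⊕ Fin (2 * k + 1) → ZMod 2 // Qs (2 * k + 1) x = 0} : ℕ) : ℤ)
        = ((2 * (2 ^ (2 * k) * 2 ^ (2 * k)) + 2 ^ (2 * k) : ℕ) : ℤ) := by
      push_cast
      linarith
    exact_mod_cast this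
  · intro heven
    have h := card_singular k
    have h1 : (2 : ℤ) ^ (2 * (2 * k + 1)) = 4 * ((2 : ℤ) ^ (2 * k) * (2 : ℤ) ^ (2 * k)) := by
      rw [← pow_add]
      have : 2 * (2 * k + 1) = (2 * k + 2 * k) + 2 := by ring
      rw [this, pow_add]; ring
    have h2 : (-4 : ℤ) ^ k = (2 : ℤ) ^ (2 * k) := by
      rw [pow_mul, Even.neg_pow heven]; norm_num
    rw [h1, h2] at h
    have : ((Nat.card {x : Fin (2 * k + 1) ⊕ Fin (2 * k + 1) → ZMod 2 // Qs (2 * k + 1) x = 0} + 2 ^ (2 * k) : ℕ) : ℤ)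
        = ((2 * (2 ^ (2 * k) * 2 ^ (2 * k)) : ℕ) : ℤ) := by
      push_cast
      linarith
    exact_mod_cast this

theorem pow_facts (k : ℕ) : 2 ^ (2 * (2 * k + 1) - 1) = 2 * (2 ^ (2 * k) * 2 ^ (2 * k)) ∧
    2 ^ (2 * k + 1) = 2 * 2 ^ (2 * k) ∧ 2 ^ (2 * k + 1 - 1) = 2 ^ (2 * k) := by
  refine ⟨?_, ?_, ?_⟩
  · have : 2 * (2 * k + 1) - 1 = (2 * k + 2 * k) + 1 := by omega
    rw [this, pow_succ, pow_add]; ring
  · rw [pow_succ]; ring
  · rfl

/-- counting through a linear equivalence. -/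
theorem card_transfer {V V' : Type*} [AddCommGroup V] [Module (ZMod 2) V] [AddCommGroup V']
    [Module (ZMod 2) V'] (P : V ≃ₗ[ZMod 2] V') (Q : V → ZMod 2) (Q' : V' → ZMod 2)
    (h : ∀ v, Q' (P v) = Q v) : Nat.card {v // Q v = 0} = Nat.card {v' // Q' v' = 0} :=
  Nat.card_congr (Equiv.subtypeEquiv P.toEquiv (fun v => by
    show Q v = 0 ↔ Q' (P v) = 0
    rw [h]))

/-- For k ≥ 1 the symmetric group of degree 4k + 4 embeds in a full orthogonal group in dimension 4k + 2 over the field of two elements: in the isometry group of the plus-type form Σ xᵢyᵢ when k is odd, and in that of the minus-type form Σ xᵢyᵢ + (z₁² + z₁z₂ + z₂²) when k is even (through its action on even partitions of a (4k+4)-set, with the form 'half the size of a part, modulo 2'). -/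
theorem result (k : ℕ) (hk : 1 ≤ k) :
    (Odd k → ∃ φ : Equiv.Perm (Fin (4 * k + 4)) →* ↥(Cfsg.isometryGroup (ZMod 2) (Cfsg.quadFormPlus (2 * k + 1) (ZMod 2))), Function.Injective φ) ∧
    (Even k → ∃ φ : Equiv.Perm (Fin (4 * k + 4)) →* ↥(Cfsg.isometryGroup (ZMod 2) (Cfsg.quadFormMinus (2 * k) (ZMod 2) 1 1)), Function.Injective φ) := by
  obtain ⟨m, hmdef⟩ : ∃ m, m = 2 * k + 1 := ⟨_, rfl⟩
  have hm1 : 1 ≤ 2 * k + 1 := by omega
  have hm2 : 2 ≤ 2 * k + 1 := by omega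
  have hQ := Qs_nondeg (F := ZMod 2) (2 * k + 1)
  have hcls := Cfsg.Agent.S2616.result hm1 (finrank_V (2 * k + 1)) (Qs (F := ZMod 2) (2 * k + 1)) hQ
  obtain ⟨a, ha1, hadef, hodd, heven⟩ := card_N k
  obtain ⟨p1, p2, p3⟩ := pow_facts k
  have hplus := Cfsg.Agent.S0289.result (F := ZMod 2) (q := 2) (ZMod.card 2) (2 * k + 1) hm1
  have hminus := Cfsg.Agent.S0290.result (F := ZMod 2) (q := 2) (ZMod.card 2) (2 * k + 1) hm1 1 1
    (by decide)
  rw [p1, p2, p3, ← hadef] at hplus hminus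
  have haa : a ≤ a * a := Nat.le_mul_self a
  constructor
  · intro hk_odd
    have hN := hodd hk_odd
    apply cast_perm
    rcases hcls with ⟨b, h1, h2, h3⟩ | ⟨b, ζ, hζ, h1, h2, h3, h4, h5, h6, h7⟩
    · have hP := plus_transfer (Qs (F := ZMod 2) (2 * k + 1)) b h1 h2 h3
      have hQeq : Cfsg.quadFormPlus (2 * k + 1) (ZMod 2) = ⇑(plusForm (ZMod 2) (2 * k + 1)) :=
        funext (fun v => (plusForm_apply (ZMod 2) (2 * k + 1) v).symm)
      rw [hQeq]
      exact exists_embedding (F := ZMod 2) (2 * k + 1) hm2 (hn k) (plusForm (ZMod 2) (2 * k + 1))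
        b.equivFun hP
    · exfalso
      have hζ1 : ζ = 1 := by
        have h0 : (0 : ZMod 2) ^ 2 + 0 + ζ ≠ 0 := hζ 0
        have key : ∀ z : ZMod 2, (0 : ZMod 2) ^ 2 + 0 + z ≠ 0 → z = 1 := by decide
        exact key ζ h0
      subst hζ1
      have hP := minus_transfer (Qs (F := ZMod 2) (2 * k + 1)) b 1 h1 h2 h3 h4 h5 h6 h7
      have hc := card_transfer b.equivFun (fun v => Qs (F := ZMod 2) (2 * k + 1) v)
        (Cfsg.quadFormMinus (2 * k + 1 - 1) (ZMod 2) 1 1) (fun v => by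
          rw [← minusForm_apply]; exact hP v)
      rw [hminus] at hc
      omega
  · intro hk_even
    have hN := heven hk_even
    apply cast_perm
    rcases hcls with ⟨b, h1, h2, h3⟩ | ⟨b, ζ, hζ, h1, h2, h3, h4, h5, h6, h7⟩
    · exfalso
      have hP := plus_transfer (Qs (F := ZMod 2) (2 * k + 1)) b h1 h2 h3
      have hc := card_transfer b.equivFun (fun v => Qs (F := ZMod 2) (2 * k + 1) v)
        (Cfsg.quadFormPlus (2 * k + 1) (ZMod 2)) (fun v => by
          rw [← plusForm_apply]; exact hP v)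
      rw [hplus] at hc
      omega
    · have hζ1 : ζ = 1 := by
        have h0 : (0 : ZMod 2) ^ 2 + 0 + ζ ≠ 0 := hζ 0
        have key : ∀ z : ZMod 2, (0 : ZMod 2) ^ 2 + 0 + z ≠ 0 → z = 1 := by decide
        exact key ζ h0
      subst hζ1
      have hP := minus_transfer (Qs (F := ZMod 2) (2 * k + 1)) b 1 h1 h2 h3 h4 h5 h6 h7
      have hQeq : Cfsg.quadFormMinus (2 * k + 1 - 1) (ZMod 2) 1 1
          = ⇑(minusForm (ZMod 2) (2 * k + 1 - 1) 1 1) :=
        funext (fun v => (minusForm_apply (ZMod 2) (2 * k + 1 - 1) 1 1 v).symm)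
      have := exists_embedding (F := ZMod 2) (2 * k + 1) hm2 (hn k)
        (minusForm (ZMod 2) (2 * k + 1 - 1) 1 1) b.equivFun hP
      rw [← hQeq] at this
      exact this

end Cfsg.Agent.S2563
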