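import Mathlib
import Cfsg.Statements.S2565
import Cfsg.Agent.S2563
import Cfsg.Agent.S0287
import Cfsg.Agent.Helper8.OmegaEven
import Cfsg.Agent.Helper8.StdForms

set_option autoImplicit false
open Cfsg

namespace Cfsg.Agent.S2565

open Cfsg.Agent.Helper8.StdForms

/-- an injective hom between finite groups of the same order transports the unique index-two
subgroup. -/
theorem equiv_alt {G : Type*} [Group G] [Finite G]
    (φ : Equiv.Perm (Fin 8) →* G) (hφ : Function.Injective φ) (hcard : Nat.card G = 40320)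
    (H : Subgroup G) (hH : H.index = 2) : Nonempty (↥H ≃* alternatingGroup (Fin 8)) := by
  have hbij : Function.Bijective φ := by
    refine (Nat.bijective_iff_injective_and_card φ).mpr ⟨hφ, ?_⟩
    rw [hcard, Nat.card_eq_fintype_card, Fintype.card_perm, Fintype.card_fin]
    rfl
  let e : Equiv.Perm (Fin 8) ≃* G := MulEquiv.ofBijective φ hbij
  have h1 : (H.comap φ).index = 2 := by
    rw [Subgroup.index_comap_of_surjective H hbij.2, hH]
  have h2 : H.comap φ = alternatingGroup (Fin 8) := Equiv.Perm.eq_alternatingGroup_of_index_eq_two h1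
  have h3 : (H.comap φ).map e.toMonoidHom = H :=
    Subgroup.map_comap_eq_self_of_surjective (f := φ) hbij.2 H
  have e1 : ↥(H.comap φ) ≃* ↥((H.comap φ).map e.toMonoidHom) := e.subgroupMap (H.comap φ)
  have e2 : ↥((H.comap φ).map e.toMonoidHom) ≃* ↥H := MulEquiv.subgroupCongr h3
  have e3 : ↥(H.comap φ) ≃* ↥(alternatingGroup (Fin 8)) := MulEquiv.subgroupCongr h2
  exact ⟨(e2.symm.trans e1.symm).trans e3⟩

/-- The commutator subgroup of the full orthogonal group of the plus-type form Σ xᵢyᵢ in dimension 6 over the field of two elements (the group Ω⁺₆(2), of index 2) is isomorphic to the alternating group of degree 8. -/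
theorem result :
    (Cfsg.Omega (ZMod 2) (Cfsg.quadFormPlus 3 (ZMod 2))).index = 2 ∧
    Nonempty (↥(Cfsg.Omega (ZMod 2) (Cfsg.quadFormPlus 3 (ZMod 2))) ≃* alternatingGroup (Fin 8)) := by
  have h2 : (2 : ZMod 2) = 0 := by decide
  have hQeq : Cfsg.quadFormPlus 3 (ZMod 2) = ⇑(plusForm (ZMod 2) 3) :=
    funext (fun v => (plusForm_apply (ZMod 2) 3 v).symm)
  have hidx : (Cfsg.Omega (ZMod 2) (Cfsg.quadFormPlus 3 (ZMod 2))).index = 2 := by
    rw [hQeq]
    exact (Cfsg.Agent.Helper8.OmegaEven.commutator_eq (plusForm (ZMod 2) 3) h2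
      (plusForm_nondeg (ZMod 2) 3) (by simp) (Or.inr (by simp))).1
  refine ⟨hidx, ?_⟩
  obtain ⟨φ, hφ⟩ := (Cfsg.Agent.S2563.result 1 le_rfl).1 (by decide)
  have hcard := Cfsg.Agent.S0287.result (F := ZMod 2) (q := 2) (ZMod.card 2) 3 (by norm_num)
  have hcard' : Nat.card ↥(Cfsg.isometryGroup (ZMod 2) (Cfsg.quadFormPlus 3 (ZMod 2))) = 40320 := by
    rw [hcard]
    decide
  haveI : Finite ↥(Cfsg.isometryGroup (ZMod 2) (Cfsg.quadFormPlus 3 (ZMod 2))) :=
    Nat.finite_of_card_ne_zero (by rw [hcard']; norm_num)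
  exact equiv_alt (G := ↥(Cfsg.isometryGroup (ZMod 2) (Cfsg.quadFormPlus 3 (ZMod 2)))) φ hφ hcard'
    _ hidx

end Cfsg.Agent.S2565
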