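import Mathlib
import Cfsg.Statements.S2566
import Cfsg.Agent.S0287
import Cfsg.Agent.Helper9.S3

set_option autoImplicit false
open Cfsg

namespace Cfsg.Agent.S2566

open Matrix

/-- the index type -/
abbrev I4 := Fin 2 ⊕ Fin 2

/-- the isometry group -/
abbrev G := ↥(Cfsg.isometryGroup (ZMod 2) (Cfsg.quadFormPlus 2 (ZMod 2)))

def J : Matrix (Fin 2) (Fin 2) (ZMod 2) := !![0, 1; 1, 0]

def md1 : Matrix I4 I4 (ZMod 2) := Matrix.fromBlocks 0 J J 0
def me1 : Matrix I4 I4 (ZMod 2) := Matrix.fromBlocks 1 J 0 1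
def md2 : Matrix I4 I4 (ZMod 2) := Matrix.fromBlocks J 0 0 J
def me2 : Matrix I4 I4 (ZMod 2) := Matrix.fromBlocks !![1, 1; 0, 1] 0 0 !![1, 0; 1, 1]
def mg : Matrix I4 I4 (ZMod 2) :=
  Matrix.fromBlocks !![1, 0; 0, 0] !![0, 0; 0, 1] !![0, 0; 0, 1] !![1, 0; 0, 0]

/-- an involutory matrix preserving the form, as an element of the isometry group. -/
def mkG (M : Matrix I4 I4 (ZMod 2)) (h : M * M = 1)
    (hiso : ∀ v : I4 → ZMod 2, Cfsg.quadFormPlus 2 (ZMod 2) (M *ᵥ v) = Cfsg.quadFormPlus 2 (ZMod 2) v) :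
    G :=
  ⟨⟨M, M, h, h⟩, fun u _ => hiso u⟩

theorem mkG_val (M : Matrix I4 I4 (ZMod 2)) (h : M * M = 1)
    (hiso : ∀ v : I4 → ZMod 2, Cfsg.quadFormPlus 2 (ZMod 2) (M *ᵥ v) = Cfsg.quadFormPlus 2 (ZMod 2) v) :
    (((mkG M h hiso : G) : GL I4 (ZMod 2)) : Matrix I4 I4 (ZMod 2)) = M := rfl

theorem G_ext {a b : G} (h : ((a : GL I4 (ZMod 2)) : Matrix I4 I4 (ZMod 2)) = (b : GL I4 (ZMod 2))) :
    a = b := Subtype.ext (Units.ext h)

def d1 : G := mkG md1 (by decide) (by unfold Cfsg.quadFormPlus; decide)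
def e1 : G := mkG me1 (by decide) (by unfold Cfsg.quadFormPlus; decide)
def d2 : G := mkG md2 (by decide) (by unfold Cfsg.quadFormPlus; decide)
def e2 : G := mkG me2 (by decide) (by unfold Cfsg.quadFormPlus; decide)
def g0 : G := mkG mg (by decide) (by unfold Cfsg.quadFormPlus; decide)

theorem val_mul (a b : G) : (((a * b : G) : GL I4 (ZMod 2)) : Matrix I4 I4 (ZMod 2))
    = ((a : GL I4 (ZMod 2)) : Matrix I4 I4 (ZMod 2)) * ((b : GL I4 (ZMod 2)) : Matrix I4 I4 (ZMod 2)) := rfl

theorem val_one : (((1 : G) : GL I4 (ZMod 2)) : Matrix I4 I4 (ZMod 2)) = 1 := rfl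

theorem commute_closure {H : Type*} [Group H] {S T : Set H}
    (h : ∀ s ∈ S, ∀ t ∈ T, s * t = t * s) :
    ∀ a ∈ Subgroup.closure S, ∀ b ∈ Subgroup.closure T, a * b = b * a := by
  have h1 : Subgroup.closure S ≤ Subgroup.centralizer (Subgroup.closure T : Set H) := by
    rw [Subgroup.closure_le]
    intro s hs
    rw [SetLike.mem_coe, Subgroup.mem_centralizer_iff]
    intro b hb
    have h2 : Subgroup.closure T ≤ Subgroup.centralizer ({s} : Set H) := by
      rw [Subgroup.closure_le]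
      intro t ht
      rw [SetLike.mem_coe, Subgroup.mem_centralizer_iff]
      intro x hx
      rw [Set.mem_singleton_iff.mp hx]
      exact h s hs t ht
    have := Subgroup.mem_centralizer_iff.mp (h2 hb) s rfl
    exact this.symm
  intro a ha b hb
  exact (Subgroup.mem_centralizer_iff.mp (h1 ha) b hb).symm

/-- The full orthogonal group of the plus-type form x₁y₁ + x₂y₂ in dimension 4 over the field of two elements has order 72 and is isomorphic to the wreath product of the symmetric group of degree 3 by a group of order 2: it has a normal subgroup isomorphic to the direct product of two symmetric groups of degree 3, of index 2, whose two direct factors are interchanged by conjugation by some element. -/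
theorem result :
    Nat.card ↥(Cfsg.isometryGroup (ZMod 2) (Cfsg.quadFormPlus 2 (ZMod 2))) = 72 ∧
    ∃ (A B : Subgroup ↥(Cfsg.isometryGroup (ZMod 2) (Cfsg.quadFormPlus 2 (ZMod 2)))),
      Nonempty (↥A ≃* Equiv.Perm (Fin 3)) ∧ Nonempty (↥B ≃* Equiv.Perm (Fin 3)) ∧ A ⊓ B = ⊥ ∧ (∀ a ∈ A, ∀ b ∈ B, a * b = b * a) ∧
      (A ⊔ B).index = 2 ∧ ∃ g : ↥(Cfsg.isometryGroup (ZMod 2) (Cfsg.quadFormPlus 2 (ZMod 2))), A.map (MulAut.conj g).toMonoidHom = B := by
  have hcard : Nat.card G = 72 := by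
    have h := Cfsg.Agent.S0287.result (F := ZMod 2) (q := 2) (by simp) 2 (by norm_num)
    rw [h]
    norm_num [Finset.prod_range_succ]
  obtain ⟨A, hA⟩ : ∃ A : Subgroup G, A = Subgroup.closure {d1, e1} := ⟨_, rfl⟩
  obtain ⟨B, hB⟩ : ∃ B : Subgroup G, B = Subgroup.closure {d2, e2} := ⟨_, rfl⟩
  have isoA : Nonempty (↥A ≃* Equiv.Perm (Fin 3)) := by
    rw [hA]
    exact Cfsg.Agent.Helper9.closure_pair_equiv_perm3 d1 e1 (G_ext (by decide)) (G_ext (by decide))
      (G_ext (by decide)) (fun h => absurd (congrArg (fun x : G => ((x : GL I4 (ZMod 2)) :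
        Matrix I4 I4 (ZMod 2))) h) (by decide)) (fun h => absurd (congrArg (fun x : G =>
        ((x : GL I4 (ZMod 2)) : Matrix I4 I4 (ZMod 2))) h) (by decide))
  have isoB : Nonempty (↥B ≃* Equiv.Perm (Fin 3)) := by
    rw [hB]
    exact Cfsg.Agent.Helper9.closure_pair_equiv_perm3 d2 e2 (G_ext (by decide)) (G_ext (by decide))
      (G_ext (by decide)) (fun h => absurd (congrArg (fun x : G => ((x : GL I4 (ZMod 2)) :
        Matrix I4 I4 (ZMod 2))) h) (by decide)) (fun h => absurd (congrArg (fun x : G =>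
        ((x : GL I4 (ZMod 2)) : Matrix I4 I4 (ZMod 2))) h) (by decide))
  have hcomm : ∀ a ∈ A, ∀ b ∈ B, a * b = b * a := by
    rw [hA, hB]
    apply commute_closure
    intro s hs t ht
    rcases hs with rfl | rfl <;> rcases ht with rfl | rfl <;> exact G_ext (by decide)
  have hdisj : A ⊓ B = ⊥ := by
    obtain ⟨φ⟩ := isoA
    rw [eq_bot_iff]
    intro x hx
    obtain ⟨hxA, hxB⟩ := Subgroup.mem_inf.mp hx
    rw [Subgroup.mem_bot]
    have hc : (⟨x, hxA⟩ : A) ∈ Subgroup.center A := by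
      rw [Subgroup.mem_center_iff]
      intro a
      apply Subtype.ext
      exact hcomm a.1 a.2 x hxB
    have hc' : φ ⟨x, hxA⟩ ∈ Subgroup.center (Equiv.Perm (Fin 3)) := by
      rw [Subgroup.mem_center_iff]
      intro σ
      have := Subgroup.mem_center_iff.mp hc (φ.symm σ)
      have h2 := congrArg φ this
      rw [map_mul, map_mul, MulEquiv.apply_symm_apply] at h2
      exact h2
    have hS3 : ∀ σ : Equiv.Perm (Fin 3), (∀ τ : Equiv.Perm (Fin 3), τ * σ = σ * τ) → σ = 1 := by
      decide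
    replace hc' := hS3 _ (Subgroup.mem_center_iff.mp hc')
    have h3 : (⟨x, hxA⟩ : A) = 1 := by
      apply φ.injective
      rw [hc', map_one]
    exact congrArg Subtype.val h3
  have hcardA : Nat.card A = 6 := by
    obtain ⟨φ⟩ := isoA
    rw [Nat.card_congr φ.toEquiv, Nat.card_eq_fintype_card, Fintype.card_perm]
    rfl
  have hcardB : Nat.card B = 6 := by
    obtain ⟨φ⟩ := isoB
    rw [Nat.card_congr φ.toEquiv, Nat.card_eq_fintype_card, Fintype.card_perm]
    rfl
  have hsup : Nat.card ↥(A ⊔ B) = 36 := by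
    have comm' : ∀ (a : A) (b : B), Commute (A.subtype a) (B.subtype b) :=
      fun a b => hcomm a.1 a.2 b.1 b.2
    have hinj : Function.Injective (MonoidHom.noncommCoprod A.subtype B.subtype comm') := by
      rw [MonoidHom.noncommCoprod_injective]
      refine ⟨A.subtype_injective, B.subtype_injective, ?_⟩
      rw [Subgroup.range_subtype, Subgroup.range_subtype, disjoint_iff, hdisj]
    have hrange : (MonoidHom.noncommCoprod A.subtype B.subtype comm').range = A ⊔ B := by
      rw [MonoidHom.noncommCoprod_range, Subgroup.range_subtype, Subgroup.range_subtype]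
    rw [← hrange, ← Nat.card_congr (MonoidHom.ofInjective hinj).toEquiv, Nat.card_prod, hcardA,
      hcardB]
  refine ⟨hcard, A, B, isoA, isoB, hdisj, hcomm, ?_, g0, ?_⟩
  · have h := Subgroup.card_mul_index (A ⊔ B)
    rw [hsup, hcard] at h
    omega
  · rw [hA, hB, MonoidHom.map_closure, Set.image_pair]
    congr 1
    have h1 : (MulAut.conj g0).toMonoidHom d1 = d2 := G_ext (by decide)
    have h2 : (MulAut.conj g0).toMonoidHom e1 = e2 := G_ext (by decide)
    rw [h1, h2]

end Cfsg.Agent.S2566
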