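import Cfsg.Statements.S2567

set_option autoImplicit false
open Cfsg

namespace Cfsg.Agent.S2567

/-- Unique lifting of an element of prime order `r` modulo a centre of order coprime to `r`. -/
theorem unique_lift {G : Type*} [Group G] {r : ℕ} (hr : r.Prime)
    (hcop : (Nat.card (Subgroup.center G)).Coprime r) (x : G ⧸ Subgroup.center G)
    (hx : orderOf x = r) :
    ∃! g : G, (QuotientGroup.mk g : G ⧸ Subgroup.center G) = x ∧ orderOf g = r := by
  have hbij : Function.Bijective (· ^ r : Subgroup.center G → Subgroup.center G) :=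
    Nat.Coprime.pow_left_bijective hcop
  haveI : Fact r.Prime := ⟨hr⟩
  obtain ⟨g₀, rfl⟩ := QuotientGroup.mk_surjective x
  have hx1 : (QuotientGroup.mk g₀ : G ⧸ Subgroup.center G) ≠ 1 := by
    intro h
    rw [h, orderOf_one] at hx
    exact hr.one_lt.ne' hx.symm
  have hg₀r : g₀ ^ r ∈ Subgroup.center G := by
    have : (QuotientGroup.mk g₀ : G ⧸ Subgroup.center G) ^ r = 1 := by
      rw [← hx]; exact pow_orderOf_eq_one _
    rw [← QuotientGroup.mk_pow] at this
    exact (QuotientGroup.eq_one_iff _).mp this
  obtain ⟨z, hz⟩ := hbij.2 ⟨g₀ ^ r, hg₀r⟩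
  have hz' : (z : G) ^ r = g₀ ^ r := by
    have := congrArg (fun w : Subgroup.center G => (w : G)) hz
    simpa using this
  have hzc : ∀ h : G, h * (z : G) = (z : G) * h := fun h => (Subgroup.mem_center_iff.mp z.2 h)
  refine ⟨g₀ * (z : G)⁻¹, ⟨?_, ?_⟩, ?_⟩
  · rw [QuotientGroup.eq]
    simp only [mul_inv_rev, inv_inv, inv_mul_cancel_right]
    exact z.2
  · have hcomm : Commute g₀ ((z : G)⁻¹) := by
      have : Commute g₀ (z : G) := hzc g₀
      exact this.inv_right
    have hpow : (g₀ * (z : G)⁻¹) ^ r = 1 := by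
      rw [hcomm.mul_pow, inv_pow, hz', mul_inv_cancel]
    have hne : g₀ * (z : G)⁻¹ ≠ 1 := by
      intro h
      apply hx1
      have : g₀ = (z : G) := by
        have := mul_inv_eq_one.mp h
        exact this
      rw [this]
      exact (QuotientGroup.eq_one_iff _).mpr z.2
    exact orderOf_eq_prime hpow hne
  · rintro g' ⟨hg'1, hg'2⟩
    have hg0 : orderOf (g₀ * (z : G)⁻¹) = r := by
      have hcomm : Commute g₀ ((z : G)⁻¹) := by
        have : Commute g₀ (z : G) := hzc g₀
        exact this.inv_right
      have hpow : (g₀ * (z : G)⁻¹) ^ r = 1 := by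
        rw [hcomm.mul_pow, inv_pow, hz', mul_inv_cancel]
      have hne : g₀ * (z : G)⁻¹ ≠ 1 := by
        intro h
        apply hx1
        have : g₀ = (z : G) := mul_inv_eq_one.mp h
        rw [this]
        exact (QuotientGroup.eq_one_iff _).mpr z.2
      exact orderOf_eq_prime hpow hne
    -- g' = g * w with w central
    set g := g₀ * (z : G)⁻¹ with hg
    have hmk : (QuotientGroup.mk g : G ⧸ Subgroup.center G) = QuotientGroup.mk g' := by
      rw [hg'1, QuotientGroup.eq]
      simp only [hg, mul_inv_rev, inv_inv, inv_mul_cancel_right]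
      exact z.2
    have hw : g⁻¹ * g' ∈ Subgroup.center G := QuotientGroup.eq.mp hmk
    set w : Subgroup.center G := ⟨g⁻¹ * g', hw⟩ with hwdef
    have hwc : Commute g (w : G) := (Subgroup.mem_center_iff.mp w.2 g)
    have hg'eq : g' = g * (w : G) := by simp [hwdef]
    have hwr : (w : G) ^ r = 1 := by
      have h1 : g' ^ r = 1 := by rw [← hg'2]; exact pow_orderOf_eq_one _
      have h2 : g ^ r = 1 := by rw [← hg0]; exact pow_orderOf_eq_one _
      rw [hg'eq, hwc.mul_pow, h2, one_mul] at h1
      exact h1
    have hw1 : w = 1 := by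
      apply hbij.1
      simp only [one_pow]
      ext
      simpa using hwr
    rw [hg'eq, hw1]
    simp

/-- Lifting elements of prime order from PGL to GL: let F be a finite field with q elements, r a prime not dividing q − 1, and x an element of order r in GL_n(F) modulo its centre (the scalar matrices). Then x has exactly one preimage in GL_n(F) of order r. -/
theorem result {F : Type*} [Field F] [Fintype F] {q n r : ℕ} (hF : Fintype.card F = q) (hr : r.Prime) (hdiv : ¬ r ∣ q - 1) (x : GL (Fin n) F ⧸ Subgroup.center (GL (Fin n) F)) (hx : orderOf x = r) : ∃! g : GL (Fin n) F, (QuotientGroup.mk g : GL (Fin n) F ⧸ Subgroup.center (GL (Fin n) F)) = x ∧ orderOf g = r := by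
  classical
  apply unique_lift hr _ x hx
  have h1 : Nat.card (Subgroup.center (GL (Fin n) F)) ∣ q - 1 := by
    rw [Matrix.GeneralLinearGroup.center_eq_range_scalar]
    have := Subgroup.card_range_dvd (Matrix.GeneralLinearGroup.scalar (Fin n) (R := F))
    rwa [Nat.card_eq_fintype_card (α := Fˣ), Fintype.card_units, hF] at this
  have h2 : Nat.Coprime r (q - 1) := (Nat.Prime.coprime_iff_not_dvd hr).mpr hdiv
  exact (Nat.Coprime.coprime_dvd_right h1 h2).symm

end Cfsg.Agent.S2567
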