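import Cfsg.Statements.S2569
import Mathlib

set_option autoImplicit false
open Cfsg

namespace Cfsg.Agent.S2569

open Module
open scoped Matrix

section
variable {F : Type*} [Field F] [Fintype F]

/-- On an irreducible module for an endomorphism `T`, every nonzero scalar is the determinant
of an endomorphism commuting with `T`. -/
lemma exists_det_eq {W : Type*} [AddCommGroup W] [Module F W] [Module.Finite F W] [Nontrivial W]
    (T : Module.End F W) (hirr : ∀ U : Submodule F W, (∀ u ∈ U, T u ∈ U) → U = ⊥ ∨ U = ⊤)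
    (c : F) : ∃ a : Module.End F W, a * T = T * a ∧ LinearMap.det a = c := by
  classical
  set A : Subalgebra F (Module.End F W) := Algebra.adjoin F {T} with hA
  have hTA : T ∈ A := Algebra.subset_adjoin (Set.mem_singleton T)
  haveI : IsMulCommutative A := Algebra.isMulCommutative_adjoin F (s := {T}) (by
      intro a ha b hb
      rw [Set.mem_singleton_iff] at ha hb
      rw [ha, hb])
  have hcomm : ∀ a : A, (a : Module.End F W) * T = T * (a : Module.End F W) := by
    intro a
    have := mul_comm a ⟨T, hTA⟩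
    exact congrArg Subtype.val this
  have hker : ∀ a : A, a ≠ 0 → LinearMap.ker (a : Module.End F W) = ⊥ := by
    intro a ha
    rcases hirr (LinearMap.ker (a : Module.End F W)) (by
      intro u hu
      rw [LinearMap.mem_ker] at hu ⊢
      have h1 : (a : Module.End F W) (T u) = ((a : Module.End F W) * T) u := rfl
      rw [h1, hcomm a]
      change T ((a : Module.End F W) u) = 0
      rw [hu, map_zero]) with h | h
    · exact h
    · exfalso
      apply ha
      apply Subtype.ext
      apply LinearMap.ext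
      intro w
      have : w ∈ LinearMap.ker (a : Module.End F W) := by rw [h]; exact Submodule.mem_top
      exact this
  haveI hnz : NoZeroDivisors A := by
    constructor
    intro a b hab
    by_cases ha : a = 0
    · left; exact ha
    · right
      apply Subtype.ext
      apply LinearMap.ext
      intro w
      have h1 : (a : Module.End F W) ((b : Module.End F W) w) = 0 := by
        have := congrArg Subtype.val hab
        exact LinearMap.congr_fun this w
      have h2 : (b : Module.End F W) w ∈ LinearMap.ker (a : Module.End F W) := h1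
      rw [hker a ha] at h2
      exact (Submodule.mem_bot F).mp h2
  haveI : IsDomain A := NoZeroDivisors.to_isDomain A
  haveI : Finite (Module.End F W) := Module.finite_of_finite F
  haveI : Fintype A := Fintype.ofFinite A
  letI : Field A := Fintype.fieldOfDomain A
  obtain ⟨α, hα⟩ := FiniteField.norm_surjective F A c
  rw [Algebra.norm_apply] at hα
  -- evaluation at a nonzero vector
  obtain ⟨w₀, hw₀⟩ := exists_ne (0 : W)
  let ev : A →ₗ[F] W :=
    { toFun := fun a => (a : Module.End F W) w₀
      map_add' := fun a b => rfl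
      map_smul' := fun k a => rfl }
  have hevinj : Function.Injective ev := by
    rw [← LinearMap.ker_eq_bot, LinearMap.ker_eq_bot']
    intro a ha
    by_contra ha0
    have h2 : w₀ ∈ LinearMap.ker (a : Module.End F W) := ha
    rw [hker a ha0] at h2
    exact hw₀ ((Submodule.mem_bot F).mp h2)
  have hevsurj : Function.Surjective ev := by
    rw [← LinearMap.range_eq_top]
    rcases hirr (LinearMap.range ev) (by
      rintro u ⟨a, rfl⟩
      exact ⟨⟨T, hTA⟩ * a, rfl⟩) with h | h
    · exfalso
      apply hw₀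
      have : w₀ ∈ LinearMap.range ev := ⟨1, rfl⟩
      rw [h] at this
      exact (Submodule.mem_bot F).mp this
    · exact h
  let e : A ≃ₗ[F] W := LinearEquiv.ofBijective ev ⟨hevinj, hevsurj⟩
  refine ⟨(α : Module.End F W), hcomm α, ?_⟩
  rw [← hα, ← LinearMap.det_conj (Algebra.lmul F A α) e]
  congr 1
  apply LinearMap.ext
  intro w
  obtain ⟨a, rfl⟩ := e.surjective w
  simp only [LinearMap.coe_comp, LinearEquiv.coe_coe, Function.comp_apply, LinearEquiv.symm_apply_apply,
    Algebra.coe_lmul_eq_mul, LinearMap.mul_apply_apply]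
  rfl

variable {n : ℕ}

/-- the representation of `zpowers x` on `F^n` -/
noncomputable def rho (x : GL (Fin n) F) : Representation F (Subgroup.zpowers x) (Fin n → F) where
  toFun g := Matrix.toLin' ((g.1 : GL (Fin n) F) : Matrix (Fin n) (Fin n) F)
  map_one' := by simp; rfl
  map_mul' := by
    intro a b
    simp [Matrix.toLin'_mul]
    rfl

lemma rho_apply (x : GL (Fin n) F) (g : Subgroup.zpowers x) (v : Fin n → F) :
    rho x g v = ((g.1 : GL (Fin n) F) : Matrix (Fin n) (Fin n) F) *ᵥ v := rfl

lemma pow_mem_of_inv (X : Matrix (Fin n) (Fin n) F) (W : Submodule F (Fin n → F))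
    (hW : ∀ w ∈ W, X *ᵥ w ∈ W) (k : ℕ) : ∀ w ∈ W, (X ^ k) *ᵥ w ∈ W := by
  induction k with
  | zero => intro w hw; simpa using hw
  | succ k ih =>
    intro w hw
    rw [pow_succ', ← Matrix.mulVec_mulVec]
    exact hW _ (ih w hw)

lemma exists_compl {p : ℕ} [Fact p.Prime] [CharP F p] (x : GL (Fin n) F)
    (hx : (orderOf x).Coprime p) (W : Submodule F (Fin n → F))
    (hW : ∀ w ∈ W, (x : Matrix (Fin n) (Fin n) F) *ᵥ w ∈ W) :
    ∃ W' : Submodule F (Fin n → F),
      (∀ w ∈ W', (x : Matrix (Fin n) (Fin n) F) *ᵥ w ∈ W') ∧ IsCompl W W' := by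
  classical
  haveI : NeZero ((Nat.card (Subgroup.zpowers x) : ℕ) : F) := by
    constructor
    rw [Nat.card_zpowers]
    intro h
    rw [CharP.cast_eq_zero_iff F p] at h
    have h1 : p ∣ Nat.gcd (orderOf x) p := Nat.dvd_gcd h (dvd_refl p)
    rw [hx] at h1
    exact (Fact.out : p.Prime).one_lt.ne' (Nat.dvd_one.mp h1)
  let Ws : Subrepresentation (rho x) :=
    { toSubmodule := W
      apply_mem_toSubmodule := by
        intro g v hv
        obtain ⟨g, hg⟩ := g
        rw [rho_apply]
        have hfin : IsOfFinOrder x := isOfFinOrder_of_finite x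
        rw [← hfin.mem_powers_iff_mem_zpowers, Submonoid.mem_powers_iff] at hg
        obtain ⟨k, rfl⟩ := hg
        have := pow_mem_of_inv (x : Matrix (Fin n) (Fin n) F) W hW k v hv
        simpa using this }
  obtain ⟨Ws', hc⟩ := exists_isCompl Ws
  refine ⟨Ws'.toSubmodule, ?_, ?_⟩
  · intro w hw
    have := Ws'.apply_mem_toSubmodule ⟨x, Subgroup.mem_zpowers x⟩ hw
    exact this
  · constructor
    · rw [disjoint_iff]
      have := hc.inf_eq_bot
      have h2 := congrArg Subrepresentation.toSubmodule this
      exact h2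
    · rw [codisjoint_iff]
      have := hc.sup_eq_top
      have h2 := congrArg Subrepresentation.toSubmodule this
      exact h2

lemma exists_comm_det {p : ℕ} [Fact p.Prime] [CharP F p] (hn : 1 ≤ n) (x : GL (Fin n) F)
    (hx : (orderOf x).Coprime p) (c : F) (hc : c ≠ 0) :
    ∃ h : GL (Fin n) F, h * x = x * h ∧ (h : Matrix (Fin n) (Fin n) F).det = c := by
  classical
  haveI : Nonempty (Fin n) := ⟨⟨0, hn⟩⟩
  set X : Matrix (Fin n) (Fin n) F := (x : Matrix (Fin n) (Fin n) F) with hXdef
  set T : Module.End F (Fin n → F) := Matrix.toLin' X with hT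
  have hTapp : ∀ v, T v = X *ᵥ v := fun v => rfl
  let S : Set (Submodule F (Fin n → F)) := {W | (∀ w ∈ W, X *ᵥ w ∈ W) ∧ W ≠ ⊥}
  have hSne : S.Nonempty := by
    refine ⟨⊤, fun w _ => Submodule.mem_top, ?_⟩
    exact top_ne_bot
  obtain ⟨W, ⟨hWinv, hWne⟩, hmin⟩ :=
    WellFounded.has_min (measure (fun W : Submodule F (Fin n → F) => finrank F W)).wf S hSne
  obtain ⟨W', hW'inv, hcompl⟩ := exists_compl x hx W hWinv
  let TW : Module.End F W := T.restrict (fun w hw => hWinv w hw)
  let TW' : Module.End F W' := T.restrict (fun w hw => hW'inv w hw)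
  haveI : Nontrivial W := (Submodule.nontrivial_iff_ne_bot).mpr hWne
  have hirr : ∀ U : Submodule F W, (∀ u ∈ U, TW u ∈ U) → U = ⊥ ∨ U = ⊤ := by
    intro U hU
    by_cases hb : U.map W.subtype = ⊥
    · left
      rw [eq_bot_iff]
      intro u hu
      have : (u : Fin n → F) ∈ U.map W.subtype := ⟨u, hu, rfl⟩
      rw [hb] at this
      have h0 : (u : Fin n → F) = 0 := (Submodule.mem_bot F).mp this
      exact (Submodule.mem_bot F).mpr (Subtype.ext h0)
    · right
      have hle : U.map W.subtype ≤ W := by
        rintro _ ⟨u, _, rfl⟩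
        exact u.2
      have hinS : U.map W.subtype ∈ S := by
        refine ⟨?_, hb⟩
        rintro _ ⟨u, hu, rfl⟩
        exact ⟨TW u, hU u hu, rfl⟩
      have hnot := hmin _ hinS
      have hge : finrank F W ≤ finrank F ↥(U.map W.subtype) := by
        by_contra hlt
        push Not at hlt
        exact hnot hlt
      have heq : U.map W.subtype = W := Submodule.eq_of_le_of_finrank_le hle hge
      rw [eq_top_iff]
      intro w _
      have : (w : Fin n → F) ∈ U.map W.subtype := by rw [heq]; exact w.2
      obtain ⟨u, hu, huw⟩ := this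
      have : u = w := Subtype.ext huw
      rw [← this]
      exact hu
  obtain ⟨a, hacomm, hadet⟩ := exists_det_eq TW hirr c
  let e : (W × W') ≃ₗ[F] (Fin n → F) := Submodule.prodEquivOfIsCompl W W' hcompl
  have he : ∀ (w : W) (w' : W'), e (w, w') = (w : Fin n → F) + (w' : Fin n → F) := fun w w' => rfl
  let Sm : Module.End F (Fin n → F) := (e : (W × W') →ₗ[F] (Fin n → F)) ∘ₗ (a.prodMap LinearMap.id) ∘ₗ
    (e.symm : (Fin n → F) →ₗ[F] (W × W'))
  have hSmdet : LinearMap.det Sm = c := by
    rw [LinearMap.det_conj, LinearMap.det_prodMap, hadet, LinearMap.det_id, mul_one]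
  have hSme : ∀ (w : W) (w' : W'), Sm (e (w, w')) = e (a w, w') := by
    intro w w'
    simp [Sm]
  have hTe : ∀ (w : W) (w' : W'), T (e (w, w')) = e (TW w, TW' w') := by
    intro w w'
    rw [he, he, map_add]
    rfl
  have hcommpt : ∀ v, Sm (T v) = T (Sm v) := by
    intro v
    obtain ⟨⟨w, w'⟩, rfl⟩ := e.surjective v
    rw [hTe, hSme, hSme, hTe]
    have : a (TW w) = TW (a w) := LinearMap.congr_fun hacomm w
    rw [this]
  let M : Matrix (Fin n) (Fin n) F := LinearMap.toMatrix' Sm
  have hMlin : Matrix.toLin' M = Sm := Matrix.toLin'_toMatrix' Sm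
  have hMdet : M.det = c := by
    rw [← LinearMap.det_toLin', hMlin, hSmdet]
  have hMcomm : M * X = X * M := by
    apply Matrix.toLin'.injective
    rw [Matrix.toLin'_mul, Matrix.toLin'_mul, hMlin]
    apply LinearMap.ext
    intro v
    exact hcommpt v
  refine ⟨Matrix.GeneralLinearGroup.mkOfDetNeZero M (by rw [hMdet]; exact hc), ?_, ?_⟩
  · apply Units.ext
    exact hMcomm
  · exact hMdet

end

theorem result {F : Type*} [Field F] [Fintype F] {p : ℕ} [Fact p.Prime] [CharP F p] {n : ℕ} (x g : GL (Fin n) F) (hx : (orderOf x).Coprime p) : ∃ h : GL (Fin n) F, (h : Matrix (Fin n) (Fin n) F).det = 1 ∧ h * x * h⁻¹ = g * x * g⁻¹ := by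
  classical
  by_cases hn : n = 0
  · subst hn
    exact ⟨g, Matrix.det_isEmpty, rfl⟩
  · have hn1 : 1 ≤ n := Nat.one_le_iff_ne_zero.mpr hn
    have hdg : (g : Matrix (Fin n) (Fin n) F).det ≠ 0 := by
      have hd := g.isUnit.map (Matrix.detMonoidHom (n := Fin n) (R := F))
      exact hd.ne_zero
    obtain ⟨h', hcomm, hdet⟩ := exists_comm_det hn1 x hx _ hdg
    refine ⟨g * h'⁻¹, ?_, ?_⟩
    · have h1 : ((h'⁻¹ : GL (Fin n) F) : Matrix (Fin n) (Fin n) F).det *
          (h' : Matrix (Fin n) (Fin n) F).det = 1 := by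
        rw [← Matrix.det_mul, ← Units.val_mul, inv_mul_cancel, Units.val_one, Matrix.det_one]
      rw [Units.val_mul, Matrix.det_mul, ← hdet, mul_comm, h1]
    · have h2 : h'⁻¹ * x * h' = x := by
        rw [mul_assoc, ← hcomm, inv_mul_cancel_left]
      calc g * h'⁻¹ * x * (g * h'⁻¹)⁻¹ = g * (h'⁻¹ * x * h') * g⁻¹ := by group
        _ = g * x * g⁻¹ := by rw [h2]

end Cfsg.Agent.S2569
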