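import Cfsg.Statements.S2573
import Cfsg.Agent.Helper8.Nilp

set_option autoImplicit false
open Cfsg

namespace Cfsg.Agent.S2573
open Cfsg.Agent.Helper8 Module

theorem mulVecLin_pow {F : Type*} [Field F] {n : ℕ} (N : Matrix (Fin n) (Fin n) F) (k : ℕ) :
    (N ^ k).mulVecLin = (N.mulVecLin : Module.End F (Fin n → F)) ^ k := by
  induction k with
  | zero => rw [pow_zero, pow_zero, Matrix.mulVecLin_one]; rfl
  | succ k ih => rw [pow_succ, pow_succ, Matrix.mulVecLin_mul, ih]; rfl

/-- The invariant subspaces of a regular unipotent matrix form a chain: over a finite field, if u is an n × n matrix with (u − 1)^n = 0 and rank(u − 1) = n − 1, then every subspace W of F^n with u W ⊆ W is the kernel of (u − 1)^(dim W); so u has at most one invariant subspace of each dimension. -/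
theorem result {F : Type*} [Field F] [Finite F] {n : ℕ} (u : Matrix (Fin n) (Fin n) F) (hnil : (u - 1) ^ n = 0) (hreg : (u - 1).rank = n - 1) (W : Submodule F (Fin n → F)) (hW : ∀ v ∈ W, u.mulVec v ∈ W) : W = LinearMap.ker (Matrix.mulVecLin ((u - 1) ^ Module.finrank F W)) := by
  set N := u - 1 with hN
  set f : Module.End F (Fin n → F) := N.mulVecLin with hf
  have hfn : f ^ n = 0 := by
    rw [hf, ← mulVecLin_pow, hnil]
    ext v
    simp
  have hWf : ∀ v ∈ W, f v ∈ W := by
    intro v hv
    have : f v = u.mulVec v - v := by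
      rw [hf, Matrix.mulVecLin_apply, hN, Matrix.sub_mulVec, Matrix.one_mulVec]
    rw [this]
    exact W.sub_mem (hW v hv) hv
  rw [mulVecLin_pow]
  apply Submodule.eq_of_le_of_finrank_le
  · intro w hw
    rw [LinearMap.mem_ker]
    exact pow_finrank_apply_eq_zero f n hfn W hWf w hw
  · have hker : finrank F (LinearMap.ker f) ≤ 1 := by
      have h1 := LinearMap.finrank_range_add_finrank_ker f
      have h2 : finrank F (LinearMap.range f) = n - 1 := hreg
      rw [h2, Module.finrank_pi, Fintype.card_fin] at h1
      omega
    calc finrank F (LinearMap.ker (f ^ finrank F W))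
        ≤ finrank F W * finrank F (LinearMap.ker f) := finrank_ker_pow_le f _
      _ ≤ finrank F W * 1 := Nat.mul_le_mul_left _ hker
      _ = finrank F W := mul_one _

end Cfsg.Agent.S2573
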