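import Cfsg.Statements.S2571
import Cfsg.Agent.Helper8.Nilp
import Cfsg.Agent.S2573

set_option autoImplicit false
open Cfsg

namespace Cfsg.Agent.S2571
open Cfsg.Agent.Helper8 Module

section general
variable {K V : Type*} [Field K] [AddCommGroup V] [Module K V]

/-- the iterates of a vector not killed by `f^m`, where `f^(m+1) = 0`, are independent -/
theorem cyc_li (f : Module.End K V) (m : ℕ) (hf : f ^ (m + 1) = 0) (w : V) (hw : (f ^ m) w ≠ 0) :
    LinearIndependent K (fun i : Fin (m + 1) => (f ^ (i : ℕ)) w) := by
  rw [Fintype.linearIndependent_iff]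
  intro g hg
  have key : ∀ k : ℕ, ∀ i : Fin (m + 1), (i : ℕ) < k → g i = 0 := by
    intro k
    induction k with
    | zero => intro i hi; omega
    | succ k ih =>
      intro i hi
      rcases Nat.lt_succ_iff_lt_or_eq.mp hi with h | h
      · exact ih i h
      · have h1 := congrArg (fun x => (f ^ (m - k)) x) hg
        simp only [map_sum, map_smul, map_zero] at h1
        rw [Finset.sum_eq_single i] at h1
        · have h2 : (f ^ (m - k)) ((f ^ (i : ℕ)) w) = (f ^ m) w := by
            rw [← Module.End.mul_apply, ← pow_add]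
            congr 2
            have := i.2
            omega
          rw [h2] at h1
          exact (smul_eq_zero.mp h1).resolve_right hw
        · intro j _ hji
          rcases lt_or_gt_of_ne (Fin.val_ne_of_ne hji) with hlt | hgt
          · rw [ih j (by omega), zero_smul]
          · have h2 : (f ^ (m - k)) ((f ^ (j : ℕ)) w) = 0 := by
              rw [← Module.End.mul_apply, ← pow_add]
              have h3 : m - k + (j : ℕ) = (m + 1) + ((j : ℕ) - k - 1) := by
                have := i.2
                omega
              rw [h3, pow_add, hf, zero_mul]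
              rfl
            rw [h2, smul_zero]
        · intro h; exact absurd (Finset.mem_univ _) h
  intro i
  exact key (i + 1) i (Nat.lt_succ_self _)

/-- the cyclic basis -/
noncomputable def cycBasis (f : Module.End K V) (m : ℕ) (hdim : finrank K V = m + 1)
    (hf : f ^ (m + 1) = 0) (w : V) (hw : (f ^ m) w ≠ 0) : Basis (Fin (m + 1)) K V :=
  basisOfLinearIndependentOfCardEqFinrank (cyc_li f m hf w hw) (by simp [hdim])

theorem cycBasis_apply (f : Module.End K V) (m : ℕ) (hdim : finrank K V = m + 1)
    (hf : f ^ (m + 1) = 0) (w : V) (hw : (f ^ m) w ≠ 0) (i : Fin (m + 1)) :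
    cycBasis f m hdim hf w hw i = (f ^ (i : ℕ)) w := by
  simp [cycBasis]

theorem comm_pow {f X : Module.End K V} (h : X * f = f * X) (k : ℕ) : X * f ^ k = f ^ k * X :=
  (Commute.pow_right (show Commute X f from h) k).eq

theorem apply_pow {f X : Module.End K V} (h : X * f = f * X) (k : ℕ) (v : V) :
    X ((f ^ k) v) = (f ^ k) (X v) := by
  have := congrArg (fun φ : Module.End K V => φ v) (comm_pow h k)
  simpa using this

/-- the main bijection: the centralizer of `f` in `GL(V)` corresponds to the cyclic vectors -/
theorem bij (f : Module.End K V) (m : ℕ) (hdim : finrank K V = m + 1)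
    (hf : f ^ (m + 1) = 0) (v : V) (hv : (f ^ m) v ≠ 0) :
    Nonempty ({X : (Module.End K V)ˣ // (X : Module.End K V) * f = f * (X : Module.End K V)} ≃
      {w : V // (f ^ m) w ≠ 0}) := by
  have hunit : ∀ (X : (Module.End K V)ˣ) (y : V), (X : Module.End K V) y = 0 → y = 0 := by
    intro X y hy
    have := congrArg (fun φ : Module.End K V => φ y) (Units.inv_mul X)
    simp only [Module.End.mul_apply, Module.End.one_apply] at this
    rw [← this]
    have h0 : ((X⁻¹ : (Module.End K V)ˣ) : Module.End K V) ((X : Module.End K V) y) = 0 := by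
      rw [hy, map_zero]
    exact h0
  let Φ : {X : (Module.End K V)ˣ // (X : Module.End K V) * f = f * (X : Module.End K V)} →
      {w : V // (f ^ m) w ≠ 0} := fun X => ⟨(X.1 : Module.End K V) v, by
    intro h0
    rw [← apply_pow X.2] at h0
    exact hv (hunit X.1 _ h0)⟩
  refine ⟨Equiv.ofBijective Φ ⟨?_, ?_⟩⟩
  · intro X Y hXY
    have h1 : (X.1 : Module.End K V) v = (Y.1 : Module.End K V) v := congrArg Subtype.val hXY
    apply Subtype.ext
    apply Units.ext
    apply (cycBasis f m hdim hf v hv).ext
    intro i
    rw [cycBasis_apply, apply_pow X.2, apply_pow Y.2, h1]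
  · rintro ⟨w, hw⟩
    let bv := cycBasis f m hdim hf v hv
    let bw := cycBasis f m hdim hf w hw
    let e : V ≃ₗ[K] V := bv.equiv bw (Equiv.refl _)
    have he : ∀ i, e (bv i) = bw i := fun i => by simp [e]
    have hcomm : (e : Module.End K V) * f = f * (e : Module.End K V) := by
      apply bv.ext
      intro i
      simp only [Module.End.mul_apply, LinearEquiv.coe_coe]
      rw [he]
      simp only [bv, bw, cycBasis_apply]
      by_cases hi : (i : ℕ) + 1 < m + 1
      · have h1 : f ((f ^ (i : ℕ)) v) = bv ⟨(i : ℕ) + 1, hi⟩ := by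
          simp only [bv, cycBasis_apply]
          rw [pow_succ', Module.End.mul_apply]
        rw [h1, he]
        simp only [bw, cycBasis_apply]
        rw [pow_succ', Module.End.mul_apply]
      · have hi' : (i : ℕ) = m := by have := i.2; omega
        have h1 : ∀ y : V, f ((f ^ (i : ℕ)) y) = 0 := by
          intro y
          rw [hi', ← Module.End.mul_apply, ← pow_succ', hf]
          rfl
        rw [h1, h1, map_zero]
    refine ⟨⟨LinearMap.GeneralLinearGroup.ofLinearEquiv e, hcomm⟩, ?_⟩
    apply Subtype.ext
    show e v = w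
    have h0 : bv 0 = v := by simp [bv, cycBasis_apply]
    have h0' : bw 0 = w := by simp [bw, cycBasis_apply]
    rw [← h0, he, h0']

end general

theorem gl_comm_iff {F : Type*} [Field F] {n : ℕ} (h g : GL (Fin n) F) :
    h * g = g * h ↔
      ((h : Matrix (Fin n) (Fin n) F) * (g : Matrix (Fin n) (Fin n) F) =
        (g : Matrix (Fin n) (Fin n) F) * (h : Matrix (Fin n) (Fin n) F)) := by
  constructor
  · intro e
    have := congrArg (fun x : GL (Fin n) F => (x : Matrix (Fin n) (Fin n) F)) e
    simpa using this
  · intro e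
    apply Units.ext
    simpa using e

/-- Centraliser of a regular unipotent element in GL_n(q): if u is an invertible n × n matrix over the field with q elements, n ≥ 1, with (u − 1)^n = 0 and rank(u − 1) = n − 1 (a single unipotent Jordan block), then its centraliser in GL_n(q) has order (q − 1) q^(n−1). -/
theorem result {F : Type*} [Field F] [Fintype F] {q n : ℕ} (hF : Fintype.card F = q) (hn : 1 ≤ n) (u : GL (Fin n) F) (hnil : ((u : Matrix (Fin n) (Fin n) F) - 1) ^ n = 0) (hreg : ((u : Matrix (Fin n) (Fin n) F) - 1).rank = n - 1) : Nat.card ↥(Subgroup.centralizer ({u} : Set (GL (Fin n) F))) = (q - 1) * q ^ (n - 1) := by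
  classical
  obtain ⟨m, rfl⟩ : ∃ m, n = m + 1 := ⟨n - 1, by omega⟩
  rw [Nat.add_sub_cancel] at hreg ⊢
  set N := (u : Matrix (Fin (m + 1)) (Fin (m + 1)) F) - 1 with hN
  set f : Module.End F (Fin (m + 1) → F) := N.mulVecLin with hf
  have hfn : f ^ (m + 1) = 0 := by
    rw [hf, ← S2573.mulVecLin_pow, hnil]
    ext v
    simp
  have hdim : finrank F (Fin (m + 1) → F) = m + 1 := by simp
  have hrk := LinearMap.finrank_range_add_finrank_ker f
  have hker : finrank F (LinearMap.ker f) ≤ 1 := by
    have h2 : finrank F (LinearMap.range f) = m := hreg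
    rw [h2, hdim] at hrk
    omega
  have hkerm : finrank F (LinearMap.ker (f ^ m)) = m := by
    apply le_antisymm
    · calc finrank F (LinearMap.ker (f ^ m)) ≤ m * finrank F (LinearMap.ker f) :=
            finrank_ker_pow_le f m
        _ ≤ m * 1 := Nat.mul_le_mul_left _ hker
        _ = m := mul_one _
    · have h1 := LinearMap.finrank_range_add_finrank_ker (f ^ m)
      have h2 : LinearMap.range (f ^ m) ≤ LinearMap.ker f := by
        rintro _ ⟨x, rfl⟩
        rw [LinearMap.mem_ker, ← Module.End.mul_apply, ← pow_succ', hfn]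
        rfl
      have h3 := Submodule.finrank_mono h2
      rw [hdim] at h1
      omega
  have hex : ∃ v, (f ^ m) v ≠ 0 := by
    by_contra hcon
    push Not at hcon
    have htop : LinearMap.ker (f ^ m) = ⊤ := by
      ext x
      simp [hcon]
    rw [htop, finrank_top, hdim] at hkerm
    omega
  obtain ⟨v, hv⟩ := hex
  obtain ⟨e⟩ := bij f m hdim hfn v hv
  have e2 : ↥(Subgroup.centralizer ({u} : Set (GL (Fin (m + 1)) F))) ≃
      {X : (Module.End F (Fin (m + 1) → F))ˣ //
        (X : Module.End F (Fin (m + 1) → F)) * f = f * (X : Module.End F (Fin (m + 1) → F))} := by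
    refine Equiv.subtypeEquiv Matrix.GeneralLinearGroup.toLin.toEquiv (fun g => ?_)
    rw [Subgroup.mem_centralizer_singleton_iff, gl_comm_iff]
    show _ ↔ (g : Matrix (Fin (m + 1)) (Fin (m + 1)) F).mulVecLin * N.mulVecLin =
      N.mulVecLin * (g : Matrix (Fin (m + 1)) (Fin (m + 1)) F).mulVecLin
    rw [Module.End.mul_eq_comp, Module.End.mul_eq_comp, ← Matrix.mulVecLin_mul,
      ← Matrix.mulVecLin_mul]
    constructor
    · intro h
      rw [hN, mul_sub, sub_mul, h, mul_one, one_mul]
    · intro h
      have h' := Matrix.toLin'.injective h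
      rw [hN, mul_sub, sub_mul, mul_one, one_mul] at h'
      exact sub_left_injective h'
  rw [Nat.card_congr (e2.trans e), Nat.card_eq_fintype_card]
  have h1 : Fintype.card {w : Fin (m + 1) → F // ¬ ((f ^ m) w = 0)} =
      Fintype.card (Fin (m + 1) → F) - Fintype.card {w : Fin (m + 1) → F // (f ^ m) w = 0} :=
    Fintype.card_subtype_compl _
  have h2 : Fintype.card {w : Fin (m + 1) → F // (f ^ m) w = 0} = q ^ m := by
    have h3 := Module.card_eq_pow_finrank (K := F) (V := LinearMap.ker (f ^ m))
    rw [hkerm, hF] at h3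
    rw [← h3]
    exact Fintype.card_congr (Equiv.subtypeEquivRight (fun w => LinearMap.mem_ker.symm))
  have h4 : Fintype.card (Fin (m + 1) → F) = q ^ (m + 1) := by
    rw [Fintype.card_fun, Fintype.card_fin, hF]
  show Fintype.card {w : Fin (m + 1) → F // ¬ ((f ^ m) w = 0)} = _
  rw [h1, h2, h4, pow_succ, Nat.sub_mul, one_mul, mul_comm]

end Cfsg.Agent.S2571
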