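import Cfsg.Statements.S2572
import Cfsg.Agent.S2162
import Cfsg.Agent.S2571

set_option autoImplicit false
open Cfsg

namespace Cfsg.Agent.S2572

open Module

section block

variable {F : Type*} [Field F] {κ : Type} [Fintype κ] [DecidableEq κ]

theorem mul_single_apply' {l m n : Type*} [Fintype m] [DecidableEq m] [DecidableEq n]
    (M : Matrix l m F) (i : m) (j : n) (c : F) (a : l) (b : n) :
    (M * Matrix.single i j c) a b = if b = j then M a i * c else 0 := by
  by_cases h : b = j
  · subst h
    rw [if_pos rfl, Matrix.mul_single_apply_same]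
  · rw [if_neg h, Matrix.mul_single_apply_of_ne _ _ _ _ _ h]

theorem single_mul_apply' {l m n : Type*} [Fintype m] [DecidableEq m] [DecidableEq l]
    (M : Matrix m n F) (i : l) (j : m) (c : F) (a : l) (b : n) :
    (Matrix.single i j c * M) a b = if a = i then c * M j b else 0 := by
  by_cases h : a = i
  · subst h
    rw [if_pos rfl, Matrix.single_mul_apply_same]
  · rw [if_neg h, Matrix.single_mul_apply_of_ne _ _ _ _ _ h]

/-- The index type adapted to a transvection. -/
abbrev Idx (κ : Type) := (Fin 1 ⊕ κ) ⊕ Fin 1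

/-- The standard elementary matrix. -/
def E0 (F : Type*) [Field F] (κ : Type) [Fintype κ] [DecidableEq κ] : Matrix (Idx κ) (Idx κ) F :=
  Matrix.single (Sum.inl (Sum.inl 0)) (Sum.inr 0) 1

/-- The block matrix built from the data. -/
def mkM (l : F) (r : κ → F) (A : Matrix κ κ F) (col : Fin 1 ⊕ κ → F) : Matrix (Idx κ) (Idx κ) F :=
  Matrix.fromBlocks (Matrix.fromBlocks (l • (1 : Matrix (Fin 1) (Fin 1) F)) (Matrix.of fun _ k => r k) 0 A)
    (Matrix.of fun i _ => col i) 0 (l • (1 : Matrix (Fin 1) (Fin 1) F))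

theorem det_mkM (l : F) (r : κ → F) (A : Matrix κ κ F) (col : Fin 1 ⊕ κ → F) :
    (mkM l r A col).det = l * A.det * l := by
  unfold mkM
  rw [Matrix.det_fromBlocks_zero₂₁, Matrix.det_fromBlocks_zero₂₁]
  simp

theorem mkM_comm (l : F) (r : κ → F) (A : Matrix κ κ F) (col : Fin 1 ⊕ κ → F) :
    mkM l r A col * E0 F κ = E0 F κ * mkM l r A col := by
  ext i j
  rw [E0, mul_single_apply', single_mul_apply']
  rcases i with (i | i) | i <;> rcases j with (j | j) | j <;>
    simp [mkM, Fin.fin_one_eq_zero]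

theorem eq_mkM (g : Matrix (Idx κ) (Idx κ) F) (hg : g * E0 F κ = E0 F κ * g) :
    g = mkM (g (Sum.inl (Sum.inl 0)) (Sum.inl (Sum.inl 0))) (fun k => g (Sum.inl (Sum.inl 0)) (Sum.inl (Sum.inr k)))
      (Matrix.of fun k l => g (Sum.inl (Sum.inr k)) (Sum.inl (Sum.inr l)))
      (fun i => g (Sum.inl i) (Sum.inr 0)) := by
  have key : ∀ i j, (g * E0 F κ) i j = (E0 F κ * g) i j := fun i j => by rw [hg]
  simp only [E0, mul_single_apply', single_mul_apply'] at key
  ext i j
  rcases i with (i | i) | i <;> rcases j with (j | j) | j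
  · have : i = 0 := Subsingleton.elim _ _
    have : j = 0 := Subsingleton.elim _ _
    subst_vars
    simp [mkM]
  · have : i = 0 := Subsingleton.elim _ _
    subst_vars
    simp [mkM]
  · have : j = 0 := Subsingleton.elim _ _
    subst_vars
    simp [mkM]
  · have : j = 0 := Subsingleton.elim _ _
    subst_vars
    have := key (Sum.inl (Sum.inr i)) (Sum.inr 0)
    simp at this
    simp [mkM, this]
  · simp [mkM]
  · have : j = 0 := Subsingleton.elim _ _
    subst_vars
    simp [mkM]
  · have : i = 0 := Subsingleton.elim _ _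
    have : j = 0 := Subsingleton.elim _ _
    subst_vars
    have := key (Sum.inl (Sum.inl 0)) (Sum.inl (Sum.inl 0))
    simp at this
    simp [mkM, this]
  · have : i = 0 := Subsingleton.elim _ _
    subst_vars
    have := key (Sum.inl (Sum.inl 0)) (Sum.inl (Sum.inr j))
    simp at this
    simp [mkM, this]
  · have : i = 0 := Subsingleton.elim _ _
    have : j = 0 := Subsingleton.elim _ _
    subst_vars
    have := key (Sum.inl (Sum.inl 0)) (Sum.inr 0)
    simp at this
    simp [mkM, this]

theorem parts_ne_zero (g : GL (Idx κ) F)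
    (hg : (g : Matrix (Idx κ) (Idx κ) F) * E0 F κ = E0 F κ * (g : Matrix (Idx κ) (Idx κ) F)) :
    (g : Matrix (Idx κ) (Idx κ) F) (Sum.inl (Sum.inl 0)) (Sum.inl (Sum.inl 0)) ≠ 0 ∧
    (Matrix.of fun k l => (g : Matrix (Idx κ) (Idx κ) F) (Sum.inl (Sum.inr k)) (Sum.inl (Sum.inr l))).det ≠ 0 := by
  have hd := Matrix.GeneralLinearGroup.det_ne_zero g
  rw [eq_mkM _ hg, det_mkM] at hd
  constructor
  · intro h
    apply hd
    rw [h]
    simp
  · intro h
    apply hd
    rw [h]
    simp

/-- Parametrisation of the commutant of the standard elementary matrix. -/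
noncomputable def commEquiv :
    {g : GL (Idx κ) F // (g : Matrix (Idx κ) (Idx κ) F) * E0 F κ = E0 F κ * (g : Matrix (Idx κ) (Idx κ) F)}
      ≃ Fˣ × (κ → F) × GL κ F × (Fin 1 ⊕ κ → F) where
  toFun g := (Units.mk0 _ (parts_ne_zero g.1 g.2).1,
    fun k => (g.1 : Matrix (Idx κ) (Idx κ) F) (Sum.inl (Sum.inl 0)) (Sum.inl (Sum.inr k)),
    Matrix.GeneralLinearGroup.mkOfDetNeZero _ (parts_ne_zero g.1 g.2).2,
    fun i => (g.1 : Matrix (Idx κ) (Idx κ) F) (Sum.inl i) (Sum.inr 0))
  invFun d := ⟨Matrix.GeneralLinearGroup.mkOfDetNeZero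
      (mkM (d.1 : F) d.2.1 (d.2.2.1 : Matrix κ κ F) d.2.2.2) (by
        rw [det_mkM]
        have h1 : (d.1 : F) ≠ 0 := d.1.ne_zero
        have h2 := Matrix.GeneralLinearGroup.det_ne_zero d.2.2.1
        exact mul_ne_zero (mul_ne_zero h1 h2) h1), by
      simp only [Matrix.GeneralLinearGroup.val_mkOfDetNeZero]
      exact mkM_comm _ _ _ _⟩
  left_inv g := by
    apply Subtype.ext
    apply Units.ext
    simp only [Matrix.GeneralLinearGroup.val_mkOfDetNeZero, Units.val_mk0]
    exact (eq_mkM _ g.2).symm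
  right_inv d := by
    obtain ⟨l, r, A, col⟩ := d
    refine Prod.ext ?_ (Prod.ext ?_ (Prod.ext ?_ ?_))
    · apply Units.ext
      simp [mkM]
    · funext k
      simp [mkM]
    · apply Units.ext
      ext k l
      simp [mkM]
    · funext i
      simp [mkM]

end block

/-- Centraliser of a transvection in GL_n(q), n ≥ 2: if t − 1 has rank one and square zero, the centraliser of t in GL_n(q) has order q^(2n−3) (q − 1) |GL_(n−2)(q)| (a group of order q^(2n−3) extended by GL_1(q) × GL_(n−2)(q)). -/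
theorem result {F : Type*} [Field F] [Fintype F] {q n : ℕ} (hF : Fintype.card F = q) (hn : 2 ≤ n) (t : GL (Fin n) F) (ht : Cfsg.IsTransvection (t : Matrix (Fin n) (Fin n) F)) : Nat.card ↥(Subgroup.centralizer ({t} : Set (GL (Fin n) F))) = q ^ (2 * n - 3) * (q - 1) * ∏ i : Fin (n - 2), (q ^ (n - 2) - q ^ (i : ℕ)) := by
  classical
  obtain ⟨hrank, hsq⟩ := ht
  set N := (t : Matrix (Fin n) (Fin n) F) - 1 with hN
  set f : Module.End F (Fin n → F) := N.mulVecLin with hf
  have hff : ∀ v, f (f v) = 0 := by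
    intro v
    rw [hf, Matrix.mulVecLin_apply, Matrix.mulVecLin_apply, Matrix.mulVec_mulVec, hsq, Matrix.zero_mulVec]
  have hrk : finrank F (LinearMap.range f) = 1 := hrank
  obtain ⟨C, D, P, hP, hD, hC⟩ := S2162.structure_sq_zero f hff
  have hC1 : finrank F C = 1 := hC.trans hrk
  have hDn : finrank F D = n - 2 := by
    have h1 := P.finrank_eq
    rw [Module.finrank_prod, Module.finrank_prod, hC1, Module.finrank_fin_fun] at h1
    omega
  let bC : Module.Basis (Fin 1) F C := Module.finBasisOfFinrankEq F C hC1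
  let bD : Module.Basis (Fin (n - 2)) F D := Module.finBasisOfFinrankEq F D hDn
  let b : Module.Basis (Idx (Fin (n - 2))) F (Fin n → F) := ((bC.prod bD).prod bC).map P
  have hb1 : b (Sum.inl (Sum.inl 0)) = f (bC 0 : Fin n → F) := by
    simp [b, hP]
  have hb2 : ∀ k, b (Sum.inl (Sum.inr k)) = (bD k : Fin n → F) := by
    intro k
    simp [b, hP]
  have hb3 : b (Sum.inr 0) = (bC 0 : Fin n → F) := by
    simp [b, hP]
  have hfM : LinearMap.toMatrixAlgEquiv b f = E0 F (Fin (n - 2)) := by
    ext i j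
    rw [LinearMap.toMatrixAlgEquiv_apply, E0, Matrix.single_apply]
    rcases j with (j | j) | j
    · have : j = 0 := Subsingleton.elim _ _
      subst this
      rw [hb1, hff]
      simp
    · rw [hb2, hD]
      simp
    · have : j = 0 := Subsingleton.elim _ _
      subst this
      rw [hb3, ← hb1, Module.Basis.repr_self, Finsupp.single_apply]
      simp [eq_comm]
  have e2 : ↥(Subgroup.centralizer ({t} : Set (GL (Fin n) F))) ≃
      {X : (Module.End F (Fin n → F))ˣ //
        (X : Module.End F (Fin n → F)) * f = f * (X : Module.End F (Fin n → F))} := by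
    refine Equiv.subtypeEquiv Matrix.GeneralLinearGroup.toLin.toEquiv (fun g => ?_)
    rw [Subgroup.mem_centralizer_singleton_iff, S2571.gl_comm_iff]
    show _ ↔ (g : Matrix (Fin n) (Fin n) F).mulVecLin * N.mulVecLin =
      N.mulVecLin * (g : Matrix (Fin n) (Fin n) F).mulVecLin
    rw [Module.End.mul_eq_comp, Module.End.mul_eq_comp, ← Matrix.mulVecLin_mul,
      ← Matrix.mulVecLin_mul]
    constructor
    · intro h
      rw [hN, mul_sub, sub_mul, h, mul_one, one_mul]
    · intro h
      have h' := Matrix.toLin'.injective h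
      rw [hN, mul_sub, sub_mul, mul_one, one_mul] at h'
      exact sub_left_injective h'
  have e3 : {X : (Module.End F (Fin n → F))ˣ //
        (X : Module.End F (Fin n → F)) * f = f * (X : Module.End F (Fin n → F))} ≃
      {g : GL (Idx (Fin (n - 2))) F // (g : Matrix (Idx (Fin (n - 2))) (Idx (Fin (n - 2))) F) * E0 F (Fin (n - 2))
        = E0 F (Fin (n - 2)) * (g : Matrix (Idx (Fin (n - 2))) (Idx (Fin (n - 2))) F)} := by
    refine Equiv.subtypeEquiv (Units.mapEquiv (LinearMap.toMatrixAlgEquiv b).toMulEquiv).toEquiv (fun X => ?_)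
    show _ ↔ (LinearMap.toMatrixAlgEquiv b (X : Module.End F (Fin n → F))) * E0 F (Fin (n - 2))
      = E0 F (Fin (n - 2)) * (LinearMap.toMatrixAlgEquiv b (X : Module.End F (Fin n → F)))
    rw [← hfM, ← map_mul, ← map_mul]
    exact (LinearMap.toMatrixAlgEquiv b).injective.eq_iff.symm
  rw [Nat.card_congr (e2.trans (e3.trans commEquiv))]
  rw [Nat.card_prod, Nat.card_prod, Nat.card_prod, Matrix.card_GL_field, Nat.card_eq_fintype_card,
    Nat.card_eq_fintype_card, Nat.card_eq_fintype_card, Fintype.card_units, Fintype.card_fun,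
    Fintype.card_fun, Fintype.card_sum, Fintype.card_fin, Fintype.card_fin, hF]
  have h1 : 2 * n - 3 = (n - 2) + (1 + (n - 2)) := by omega
  rw [h1, pow_add]
  ring

end Cfsg.Agent.S2572
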