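import Cfsg.Statements.S2574
import Cfsg.Agent.Helper8.Nilp

set_option autoImplicit false
open Cfsg

namespace Cfsg.Agent.S2574
open Cfsg.Agent.Helper8 Module Matrix

theorem mulVecLin_pow' {F : Type*} [Field F] {κ : Type*} [Fintype κ] [DecidableEq κ]
    (N : Matrix κ κ F) (k : ℕ) :
    (N ^ k).mulVecLin = (N.mulVecLin : Module.End F (κ → F)) ^ k := by
  induction k with
  | zero => rw [pow_zero, pow_zero, Matrix.mulVecLin_one]; rfl
  | succ k ih => rw [pow_succ, pow_succ, Matrix.mulVecLin_mul, ih]; rfl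

theorem sympForm_invariant {F : Type*} [Field F] {m : ℕ} (u : Matrix.symplecticGroup (Fin m) F)
    (x y : Fin m ⊕ Fin m → F) :
    Cfsg.sympForm m F ((u : Matrix (Fin m ⊕ Fin m) (Fin m ⊕ Fin m) F) *ᵥ x)
      ((u : Matrix (Fin m ⊕ Fin m) (Fin m ⊕ Fin m) F) *ᵥ y) = Cfsg.sympForm m F x y := by
  have h := SymplecticGroup.mem_iff'.mp u.2
  unfold Cfsg.sympForm
  rw [Matrix.mulVec_mulVec, Matrix.dotProduct_mulVec, Matrix.vecMul_mulVec, ← Matrix.dotProduct_mulVec]
  congr 1
  rw [← Matrix.mul_assoc, h]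

/-- A regular unipotent element of the symplectic group has totally isotropic small invariant subspaces: over a finite field, if u ∈ Sp_2m(F) satisfies (u − 1)^(2m) = 0 and rank(u − 1) = 2m − 1, and W is a u-invariant subspace with 2 dim W ≤ 2m, then the alternating form vanishes identically on W. -/
theorem result {F : Type*} [Field F] [Finite F] {m : ℕ} (u : Matrix.symplecticGroup (Fin m) F) (hnil : ((u : Matrix (Fin m ⊕ Fin m) (Fin m ⊕ Fin m) F) - 1) ^ (2 * m) = 0) (hreg : ((u : Matrix (Fin m ⊕ Fin m) (Fin m ⊕ Fin m) F) - 1).rank = 2 * m - 1) (W : Submodule F (Fin m ⊕ Fin m → F)) (hW : ∀ v ∈ W, (u : Matrix (Fin m ⊕ Fin m) (Fin m ⊕ Fin m) F).mulVec v ∈ W) (hdim : 2 * Module.finrank F W ≤ 2 * m) : ∀ v ∈ W, ∀ w ∈ W, Cfsg.sympForm m F v w = 0 := by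
  set M : Matrix (Fin m ⊕ Fin m) (Fin m ⊕ Fin m) F := (u : Matrix (Fin m ⊕ Fin m) (Fin m ⊕ Fin m) F) with hM
  set N := M - 1 with hN
  set f : Module.End F (Fin m ⊕ Fin m → F) := N.mulVecLin with hf
  set d := finrank F W with hd
  have hVdim : finrank F (Fin m ⊕ Fin m → F) = 2 * m := by
    rw [Module.finrank_pi, Fintype.card_sum, Fintype.card_fin]; ring
  have hfn : f ^ (2 * m) = 0 := by
    rw [hf, ← mulVecLin_pow', hnil]
    ext v
    simp
  have hfU : ∀ v, M *ᵥ v = v + f v := by
    intro v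
    rw [hf, Matrix.mulVecLin_apply, hN, Matrix.sub_mulVec, Matrix.one_mulVec]
    abel
  have hWf : ∀ v ∈ W, f v ∈ W := by
    intro v hv
    have : f v = M *ᵥ v - v := by rw [hfU]; abel
    rw [this]
    exact W.sub_mem (hW v hv) hv
  -- adjoint identity
  have hadj : ∀ x y, Cfsg.sympForm m F (f x) y = - Cfsg.sympForm m F (M *ᵥ x) (f y) := by
    intro x y
    have h1 : f x = M *ᵥ x - x := by rw [hfU]; abel
    have h2 : f y = M *ᵥ y - y := by rw [hfU]; abel
    have h3 := sympForm_invariant u x y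
    rw [h1, h2]
    unfold Cfsg.sympForm at h3 ⊢
    rw [sub_dotProduct, Matrix.mulVec_sub, dotProduct_sub, h3]
    abel
  have hkey : ∀ k : ℕ, ∀ x y, y ∈ LinearMap.ker (f ^ k) → Cfsg.sympForm m F ((f ^ k) x) y = 0 := by
    intro k
    induction k with
    | zero =>
      intro x y hy
      rw [pow_zero] at hy
      have : y = 0 := by simpa using hy
      rw [this]
      unfold Cfsg.sympForm
      simp
    | succ k ih =>
      intro x y hy
      have h1 : (f ^ (k + 1)) x = f ((f ^ k) x) := by rw [pow_succ']; rfl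
      rw [h1, hadj]
      have h2 : M *ᵥ ((f ^ k) x) = (f ^ k) (x + f x) := by
        rw [hfU, map_add]
        congr 1
        have : f ((f ^ k) x) = (f ^ (k + 1)) x := by rw [pow_succ']; rfl
        rw [this, pow_succ]
        rfl
      rw [h2, neg_eq_zero]
      apply ih
      rw [LinearMap.mem_ker] at hy ⊢
      have : (f ^ k) (f y) = (f ^ (k + 1)) y := by rw [pow_succ]; rfl
      rw [this, hy]
  -- W ≤ ker f^d
  have hWker : W ≤ LinearMap.ker (f ^ d) := by
    intro w hw
    rw [LinearMap.mem_ker]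
    exact pow_finrank_apply_eq_zero f (2 * m) hfn W hWf w hw
  have hdle : d ≤ 2 * m - d := by omega
  have hker1 : finrank F (LinearMap.ker f) ≤ 1 := by
    have h1 := LinearMap.finrank_range_add_finrank_ker f
    have h2 : finrank F (LinearMap.range f) = 2 * m - 1 := hreg
    rw [h2, hVdim] at h1
    omega
  -- range f^(2m-d) = ker f^d
  have hrange_le : LinearMap.range (f ^ (2 * m - d)) ≤ LinearMap.ker (f ^ d) := by
    rintro _ ⟨x, rfl⟩
    rw [LinearMap.mem_ker]
    have : (f ^ d) ((f ^ (2 * m - d)) x) = (f ^ (d + (2 * m - d))) x := by rw [pow_add]; rfl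
    rw [this, show d + (2 * m - d) = 2 * m by omega, hfn]
    rfl
  have hrange_eq : LinearMap.range (f ^ (2 * m - d)) = LinearMap.ker (f ^ d) := by
    apply Submodule.eq_of_le_of_finrank_le hrange_le
    have h1 := LinearMap.finrank_range_add_finrank_ker (f ^ (2 * m - d))
    rw [hVdim] at h1
    have h2 : finrank F (LinearMap.ker (f ^ (2 * m - d))) ≤ 2 * m - d := by
      calc finrank F (LinearMap.ker (f ^ (2 * m - d)))
          ≤ (2 * m - d) * finrank F (LinearMap.ker f) := finrank_ker_pow_le f _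
        _ ≤ (2 * m - d) * 1 := Nat.mul_le_mul_left _ hker1
        _ = 2 * m - d := mul_one _
    have h3 : finrank F (LinearMap.ker (f ^ d)) ≤ d := by
      calc finrank F (LinearMap.ker (f ^ d))
          ≤ d * finrank F (LinearMap.ker f) := finrank_ker_pow_le f _
        _ ≤ d * 1 := Nat.mul_le_mul_left _ hker1
        _ = d := mul_one _
    omega
  intro v hv w hw
  have hv' : v ∈ LinearMap.range (f ^ (2 * m - d)) := by
    rw [hrange_eq]; exact hWker hv
  obtain ⟨x, rfl⟩ := hv'
  apply hkey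
  have hw' := hWker hw
  rw [LinearMap.mem_ker] at hw' ⊢
  have : 2 * m - d = (2 * m - d - d) + d := by omega
  rw [this, pow_add, Module.End.mul_apply, hw', map_zero]

end Cfsg.Agent.S2574
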