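import Cfsg.Statements.S2575
import Cfsg.Agent.Helper8.FieldTwo

set_option autoImplicit false
open Cfsg

namespace Cfsg.Agent.S2575
open Cfsg.Agent.Helper8

/-- Which diagonal involutions of PGL_n(q) lie in PSL_n(q), q odd: for the diagonal matrix t with i entries −1 and n − i entries 1, some non-zero scalar multiple of t has determinant one if and only if i is even or the 2-part of q − 1 exceeds the 2-part of n (that is, −1 is an n-th power in the field exactly in the latter case). -/
theorem result {F : Type*} [Field F] [Fintype F] {q : ℕ} (hF : Fintype.card F = q) (hq : Odd q) {n : ℕ} (hn : 1 ≤ n) (i : ℕ) (hi : i ≤ n) : (∃ c : F, c ≠ 0 ∧ (c • Matrix.diagonal (fun j : Fin n => if (j : ℕ) < i then (-1 : F) else 1)).det = 1) ↔ (Even i ∨ padicValNat 2 n < padicValNat 2 (q - 1)) := by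
  have hdet : ∀ c : F, (c • Matrix.diagonal (fun j : Fin n => if (j : ℕ) < i then (-1 : F) else 1)).det
      = c ^ n * (-1) ^ i := by
    intro c
    rw [Matrix.det_smul, Matrix.det_diagonal, Fintype.card_fin, Finset.prod_ite, Finset.prod_const,
      Finset.prod_const_one, mul_one, Fin.card_filter_val_lt, min_eq_right hi]
  simp_rw [hdet]
  have hne : (-1 : F) ≠ 1 := neg_one_ne_one_of_odd_card (hF ▸ hq)
  have hq1 : q - 1 ≠ 0 := by
    have := Fintype.one_lt_card (α := F)
    omega
  obtain ⟨N', hN'odd, hN'⟩ := exists_odd_mul (q - 1) hq1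
  obtain ⟨n', hn'odd, hn'⟩ := exists_odd_mul n (by omega)
  set f := padicValNat 2 (q - 1) with hf
  set e := padicValNat 2 n with he
  constructor
  · rintro ⟨c, hc0, hc⟩
    by_cases hev : Even i
    · left; exact hev
    · right
      have hodd : Odd i := Nat.not_even_iff_odd.mp hev
      rw [hodd.neg_one_pow, mul_neg, mul_one, neg_eq_iff_eq_neg] at hc
      by_contra hge
      push Not at hge
      apply hne
      -- c ^ (n * N') = -1 and = 1
      have h1 : c ^ (n * N') = -1 := by
        rw [pow_mul, hc, hN'odd.neg_one_pow]
      have h2 : c ^ (n * N') = 1 := by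
        have : n * N' = (q - 1) * (2 ^ (e - f) * n') := by
          rw [hN']
          nth_rewrite 1 [hn']
          have : e = f + (e - f) := by omega
          nth_rewrite 1 [this]
          rw [pow_add]
          ring
        rw [this, pow_mul, ← hF, FiniteField.pow_card_sub_one_eq_one c hc0, one_pow]
      rw [← h1, h2]
  · intro h
    by_cases hev : Even i
    · exact ⟨1, one_ne_zero, by simp [hev.neg_one_pow]⟩
    · have hodd : Odd i := Nat.not_even_iff_odd.mp hev
      have hlt : e < f := by
        rcases h with h | h
        · exact absurd h hev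
        · exact h
      have hdvd : 2 ^ (e + 1) ∣ Fintype.card F - 1 := by
        rw [hF, hN']
        exact Dvd.dvd.mul_right (pow_dvd_pow 2 hlt) _
      obtain ⟨y, hy⟩ := exists_unit_orderOf (F := F) (2 ^ (e + 1)) hdvd
      have hy' : orderOf (y : F) = 2 ^ (e + 1) := by
        rw [← hy]
        exact orderOf_injective (Units.coeHom F) Units.val_injective y
      refine ⟨(y : F), y.ne_zero, ?_⟩
      rw [hodd.neg_one_pow]
      nth_rewrite 1 [hn']
      rw [pow_mul, pow_half_eq_neg_one (y : F) e hy', hn'odd.neg_one_pow]
      norm_num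

end Cfsg.Agent.S2575
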