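import Cfsg.Statements.S2576
import Cfsg.Agent.Helper8.FieldTwo

set_option autoImplicit false
open Cfsg

namespace Cfsg.Agent.S2576
open Cfsg.Agent.Helper8

/-- Which involutions of PGL_2m(q) coming from a scalar of the quadratic extension field lie in PSL_2m(q), q odd: let μ generate the Sylow 2-subgroup of the multiplicative group of the field with q elements (μ has order the 2-part of q − 1) and let t be the block-diagonal matrix with m diagonal blocks [[0, 1], [μ, 0]] (so t² is the scalar μ and t is an involution modulo scalars). Then some non-zero scalar multiple of t has determinant one if and only if q ≡ 3 (mod 4) or the 2-part of q − 1 is less than the 2-part of 2m. -/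
theorem result {F : Type*} [Field F] [Fintype F] {q : ℕ} (hF : Fintype.card F = q) (hq : Odd q) {m : ℕ} (hm : 1 ≤ m) (μ : F) (hμ : orderOf μ = 2 ^ padicValNat 2 (q - 1)) : (∃ c : F, c ≠ 0 ∧ (c • Matrix.blockDiagonal (fun _ : Fin m => !![(0 : F), 1; μ, 0])).det = 1) ↔ (q % 4 = 3 ∨ padicValNat 2 (q - 1) < padicValNat 2 (2 * m)) := by
  have hdet : ∀ c : F, (c • Matrix.blockDiagonal (fun _ : Fin m => !![(0 : F), 1; μ, 0])).det
      = c ^ (2 * m) * (-μ) ^ m := by
    intro c
    rw [Matrix.det_smul, Matrix.det_blockDiagonal, Fintype.card_prod, Fintype.card_fin, Fintype.card_fin,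
      Finset.prod_const, Finset.card_univ, Fintype.card_fin, Matrix.det_fin_two_of]
    congr 2
    ring
  simp_rw [hdet]
  have hne : (-1 : F) ≠ 1 := neg_one_ne_one_of_odd_card (hF ▸ hq)
  have hq1 : q - 1 ≠ 0 := by
    have := Fintype.one_lt_card (α := F)
    omega
  have hm0 : m ≠ 0 := by omega
  have hv2m : padicValNat 2 (2 * m) = 1 + padicValNat 2 m := by
    haveI : Fact (Nat.Prime 2) := ⟨Nat.prime_two⟩
    rw [padicValNat.mul two_ne_zero hm0, padicValNat_self]
  rw [hv2m]
  obtain ⟨N', hN'odd, hN'⟩ := exists_odd_mul (q - 1) hq1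
  obtain ⟨m', hm'odd, hm'⟩ := exists_odd_mul m hm0
  set f := padicValNat 2 (q - 1) with hf
  set e := padicValNat 2 m with he
  have hf1 : 1 ≤ f := by
    by_contra h
    have h0 : f = 0 := by omega
    rw [h0, pow_zero, one_mul] at hN'
    obtain ⟨k, hk⟩ := hN'odd
    obtain ⟨j, hj⟩ := hq
    omega
  constructor
  · rintro ⟨c, hc0, hc⟩
    by_contra hcon
    push Not at hcon
    obtain ⟨hq4, hfe⟩ := hcon
    have hf2 : 2 ≤ f := by
      by_contra h
      have h1 : f = 1 := by omega
      rw [h1, pow_one] at hN'
      obtain ⟨k, hk⟩ := hN'odd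
      omega
    apply hne
    -- K = 2^(f-e-1) * N'
    have hpow := congrArg (fun x => x ^ (2 ^ (f - e - 1) * N')) hc
    simp only [one_pow, mul_pow] at hpow
    have h1 : (c ^ (2 * m)) ^ (2 ^ (f - e - 1) * N') = 1 := by
      rw [← pow_mul]
      have : 2 * m * (2 ^ (f - e - 1) * N') = (q - 1) * m' := by
        rw [hN']
        nth_rewrite 1 [hm']
        have : f = 1 + e + (f - e - 1) := by omega
        nth_rewrite 2 [this]
        rw [pow_add, pow_add]
        ring
      rw [this, pow_mul, ← hF, FiniteField.pow_card_sub_one_eq_one c hc0, one_pow]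
    have h2 : ((-μ) ^ m) ^ (2 ^ (f - e - 1) * N') = -1 := by
      rw [← pow_mul]
      have : m * (2 ^ (f - e - 1) * N') = 2 ^ (f - 1) * (m' * N') := by
        nth_rewrite 1 [hm']
        have : f - 1 = e + (f - e - 1) := by omega
        rw [this, pow_add]
        ring
      rw [this, pow_mul]
      have hev : Even (2 ^ (f - 1)) := by
        have : f - 1 = (f - 2) + 1 := by omega
        rw [this, pow_succ]
        exact even_two.mul_left _
      rw [hev.neg_pow]
      have hμ' : orderOf μ = 2 ^ ((f - 1) + 1) := by
        rw [hμ]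
        congr 1
        omega
      rw [pow_half_eq_neg_one μ (f - 1) hμ', (hm'odd.mul hN'odd).neg_one_pow]
    rw [h1, h2, one_mul] at hpow
    exact hpow
  · intro h
    refine ⟨1, one_ne_zero, ?_⟩
    rw [one_pow, one_mul]
    rcases h with h | h
    · have hf1' : f = 1 := by
        by_contra hne1
        have hf2 : 2 ≤ f := by omega
        have h4 : 4 ∣ q - 1 := by
          refine ⟨2 ^ (f - 2) * N', ?_⟩
          have : f = 2 + (f - 2) := by omega
          rw [hN']
          nth_rewrite 1 [this]
          rw [pow_add]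
          ring
        omega
      rw [hf1', pow_one] at hμ
      have hμ1 : μ = -1 := eq_neg_one_of_orderOf_eq_two μ hμ
      rw [hμ1, neg_neg, one_pow]
    · have hfe : f ≤ e := by omega
      have : m = 2 ^ f * (2 ^ (e - f) * m') := by
        nth_rewrite 1 [hm']
        have : e = f + (e - f) := by omega
        nth_rewrite 1 [this]
        rw [pow_add]
        ring
      rw [this, pow_mul]
      have hev : Even (2 ^ f) := by
        have : f = (f - 1) + 1 := by omega
        rw [this, pow_succ]
        exact even_two.mul_left _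
      rw [hev.neg_pow, ← hμ, pow_orderOf_eq_one, one_pow]

end Cfsg.Agent.S2576
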