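import Cfsg.Statements.S2578
import Mathlib

set_option autoImplicit false
open Cfsg

namespace Cfsg.Agent.S2578

open Module
open scoped Matrix

section
variable {F : Type*} [Field F] {m : ℕ}

/-- the nilpotent Jordan block (superdiagonal ones) -/
def N0 (F : Type*) [Field F] (m : ℕ) : Matrix (Fin (m + 1)) (Fin (m + 1)) F :=
  Matrix.of fun i j => if (j : ℕ) = (i : ℕ) + 1 then 1 else 0

lemma N0_apply (i j : Fin (m + 1)) : N0 F m i j = if (j : ℕ) = (i : ℕ) + 1 then 1 else 0 := rfl

lemma N0_mulVec (v : Fin (m + 1) → F) (i : Fin (m + 1)) :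
    (N0 F m *ᵥ v) i = if h : (i : ℕ) + 1 < m + 1 then v ⟨i + 1, h⟩ else 0 := by
  unfold Matrix.mulVec dotProduct
  split_ifs with h
  · rw [Finset.sum_eq_single ⟨i + 1, h⟩]
    · simp [N0_apply]
    · intro j _ hj
      change N0 F m i j * v j = 0
      rw [N0_apply, if_neg, zero_mul]
      intro hji
      apply hj
      exact Fin.ext hji
    · intro h0
      exact absurd (Finset.mem_univ _) h0
  · apply Finset.sum_eq_zero
    intro j _
    change N0 F m i j * v j = 0
    rw [N0_apply, if_neg, zero_mul]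
    intro hji
    have := j.isLt
    omega

lemma N0_mul_apply (c : Matrix (Fin (m + 1)) (Fin (m + 1)) F) (i j : Fin (m + 1)) :
    (N0 F m * c) i j = if h : (i : ℕ) + 1 < m + 1 then c ⟨i + 1, h⟩ j else 0 := by
  have : (N0 F m * c) i j = (N0 F m *ᵥ (fun k => c k j)) i := rfl
  rw [this, N0_mulVec]

lemma mul_N0_apply (c : Matrix (Fin (m + 1)) (Fin (m + 1)) F) (i j : Fin (m + 1)) :
    (c * N0 F m) i j = if h : 1 ≤ (j : ℕ) then c i ⟨j - 1, by omega⟩ else 0 := by
  rw [Matrix.mul_apply]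
  split_ifs with h
  · rw [Finset.sum_eq_single ⟨j - 1, by omega⟩]
    · rw [N0_apply, if_pos, mul_one]
      simp only
      omega
    · intro k _ hk
      rw [N0_apply, if_neg, mul_zero]
      intro hjk
      apply hk
      apply Fin.ext
      simp only
      omega
    · intro h0
      exact absurd (Finset.mem_univ _) h0
  · apply Finset.sum_eq_zero
    intro k _
    rw [N0_apply, if_neg, mul_zero]
    omega

/-- a matrix commuting with the Jordan block is upper triangular with constant diagonal -/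
lemma comm_lower (c : Matrix (Fin (m + 1)) (Fin (m + 1)) F) (hc : c * N0 F m = N0 F m * c) :
    ∀ (j i : ℕ) (hi : i < m + 1) (hj : j < m + 1), j < i → c ⟨i, hi⟩ ⟨j, hj⟩ = 0 := by
  intro j
  induction j with
  | zero =>
    intro i hi hj hji
    have h := congrFun (congrFun hc ⟨i - 1, by omega⟩) ⟨0, hj⟩
    rw [mul_N0_apply, N0_mul_apply, dif_neg (by simp), dif_pos (by simp only; omega)] at h
    have e : (⟨(i - 1) + 1, by omega⟩ : Fin (m + 1)) = ⟨i, hi⟩ := Fin.ext (by simp only; omega)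
    rw [e] at h
    exact h.symm
  | succ j ih =>
    intro i hi hj hji
    have h := congrFun (congrFun hc ⟨i - 1, by omega⟩) ⟨j + 1, hj⟩
    rw [mul_N0_apply, N0_mul_apply, dif_pos (by simp), dif_pos (by simp only; omega)] at h
    have e : (⟨(i - 1) + 1, by omega⟩ : Fin (m + 1)) = ⟨i, hi⟩ := Fin.ext (by simp only; omega)
    rw [e] at h
    rw [← h]
    exact ih (i - 1) (by omega) (by omega) (by omega)

lemma comm_diag (c : Matrix (Fin (m + 1)) (Fin (m + 1)) F) (hc : c * N0 F m = N0 F m * c) :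
    ∀ (i : ℕ) (hi : i < m + 1), c ⟨i, hi⟩ ⟨i, hi⟩ = c 0 0 := by
  intro i
  induction i with
  | zero => intro hi; rfl
  | succ i ih =>
    intro hi
    have h := congrFun (congrFun hc ⟨i, by omega⟩) ⟨i + 1, hi⟩
    rw [mul_N0_apply, N0_mul_apply, dif_pos (by simp), dif_pos (by simp only; omega)] at h
    rw [← h]
    exact ih (by omega)

lemma det_of_comm (c : Matrix (Fin (m + 1)) (Fin (m + 1)) F) (hc : c * N0 F m = N0 F m * c) :
    c.det = (c 0 0) ^ (m + 1) := by
  have htri : c.BlockTriangular id := by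
    intro i j hij
    exact comm_lower c hc j i i.isLt j.isLt hij
  rw [Matrix.det_of_upperTriangular htri]
  have : ∀ i : Fin (m + 1), c i i = c 0 0 := fun i => comm_diag c hc i i.isLt
  simp [this]

/-- chain matrix: column `j` is `N^(m - j) v` -/
def chain (N : Matrix (Fin (m + 1)) (Fin (m + 1)) F) (v : Fin (m + 1) → F) :
    Matrix (Fin (m + 1)) (Fin (m + 1)) F :=
  Matrix.of fun i j => ((N ^ (m - (j : ℕ))) *ᵥ v) i

lemma chain_col (N : Matrix (Fin (m + 1)) (Fin (m + 1)) F) (v : Fin (m + 1) → F) (j : Fin (m + 1)) :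
    (fun k => chain N v k j) = (N ^ (m - (j : ℕ))) *ᵥ v := rfl

lemma chain_intertwine (N : Matrix (Fin (m + 1)) (Fin (m + 1)) F) (v : Fin (m + 1) → F)
    (hN : N ^ (m + 1) = 0) : N * chain N v = chain N v * N0 F m := by
  ext i j
  have h1 : (N * chain N v) i j = (N *ᵥ (fun k => chain N v k j)) i := rfl
  rw [h1, chain_col, Matrix.mulVec_mulVec, ← pow_succ', mul_N0_apply]
  split_ifs with h
  · have hj := j.isLt
    have e : m - (j : ℕ) + 1 = m - ((j : ℕ) - 1) := by omega
    rw [e]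
    rfl
  · have e : m - (j : ℕ) + 1 = m + 1 := by omega
    rw [e, hN, Matrix.zero_mulVec]
    rfl

lemma chain_isUnit (N : Matrix (Fin (m + 1)) (Fin (m + 1)) F) (v : Fin (m + 1) → F)
    (hN : N ^ (m + 1) = 0) (hrank : N.rank = m) (hv : v ∉ LinearMap.range N.mulVecLin) :
    IsUnit (chain N v) := by
  rw [← Matrix.mulVec_surjective_iff_isUnit]
  set U : Submodule F (Fin (m + 1) → F) := LinearMap.range (chain N v).mulVecLin with hU
  have hvU : v ∈ U := by
    refine ⟨Pi.single ⟨m, by omega⟩ 1, ?_⟩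
    rw [Matrix.mulVecLin_apply, Matrix.mulVec_single_one]
    ext i
    simp [chain]
  have hNU : ∀ w ∈ U, N *ᵥ w ∈ U := by
    rintro w ⟨x, rfl⟩
    refine ⟨N0 F m *ᵥ x, ?_⟩
    rw [Matrix.mulVecLin_apply, Matrix.mulVecLin_apply, Matrix.mulVec_mulVec, Matrix.mulVec_mulVec,
      chain_intertwine N v hN]
  have hNkU : ∀ (k : ℕ), ∀ w ∈ U, (N ^ k) *ᵥ w ∈ U := by
    intro k
    induction k with
    | zero => intro w hw; simpa using hw
    | succ k ih =>
      intro w hw
      rw [pow_succ', ← Matrix.mulVec_mulVec]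
      exact hNU _ (ih w hw)
  have htop : (F ∙ v) ⊔ LinearMap.range N.mulVecLin = ⊤ := by
    have hlt : LinearMap.range N.mulVecLin < (F ∙ v) ⊔ LinearMap.range N.mulVecLin := by
      rw [lt_iff_le_and_ne]
      refine ⟨le_sup_right, ?_⟩
      intro h
      apply hv
      rw [h]
      exact Submodule.mem_sup_left (Submodule.mem_span_singleton_self v)
    have h1 := Submodule.finrank_lt_finrank_of_lt hlt
    have h2 : finrank F ↥(LinearMap.range N.mulVecLin) = m := hrank
    apply Submodule.eq_top_of_finrank_eq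
    rw [Module.finrank_fin_fun]
    have h3 := Submodule.finrank_le ((F ∙ v) ⊔ LinearMap.range N.mulVecLin)
    rw [Module.finrank_fin_fun] at h3
    omega
  have hbase : ∀ w : Fin (m + 1) → F, ∃ u ∈ U, ∃ y, w = u + N *ᵥ y := by
    intro w
    have hw : w ∈ (F ∙ v) ⊔ LinearMap.range N.mulVecLin := by rw [htop]; exact Submodule.mem_top
    rw [Submodule.mem_sup] at hw
    obtain ⟨a, ha, b, ⟨y, rfl⟩, hab⟩ := hw
    rw [Submodule.mem_span_singleton] at ha
    obtain ⟨c, rfl⟩ := ha
    exact ⟨c • v, U.smul_mem c hvU, y, hab.symm⟩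
  have hstep : ∀ (k : ℕ) (w : Fin (m + 1) → F), ∃ u ∈ U, ∃ y, w = u + (N ^ (k + 1)) *ᵥ y := by
    intro k
    induction k with
    | zero =>
      intro w
      obtain ⟨u, hu, y, h⟩ := hbase w
      exact ⟨u, hu, y, by simpa using h⟩
    | succ k ih =>
      intro w
      obtain ⟨u, hu, y, h⟩ := ih w
      obtain ⟨u', hu', y', h'⟩ := hbase y
      refine ⟨u + (N ^ (k + 1)) *ᵥ u', U.add_mem hu (hNkU _ _ hu'), y', ?_⟩
      rw [h, h', Matrix.mulVec_add, Matrix.mulVec_mulVec, ← pow_succ]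
      abel
  intro w
  obtain ⟨u, hu, y, h⟩ := hstep m w
  rw [hN, Matrix.zero_mulVec, add_zero] at h
  rw [h]
  obtain ⟨x, hx⟩ := hu
  exact ⟨x, hx⟩

/-- every regular unipotent matrix is conjugate to the Jordan block -/
lemma exists_conj (M : Matrix (Fin (m + 1)) (Fin (m + 1)) F) (hN : (M - 1) ^ (m + 1) = 0)
    (hrank : (M - 1).rank = m) :
    ∃ g : Matrix (Fin (m + 1)) (Fin (m + 1)) F, IsUnit g ∧ M * g = g * (1 + N0 F m) := by
  have hne : LinearMap.range (M - 1).mulVecLin ≠ ⊤ := by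
    intro h
    have h2 : finrank F ↥(LinearMap.range (M - 1).mulVecLin) = m := hrank
    rw [h, finrank_top, Module.finrank_fin_fun] at h2
    omega
  obtain ⟨v, hv⟩ : ∃ v, v ∉ LinearMap.range (M - 1).mulVecLin := by
    by_contra h
    push Not at h
    exact hne (eq_top_iff.mpr (fun w _ => h w))
  refine ⟨chain (M - 1) v, chain_isUnit (M - 1) v hN hrank hv, ?_⟩
  have := chain_intertwine (M - 1) v hN
  rw [Matrix.mul_add, Matrix.mul_one, ← this, Matrix.sub_mul, Matrix.one_mul]
  abel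

lemma N0_pow_mulVec (k : ℕ) (v : Fin (m + 1) → F) (i : Fin (m + 1)) :
    ((N0 F m ^ k) *ᵥ v) i = if h : (i : ℕ) + k < m + 1 then v ⟨i + k, h⟩ else 0 := by
  induction k generalizing i with
  | zero =>
    have hi := i.isLt
    rw [pow_zero, Matrix.one_mulVec, dif_pos (by omega)]
    rfl
  | succ k ih =>
    rw [pow_succ', ← Matrix.mulVec_mulVec, N0_mulVec]
    by_cases h1 : (i : ℕ) + 1 < m + 1
    · rw [dif_pos h1, ih]
      by_cases h2 : (i : ℕ) + (k + 1) < m + 1
      · rw [dif_pos h2, dif_pos (by simp only; omega)]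
        congr 1
        apply Fin.ext
        simp only
        omega
      · rw [dif_neg h2, dif_neg (by simp only; omega)]
    · rw [dif_neg h1, dif_neg (by omega)]

lemma N0_pow_eq_zero : N0 F m ^ (m + 1) = 0 := by
  ext i j
  have h := N0_pow_mulVec (F := F) (m := m) (m + 1) (Pi.single j 1) i
  rw [Matrix.mulVec_single_one, dif_neg (by omega)] at h
  exact h

lemma N0_ker : LinearMap.ker (N0 F m).mulVecLin = F ∙ (Pi.single 0 1 : Fin (m + 1) → F) := by
  ext v
  rw [LinearMap.mem_ker, Submodule.mem_span_singleton, Matrix.mulVecLin_apply]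
  constructor
  · intro h
    refine ⟨v 0, ?_⟩
    ext i
    by_cases hi : i = 0
    · subst hi
      simp
    · have hi' : (i : ℕ) ≠ 0 := fun h0 => hi (Fin.ext h0)
      have h1 := congrFun h ⟨(i : ℕ) - 1, by omega⟩
      rw [N0_mulVec, dif_pos (by simp only; omega)] at h1
      have e : (⟨(i : ℕ) - 1 + 1, by omega⟩ : Fin (m + 1)) = i := Fin.ext (by simp only; omega)
      rw [e] at h1
      simp only [Pi.smul_apply, smul_eq_mul, Pi.zero_apply] at h1 ⊢
      rw [Pi.single_eq_of_ne hi, mul_zero, h1]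
  · rintro ⟨c, rfl⟩
    ext i
    rw [N0_mulVec]
    split_ifs with h
    · have hne : (⟨(i : ℕ) + 1, h⟩ : Fin (m + 1)) ≠ 0 := by
        intro h0
        have := congrArg Fin.val h0
        simp at this
      simp [Pi.single_eq_of_ne hne]
    · rfl

lemma N0_rank : (N0 F m).rank = m := by
  have h1 := LinearMap.finrank_range_add_finrank_ker (N0 F m).mulVecLin
  rw [N0_ker, finrank_span_singleton, Module.finrank_fin_fun] at h1
  · change finrank F ↥(LinearMap.range (N0 F m).mulVecLin) = m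
    omega
  · intro h
    have := congrFun h 0
    simp at this

lemma det_one_add_N0 : (1 + N0 F m).det = 1 := by
  have htri : (1 + N0 F m).BlockTriangular id := by
    intro i j hij
    have hij' : (j : ℕ) < (i : ℕ) := hij
    rw [Matrix.add_apply, Matrix.one_apply_ne (by intro h; rw [h] at hij'; omega), N0_apply, if_neg (by omega), add_zero]
  rw [Matrix.det_of_upperTriangular htri]
  apply Finset.prod_eq_one
  intro i _
  rw [Matrix.add_apply, Matrix.one_apply_eq, N0_apply, if_neg (by omega), add_zero]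

end

section
variable {F : Type*} [Field F] {m : ℕ}

/-- regular unipotent predicate -/
def Reg (M : Matrix (Fin (m + 1)) (Fin (m + 1)) F) : Prop :=
  (M - 1) ^ (m + 1) = 0 ∧ (M - 1).rank = m

lemma Reg_one_add_N0 : Reg (1 + N0 F m) := by
  unfold Reg
  rw [add_sub_cancel_left]
  exact ⟨N0_pow_eq_zero, N0_rank⟩

lemma Reg_conj (g : GL (Fin (m + 1)) F) (M : Matrix (Fin (m + 1)) (Fin (m + 1)) F) (h : Reg M) :
    Reg ((g : Matrix (Fin (m + 1)) (Fin (m + 1)) F) * M * ((g⁻¹ : GL (Fin (m + 1)) F) : Matrix (Fin (m + 1)) (Fin (m + 1)) F)) := by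
  have e : (g : Matrix (Fin (m + 1)) (Fin (m + 1)) F) * M * ((g⁻¹ : GL (Fin (m + 1)) F) : Matrix (Fin (m + 1)) (Fin (m + 1)) F) - 1
      = (g : Matrix (Fin (m + 1)) (Fin (m + 1)) F) * (M - 1) * ((g⁻¹ : GL (Fin (m + 1)) F) : Matrix (Fin (m + 1)) (Fin (m + 1)) F) := by
    rw [Matrix.mul_sub, Matrix.sub_mul, Matrix.mul_one, ← Units.val_mul, mul_inv_cancel, Units.val_one]
  unfold Reg
  rw [e]
  constructor
  · rw [Units.conj_pow, h.1, Matrix.mul_zero, Matrix.zero_mul]
  · have hd : IsUnit (g : Matrix (Fin (m + 1)) (Fin (m + 1)) F).det :=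
      (g.isUnit.map (Matrix.detMonoidHom (n := Fin (m + 1)) (R := F)))
    have hd' : IsUnit ((g⁻¹ : GL (Fin (m + 1)) F) : Matrix (Fin (m + 1)) (Fin (m + 1)) F).det :=
      ((g⁻¹).isUnit.map (Matrix.detMonoidHom (n := Fin (m + 1)) (R := F)))
    rw [Matrix.rank_mul_eq_left_of_isUnit_det _ _ hd', Matrix.rank_mul_eq_right_of_isUnit_det _ _ hd]
    exact h.2

/-- `diag(d, 1, …, 1)` -/
def Dm (d : Fˣ) : GL (Fin (m + 1)) F where
  val := Matrix.diagonal (fun i => if i = 0 then (d : F) else 1)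
  inv := Matrix.diagonal (fun i => if i = 0 then ((d⁻¹ : Fˣ) : F) else 1)
  val_inv := by
    rw [Matrix.diagonal_mul_diagonal, ← Matrix.diagonal_one]
    congr 1
    ext i
    split_ifs <;> simp
  inv_val := by
    rw [Matrix.diagonal_mul_diagonal, ← Matrix.diagonal_one]
    congr 1
    ext i
    split_ifs <;> simp

lemma det_Dm (d : Fˣ) : Matrix.GeneralLinearGroup.det (Dm (m := m) d) = d := by
  apply Units.ext
  rw [Matrix.GeneralLinearGroup.val_det_apply]
  change (Matrix.diagonal (fun i : Fin (m + 1) => if i = 0 then (d : F) else 1)).det = d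
  rw [Matrix.det_diagonal, Finset.prod_ite_eq' Finset.univ (0 : Fin (m + 1)) (fun _ => (d : F))]
  simp

/-- scalar matrices -/
def scm (e : Fˣ) : GL (Fin (m + 1)) F :=
  Units.map (algebraMap F (Matrix (Fin (m + 1)) (Fin (m + 1)) F)).toMonoidHom e

lemma scm_comm (e : Fˣ) (g : GL (Fin (m + 1)) F) : scm e * g = g * scm e := by
  apply Units.ext
  rw [Units.val_mul, Units.val_mul]
  exact Algebra.commutes _ _

lemma det_scm (e : Fˣ) : Matrix.GeneralLinearGroup.det (scm (m := m) e) = e ^ (m + 1) := by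
  apply Units.ext
  rw [Matrix.GeneralLinearGroup.val_det_apply]
  change (algebraMap F (Matrix (Fin (m + 1)) (Fin (m + 1)) F) (e : F)).det = _
  rw [Matrix.algebraMap_eq_diagonal, Matrix.det_diagonal]
  simp

/-- the Jordan block as an element of `GL` -/
def XG (F : Type*) [Field F] (m : ℕ) : GL (Fin (m + 1)) F :=
  Matrix.GeneralLinearGroup.mkOfDetNeZero (1 + N0 F m) (by rw [det_one_add_N0]; exact one_ne_zero)

lemma XG_val : ((XG F m : GL (Fin (m + 1)) F) : Matrix (Fin (m + 1)) (Fin (m + 1)) F) = 1 + N0 F m := rfl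

lemma det_XG : Matrix.GeneralLinearGroup.det (XG F m) = 1 := by
  apply Units.ext
  rw [Matrix.GeneralLinearGroup.val_det_apply, XG_val, det_one_add_N0]
  rfl

/-- the conjugate `D_d X D_d⁻¹` in `GL` -/
def udG (d : Fˣ) : GL (Fin (m + 1)) F := Dm d * XG F m * (Dm d)⁻¹

lemma det_udG (d : Fˣ) : Matrix.GeneralLinearGroup.det (udG (m := m) d) = 1 := by
  unfold udG
  rw [map_mul, map_mul, map_inv, det_XG, mul_one, mul_inv_cancel]

/-- the conjugate `D_d X D_d⁻¹` in `SL` -/
def ud (d : Fˣ) : Matrix.SpecialLinearGroup (Fin (m + 1)) F :=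
  ⟨(udG d : GL (Fin (m + 1)) F), by
    have := det_udG (m := m) d
    have h2 := congrArg Units.val this
    rw [Matrix.GeneralLinearGroup.val_det_apply] at h2
    exact h2⟩

lemma ud_val (d : Fˣ) : ((ud d : Matrix.SpecialLinearGroup (Fin (m + 1)) F) : Matrix (Fin (m + 1)) (Fin (m + 1)) F)
    = ((udG d : GL (Fin (m + 1)) F) : Matrix (Fin (m + 1)) (Fin (m + 1)) F) := rfl

lemma Reg_ud (d : Fˣ) : Reg ((ud d : Matrix.SpecialLinearGroup (Fin (m + 1)) F) : Matrix (Fin (m + 1)) (Fin (m + 1)) F) := by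
  rw [ud_val]
  unfold udG
  rw [Units.val_mul, Units.val_mul, XG_val]
  exact Reg_conj (Dm d) _ Reg_one_add_N0

/-- SL element from a GL element of determinant one -/
def toSL (g : GL (Fin (m + 1)) F) (hg : Matrix.GeneralLinearGroup.det g = 1) :
    Matrix.SpecialLinearGroup (Fin (m + 1)) F :=
  ⟨(g : Matrix (Fin (m + 1)) (Fin (m + 1)) F), by
    have h2 := congrArg Units.val hg
    rw [Matrix.GeneralLinearGroup.val_det_apply] at h2
    exact h2⟩

lemma conj_of_GL (a b : Matrix.SpecialLinearGroup (Fin (m + 1)) F) (g : GL (Fin (m + 1)) F)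
    (hg : Matrix.GeneralLinearGroup.det g = 1)
    (h : (g : Matrix (Fin (m + 1)) (Fin (m + 1)) F) * (a : Matrix (Fin (m + 1)) (Fin (m + 1)) F) =
      (b : Matrix (Fin (m + 1)) (Fin (m + 1)) F) * (g : Matrix (Fin (m + 1)) (Fin (m + 1)) F)) :
    IsConj a b := by
  rw [isConj_iff]
  refine ⟨toSL g hg, ?_⟩
  rw [mul_inv_eq_iff_eq_mul]
  apply Subtype.ext
  rw [Matrix.SpecialLinearGroup.coe_mul, Matrix.SpecialLinearGroup.coe_mul]
  exact h

end

section
variable {F : Type*} [Field F] {m : ℕ}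

/-- the set of regular unipotent classes -/
abbrev SS (F : Type*) [Field F] (m : ℕ) :=
  {C : ConjClasses (Matrix.SpecialLinearGroup (Fin (m + 1)) F) //
    ∃ u : Matrix.SpecialLinearGroup (Fin (m + 1)) F, ConjClasses.mk u = C ∧
      Reg (u : Matrix (Fin (m + 1)) (Fin (m + 1)) F)}

/-- the parametrization of classes by `d` -/
def Psi (d : Fˣ) : SS F m := ⟨ConjClasses.mk (ud d), ud d, rfl, Reg_ud d⟩

/-- the GL element underlying an SL element -/
def glOf (s : Matrix.SpecialLinearGroup (Fin (m + 1)) F) : GL (Fin (m + 1)) F :=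
  Matrix.SpecialLinearGroup.toGL s

lemma glOf_val (s : Matrix.SpecialLinearGroup (Fin (m + 1)) F) :
    ((glOf s : GL (Fin (m + 1)) F) : Matrix (Fin (m + 1)) (Fin (m + 1)) F) = (s : Matrix (Fin (m + 1)) (Fin (m + 1)) F) := rfl

lemma det_glOf (s : Matrix.SpecialLinearGroup (Fin (m + 1)) F) :
    Matrix.GeneralLinearGroup.det (glOf s) = 1 := by
  apply Units.ext
  rw [Matrix.GeneralLinearGroup.val_det_apply, glOf_val]
  exact s.2

lemma comm_N0_of_comm_XG (c : GL (Fin (m + 1)) F) (h : c * XG F m = XG F m * c) :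
    (c : Matrix (Fin (m + 1)) (Fin (m + 1)) F) * N0 F m = N0 F m * (c : Matrix (Fin (m + 1)) (Fin (m + 1)) F) := by
  have h2 := congrArg Units.val h
  rw [Units.val_mul, Units.val_mul, XG_val, Matrix.mul_add, Matrix.add_mul, Matrix.mul_one,
    Matrix.one_mul] at h2
  exact add_left_cancel h2

lemma Psi_eq_iff (d d' : Fˣ) :
    Psi (m := m) d = Psi d' ↔ d⁻¹ * d' ∈ (powMonoidHom (m + 1) : Fˣ →* Fˣ).range := by
  constructor
  · intro h
    have h1 : ConjClasses.mk (ud (m := m) d) = ConjClasses.mk (ud d') := congrArg Subtype.val h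
    rw [ConjClasses.mk_eq_mk_iff_isConj, isConj_iff] at h1
    obtain ⟨s, hs⟩ := h1
    rw [mul_inv_eq_iff_eq_mul] at hs
    have hG : glOf s * udG d = udG d' * glOf s := by
      apply Units.ext
      rw [Units.val_mul, Units.val_mul, glOf_val, ← ud_val, ← ud_val,
        ← Matrix.SpecialLinearGroup.coe_mul, ← Matrix.SpecialLinearGroup.coe_mul, hs]
    set cG : GL (Fin (m + 1)) F := (Dm d')⁻¹ * glOf s * Dm d with hcG
    have hcomm : cG * XG F m = XG F m * cG := by
      have := congrArg (fun z => (Dm d')⁻¹ * z * Dm d) hG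
      simp only [udG, mul_assoc, inv_mul_cancel_left, inv_mul_cancel, mul_one] at this
      rw [hcG]
      simpa [mul_assoc] using this
    have hcommM : (cG : Matrix (Fin (m + 1)) (Fin (m + 1)) F) * N0 F m =
        N0 F m * (cG : Matrix (Fin (m + 1)) (Fin (m + 1)) F) := comm_N0_of_comm_XG cG hcomm
    have hdet := det_of_comm _ hcommM
    have hdetG : Matrix.GeneralLinearGroup.det cG = d'⁻¹ * d := by
      rw [hcG, map_mul, map_mul, map_inv, det_Dm, det_Dm, det_glOf, mul_one]
    have hdetv : (cG : Matrix (Fin (m + 1)) (Fin (m + 1)) F).det = ((d'⁻¹ * d : Fˣ) : F) := by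
      rw [← hdetG, Matrix.GeneralLinearGroup.val_det_apply]
    have he : (cG : Matrix (Fin (m + 1)) (Fin (m + 1)) F) 0 0 ≠ 0 := by
      intro h0
      rw [h0, zero_pow (by omega)] at hdet
      rw [hdet] at hdetv
      exact (Units.ne_zero _) hdetv.symm
    have hmem : d'⁻¹ * d ∈ (powMonoidHom (m + 1) : Fˣ →* Fˣ).range := by
      refine ⟨Units.mk0 _ he, ?_⟩
      apply Units.ext
      rw [powMonoidHom_apply, Units.val_pow_eq_pow_val, Units.val_mk0, ← hdet, hdetv]
    have := (powMonoidHom (m + 1) : Fˣ →* Fˣ).range.inv_mem hmem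
    rwa [_root_.mul_inv_rev, inv_inv] at this
  · rintro ⟨e, he⟩
    rw [powMonoidHom_apply] at he
    set sG : GL (Fin (m + 1)) F := Dm d' * scm e⁻¹ * (Dm d)⁻¹ with hsG
    have hdet : Matrix.GeneralLinearGroup.det sG = 1 := by
      rw [hsG, map_mul, map_mul, map_inv, det_Dm, det_Dm, det_scm, inv_pow, he]
      group
    have hG : sG * udG d = udG d' * sG := by
      rw [hsG]
      unfold udG
      simp only [mul_assoc, inv_mul_cancel_left]
      rw [← mul_assoc (scm e⁻¹), scm_comm, mul_assoc]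
    apply Subtype.ext
    change ConjClasses.mk (ud d) = ConjClasses.mk (ud d')
    rw [ConjClasses.mk_eq_mk_iff_isConj]
    apply conj_of_GL _ _ sG hdet
    have h2 := congrArg Units.val hG
    rw [Units.val_mul, Units.val_mul] at h2
    exact h2

lemma Psi_surjective : Function.Surjective (Psi (F := F) (m := m)) := by
  rintro ⟨C, u, rfl, hu⟩
  obtain ⟨g, hg, hgu⟩ := exists_conj _ hu.1 hu.2
  set gG : GL (Fin (m + 1)) F := hg.unit with hgG
  have hgGv : (gG : Matrix (Fin (m + 1)) (Fin (m + 1)) F) = g := rfl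
  set d : Fˣ := Matrix.GeneralLinearGroup.det gG with hd
  refine ⟨d, ?_⟩
  apply Subtype.ext
  change ConjClasses.mk (ud d) = ConjClasses.mk u
  rw [ConjClasses.mk_eq_mk_iff_isConj]
  set sG : GL (Fin (m + 1)) F := gG * (Dm d)⁻¹ with hsG
  have hdet : Matrix.GeneralLinearGroup.det sG = 1 := by
    rw [hsG, map_mul, map_inv, det_Dm, ← hd, mul_inv_cancel]
  have hG1 : glOf u * gG = gG * XG F m := by
    apply Units.ext
    rw [Units.val_mul, Units.val_mul, glOf_val, hgGv, XG_val]
    exact hgu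
  have hG : sG * udG d = glOf u * sG := by
    rw [hsG]
    unfold udG
    simp only [mul_assoc, inv_mul_cancel_left]
    rw [← mul_assoc (glOf u), hG1, mul_assoc]
  apply conj_of_GL _ _ sG hdet
  have h2 := congrArg Units.val hG
  rw [Units.val_mul, Units.val_mul] at h2
  exact h2

theorem main [Fintype F] (m : ℕ) :
    Nat.card (SS F m) = Nat.gcd (m + 1) (Fintype.card F - 1) := by
  classical
  set P : Subgroup Fˣ := (powMonoidHom (m + 1) : Fˣ →* Fˣ).range with hP
  let f : Fˣ ⧸ P → SS F m := Quotient.lift Psi (fun a b hab => by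
    have : a⁻¹ * b ∈ P := QuotientGroup.leftRel_apply.mp hab
    exact (Psi_eq_iff a b).mpr this)
  have hf : Function.Bijective f := by
    constructor
    · intro x y
      refine Quotient.inductionOn₂ x y ?_
      intro a b hab
      have h1 : Psi (m := m) a = Psi b := hab
      have h2 := (Psi_eq_iff a b).mp h1
      exact Quotient.sound (QuotientGroup.leftRel_apply.mpr h2)
    · intro C
      obtain ⟨d, hd⟩ := Psi_surjective C
      exact ⟨Quotient.mk _ d, hd⟩
  rw [← Nat.card_congr (Equiv.ofBijective f hf)]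
  have h1 : Nat.card (Fˣ ⧸ P) = P.index := rfl
  rw [h1, hP, IsCyclic.index_powMonoidHom_range, Nat.card_units, Nat.card_eq_fintype_card, Nat.gcd_comm]

end

theorem result {F : Type*} [Field F] [Fintype F] {q : ℕ} (hF : Fintype.card F = q) {n : ℕ} (hn : 2 ≤ n) : Nat.card {C : ConjClasses (Matrix.SpecialLinearGroup (Fin n) F) // ∃ u : Matrix.SpecialLinearGroup (Fin n) F, ConjClasses.mk u = C ∧ ((u : Matrix (Fin n) (Fin n) F) - 1) ^ n = 0 ∧ ((u : Matrix (Fin n) (Fin n) F) - 1).rank = n - 1} = Nat.gcd n (q - 1) := by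
  obtain ⟨m, rfl⟩ : ∃ m, n = m + 1 := ⟨n - 1, by omega⟩
  subst hF
  exact main m

end Cfsg.Agent.S2578
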