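import Cfsg.Statements.S2579

set_option autoImplicit false
open Cfsg

namespace Cfsg.Agent.S2579
open Matrix Module

/-- the symmetric group is 2-transitive -/
theorem exists_perm {α : Type*} [DecidableEq α] (x₀ x₁ i j : α) (hx : x₀ ≠ x₁) (hij : i ≠ j) :
    ∃ π : Equiv.Perm α, π x₀ = i ∧ π x₁ = j := by
  have h1 : Equiv.swap x₀ i x₁ ≠ i := by
    intro h
    have := congrArg (Equiv.swap x₀ i) h
    rw [Equiv.swap_apply_self, Equiv.swap_apply_right] at this
    exact hx this.symm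
  refine ⟨Equiv.swap (Equiv.swap x₀ i x₁) j * Equiv.swap x₀ i, ?_, ?_⟩
  · rw [Equiv.Perm.mul_apply, Equiv.swap_apply_left]
    exact Equiv.swap_apply_of_ne_of_ne (Ne.symm h1) hij
  · rw [Equiv.Perm.mul_apply, Equiv.swap_apply_left]

/-- normal form of a rank one matrix of square zero -/
theorem normal_form {F : Type*} [Field F] (k : ℕ) (N : Matrix (Fin (k + 3)) (Fin (k + 3)) F)
    (hr : N.rank = 1) (hsq : N * N = 0) :
    ∃ g : Matrix (Fin (k + 3)) (Fin (k + 3)) F, g.det = 1 ∧ N * g = g * Matrix.single 0 1 (1 : F) := by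
  classical
  set f : (Fin (k + 3) → F) →ₗ[F] (Fin (k + 3) → F) := N.mulVecLin with hf
  have h1 : finrank F (LinearMap.range f) = 1 := hr
  obtain ⟨u', hu'0, hu'⟩ := finrank_eq_one_iff'.mp h1
  set u : Fin (k + 3) → F := (u' : Fin (k + 3) → F) with hu
  have hu0 : u ≠ 0 := fun h => hu'0 (Subtype.ext h)
  have hex : ∀ v : Fin (k + 3) → F, ∃ c : F, c • u = f v := by
    intro v
    obtain ⟨c, hc⟩ := hu' ⟨f v, LinearMap.mem_range_self f v⟩
    exact ⟨c, congrArg Subtype.val hc⟩
  choose φ₀ hφ₀ using hex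
  have hinj : Function.Injective (fun c : F => c • u) := smul_left_injective F hu0
  let φ : (Fin (k + 3) → F) →ₗ[F] F :=
    { toFun := φ₀
      map_add' := fun v w => hinj (by simp only [hφ₀, map_add, add_smul])
      map_smul' := fun c v => hinj (by
        simp only [hφ₀, map_smul, smul_eq_mul, mul_smul, RingHom.id_apply]) }
  have hφ : ∀ v, f v = φ v • u := fun v => (hφ₀ v).symm
  obtain ⟨v₀, hv₀⟩ : ∃ v₀, f v₀ = u := u'.2
  have hff : ∀ v, f (f v) = 0 := by
    intro v
    have : (N * N).mulVec v = 0 := by rw [hsq, Matrix.zero_mulVec]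
    rw [← Matrix.mulVec_mulVec] at this
    exact this
  have hφ0 : φ ≠ 0 := by
    intro h0
    apply hu0
    rw [← hv₀, hφ, h0, LinearMap.zero_apply, zero_smul]
  have hφu : φ u = 0 := by
    have h2 : f u = 0 := by rw [← hv₀]; exact hff v₀
    rw [hφ] at h2
    exact (smul_eq_zero.mp h2).resolve_right hu0
  obtain ⟨S, b, i, j, hij, hbi, hbj⟩ := exists_basis_of_pairing_eq_zero hφu hφ0 hu0
  haveI : Fintype S := FiniteDimensional.fintypeBasisIndex b
  have hcard : Fintype.card S = k + 3 := by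
    rw [← Module.finrank_eq_card_basis b]
    simp
  let σ₀ : Fin (k + 3) ≃ S := (Fintype.equivFinOfCardEq hcard).symm
  obtain ⟨π, hπ0, hπ1⟩ := exists_perm (σ₀ 0) (σ₀ 1) i j
    (fun h => by simpa using σ₀.injective h) hij
  let σ : Fin (k + 3) ≃ S := σ₀.trans π
  have hσ0 : σ 0 = i := hπ0
  have hσ1 : σ 1 = j := hπ1
  let b' : Basis (Fin (k + 3)) F (Fin (k + 3) → F) := b.reindex σ.symm
  have hb' : ∀ m, b' m = b (σ m) := fun m => by
    simp [b', Basis.reindex_apply]
  have hb'0 : b' 0 = u := by rw [hb', hσ0, ← hbi]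
  have hφb' : ∀ m : Fin (k + 3), φ (b' m) = if m = 1 then 1 else 0 := by
    intro m
    rw [hb', hbj, Basis.coord_apply, Basis.repr_self, Finsupp.single_apply]
    by_cases hm : m = 1
    · subst hm
      simp [hσ1]
    · have : σ m ≠ j := fun h => hm (σ.injective (h.trans hσ1.symm))
      simp [hm, this]
  -- the matrix with columns `b' m`
  set g₁ : Matrix (Fin (k + 3)) (Fin (k + 3)) F := (Pi.basisFun F (Fin (k + 3))).toMatrix b' with hg₁
  have hg₁_apply : ∀ x m, g₁ x m = b' m x := by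
    intro x m
    rw [hg₁, Basis.toMatrix_apply]
    simp
  have hg₁det : g₁.det ≠ 0 := by
    have h2 := Basis.toMatrix_mul_toMatrix_flip (Pi.basisFun F (Fin (k + 3))) b'
    have h3 := congrArg Matrix.det h2
    rw [Matrix.det_mul, Matrix.det_one] at h3
    exact left_ne_zero_of_mul_eq_one h3
  have hNg₁ : N * g₁ = g₁ * Matrix.single 0 1 (1 : F) := by
    ext x m
    have hL : (N * g₁) x m = f (b' m) x := by
      rw [Matrix.mul_apply, hf, Matrix.mulVecLin_apply, Matrix.mulVec, dotProduct]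
      apply Finset.sum_congr rfl
      intro y _
      rw [hg₁_apply]
    rw [hL, hφ, hφb']
    by_cases hm : m = 1
    · subst hm
      rw [Matrix.mul_single_apply_same, hg₁_apply, hb'0]
      simp
    · rw [Matrix.mul_single_apply_of_ne _ _ _ _ _ hm]
      simp [hm]
  -- fix the determinant
  set δ : F := (g₁.det)⁻¹ with hδ
  set d : Fin (k + 3) → F := Function.update 1 2 δ with hd
  have h02 : (0 : Fin (k + 3)) ≠ 2 := by
    intro h
    have h' := congrArg Fin.val h
    rw [Fin.val_two, Fin.val_zero] at h'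
    omega
  have h12 : (1 : Fin (k + 3)) ≠ 2 := by
    intro h
    have h' := congrArg Fin.val h
    rw [Fin.val_two, Fin.val_one] at h'
    omega
  have hd0 : d 0 = 1 := by
    rw [hd, Function.update_of_ne h02]
    rfl
  have hd1 : d 1 = 1 := by
    rw [hd, Function.update_of_ne h12]
    rfl
  have hdet : (Matrix.diagonal d).det = δ := by
    rw [Matrix.det_diagonal, Finset.prod_eq_single (2 : Fin (k + 3))]
    · simp [hd]
    · intro m _ hm
      simp [hd, Function.update_of_ne hm]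
    · intro h
      exact absurd (Finset.mem_univ _) h
  have hcomm : Matrix.single 0 1 (1 : F) * Matrix.diagonal d =
      Matrix.diagonal d * (Matrix.single 0 1 (1 : F) : Matrix (Fin (k + 3)) (Fin (k + 3)) F) := by
    ext x m
    rw [Matrix.mul_diagonal, Matrix.diagonal_mul, Matrix.single_apply]
    by_cases h : (0 : Fin (k + 3)) = x ∧ (1 : Fin (k + 3)) = m
    · obtain ⟨rfl, rfl⟩ := h
      simp [hd0, hd1]
    · simp [h]
  refine ⟨g₁ * Matrix.diagonal d, ?_, ?_⟩
  · rw [Matrix.det_mul, hdet, hδ, mul_inv_cancel₀ hg₁det]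
  · rw [← Matrix.mul_assoc, hNg₁, Matrix.mul_assoc, hcomm, Matrix.mul_assoc]

/-- every transvection is conjugate in `SL_n` to the standard one -/
theorem conj_std {F : Type*} [Field F] (k : ℕ) (t : Matrix.SpecialLinearGroup (Fin (k + 3)) F)
    (ht : Cfsg.IsTransvection (t : Matrix (Fin (k + 3)) (Fin (k + 3)) F)) :
    ∃ G : Matrix.SpecialLinearGroup (Fin (k + 3)) F,
      ((G⁻¹ * t * G : Matrix.SpecialLinearGroup (Fin (k + 3)) F) : Matrix (Fin (k + 3)) (Fin (k + 3)) F) =
        1 + Matrix.single 0 1 (1 : F) := by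
  obtain ⟨g, hgdet, hg⟩ := normal_form k ((t : Matrix (Fin (k + 3)) (Fin (k + 3)) F) - 1) ht.1 ht.2
  refine ⟨⟨g, hgdet⟩, ?_⟩
  have h1 : (t : Matrix (Fin (k + 3)) (Fin (k + 3)) F) * g = g * (1 + Matrix.single 0 1 (1 : F)) := by
    rw [Matrix.mul_add, Matrix.mul_one, ← hg, Matrix.sub_mul, Matrix.one_mul]
    abel
  set G : Matrix.SpecialLinearGroup (Fin (k + 3)) F := ⟨g, hgdet⟩ with hG
  have h2 : ((G⁻¹ * G : Matrix.SpecialLinearGroup (Fin (k + 3)) F) : Matrix (Fin (k + 3)) (Fin (k + 3)) F) = 1 := by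
    rw [inv_mul_cancel]
    rfl
  rw [Matrix.SpecialLinearGroup.coe_mul] at h2
  rw [Matrix.SpecialLinearGroup.coe_mul, Matrix.SpecialLinearGroup.coe_mul, Matrix.mul_assoc]
  have h3 : (G : Matrix (Fin (k + 3)) (Fin (k + 3)) F) = g := rfl
  rw [h3, h1, ← Matrix.mul_assoc, ← h3, h2, Matrix.one_mul]

/-- In SL_n(F) with n ≥ 3, over a finite field F, any two transvections (matrices t with t − 1 of rank one and square zero) are conjugate by an element of SL_n(F). -/
theorem result {F : Type*} [Field F] [Finite F] {n : ℕ} (hn : 3 ≤ n) (s t : Matrix.SpecialLinearGroup (Fin n) F) (hs : Cfsg.IsTransvection (s : Matrix (Fin n) (Fin n) F)) (ht : Cfsg.IsTransvection (t : Matrix (Fin n) (Fin n) F)) : IsConj s t := by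
  obtain ⟨k, rfl⟩ : ∃ k, n = k + 3 := ⟨n - 3, by omega⟩
  obtain ⟨Gs, hGs⟩ := conj_std k s hs
  obtain ⟨Gt, hGt⟩ := conj_std k t ht
  have hA : Gs⁻¹ * s * Gs = Gt⁻¹ * t * Gt := by
    apply Subtype.ext
    rw [hGs, hGt]
  rw [isConj_iff]
  refine ⟨Gt * Gs⁻¹, ?_⟩
  have h1 : t = Gt * (Gt⁻¹ * t * Gt) * Gt⁻¹ := by group
  rw [h1, ← hA]
  group

end Cfsg.Agent.S2579
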