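import Mathlib
import Cfsg.Statements.S2581
import Cfsg.Agent.Helper8.JCentF

set_option autoImplicit false
open Cfsg

namespace Cfsg.Agent.S2581

/-- Order of the centraliser in GL of a unipotent matrix of given Jordan type over the field with q elements: if the type has a_i blocks of size i (all block sizes at least 1), the invertible matrices commuting with it number q^γ · Π_i |GL_(a_i)(q)| with γ = 2 Σ_(i<j) i a_i a_j + Σ_i (i − 1) a_i² (a group of order q^γ extended by Π GL_(a_i)(q)). -/
theorem result {F : Type*} [Field F] [Fintype F] {q : ℕ} (hF : Fintype.card F = q) {t : ℕ} (d : Fin t → ℕ) (hd : ∀ k, 1 ≤ d k) : Nat.card {g : GL ((k : Fin t) × Fin (d k)) F // (g : Matrix ((k : Fin t) × Fin (d k)) ((k : Fin t) × Fin (d k)) F) * Cfsg.jordanTypeMatrix d F = Cfsg.jordanTypeMatrix d F * (g : Matrix ((k : Fin t) × Fin (d k)) ((k : Fin t) × Fin (d k)) F)} = q ^ (2 * (∑ i ∈ Finset.range (Finset.univ.sup d + 1), ∑ j ∈ Finset.range (Finset.univ.sup d + 1), if i < j then i * (Finset.univ.filter (fun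 k : Fin t => d k = i)).card * (Finset.univ.filter (fun k : Fin t => d k = j)).card else 0) + ∑ i ∈ Finset.range (Finset.univ.sup d + 1), (i - 1) * (Finset.univ.filter (fun k : Fin t => d k = i)).card ^ 2) * ∏ i ∈ Finset.range (Finset.univ.sup d + 1), ∏ j : Fin ((Finset.univ.filter (fun k : Fin t => d k = i)).card), (q ^ (Finset.univ.filter (fun k : Fin t => d k = i)).card - q ^ (j : ℕ)) := by

  classical
  have h := Cfsg.Agent.Helper8.JCent.card_preimage_mul (Cfsg.Agent.Helper8.JCent.Phi (F := F) d)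
    (Cfsg.Agent.Helper8.JCent.Phi_surjective d hd) (Cfsg.Agent.Helper8.JCent.UU d F)
  rw [Cfsg.Agent.Helper8.JCent.card_TT, Cfsg.Agent.Helper8.JCent.card_UU,
    Cfsg.Agent.Helper8.JCent.card_VV d hd, Cfsg.Agent.Helper8.JCent.sum_min_eq d hd, pow_add,
    hF] at h
  rw [Nat.card_congr (Cfsg.Agent.Helper8.JCent.centEquiv (F := F) d hd)]
  have hq : 0 < q := by
    rw [← hF]
    exact Fintype.card_pos
  apply Nat.eq_of_mul_eq_mul_right (pow_pos hq (∑ i ∈ Finset.range (Finset.univ.sup d + 1),
      (Finset.univ.filter (fun k : Fin t => d k = i)).card ^ 2))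
  rw [h]
  ring

end Cfsg.Agent.S2581
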