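import Cfsg.Statements.S2585
import Cfsg.Agent.S2574

set_option autoImplicit false
open Cfsg

namespace Cfsg.Agent.S2585
open Matrix

section basic
variable {F : Type*} [Field F] {m : ℕ}

local notation "VV" => (Fin m ⊕ Fin m → F)

theorem sf_add_left (u u' v : Fin m ⊕ Fin m → F) :
    Cfsg.sympForm m F (u + u') v = Cfsg.sympForm m F u v + Cfsg.sympForm m F u' v := by
  unfold Cfsg.sympForm
  rw [add_dotProduct]

theorem sf_add_right (u v v' : Fin m ⊕ Fin m → F) :
    Cfsg.sympForm m F u (v + v') = Cfsg.sympForm m F u v + Cfsg.sympForm m F u v' := by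
  unfold Cfsg.sympForm
  rw [Matrix.mulVec_add, dotProduct_add]

theorem sf_smul_left (c : F) (u v : Fin m ⊕ Fin m → F) :
    Cfsg.sympForm m F (c • u) v = c * Cfsg.sympForm m F u v := by
  unfold Cfsg.sympForm
  rw [smul_dotProduct, smul_eq_mul]

theorem J_mulVec_inl (v : Fin m ⊕ Fin m → F) (i : Fin m) :
    (Matrix.J (Fin m) F *ᵥ v) (Sum.inl i) = - v (Sum.inr i) := by
  rw [Matrix.J, Matrix.fromBlocks_mulVec]
  simp [Matrix.neg_mulVec]

theorem J_mulVec_inr (v : Fin m ⊕ Fin m → F) (i : Fin m) :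
    (Matrix.J (Fin m) F *ᵥ v) (Sum.inr i) = v (Sum.inl i) := by
  rw [Matrix.J, Matrix.fromBlocks_mulVec]
  simp

theorem sf_eq (u v : Fin m ⊕ Fin m → F) :
    Cfsg.sympForm m F u v =
      ∑ i : Fin m, (u (Sum.inr i) * v (Sum.inl i) - u (Sum.inl i) * v (Sum.inr i)) := by
  unfold Cfsg.sympForm
  rw [dotProduct, Fintype.sum_sum_type, Finset.sum_sub_distrib]
  simp only [J_mulVec_inl, J_mulVec_inr, mul_neg, Finset.sum_neg_distrib]
  ring

theorem sf_nondeg (y : Fin m ⊕ Fin m → F) (h : ∀ w, Cfsg.sympForm m F w y = 0) : y = 0 := by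
  funext k
  rcases k with i | i
  · have := h (Pi.single (Sum.inr i) 1)
    unfold Cfsg.sympForm at this
    rw [single_dotProduct, one_mul, J_mulVec_inr] at this
    exact this
  · have := h (Pi.single (Sum.inl i) 1)
    unfold Cfsg.sympForm at this
    rw [single_dotProduct, one_mul, J_mulVec_inl, neg_eq_zero] at this
    exact this

/-- every linear functional is represented by the symplectic form -/
theorem exists_repr (φ : (Fin m ⊕ Fin m → F) →ₗ[F] F) :
    ∃ a : Fin m ⊕ Fin m → F, ∀ v, φ v = Cfsg.sympForm m F v a := by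
  classical
  let c : Fin m ⊕ Fin m → F := fun k => φ (fun j => if k = j then 1 else 0)
  refine ⟨-(Matrix.J (Fin m) F *ᵥ c), ?_⟩
  intro v
  unfold Cfsg.sympForm
  rw [Matrix.mulVec_neg, Matrix.mulVec_mulVec, Matrix.J_squared, Matrix.neg_mulVec, Matrix.one_mulVec,
    neg_neg, LinearMap.pi_apply_eq_sum_univ φ v, dotProduct]
  apply Finset.sum_congr rfl
  intro k _
  rw [smul_eq_mul]

/-- the hyperbolic quadratic form -/
noncomputable def Q0F (m : ℕ) (F : Type*) [Field F] : QuadraticForm F (Fin m ⊕ Fin m → F) :=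
  ∑ i : Fin m, QuadraticMap.linMulLin (LinearMap.proj (Sum.inl i)) (LinearMap.proj (Sum.inr i))

theorem Q0F_apply (v : Fin m ⊕ Fin m → F) : Q0F m F v = ∑ i : Fin m, v (Sum.inl i) * v (Sum.inr i) := by
  unfold Q0F
  rw [_root_.sum_apply]
  rfl

end basic

section char2
variable {F : Type*} [Field F] [CharP F 2] {m : ℕ}

theorem sf_comm (u v : Fin m ⊕ Fin m → F) : Cfsg.sympForm m F u v = Cfsg.sympForm m F v u := by
  rw [sf_eq, sf_eq]
  apply Finset.sum_congr rfl
  intro i _
  rw [CharTwo.sub_eq_add, CharTwo.sub_eq_add]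
  ring

theorem polar_Q0F (u v : Fin m ⊕ Fin m → F) :
    QuadraticMap.polar ⇑(Q0F m F) u v = Cfsg.sympForm m F u v := by
  unfold QuadraticMap.polar
  rw [Q0F_apply, Q0F_apply, Q0F_apply, sf_eq, ← Finset.sum_sub_distrib, ← Finset.sum_sub_distrib]
  apply Finset.sum_congr rfl
  intro i _
  rw [CharTwo.sub_eq_add (u (Sum.inr i) * v (Sum.inl i))]
  simp only [Pi.add_apply]
  ring

theorem Q0F_add (u v : Fin m ⊕ Fin m → F) :
    Q0F m F (u + v) = Q0F m F u + Q0F m F v + Cfsg.sympForm m F u v := by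
  rw [← polar_Q0F]
  unfold QuadraticMap.polar
  ring

end char2

section main
variable {F : Type*} [Field F] [Fintype F] [CharP F 2] {m : ℕ}

omit [Fintype F] in
theorem add_self_vec (x : Fin m ⊕ Fin m → F) : x + x = 0 := by
  funext k
  exact CharTwo.add_self_eq_zero (x k)

/-- Over a finite field of characteristic two every element of the symplectic group is orthogonal for a suitable quadratic form: for each A in Sp_2m(F) there is a quadratic form Q on F^(2m) whose polar form is the alternating form defining Sp_2m(F) (so Q is non-degenerate) and which A preserves. Equivalently, for m ≥ 1, Sp_2m(F) is the union of the conjugates of its two orthogonal subgroups O⁺_2m(F) and O⁻_2m(F). -/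
theorem result {F : Type*} [Field F] [Fintype F] [CharP F 2] {m : ℕ} (A : Matrix.symplecticGroup (Fin m) F) : ∃ Q : QuadraticForm F (Fin m ⊕ Fin m → F), (∀ u v : Fin m ⊕ Fin m → F, QuadraticMap.polar ⇑Q u v = Cfsg.sympForm m F u v) ∧ ∀ v : Fin m ⊕ Fin m → F, Q ((A : Matrix (Fin m ⊕ Fin m) (Fin m ⊕ Fin m) F).mulVec v) = Q v := by
  classical
  set M : Matrix (Fin m ⊕ Fin m) (Fin m ⊕ Fin m) F := (A : Matrix (Fin m ⊕ Fin m) (Fin m ⊕ Fin m) F) with hM
  set B : Matrix (Fin m ⊕ Fin m) (Fin m ⊕ Fin m) F :=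
    ((A⁻¹ : Matrix.symplecticGroup (Fin m) F) : Matrix (Fin m ⊕ Fin m) (Fin m ⊕ Fin m) F) with hB
  have hBA : B * M = 1 := congrArg Subtype.val (inv_mul_cancel A)
  have hAB : M * B = 1 := congrArg Subtype.val (mul_inv_cancel A)
  have hinvA : ∀ x y : Fin m ⊕ Fin m → F,
      Cfsg.sympForm m F (M *ᵥ x) (M *ᵥ y) = Cfsg.sympForm m F x y := S2574.sympForm_invariant A
  have hinvB : ∀ x y : Fin m ⊕ Fin m → F,
      Cfsg.sympForm m F (B *ᵥ x) (B *ᵥ y) = Cfsg.sympForm m F x y := S2574.sympForm_invariant A⁻¹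
  let D : (Fin m ⊕ Fin m → F) → F := fun v => Q0F m F (M *ᵥ v) + Q0F m F v
  have hD : ∀ v, D v = Q0F m F (M *ᵥ v) + Q0F m F v := fun v => rfl
  have hD_add : ∀ u v, D (u + v) = D u + D v := by
    intro u v
    rw [hD, hD, hD, Matrix.mulVec_add, Q0F_add, Q0F_add, hinvA]
    have := CharTwo.add_self_eq_zero (Cfsg.sympForm m F u v)
    linear_combination this
  have hD_smul : ∀ (c : F) v, D (c • v) = c * c * D v := by
    intro c v
    rw [hD, hD, Matrix.mulVec_smul, QuadraticMap.map_smul, QuadraticMap.map_smul]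
    simp only [smul_eq_mul]
    ring
  let sq : F ≃+* F := (frobeniusEquiv F 2).symm
  have hsq : ∀ x, sq x ^ 2 = x := frobeniusEquiv_symm_pow_p F 2
  have hsq' : ∀ c, sq (c * c) = c := by
    intro c
    have := frobeniusEquiv_symm_apply_frobenius F 2 c
    rw [frobenius_def, pow_two] at this
    exact this
  let lam : (Fin m ⊕ Fin m → F) →ₗ[F] F :=
    { toFun := fun v => sq (D v)
      map_add' := by
        intro u v
        rw [hD_add, map_add]
      map_smul' := by
        intro c v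
        rw [hD_smul, map_mul, hsq']
        rfl }
  obtain ⟨a, ha⟩ := exists_repr lam
  have hDa : ∀ v, D v = (Cfsg.sympForm m F v a) ^ 2 := by
    intro v
    rw [← ha]
    exact (hsq (D v)).symm
  let T : (Fin m ⊕ Fin m → F) →ₗ[F] (Fin m ⊕ Fin m → F) := LinearMap.id + B.mulVecLin
  have hT : ∀ w, T w = w + B *ᵥ w := fun w => rfl
  have hrange : a ∈ LinearMap.range T := by
    by_contra hnot
    obtain ⟨φ, hφa, hφ⟩ := Submodule.exists_dual_map_eq_bot_of_notMem hnot inferInstance
    obtain ⟨x, hx⟩ := exists_repr φ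
    have h1 : ∀ w, Cfsg.sympForm m F (T w) x = 0 := by
      intro w
      rw [← hx]
      have hmem : φ (T w) ∈ Submodule.map φ (LinearMap.range T) := ⟨T w, ⟨w, rfl⟩, rfl⟩
      rw [hφ] at hmem
      exact (Submodule.mem_bot F).mp hmem
    have h2 : ∀ w, Cfsg.sympForm m F w (x + M *ᵥ x) = 0 := by
      intro w
      have h3 := h1 w
      rw [hT, sf_add_left] at h3
      have h4 : Cfsg.sympForm m F (B *ᵥ w) x = Cfsg.sympForm m F w (M *ᵥ x) := by
        rw [← hinvA (B *ᵥ w) x, Matrix.mulVec_mulVec, hAB, Matrix.one_mulVec]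
      rw [h4, ← sf_add_right] at h3
      exact h3
    have h3 : x + M *ᵥ x = 0 := sf_nondeg _ h2
    have hMx : M *ᵥ x = x := by
      have h4 : M *ᵥ x = M *ᵥ x + (x + x) := by rw [add_self_vec, add_zero]
      rw [h4, ← add_assoc, add_comm (M *ᵥ x) x, h3, zero_add]
    have h4 : D x = 0 := by
      rw [hD, hMx]
      exact CharTwo.add_self_eq_zero _
    have h5 : Cfsg.sympForm m F x a = 0 := by
      have h6 := hDa x
      rw [h4] at h6
      exact (pow_eq_zero_iff (two_ne_zero)).mp h6.symm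
    apply hφa
    rw [hx, sf_comm]
    exact h5
  obtain ⟨w, hw⟩ := hrange
  rw [hT] at hw
  let mu : (Fin m ⊕ Fin m → F) →ₗ[F] F :=
    { toFun := fun v => Cfsg.sympForm m F v w
      map_add' := fun u v => sf_add_left u v w
      map_smul' := fun c v => sf_smul_left c v w }
  have hmu : ∀ v, mu v = Cfsg.sympForm m F v w := fun v => rfl
  refine ⟨Q0F m F + QuadraticMap.linMulLin mu mu, ?_, ?_⟩
  · intro u v
    unfold QuadraticMap.polar
    simp only [_root_.add_apply, QuadraticMap.linMulLin_apply, hmu]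
    rw [Q0F_add, sf_add_left]
    have h2 : (2 : F) = 0 := CharTwo.two_eq_zero
    linear_combination (Cfsg.sympForm m F u w * Cfsg.sympForm m F v w) * h2
  · intro v
    simp only [_root_.add_apply, QuadraticMap.linMulLin_apply, hmu]
    have h1 : Q0F m F (M *ᵥ v) = Q0F m F v + (Cfsg.sympForm m F v a) ^ 2 := by
      have h2 := hDa v
      rw [hD] at h2
      have h3 := CharTwo.add_self_eq_zero (Q0F m F v)
      linear_combination h2 - h3
    have h2 : Cfsg.sympForm m F (M *ᵥ v) w = Cfsg.sympForm m F v (B *ᵥ w) := by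
      rw [← hinvB (M *ᵥ v) w, Matrix.mulVec_mulVec, hBA, Matrix.one_mulVec]
    have h3 : Cfsg.sympForm m F v a = Cfsg.sympForm m F v w + Cfsg.sympForm m F v (B *ᵥ w) := by
      rw [← sf_add_right, hw]
    rw [h1, h2, h3]
    have h4 : (2 : F) = 0 := CharTwo.two_eq_zero
    linear_combination (Cfsg.sympForm m F v w * Cfsg.sympForm m F v (B *ᵥ w) +
      Cfsg.sympForm m F v (B *ᵥ w) * Cfsg.sympForm m F v (B *ᵥ w)) * h4

end main

end Cfsg.Agent.S2585
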