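import Mathlib
import Cfsg.Statements.S2588
import Cfsg.Agent.Helper8.ConjGUB

set_option autoImplicit false
open Cfsg

namespace Cfsg.Agent.S2588

open Cfsg.Agent.Helper8.GUOrder Cfsg.Agent.Helper8.PSUSing Cfsg.Agent.Helper8.ConjGU

/-- An invertible matrix A over the field with q² elements is conjugate in GL_n(q²) to an element of the general unitary group GU_n(q) (isometries of the Hermitian form Σ u_i v_i^q) if and only if A is similar to the inverse transpose of its entrywise q-th power (A ~ A^(−qT), the image of A under the map sending a matrix to the inverse transpose of its entrywise q-th power — inverse transpose composed with the field automorphism — whose fixed points form GU_n(q)). -/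
theorem result {K : Type*} [Field K] [Fintype K] {q n : ℕ} (hK : Fintype.card K = q ^ 2) (A : GL (Fin n) K) : (∃ B : ↥(Cfsg.GU n K q), IsConj A (B : GL (Fin n) K)) ↔ IsConj (A : Matrix (Fin n) (Fin n) K) (((A : Matrix (Fin n) (Fin n) K).map (fun x : K => x ^ q)).transpose)⁻¹ := by

  have hFact : Fact (Fintype.card K = q ^ 2) := ⟨hK⟩
  have hst : ((A : Matrix (Fin n) (Fin n) K).map (fun x : K => x ^ q)).transpose
      = st (q := q) (A : Matrix (Fin n) (Fin n) K) := rfl
  rw [hst]
  have hA1 : (A : Matrix (Fin n) (Fin n) K) * ((A⁻¹ : GL (Fin n) K) : Matrix (Fin n) (Fin n) K)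
      = 1 := by
    rw [← Units.val_mul, mul_inv_cancel, Units.val_one]
  have hA2 : ((A⁻¹ : GL (Fin n) K) : Matrix (Fin n) (Fin n) K) * (A : Matrix (Fin n) (Fin n) K)
      = 1 := by
    rw [← Units.val_mul, inv_mul_cancel, Units.val_one]
  have hsA1 : st (q := q) (A : Matrix (Fin n) (Fin n) K) *
      st (q := q) ((A⁻¹ : GL (Fin n) K) : Matrix (Fin n) (Fin n) K) = 1 := by
    rw [← st_mul, hA2, st_one]
  have hinv : (st (q := q) (A : Matrix (Fin n) (Fin n) K))⁻¹
      = st (q := q) ((A⁻¹ : GL (Fin n) K) : Matrix (Fin n) (Fin n) K) :=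
    Matrix.inv_eq_right_inv hsA1
  rw [hinv]
  constructor
  · rintro ⟨B, hB⟩
    rw [isConj_iff] at hB
    obtain ⟨x, hx⟩ := hB
    rw [mul_inv_eq_iff_eq_mul] at hx
    have hBu : st (q := q) ((B : GL (Fin n) K) : Matrix (Fin n) (Fin n) K) *
        ((B : GL (Fin n) K) : Matrix (Fin n) (Fin n) K) = 1 :=
      (unitary_iff_st _).mp ((mem_GU_iff hK B.1).mp B.2)
    have hBu' : ((B : GL (Fin n) K) : Matrix (Fin n) (Fin n) K) *
        st (q := q) ((B : GL (Fin n) K) : Matrix (Fin n) (Fin n) K) = 1 := mul_eq_one_comm.mp hBu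
    have hx1 : (x : Matrix (Fin n) (Fin n) K) * ((x⁻¹ : GL (Fin n) K) : Matrix (Fin n) (Fin n) K)
        = 1 := by
      rw [← Units.val_mul, mul_inv_cancel, Units.val_one]
    have hx2 : ((x⁻¹ : GL (Fin n) K) : Matrix (Fin n) (Fin n) K) * (x : Matrix (Fin n) (Fin n) K)
        = 1 := by
      rw [← Units.val_mul, inv_mul_cancel, Units.val_one]
    have hconj : (x : Matrix (Fin n) (Fin n) K) * (A : Matrix (Fin n) (Fin n) K)
        = ((B : GL (Fin n) K) : Matrix (Fin n) (Fin n) K) * (x : Matrix (Fin n) (Fin n) K) := by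
      rw [← Units.val_mul, ← Units.val_mul, hx]
    generalize (x : Matrix (Fin n) (Fin n) K) = X at *
    generalize ((x⁻¹ : GL (Fin n) K) : Matrix (Fin n) (Fin n) K) = Xi at *
    generalize ((B : GL (Fin n) K) : Matrix (Fin n) (Fin n) K) = Bm at *
    generalize (A : Matrix (Fin n) (Fin n) K) = Am at *
    generalize ((A⁻¹ : GL (Fin n) K) : Matrix (Fin n) (Fin n) K) = Ai at *
    have hsx1 : st (q := q) Xi * st (q := q) X = 1 := by rw [← st_mul, hx1, st_one]
    have hsx2 : st (q := q) X * st (q := q) Xi = 1 := by rw [← st_mul, hx2, st_one]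
    -- `st A * (st X * X) * A = st X * X`
    have hform : st (q := q) Am * (st (q := q) X * X) * Am = st (q := q) X * X := by
      have e := congrArg (st (q := q)) hconj
      rw [st_mul, st_mul] at e
      calc st (q := q) Am * (st (q := q) X * X) * Am
          = (st (q := q) Am * st (q := q) X) * (X * Am) := by simp only [Matrix.mul_assoc]
        _ = (st (q := q) X * st (q := q) Bm) * (Bm * X) := by rw [e, hconj]
        _ = st (q := q) X * (st (q := q) Bm * Bm) * X := by simp only [Matrix.mul_assoc]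
        _ = st (q := q) X * X := by rw [hBu, Matrix.mul_one]
    refine ⟨⟨st (q := q) X * X, Xi * st (q := q) Xi, ?_, ?_⟩, ?_⟩
    · calc st (q := q) X * X * (Xi * st (q := q) Xi)
          = st (q := q) X * (X * Xi) * st (q := q) Xi := by simp only [Matrix.mul_assoc]
        _ = 1 := by rw [hx1, Matrix.mul_one, hsx2]
    · calc Xi * st (q := q) Xi * (st (q := q) X * X)
          = Xi * (st (q := q) Xi * st (q := q) X) * X := by simp only [Matrix.mul_assoc]
        _ = 1 := by rw [hsx1, Matrix.mul_one, hx2]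
    · show st (q := q) X * X * Am = st (q := q) Ai * (st (q := q) X * X)
      have hsA2 : st (q := q) Ai * st (q := q) Am = 1 := by rw [← st_mul, hA1, st_one]
      calc st (q := q) X * X * Am
          = (st (q := q) Ai * st (q := q) Am) * (st (q := q) X * X * Am) := by
            rw [hsA2, Matrix.one_mul]
        _ = st (q := q) Ai * (st (q := q) Am * (st (q := q) X * X) * Am) := by
            simp only [Matrix.mul_assoc]
        _ = st (q := q) Ai * (st (q := q) X * X) := by rw [hform]
  · rintro ⟨c, hc⟩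
    have hc' : (c : Matrix (Fin n) (Fin n) K) * (A : Matrix (Fin n) (Fin n) K)
        = st (q := q) ((A⁻¹ : GL (Fin n) K) : Matrix (Fin n) (Fin n) K) *
          (c : Matrix (Fin n) (Fin n) K) := hc
    have hc1 : (c : Matrix (Fin n) (Fin n) K) *
        ((c⁻¹ : (Matrix (Fin n) (Fin n) K)ˣ) : Matrix (Fin n) (Fin n) K) = 1 := by
      rw [← Units.val_mul, mul_inv_cancel, Units.val_one]
    have hform : st (q := q) (A : Matrix (Fin n) (Fin n) K) * (c : Matrix (Fin n) (Fin n) K) *
        (A : Matrix (Fin n) (Fin n) K) = (c : Matrix (Fin n) (Fin n) K) := by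
      rw [Matrix.mul_assoc, hc', ← Matrix.mul_assoc, hsA1, Matrix.one_mul]
    obtain ⟨P, Pi, hP1, hPu⟩ := exists_unitary_conj_of_form (q := q) _ _ _ _ hA1 hc1 hform
    have hP2 : Pi * P = 1 := mul_eq_one_comm.mp hP1
    refine ⟨(guEquiv hK).symm ⟨P * (A : Matrix (Fin n) (Fin n) K) * Pi,
      (unitary_iff_st _).mpr hPu⟩, ?_⟩
    rw [isConj_iff]
    refine ⟨⟨P, Pi, hP1, hP2⟩, ?_⟩
    apply Units.ext
    rfl

end Cfsg.Agent.S2588
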