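import Cfsg.Statements.S2599

set_option autoImplicit false
open Cfsg

namespace Cfsg.Agent.S2599

/-- An irreducible invariant subspace of a semisimple isometry is non-degenerate or totally singular: let Q be a quadratic form on F^n (F finite of characteristic p) with non-degenerate polar form f, x an isometry of Q of order prime to p, and U a non-zero x-invariant subspace containing no x-invariant subspace other than 0 and U. Then U meets its f-orthogonal trivially, or Q vanishes on U, or p = 2, U is a line spanned by a non-singular vector and x fixes U pointwise. -/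
theorem result {F : Type*} [Field F] [Fintype F] {p : ℕ} [Fact p.Prime] [CharP F p] {n : ℕ} (Q : QuadraticForm F (Fin n → F)) (hQ : (QuadraticMap.polarBilin Q).Nondegenerate) (x : ↥(Cfsg.isometryGroup F ⇑Q)) (hx : (orderOf x).Coprime p) (U : Submodule F (Fin n → F)) (hU0 : U ≠ ⊥) (hUx : ∀ u ∈ U, ((x : Matrix.GeneralLinearGroup (Fin n) F) : Matrix (Fin n) (Fin n) F).mulVec u ∈ U) (hirr : ∀ W : Submodule F (Fin n → F), W ≤ U → (∀ w ∈ W, ((x : Matrix.GeneralLinearGroup (Fin n) F) : Matrix (Fin n) (Fin n) F).mulVec w ∈ W) → W = ⊥ ∨ W = U) : U ⊓ LinearMap.BilinForm.orthogonal (QuadraticMap.polarBilin Q) U = ⊥ ∨ (∀ u ∈ U, Q u = 0) ∨ (p = 2 ∧ Module.finrank F U = 1 ∧ (∃ u ∈ U, Q u ≠ 0) ∧ ∀ u ∈ U, ((x : Matrix.GeneralLinearGroup (Fin n) F) : Matrix (Fin n) (Fin n) F).mulVec u = u) := by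
  set M : Matrix (Fin n) (Fin n) F := ((x : Matrix.GeneralLinearGroup (Fin n) F) : Matrix (Fin n) (Fin n) F) with hM
  set B := QuadraticMap.polarBilin Q with hB
  -- isometry
  have hiso : ∀ v, Q (M.mulVec v) = Q v := fun v => x.2 v v
  have hBapp : ∀ u v, B u v = Q (u + v) - Q u - Q v := fun u v => rfl
  have hBiso : ∀ u v, B (M.mulVec u) (M.mulVec v) = B u v := by
    intro u v
    rw [hBapp, hBapp, ← Matrix.mulVec_add, hiso, hiso, hiso]
  -- M maps U onto U
  let fU : U →ₗ[F] U := (Matrix.mulVecLin M).restrict hUx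
  have hfU_inj : Function.Injective fU := by
    intro a b hab
    have h1 : M.mulVec (a : Fin n → F) = M.mulVec (b : Fin n → F) :=
      congrArg (fun z : U => (z : Fin n → F)) hab
    have hMinj : Function.Injective M.mulVec :=
      Matrix.mulVec_injective_of_isUnit ((x : Matrix.GeneralLinearGroup (Fin n) F).isUnit)
    exact Subtype.ext (hMinj h1)
  have hfU_surj : Function.Surjective fU := LinearMap.injective_iff_surjective.mp hfU_inj
  have honto : ∀ u ∈ U, ∃ u' ∈ U, M.mulVec u' = u := by
    intro u hu
    obtain ⟨u', hu'⟩ := hfU_surj ⟨u, hu⟩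
    refine ⟨u', u'.2, ?_⟩
    have h1 := congrArg (fun z : U => (z : Fin n → F)) hu'
    exact h1
  -- U ⊓ U^⊥ is invariant
  have hinv1 : ∀ w ∈ U ⊓ LinearMap.BilinForm.orthogonal B U,
      M.mulVec w ∈ U ⊓ LinearMap.BilinForm.orthogonal B U := by
    intro w hw
    refine ⟨hUx w hw.1, ?_⟩
    show M.mulVec w ∈ LinearMap.BilinForm.orthogonal B U
    rw [LinearMap.BilinForm.mem_orthogonal_iff]
    intro u hu
    obtain ⟨u', hu'U, rfl⟩ := honto u hu
    show B (M.mulVec u') (M.mulVec w) = 0
    rw [hBiso]
    exact (LinearMap.BilinForm.mem_orthogonal_iff.mp hw.2) u' hu'U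
  rcases hirr _ inf_le_left hinv1 with h | h
  · left; exact h
  · right
    have hUorth : ∀ u ∈ U, ∀ v ∈ U, B u v = 0 := by
      intro u hu v hv
      have hv' : v ∈ U ⊓ LinearMap.BilinForm.orthogonal B U := by rw [h]; exact hv
      exact (LinearMap.BilinForm.mem_orthogonal_iff.mp hv'.2) u hu
    have hQadd : ∀ u ∈ U, ∀ v ∈ U, Q (u + v) = Q u + Q v := by
      intro u hu v hv
      have := hUorth u hu v hv
      rw [hBapp] at this
      linear_combination this
    -- W = singular vectors of U
    let W : Submodule F (Fin n → F) :=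
      { carrier := {u | u ∈ U ∧ Q u = 0}
        add_mem' := by
          rintro a b ⟨ha, ha0⟩ ⟨hb, hb0⟩
          exact ⟨U.add_mem ha hb, by rw [hQadd a ha b hb, ha0, hb0, add_zero]⟩
        zero_mem' := ⟨U.zero_mem, QuadraticMap.map_zero Q⟩
        smul_mem' := by
          rintro c a ⟨ha, ha0⟩
          exact ⟨U.smul_mem c ha, by rw [QuadraticMap.map_smul, ha0, smul_zero]⟩ }
    have hWU : W ≤ U := fun w hw => hw.1
    have hWinv : ∀ w ∈ W, M.mulVec w ∈ W := by
      rintro w ⟨hw, hw0⟩
      exact ⟨hUx w hw, by rw [hiso, hw0]⟩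
    rcases hirr W hWU hWinv with hW | hW
    · right
      have hW0 : ∀ u ∈ U, Q u = 0 → u = 0 := by
        intro u hu hu0
        have : u ∈ W := ⟨hu, hu0⟩
        rw [hW] at this
        exact (Submodule.mem_bot F).mp this
      have h2Q : ∀ u ∈ U, (2 : F) * Q u = 0 := by
        intro u hu
        have h1 := hUorth u hu u hu
        rw [hBapp] at h1
        have h2 : Q (u + u) = 4 * Q u := by
          have : u + u = (2 : F) • u := (two_smul F u).symm
          rw [this, QuadraticMap.map_smul, smul_eq_mul]
          ring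
        rw [h2] at h1
        linear_combination h1
      obtain ⟨u₀, hu₀U, hu₀⟩ := (Submodule.ne_bot_iff U).mp hU0
      have hQu₀ : Q u₀ ≠ 0 := fun h0 => hu₀ (hW0 u₀ hu₀U h0)
      have h2 : (2 : F) = 0 := by
        rcases mul_eq_zero.mp (h2Q u₀ hu₀U) with h | h
        · exact h
        · exact absurd h hQu₀
      have hp2 : p = 2 := by
        have : ((2 : ℕ) : F) = 0 := by exact_mod_cast h2
        have hdvd := (CharP.cast_eq_zero_iff F p 2).mp this
        exact (Nat.prime_dvd_prime_iff_eq (Fact.out) Nat.prime_two).mp hdvd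
      have hfix : ∀ u ∈ U, M.mulVec u = u := by
        intro u hu
        have hmem : M.mulVec u - u ∈ U := U.sub_mem (hUx u hu) hu
        have hQ0 : Q (M.mulVec u - u) = 0 := by
          have : M.mulVec u - u = M.mulVec u + (-u) := sub_eq_add_neg _ _
          rw [this, hQadd _ (hUx u hu) _ (U.neg_mem hu), hiso, QuadraticMap.map_neg]
          have := h2Q u hu
          linear_combination this
        exact sub_eq_zero.mp (hW0 _ hmem hQ0)
      refine ⟨hp2, ?_, ⟨u₀, hu₀U, hQu₀⟩, hfix⟩
      -- span {u₀} = U
      have hspan_le : Submodule.span F {u₀} ≤ U := by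
        rw [Submodule.span_le]
        intro z hz
        rw [Set.mem_singleton_iff] at hz
        rw [hz]; exact hu₀U
      have hspan_inv : ∀ w ∈ Submodule.span F {u₀}, M.mulVec w ∈ Submodule.span F {u₀} := by
        intro w hw
        rw [hfix w (hspan_le hw)]
        exact hw
      rcases hirr _ hspan_le hspan_inv with hs | hs
      · exfalso
        apply hu₀
        have : u₀ ∈ Submodule.span F {u₀} := Submodule.mem_span_singleton_self u₀
        rw [hs] at this
        exact (Submodule.mem_bot F).mp this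
      · rw [← hs]
        exact finrank_span_singleton hu₀
    · left
      intro u hu
      have : u ∈ W := by rw [hW]; exact hu
      exact this.2

end Cfsg.Agent.S2599
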