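import Mathlib
import Cfsg.Statements.S2610
import Cfsg.Agent.Helper8.OmegaDiag
import Cfsg.Agent.S2620
import Cfsg.Agent.S2623

set_option autoImplicit false
open Cfsg

namespace Cfsg.Agent.S2610

open Module Cfsg.Agent.Helper8.QuadForm Cfsg.Agent.Helper8.OmegaDiag

/-- For a quadratic form Q on F^n with non-degenerate polar form, F finite of odd order and n ≥ 2 even, the isometry −1 lies in Ω (the commutator subgroup of the orthogonal group) if and only if the discriminant of Q (the determinant of the Gram matrix of its polar form) is a square. -/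
theorem result {F : Type*} [Field F] [Fintype F] (h2 : (2 : F) ≠ 0) {n : ℕ} (hn : 2 ≤ n) (he : Even n) (Q : QuadraticForm F (Fin n → F)) (hQ : (QuadraticMap.polarBilin Q).Nondegenerate) : (∃ g : ↥(Cfsg.isometryGroup F ⇑Q), g ∈ Cfsg.Omega F ⇑Q ∧ ((g : Matrix.GeneralLinearGroup (Fin n) F) : Matrix (Fin n) (Fin n) F) = -1) ↔ IsSquare (Matrix.of (fun i j : Fin n => QuadraticMap.polar ⇑Q (Pi.single i 1) (Pi.single j 1))).det := by
  classical
  obtain ⟨k, rfl⟩ : ∃ k, n = k + 1 := ⟨n - 1, by omega⟩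
  have hnd := (nondeg_iff Q).mp hQ
  have hV : finrank F (Fin (k + 1) → F) = k + 1 := Module.finrank_fin_fun F
  obtain ⟨b, hb1, hb0, hb3⟩ := exists_orthogonal_family h2 k Q hnd hV
  have hbne : ∀ i, Q (b i) ≠ 0 := by
    intro i
    by_cases hi : i = 0
    · rw [hi]; exact hb0
    · rw [hb3 i hi]; exact one_ne_zero
  obtain ⟨B, hB⟩ := exists_basis_of_orthogonal h2 Q hV hb1 hbne
  rw [Cfsg.Agent.S2623.gram_eq]
  obtain ⟨p, hp⟩ := Cfsg.Agent.S2623.disc_orthogonal Q B (by rw [hB]; exact hb1)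
    (by rw [hB]; exact hb3)
  rw [hB] at hp
  rw [exists_mem_iff Q h2 hQ (by rw [Fintype.card_fin]; exact hn) (List.ofFn b) ?_ ?_ (-1) ?_ ?_]
  · rw [List.length_ofFn, List.map_ofFn, List.prod_ofFn, Fin.prod_univ_succ]
    have h5 : ∏ i : Fin k, ((fun v => Q v) ∘ b) i.succ = 1 := by
      apply Finset.prod_eq_one
      intro i _
      exact hb3 _ (Fin.succ_ne_zero i)
    rw [h5, mul_one]
    show Even (k + 1) ∧ IsSquare (Q (b 0)) ↔ _
    obtain ⟨r, hr⟩ := he
    have hp0 : p ≠ 0 := by
      rintro rfl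
      rw [zero_pow (by norm_num), zero_mul] at hp
      exact (mul_ne_zero (pow_ne_zero _ h2) hb0) hp.symm
    have hdet : (LinearMap.BilinForm.toMatrix' (QuadraticMap.polarBilin Q)).det
        = (2 ^ r / p) ^ 2 * Q (b 0) := by
      have : (2 : F) ^ (k + 1) = (2 ^ r) ^ 2 := by rw [hr, ← two_mul, pow_mul, ← pow_mul, mul_comm, pow_mul]
      rw [this] at hp
      field_simp
      linear_combination hp
    rw [hdet, Cfsg.Agent.S2620.isSquare_sq_mul _ _ (div_ne_zero (pow_ne_zero _ h2) hp0)]
    constructor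
    · exact fun h => h.2
    · exact fun h => ⟨⟨r, hr⟩, h⟩
  · rw [List.pairwise_ofFn]
    intro i j hij
    exact hb1 i j (ne_of_lt hij)
  · intro z hz
    obtain ⟨i, rfl⟩ := (List.mem_ofFn' b z).mp hz
    exact hbne i
  · intro v _
    rw [Matrix.neg_mulVec, Matrix.one_mulVec]
  · intro x hx
    have hx0 : x = 0 := by
      apply hnd
      intro w
      have h0 : QuadraticMap.polarBilin Q x = 0 := by
        apply B.ext
        intro i
        rw [hB, LinearMap.zero_apply, QuadraticMap.polarBilin_apply_apply, QuadraticMap.polar_comm]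
        exact hx (b i) ((List.mem_ofFn' b _).mpr ⟨i, rfl⟩)
      have := congrArg (fun φ => φ w) h0
      exact this
    rw [hx0, Matrix.mulVec_zero]

end Cfsg.Agent.S2610
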