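import Mathlib
import Cfsg.Statements.S2612
import Cfsg.Agent.Helper8.EvenRefl
import Cfsg.Agent.Helper8.OmegaDiag
import Cfsg.Agent.S2629
import Cfsg.Agent.S2630

set_option autoImplicit false
open Cfsg

namespace Cfsg.Agent.S2612

open Module Cfsg.Agent.Helper8.StdForms Cfsg.Agent.Helper8.MaxSingular
  Cfsg.Agent.Helper8.Reflections Cfsg.Agent.Helper8.ReflMatrix Cfsg.Agent.Helper8.OrthOrder
  Cfsg.Agent.Helper8.OmegaEven Cfsg.Agent.Helper8.EvenRefl Cfsg.Agent.Helper8.OmegaDiag

variable {F : Type*} [Field F] {m : ℕ}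

theorem finrank_inf_eq_zero (M : Matrix (Fin m ⊕ Fin m) (Fin m ⊕ Fin m) F)
    (hM : ∀ v : Fin m ⊕ Fin m → F, (∀ i, v (Sum.inr i) = 0) → ∀ i, (M.mulVec v) (Sum.inl i) = 0) :
    Module.finrank F ↥(LinearMap.ker (LinearMap.funLeft F F (Sum.inr : Fin m → Fin m ⊕ Fin m)) ⊓
      (LinearMap.ker (LinearMap.funLeft F F (Sum.inr : Fin m → Fin m ⊕ Fin m))).map
        (Matrix.mulVecLin M)) = 0 := by
  have : (LinearMap.ker (LinearMap.funLeft F F (Sum.inr : Fin m → Fin m ⊕ Fin m)) ⊓
      (LinearMap.ker (LinearMap.funLeft F F (Sum.inr : Fin m → Fin m ⊕ Fin m))).map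
        (Matrix.mulVecLin M)) = ⊥ := by
    rw [eq_bot_iff]
    rintro v ⟨hv1, w, hw, rfl⟩
    rw [SetLike.mem_coe, LinearMap.mem_ker] at hv1 hw
    have hw' : ∀ i, w (Sum.inr i) = 0 := fun i => congrFun hw i
    have h1 := hM w hw'
    rw [Submodule.mem_bot]
    funext k
    rcases k with k | k
    · exact h1 k
    · exact congrFun hv1 k
  rw [this, finrank_bot]

/-- the matrix interchanging the two halves of the coordinates. -/
def Smat (F : Type*) [Field F] (m : ℕ) : Matrix (Fin m ⊕ Fin m) (Fin m ⊕ Fin m) F :=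
  Matrix.fromBlocks 0 1 1 0

theorem Smat_mulVec (v : Fin m ⊕ Fin m → F) :
    (Smat F m).mulVec v = Sum.elim (v ∘ Sum.inr) (v ∘ Sum.inl) := by
  unfold Smat
  rw [Matrix.fromBlocks_mulVec]
  simp

theorem Smat_mul_self : Smat F m * Smat F m = 1 := by
  unfold Smat
  rw [Matrix.fromBlocks_multiply]
  simp

theorem plusForm_Smat (v : Fin m ⊕ Fin m → F) :
    plusForm F m ((Smat F m).mulVec v) = plusForm F m v := by
  rw [plusForm_apply, plusForm_apply, Smat_mulVec]
  unfold Cfsg.quadFormPlus
  apply Finset.sum_congr rfl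
  intro i _
  simp [mul_comm]

/-- the interchange as an isometry. -/
noncomputable def sElt (F : Type*) [Field F] (m : ℕ) : ↥(Cfsg.isometryGroup F ⇑(plusForm F m)) :=
  ⟨⟨Smat F m, Smat F m, Smat_mul_self, Smat_mul_self⟩, by
    rw [mem_isometryGroup_iff]
    intro v
    rw [glEquiv_apply]
    exact plusForm_Smat v⟩

/-- the vectors `e_i - f_i`. -/
def dvec (F : Type*) [Field F] (m : ℕ) (i : Fin m) : Fin m ⊕ Fin m → F :=
  Pi.single (Sum.inl i) 1 - Pi.single (Sum.inr i) 1

theorem dvec_inl (i j : Fin m) : dvec F m i (Sum.inl j) = if j = i then 1 else 0 := by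
  unfold dvec
  simp [Pi.single_apply]

theorem dvec_inr (i j : Fin m) : dvec F m i (Sum.inr j) = if j = i then -1 else 0 := by
  unfold dvec
  by_cases h : j = i
  · simp [Pi.single_apply, h]
  · simp [Pi.single_apply, h]

theorem Q_dvec (i : Fin m) : plusForm F m (dvec F m i) = -1 := by
  rw [plusForm_apply]
  unfold Cfsg.quadFormPlus
  simp only [dvec_inl, dvec_inr]
  rw [Finset.sum_eq_single i]
  · simp
  · intro j _ hj
    simp [hj]
  · simp

theorem polar_dvec (i : Fin m) (x : Fin m ⊕ Fin m → F) :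
    QuadraticMap.polar (plusForm F m) (dvec F m i) x = x (Sum.inr i) - x (Sum.inl i) := by
  rw [polar_plusForm]
  simp only [dvec_inl, dvec_inr]
  simp [Finset.sum_ite_eq', sub_eq_add_neg]

theorem Smat_dvec (i : Fin m) : (Smat F m).mulVec (dvec F m i) = -dvec F m i := by
  rw [Smat_mulVec]
  funext k
  rcases k with k | k
  · simp only [Sum.elim_inl, Function.comp_apply, Pi.neg_apply, dvec_inl, dvec_inr]
    split_ifs <;> simp
  · simp only [Sum.elim_inr, Function.comp_apply, Pi.neg_apply, dvec_inl, dvec_inr]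
    split_ifs <;> simp

/-- For the hyperbolic quadratic form Σ x_i y_i on F^(2m) (F finite, m ≥ 1, excluding m = 2 over the field of two elements), Ω⁺_2m(F) (the commutator subgroup of the orthogonal group) contains an element interchanging the two complementary maximal totally singular subspaces {y = 0} and {x = 0} if and only if m is even (dimension divisible by 4). -/
theorem result {F : Type*} [Field F] [Fintype F] {m : ℕ} (hm : 1 ≤ m) (h : Fintype.card F ≠ 2 ∨ m ≠ 2) : (∃ g : ↥(Cfsg.isometryGroup F (Cfsg.quadFormPlus m F)), g ∈ Cfsg.Omega F (Cfsg.quadFormPlus m F) ∧ (∀ v : Fin m ⊕ Fin m → F, (∀ i, v (Sum.inr i) = 0) → ∀ i, (((g : Matrix.GeneralLinearGroup (Fin m ⊕ Fin m) F) : Matrix (Fin m ⊕ Fin m) (Fin m ⊕ Fin m) F).mulVec v) (Sum.inl i) = 0) ∧ (∀ v : Fin m ⊕ Fin m → F, (∀ i, v (Sum.inl i) = 0) → ∀ i, (((g : Matrix.GeneralLinearGroup (Fin m ⊕ Fin m) F) : Matrix (Fin m ⊕ Fin m) (Fin m ⊕ Fin m) F).mulVec v) (Sum.inr i) = 0)) ↔ Even m := by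
  classical
  have hQeq : Cfsg.quadFormPlus m F = ⇑(plusForm F m) :=
    funext (fun v => (plusForm_apply F m v).symm)
  rw [hQeq]
  have hcard : Fintype.card (Fin m ⊕ Fin m) = m + m := by
    rw [Fintype.card_sum, Fintype.card_fin]
  have hn : 2 ≤ Fintype.card (Fin m ⊕ Fin m) := by rw [hcard]; omega
  constructor
  · rintro ⟨g, hgΩ, hg1, -⟩
    have hfin := finrank_inf_eq_zero _ hg1
    by_cases h2 : (2 : F) = 0
    · haveI : CharP F 2 := CharTwo.of_one_ne_zero_of_two_eq_zero one_ne_zero h2
      have key := Cfsg.Agent.S2630.result (F := F) hm h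
      rw [hQeq] at key
      have := (key g).mpr hgΩ
      rw [hfin, Nat.sub_zero] at this
      exact this
    · have key := Cfsg.Agent.S2629.result (F := F) h2 hm
      rw [hQeq] at key
      have hdet : ((g : Matrix.GeneralLinearGroup (Fin m ⊕ Fin m) F) :
          Matrix (Fin m ⊕ Fin m) (Fin m ⊕ Fin m) F).det = 1 := by
        let φ : ↥(Cfsg.isometryGroup F ⇑(plusForm F m)) →* Fˣ :=
          Matrix.GeneralLinearGroup.det.comp (Cfsg.isometryGroup F ⇑(plusForm F m)).subtype
        have h1 : g ∈ φ.ker := Abelianization.commutator_subset_ker φ hgΩ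
        have h3 : φ g = 1 := MonoidHom.mem_ker.1 h1
        have := congrArg Units.val h3
        exact this
      have := (key g).mpr hdet
      rw [hfin, Nat.sub_zero] at this
      exact this
  · intro hev
    have hconds : ∀ g : ↥(Cfsg.isometryGroup F ⇑(plusForm F m)),
        ((g : Matrix.GeneralLinearGroup (Fin m ⊕ Fin m) F) :
          Matrix (Fin m ⊕ Fin m) (Fin m ⊕ Fin m) F) = Smat F m →
        (∀ v : Fin m ⊕ Fin m → F, (∀ i, v (Sum.inr i) = 0) → ∀ i,
          (((g : Matrix.GeneralLinearGroup (Fin m ⊕ Fin m) F) :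
            Matrix (Fin m ⊕ Fin m) (Fin m ⊕ Fin m) F).mulVec v) (Sum.inl i) = 0) ∧
        (∀ v : Fin m ⊕ Fin m → F, (∀ i, v (Sum.inl i) = 0) → ∀ i,
          (((g : Matrix.GeneralLinearGroup (Fin m ⊕ Fin m) F) :
            Matrix (Fin m ⊕ Fin m) (Fin m ⊕ Fin m) F).mulVec v) (Sum.inr i) = 0) := by
      intro g hg
      rw [hg]
      constructor
      · intro v hv i
        rw [Smat_mulVec]
        exact hv i
      · intro v hv i
        rw [Smat_mulVec]
        exact hv i
    by_cases h2 : (2 : F) = 0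
    · haveI : CharP F 2 := CharTwo.of_one_ne_zero_of_two_eq_zero one_ne_zero h2
      have key := Cfsg.Agent.S2630.result (F := F) hm h
      rw [hQeq] at key
      refine ⟨sElt F m, ?_, hconds (sElt F m) rfl⟩
      apply (key (sElt F m)).mp
      have hfin := finrank_inf_eq_zero (F := F) (m := m) (Smat F m) (by
        intro v hv i
        rw [Smat_mulVec]
        exact hv i)
      have : ((sElt F m : Matrix.GeneralLinearGroup (Fin m ⊕ Fin m) F) :
          Matrix (Fin m ⊕ Fin m) (Fin m ⊕ Fin m) F) = Smat F m := rfl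
      rw [this, hfin, Nat.sub_zero]
      exact hev
    · have hl : ∀ z ∈ List.ofFn (dvec F m), plusForm F m z ≠ 0 := by
        intro z hz
        rw [List.mem_ofFn] at hz
        obtain ⟨i, rfl⟩ := hz
        rw [Q_dvec]
        exact neg_ne_zero.mpr one_ne_zero
      have hpw : (List.ofFn (dvec F m)).Pairwise
          (fun u w => QuadraticMap.polar (plusForm F m) u w = 0) := by
        rw [List.pairwise_ofFn]
        intro i j hij
        have hne : i ≠ j := ne_of_lt hij
        rw [polar_dvec, dvec_inl, dvec_inr, if_neg hne, if_neg hne, sub_zero]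
      have hD1 : ∀ v ∈ List.ofFn (dvec F m), (Smat F m).mulVec v = -v := by
        intro z hz
        rw [List.mem_ofFn] at hz
        obtain ⟨i, rfl⟩ := hz
        exact Smat_dvec i
      have hD2 : ∀ x, (∀ v ∈ List.ofFn (dvec F m),
          QuadraticMap.polar (plusForm F m) v x = 0) → (Smat F m).mulVec x = x := by
        intro x hx
        have hx' : ∀ i, x (Sum.inr i) = x (Sum.inl i) := by
          intro i
          have := hx (dvec F m i) (by rw [List.mem_ofFn]; exact ⟨i, rfl⟩)
          rw [polar_dvec, sub_eq_zero] at this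
          exact this
        rw [Smat_mulVec]
        funext k
        rcases k with k | k
        · exact hx' k
        · exact (hx' k).symm
      have hiff := exists_mem_iff (plusForm F m) h2 (plusForm_nondeg F m) hn (List.ofFn (dvec F m))
        hpw hl (Smat F m) hD1 hD2
      obtain ⟨g, hgΩ, hgD⟩ := hiff.mpr (by
        refine ⟨by rw [List.length_ofFn]; exact hev, ?_⟩
        rw [List.map_ofFn, List.prod_ofFn]
        have : ∀ i : Fin m, ((fun v => plusForm F m v) ∘ dvec F m) i = -1 := fun i => Q_dvec i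
        rw [Finset.prod_congr rfl (fun i _ => this i), Finset.prod_const, Finset.card_univ,
          Fintype.card_fin, hev.neg_one_pow]
        exact IsSquare.one)
      exact ⟨g, hgΩ, hconds g hgD⟩

end Cfsg.Agent.S2612
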