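import Mathlib
import Cfsg.Statements.S2614
import Cfsg.Agent.Helper8.OmegaStd2

set_option autoImplicit false
open Cfsg

namespace Cfsg.Agent.S2614

open Cfsg.Agent.Helper8.OmegaDiag Cfsg.Agent.Helper8.OmegaStd Cfsg.Agent.Helper8.OmegaStd2
  Cfsg.Agent.Helper8.StdForms

/-- For the form x_0² + Σ x_j y_j on F^(2m+1), F finite with q elements, q odd, and 1 ≤ i ≤ m: the involution of determinant one negating the first i hyperbolic pairs (and fixing x_0 and the other pairs) lies in Ω_(2m+1)(q) (commutator subgroup of the orthogonal group) if and only if q^i ≡ 1 (mod 4); its (−1)-eigenspace is a hyperbolic 2i-space. -/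
theorem result {F : Type*} [Field F] [Fintype F] {q : ℕ} (hF : Fintype.card F = q) (hq : Odd q) {m : ℕ} (i : ℕ) (hi : 1 ≤ i) (him : i ≤ m) : (∃ g : ↥(Cfsg.isometryGroup F (Cfsg.quadFormOdd m F)), g ∈ Cfsg.Omega F (Cfsg.quadFormOdd m F) ∧ ((g : Matrix.GeneralLinearGroup (Unit ⊕ (Fin m ⊕ Fin m)) F) : Matrix (Unit ⊕ (Fin m ⊕ Fin m)) (Unit ⊕ (Fin m ⊕ Fin m)) F) = Matrix.diagonal (fun k : Unit ⊕ (Fin m ⊕ Fin m) => if (Sum.elim (fun _ : Unit => i) (Sum.elim (fun j : Fin m => (j : ℕ)) (fun j : Fin m => (j : ℕ))) k) < i then (-1 : F) else 1)) ↔ q ^ i % 4 = 1 := by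
  classical
  have hQeq : Cfsg.quadFormOdd m F = ⇑(oddForm F m) :=
    funext (fun v => (oddForm_apply F m v).symm)
  rw [hQeq]
  have h2 : (2 : F) ≠ 0 := two_ne_zero_of_odd (by rw [hF]; exact hq)
  rw [← isSquare_neg_one_pow_iff hF hq i]
  have hlen := length_firstIdx i him
  suffices key : _ ↔ IsSquare ((-1 : F) ^ (firstIdx i him).length) by
    rw [hlen] at key
    exact key
  refine hyp_negation_mem_iff (oddForm F m) h2 (oddForm_nondeg F m h2)
    (by simp only [Fintype.card_sum, Fintype.card_fin, Fintype.card_unique]; omega) (odd_isHyp F m)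
    (firstIdx i him) (firstIdx_nodup i him) _ ?_ ?_ ?_
  · intro j hj
    rw [mem_firstIdx] at hj
    funext k
    rw [Matrix.mulVec_diagonal, Pi.neg_apply, Pi.single_apply]
    by_cases hk : k = Sum.inr (Sum.inl j)
    · subst hk
      simp [hj]
    · simp [hk]
  · intro j hj
    rw [mem_firstIdx] at hj
    funext k
    rw [Matrix.mulVec_diagonal, Pi.neg_apply, Pi.single_apply]
    by_cases hk : k = Sum.inr (Sum.inr j)
    · subst hk
      simp [hj]
    · simp [hk]
  · intro x hx
    funext k
    rw [Matrix.mulVec_diagonal]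
    rcases k with k | k | k
    · simp
    · by_cases hk : (k : ℕ) < i
      · have := (hx k ((mem_firstIdx i him k).mpr hk)).2
        rw [odd_polar_f] at this
        simp [this]
      · simp [hk]
    · by_cases hk : (k : ℕ) < i
      · have := (hx k ((mem_firstIdx i him k).mpr hk)).1
        rw [odd_polar_e] at this
        simp [this]
      · simp [hk]

end Cfsg.Agent.S2614
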