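import Mathlib
import Cfsg.Statements.S2615
import Cfsg.Agent.Helper8.OmegaStd2

set_option autoImplicit false
open Cfsg

namespace Cfsg.Agent.S2615

open Cfsg.Agent.Helper8.OmegaDiag Cfsg.Agent.Helper8.OmegaStd Cfsg.Agent.Helper8.OmegaStd2
  Cfsg.Agent.Helper8.StdForms

/-- For an elliptic form Σ_(j<m−1) x_j y_j + (z₁² + a z₁z₂ + b z₂²) (anisotropic binary part) on F^(2m), F finite with q elements, q odd, and 1 ≤ i ≤ m − 1: the involution negating the first i hyperbolic pairs and fixing the rest lies in Ω⁻_2m(q) (commutator subgroup of the orthogonal group) if and only if q^i ≡ 1 (mod 4). -/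
theorem result {F : Type*} [Field F] [Fintype F] {q : ℕ} (hF : Fintype.card F = q) (hq : Odd q) {m : ℕ} (a b : F) (hab : ∀ z₁ z₂ : F, z₁ ^ 2 + a * z₁ * z₂ + b * z₂ ^ 2 = 0 → z₁ = 0 ∧ z₂ = 0) (i : ℕ) (hi : 1 ≤ i) (him : i + 1 ≤ m) : (∃ g : ↥(Cfsg.isometryGroup F (Cfsg.quadFormMinus (m - 1) F a b)), g ∈ Cfsg.Omega F (Cfsg.quadFormMinus (m - 1) F a b) ∧ ((g : Matrix.GeneralLinearGroup ((Fin (m - 1) ⊕ Fin (m - 1)) ⊕ Fin 2) F) : Matrix ((Fin (m - 1) ⊕ Fin (m - 1)) ⊕ Fin 2) ((Fin (m - 1) ⊕ Fin (m - 1)) ⊕ Fin 2) F) = Matrix.diagonal (fun k : (Fin (m - 1) ⊕ Fin (m - 1)) ⊕ Fin 2 => if (Sum.elim (Sum.elim (fun j : Fin (m - 1) => (j : ℕ)) (fun j : Fin (m - 1) => (j : ℕ))) (fun _ : Fin 2 => i) k) < i then (-1 : F) else 1)) ↔ q ^ i % 4 = 1 := by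
  classical
  have hQeq : Cfsg.quadFormMinus (m - 1) F a b = ⇑(minusForm F (m - 1) a b) :=
    funext (fun v => (minusForm_apply F (m - 1) a b v).symm)
  rw [hQeq]
  have h2 : (2 : F) ≠ 0 := two_ne_zero_of_odd (by rw [hF]; exact hq)
  have him' : i ≤ m - 1 := by omega
  rw [← isSquare_neg_one_pow_iff hF hq i]
  have hlen := length_firstIdx i him'
  suffices key : _ ↔ IsSquare ((-1 : F) ^ (firstIdx i him').length) by
    rw [hlen] at key
    exact key
  refine hyp_negation_mem_iff (minusForm F (m - 1) a b) h2 (minusForm_nondeg F (m - 1) hab)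
    (by simp only [Fintype.card_sum, Fintype.card_fin]; omega) (minus_isHyp F (m - 1) a b)
    (firstIdx i him') (firstIdx_nodup i him') _ ?_ ?_ ?_
  · intro j hj
    rw [mem_firstIdx] at hj
    funext k
    rw [Matrix.mulVec_diagonal, Pi.neg_apply, Pi.single_apply]
    by_cases hk : k = Sum.inl (Sum.inl j)
    · subst hk
      simp [hj]
    · simp [hk]
  · intro j hj
    rw [mem_firstIdx] at hj
    funext k
    rw [Matrix.mulVec_diagonal, Pi.neg_apply, Pi.single_apply]
    by_cases hk : k = Sum.inl (Sum.inr j)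
    · subst hk
      simp [hj]
    · simp [hk]
  · intro x hx
    funext k
    rw [Matrix.mulVec_diagonal]
    rcases k with (k | k) | k
    · by_cases hk : (k : ℕ) < i
      · have := (hx k ((mem_firstIdx i him' k).mpr hk)).2
        rw [minus_polar_f] at this
        simp [this]
      · simp [hk]
    · by_cases hk : (k : ℕ) < i
      · have := (hx k ((mem_firstIdx i him' k).mpr hk)).1
        rw [minus_polar_e] at this
        simp [this]
      · simp [hk]
    · simp

end Cfsg.Agent.S2615
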