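import Cfsg.Statements.S2618
import Cfsg.Agent.Helper8.QuadForm
import Mathlib

set_option autoImplicit false
open Cfsg

namespace Cfsg.Agent.S2618

open Module Cfsg.Agent.Helper8.QuadForm

/-- Standard (parabolic) basis of a non-degenerate quadratic space of odd dimension 2m + 1 over a finite field (the non-degeneracy of the polar form forces the characteristic to be odd): there is a basis e_i, f_i (i < m), x with Q(e_i) = Q(f_i) = 0, B(e_i, f_j) = δ_ij (B the polar form), the e's pairwise orthogonal and the f's pairwise orthogonal, x orthogonal to all of them and Q(x) ≠ 0. -/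
theorem result {F V : Type*} [Field F] [Finite F] [AddCommGroup V] [Module F V] [FiniteDimensional F V] {m : ℕ} (hV : Module.finrank F V = 2 * m + 1) (Q : QuadraticForm F V) (hQ : (QuadraticMap.polarBilin Q).Nondegenerate) : ∃ b : Module.Basis (Unit ⊕ (Fin m ⊕ Fin m)) F V, Q (b (Sum.inl ())) ≠ 0 ∧ (∀ i, QuadraticMap.polar ⇑Q (b (Sum.inl ())) (b (Sum.inr (Sum.inl i))) = 0 ∧ QuadraticMap.polar ⇑Q (b (Sum.inl ())) (b (Sum.inr (Sum.inr i))) = 0) ∧ (∀ i, Q (b (Sum.inr (Sum.inl i))) = 0 ∧ Q (b (Sum.inr (Sum.inr i))) = 0) ∧ (∀ i j, QuadraticMap.polar ⇑Q (b (Sum.inr (Sum.inl i))) (b (Sum.inr (Sum.inr j))) = if i = j then 1 else 0) ∧ (∀ i j, QuadraticMap.polar ⇑Q (b (Sum.inr (Sum.inl i))) (b (Sum.inr (Sum.inl j))) = 0 ∧ QuadraticMap.polar ⇑Q (b (Sum.inr (Sum.inr i))) (b (Sum.inr (Sum.inr j))) = 0) := by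
  classical
  obtain ⟨e, f, W, ⟨h1, h2, h3⟩, hperp, hWdim, hWnd⟩ :=
    exists_hyp_family m Q ((nondeg_iff Q).mp hQ) 1 le_rfl hV
  obtain ⟨x, hxW, hxx, hx⟩ := ne_zero_of_line Q hWdim hWnd
  have h2' : ∀ i j, QuadraticMap.polar Q (f i) (e j) = if i = j then 1 else 0 := by
    intro i j
    rw [QuadraticMap.polar_comm, h2 j i]
    simp only [eq_comm]
  have hli : LinearIndependent F (Sum.elim (fun _ : Unit => x) (Sum.elim e f)) := by
    refine linearIndependent_of_dual Q _ (Sum.elim (fun _ : Unit => x) (Sum.elim f e))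
      (Sum.elim (fun _ => QuadraticMap.polar Q x x) (fun _ => 1)) ?_ ?_
    · rintro (i | i)
      · exact hxx
      · exact one_ne_zero
    · rintro (i | i | i) (j | j | j)
      · simp
      · simp only [Sum.elim_inl, Sum.elim_inr, reduceCtorEq, if_false]
        rw [QuadraticMap.polar_comm]
        exact (hperp x hxW j).2
      · simp only [Sum.elim_inl, Sum.elim_inr, reduceCtorEq, if_false]
        rw [QuadraticMap.polar_comm]
        exact (hperp x hxW j).1
      · simp only [Sum.elim_inl, Sum.elim_inr, reduceCtorEq, if_false]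
        exact (hperp x hxW i).1
      · simp only [Sum.elim_inl, Sum.elim_inr, Sum.inr.injEq, Sum.inl.injEq]
        exact h2 i j
      · simp only [Sum.elim_inl, Sum.elim_inr, Sum.inr.injEq, reduceCtorEq, if_false]
        exact (h3 i j).1
      · simp only [Sum.elim_inl, Sum.elim_inr, reduceCtorEq, if_false]
        exact (hperp x hxW i).2
      · simp only [Sum.elim_inl, Sum.elim_inr, Sum.inr.injEq, reduceCtorEq, if_false]
        exact (h3 i j).2
      · simp only [Sum.elim_inl, Sum.elim_inr, Sum.inr.injEq]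
        exact h2' i j
  refine ⟨basisOfLinearIndependentOfCardEqFinrank hli (by simp [hV]; omega), ?_⟩
  simp only [coe_basisOfLinearIndependentOfCardEqFinrank, Sum.elim_inl, Sum.elim_inr]
  refine ⟨hx, fun i => ⟨?_, ?_⟩, h1, h2, h3⟩
  · rw [QuadraticMap.polar_comm]; exact (hperp x hxW i).1
  · rw [QuadraticMap.polar_comm]; exact (hperp x hxW i).2

end Cfsg.Agent.S2618
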