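import Cfsg.Statements.S2619

set_option autoImplicit false
open Cfsg

namespace Cfsg.Agent.S2619

/-- Over a finite field of characteristic two, given an alternating bilinear form B on a finite-dimensional space, a basis (v_i) and scalars (λ_i), there is exactly one quadratic form whose polar form is B and whose value at each v_i is λ_i. -/
theorem result {F V ι : Type*} [Field F] [Finite F] [CharP F 2] [AddCommGroup V] [Module F V] [Fintype ι] (b : Module.Basis ι F V) (B : LinearMap.BilinForm F V) (hB : B.IsAlt) (c : ι → F) : ∃! Q : QuadraticForm F V, QuadraticMap.polarBilin Q = B ∧ ∀ i, Q (b i) = c i := by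
  classical
  letI : LinearOrder ι := IsWellOrder.linearOrder WellOrderingRel
  -- symmetry of B in characteristic 2
  have hsymm : ∀ x y, B x y = B y x := by
    intro x y
    have := hB.neg_eq x y
    rw [← this, CharTwo.neg_eq]
  let A : LinearMap.BilinForm F V :=
    b.constr (S := F) fun i =>
      b.constr (S := F) fun j =>
        if i = j then c i else if i < j then B (b i) (b j) else 0
  have hA : ∀ i j, A (b i) (b j) = if i = j then c i else if i < j then B (b i) (b j) else 0 := by
    intro i j
    show ((b.constr (S := F) fun i =>
      b.constr (S := F) fun j =>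
        if i = j then c i else if i < j then B (b i) (b j) else 0) (b i)) (b j) = _
    rw [Module.Basis.constr_basis, Module.Basis.constr_basis]
  refine ⟨LinearMap.BilinMap.toQuadraticMap A, ⟨?_, ?_⟩, ?_⟩
  · rw [LinearMap.BilinMap.polarBilin_toQuadraticMap]
    apply LinearMap.BilinForm.ext_basis b
    intro i j
    rw [LinearMap.add_apply, LinearMap.add_apply, LinearMap.flip_apply, hA i j, hA j i]
    rcases lt_trichotomy i j with h | h | h
    · rw [if_neg (ne_of_lt h), if_pos h, if_neg (ne_of_gt h), if_neg (not_lt_of_gt h), add_zero]
    · subst h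
      rw [if_pos rfl, CharTwo.add_self_eq_zero, hB (b i)]
    · rw [if_neg (ne_of_gt h), if_neg (not_lt_of_gt h), if_neg (ne_of_lt h), if_pos h, zero_add]
      exact hsymm _ _
  · intro i
    rw [LinearMap.BilinMap.toQuadraticMap_apply, hA i i, if_pos rfl]
  · rintro Q ⟨hQ1, hQ2⟩
    have h1 : QuadraticMap.toBilin Q b = A := by
      apply LinearMap.BilinForm.ext_basis b
      intro i j
      rw [QuadraticMap.toBilin_apply, hA i j, hQ2 i]
      have : QuadraticMap.polar Q (b i) (b j) = B (b i) (b j) := by
        rw [← hQ1]
        rfl
      rw [this]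
    calc Q = LinearMap.BilinMap.toQuadraticMap (QuadraticMap.toBilin Q b) :=
          (QuadraticMap.toQuadraticMap_toBilin Q b).symm
      _ = LinearMap.BilinMap.toQuadraticMap A := by rw [h1]

end Cfsg.Agent.S2619
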