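import Cfsg.Statements.S2625
import Mathlib

set_option autoImplicit false
open Cfsg

namespace Cfsg.Agent.S2625

theorem result {F : Type*} [Field F] [Fintype F] {n : ℕ} (hn : Odd n) (Q : QuadraticForm F (Fin n → F)) (hQ : (QuadraticMap.polarBilin Q).Nondegenerate) (g : (Fin n → F) ≃ₗ[F] (Fin n → F)) (c : F) (hg : ∀ v, Q (g v) = c * Q v) : IsSquare c := by
  classical
  set B : LinearMap.BilinForm F (Fin n → F) := QuadraticMap.polarBilin Q with hB
  have hBg : B.comp (g : (Fin n → F) →ₗ[F] (Fin n → F)) (g : (Fin n → F) →ₗ[F] (Fin n → F)) = c • B := by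
    refine LinearMap.ext (fun u => LinearMap.ext (fun v => ?_))
    simp only [LinearMap.BilinForm.comp_apply, LinearEquiv.coe_coe, LinearMap.smul_apply, smul_eq_mul, hB,
      QuadraticMap.polarBilin_apply_apply, QuadraticMap.polar]
    rw [← map_add, hg, hg, hg]
    ring
  have hdet : (LinearMap.BilinForm.toMatrix' B).det ≠ 0 := by
    have := (LinearMap.BilinForm.nondegenerate_iff_det_ne_zero (B := B) (Pi.basisFun F (Fin n))).mp hQ
    rwa [LinearMap.BilinForm.toMatrix_basisFun] at this
  have hmat := congrArg LinearMap.BilinForm.toMatrix' hBg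
  rw [LinearMap.BilinForm.toMatrix'_comp, map_smul] at hmat
  have hd := congrArg Matrix.det hmat
  rw [Matrix.det_mul, Matrix.det_mul, Matrix.det_transpose, Matrix.det_smul, Fintype.card_fin] at hd
  set G := (LinearMap.toMatrix' (g : (Fin n → F) →ₗ[F] (Fin n → F))).det with hG
  set D := (LinearMap.BilinForm.toMatrix' B).det with hD
  have h2 : G * G = c ^ n := by
    have : G * G * D = c ^ n * D := by rw [← hd]; ring
    exact mul_right_cancel₀ hdet this
  obtain ⟨k, hk⟩ := hn
  by_cases hc : c = 0
  · exact ⟨0, by simp [hc]⟩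
  · refine ⟨G / c ^ k, ?_⟩
    have hck : c ^ k ≠ 0 := pow_ne_zero k hc
    rw [hk] at h2
    have : G / c ^ k * (G / c ^ k) = (G * G) / (c ^ k * c ^ k) := by ring
    rw [this, h2]
    field_simp
    ring

end Cfsg.Agent.S2625
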