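import Cfsg.Statements.S2626
import Mathlib

set_option autoImplicit false
open Cfsg

namespace Cfsg.Agent.S2626

open Matrix

/-- `M ↦ diag(M, 1)` as a monoid hom. -/
def blockL (F : Type*) [Field F] (k l : ℕ) : Matrix (Fin k) (Fin k) F →* Matrix (Fin k ⊕ Fin l) (Fin k ⊕ Fin l) F where
  toFun M := Matrix.fromBlocks M 0 0 1
  map_one' := Matrix.fromBlocks_one
  map_mul' A B := by
    rw [Matrix.fromBlocks_multiply]
    simp

/-- `M ↦ diag(1, M)` as a monoid hom. -/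
def blockR (F : Type*) [Field F] (k l : ℕ) : Matrix (Fin l) (Fin l) F →* Matrix (Fin k ⊕ Fin l) (Fin k ⊕ Fin l) F where
  toFun M := Matrix.fromBlocks 1 0 0 M
  map_one' := Matrix.fromBlocks_one
  map_mul' A B := by
    rw [Matrix.fromBlocks_multiply]
    simp

theorem blockL_mem {F : Type*} [Field F] {k l : ℕ} (Q₁ : (Fin k → F) → F) (Q₂ : (Fin l → F) → F)
    (g : GL (Fin k) F) (hg : g ∈ Cfsg.isometryGroup F Q₁) :
    Units.map (blockL F k l) g ∈ Cfsg.isometryGroup F (fun v : Fin k ⊕ Fin l → F => Q₁ (v ∘ Sum.inl) + Q₂ (v ∘ Sum.inr)) := by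
  intro u v
  have h1 := hg (u ∘ Sum.inl) (u ∘ Sum.inl)
  simp only [Units.coeHom_apply, Units.coe_map, MonoidHom.coe_coe] at h1 ⊢
  show Q₁ ((Matrix.fromBlocks (g : Matrix (Fin k) (Fin k) F) 0 0 1 *ᵥ u) ∘ Sum.inl) +
    Q₂ ((Matrix.fromBlocks (g : Matrix (Fin k) (Fin k) F) 0 0 1 *ᵥ u) ∘ Sum.inr) = _
  rw [Matrix.fromBlocks_mulVec]
  simp only [Matrix.zero_mulVec, add_zero, zero_add, Matrix.one_mulVec]
  have e1 : (Sum.elim ((g : Matrix (Fin k) (Fin k) F) *ᵥ (u ∘ Sum.inl)) (u ∘ Sum.inr)) ∘ Sum.inl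
      = (g : Matrix (Fin k) (Fin k) F) *ᵥ (u ∘ Sum.inl) := by ext i; simp
  have e2 : (Sum.elim ((g : Matrix (Fin k) (Fin k) F) *ᵥ (u ∘ Sum.inl)) (u ∘ Sum.inr)) ∘ Sum.inr
      = u ∘ Sum.inr := by ext i; simp
  rw [e1, e2, h1]

theorem blockR_mem {F : Type*} [Field F] {k l : ℕ} (Q₁ : (Fin k → F) → F) (Q₂ : (Fin l → F) → F)
    (g : GL (Fin l) F) (hg : g ∈ Cfsg.isometryGroup F Q₂) :
    Units.map (blockR F k l) g ∈ Cfsg.isometryGroup F (fun v : Fin k ⊕ Fin l → F => Q₁ (v ∘ Sum.inl) + Q₂ (v ∘ Sum.inr)) := by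
  intro u v
  have h1 := hg (u ∘ Sum.inr) (u ∘ Sum.inr)
  simp only [Units.coeHom_apply, Units.coe_map, MonoidHom.coe_coe] at h1 ⊢
  show Q₁ ((Matrix.fromBlocks 1 0 0 (g : Matrix (Fin l) (Fin l) F) *ᵥ u) ∘ Sum.inl) +
    Q₂ ((Matrix.fromBlocks 1 0 0 (g : Matrix (Fin l) (Fin l) F) *ᵥ u) ∘ Sum.inr) = _
  rw [Matrix.fromBlocks_mulVec]
  simp only [Matrix.zero_mulVec, add_zero, zero_add, Matrix.one_mulVec]
  have e1 : (Sum.elim (u ∘ Sum.inl) ((g : Matrix (Fin l) (Fin l) F) *ᵥ (u ∘ Sum.inr))) ∘ Sum.inl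
      = u ∘ Sum.inl := by ext i; simp
  have e2 : (Sum.elim (u ∘ Sum.inl) ((g : Matrix (Fin l) (Fin l) F) *ᵥ (u ∘ Sum.inr))) ∘ Sum.inr
      = (g : Matrix (Fin l) (Fin l) F) *ᵥ (u ∘ Sum.inr) := by ext i; simp
  rw [e1, e2, h1]

/-- A group hom maps the commutator subgroup into the commutator subgroup. -/
theorem map_mem_commutator {G H : Type*} [Group G] [Group H] (f : G →* H) (g : G) (hg : g ∈ commutator G) :
    f g ∈ commutator H := by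
  have h1 : (commutator G).map f ≤ commutator H := by
    rw [commutator_def, commutator_def, Subgroup.map_commutator]
    exact Subgroup.commutator_mono le_top le_top
  exact h1 (Subgroup.mem_map_of_mem f hg)

theorem result {F : Type*} [Field F] [Fintype F] {k l : ℕ} (Q₁ : QuadraticForm F (Fin k → F)) (Q₂ : QuadraticForm F (Fin l → F)) (h₁ : (QuadraticMap.polarBilin Q₁).Nondegenerate) (h₂ : (QuadraticMap.polarBilin Q₂).Nondegenerate) (g₁ : ↥(Cfsg.isometryGroup F ⇑Q₁)) (g₂ : ↥(Cfsg.isometryGroup F ⇑Q₂)) (hg₁ : g₁ ∈ Cfsg.Omega F ⇑Q₁) (hg₂ : g₂ ∈ Cfsg.Omega F ⇑Q₂) : ∃ g : ↥(Cfsg.isometryGroup F (fun v : Fin k ⊕ Fin l → F => Q₁ (v ∘ Sum.inl) + Q₂ (v ∘ Sum.inr))), g ∈ Cfsg.Omega F (fun v : Fin k ⊕ Fin l → F => Q₁ (v ∘ Sum.inl) + Q₂ (v ∘ Sum.inr)) ∧ ((g : Matrix.GeneralLinearGroup (Fin k ⊕ Fin l) F) : Matrix (Fin k ⊕ Fin l) (Fin k ⊕ Fin l) F) = Matrix.fromBlocks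 ((g₁ : Matrix.GeneralLinearGroup (Fin k) F) : Matrix (Fin k) (Fin k) F) 0 0 ((g₂ : Matrix.GeneralLinearGroup (Fin l) F) : Matrix (Fin l) (Fin l) F) := by
  let Q : (Fin k ⊕ Fin l → F) → F := fun v => Q₁ (v ∘ Sum.inl) + Q₂ (v ∘ Sum.inr)
  let ψ₁ : ↥(Cfsg.isometryGroup F ⇑Q₁) →* ↥(Cfsg.isometryGroup F Q) :=
    ((Units.map (blockL F k l)).comp (Cfsg.isometryGroup F ⇑Q₁).subtype).codRestrict (Cfsg.isometryGroup F Q)
      (fun g => blockL_mem (⇑Q₁) (⇑Q₂) g.1 g.2)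
  let ψ₂ : ↥(Cfsg.isometryGroup F ⇑Q₂) →* ↥(Cfsg.isometryGroup F Q) :=
    ((Units.map (blockR F k l)).comp (Cfsg.isometryGroup F ⇑Q₂).subtype).codRestrict (Cfsg.isometryGroup F Q)
      (fun g => blockR_mem (⇑Q₁) (⇑Q₂) g.1 g.2)
  refine ⟨ψ₁ g₁ * ψ₂ g₂, ?_, ?_⟩
  · exact (commutator _).mul_mem (map_mem_commutator ψ₁ g₁ hg₁) (map_mem_commutator ψ₂ g₂ hg₂)
  · show (Matrix.fromBlocks ((g₁ : GL (Fin k) F) : Matrix (Fin k) (Fin k) F) 0 0 1) *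
      (Matrix.fromBlocks 1 0 0 ((g₂ : GL (Fin l) F) : Matrix (Fin l) (Fin l) F)) = _
    rw [Matrix.fromBlocks_multiply]
    simp

end Cfsg.Agent.S2626
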