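import Mathlib
import Cfsg.Statements.S2627
import Cfsg.Agent.Helper8.DirectSum

set_option autoImplicit false
open Cfsg

namespace Cfsg.Agent.S2627

open Cfsg.Agent.Helper8.DirectSum Cfsg.Agent.Helper8.OmegaOdd Cfsg.Agent.Helper8.OmegaEven

theorem map_mem_commutator {G H : Type*} [Group G] [Group H] (f : G →* H) {g : G}
    (hg : g ∈ commutator G) : f g ∈ commutator H := by
  have := Abelianization.commutator_subset_ker ((Abelianization.of (G := H)).comp f) hg
  rw [MonoidHom.mem_ker, MonoidHom.comp_apply] at this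
  rw [← Abelianization.ker_of, MonoidHom.mem_ker]
  exact this

/-- For an orthogonal direct sum Q = Q₁ ⊕ Q₂ of quadratic forms with non-degenerate polar forms over a finite field, an isometry g₁ of Q₁ extended by the identity on the second summand lies in Ω(Q) (the commutator subgroup of the orthogonal group of Q) if and only if g₁ lies in Ω(Q₁). (Excluded: the field of two elements when the first summand or the whole space has dimension 4, where the commutator subgroup of O⁺₄(2) is smaller than the group usually called Ω.) -/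
theorem result {F : Type*} [Field F] [Fintype F] {k l : ℕ} (h : Fintype.card F ≠ 2 ∨ (k ≠ 4 ∧ k + l ≠ 4)) (Q₁ : QuadraticForm F (Fin k → F)) (Q₂ : QuadraticForm F (Fin l → F)) (h₁ : (QuadraticMap.polarBilin Q₁).Nondegenerate) (h₂ : (QuadraticMap.polarBilin Q₂).Nondegenerate) (g₁ : ↥(Cfsg.isometryGroup F ⇑Q₁)) : (∃ g : ↥(Cfsg.isometryGroup F (fun v : Fin k ⊕ Fin l → F => Q₁ (v ∘ Sum.inl) + Q₂ (v ∘ Sum.inr))), g ∈ Cfsg.Omega F (fun v : Fin k ⊕ Fin l → F => Q₁ (v ∘ Sum.inl) + Q₂ (v ∘ Sum.inr)) ∧ ((g : Matrix.GeneralLinearGroup (Fin k ⊕ Fin l) F) : Matrix (Fin k ⊕ Fin l) (Fin k ⊕ Fin l) F) = Matrix.fromBlocks ((g₁ : Matrix.GeneralLinearGroup (Fin k) F) : Matrix (Fin k) (Fin k) F) 0 0 1) ↔ g₁ ∈ Cfsg.Omega F ⇑Q₁ := by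
  classical
  show (∃ g : ↥(Cfsg.isometryGroup F ⇑(sumForm Q₁ Q₂)),
      g ∈ commutator ↥(Cfsg.isometryGroup F ⇑(sumForm Q₁ Q₂)) ∧
      ((g : Matrix.GeneralLinearGroup (Fin k ⊕ Fin l) F) : Matrix (Fin k ⊕ Fin l) (Fin k ⊕ Fin l) F)
        = Matrix.fromBlocks ((g₁ : Matrix.GeneralLinearGroup (Fin k) F) :
          Matrix (Fin k) (Fin k) F) 0 0 1) ↔ g₁ ∈ commutator ↥(Cfsg.isometryGroup F ⇑Q₁)
  have hL : (∃ g : ↥(Cfsg.isometryGroup F ⇑(sumForm Q₁ Q₂)),
      g ∈ commutator ↥(Cfsg.isometryGroup F ⇑(sumForm Q₁ Q₂)) ∧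
      ((g : Matrix.GeneralLinearGroup (Fin k ⊕ Fin l) F) : Matrix (Fin k ⊕ Fin l) (Fin k ⊕ Fin l) F)
        = Matrix.fromBlocks ((g₁ : Matrix.GeneralLinearGroup (Fin k) F) :
          Matrix (Fin k) (Fin k) F) 0 0 1) ↔
      inlHom Q₁ Q₂ g₁ ∈ commutator ↥(Cfsg.isometryGroup F ⇑(sumForm Q₁ Q₂)) := by
    constructor
    · rintro ⟨g, hg, hmat⟩
      have : g = inlHom Q₁ Q₂ g₁ :=
        Subtype.ext (Units.ext (hmat.trans (inlHom_val Q₁ Q₂ g₁).symm))
      rw [← this]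
      exact hg
    · intro hg
      exact ⟨inlHom Q₁ Q₂ g₁, hg, inlHom_val Q₁ Q₂ g₁⟩
  rw [hL]
  refine ⟨?_, fun hg => map_mem_commutator (inlHom Q₁ Q₂) hg⟩
  intro hg
  have hnd := sumForm_nondeg Q₁ Q₂ h₁ h₂
  have hcard : Fintype.card (Fin k ⊕ Fin l) = k + l := by
    rw [Fintype.card_sum, Fintype.card_fin, Fintype.card_fin]
  rcases Nat.lt_or_ge k 2 with hk | hk
  · have hk' : k = 0 ∨ k = 1 := by omega
    have hone : g₁ = 1 := by
      rcases hk' with rfl | rfl
      · exact Subtype.ext (Units.ext (Subsingleton.elim _ _))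
      · have hdet : ((inlHom Q₁ Q₂ g₁ : Matrix.GeneralLinearGroup (Fin 1 ⊕ Fin l) F) :
            Matrix (Fin 1 ⊕ Fin l) (Fin 1 ⊕ Fin l) F).det = 1 := by
          let φ : ↥(Cfsg.isometryGroup F ⇑(sumForm Q₁ Q₂)) →* Fˣ :=
            Matrix.GeneralLinearGroup.det.comp (Cfsg.isometryGroup F ⇑(sumForm Q₁ Q₂)).subtype
          have h1 : inlHom Q₁ Q₂ g₁ ∈ φ.ker := Abelianization.commutator_subset_ker φ hg
          have h3 : φ (inlHom Q₁ Q₂ g₁) = 1 := MonoidHom.mem_ker.1 h1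
          have := congrArg Units.val h3
          exact this
        rw [inlHom_val, Matrix.det_fromBlocks_zero₂₁, Matrix.det_one, mul_one,
          Matrix.det_fin_one] at hdet
        apply Subtype.ext
        apply Units.ext
        ext i j
        rw [Fin.fin_one_eq_zero i, Fin.fin_one_eq_zero j, hdet]
        rfl
    rw [hone]
    exact Subgroup.one_mem _
  · have hn₁ : 2 ≤ Fintype.card (Fin k) := by rw [Fintype.card_fin]; exact hk
    have hn : 2 ≤ Fintype.card (Fin k ⊕ Fin l) := by rw [hcard]; omega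
    by_cases h2 : (2 : F) = 0
    · have hex₁ : Fintype.card F ≠ 2 ∨ Fintype.card (Fin k) ≠ 4 := by
        rcases h with h | h
        · exact Or.inl h
        · right; rw [Fintype.card_fin]; exact h.1
      have hex : Fintype.card F ≠ 2 ∨ Fintype.card (Fin k ⊕ Fin l) ≠ 4 := by
        rcases h with h | h
        · exact Or.inl h
        · right; rw [hcard]; exact h.2
      rw [(Cfsg.Agent.Helper8.OmegaEven.commutator_eq (sumForm Q₁ Q₂) h2 hnd hn hex).2] at hg
      rw [(Cfsg.Agent.Helper8.OmegaEven.commutator_eq Q₁ h2 h₁ hn₁ hex₁).2,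
        ← dicksonMat_inlHom Q₁ Q₂ h2 h₁ h₂ hex₁, MonoidHom.comp_apply]
      exact hg
    · obtain ⟨e, he⟩ := exists_nonsquare (F := F) h2
      have he0 : e ≠ 0 := by
        rintro rfl
        exact he IsSquare.zero
      rw [(Cfsg.Agent.Helper8.OmegaOdd.commutator_eq (sumForm Q₁ Q₂) h2 hnd hn he).2] at hg
      rw [(Cfsg.Agent.Helper8.OmegaOdd.commutator_eq Q₁ h2 h₁ hn₁ he).2,
        ← chi_inlHom Q₁ Q₂ h2 h₁ one_ne_zero, ← chi_inlHom Q₁ Q₂ h2 h₁ he0,
        MonoidHom.comp_apply, MonoidHom.comp_apply]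
      exact hg

end Cfsg.Agent.S2627
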