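import Mathlib
import Cfsg.Statements.S2631
import Cfsg.Agent.Helper8.AdjustParity
import Cfsg.Agent.Helper8.MaxSingularRefl
import Cfsg.Agent.Helper8.EvenRefl
import Cfsg.Agent.Helper8.StdForms
import Cfsg.Agent.S2629

set_option autoImplicit false
open Cfsg

namespace Cfsg.Agent.S2631

open Module Cfsg.Agent.Helper8.QuadForm Cfsg.Agent.Helper8.WittQuad Cfsg.Agent.Helper8.OrthOrder
  Cfsg.Agent.Helper8.Reflections Cfsg.Agent.Helper8.ReflMatrix Cfsg.Agent.Helper8.Adjust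
  Cfsg.Agent.Helper8.MaxSingular Cfsg.Agent.Helper8.OmegaOdd Cfsg.Agent.Helper8.StdForms
  Cfsg.Agent.Helper8.EvenRefl

/-- For the hyperbolic form Σ x_i y_i on F^(2m) over a finite field (m ≥ 1, excluding m = 2 over the field of two elements), Ω (the commutator subgroup of the orthogonal group) acts transitively on each of the two classes of maximal totally singular subspaces: if U and W are m-dimensional totally singular subspaces with m − dim(U ∩ W) even, some element of Ω carries U to W. -/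
theorem result {F : Type*} [Field F] [Fintype F] {m : ℕ} (hm : 1 ≤ m) (h : Fintype.card F ≠ 2 ∨ m ≠ 2) (U W : Submodule F (Fin m ⊕ Fin m → F)) (hU : Module.finrank F U = m) (hW : Module.finrank F W = m) (hU0 : ∀ u ∈ U, Cfsg.quadFormPlus m F u = 0) (hW0 : ∀ w ∈ W, Cfsg.quadFormPlus m F w = 0) (he : Even (m - Module.finrank F ↥(U ⊓ W))) : ∃ g : ↥(Cfsg.isometryGroup F (Cfsg.quadFormPlus m F)), g ∈ Cfsg.Omega F (Cfsg.quadFormPlus m F) ∧ U.map (Matrix.mulVecLin ((g : Matrix.GeneralLinearGroup (Fin m ⊕ Fin m) F) : Matrix (Fin m ⊕ Fin m) (Fin m ⊕ Fin m) F)) = W := by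
  classical
  have hQeq : Cfsg.quadFormPlus m F = ⇑(plusForm F m) :=
    funext (fun v => (plusForm_apply F m v).symm)
  rw [hQeq] at hU0 hW0 ⊢
  obtain ⟨Q, hQdef⟩ : ∃ Q, Q = plusForm F m := ⟨_, rfl⟩
  rw [← hQdef] at hU0 hW0 ⊢
  have hQ : (QuadraticMap.polarBilin Q).Nondegenerate := by rw [hQdef]; exact plusForm_nondeg F m
  have hV : finrank F (Fin m ⊕ Fin m → F) = 2 * m := finrank_plus F m
  have hnd := (nondeg_iff Q).mp hQ
  have hcard : Fintype.card (Fin m ⊕ Fin m) = m + m := by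
    rw [Fintype.card_sum, Fintype.card_fin]
  have hn2 : 2 ≤ Fintype.card (Fin m ⊕ Fin m) := by rw [hcard]; omega
  have hex : Fintype.card F ≠ 2 ∨ Fintype.card (Fin m ⊕ Fin m) ≠ 4 := by
    rcases h with h | h
    · exact Or.inl h
    · right; rw [hcard]; omega
  -- Witt's theorem
  obtain ⟨φ, hφ⟩ : ∃ φ : U ≃ₗ[F] W, φ = LinearEquiv.ofFinrankEq U W (hU.trans hW.symm) := ⟨_, rfl⟩
  obtain ⟨k', hk', hke⟩ := witt Q hQ U W φ (fun u => by rw [hW0 _ (φ u).2, hU0 _ u.2])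
  have hmap : U.map (k' : (Fin m ⊕ Fin m → F) →ₗ[F] (Fin m ⊕ Fin m → F)) = W := by
    apply le_antisymm
    · rintro _ ⟨u, hu, rfl⟩
      rw [LinearEquiv.coe_coe, hke ⟨u, hu⟩]
      exact (φ ⟨u, hu⟩).2
    · intro w hw
      refine ⟨(φ.symm ⟨w, hw⟩ : Fin m ⊕ Fin m → F), (φ.symm ⟨w, hw⟩).2, ?_⟩
      rw [LinearEquiv.coe_coe, hke (φ.symm ⟨w, hw⟩), LinearEquiv.apply_symm_apply]
  obtain ⟨g₀, hg₀⟩ : ∃ g₀ : ↥(Cfsg.isometryGroup F ⇑Q), g₀ = (isomEquiv Q).symm ⟨k', hk'⟩ :=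
    ⟨_, rfl⟩
  have hg₀U : act Q g₀ U = W := by rw [hg₀, act_symm_apply Q k' hk', hmap]
  -- write `g₀` as a product of reflections; their number is even
  obtain ⟨l, hl, hgl⟩ := exists_list_reflElt_all Q hQ hex g₀
  have hUmts : IsMTS Q m U := ⟨hU, hU0⟩
  have hpar := parity_prod_refl hQ hV l hl U hUmts
  have hact : act Q g₀ U = U.map (((l.map (refl Q)).prod : (Fin m ⊕ Fin m → F) ≃ₗ[F] _) :
      (Fin m ⊕ Fin m → F) →ₗ[F] _) := by
    rw [act_def, hgl, Cfsg.Agent.S2629.mulVecLin_prod_reflElt]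
  rw [← hact, hg₀U] at hpar
  have hlen : Even l.length := by
    rw [Nat.even_iff] at he ⊢
    omega
  suffices hmain : ∃ g : ↥(Cfsg.isometryGroup F ⇑Q), g ∈ commutator ↥(Cfsg.isometryGroup F ⇑Q) ∧
      act Q g U = act Q g₀ U by
    obtain ⟨g, hg, hgU⟩ := hmain
    exact ⟨g, hg, by rw [← hg₀U, ← hgU]; rfl⟩
  by_cases h2 : (2 : F) = 0
  · refine ⟨g₀, ?_, rfl⟩
    rw [(Cfsg.Agent.Helper8.OmegaEven.commutator_eq Q h2 hQ hn2 hex).2, hgl,
      dicksonMat_prod_reflElt Q h2 hQ l hl, hlen.neg_one_pow]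
  · obtain ⟨a, ha⟩ := exists_nonsquare (F := F) h2
    have ha0 : a ≠ 0 := by
      rintro rfl
      exact ha IsSquare.zero
    obtain ⟨e, heU, he0⟩ : ∃ e ∈ U, e ≠ 0 := by
      have hne : U ≠ ⊥ := by
        intro hb
        rw [hb, finrank_bot] at hU
        omega
      exact Submodule.exists_mem_ne_zero_of_ne_bot hne
    have hQe : Q e = 0 := hU0 e heU
    obtain ⟨f, hf, hef⟩ := exists_hyperbolic_pair Q hnd he0 hQe
    exact exists_adjust_odd' Q h2 hQ hn2 U ha (hypElt Q e f a)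
      (act_hypElt Q hQe hf hef ha0 hU0 heU)
      (chi_hypElt Q h2 hQe hf hef ha one_ne_zero)
      (chi_hypElt Q h2 hQe hf hef ha ha0) g₀
      (by rw [hgl]; exact chi_eq_of_even_length Q h2 ha l hl hlen)

end Cfsg.Agent.S2631
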