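import Mathlib
import Cfsg.Statements.S2632
import Cfsg.Agent.Helper8.AdjustNondeg
import Cfsg.Agent.Helper8.MaxSingular

set_option autoImplicit false
open Cfsg

namespace Cfsg.Agent.S2632

open Module Cfsg.Agent.Helper8.QuadForm Cfsg.Agent.Helper8.WittQuad Cfsg.Agent.Helper8.OrthOrder
  Cfsg.Agent.Helper8.Reflections Cfsg.Agent.Helper8.ReflMatrix Cfsg.Agent.Helper8.Adjust
  Cfsg.Agent.Helper8.MaxSingular

/-- Ω is transitive on non-degenerate subspaces of each isometry type: for a quadratic form Q on F^n, n ≥ 3, with non-degenerate polar form (F finite; excluding dimension 4 over the field of two elements), if U and W are subspaces on which the polar form is non-degenerate and there is a Q-preserving linear isomorphism U → W, then some element of Ω (the commutator subgroup of the orthogonal group) carries U to W. (In dimension 2 this fails: Ω can be {±1}, which fixes every line.) -/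
theorem result {F : Type*} [Field F] [Fintype F] {n : ℕ} (hn : 3 ≤ n) (h : Fintype.card F ≠ 2 ∨ n ≠ 4) (Q : QuadraticForm F (Fin n → F)) (hQ : (QuadraticMap.polarBilin Q).Nondegenerate) (U W : Submodule F (Fin n → F)) (hU : U ⊓ LinearMap.BilinForm.orthogonal (QuadraticMap.polarBilin Q) U = ⊥) (hW : W ⊓ LinearMap.BilinForm.orthogonal (QuadraticMap.polarBilin Q) W = ⊥) (e : U ≃ₗ[F] W) (he : ∀ u : U, Q (e u : Fin n → F) = Q (u : Fin n → F)) : ∃ g : ↥(Cfsg.isometryGroup F ⇑Q), g ∈ Cfsg.Omega F ⇑Q ∧ U.map (Matrix.mulVecLin ((g : Matrix.GeneralLinearGroup (Fin n) F) : Matrix (Fin n) (Fin n) F)) = W := by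
  classical
  have hnd := (nondeg_iff Q).mp hQ
  have hcard : Fintype.card (Fin n) = n := Fintype.card_fin n
  -- Witt's theorem
  obtain ⟨k, hk, hke⟩ := witt Q hQ U W e he
  have hmap : U.map (k : (Fin n → F) →ₗ[F] (Fin n → F)) = W := by
    apply le_antisymm
    · rintro _ ⟨u, hu, rfl⟩
      rw [LinearEquiv.coe_coe, hke ⟨u, hu⟩]
      exact (e ⟨u, hu⟩).2
    · intro w hw
      refine ⟨(e.symm ⟨w, hw⟩ : Fin n → F), (e.symm ⟨w, hw⟩).2, ?_⟩
      rw [LinearEquiv.coe_coe, hke (e.symm ⟨w, hw⟩), LinearEquiv.apply_symm_apply]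
  obtain ⟨g₀, hg₀⟩ : ∃ g₀ : ↥(Cfsg.isometryGroup F ⇑Q), g₀ = (isomEquiv Q).symm ⟨k, hk⟩ :=
    ⟨_, rfl⟩
  have hg₀U : act Q g₀ U = W := by rw [hg₀, act_symm_apply Q k hk, hmap]
  -- a nondegenerate subspace of dimension at least two stabilising `U`
  obtain ⟨N, hN, hNdim, hNstab⟩ : ∃ N : Submodule F (Fin n → F), NondegOn Q N ∧
      2 ≤ finrank F N ∧ ∀ z ∈ N, act Q (reflElt Q z) U = U := by
    have hUnd : NondegOn Q U := by
      intro w hw hww
      have : w ∈ U ⊓ LinearMap.BilinForm.orthogonal (QuadraticMap.polarBilin Q) U := by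
        refine ⟨hw, fun u hu => ?_⟩
        show QuadraticMap.polar Q u w = 0
        rw [QuadraticMap.polar_comm]
        exact hww u hu
      rw [hU] at this
      exact (Submodule.mem_bot F).mp this
    by_cases hd : 2 ≤ finrank F U
    · exact ⟨U, hUnd, hd, fun z hz => act_reflElt_of_mem Q hz⟩
    · refine ⟨LinearMap.BilinForm.orthogonal (QuadraticMap.polarBilin Q) U, ?_, ?_, ?_⟩
      · have hcompl : IsCompl U (LinearMap.BilinForm.orthogonal (QuadraticMap.polarBilin Q) U) :=
          (LinearMap.BilinForm.isCompl_orthogonal_iff_disjoint (polBilin_isRefl Q)).mpr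
            (disjoint_iff.mpr hU)
        intro w hw hww
        apply hnd
        intro v
        have hv : v ∈ U ⊔ LinearMap.BilinForm.orthogonal (QuadraticMap.polarBilin Q) U := by
          rw [hcompl.sup_eq_top]
          exact Submodule.mem_top
        obtain ⟨u, hu, u', hu', rfl⟩ := Submodule.mem_sup.mp hv
        rw [QuadraticMap.polar_add_right, hww u' hu']
        have : QuadraticMap.polar Q u w = 0 := hw u hu
        rw [QuadraticMap.polar_comm, this, add_zero]
      · have := LinearMap.BilinForm.finrank_orthogonal hQ U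
        rw [this, Module.finrank_fintype_fun_eq_card, hcard]
        omega
      · intro z hz
        apply act_reflElt_of_perp
        intro u hu
        have : QuadraticMap.polar Q u z = 0 := hz u hu
        rw [QuadraticMap.polar_comm]
        exact this
  obtain ⟨g, hg, hgU⟩ := exists_adjust_of_nondegOn Q hQ (by rw [hcard]; omega)
    (by rw [hcard]; exact h) U N hN hNdim hNstab g₀
  exact ⟨g, hg, by rw [← hg₀U, ← hgU]; rfl⟩

end Cfsg.Agent.S2632
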