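import Mathlib
import Cfsg.Statements.S2633
import Cfsg.Agent.Helper8.Adjust
import Cfsg.Agent.Helper8.MaxSingular
import Cfsg.Agent.Helper8.CenterChar2

set_option autoImplicit false
open Cfsg

namespace Cfsg.Agent.S2633

open Module Cfsg.Agent.Helper8.QuadForm Cfsg.Agent.Helper8.WittQuad Cfsg.Agent.Helper8.OrthOrder
  Cfsg.Agent.Helper8.Reflections Cfsg.Agent.Helper8.ReflMatrix Cfsg.Agent.Helper8.Adjust
  Cfsg.Agent.Helper8.MaxSingular Cfsg.Agent.Helper8.OmegaOdd Cfsg.Agent.Helper8.CenterChar2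

/-- Ω is transitive on totally singular subspaces of each dimension less than half the dimension: for a quadratic form Q on F^n with non-degenerate polar form (F finite; excluding dimension 4 over the field of two elements), if U and W are subspaces of the same dimension k with 2k < n on which Q vanishes, then some element of Ω (the commutator subgroup of the orthogonal group) carries U to W. -/
theorem result {F : Type*} [Field F] [Fintype F] {n : ℕ} (h : Fintype.card F ≠ 2 ∨ n ≠ 4) (Q : QuadraticForm F (Fin n → F)) (hQ : (QuadraticMap.polarBilin Q).Nondegenerate) (U W : Submodule F (Fin n → F)) {k : ℕ} (hk : 2 * k < n) (hU : Module.finrank F U = k) (hW : Module.finrank F W = k) (hU0 : ∀ u ∈ U, Q u = 0) (hW0 : ∀ w ∈ W, Q w = 0) : ∃ g : ↥(Cfsg.isometryGroup F ⇑Q), g ∈ Cfsg.Omega F ⇑Q ∧ U.map (Matrix.mulVecLin ((g : Matrix.GeneralLinearGroup (Fin n) F) : Matrix (Fin n) (Fin n) F)) = W := by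
  classical
  have hnd := (nondeg_iff Q).mp hQ
  have hcard : Fintype.card (Fin n) = n := Fintype.card_fin n
  have hfin : finrank F (Fin n → F) = n := by rw [Module.finrank_fintype_fun_eq_card, hcard]
  rcases Nat.eq_zero_or_pos k with hk0 | hkpos
  · subst hk0
    have hUb : U = ⊥ := Submodule.finrank_eq_zero.mp hU
    have hWb : W = ⊥ := Submodule.finrank_eq_zero.mp hW
    refine ⟨1, Subgroup.one_mem _, ?_⟩
    rw [hUb, hWb, Submodule.map_bot]
  -- Witt's theorem
  obtain ⟨φ, hφ⟩ : ∃ φ : U ≃ₗ[F] W, φ = LinearEquiv.ofFinrankEq U W (hU.trans hW.symm) := ⟨_, rfl⟩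
  obtain ⟨k', hk', hke⟩ := witt Q hQ U W φ (fun u => by rw [hW0 _ (φ u).2, hU0 _ u.2])
  have hmap : U.map (k' : (Fin n → F) →ₗ[F] (Fin n → F)) = W := by
    apply le_antisymm
    · rintro _ ⟨u, hu, rfl⟩
      rw [LinearEquiv.coe_coe, hke ⟨u, hu⟩]
      exact (φ ⟨u, hu⟩).2
    · intro w hw
      refine ⟨(φ.symm ⟨w, hw⟩ : Fin n → F), (φ.symm ⟨w, hw⟩).2, ?_⟩
      rw [LinearEquiv.coe_coe, hke (φ.symm ⟨w, hw⟩), LinearEquiv.apply_symm_apply]
  obtain ⟨g₀, hg₀⟩ : ∃ g₀ : ↥(Cfsg.isometryGroup F ⇑Q), g₀ = (isomEquiv Q).symm ⟨k', hk'⟩ :=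
    ⟨_, rfl⟩
  have hg₀U : act Q g₀ U = W := by rw [hg₀, act_symm_apply Q k' hk', hmap]
  -- a nonsingular vector orthogonal to `U`
  obtain ⟨z, hzU, hz⟩ : ∃ z, z ∈ orth Q U ∧ Q z ≠ 0 := by
    by_contra hcon
    push_neg at hcon
    have h1 := two_mul_finrank_le_of_ts Q hQ (U := orth Q U) hcon
    have h3 : finrank F ↥(orth Q U) = finrank F (Fin n → F) - finrank F U :=
      LinearMap.BilinForm.finrank_orthogonal hQ U
    rw [h3, hfin, hU] at h1
    omega
  have hzstab : act Q (reflElt Q z) U = U := by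
    apply act_reflElt_of_perp
    intro u hu
    have : QuadraticMap.polar Q u z = 0 := hzU u hu
    rw [QuadraticMap.polar_comm]
    exact this
  have hn2 : 2 ≤ Fintype.card (Fin n) := by rw [hcard]; omega
  have hex : Fintype.card F ≠ 2 ∨ Fintype.card (Fin n) ≠ 4 := by rw [hcard]; exact h
  suffices hmain : ∃ g : ↥(Cfsg.isometryGroup F ⇑Q), g ∈ commutator ↥(Cfsg.isometryGroup F ⇑Q) ∧
      act Q g U = act Q g₀ U by
    obtain ⟨g, hg, hgU⟩ := hmain
    exact ⟨g, hg, by rw [← hg₀U, ← hgU]; rfl⟩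
  by_cases h2 : (2 : F) = 0
  · exact exists_adjust_even Q h2 hQ hn2 hex U hz hzstab g₀
  · obtain ⟨a, ha⟩ := exists_nonsquare (F := F) h2
    have ha0 : a ≠ 0 := by
      rintro rfl
      exact ha IsSquare.zero
    obtain ⟨e, heU, he0⟩ : ∃ e ∈ U, e ≠ 0 := by
      have hne : U ≠ ⊥ := by
        intro hb
        rw [hb, finrank_bot] at hU
        omega
      exact Submodule.exists_mem_ne_zero_of_ne_bot hne
    have hQe : Q e = 0 := hU0 e heU
    obtain ⟨f, hf, hef⟩ := exists_hyperbolic_pair Q hnd he0 hQe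
    exact exists_adjust_odd Q h2 hQ hn2 U hz hzstab ha (hypElt Q e f a)
      (act_hypElt Q hQe hf hef ha0 hU0 heU)
      (chi_hypElt Q h2 hQe hf hef ha one_ne_zero)
      (chi_hypElt Q h2 hQe hf hef ha ha0) g₀

end Cfsg.Agent.S2633
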