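import Mathlib
import Cfsg.Statements.S2634
import Cfsg.Agent.Helper8.OmegaEven
import Cfsg.Agent.Helper8.ReflChar2

set_option autoImplicit false
open Cfsg

namespace Cfsg.Agent.S2634

open Module Cfsg.Agent.Helper8.QuadForm Cfsg.Agent.Helper8.WittQuad Cfsg.Agent.Helper8.OrthOrder
  Cfsg.Agent.Helper8.Reflections Cfsg.Agent.Helper8.ReflMatrix Cfsg.Agent.Helper8.OmegaOdd
  Cfsg.Agent.Helper8.ReflGen Cfsg.Agent.Helper8.OmegaEven Cfsg.Agent.Helper8.ReflChar2

/-- Over a finite field of characteristic two, Ω (the commutator subgroup of the orthogonal group of a quadratic form Q on F^n with non-degenerate polar form; excluding dimension 4 over the field of two elements) acts transitively on the non-singular 1-spaces: for u, v with Q(u) ≠ 0 and Q(v) ≠ 0 some element of Ω carries the line through u to the line through v. -/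
theorem result {F : Type*} [Field F] [Fintype F] [CharP F 2] {n : ℕ} (h : Fintype.card F ≠ 2 ∨ n ≠ 4) (Q : QuadraticForm F (Fin n → F)) (hQ : (QuadraticMap.polarBilin Q).Nondegenerate) (u v : Fin n → F) (hu : Q u ≠ 0) (hv : Q v ≠ 0) : ∃ g : ↥(Cfsg.isometryGroup F ⇑Q), g ∈ Cfsg.Omega F ⇑Q ∧ (F ∙ ((g : Matrix.GeneralLinearGroup (Fin n) F) : Matrix (Fin n) (Fin n) F).mulVec u) = F ∙ v := by
  classical
  have h2 : (2 : F) = 0 := by
    have := CharP.cast_eq_zero F 2
    exact_mod_cast this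
  have hnd := (nondeg_iff Q).mp hQ
  have hu0 : u ≠ 0 := by
    rintro rfl
    exact hu (map_zero _)
  have hn : 2 ≤ Fintype.card (Fin n) := by
    obtain ⟨y, hy⟩ : ∃ y, QuadraticMap.polar Q u y ≠ 0 := by
      by_contra hcon
      push_neg at hcon
      exact hu0 (hnd u hcon)
    have hind : ∀ c : F, y - c • u ≠ 0 := by
      intro c hc
      rw [sub_eq_zero] at hc
      apply hy
      rw [hc, QuadraticMap.polar_smul_right, polar_self_eq_zero h2, smul_zero]
    have h3 := finrank_span_pair (F := F) hu0 hind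
    have h4 := Submodule.finrank_le (Submodule.span F {u} ⊔ Submodule.span F {y})
    rw [h3, Module.finrank_fintype_fun_eq_card] at h4
    exact h4
  have hex : Fintype.card F ≠ 2 ∨ Fintype.card (Fin n) ≠ 4 := by
    rw [Fintype.card_fin]; exact h
  obtain ⟨t, ht⟩ := exists_sqrt_of_char_two h2 (Q u / Q v)
  have ht0 : t ≠ 0 := by
    rintro rfl
    rw [mul_zero] at ht
    exact (div_ne_zero hu hv) ht.symm
  have hQtv : Q u = Q (t • v) := by
    rw [QuadraticMap.map_smul, smul_eq_mul, ht]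
    field_simp
  have htv0 : t • v ≠ 0 := by
    intro h0
    rw [h0, map_zero] at hQtv
    exact hu hQtv
  obtain ⟨k, hk, -, hku⟩ := witt_step Q hQ ⊥ (u := u) (w := t • v) hQtv
    (by
      intro x hx
      rw [(Submodule.mem_bot F).mp hx, QuadraticMap.polar_zero_right,
        QuadraticMap.polar_zero_right])
    (by rwa [Submodule.mem_bot]) (by rwa [Submodule.mem_bot])
  obtain ⟨kE, hkE⟩ : ∃ kE : ↥(Cfsg.isometryGroup F ⇑Q), kE = (isomEquiv Q).symm ⟨k, hk⟩ :=
    ⟨_, rfl⟩
  have hkEu : (isomEquiv Q kE).1 u = t • v := by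
    rw [hkE, MulEquiv.apply_symm_apply]
    exact hku
  have hmem := (commutator_eq Q h2 hQ hn hex).2
  have hspan : (F ∙ (t • v)) = F ∙ v :=
    Submodule.span_singleton_smul_eq (IsUnit.mk0 t ht0) v
  show ∃ g : ↥(Cfsg.isometryGroup F ⇑Q), g ∈ commutator ↥(Cfsg.isometryGroup F ⇑Q) ∧ _
  by_cases hD : dicksonMat Q h2 hQ kE = 1
  · refine ⟨kE, (hmem kE).mpr hD, ?_⟩
    rw [← isomEquiv_apply, hkEu, hspan]
  · have hD' : dicksonMat Q h2 hQ kE = -1 := by
      rcases Int.units_eq_one_or (dicksonMat Q h2 hQ kE) with h' | h'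
      · exact absurd h' hD
      · exact h'
    refine ⟨kE * reflElt Q u, ?_, ?_⟩
    · rw [hmem, map_mul, hD', dicksonMat_reflElt Q h2 hQ hu]
      rfl
    · rw [← isomEquiv_apply, map_mul, isomEquiv_reflElt]
      show (F ∙ (isomEquiv Q kE).1 (refl Q u u)) = F ∙ v
      rw [refl_self Q hu, neg_eq_self h2, hkEu, hspan]

end Cfsg.Agent.S2634
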