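import Mathlib
import Cfsg.Statements.S2635
import Cfsg.Agent.Helper8.EvenRefl

set_option autoImplicit false
open Cfsg

namespace Cfsg.Agent.S2635

open Cfsg.Agent.Helper8.OmegaEven Cfsg.Agent.Helper8.EvenRefl Cfsg.Agent.Helper8.ReflMatrix

/-- Over a finite field of characteristic two, for a quadratic form Q on F^n with non-degenerate polar form, n ≥ 2, other than dimension 4 over the field of two elements, Ω (the commutator subgroup of the orthogonal group) is exactly the subgroup generated by the products of two reflections (orthogonal transvections) x ↦ x − Q(v)⁻¹ f(x, v) v, Q(v) ≠ 0: the products of an even number of reflections. -/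
theorem result {F : Type*} [Field F] [Fintype F] [CharP F 2] {n : ℕ} (hn : 2 ≤ n) (h : Fintype.card F ≠ 2 ∨ n ≠ 4) (Q : QuadraticForm F (Fin n → F)) (hQ : (QuadraticMap.polarBilin Q).Nondegenerate) : Cfsg.Omega F ⇑Q = Subgroup.closure {g : ↥(Cfsg.isometryGroup F ⇑Q) | ∃ u v : Fin n → F, Q u ≠ 0 ∧ Q v ≠ 0 ∧ ((g : Matrix.GeneralLinearGroup (Fin n) F) : Matrix (Fin n) (Fin n) F) = Cfsg.reflectionMatrix ⇑Q u * Cfsg.reflectionMatrix ⇑Q v} := by
  have h2 : (2 : F) = 0 := by
    have := CharP.cast_eq_zero F 2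
    exact_mod_cast this
  have key := commutator_eq_closure_pairs Q h2 hQ (by rw [Fintype.card_fin]; exact hn)
    (by rw [Fintype.card_fin]; exact h)
  have hset : {g : ↥(Cfsg.isometryGroup F ⇑Q) | ∃ u v : Fin n → F, Q u ≠ 0 ∧ Q v ≠ 0 ∧
      ((g : Matrix.GeneralLinearGroup (Fin n) F) : Matrix (Fin n) (Fin n) F)
        = Cfsg.reflectionMatrix ⇑Q u * Cfsg.reflectionMatrix ⇑Q v} = pairs Q := by
    ext g
    constructor
    · rintro ⟨u, v, hu, hv, hg⟩
      refine ⟨u, v, hu, hv, ?_⟩
      apply Subtype.ext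
      apply Units.ext
      rw [hg, Subgroup.coe_mul, Units.val_mul, reflElt_val, reflElt_val]
    · rintro ⟨u, v, hu, hv, rfl⟩
      refine ⟨u, v, hu, hv, ?_⟩
      rw [Subgroup.coe_mul, Units.val_mul, reflElt_val, reflElt_val]
  rw [hset]
  exact key

end Cfsg.Agent.S2635
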