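import Cfsg.Statements.S2636
import Mathlib

set_option autoImplicit false
open Cfsg

namespace Cfsg.Agent.S2636

open Module

section
variable {F : Type*} [Field F] [Fintype F]

/-- The fixed subfield of a ring automorphism. -/
noncomputable def fixK (σ : F ≃+* F) : Subfield F := FixedPoints.subfield (Subgroup.zpowers σ) F

lemma mem_fixK (σ : F ≃+* F) (x : F) : x ∈ fixK σ ↔ σ x = x := by
  have h0 : x ∈ fixK σ ↔ x ∈ MulAction.fixedPoints (Subgroup.zpowers σ) F := Iff.rfl
  rw [h0, MulAction.mem_fixedPoints]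
  constructor
  · intro h
    exact h ⟨σ, Subgroup.mem_zpowers σ⟩
  · intro h g
    obtain ⟨g, hg⟩ := g
    have hle : Subgroup.zpowers σ ≤ MulAction.stabilizer (F ≃+* F) x := by
      rw [Subgroup.zpowers_le]
      exact h
    exact hle hg

lemma card_fixK (σ : F ≃+* F) {q₀ r : ℕ} (hr : r.Prime) (hF : Fintype.card F = q₀ ^ r)
    (hσ : orderOf σ = r) : Nat.card (fixK σ) = q₀ := by
  classical
  have : Finite (F ≃+* F) := Finite.of_injective (fun e => (e : F → F)) DFunLike.coe_injective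
  have : Fintype (Subgroup.zpowers σ) := Fintype.ofFinite _
  have h1 : finrank (fixK σ) F = r := by
    unfold fixK
    rw [FixedPoints.finrank_eq_card, ← Nat.card_eq_fintype_card, Nat.card_zpowers, hσ]
  have : Fintype (fixK σ) := Fintype.ofFinite _
  have h2 : Fintype.card F = Fintype.card (fixK σ) ^ finrank (fixK σ) F := Module.card_eq_pow_finrank
  rw [h1, hF] at h2
  have h3 := Nat.pow_left_injective hr.ne_zero h2
  rw [Nat.card_eq_fintype_card]
  exact h3.symm

variable {n : ℕ}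

/-- scalar matrices as a hom -/
noncomputable def sc : Fˣ →* GL (Fin n) F := Units.map (algebraMap F (Matrix (Fin n) (Fin n) F)).toMonoidHom

lemma sc_mul_coe (c : Fˣ) (g : GL (Fin n) F) :
    ((sc c * g : GL (Fin n) F) : Matrix (Fin n) (Fin n) F) = (c : F) • (g : Matrix (Fin n) (Fin n) F) := by
  rw [Units.val_mul]
  change algebraMap F (Matrix (Fin n) (Fin n) F) (c : F) * _ = _
  rw [← Algebra.smul_def]

lemma exists_entry (hn : 1 ≤ n) (g : GL (Fin n) F) :
    ∃ ij : Fin n × Fin n, (g : Matrix (Fin n) (Fin n) F) ij.1 ij.2 ≠ 0 := by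
  by_contra h
  push Not at h
  have h0 : (g : Matrix (Fin n) (Fin n) F) = 0 := by
    ext i j
    exact h (i, j)
  have hd := g.isUnit.map (Matrix.detMonoidHom (n := Fin n) (R := F))
  have : Nonempty (Fin n) := ⟨⟨0, hn⟩⟩
  simp [h0, Matrix.det_zero] at hd

/-- chosen pivot position -/
noncomputable def piv (hn : 1 ≤ n) (g : GL (Fin n) F) : Fin n × Fin n := Classical.choose (exists_entry hn g)

lemma piv_ne (hn : 1 ≤ n) (g : GL (Fin n) F) :
    (g : Matrix (Fin n) (Fin n) F) (piv hn g).1 (piv hn g).2 ≠ 0 := Classical.choose_spec (exists_entry hn g)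

/-- pivot entry as a unit -/
noncomputable def px (hn : 1 ≤ n) (g : GL (Fin n) F) : Fˣ := Units.mk0 _ (piv_ne hn g)

lemma px_coe (hn : 1 ≤ n) (g : GL (Fin n) F) :
    ((px hn g : Fˣ) : F) = (g : Matrix (Fin n) (Fin n) F) (piv hn g).1 (piv hn g).2 := rfl

/-- The twisted-fixed set. -/
abbrev SS (n : ℕ) (σ : F ≃+* F) := {g : GL (Fin n) F // ∃ c : F, c ≠ 0 ∧ (g : Matrix (Fin n) (Fin n) F).map σ = c • (g : Matrix (Fin n) (Fin n) F)}

/-- The fixed set. -/
abbrev TT (n : ℕ) (σ : F ≃+* F) := {g : GL (Fin n) F // (g : Matrix (Fin n) (Fin n) F).map σ = (g : Matrix (Fin n) (Fin n) F)}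

/-- fixed units -/
abbrev KX (σ : F ≃+* F) := {μ : Fˣ // σ (μ : F) = (μ : F)}

lemma map_sc_mul (σ : F ≃+* F) (c : Fˣ) (g : GL (Fin n) F) :
    ((sc c * g : GL (Fin n) F) : Matrix (Fin n) (Fin n) F).map σ
      = σ (c : F) • ((g : Matrix (Fin n) (Fin n) F).map σ) := by
  rw [sc_mul_coe]
  ext i j
  simp [Matrix.map_apply, Matrix.smul_apply]

noncomputable def mainEquiv (hn : 1 ≤ n) (σ : F ≃+* F) : SS n σ × KX σ ≃ Fˣ × TT n σ where
  toFun := fun gm => (px hn gm.1.1 * gm.2.1, ⟨sc (px hn gm.1.1 * gm.2.1)⁻¹ * gm.1.1, by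
    obtain ⟨⟨g, c, hc, hg⟩, ⟨μ, hμ⟩⟩ := gm
    simp only
    rw [map_sc_mul, hg, sc_mul_coe]
    have hx : σ ((px hn g : Fˣ) : F) = c * ((px hn g : Fˣ) : F) := by
      have := congrFun (congrFun hg (piv hn g).1) (piv hn g).2
      simpa [Matrix.map_apply, Matrix.smul_apply, px_coe] using this
    rw [smul_smul]
    congr 1
    rw [Units.val_inv_eq_inv_val, Units.val_mul, map_inv₀, map_mul, hx, hμ]
    have h1 : ((px hn g : Fˣ) : F) ≠ 0 := Units.ne_zero _
    have h2 : (μ : F) ≠ 0 := Units.ne_zero _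
    field_simp⟩)
  invFun := fun lg => (⟨sc lg.1 * lg.2.1, by
    obtain ⟨l, ⟨g, hg⟩⟩ := lg
    refine ⟨σ (l : F) / (l : F), ?_, ?_⟩
    · have h1 : (l : F) ≠ 0 := Units.ne_zero _
      have h2 : σ (l : F) ≠ 0 := by simpa using h1
      exact div_ne_zero h2 h1
    · simp only
      rw [map_sc_mul, hg, sc_mul_coe, smul_smul]
      congr 1
      have h1 : (l : F) ≠ 0 := Units.ne_zero _
      field_simp⟩, ⟨lg.1 / px hn (sc lg.1 * lg.2.1), by
    obtain ⟨l, ⟨g, hg⟩⟩ := lg
    simp only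
    rw [Units.val_div_eq_div_val, map_div₀, px_coe, sc_mul_coe]
    simp only [Matrix.smul_apply, smul_eq_mul, map_mul]
    have hgij : ∀ i j, σ ((g : Matrix (Fin n) (Fin n) F) i j) = (g : Matrix (Fin n) (Fin n) F) i j := by
      intro i j
      have := congrFun (congrFun hg i) j
      simpa [Matrix.map_apply] using this
    rw [hgij]
    have h1 : (l : F) ≠ 0 := Units.ne_zero _
    have h2 : σ (l : F) ≠ 0 := by simpa using h1
    have h3 := piv_ne hn (sc l * g)
    rw [sc_mul_coe] at h3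
    simp only [Matrix.smul_apply, smul_eq_mul] at h3
    have h4 := right_ne_zero_of_mul h3
    field_simp⟩)
  left_inv := by
    rintro ⟨⟨g, hg⟩, ⟨μ, hμ⟩⟩
    simp only [map_inv, mul_inv_cancel_left, Prod.mk.injEq, Subtype.mk.injEq, true_and]
    rw [mul_comm, mul_div_assoc]
    simp
  right_inv := by
    rintro ⟨l, ⟨g, hg⟩⟩
    simp only [Prod.mk.injEq, Subtype.mk.injEq]
    constructor
    · simp
    · rw [mul_div_cancel, _root_.map_inv, inv_mul_cancel_left]

noncomputable def kxEquiv (σ : F ≃+* F) : KX σ ≃ (fixK σ)ˣ where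
  toFun μ := Units.mk0 ⟨((μ.1 : Fˣ) : F), (mem_fixK σ _).mpr μ.2⟩ (by
    intro h
    exact Units.ne_zero μ.1 (congrArg Subtype.val h))
  invFun u := ⟨Units.mk0 (((u : (fixK σ)ˣ) : fixK σ) : F) (by
    intro h
    exact Units.ne_zero u (Subtype.ext h)), (mem_fixK σ _).mp ((u : (fixK σ)ˣ) : fixK σ).2⟩
  left_inv := by
    intro μ
    apply Subtype.ext
    apply Units.ext
    rfl
  right_inv := by
    intro u
    apply Units.ext
    apply Subtype.ext
    rfl

lemma tt_entry (σ : F ≃+* F) (g : TT n σ) (i j : Fin n) :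
    (g.1 : Matrix (Fin n) (Fin n) F) i j ∈ fixK σ := by
  rw [mem_fixK]
  have := congrFun (congrFun g.2 i) j
  simpa [Matrix.map_apply] using this

/-- the matrix over the fixed field -/
noncomputable def downM (σ : F ≃+* F) (g : TT n σ) : Matrix (Fin n) (Fin n) (fixK σ) :=
  Matrix.of fun i j => ⟨(g.1 : Matrix (Fin n) (Fin n) F) i j, tt_entry σ g i j⟩

lemma downM_map (σ : F ≃+* F) (g : TT n σ) :
    (fixK σ).subtype.mapMatrix (downM σ g) = (g.1 : Matrix (Fin n) (Fin n) F) := by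
  ext i j
  rfl

lemma downM_det (σ : F ≃+* F) (g : TT n σ) : (downM σ g).det ≠ 0 := by
  intro h
  have h1 := RingHom.map_det (fixK σ).subtype (downM σ g)
  rw [downM_map, h, map_zero] at h1
  have hd := g.1.isUnit.map (Matrix.detMonoidHom (n := Fin n) (R := F))
  change IsUnit ((g.1 : Matrix (Fin n) (Fin n) F).det) at hd
  rw [← h1] at hd
  simp at hd

noncomputable def ttEquiv (σ : F ≃+* F) : TT n σ ≃ GL (Fin n) (fixK σ) where
  toFun g := Matrix.GeneralLinearGroup.mkOfDetNeZero (downM σ g) (downM_det σ g)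
  invFun g := ⟨Matrix.GeneralLinearGroup.map (fixK σ).subtype g, by
    ext i j
    simp only [Matrix.map_apply]
    change σ (((g : Matrix (Fin n) (Fin n) (fixK σ)) i j : fixK σ) : F) = _
    exact (mem_fixK σ _).mp ((g : Matrix (Fin n) (Fin n) (fixK σ)) i j).2⟩
  left_inv := by
    intro g
    apply Subtype.ext
    apply Units.ext
    ext i j
    rfl
  right_inv := by
    intro g
    apply Units.ext
    ext i j
    rfl

end

theorem result {F : Type*} [Field F] [Fintype F] {q₀ r n : ℕ} (hr : r.Prime) (hn : 1 ≤ n) (hF : Fintype.card F = q₀ ^ r) (σ : F ≃+* F) (hσ : orderOf σ = r) : Nat.card {g : GL (Fin n) F // ∃ c : F, c ≠ 0 ∧ (g : Matrix (Fin n) (Fin n) F).map σ = c • (g : Matrix (Fin n) (Fin n) F)} = (q₀ ^ r - 1) / (q₀ - 1) * ∏ i : Fin n, (q₀ ^ n - q₀ ^ (i : ℕ)) := by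
  classical
  have hK : Nat.card (fixK σ) = q₀ := card_fixK σ hr hF hσ
  have : Fintype (fixK σ) := Fintype.ofFinite _
  have hK' : Fintype.card (fixK σ) = q₀ := by rw [← Nat.card_eq_fintype_card]; exact hK
  have hq2 : 2 ≤ q₀ := by
    rw [← hK']
    exact Fintype.one_lt_card
  have e := Nat.card_congr (mainEquiv hn σ)
  rw [Nat.card_prod, Nat.card_prod, Nat.card_congr (kxEquiv σ), Nat.card_congr (ttEquiv σ),
    Nat.card_units, Nat.card_units, hK, Matrix.card_GL_field, hK', Nat.card_eq_fintype_card (α := F), hF] at e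
  obtain ⟨m, hm⟩ := Nat.sub_one_dvd_pow_sub_one q₀ r
  rw [hm] at e ⊢
  have hpos : 0 < q₀ - 1 := by omega
  rw [Nat.mul_div_cancel_left _ hpos]
  have e' : (q₀ - 1) * Nat.card (SS n σ) = (q₀ - 1) * (m * ∏ i : Fin n, (q₀ ^ n - q₀ ^ (i : ℕ))) := by
    rw [mul_comm, e]
    ring
  exact Nat.eq_of_mul_eq_mul_left hpos e'

end Cfsg.Agent.S2636
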