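import Cfsg.Statements.S2638
import Mathlib

set_option autoImplicit false
open Cfsg

namespace Cfsg.Agent.S2638

open Module
open scoped Matrix

section
variable {F : Type*} [Field F] {n : ℕ}

/-- invariant submodule -/
def Inv (X : Matrix (Fin n) (Fin n) F) (W : Submodule F (Fin n → F)) : Prop :=
  ∀ w ∈ W, X *ᵥ w ∈ W

/-- fixed vectors -/
def fixS (X : Matrix (Fin n) (Fin n) F) : Submodule F (Fin n → F) :=
  LinearMap.ker (X.mulVecLin - 1)

lemma mem_fixS (X : Matrix (Fin n) (Fin n) F) (v : Fin n → F) : v ∈ fixS X ↔ X *ᵥ v = v := by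
  unfold fixS
  rw [LinearMap.mem_ker, LinearMap.sub_apply, Matrix.mulVecLin_apply, sub_eq_zero]
  rfl

variable [Fintype F]

lemma count (X : Matrix (Fin n) (Fin n) F) (r : ℕ) [Fact r.Prime] (hX : X ^ r = 1)
    (W : Submodule F (Fin n → F)) (hW : Inv X W) :
    Fintype.card F ^ finrank F W ≡ Fintype.card F ^ finrank F ↥(W ⊓ fixS X) [MOD r] := by
  classical
  let f : Function.End W := fun w => ⟨X *ᵥ w.1, hW _ w.2⟩
  have hpow : ∀ (k : ℕ) (w : W), (((f ^ k) w : W) : Fin n → F) = (X ^ k) *ᵥ (w : Fin n → F) := by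
    intro k
    induction k with
    | zero => intro w; simp; rfl
    | succ k ih =>
      intro w
      rw [pow_succ']
      change X *ᵥ (((f ^ k) w : W) : Fin n → F) = _
      rw [ih, Matrix.mulVec_mulVec, ← pow_succ']
  have hf : f ^ r ^ 1 = 1 := by
    funext w
    apply Subtype.ext
    rw [pow_one, hpow, hX, Matrix.one_mulVec]
    rfl
  have h1 := Equiv.Perm.card_fixedPoints_modEq (p := r) (n := 1) hf
  rw [Fintype.card_eq_nat_card, Fintype.card_eq_nat_card] at h1
  have e : ↥(Function.fixedPoints f) ≃ ↥(W ⊓ fixS X) :=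
    { toFun := fun w => ⟨w.1.1, ⟨w.1.2, (mem_fixS X _).mpr (congrArg Subtype.val w.2)⟩⟩
      invFun := fun v => ⟨⟨v.1, v.2.1⟩, Subtype.ext ((mem_fixS X _).mp v.2.2)⟩
      left_inv := fun w => rfl
      right_inv := fun v => rfl }
  rw [Nat.card_congr e, Module.natCard_eq_pow_finrank (K := F) (V := W),
    Module.natCard_eq_pow_finrank (K := F) (V := ↥(W ⊓ fixS X)), Nat.card_eq_fintype_card] at h1
  exact h1

lemma dvd_of_pow_modEq {q r n : ℕ} (hi : orderOf (q : ZMod r) = n) {d : ℕ}
    (h : q ^ d ≡ 1 [MOD r]) : n ∣ d := by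
  rw [← hi]
  apply orderOf_dvd_of_pow_eq_one
  have := (ZMod.natCast_eq_natCast_iff (q ^ d) 1 r).mpr h
  simpa using this

lemma pow_modEq_one {q r n : ℕ} (hi : orderOf (q : ZMod r) = n) : q ^ n ≡ 1 [MOD r] := by
  rw [← ZMod.natCast_eq_natCast_iff]
  push_cast
  rw [← hi]
  exact pow_orderOf_eq_one _

lemma fixS_eq_bot (X : Matrix (Fin n) (Fin n) F) (r : ℕ) [Fact r.Prime] (hX : X ^ r = 1)
    (hX1 : X ≠ 1) (hi : orderOf ((Fintype.card F : ℕ) : ZMod r) = n) : fixS X = ⊥ := by
  have hc := count X r hX ⊤ (fun w _ => Submodule.mem_top)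
  rw [finrank_top, Module.finrank_fin_fun, top_inf_eq] at hc
  have h1 : Fintype.card F ^ finrank F ↥(fixS X) ≡ 1 [MOD r] := hc.symm.trans (pow_modEq_one hi)
  have h2 := dvd_of_pow_modEq hi h1
  have h3 : finrank F ↥(fixS X) ≤ n := by
    have := Submodule.finrank_le (fixS X)
    rwa [Module.finrank_fin_fun] at this
  have h4 : finrank F ↥(fixS X) ≠ n := by
    intro h
    have htop : fixS X = ⊤ := by
      apply Submodule.eq_top_of_finrank_eq
      rw [h, Module.finrank_fin_fun]
    apply hX1
    apply Matrix.toLin'.injective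
    apply LinearMap.ext
    intro v
    have hv : v ∈ fixS X := by rw [htop]; exact Submodule.mem_top
    rw [mem_fixS] at hv
    simp [Matrix.toLin'_apply, hv]
  have h5 : finrank F ↥(fixS X) = 0 := by
    rcases Nat.eq_zero_or_pos (finrank F ↥(fixS X)) with h | h
    · exact h
    · have := Nat.le_of_dvd h h2
      omega
  exact Submodule.finrank_eq_zero.mp h5

lemma irred (X : Matrix (Fin n) (Fin n) F) (r : ℕ) [Fact r.Prime] (hX : X ^ r = 1)
    (hX1 : X ≠ 1) (hi : orderOf ((Fintype.card F : ℕ) : ZMod r) = n)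
    (W : Submodule F (Fin n → F)) (hW : Inv X W) : W = ⊥ ∨ W = ⊤ := by
  have hc := count X r hX W hW
  rw [fixS_eq_bot X r hX hX1 hi, inf_bot_eq, finrank_bot, pow_zero] at hc
  have h2 := dvd_of_pow_modEq hi hc
  have h3 : finrank F ↥W ≤ n := by
    have := Submodule.finrank_le W
    rwa [Module.finrank_fin_fun] at this
  rcases Nat.eq_zero_or_pos (finrank F ↥W) with h | h
  · left
    exact Submodule.finrank_eq_zero.mp h
  · right
    have := Nat.le_of_dvd h h2
    apply Submodule.eq_top_of_finrank_eq
    rw [Module.finrank_fin_fun]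
    omega

/-- a nonzero matrix commuting with `X` is invertible -/
lemma isUnit_of_comm (X : Matrix (Fin n) (Fin n) F) (r : ℕ) [Fact r.Prime] (hX : X ^ r = 1)
    (hX1 : X ≠ 1) (hi : orderOf ((Fintype.card F : ℕ) : ZMod r) = n)
    (g : Matrix (Fin n) (Fin n) F) (hg : g * X = X * g) (hg0 : g ≠ 0) : IsUnit g := by
  rw [← Matrix.mulVec_injective_iff_isUnit]
  have hinv : Inv X (LinearMap.ker g.mulVecLin) := by
    intro w hw
    rw [LinearMap.mem_ker, Matrix.mulVecLin_apply] at hw ⊢
    rw [Matrix.mulVec_mulVec, hg, ← Matrix.mulVec_mulVec, hw, Matrix.mulVec_zero]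
  rcases irred X r hX hX1 hi _ hinv with h | h
  · have : Function.Injective g.mulVecLin := LinearMap.ker_eq_bot.mp h
    exact this
  · exfalso
    apply hg0
    apply Matrix.toLin'.injective
    apply LinearMap.ext
    intro v
    have hv : v ∈ LinearMap.ker g.mulVecLin := by rw [h]; exact Submodule.mem_top
    rw [LinearMap.mem_ker, Matrix.mulVecLin_apply] at hv
    simp [Matrix.toLin'_apply, hv]

/-- evaluation at a vector -/
def ev (v : Fin n → F) : Matrix (Fin n) (Fin n) F →ₗ[F] (Fin n → F) where
  toFun g := g *ᵥ v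
  map_add' := fun a b => Matrix.add_mulVec a b v
  map_smul' := fun c a => Matrix.smul_mulVec c a v

lemma ev_apply (v : Fin n → F) (g : Matrix (Fin n) (Fin n) F) : ev v g = g *ᵥ v := rfl

end

theorem result {F : Type*} [Field F] [Fintype F] {p q : ℕ} [Fact p.Prime] [CharP F p] (hF : Fintype.card F = q) {n r : ℕ} (hn : 1 ≤ n) (hr : r.Prime) (hrp : r ≠ p) (hi : orderOf (q : ZMod r) = n) (x : GL (Fin n) F) (hx : orderOf x = r) : IsCyclic ↥(Subgroup.centralizer ({x} : Set (GL (Fin n) F))) ∧ Nat.card ↥(Subgroup.centralizer ({x} : Set (GL (Fin n) F))) = q ^ n - 1 := by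
  classical
  haveI : Fact r.Prime := ⟨hr⟩
  haveI : Nonempty (Fin n) := ⟨⟨0, hn⟩⟩
  subst hF
  set X : Matrix (Fin n) (Fin n) F := (x : Matrix (Fin n) (Fin n) F) with hXdef
  have hX : X ^ r = 1 := by
    have := pow_orderOf_eq_one x
    rw [hx] at this
    have h2 := congrArg (fun y : GL (Fin n) F => (y : Matrix (Fin n) (Fin n) F)) this
    simpa using h2
  have hX1 : X ≠ 1 := by
    intro h
    have hx1 : x = 1 := Units.ext h
    rw [hx1, orderOf_one] at hx
    exact hr.one_lt.ne' hx.symm
  set A : Subalgebra F (Matrix (Fin n) (Fin n) F) := Algebra.adjoin F {X} with hA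
  set C : Subalgebra F (Matrix (Fin n) (Fin n) F) := Subalgebra.centralizer F {X} with hC
  have memC : ∀ g, g ∈ C ↔ X * g = g * X := by
    intro g
    rw [hC, Subalgebra.mem_centralizer_iff]
    simp
  have hAC : A ≤ C := by
    apply Algebra.adjoin_le
    intro y hy
    rw [Set.mem_singleton_iff] at hy
    subst hy
    exact (memC _).mpr rfl
  set v₀ : Fin n → F := Pi.single ⟨0, hn⟩ 1 with hv₀
  have hv₀ne : v₀ ≠ 0 := by
    intro h
    have := congrFun h ⟨0, hn⟩
    simp [hv₀] at this
  have hCinj : ∀ g ∈ C, g *ᵥ v₀ = 0 → g = 0 := by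
    intro g hg hgv
    by_contra hg0
    have hu := isUnit_of_comm X r hX hX1 hi g ((memC g).mp hg).symm hg0
    rw [← Matrix.mulVec_injective_iff_isUnit] at hu
    apply hv₀ne
    apply hu
    rw [hgv, Matrix.mulVec_zero]
  have hAsurj : Submodule.map (ev v₀) (Subalgebra.toSubmodule A) = ⊤ := by
    have hinv : Inv X (Submodule.map (ev v₀) (Subalgebra.toSubmodule A)) := by
      rintro w ⟨a, ha, rfl⟩
      refine ⟨X * a, ?_, ?_⟩
      · exact A.mul_mem (Algebra.subset_adjoin (Set.mem_singleton X)) ha
      · rw [ev_apply, ev_apply, Matrix.mulVec_mulVec]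
    rcases irred X r hX hX1 hi _ hinv with h | h
    · exfalso
      apply hv₀ne
      have : v₀ ∈ Submodule.map (ev v₀) (Subalgebra.toSubmodule A) := by
        refine ⟨1, A.one_mem, ?_⟩
        rw [ev_apply, Matrix.one_mulVec]
      rw [h] at this
      exact (Submodule.mem_bot F).mp this
    · exact h
  have hdimA : n ≤ finrank F ↥(Subalgebra.toSubmodule A) := by
    have h1 := Submodule.finrank_map_le (ev v₀) (Subalgebra.toSubmodule A)
    rw [hAsurj, finrank_top, Module.finrank_fin_fun] at h1
    exact h1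
  have hdimC : finrank F ↥(Subalgebra.toSubmodule C) ≤ n := by
    have hinj : Function.Injective ((ev v₀).domRestrict (Subalgebra.toSubmodule C)) := by
      rw [← LinearMap.ker_eq_bot, LinearMap.ker_eq_bot']
      intro g hg
      apply Subtype.ext
      exact hCinj g.1 g.2 hg
    have := LinearMap.finrank_le_finrank_of_injective hinj
    rwa [Module.finrank_fin_fun] at this
  have hACle : Subalgebra.toSubmodule A ≤ Subalgebra.toSubmodule C := fun y hy => hAC hy
  have hdimAC : finrank F ↥(Subalgebra.toSubmodule A) ≤ finrank F ↥(Subalgebra.toSubmodule C) :=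
    Submodule.finrank_mono hACle
  have hEq : Subalgebra.toSubmodule A = Subalgebra.toSubmodule C :=
    Submodule.eq_of_le_of_finrank_le hACle (by omega)
  have hCA : ∀ g, g ∈ C → g ∈ A := by
    intro g hg
    have : g ∈ Subalgebra.toSubmodule C := hg
    rw [← hEq] at this
    exact this
  have hcardC : Nat.card C = Fintype.card F ^ n := by
    have h1 : finrank F ↥(Subalgebra.toSubmodule C) = n := by omega
    have h2 := Module.natCard_eq_pow_finrank (K := F) (V := ↥(Subalgebra.toSubmodule C))
    rw [h1, Nat.card_eq_fintype_card (α := F)] at h2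
    exact h2
  -- membership of centralizer elements
  have hZC : ∀ g : GL (Fin n) F, g ∈ Subgroup.centralizer ({x} : Set (GL (Fin n) F)) ↔
      (g : Matrix (Fin n) (Fin n) F) ∈ C := by
    intro g
    rw [Subgroup.mem_centralizer_iff, memC]
    constructor
    · intro h
      have := h x (Set.mem_singleton x)
      have h2 := congrArg (fun y : GL (Fin n) F => (y : Matrix (Fin n) (Fin n) F)) this
      simpa using h2
    · intro h y hy
      rw [Set.mem_singleton_iff] at hy
      subst hy
      apply Units.ext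
      simpa using h
  constructor
  · -- cyclic
    haveI : IsMulCommutative A := Algebra.isMulCommutative_adjoin F (s := {X}) (by
      intro a ha b hb
      rw [Set.mem_singleton_iff] at ha hb
      rw [ha, hb])
    haveI : NoZeroDivisors A := by
      constructor
      intro a b hab
      by_cases ha : a = 0
      · left; exact ha
      · right
        have ha' : (a : Matrix (Fin n) (Fin n) F) ≠ 0 := fun h => ha (Subtype.ext h)
        have hu := isUnit_of_comm X r hX hX1 hi a.1 ((memC _).mp (hAC a.2)).symm ha'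
        have h2 : (a : Matrix (Fin n) (Fin n) F) * (b : Matrix (Fin n) (Fin n) F) = 0 := by
          have := congrArg Subtype.val hab
          simpa using this
        apply Subtype.ext
        exact (hu.mul_right_eq_zero).mp h2
    haveI : IsDomain A := NoZeroDivisors.to_isDomain A
    let f : ↥(Subgroup.centralizer ({x} : Set (GL (Fin n) F))) →* A :=
      { toFun := fun g => ⟨(g.1 : Matrix (Fin n) (Fin n) F), hCA _ ((hZC g.1).mp g.2)⟩
        map_one' := rfl
        map_mul' := fun a b => rfl }
    apply isCyclic_of_injective_ringHom f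
    intro a b hab
    apply Subtype.ext
    apply Units.ext
    exact congrArg Subtype.val hab
  · -- cardinality
    have e : ↥(Subgroup.centralizer ({x} : Set (GL (Fin n) F))) ≃ {c : C // c ≠ 0} :=
      { toFun := fun g => ⟨⟨(g.1 : Matrix (Fin n) (Fin n) F), (hZC g.1).mp g.2⟩, by
          intro h
          have := congrArg Subtype.val h
          exact Units.ne_zero g.1 this⟩
        invFun := fun c => ⟨(isUnit_of_comm X r hX hX1 hi c.1.1 ((memC _).mp c.1.2).symm
            (fun h => c.2 (Subtype.ext h))).unit, by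
          rw [hZC]
          exact c.1.2⟩
        left_inv := by
          intro g
          apply Subtype.ext
          apply Units.ext
          rfl
        right_inv := by
          intro c
          apply Subtype.ext
          apply Subtype.ext
          rfl }
    rw [Nat.card_congr e]
    haveI : Fintype C := Fintype.ofFinite _
    rw [← hcardC, Nat.card_eq_fintype_card, Nat.card_eq_fintype_card, Fintype.card_subtype_compl,
      Fintype.card_subtype_eq]

end Cfsg.Agent.S2638
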