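import Cfsg.Statements.S2639
import Cfsg.Agent.Helper8.QuadExt
import Mathlib

set_option autoImplicit false
open Cfsg

namespace Cfsg.Agent.S2639

open Cfsg.Agent.Helper8.QuadExt
open scoped Matrix

section
variable {K F : Type*} [Field K] [Field F] [Algebra F K] {q : ℕ} (d : Data K F q) {m : ℕ}

/-- the standard alternating form -/
def om (x y : Fin m ⊕ Fin m → F) : F := x ⬝ᵥ (Matrix.J (Fin m) F *ᵥ y)

lemma om_eq (x y : Fin m ⊕ Fin m → F) :
    om x y = ∑ i : Fin m, (x (Sum.inr i) * y (Sum.inl i) - x (Sum.inl i) * y (Sum.inr i)) := by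
  unfold om Matrix.J
  simp only [dotProduct, Fintype.sum_sum_type, Matrix.mulVec, Matrix.fromBlocks_apply₁₁,
    Matrix.fromBlocks_apply₁₂, Matrix.fromBlocks_apply₂₁, Matrix.fromBlocks_apply₂₂, Matrix.zero_apply,
    Matrix.neg_apply, Matrix.one_apply, zero_mul, Finset.sum_const_zero, zero_add, add_zero]
  simp only [neg_mul, ite_mul, one_mul, zero_mul, Finset.sum_neg_distrib, Finset.sum_ite_eq,
    Finset.mem_univ, if_true, mul_neg]
  rw [Finset.sum_sub_distrib]
  ring

lemma om_E1 (u v : Fin m → K) :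
    algebraMap F K (om (E1 d (Fin m) u) (E1 d (Fin m) v)) * d.lam =
      hermForm m K q u v - hermForm m K q v u := by
  rw [om_eq]
  unfold hermForm
  rw [map_sum, Finset.sum_mul, ← Finset.sum_sub_distrib]
  apply Finset.sum_congr rfl
  intro i _
  rw [E1_inl, E1_inr, E1_inl, E1_inr, d.herm_alt]
  ring

end

theorem result {K F : Type*} [Field K] [Fintype K] [Field F] [Fintype F] {q : ℕ} (hK : Fintype.card K = q ^ 2) (hF : Fintype.card F = q) (m : ℕ) : ∃ φ : ↥(Cfsg.GU m K q) →* ↥(Matrix.symplecticGroup (Fin m) F), Function.Injective φ := by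
  classical
  obtain ⟨alg, ⟨d⟩⟩ := nonempty_data hK hF
  letI : Algebra F K := alg
  let E := E1 d (Fin m)
  have hmem : ∀ g : ↥(Cfsg.GU m K q),
      Phi E ((g.1 : GL (Fin m) K) : Matrix (Fin m) (Fin m) K) ∈ Matrix.symplecticGroup (Fin m) F := by
    intro g
    rw [SymplecticGroup.mem_iff']
    apply transpose_mul_mul_of_form
    intro x y
    obtain ⟨u, rfl⟩ := E.surjective x
    obtain ⟨v, rfl⟩ := E.surjective y
    rw [Phi_mulVec, Phi_mulVec]
    have hg : ∀ u v : Fin m → K,
        hermForm m K q (((g.1 : GL (Fin m) K) : Matrix (Fin m) (Fin m) K) *ᵥ u)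
          (((g.1 : GL (Fin m) K) : Matrix (Fin m) (Fin m) K) *ᵥ v) = hermForm m K q u v := g.2
    have h1 := om_E1 d (((g.1 : GL (Fin m) K) : Matrix (Fin m) (Fin m) K) *ᵥ u)
      (((g.1 : GL (Fin m) K) : Matrix (Fin m) (Fin m) K) *ᵥ v)
    rw [hg, hg, ← om_E1 d u v] at h1
    have h2 := mul_right_cancel₀ d.lam_ne h1
    exact (algebraMap F K).injective h2
  let φ : ↥(Cfsg.GU m K q) →* ↥(Matrix.symplecticGroup (Fin m) F) :=
    { toFun := fun g => ⟨Phi E ((g.1 : GL (Fin m) K) : Matrix (Fin m) (Fin m) K), hmem g⟩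
      map_one' := by
        apply Subtype.ext
        exact Phi_one E
      map_mul' := by
        intro a b
        apply Subtype.ext
        exact Phi_mul E _ _ }
  refine ⟨φ, ?_⟩
  intro a b hab
  have h1 : Phi E ((a.1 : GL (Fin m) K) : Matrix (Fin m) (Fin m) K) =
      Phi E ((b.1 : GL (Fin m) K) : Matrix (Fin m) (Fin m) K) := congrArg Subtype.val hab
  apply Subtype.ext
  apply Units.ext
  exact Phi_injective E h1

end Cfsg.Agent.S2639
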