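import Cfsg.Statements.S2640
import Cfsg.Agent.Helper8.QuadExt
import Mathlib

set_option autoImplicit false
open Cfsg

namespace Cfsg.Agent.S2640

open Cfsg.Agent.Helper8.QuadExt
open scoped Matrix

section
variable {K F : Type*} [Field K] [Field F] [Algebra F K] {q : ℕ} (d : Data K F q) (ε : K) {k : ℕ}

/-- `s = x - ε y` -/
def sv (u : Fin (k + k) → K) (i : Fin k) : K :=
  u (finSumFinEquiv (Sum.inl i)) - ε * u (finSumFinEquiv (Sum.inr i))

/-- `w = ε y + κ s` -/
noncomputable def wv (u : Fin (k + k) → K) (i : Fin k) : K :=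
  ε * u (finSumFinEquiv (Sum.inr i)) + d.kap * sv ε u i

lemma sv_add (u v : Fin (k + k) → K) (i : Fin k) : sv ε (u + v) i = sv ε u i + sv ε v i := by
  unfold sv
  simp only [Pi.add_apply]
  ring

lemma sv_smul (c : F) (u : Fin (k + k) → K) (i : Fin k) :
    sv ε (c • u) i = algebraMap F K c * sv ε u i := by
  unfold sv
  simp only [Pi.smul_apply, Algebra.smul_def]
  ring

lemma wv_add (u v : Fin (k + k) → K) (i : Fin k) : wv d ε (u + v) i = wv d ε u i + wv d ε v i := by
  unfold wv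
  rw [sv_add]
  simp only [Pi.add_apply]
  ring

lemma wv_smul (c : F) (u : Fin (k + k) → K) (i : Fin k) :
    wv d ε (c • u) i = algebraMap F K c * wv d ε u i := by
  unfold wv
  rw [sv_smul]
  simp only [Pi.smul_apply, Algebra.smul_def]
  ring

/-- the hyperbolic coordinates -/
noncomputable def LL : (Fin (k + k) → K) →ₗ[F] (Fin (k + k) ⊕ Fin (k + k) → F) where
  toFun u := Sum.elim
    (Sum.elim (fun i => d.re (sv ε u i)) (fun i => d.im (sv ε u i)) ∘ finSumFinEquiv.symm)
    (Sum.elim (fun i => d.trF (wv d ε u i)) (fun i => d.trF (d.θ ^ q * wv d ε u i)) ∘ finSumFinEquiv.symm)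
  map_add' := by
    intro u v
    ext (j | j)
    · simp only [Sum.elim_inl, Function.comp_apply, Pi.add_apply]
      rcases finSumFinEquiv.symm j with i | i <;> simp [sv_add, d.re_add, d.im_add]
    · simp only [Sum.elim_inr, Function.comp_apply, Pi.add_apply]
      rcases finSumFinEquiv.symm j with i | i <;> simp [wv_add, mul_add, d.trF_add]
  map_smul' := by
    intro c u
    ext (j | j)
    · simp only [Sum.elim_inl, Function.comp_apply, Pi.smul_apply, RingHom.id_apply]
      rcases finSumFinEquiv.symm j with i | i <;> simp [sv_smul, d.re_smul, d.im_smul]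
    · simp only [Sum.elim_inr, Function.comp_apply, Pi.smul_apply, RingHom.id_apply]
      rcases finSumFinEquiv.symm j with i | i
      · simp [wv_smul, d.trF_smul]
      · simp only [Sum.elim_inr, wv_smul, smul_eq_mul]
        rw [← mul_assoc, mul_comm (d.θ ^ q) (algebraMap F K c), mul_assoc, d.trF_smul]

lemma LL_inl_inl (u : Fin (k + k) → K) (i : Fin k) :
    LL d ε u (Sum.inl (finSumFinEquiv (Sum.inl i))) = d.re (sv ε u i) := by
  change (Sum.elim _ _ ∘ finSumFinEquiv.symm) (finSumFinEquiv (Sum.inl i)) = _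
  rw [Function.comp_apply, Equiv.symm_apply_apply]
  rfl

lemma LL_inl_inr (u : Fin (k + k) → K) (i : Fin k) :
    LL d ε u (Sum.inl (finSumFinEquiv (Sum.inr i))) = d.im (sv ε u i) := by
  change (Sum.elim _ _ ∘ finSumFinEquiv.symm) (finSumFinEquiv (Sum.inr i)) = _
  rw [Function.comp_apply, Equiv.symm_apply_apply]
  rfl

lemma LL_inr_inl (u : Fin (k + k) → K) (i : Fin k) :
    LL d ε u (Sum.inr (finSumFinEquiv (Sum.inl i))) = d.trF (wv d ε u i) := by
  change (Sum.elim _ _ ∘ finSumFinEquiv.symm) (finSumFinEquiv (Sum.inl i)) = _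
  rw [Function.comp_apply, Equiv.symm_apply_apply]
  rfl

lemma LL_inr_inr (u : Fin (k + k) → K) (i : Fin k) :
    LL d ε u (Sum.inr (finSumFinEquiv (Sum.inr i))) = d.trF (d.θ ^ q * wv d ε u i) := by
  change (Sum.elim _ _ ∘ finSumFinEquiv.symm) (finSumFinEquiv (Sum.inr i)) = _
  rw [Function.comp_apply, Equiv.symm_apply_apply]
  rfl

lemma pair_core {R : Type*} [CommRing R] (A B θ θq S Sq W Wq κ κq E Eq X Xq Y Yq : R)
    (h1 : A + θ * B = S) (h2 : Sq = A + θq * B) (hS : S = X - E * Y) (h3 : Sq = Xq - Eq * Yq)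
    (hW : W = E * Y + κ * S) (h4 : Wq = Eq * Yq + κq * Sq) (h5 : κ + κq = 1) (hε : E * Eq = -1) :
    A * (W + Wq) + B * (θq * W + θ * Wq) = X * Xq + Y * Yq := by
  linear_combination (-W) * h2 + Wq * h1 + Sq * hW + S * h4 + S * Sq * h5 + (E * Y + S) * h3 +
    Xq * hS - Y * Yq * hε

/-- the identity for one pair of coordinates -/
lemma pair_id (hε : ε * ε ^ q = -1) (x y : K) :
    algebraMap F K (d.re (x - ε * y) * d.trF (ε * y + d.kap * (x - ε * y)) +
      d.im (x - ε * y) * d.trF (d.θ ^ q * (ε * y + d.kap * (x - ε * y)))) = x * x ^ q + y * y ^ q := by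
  have h1 := d.decomp (x - ε * y)
  have h2 := d.pow_q_decomp (x - ε * y)
  have h3 : (x - ε * y) ^ q = x ^ q - ε ^ q * y ^ q := by rw [d.sub_pow, mul_pow]
  have h4 : (ε * y + d.kap * (x - ε * y)) ^ q = ε ^ q * y ^ q + d.kap ^ q * (x - ε * y) ^ q := by
    rw [d.add, mul_pow, mul_pow]
  have h5 := d.kap_trace
  simp only [map_add, map_mul, d.alg_trF, mul_pow, d.invol]
  exact pair_core _ _ _ _ _ _ _ _ _ _ _ _ _ _ _ _ h1 h2 rfl h3 rfl h4 h5 hε

lemma LL_quad (hε : ε * ε ^ q = -1) (u : Fin (k + k) → K) :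
    algebraMap F K (quadFormPlus (k + k) F (LL d ε u)) = hermForm (k + k) K q u u := by
  unfold quadFormPlus hermForm
  rw [← Equiv.sum_comp finSumFinEquiv, ← Equiv.sum_comp finSumFinEquiv (fun j => u j * u j ^ q),
    Fintype.sum_sum_type, Fintype.sum_sum_type, map_add, map_sum, map_sum, ← Finset.sum_add_distrib,
    ← Finset.sum_add_distrib]
  apply Finset.sum_congr rfl
  intro i _
  rw [LL_inl_inl, LL_inr_inl, LL_inl_inr, LL_inr_inr, ← map_add]
  exact pair_id d ε hε _ _

lemma LL_injective (hε : ε * ε ^ q = -1) : Function.Injective (LL d ε (k := k)) := by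
  rw [← LinearMap.ker_eq_bot, LinearMap.ker_eq_bot']
  intro u hu
  have hεne : ε ≠ 0 := by
    intro h
    rw [h, zero_mul] at hε
    have : (1 : K) = 0 := by linear_combination hε
    exact one_ne_zero this
  have key : ∀ i : Fin k, sv ε u i = 0 ∧ wv d ε u i = 0 := by
    intro i
    have a1 := congrFun hu (Sum.inl (finSumFinEquiv (Sum.inl i)))
    have a2 := congrFun hu (Sum.inl (finSumFinEquiv (Sum.inr i)))
    have a3 := congrFun hu (Sum.inr (finSumFinEquiv (Sum.inl i)))
    have a4 := congrFun hu (Sum.inr (finSumFinEquiv (Sum.inr i)))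
    rw [LL_inl_inl] at a1
    rw [LL_inl_inr] at a2
    rw [LL_inr_inl] at a3
    rw [LL_inr_inr] at a4
    exact ⟨d.eq_zero_of_re_im a1 a2, d.eq_zero_of_trF a3 a4⟩
  have hy : ∀ i : Fin k, u (finSumFinEquiv (Sum.inr i)) = 0 := by
    intro i
    obtain ⟨h1, h2⟩ := key i
    unfold wv at h2
    rw [h1, mul_zero, add_zero] at h2
    rcases mul_eq_zero.mp h2 with h | h
    · exact absurd h hεne
    · exact h
  have hx : ∀ i : Fin k, u (finSumFinEquiv (Sum.inl i)) = 0 := by
    intro i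
    obtain ⟨h1, _⟩ := key i
    unfold sv at h1
    rw [hy i, mul_zero, sub_zero] at h1
    exact h1
  ext j
  obtain ⟨s, rfl⟩ := finSumFinEquiv.surjective j
  rcases s with i | i
  · exact hx i
  · exact hy i

end

theorem result {K F : Type*} [Field K] [Fintype K] [Field F] [Fintype F] {q : ℕ} (hK : Fintype.card K = q ^ 2) (hF : Fintype.card F = q) (m : ℕ) (hm : Even m) : ∃ φ : ↥(Cfsg.GU m K q) →* ↥(Cfsg.isometryGroup F (Cfsg.quadFormPlus m F)), Function.Injective φ := by
  classical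
  obtain ⟨k, rfl⟩ := hm
  obtain ⟨alg, ⟨d⟩⟩ := nonempty_data hK hF
  letI : Algebra F K := alg
  obtain ⟨ε, hε⟩ := exists_norm_neg_one (F := F) hK hF
  have hfr : Module.finrank F (Fin (k + k) → K) = Module.finrank F (Fin (k + k) ⊕ Fin (k + k) → F) :=
    LinearEquiv.finrank_eq (E1 d (Fin (k + k)))
  haveI : Module.Finite F (Fin (k + k) → K) := Module.Finite.equiv (E1 d (Fin (k + k))).symm
  let E : (Fin (k + k) → K) ≃ₗ[F] (Fin (k + k) ⊕ Fin (k + k) → F) :=
    LinearMap.linearEquivOfInjective (LL d ε) (LL_injective d ε hε) hfr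
  have hE : ∀ u, E u = LL d ε u := fun u => rfl
  let PhiHom : Matrix (Fin (k + k)) (Fin (k + k)) K →* Matrix (Fin (k + k) ⊕ Fin (k + k)) (Fin (k + k) ⊕ Fin (k + k)) F :=
    { toFun := Phi E
      map_one' := Phi_one E
      map_mul' := Phi_mul E }
  have hmem : ∀ g : ↥(Cfsg.GU (k + k) K q),
      Units.map PhiHom (g.1 : GL (Fin (k + k)) K) ∈ Cfsg.isometryGroup F (Cfsg.quadFormPlus (k + k) F) := by
    intro g x y
    change quadFormPlus (k + k) F (Phi E ((g.1 : GL (Fin (k + k)) K) : Matrix (Fin (k + k)) (Fin (k + k)) K) *ᵥ x)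
      = quadFormPlus (k + k) F x
    obtain ⟨u, rfl⟩ := E.surjective x
    rw [Phi_mulVec, hE, hE]
    apply (algebraMap F K).injective
    rw [LL_quad d ε hε, LL_quad d ε hε]
    exact g.2 u u
  let φ : ↥(Cfsg.GU (k + k) K q) →* ↥(Cfsg.isometryGroup F (Cfsg.quadFormPlus (k + k) F)) :=
    ((Units.map PhiHom).comp (Cfsg.GU (k + k) K q).subtype).codRestrict _ hmem
  refine ⟨φ, ?_⟩
  intro a b hab
  have h1 : Units.map PhiHom (a.1 : GL (Fin (k + k)) K) = Units.map PhiHom (b.1 : GL (Fin (k + k)) K) :=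
    congrArg Subtype.val hab
  have h2 : Phi E ((a.1 : GL (Fin (k + k)) K) : Matrix (Fin (k + k)) (Fin (k + k)) K) =
      Phi E ((b.1 : GL (Fin (k + k)) K) : Matrix (Fin (k + k)) (Fin (k + k)) K) :=
    congrArg Units.val h1
  apply Subtype.ext
  apply Units.ext
  exact Phi_injective E h2

end Cfsg.Agent.S2640
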