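import Cfsg.Statements.S2641
import Cfsg.Agent.Helper8.QuadExt
import Cfsg.Agent.S2640
import Mathlib

set_option autoImplicit false
open Cfsg

namespace Cfsg.Agent.S2641

open Cfsg.Agent.Helper8.QuadExt Cfsg.Agent.S2640
open scoped Matrix

section
variable {K F : Type*} [Field K] [Field F] [Algebra F K] {q : ℕ} (d d' : Data K F q) (ε : K) {k : ℕ}

/-- the coordinates: hyperbolic pairs plus the anisotropic plane -/
noncomputable def LM : (Fin (k + k + 1) → K) →ₗ[F] ((Fin (k + k) ⊕ Fin (k + k)) ⊕ Fin 2 → F) where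
  toFun u := Sum.elim (LL d ε (fun j => u (Fin.castSucc j)))
    (fun t => if t = 0 then d'.re (u (Fin.last _)) else d'.im (u (Fin.last _)))
  map_add' := by
    intro u v
    have h : (fun j => (u + v) (Fin.castSucc j)) = (fun j => u (Fin.castSucc j)) + (fun j => v (Fin.castSucc j)) := rfl
    ext (j | t)
    · simp only [Sum.elim_inl, Pi.add_apply]
      change LL d ε ((fun j => u (Fin.castSucc j)) + (fun j => v (Fin.castSucc j))) j = _
      rw [map_add]
      rfl
    · simp only [Sum.elim_inr, Pi.add_apply]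
      split_ifs
      · exact d'.re_add _ _
      · exact d'.im_add _ _
  map_smul' := by
    intro c u
    have h : (fun j => (c • u) (Fin.castSucc j)) = c • (fun j => u (Fin.castSucc j)) := rfl
    ext (j | t)
    · simp only [Sum.elim_inl, Pi.smul_apply, RingHom.id_apply]
      change LL d ε (c • (fun j => u (Fin.castSucc j))) j = _
      rw [map_smul]
      rfl
    · simp only [Sum.elim_inr, Pi.smul_apply, RingHom.id_apply, Algebra.smul_def]
      split_ifs
      · exact d'.re_smul _ _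
      · exact d'.im_smul _ _

lemma LM_inl (u : Fin (k + k + 1) → K) (j : Fin (k + k) ⊕ Fin (k + k)) :
    LM d d' ε u (Sum.inl j) = LL d ε (fun j => u (Fin.castSucc j)) j := rfl

lemma LM_inr0 (u : Fin (k + k + 1) → K) : LM d d' ε u (Sum.inr 0) = d'.re (u (Fin.last _)) := rfl

lemma LM_inr1 (u : Fin (k + k + 1) → K) : LM d d' ε u (Sum.inr 1) = d'.im (u (Fin.last _)) := rfl

lemma norm_id (a b : F) (h1 : d'.θ + d'.θ ^ q = algebraMap F K a)
    (h2 : d'.θ * d'.θ ^ q = algebraMap F K b) (x : K) :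
    algebraMap F K (d'.re x ^ 2 + a * d'.re x * d'.im x + b * d'.im x ^ 2) = x * x ^ q := by
  have e1 := d'.decomp x
  have e2 := d'.pow_q_decomp x
  have key : x * x ^ q = (algebraMap F K (d'.re x) + d'.θ * algebraMap F K (d'.im x)) *
      (algebraMap F K (d'.re x) + d'.θ ^ q * algebraMap F K (d'.im x)) := by
    rw [e1, ← e2]
  rw [key]
  simp only [map_add, map_mul, map_pow]
  rw [← h1, ← h2]
  ring

lemma LM_quad (hε : ε * ε ^ q = -1) (a b : F) (h1 : d'.θ + d'.θ ^ q = algebraMap F K a)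
    (h2 : d'.θ * d'.θ ^ q = algebraMap F K b) (u : Fin (k + k + 1) → K) :
    algebraMap F K (quadFormMinus (k + k) F a b (LM d d' ε u)) = hermForm (k + k + 1) K q u u := by
  have hq : quadFormMinus (k + k) F a b (LM d d' ε u) =
      quadFormPlus (k + k) F (LL d ε (fun j => u (Fin.castSucc j))) +
        (d'.re (u (Fin.last _)) ^ 2 + a * d'.re (u (Fin.last _)) * d'.im (u (Fin.last _)) +
          b * d'.im (u (Fin.last _)) ^ 2) := by
    unfold quadFormMinus quadFormPlus
    simp only [LM_inl, LM_inr0, LM_inr1]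
  rw [hq, map_add, LL_quad d ε hε, norm_id d' a b h1 h2]
  unfold hermForm
  rw [Fin.sum_univ_castSucc]

lemma LM_injective (hε : ε * ε ^ q = -1) : Function.Injective (LM d d' ε (k := k)) := by
  rw [← LinearMap.ker_eq_bot, LinearMap.ker_eq_bot']
  intro u hu
  have h1 : LL d ε (fun j => u (Fin.castSucc j)) = 0 := by
    ext j
    have := congrFun hu (Sum.inl j)
    rw [LM_inl] at this
    exact this
  have h2 := LL_injective d ε hε (h1.trans (map_zero _).symm)
  have h3 : u (Fin.last _) = 0 := by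
    apply d'.eq_zero_of_re_im
    · have := congrFun hu (Sum.inr 0)
      rw [LM_inr0] at this
      exact this
    · have := congrFun hu (Sum.inr 1)
      rw [LM_inr1] at this
      exact this
  ext j
  refine Fin.lastCases ?_ (fun i => ?_) j
  · exact h3
  · exact congrFun h2 i

end

theorem main {K F : Type*} [Field K] [Fintype K] [Field F] [Fintype F] {q : ℕ} (hK : Fintype.card K = q ^ 2) (hF : Fintype.card F = q) (k : ℕ) (a b : F) (hab : ∀ z₁ z₂ : F, z₁ ^ 2 + a * z₁ * z₂ + b * z₂ ^ 2 = 0 → z₁ = 0 ∧ z₂ = 0) : ∃ φ : ↥(Cfsg.GU (k + k + 1) K q) →* ↥(Cfsg.isometryGroup F (Cfsg.quadFormMinus (k + k) F a b)), Function.Injective φ := by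
  classical
  obtain ⟨alg, ⟨d⟩⟩ := nonempty_data hK hF
  letI : Algebra F K := alg
  obtain ⟨ε, hε⟩ := exists_norm_neg_one (F := F) hK hF
  obtain ⟨η, hη⟩ := exists_root hK hF a b hab
  obtain ⟨hηne, hη1, hη2⟩ := d.root_props a b hab η hη
  let d' : Data K F q := d.withTheta η hηne
  have hd1 : d'.θ + d'.θ ^ q = algebraMap F K a := hη1
  have hd2 : d'.θ * d'.θ ^ q = algebraMap F K b := hη2
  have hfr : Module.finrank F (Fin (k + k + 1) → K) =
      Module.finrank F ((Fin (k + k) ⊕ Fin (k + k)) ⊕ Fin 2 → F) := by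
    rw [LinearEquiv.finrank_eq (E1 d (Fin (k + k + 1))), Module.finrank_fintype_fun_eq_card,
      Module.finrank_fintype_fun_eq_card]
    simp only [Fintype.card_sum, Fintype.card_fin]
    ring
  haveI : Module.Finite F (Fin (k + k + 1) → K) := Module.Finite.equiv (E1 d (Fin (k + k + 1))).symm
  let E : (Fin (k + k + 1) → K) ≃ₗ[F] ((Fin (k + k) ⊕ Fin (k + k)) ⊕ Fin 2 → F) :=
    LinearMap.linearEquivOfInjective (LM d d' ε) (LM_injective d d' ε hε) hfr
  have hE : ∀ u, E u = LM d d' ε u := fun u => rfl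
  let PhiHom : Matrix (Fin (k + k + 1)) (Fin (k + k + 1)) K →*
      Matrix ((Fin (k + k) ⊕ Fin (k + k)) ⊕ Fin 2) ((Fin (k + k) ⊕ Fin (k + k)) ⊕ Fin 2) F :=
    { toFun := Phi E
      map_one' := Phi_one E
      map_mul' := Phi_mul E }
  have hmem : ∀ g : ↥(Cfsg.GU (k + k + 1) K q),
      Units.map PhiHom (g.1 : GL (Fin (k + k + 1)) K) ∈
        Cfsg.isometryGroup F (Cfsg.quadFormMinus (k + k) F a b) := by
    intro g x y
    change quadFormMinus (k + k) F a b
      (Phi E ((g.1 : GL (Fin (k + k + 1)) K) : Matrix (Fin (k + k + 1)) (Fin (k + k + 1)) K) *ᵥ x)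
      = quadFormMinus (k + k) F a b x
    obtain ⟨u, rfl⟩ := E.surjective x
    rw [Phi_mulVec, hE, hE]
    apply (algebraMap F K).injective
    rw [LM_quad d d' ε hε a b hd1 hd2, LM_quad d d' ε hε a b hd1 hd2]
    exact g.2 u u
  let φ : ↥(Cfsg.GU (k + k + 1) K q) →* ↥(Cfsg.isometryGroup F (Cfsg.quadFormMinus (k + k) F a b)) :=
    ((Units.map PhiHom).comp (Cfsg.GU (k + k + 1) K q).subtype).codRestrict _ hmem
  refine ⟨φ, ?_⟩
  intro x y hxy
  have h1 : Units.map PhiHom (x.1 : GL (Fin (k + k + 1)) K) =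
      Units.map PhiHom (y.1 : GL (Fin (k + k + 1)) K) := congrArg Subtype.val hxy
  have h2 : Phi E ((x.1 : GL (Fin (k + k + 1)) K) : Matrix (Fin (k + k + 1)) (Fin (k + k + 1)) K) =
      Phi E ((y.1 : GL (Fin (k + k + 1)) K) : Matrix (Fin (k + k + 1)) (Fin (k + k + 1)) K) :=
    congrArg Units.val h1
  apply Subtype.ext
  apply Units.ext
  exact Phi_injective E h2

theorem result {K F : Type*} [Field K] [Fintype K] [Field F] [Fintype F] {q : ℕ} (hK : Fintype.card K = q ^ 2) (hF : Fintype.card F = q) (m : ℕ) (hm : Odd m) (a b : F) (hab : ∀ z₁ z₂ : F, z₁ ^ 2 + a * z₁ * z₂ + b * z₂ ^ 2 = 0 → z₁ = 0 ∧ z₂ = 0) : ∃ φ : ↥(Cfsg.GU m K q) →* ↥(Cfsg.isometryGroup F (Cfsg.quadFormMinus (m - 1) F a b)), Function.Injective φ := by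
  obtain ⟨k, hk⟩ : ∃ k, m = k + k + 1 := by
    obtain ⟨r, hr⟩ := hm
    exact ⟨r, by omega⟩
  subst hk
  exact main hK hF k a b hab

end Cfsg.Agent.S2641
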