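import Cfsg.Statements.S2648
import Mathlib
import Cfsg.Agent.Helper4.SpWreathB

set_option autoImplicit false
open Cfsg

namespace Cfsg.Agent.S2648

/-- Let q be odd, F a field with q elements and n ≥ 1. A Sylow 2-subgroup R of the symplectic group Sp_{2n}(F) has derived length exactly k + 1, where 2^k ≤ 2n < 2^{k+1}: the (k+1)-st term of its derived series is trivial and the k-th is not. -/
theorem result {F : Type*} [Field F] [Fintype F] [DecidableEq F] (q : ℕ) (hF : Fintype.card F = q) (hq : Odd q) (n : ℕ) (hn : 1 ≤ n) (R : Sylow 2 ↥(Matrix.symplecticGroup (Fin n) F)) : derivedSeries ↥(R : Subgroup ↥(Matrix.symplecticGroup (Fin n) F)) (Nat.log 2 (2 * n) + 1) = ⊥ ∧ derivedSeries ↥(R : Subgroup ↥(Matrix.symplecticGroup (Fin n) F)) (Nat.log 2 (2 * n)) ≠ ⊥ := by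
  classical
  subst hF
  refine ⟨?_, Cfsg.Agent.Helper4.SpWreath.sylow_sp_derivedSeries_ne_bot hq n hn R⟩
  let ρ : Representation F ↥(R : Subgroup ↥(Matrix.symplecticGroup (Fin n) F))
      (Fin n ⊕ Fin n → F) :=
    (AlgEquiv.toMulEquiv (Matrix.toLinAlgEquiv' (R := F) (n := Fin n ⊕ Fin n))).toMonoidHom.comp
      ((Matrix.symplecticGroup (Fin n) F).subtype.comp
        (R : Subgroup ↥(Matrix.symplecticGroup (Fin n) F)).subtype)
  have hinj : Function.Injective ρ := by
    intro x y hxy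
    have h1 : ((x : ↥(Matrix.symplecticGroup (Fin n) F)) : Matrix (Fin n ⊕ Fin n) (Fin n ⊕ Fin n) F)
        = ((y : ↥(Matrix.symplecticGroup (Fin n) F)) : Matrix (Fin n ⊕ Fin n) (Fin n ⊕ Fin n) F) :=
      (AlgEquiv.toMulEquiv
        (Matrix.toLinAlgEquiv' (R := F) (n := Fin n ⊕ Fin n))).injective hxy
    exact Subtype.ext (Subtype.ext h1)
  have hfr : Module.finrank F (Fin n ⊕ Fin n → F) = 2 * n := by
    rw [Module.finrank_fintype_fun_eq_card, Fintype.card_sum, Fintype.card_fin]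
    ring
  rw [eq_bot_iff]
  intro g hg
  rw [Subgroup.mem_bot]
  apply hinj
  rw [map_one]
  refine Cfsg.Agent.Helper4.PLinField.derivedSeries_le_ker_field F 2 (Fin n ⊕ Fin n → F)
    ↥(R : Subgroup ↥(Matrix.symplecticGroup (Fin n) F)) R.2 ρ g ?_
  rw [hfr]
  exact hg

end Cfsg.Agent.S2648
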