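import Cfsg.Statements.S2649
import Cfsg.Agent.S0376
import Cfsg.Agent.Helper3.M23Ext.Main6

set_option autoImplicit false
open Cfsg

namespace Cfsg.Agent.S2649

open Cfsg.Agent.Helper9.Golay Cfsg.Agent.Helper3.M23Ext

theorem card_M23' : Nat.card ↥Cfsg.Spor.M23 = 10200960 := by
  rw [← Cfsg.Agent.S0376.result none]
  apply Nat.card_congr
  exact ⟨fun x => ⟨⟨x.1, (Subgroup.mem_inf.1 x.2).1⟩, (Subgroup.mem_inf.1 x.2).2⟩,
    fun x => ⟨x.1.1, Subgroup.mem_inf.2 ⟨x.1.2, x.2⟩⟩, fun _ => rfl, fun _ => rfl⟩

/-- Extensions of the Mathieu group M₂₃ by its code module split. Let E be a finite group with a normal subgroup N, an isomorphism φ from E/N onto M₂₃ = `Spor.M23` (the stabiliser of the extra point `none` in M₂₄ acting on the 24 points `GolayPt`), and an injective additive homomorphism ψ from N onto the set of words of the binary Golay code `golayCode` that vanish at `none` (an 11-dimensional space over the field with two elements), such that conjugation by g ∈ E on N corresponds under ψ to the coordinate permutation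 w ↦ w ∘ σ⁻¹, σ the permutation φ(gN). Then N has a complement in E: some subgroup H meets N trivially and generates E together with N. (Equivalently, the second cohomology group of M₂₃ with coefficients in this module vanishes.) -/
theorem result
    {E : Type*} [Group E] [Finite E] (N : Subgroup E) [hN : N.Normal]
    (φ : E ⧸ N ≃* ↥Cfsg.Spor.M23)
    (ψ : Additive ↥N →+ (Cfsg.GolayPt → ZMod 2)) (hinj : Function.Injective ψ)
    (hrange : ∀ w : Cfsg.GolayPt → ZMod 2, w ∈ Set.range ψ ↔ (w ∈ Cfsg.golayCode ∧ w none = 0))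
    (hψ : ∀ (g : E) (n : ↥N),
      ψ (Additive.ofMul ⟨g * n * g⁻¹, hN.conj_mem n n.2 g⟩)
        = ψ (Additive.ofMul n) ∘ ⇑(((φ (QuotientGroup.mk g) : ↥Cfsg.Spor.M23) : Equiv.Perm Cfsg.GolayPt)⁻¹)) :
    ∃ H : Subgroup E, H ⊓ N = ⊥ ∧ H ⊔ N = ⊤ := by
  classical
  let π : E →* Equiv.Perm GolayPt :=
    (Subgroup.subtype Cfsg.Spor.M23).comp (φ.toMonoidHom.comp (QuotientGroup.mk' N))
  have hπ : ∀ g : E, π g = ((φ (QuotientGroup.mk g) : ↥Cfsg.Spor.M23) : Equiv.Perm GolayPt) :=
    fun _ => rfl
  let Ψ : E → ℕ := fun x => if h : x ∈ N then encW (ψ (Additive.ofMul ⟨x, h⟩)) else 0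
  have hΨ : ∀ (x : E) (h : x ∈ N), Ψ x = encW (ψ (Additive.ofMul ⟨x, h⟩)) := by
    intro x h
    simp only [Ψ, dif_pos h]
  have hmemA : ∀ (x : E) (h : x ∈ N), ψ (Additive.ofMul ⟨x, h⟩) ∈ Cfsg.golayCode ∧
      ψ (Additive.ofMul ⟨x, h⟩) none = 0 := fun x h => (hrange _).1 ⟨_, rfl⟩
  let D : ExtData E :=
    { N := N
      nN := hN
      π := π
      Ψ := Ψ
      mem_N := by
        intro x
        rw [hπ]
        constructor
        · intro hx
          have : (QuotientGroup.mk x : E ⧸ N) = 1 := (QuotientGroup.eq_one_iff x).2 hx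
          rw [this, map_one]
          rfl
        · intro hx
          have h1 : φ (QuotientGroup.mk x) = 1 := Subtype.ext hx
          have h2 : (QuotientGroup.mk x : E ⧸ N) = 1 := by
            have := congrArg φ.symm h1
            rwa [MulEquiv.symm_apply_apply, map_one] at this
          exact (QuotientGroup.eq_one_iff x).1 h2
      lift := by
        intro g hg
        obtain ⟨x, hx⟩ := QuotientGroup.mk_surjective (φ.symm ⟨g, hg⟩)
        refine ⟨x, ?_⟩
        rw [hπ, hx, MulEquiv.apply_symm_apply]
      Ψ_mul := by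
        intro x hx y hy
        rw [hΨ x hx, hΨ y hy, hΨ (x * y) (N.mul_mem hx hy), ← encW_add, ← map_add]
        rfl
      Ψ_conj := by
        intro g x t hx ht
        rw [hΨ x hx, hΨ _ (hN.conj_mem x hx g)]
        have h := hψ g ⟨x, hx⟩
        rw [← hπ g] at h
        rw [h]
        exact encW_comp_tbl ht _
      Ψ_inj := by
        intro x hx h
        rw [hΨ x hx, ← encW_zero] at h
        have h1 := encW_injective h
        have h2 : ψ (Additive.ofMul ⟨x, hx⟩) = ψ 0 := by rw [h1, map_zero]
        have h3 := hinj h2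
        have h4 : (⟨x, hx⟩ : ↥N) = 1 := h3
        exact congrArg Subtype.val h4
      Ψ_mem := by
        intro x hx
        rw [hΨ x hx, mem_Alist]
        obtain ⟨h1, h2⟩ := hmemA x hx
        refine ⟨(mem_golayCode_iff _).1 h1, ?_⟩
        have h3 := testBit_encW (ψ (Additive.ofMul ⟨x, hx⟩)) none
        have h4 : ptIdx (none : GolayPt) = 23 := rfl
        rw [h4] at h3
        rw [h3, h2]
        simp
      Ψ_surj := by
        intro m hm
        rw [mem_Alist] at hm
        have hlt : m < 2 ^ 24 := codeList_lt hm.1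
        have h1 : decW m ∈ Cfsg.golayCode := decW_mem_of_mem_codeList hm.1
        have h2 : decW m none = 0 := by
          unfold decW
          have h4 : ptIdx (none : GolayPt) = 23 := rfl
          rw [h4, hm.2]
          simp
        obtain ⟨n, hn⟩ := (hrange (decW m)).2 ⟨h1, h2⟩
        refine ⟨(Additive.toMul n : ↥N).1, (Additive.toMul n : ↥N).2, ?_⟩
        rw [hΨ _ (Additive.toMul n : ↥N).2]
        have : (Additive.ofMul (⟨(Additive.toMul n : ↥N).1, (Additive.toMul n : ↥N).2⟩ : ↥N)) = n := rfl
        rw [this, hn, encW_decW m hlt] }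
  have hidx : D.N.index = 10200960 := by
    show N.index = 10200960
    rw [Subgroup.index_eq_card, Nat.card_congr φ.toEquiv, card_M23']
  exact D.split hidx

end Cfsg.Agent.S2649
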