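import Cfsg.Statements.S2665
import Mathlib

set_option autoImplicit false
open Cfsg

namespace Cfsg.Agent.S2665

open Module Polynomial

section poly
variable {K : Type*} [Field K]

/-- the additive polynomials attached to a coefficient sequence. -/
noncomputable def Xp (q : ℕ) (a : ℕ → K) : ℕ → K[X]
  | 0 => C (a 0) * X ^ q
  | (i + 1) => (Xp q a i) ^ q + C (a (i + 1)) * X ^ q

theorem Xp_zero (q : ℕ) (a : ℕ → K) : Xp q a 0 = C (a 0) * X ^ q := rfl

theorem Xp_succ (q : ℕ) (a : ℕ → K) (i : ℕ) :
    Xp q a (i + 1) = (Xp q a i) ^ q + C (a (i + 1)) * X ^ q := rfl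

theorem cast_q_eq_zero (p : ℕ) [CharP K p] {f : ℕ} (hf : 1 ≤ f) : ((p ^ f : ℕ) : K) = 0 := by
  obtain ⟨k, rfl⟩ : ∃ k, f = k + 1 := ⟨f - 1, by omega⟩
  rw [pow_succ, Nat.cast_mul, CharP.cast_eq_zero K p, mul_zero]

theorem derivative_Xp (p : ℕ) [CharP K p] {f : ℕ} (hf : 1 ≤ f) (a : ℕ → K) (i : ℕ) :
    derivative (Xp (p ^ f) a i) = 0 := by
  induction i with
  | zero =>
    rw [Xp_zero, derivative_mul, derivative_C, zero_mul, zero_add, derivative_X_pow,
      cast_q_eq_zero p hf, map_zero, zero_mul, mul_zero]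
  | succ i ih =>
    rw [Xp_succ, derivative_add, derivative_pow, ih, mul_zero, zero_add, derivative_mul,
      derivative_C, zero_mul, zero_add, derivative_X_pow,
      cast_q_eq_zero p hf, map_zero, zero_mul, mul_zero]

theorem eval_zero_Xp {q : ℕ} (hq : 1 ≤ q) (a : ℕ → K) (i : ℕ) : (Xp q a i).eval 0 = 0 := by
  induction i with
  | zero => rw [Xp_zero]; simp [zero_pow (show q ≠ 0 by omega)]
  | succ i ih => rw [Xp_succ]; simp [ih, zero_pow (show q ≠ 0 by omega)]

theorem natDegree_Xp {q : ℕ} (hq : 2 ≤ q) (a : ℕ → K) (i : ℕ) :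
    (Xp q a i = 0 ∧ ∀ j ≤ i, a j = 0) ∨ q ≤ (Xp q a i).natDegree := by
  induction i with
  | zero =>
    by_cases h : a 0 = 0
    · left
      refine ⟨by rw [Xp_zero, h, map_zero, zero_mul], fun j hj => ?_⟩
      obtain rfl : j = 0 := by omega
      exact h
    · right
      rw [Xp_zero, natDegree_C_mul_X_pow _ _ h]
  | succ i ih =>
    rcases ih with ⟨h0, hall⟩ | hdeg
    · by_cases h : a (i + 1) = 0
      · left
        refine ⟨by rw [Xp_succ, h0, h, map_zero, zero_mul, zero_pow (by omega), zero_add],
          fun j hj => ?_⟩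
        rcases Nat.lt_or_ge j (i + 1) with hj' | hj'
        · exact hall j (by omega)
        · obtain rfl : j = i + 1 := by omega
          exact h
      · right
        rw [Xp_succ, h0, zero_pow (by omega), zero_add, natDegree_C_mul_X_pow _ _ h]
    · right
      have h1 : (C (a (i + 1)) * X ^ q : K[X]).natDegree < ((Xp q a i) ^ q).natDegree := by
        rw [natDegree_pow]
        calc (C (a (i + 1)) * X ^ q : K[X]).natDegree ≤ q := natDegree_C_mul_X_pow_le _ _
          _ < q * q := by nlinarith
          _ ≤ q * (Xp q a i).natDegree := Nat.mul_le_mul_left _ hdeg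
      rw [Xp_succ, natDegree_add_eq_left_of_natDegree_lt h1, natDegree_pow]
      nlinarith

/-- an additive-type polynomial equation has a nonzero root. -/
theorem exists_root_Xp [IsAlgClosed K] (p : ℕ) [Fact p.Prime] [CharP K p] {f : ℕ} (hf : 1 ≤ f) (a : ℕ → K) (i : ℕ) (ha : ∃ j ≤ i, a j ≠ 0) :
    ∃ t : K, t ≠ 0 ∧ (Xp (p ^ f) a i).eval t = t := by
  have hp : 2 ≤ p := (Fact.out : p.Prime).two_le
  have hq : 2 ≤ p ^ f := by
    calc 2 ≤ p ^ 1 := by rw [pow_one]; exact hp
      _ ≤ p ^ f := Nat.pow_le_pow_right (by omega) hf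
  set P : K[X] := Xp (p ^ f) a i - X with hP
  have hdeg : p ^ f ≤ (Xp (p ^ f) a i).natDegree := by
    rcases natDegree_Xp hq a i with ⟨_, hall⟩ | h
    · obtain ⟨j, hj, hj0⟩ := ha
      exact absurd (hall j hj) hj0
    · exact h
  have hPdeg : P.natDegree = (Xp (p ^ f) a i).natDegree := by
    rw [hP]
    apply natDegree_sub_eq_left_of_natDegree_lt
    rw [natDegree_X]
    omega
  have hP0 : P.eval 0 = 0 := by
    rw [hP, eval_sub, eval_zero_Xp (by omega), eval_X, sub_zero]
  obtain ⟨Q, hQ⟩ : X ∣ P := by
    rw [X_dvd_iff, coeff_zero_eq_eval_zero]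
    exact hP0
  have hQ0 : Q.eval 0 = -1 := by
    have h1 : derivative P = -1 := by
      rw [hP, derivative_sub, derivative_Xp p hf, derivative_X, zero_sub]
    rw [hQ, derivative_mul, derivative_X, one_mul] at h1
    have h2 := congrArg (eval 0) h1
    simpa using h2
  have hQdeg : Q.degree ≠ 0 := by
    intro h
    have hQne : Q ≠ 0 := by
      rintro rfl
      simp at hQ0
    have h3 : P.natDegree = 1 + Q.natDegree := by
      rw [hQ, natDegree_mul X_ne_zero hQne, natDegree_X]
    have h4 : Q.natDegree = 0 := natDegree_eq_of_degree_eq_some h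
    omega
  obtain ⟨t, ht⟩ := IsAlgClosed.exists_root Q hQdeg
  refine ⟨t, ?_, ?_⟩
  · rintro rfl
    rw [IsRoot.def, hQ0] at ht
    exact absurd ht (by norm_num)
  · have h5 : P.eval t = 0 := by rw [hQ, eval_mul, ht, mul_zero]
    rw [hP, eval_sub, eval_X] at h5
    exact sub_eq_zero.mp h5

end poly

section fixed
variable {K : Type*} [Field K] {V : Type*} [AddCommGroup V] [Module K V]

theorem exists_dep [FiniteDimensional K V] (φ : V → V) (v : V) :
    ∃ r, φ^[r] v ∈ Submodule.span K (Set.range fun i : Fin r => φ^[i] v) := by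
  by_contra h
  push Not at h
  have hli : ∀ m, LinearIndependent K (fun i : Fin m => φ^[i] v) := by
    intro m
    induction m with
    | zero => exact linearIndependent_empty_type
    | succ m ih =>
      rw [linearIndependent_finSucc']
      exact ⟨ih, h m⟩
  have := (hli (finrank K V + 1)).fintype_card_le_finrank
  simp at this

theorem iterate_zero' {F : K →+* K} (φ : V →ₛₗ[F] V) (n : ℕ) : φ^[n] 0 = 0 :=
  Function.iterate_fixed (map_zero φ) n

theorem exists_fixed [IsAlgClosed K] (p : ℕ) [Fact p.Prime] [CharP K p] {f : ℕ} (hf : 1 ≤ f)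
    [FiniteDimensional K V] [Nontrivial V]
    (φ : V →ₛₗ[iterateFrobenius K p f] V) (hφ : Function.Injective φ) :
    ∃ v : V, v ≠ 0 ∧ φ v = v := by
  classical
  obtain ⟨v, hv⟩ := exists_ne (0 : V)
  set vs : ℕ → V := fun i => φ^[i] v with hvs
  have hsucc : ∀ i, vs (i + 1) = φ (vs i) := fun i => Function.iterate_succ_apply' φ i v
  have hex := exists_dep (K := K) φ v
  obtain ⟨r, hr_spec, hr_min⟩ : ∃ r, vs r ∈ Submodule.span K (Set.range fun i : Fin r => vs i) ∧
      ∀ m < r, vs m ∉ Submodule.span K (Set.range fun i : Fin m => vs i) :=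
    ⟨Nat.find hex, Nat.find_spec hex, fun m hm => Nat.find_min hex hm⟩
  rcases r with _ | r'
  · exfalso
    have : Set.range (fun i : Fin 0 => vs i) = ∅ := Set.range_eq_empty _
    rw [this, Submodule.span_empty, Submodule.mem_bot] at hr_spec
    exact hv hr_spec
  obtain ⟨a, ha⟩ := (Submodule.mem_span_range_iff_exists_fun K).mp hr_spec
  set a' : ℕ → K := fun i => if h : i < r' + 1 then a ⟨i, h⟩ else 0 with ha'def
  have ha' : ∀ i : Fin (r' + 1), a' i = a i := fun i => by
    show (if h : (i : ℕ) < r' + 1 then a ⟨i, h⟩ else 0) = a i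
    rw [dif_pos i.2]
  have hne : ∃ j ≤ r', a' j ≠ 0 := by
    by_contra hall
    push Not at hall
    have h0 : ∀ i : Fin (r' + 1), a i = 0 := fun i => by
      rw [← ha']
      exact hall i (by have := i.2; omega)
    have h1 : vs (r' + 1) = 0 := by
      rw [← ha]
      exact Finset.sum_eq_zero fun i _ => by rw [h0, zero_smul]
    have h2 : φ^[r' + 1] v = φ^[r' + 1] 0 := by
      rw [iterate_zero']
      exact h1
    exact hv ((hφ.iterate (r' + 1)) h2)
  obtain ⟨t, ht0, ht⟩ := exists_root_Xp p hf a' r' hne
  set q := p ^ f with hq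
  set xs : ℕ → K := fun i => (Xp q a' i).eval t with hxs
  have hxs0 : xs 0 = a' 0 * t ^ q := by simp [hxs, Xp_zero]
  have hxss : ∀ i, xs (i + 1) = (xs i) ^ q + a' (i + 1) * t ^ q := fun i => by
    simp [hxs, Xp_succ]
  have hxr : xs r' = t := ht
  refine ⟨∑ i : Fin (r' + 1), xs i • vs i, ?_, ?_⟩
  · intro hw
    rw [Fin.sum_univ_castSucc] at hw
    simp only [Fin.val_castSucc, Fin.val_last] at hw
    rw [hxr] at hw
    apply hr_min r' (Nat.lt_succ_self r')
    have h3 : vs r' = t⁻¹ • (-∑ i : Fin r', xs i • vs i) := by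
      have h4 : t • vs r' = -∑ i : Fin r', xs i • vs i := eq_neg_of_add_eq_zero_right hw
      rw [← h4, smul_smul, inv_mul_cancel₀ ht0, one_smul]
    rw [h3]
    apply Submodule.smul_mem
    apply Submodule.neg_mem
    apply Submodule.sum_mem
    intro i _
    apply Submodule.smul_mem
    exact Submodule.subset_span ⟨i, rfl⟩
  · rw [map_sum]
    simp only [LinearMap.map_smulₛₗ, iterateFrobenius_def, ← hsucc]
    rw [Fin.sum_univ_castSucc, Fin.sum_univ_succ (fun i : Fin (r' + 1) => xs i • vs i)]
    simp only [Fin.val_castSucc, Fin.val_last, Fin.val_succ, Fin.val_zero]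
    rw [hxr, ← ha, Fin.sum_univ_succ, hxs0]
    simp only [hxss, Fin.val_succ, Fin.val_zero, ← ha', ← hq]
    simp only [add_smul, Finset.sum_add_distrib, smul_add, Finset.smul_sum, smul_smul]
    have e1 : ∀ x, a' x * t ^ q = t ^ q * a' x := fun x => mul_comm _ _
    simp only [e1]
    abel

end fixed

section basis
universe u v
variable {K : Type v} [Field K]

theorem exists_fixed_basis [IsAlgClosed K] (p : ℕ) [Fact p.Prime] [CharP K p] {f : ℕ} (hf : 1 ≤ f) :
    ∀ (n : ℕ) (V : Type u) [AddCommGroup V] [Module K V] [FiniteDimensional K V],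
    finrank K V = n → ∀ φ : V →ₛₗ[iterateFrobenius K p f] V, Function.Injective φ →
    ∃ b : Basis (Fin n) K V, ∀ i, φ (b i) = b i := by
  intro n
  induction n with
  | zero =>
    intro V _ _ _ hn φ hφ
    have : Subsingleton V := Module.finrank_zero_iff.mp hn
    exact ⟨Basis.empty V, fun i => i.elim0⟩
  | succ n ih =>
    intro V _ _ _ hn φ hφ
    have hqpos : 0 < p ^ f := pow_pos (Fact.out : p.Prime).pos f
    have : Nontrivial V := Module.nontrivial_of_finrank_pos (R := K) (by omega)
    obtain ⟨v, hv0, hv⟩ := exists_fixed p hf φ hφ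
    set L : Submodule K V := K ∙ v with hLdef
    have hvL : v ∈ L := Submodule.mem_span_singleton_self v
    have hL : L ≤ L.comap φ := by
      intro x hx
      rw [Submodule.mem_span_singleton] at hx
      obtain ⟨c, rfl⟩ := hx
      rw [Submodule.mem_comap, LinearMap.map_smulₛₗ, hv]
      exact Submodule.smul_mem _ _ hvL
    set φ' := L.mapQ L φ hL with hφ'def
    have hrank : finrank K (V ⧸ L) = n := by
      have h1 := Submodule.finrank_quotient_add_finrank L
      rw [finrank_span_singleton hv0, hn] at h1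
      omega
    have hφ' : Function.Injective φ' := by
      rw [injective_iff_map_eq_zero]
      intro x hx
      induction x using Submodule.Quotient.induction_on with
      | H x =>
        rw [Submodule.mapQ_apply, Submodule.Quotient.mk_eq_zero,
          Submodule.mem_span_singleton] at hx
        obtain ⟨c, hc⟩ := hx
        obtain ⟨d, hd⟩ := IsAlgClosed.exists_pow_nat_eq c hqpos
        have h1 : φ (d • v) = φ x := by
          rw [LinearMap.map_smulₛₗ, iterateFrobenius_def, hd, hv, hc]
        rw [Submodule.Quotient.mk_eq_zero, ← hφ h1]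
        exact Submodule.smul_mem _ _ hvL
    obtain ⟨b', hb'⟩ := ih (V ⧸ L) hrank φ' hφ'
    have hmkv : L.mkQ v = 0 := (Submodule.Quotient.mk_eq_zero L).mpr hvL
    have hlift : ∀ i, ∃ w : V, L.mkQ w = b' i ∧ φ w = w := by
      intro i
      obtain ⟨w, hw⟩ := L.mkQ_surjective (b' i)
      have h1 : φ w - w ∈ L := by
        rw [← Submodule.Quotient.mk_eq_zero, Submodule.Quotient.mk_sub]
        have h2 : φ' (L.mkQ w) = L.mkQ w := by rw [hw]; exact hb' i
        rw [sub_eq_zero]
        exact h2
      obtain ⟨c, hc⟩ := Submodule.mem_span_singleton.mp h1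
      obtain ⟨u, hu⟩ : ∃ u : K, u ^ (p ^ f) - u + c = 0 := by
        have h2 : 2 ≤ p ^ f := by
          calc 2 ≤ p ^ 1 := by rw [pow_one]; exact (Fact.out : p.Prime).two_le
            _ ≤ p ^ f := Nat.pow_le_pow_right (Fact.out : p.Prime).pos hf
        have hdeg : (X ^ (p ^ f) - X + C c : K[X]).degree ≠ 0 := by
          have h3 : (X ^ (p ^ f) - X + C c : K[X]).natDegree = p ^ f := by
            have h4 : (X ^ (p ^ f) - X : K[X]).natDegree = p ^ f := by
              rw [natDegree_sub_eq_left_of_natDegree_lt]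
              · exact natDegree_X_pow _
              · rw [natDegree_X, natDegree_X_pow]; omega
            rw [natDegree_add_eq_left_of_natDegree_lt, h4]
            rw [h4, natDegree_C]; omega
          intro h5
          have h6 : (X ^ (p ^ f) - X + C c : K[X]).natDegree = 0 :=
            natDegree_eq_zero_iff_degree_le_zero.mpr (le_of_eq h5)
          omega
        obtain ⟨u, hu⟩ := IsAlgClosed.exists_root _ hdeg
        exact ⟨u, by simpa using hu⟩
      refine ⟨w + u • v, ?_, ?_⟩
      · rw [map_add, hw, map_smul, hmkv, smul_zero, add_zero]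
      · rw [map_add, LinearMap.map_smulₛₗ, iterateFrobenius_def, hv]
        have h3 : φ w = w + c • v := by rw [hc]; abel
        have h4 : u ^ (p ^ f) = u - c := by linear_combination hu
        rw [h3, h4, sub_smul]
        abel
    choose w hw1 hw2 using hlift
    have hli : LinearIndependent K (Fin.cons v w : Fin (n + 1) → V) := by
      rw [linearIndependent_finCons]
      constructor
      · apply LinearIndependent.of_comp L.mkQ
        have : L.mkQ ∘ w = b' := funext hw1
        rw [this]
        exact b'.linearIndependent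
      · intro hmem
        obtain ⟨c, hc⟩ := (Submodule.mem_span_range_iff_exists_fun K).mp hmem
        have h1 := congrArg L.mkQ hc
        rw [map_sum] at h1
        simp only [map_smul, hw1] at h1
        rw [hmkv] at h1
        have h2 := Fintype.linearIndependent_iff.mp b'.linearIndependent c h1
        apply hv0
        rw [← hc]
        exact Finset.sum_eq_zero fun i _ => by rw [h2 i, zero_smul]
    refine ⟨basisOfLinearIndependentOfCardEqFinrank hli (by rw [Fintype.card_fin, hn]), ?_⟩
    intro i
    rw [coe_basisOfLinearIndependentOfCardEqFinrank]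
    refine Fin.cases ?_ (fun j => ?_) i
    · simpa using hv
    · simpa using hw2 j

end basis

section final
variable {K : Type*} [Field K]

/-- the Frobenius-semilinear map attached to a matrix. -/
noncomputable def phiM (p f : ℕ) [Fact p.Prime] [CharP K p] {n : ℕ}
    (g : Matrix (Fin n) (Fin n) K) :
    (Fin n → K) →ₛₗ[iterateFrobenius K p f] (Fin n → K) where
  toFun v := g.mulVec (fun i => iterateFrobenius K p f (v i))
  map_add' x y := by
    rw [← Matrix.mulVec_add]
    congr 1
    ext i
    simp
  map_smul' c x := by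
    rw [← Matrix.mulVec_smul]
    congr 1
    ext i
    simp

theorem phiM_apply (p f : ℕ) [Fact p.Prime] [CharP K p] {n : ℕ}
    (g : Matrix (Fin n) (Fin n) K) (v : Fin n → K) :
    phiM p f g v = g.mulVec (fun i => iterateFrobenius K p f (v i)) := rfl

end final

theorem result {K : Type*} [Field K] [IsAlgClosed K] (p : ℕ) [Fact p.Prime] [CharP K p]
    (f : ℕ) (hf : 1 ≤ f) (n : ℕ) (g : GL (Fin n) K) :
    ∃ x : GL (Fin n) K, g = x * (Matrix.GeneralLinearGroup.map (iterateFrobenius K p f) x)⁻¹ := by
  have hinj : Function.Injective (phiM p f (g : Matrix (Fin n) (Fin n) K)) := by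
    intro x y hxy
    rw [phiM_apply, phiM_apply] at hxy
    have h1 : (fun i => iterateFrobenius K p f (x i)) = fun i => iterateFrobenius K p f (y i) := by
      have := congrArg (fun v => ((g⁻¹ : GL (Fin n) K) : Matrix (Fin n) (Fin n) K).mulVec v) hxy
      simp only [Matrix.mulVec_mulVec] at this
      rw [← Units.val_mul, inv_mul_cancel, Units.val_one, Matrix.one_mulVec,
        Matrix.one_mulVec] at this
      exact this
    ext i
    exact (iterateFrobenius K p f).injective (congrFun h1 i)
  obtain ⟨b, hb⟩ := exists_fixed_basis p hf n (Fin n → K) (by simp)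
    (phiM p f (g : Matrix (Fin n) (Fin n) K)) hinj
  set x : Matrix (Fin n) (Fin n) K := (Pi.basisFun K (Fin n)).toMatrix b with hx
  have hxij : ∀ i j, x i j = b j i := fun i j => by
    rw [hx, Module.Basis.toMatrix_apply, Pi.basisFun_repr]
  have hunit : IsUnit x := by
    haveI := (Pi.basisFun K (Fin n)).invertibleToMatrix b
    exact isUnit_of_invertible x
  have heq : (g : Matrix (Fin n) (Fin n) K) * x.map (iterateFrobenius K p f) = x := by
    ext i j
    rw [hxij, ← hb j, phiM_apply, Matrix.mul_apply]
    simp only [Matrix.mulVec, dotProduct, Matrix.map_apply, hxij]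
  refine ⟨hunit.unit, ?_⟩
  rw [eq_mul_inv_iff_mul_eq]
  apply Units.ext
  rw [Units.val_mul]
  exact heq

end Cfsg.Agent.S2665
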