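import Cfsg.Statements.S2666
import Mathlib

set_option autoImplicit false
open Cfsg

namespace Cfsg.Agent.S2666

/-- `σ^e` fixes every fixed point of `σ`. -/
theorem pow_fix {X : Type*} [Group X] (σ : MulAut X) (e : ℕ) (y : X) (hy : σ y = y) : (σ ^ e) y = y := by
  induction e with
  | zero => simp
  | succ n ih =>
    rw [pow_succ, MulAut.mul_apply, hy, ih]

/-- Telescoping product. -/
theorem norm_eq {X : Type*} [Group X] (σ : MulAut X) (d : ℕ) (a : X) :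
    ((List.range d).map (fun i => (σ ^ i) (a * (σ a)⁻¹))).prod = a * ((σ ^ d) a)⁻¹ := by
  induction d with
  | zero => simp
  | succ n ih =>
    rw [List.range_succ, List.map_append, List.prod_append, ih]
    simp only [List.map_cons, List.map_nil, List.prod_cons, List.prod_nil, mul_one, map_mul, map_inv]
    have : (σ ^ n) (σ a) = (σ ^ (n + 1)) a := by
      rw [pow_succ, MulAut.mul_apply]
    rw [this]
    group

theorem comm_pow {X : Type*} [Group X] (σ : MulAut X) (e : ℕ) (y : X) : (σ ^ e) (σ y) = σ ((σ ^ e) y) := by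
  rw [← MulAut.mul_apply, ← MulAut.mul_apply, ← pow_succ, ← pow_succ']

/-- the descended element is fixed by `σ`. -/
theorem descent_fixed {X : Type*} [Group X] (σ : MulAut X) (e : ℕ) (a : X)
    (hg : (σ ^ e) (a * (σ a)⁻¹) = a * (σ a)⁻¹) : σ (((σ ^ e) a)⁻¹ * a) = ((σ ^ e) a)⁻¹ * a := by
  simp only [map_mul, map_inv] at hg
  rw [comm_pow] at hg
  simp only [map_mul, map_inv]
  have : (σ ((σ ^ e) a))⁻¹ = ((σ ^ e) a)⁻¹ * (a * (σ a)⁻¹) := by
    rw [← hg]; group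
  rw [this]; group

theorem result {X : Type*} [Group X] (σ : MulAut X) (e : ℕ) (he : 1 ≤ e)
    (hL : ∀ g : X, ∃ a : X, g = a * (σ a)⁻¹) (hLe : ∀ g : X, ∃ a : X, g = a * ((σ ^ e) a)⁻¹) :
    (∀ g ∈ (MulEquiv.toMonoidHom (σ ^ e)).eqLocus (MonoidHom.id X), ∀ a : X, g = a * (σ a)⁻¹ →
        ((σ ^ e) a)⁻¹ * a ∈ (MulEquiv.toMonoidHom σ).eqLocus (MonoidHom.id X) ∧
          a⁻¹ * ((List.range e).map (fun i => (σ ^ i) g)).prod * a = ((σ ^ e) a)⁻¹ * a) ∧
    (∀ g ∈ (MulEquiv.toMonoidHom (σ ^ e)).eqLocus (MonoidHom.id X), ∀ g' ∈ (MulEquiv.toMonoidHom (σ ^ e)).eqLocus (MonoidHom.id X), ∀ a b : X,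
        g = a * (σ a)⁻¹ → g' = b * (σ b)⁻¹ →
          ((∃ k ∈ (MulEquiv.toMonoidHom (σ ^ e)).eqLocus (MonoidHom.id X), g' = k * g * (σ k)⁻¹) ↔
            (∃ h ∈ (MulEquiv.toMonoidHom σ).eqLocus (MonoidHom.id X), ((σ ^ e) b)⁻¹ * b = h * (((σ ^ e) a)⁻¹ * a) * h⁻¹))) ∧
    (∀ x ∈ (MulEquiv.toMonoidHom σ).eqLocus (MonoidHom.id X), ∃ g ∈ (MulEquiv.toMonoidHom (σ ^ e)).eqLocus (MonoidHom.id X), ∃ a : X,
        g = a * (σ a)⁻¹ ∧ ((σ ^ e) a)⁻¹ * a = x) := by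
  refine ⟨?_, ?_, ?_⟩
  · intro g hg a ha
    have hg' : (σ ^ e) g = g := hg
    subst ha
    refine ⟨descent_fixed σ e a hg', ?_⟩
    rw [norm_eq]; group
  · intro g hg g' hg' a b ha hb
    have hgf : (σ ^ e) g = g := hg
    have hgf' : (σ ^ e) g' = g' := hg'
    constructor
    · rintro ⟨k, hk, hkg⟩
      have hkf : (σ ^ e) k = k := hk
      -- h₀ = (k a)⁻¹ b is fixed by σ
      have h0 : σ ((k * a)⁻¹ * b) = (k * a)⁻¹ * b := by
        rw [ha, hb] at hkg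
        simp only [map_mul, map_inv]
        have hinv : (σ b)⁻¹ = b⁻¹ * (k * (a * (σ a)⁻¹) * (σ k)⁻¹) := by
          rw [← hkg]; group
        have : σ b = σ k * σ a * (a⁻¹ * k⁻¹ * b) := by
          rw [← inv_inv (σ b), hinv]; group
        rw [this]; group
      refine ⟨((k * a)⁻¹ * b)⁻¹, ?_, ?_⟩
      · show σ (((k * a)⁻¹ * b)⁻¹) = ((k * a)⁻¹ * b)⁻¹
        rw [map_inv, h0]
      · have h0e := pow_fix σ e _ h0
        simp only [map_mul, map_inv, hkf] at h0e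
        -- σ^e b = k * σ^e a * ((k a)⁻¹ b)
        have hb' : (σ ^ e) b = k * (σ ^ e) a * ((k * a)⁻¹ * b) := by
          rw [← h0e]; group
        rw [hb']; group
    · rintro ⟨h, hh, hx⟩
      have hhf : σ h = h := hh
      have hhe : (σ ^ e) h = h := pow_fix σ e h hhf
      refine ⟨b * h * a⁻¹, ?_, ?_⟩
      · show (σ ^ e) (b * h * a⁻¹) = b * h * a⁻¹
        simp only [map_mul, map_inv, hhe]
        have : b * h * a⁻¹ = (σ ^ e) b * (((σ ^ e) b)⁻¹ * b) * h * a⁻¹ := by group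
        rw [this, hx]; group
      · rw [ha, hb]
        simp only [map_mul, map_inv, hhf]
        group
  · intro x hx
    have hxf : σ x = x := hx
    obtain ⟨c, hc⟩ := hLe x⁻¹
    have hca : (σ ^ e) c⁻¹ = c⁻¹ * x⁻¹ := by
      rw [map_inv]
      have : (σ ^ e) c = x * c := by
        have h1 : x⁻¹ * (σ ^ e) c = c := by rw [hc]; group
        calc (σ ^ e) c = x * (x⁻¹ * (σ ^ e) c) := by group
          _ = x * c := by rw [h1]
      rw [this]; group
    refine ⟨c⁻¹ * (σ c⁻¹)⁻¹, ?_, c⁻¹, rfl, ?_⟩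
    · show (σ ^ e) (c⁻¹ * (σ c⁻¹)⁻¹) = c⁻¹ * (σ c⁻¹)⁻¹
      rw [map_mul, map_inv (σ ^ e) (σ c⁻¹), comm_pow, hca, map_mul, map_inv σ x, hxf]
      group
    · rw [hca]; group

end Cfsg.Agent.S2666
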