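import Cfsg.Statements.S2667
import Mathlib

set_option autoImplicit false
open Cfsg

namespace Cfsg.Agent.S2667

/-- `σ^e` fixes every fixed point of `σ`. -/
theorem pow_fix {X : Type*} [Group X] (σ : MulAut X) (e : ℕ) (y : X) (hy : σ y = y) : (σ ^ e) y = y := by
  induction e with
  | zero => simp
  | succ n ih =>
    rw [pow_succ, MulAut.mul_apply, hy, ih]

theorem result {X : Type*} [Group X] (σ : MulAut X) (e : ℕ) (he : 1 ≤ e)
    (g : X) (hg : g ∈ (MulEquiv.toMonoidHom (σ ^ e)).eqLocus (MonoidHom.id X)) (a : X) (ha : g = a * (σ a)⁻¹) (k : X) :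
    (k ∈ (MulEquiv.toMonoidHom (σ ^ e)).eqLocus (MonoidHom.id X) ∧ k * g * (σ k)⁻¹ = g) ↔
      (a⁻¹ * k * a ∈ (MulEquiv.toMonoidHom σ).eqLocus (MonoidHom.id X) ∧
        (a⁻¹ * k * a) * (((σ ^ e) a)⁻¹ * a) = (((σ ^ e) a)⁻¹ * a) * (a⁻¹ * k * a)) := by
  have key1 : (σ (a⁻¹ * k * a) = a⁻¹ * k * a) ↔ k * g * (σ k)⁻¹ = g := by
    subst ha
    simp only [map_mul, map_inv]
    constructor
    · intro h
      have : σ k = σ a * (a⁻¹ * k * a) * (σ a)⁻¹ := by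
        rw [← h]; group
      rw [this]; group
    · intro h
      have : σ k = σ a * (a⁻¹ * k * a) * (σ a)⁻¹ := by
        have h2 : k * (a * (σ a)⁻¹) = a * (σ a)⁻¹ * σ k := by
          have := congrArg (· * σ k) h
          simpa [mul_assoc] using this
        calc σ k = (a * (σ a)⁻¹)⁻¹ * (a * (σ a)⁻¹ * σ k) := by group
          _ = (a * (σ a)⁻¹)⁻¹ * (k * (a * (σ a)⁻¹)) := by rw [h2]
          _ = _ := by group
      rw [this]; group
  have key2 : σ (a⁻¹ * k * a) = a⁻¹ * k * a →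
      (((σ ^ e) k = k) ↔ (a⁻¹ * k * a) * (((σ ^ e) a)⁻¹ * a) = (((σ ^ e) a)⁻¹ * a) * (a⁻¹ * k * a)) := by
    intro h
    have h' := pow_fix σ e _ h
    simp only [map_mul, map_inv] at h'
    have hk : (σ ^ e) k = (σ ^ e) a * (a⁻¹ * k * a) * ((σ ^ e) a)⁻¹ := by
      rw [← h']; group
    rw [hk]
    constructor
    · intro h3
      calc a⁻¹ * k * a * (((σ ^ e) a)⁻¹ * a)
          = ((σ ^ e) a)⁻¹ * ((σ ^ e) a * (a⁻¹ * k * a) * ((σ ^ e) a)⁻¹) * a := by group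
        _ = ((σ ^ e) a)⁻¹ * k * a := by rw [h3]
        _ = _ := by group
    · intro h3
      calc (σ ^ e) a * (a⁻¹ * k * a) * ((σ ^ e) a)⁻¹
          = (σ ^ e) a * ((a⁻¹ * k * a) * (((σ ^ e) a)⁻¹ * a)) * a⁻¹ := by group
        _ = (σ ^ e) a * ((((σ ^ e) a)⁻¹ * a) * (a⁻¹ * k * a)) * a⁻¹ := by rw [h3]
        _ = k := by group
  constructor
  · rintro ⟨hk, hkg⟩
    have h1 : σ (a⁻¹ * k * a) = a⁻¹ * k * a := key1.mpr hkg
    refine ⟨h1, (key2 h1).mp hk⟩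
  · rintro ⟨h1, h2⟩
    have h1' : σ (a⁻¹ * k * a) = a⁻¹ * k * a := h1
    exact ⟨(key2 h1').mpr h2, key1.mp h1'⟩

end Cfsg.Agent.S2667
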