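import Cfsg.Statements.S2668
import Mathlib

set_option autoImplicit false
open Cfsg

namespace Cfsg.Agent.S2668

/-- `σ^e` fixes every fixed point of `σ`. -/
theorem pow_fix {X : Type*} [Group X] (σ : MulAut X) (e : ℕ) (y : X) (hy : σ y = y) : (σ ^ e) y = y := by
  induction e with
  | zero => simp
  | succ n ih =>
    rw [pow_succ, MulAut.mul_apply, hy, ih]

/-- Telescoping product. -/
theorem norm_eq {X : Type*} [Group X] (σ : MulAut X) (d : ℕ) (a : X) :
    ((List.range d).map (fun i => (σ ^ i) (a * (σ a)⁻¹))).prod = a * ((σ ^ d) a)⁻¹ := by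
  induction d with
  | zero => simp
  | succ n ih =>
    rw [List.range_succ, List.map_append, List.prod_append, ih]
    simp only [List.map_cons, List.map_nil, List.prod_cons, List.prod_nil, mul_one, map_mul, map_inv]
    have : (σ ^ n) (σ a) = (σ ^ (n + 1)) a := by
      rw [pow_succ, MulAut.mul_apply]
    rw [this]
    group

theorem pow_descent {X : Type*} [Group X] (τ : MulAut X) (a x : X) (hx : τ x = x) (ha : τ a = a * x⁻¹) (d : ℕ) :
    ((τ ^ d) a)⁻¹ * a = x ^ d := by
  induction d with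
  | zero => simp
  | succ n ih =>
    have h1 : (τ ^ (n + 1)) a = (τ ^ n) (τ a) := by
      rw [pow_succ, MulAut.mul_apply]
    rw [h1, ha, map_mul, map_inv, pow_fix τ n x hx]
    have : ((τ ^ n) a * x⁻¹)⁻¹ * a = x * (((τ ^ n) a)⁻¹ * a) := by group
    rw [this, ih, pow_succ']

theorem result {X : Type*} [Group X] (σ : MulAut X) (e d : ℕ) (he : 1 ≤ e) (hd : 1 ≤ d)
    (g : X) (hg : g ∈ (MulEquiv.toMonoidHom (σ ^ e)).eqLocus (MonoidHom.id X)) (a : X) (ha : g = a * (σ a)⁻¹) :
    ((List.range d).map (fun i => (σ ^ i) g)).prod = a * ((σ ^ d) a)⁻¹ ∧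
      ((List.range d).map (fun i => (σ ^ i) g)).prod ∈ (MulEquiv.toMonoidHom ((σ ^ d) ^ e)).eqLocus (MonoidHom.id X) ∧
      (((σ ^ d) ^ e) a)⁻¹ * a = (((σ ^ e) a)⁻¹ * a) ^ d := by
  have hg' : (σ ^ e) g = g := hg
  have hde : (σ ^ d) ^ e = (σ ^ e) ^ d := by
    rw [← pow_mul, ← pow_mul, mul_comm]
  refine ⟨?_, ?_, ?_⟩
  · rw [ha]; exact norm_eq σ d a
  · -- membership
    have hsub : (MulEquiv.toMonoidHom (σ ^ e)).eqLocus (MonoidHom.id X) ≤
        (MulEquiv.toMonoidHom ((σ ^ d) ^ e)).eqLocus (MonoidHom.id X) := by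
      intro y hy
      have hy' : (σ ^ e) y = y := hy
      show ((σ ^ d) ^ e) y = y
      rw [hde]
      exact pow_fix (σ ^ e) d y hy'
    apply hsub
    apply Subgroup.list_prod_mem
    intro y hy
    rw [List.mem_map] at hy
    obtain ⟨i, -, rfl⟩ := hy
    show (σ ^ e) ((σ ^ i) g) = (σ ^ i) g
    have hcomm : (σ ^ e) ((σ ^ i) g) = (σ ^ i) ((σ ^ e) g) := by
      rw [← MulAut.mul_apply, ← MulAut.mul_apply, ← pow_add, ← pow_add, add_comm]
    rw [hcomm, hg']
  · rw [hde]
    set x := ((σ ^ e) a)⁻¹ * a with hxdef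
    have hτa : (σ ^ e) a = a * x⁻¹ := by
      rw [hxdef]; group
    -- x is fixed by σ
    have hσx : σ x = x := by
      rw [ha] at hg'
      simp only [map_mul, map_inv] at hg'
      have h1 : (σ ^ e) (σ a) = σ ((σ ^ e) a) := by
        rw [← MulAut.mul_apply, ← MulAut.mul_apply, ← pow_succ, ← pow_succ']
      rw [h1] at hg'
      rw [hxdef]
      simp only [map_mul, map_inv]
      have : (σ ((σ ^ e) a))⁻¹ = ((σ ^ e) a)⁻¹ * (a * (σ a)⁻¹) := by
        rw [← hg']; group
      rw [this]; group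
    have hτx : (σ ^ e) x = x := pow_fix σ e x hσx
    exact pow_descent (σ ^ e) a x hτx hτa d

end Cfsg.Agent.S2668
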