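import Cfsg.Statements.S2669
import Mathlib

set_option autoImplicit false
open Cfsg

namespace Cfsg.Agent.S2669

/-- `σ^e` fixes every fixed point of `σ`. -/
theorem pow_fix {X : Type*} [Group X] (σ : MulAut X) (e : ℕ) (y : X) (hy : σ y = y) : (σ ^ e) y = y := by
  induction e with
  | zero => simp
  | succ n ih =>
    rw [pow_succ, MulAut.mul_apply, hy, ih]

theorem pow_stable {X : Type*} [Group X] (σ : MulAut X) (Y : Subgroup X) (hY : ∀ y : X, y ∈ Y ↔ σ y ∈ Y)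
    (e : ℕ) (y : X) (hy : y ∈ Y) : (σ ^ e) y ∈ Y := by
  induction e with
  | zero => simpa using hy
  | succ n ih =>
    rw [pow_succ', MulAut.mul_apply]
    exact (hY _).mp ih

/-- Counting a relation through its fibres, all non-empty fibres being equivalent to a fixed type. -/
theorem card_rel {α β Z : Type*} (R : α → β → Prop)
    (hfib : ∀ a, (∃ b, R a b) → Nonempty ({b // R a b} ≃ Z)) :
    Nat.card {p : α × β // R p.1 p.2} = Nat.card {a // ∃ b, R a b} * Nat.card Z := by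
  classical
  have e1 : {p : α × β // R p.1 p.2} ≃ Σ a : {a // ∃ b, R a b}, {b // R a.1 b} :=
    { toFun := fun p => ⟨⟨p.1.1, p.1.2, p.2⟩, ⟨p.1.2, p.2⟩⟩
      invFun := fun s => ⟨(s.1.1, s.2.1), s.2.2⟩
      left_inv := fun p => rfl
      right_inv := fun s => rfl }
  have e2 : (Σ a : {a // ∃ b, R a b}, {b // R a.1 b}) ≃ {a // ∃ b, R a b} × Z :=
    (Equiv.sigmaCongrRight fun (a : {a // ∃ b, R a b}) => (hfib a.1 a.2).some).trans (Equiv.sigmaEquivProd _ _)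
  rw [Nat.card_congr (e1.trans e2), Nat.card_prod]

theorem result {X : Type*} [Group X] (σ : MulAut X) (e : ℕ) (he : 1 ≤ e)
    [Finite ↥((MulEquiv.toMonoidHom (σ ^ e)).eqLocus (MonoidHom.id X))]
    (Y : Subgroup X) (hY : ∀ y : X, y ∈ Y ↔ σ y ∈ Y)
    (hYL : ∀ y ∈ Y, ∃ a ∈ Y, y = a * (σ a)⁻¹) (hYLe : ∀ y ∈ Y, ∃ a ∈ Y, y = a * ((σ ^ e) a)⁻¹)
    (g : X) (hg : g ∈ (MulEquiv.toMonoidHom (σ ^ e)).eqLocus (MonoidHom.id X)) (a : X) (ha : g = a * (σ a)⁻¹) :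
    Nat.card {k : ↥((MulEquiv.toMonoidHom (σ ^ e)).eqLocus (MonoidHom.id X)) // (k : X)⁻¹ * g * σ k ∈ Y} *
        Nat.card ↥(Y ⊓ (MulEquiv.toMonoidHom σ).eqLocus (MonoidHom.id X)) =
      Nat.card {h : ↥((MulEquiv.toMonoidHom σ).eqLocus (MonoidHom.id X)) // (h : X)⁻¹ * (((σ ^ e) a)⁻¹ * a) * h ∈ Y} *
        Nat.card ↥(Y ⊓ (MulEquiv.toMonoidHom (σ ^ e)).eqLocus (MonoidHom.id X)) := by
  set G := (MulEquiv.toMonoidHom (σ ^ e)).eqLocus (MonoidHom.id X) with hGdef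
  set H := (MulEquiv.toMonoidHom σ).eqLocus (MonoidHom.id X) with hHdef
  have memG : ∀ z : X, z ∈ G ↔ (σ ^ e) z = z := fun z => Iff.rfl
  have memH : ∀ z : X, z ∈ H ↔ σ z = z := fun z => Iff.rfl
  have hHG : ∀ z : X, z ∈ H → z ∈ G := fun z hz => (memG z).mpr (pow_fix σ e z ((memH z).mp hz))
  let R : G → H → Prop := fun k h => (k : X)⁻¹ * a * (h : X) ∈ Y
  -- existence criteria
  have exA : ∀ k : G, (∃ h : H, R k h) ↔ (k : X)⁻¹ * g * σ k ∈ Y := by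
    intro k
    constructor
    · rintro ⟨h, hR⟩
      have hσh : σ (h : X) = h := (memH _).mp h.2
      have hσc : σ ((k : X)⁻¹ * a * (h : X)) ∈ Y := (hY _).mp hR
      have : (k : X)⁻¹ * g * σ k = ((k : X)⁻¹ * a * (h : X)) * (σ ((k : X)⁻¹ * a * (h : X)))⁻¹ := by
        rw [ha]
        simp only [map_mul, map_inv, hσh]
        group
      rw [this]
      exact Y.mul_mem hR (Y.inv_mem hσc)
    · intro hy
      obtain ⟨c, hcY, hc⟩ := hYL _ hy
      have hfix : σ (a⁻¹ * (k : X) * c) = a⁻¹ * (k : X) * c := by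
        rw [ha] at hc
        simp only [map_mul, map_inv]
        have h1 : σ (k : X) = σ a * (a⁻¹ * (k : X) * ((k : X)⁻¹ * (a * (σ a)⁻¹) * σ (k : X))) := by group
        rw [h1, hc]; group
      refine ⟨⟨a⁻¹ * (k : X) * c, (memH _).mpr hfix⟩, ?_⟩
      show (k : X)⁻¹ * a * (a⁻¹ * (k : X) * c) ∈ Y
      have : (k : X)⁻¹ * a * (a⁻¹ * (k : X) * c) = c := by group
      rw [this]; exact hcY
  have exB : ∀ h : H, (∃ k : G, R k h) ↔ (h : X)⁻¹ * (((σ ^ e) a)⁻¹ * a) * h ∈ Y := by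
    intro h
    have hσh : (σ ^ e) (h : X) = h := (memG _).mp (hHG _ h.2)
    constructor
    · rintro ⟨k, hR⟩
      have hσk : (σ ^ e) (k : X) = k := (memG _).mp k.2
      have hσc : (σ ^ e) ((k : X)⁻¹ * a * (h : X)) ∈ Y := pow_stable σ Y hY e _ hR
      have : (h : X)⁻¹ * (((σ ^ e) a)⁻¹ * a) * h
          = ((σ ^ e) ((k : X)⁻¹ * a * (h : X)))⁻¹ * ((k : X)⁻¹ * a * (h : X)) := by
        simp only [map_mul, map_inv, hσh, hσk]
        group
      rw [this]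
      exact Y.mul_mem (Y.inv_mem hσc) hR
    · intro hy
      obtain ⟨d, hdY, hd⟩ := hYLe _ (Y.inv_mem hy)
      have hfix : (σ ^ e) (a * (h : X) * d) = a * (h : X) * d := by
        simp only [map_mul, hσh]
        have h1 : (σ ^ e) d = (d * ((σ ^ e) d)⁻¹)⁻¹ * d := by group
        rw [h1, ← hd]; group
      refine ⟨⟨a * (h : X) * d, (memG _).mpr hfix⟩, ?_⟩
      show (a * (h : X) * d)⁻¹ * a * (h : X) ∈ Y
      have : (a * (h : X) * d)⁻¹ * a * (h : X) = d⁻¹ := by group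
      rw [this]; exact Y.inv_mem hdY
  -- fibres
  have fibA : ∀ k : G, (∃ h : H, R k h) → Nonempty ({h : H // R k h} ≃ ↥(Y ⊓ H)) := by
    rintro k ⟨h₀, hR₀⟩
    refine ⟨{ toFun := fun h => ⟨(h₀ : X)⁻¹ * (h.1 : X), ?_⟩
              invFun := fun w => ⟨⟨(h₀ : X) * (w : X), ?_⟩, ?_⟩
              left_inv := ?_
              right_inv := ?_ }⟩
    · refine Subgroup.mem_inf.mpr ⟨?_, H.mul_mem (H.inv_mem h₀.2) h.1.2⟩
      have : (h₀ : X)⁻¹ * (h.1 : X) = ((k : X)⁻¹ * a * (h₀ : X))⁻¹ * ((k : X)⁻¹ * a * (h.1 : X)) := by group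
      rw [this]
      exact Y.mul_mem (Y.inv_mem hR₀) h.2
    · exact H.mul_mem h₀.2 (Subgroup.mem_inf.mp w.2).2
    · show (k : X)⁻¹ * a * ((h₀ : X) * (w : X)) ∈ Y
      have : (k : X)⁻¹ * a * ((h₀ : X) * (w : X)) = ((k : X)⁻¹ * a * (h₀ : X)) * (w : X) := by group
      rw [this]
      exact Y.mul_mem hR₀ (Subgroup.mem_inf.mp w.2).1
    · intro h
      apply Subtype.ext; apply Subtype.ext
      show (h₀ : X) * ((h₀ : X)⁻¹ * (h.1 : X)) = h.1
      group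
    · intro w
      apply Subtype.ext
      show (h₀ : X)⁻¹ * ((h₀ : X) * (w : X)) = w
      group
  have fibB : ∀ h : H, (∃ k : G, R k h) → Nonempty ({k : G // R k h} ≃ ↥(Y ⊓ G)) := by
    rintro h ⟨k₀, hR₀⟩
    refine ⟨{ toFun := fun k => ⟨(k.1 : X)⁻¹ * (k₀ : X), ?_⟩
              invFun := fun w => ⟨⟨(k₀ : X) * (w : X)⁻¹, ?_⟩, ?_⟩
              left_inv := ?_
              right_inv := ?_ }⟩
    · refine Subgroup.mem_inf.mpr ⟨?_, G.mul_mem (G.inv_mem k.1.2) k₀.2⟩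
      have : (k.1 : X)⁻¹ * (k₀ : X) = ((k.1 : X)⁻¹ * a * (h : X)) * ((k₀ : X)⁻¹ * a * (h : X))⁻¹ := by group
      rw [this]
      exact Y.mul_mem k.2 (Y.inv_mem hR₀)
    · exact G.mul_mem k₀.2 (G.inv_mem (Subgroup.mem_inf.mp w.2).2)
    · show ((k₀ : X) * (w : X)⁻¹)⁻¹ * a * (h : X) ∈ Y
      have : ((k₀ : X) * (w : X)⁻¹)⁻¹ * a * (h : X) = (w : X) * ((k₀ : X)⁻¹ * a * (h : X)) := by group
      rw [this]
      exact Y.mul_mem (Subgroup.mem_inf.mp w.2).1 hR₀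
    · intro k
      apply Subtype.ext; apply Subtype.ext
      show (k₀ : X) * ((k.1 : X)⁻¹ * (k₀ : X))⁻¹ = k.1
      group
    · intro w
      apply Subtype.ext
      show ((k₀ : X) * (w : X)⁻¹)⁻¹ * (k₀ : X) = w
      group
  -- double counting
  have c1 := card_rel R fibA
  have c2 := card_rel (fun (h : H) (k : G) => R k h) fibB
  have eswap : {p : G × H // R p.1 p.2} ≃ {p : H × G // R p.2 p.1} :=
    (Equiv.prodComm G H).subtypeEquiv (fun p => Iff.rfl)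
  have eA : {k : G // ∃ h : H, R k h} ≃ {k : G // (k : X)⁻¹ * g * σ k ∈ Y} :=
    Equiv.subtypeEquivRight exA
  have eB : {h : H // ∃ k : G, R k h} ≃ {h : H // (h : X)⁻¹ * (((σ ^ e) a)⁻¹ * a) * h ∈ Y} :=
    Equiv.subtypeEquivRight exB
  rw [← Nat.card_congr eA, ← Nat.card_congr eB, ← c1, ← c2]
  exact Nat.card_congr eswap

end Cfsg.Agent.S2669
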