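import Cfsg.Statements.S2677
import Cfsg.Agent.S2636
import Cfsg.Agent.Helper8.GUOrder
import Mathlib

set_option autoImplicit false
open Cfsg

namespace Cfsg.Agent.S2677

open Matrix Cfsg.Agent.S2636 Cfsg.Agent.Helper8.GUOrder Cfsg.Agent.Helper7.Herm

variable {K : Type*} [Field K] [Fintype K] {q₀ q r n : ℕ}

/-- on the fixed field of `σ` (of odd prime order `r`), `x ↦ x ^ q` agrees with `x ↦ x ^ q₀`. -/
theorem pow_q_eq (hr : r.Prime) (hr2 : r ≠ 2) (hq : q = q₀ ^ r) (hK : Fintype.card K = q ^ 2)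
    (σ : K ≃+* K) (hσ : orderOf σ = r) {a : K} (ha : σ a = a) : a ^ q = a ^ q₀ := by
  classical
  have hK' : Fintype.card K = (q₀ ^ 2) ^ r := by rw [hK, hq]; ring
  have hc : Nat.card (fixK σ) = q₀ ^ 2 := card_fixK σ hr hK' hσ
  have : Fintype (fixK σ) := Fintype.ofFinite _
  have hc' : Fintype.card (fixK σ) = q₀ ^ 2 := by rw [← Nat.card_eq_fintype_card]; exact hc
  have h1 : a ^ (q₀ ^ 2) = a := by
    have := FiniteField.pow_card (⟨a, (mem_fixK σ a).mpr ha⟩ : fixK σ)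
    rw [hc'] at this
    exact congrArg Subtype.val this
  have h2 : ∀ k : ℕ, a ^ ((q₀ ^ 2) ^ k) = a := by
    intro k
    induction k with
    | zero => simp
    | succ k ih => rw [pow_succ, pow_mul, ih, h1]
  obtain ⟨k, hk⟩ : ∃ k, r = 2 * k + 1 := by
    have hodd : Odd r := hr.odd_of_ne_two hr2
    obtain ⟨k, hk⟩ := hodd
    exact ⟨k, hk⟩
  rw [hq, hk, pow_succ, pow_mul, pow_mul, h2]

/-- norm surjectivity on the fixed field. -/
theorem exists_norm_fix (hr : r.Prime) (hr2 : r ≠ 2) (hq : q = q₀ ^ r)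
    (hK : Fintype.card K = q ^ 2) (σ : K ≃+* K) (hσ : orderOf σ = r) {a : K} (ha : σ a = a)
    (ha0 : a ≠ 0) (haq : a ^ q = a) : ∃ e : K, σ e = e ∧ e * e ^ q = a := by
  classical
  have hK' : Fintype.card K = (q₀ ^ 2) ^ r := by rw [hK, hq]; ring
  have hc : Nat.card (fixK σ) = q₀ ^ 2 := card_fixK σ hr hK' hσ
  have : Fintype (fixK σ) := Fintype.ofFinite _
  have hc' : Fintype.card (fixK σ) = q₀ ^ 2 := by rw [← Nat.card_eq_fintype_card]; exact hc
  have h1 : (⟨a, (mem_fixK σ a).mpr ha⟩ : fixK σ) ^ q₀ = ⟨a, (mem_fixK σ a).mpr ha⟩ := by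
    apply Subtype.ext
    show a ^ q₀ = a
    rw [← pow_q_eq hr hr2 hq hK σ hσ ha, haq]
  have h0 : (⟨a, (mem_fixK σ a).mpr ha⟩ : fixK σ) ≠ 0 := by
    intro h
    exact ha0 (congrArg Subtype.val h)
  obtain ⟨e, he⟩ := exists_norm hc' h0 h1
  have hefix : σ (e : K) = (e : K) := (mem_fixK σ _).mp e.2
  refine ⟨(e : K), hefix, ?_⟩
  rw [pow_q_eq hr hr2 hq hK σ hσ hefix]
  exact congrArg Subtype.val he

/-- the `σ`-twisted unitary matrices. -/
abbrev SSU (n : ℕ) (K : Type*) [Field K] (q : ℕ) (σ : K ≃+* K) :=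
  {M : UM n K q // ∃ c : K, c ≠ 0 ∧ M.1.map σ = c • M.1}

/-- the `σ`-fixed unitary matrices. -/
abbrev TTU (n : ℕ) (K : Type*) [Field K] (q : ℕ) (σ : K ≃+* K) :=
  {M : UM n K q // M.1.map σ = M.1}

/-- norm-one scalars. -/
abbrev MU (K : Type*) [Field K] (q : ℕ) := {d : K // d * d ^ q = 1}

/-- `σ`-fixed norm-one scalars. -/
abbrev KXU (K : Type*) [Field K] (q : ℕ) (σ : K ≃+* K) := {d : K // d * d ^ q = 1 ∧ σ d = d}

omit [Fintype K] in
theorem smul_unitary {d : K} (hd : d * d ^ q = 1) {M : Matrix (Fin n) (Fin n) K}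
    (hM : Mᵀ * M.map (· ^ q) = 1) : (d • M)ᵀ * (d • M).map (· ^ q) = 1 := by
  have h1 : (d • M).map (· ^ q) = d ^ q • M.map (· ^ q) := by
    ext i j
    simp [mul_pow]
  rw [h1, Matrix.transpose_smul, Matrix.smul_mul, Matrix.mul_smul, smul_smul, hM, hd, one_smul]

omit [Fintype K] in
theorem MU_ne_zero (d : MU K q) : d.1 ≠ 0 := by
  intro h
  have := d.2
  rw [h, zero_mul] at this
  exact zero_ne_one this

omit [Fintype K] in
theorem inv_norm {d : K} (hd : d * d ^ q = 1) : d⁻¹ * d⁻¹ ^ q = 1 := by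
  rw [inv_pow, ← mul_inv, hd, inv_one]

omit [Fintype K] in
theorem unitary_ne_zero (hn : 1 ≤ n) (M : UM n K q) : ∃ i j, M.1 i j ≠ 0 := by
  by_contra h
  push Not at h
  have h0 : M.1 = 0 := by ext i j; exact h i j
  have h1 := M.2
  rw [h0, Matrix.transpose_zero, Matrix.zero_mul] at h1
  have := congrFun (congrFun h1 ⟨0, by omega⟩) ⟨0, by omega⟩
  rw [Matrix.zero_apply, Matrix.one_apply_eq] at this
  exact zero_ne_one this

/-- the multiplier of a twisted unitary matrix has norm one. -/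
theorem mult_norm (hK : Fintype.card K = q ^ 2) (hn : 1 ≤ n) (σ : K ≃+* K) (M : UM n K q) {c : K}
    (hc : M.1.map σ = c • M.1) : c * c ^ q = 1 := by
  have hq := two_le_q hK
  have h1 : (M.1.map σ)ᵀ * (M.1.map σ).map (· ^ q) = 1 := by
    have h2 : (M.1ᵀ * M.1.map (· ^ q)).map σ = (1 : Matrix (Fin n) (Fin n) K).map σ := by
      rw [M.2]
    rw [Matrix.map_mul, Matrix.map_one σ (map_zero σ) (map_one σ)] at h2
    have h3 : ((M.1.map σ).map (· ^ q)) = (M.1.map (· ^ q)).map σ := by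
      ext i j
      simp [map_pow]
    rw [h3, ← Matrix.transpose_map]
    exact h2
  rw [hc] at h1
  have h3 : (c • M.1).map (· ^ q) = c ^ q • M.1.map (· ^ q) := by
    ext i j
    simp [mul_pow]
  rw [h3, Matrix.transpose_smul, Matrix.smul_mul, Matrix.mul_smul, smul_smul, M.2] at h1
  have := congrFun (congrFun h1 ⟨0, by omega⟩) ⟨0, by omega⟩
  rw [Matrix.smul_apply, Matrix.one_apply_eq, smul_eq_mul, mul_one] at this
  exact this

/-- every twisted unitary matrix is a norm-one scalar times a fixed one. -/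
theorem exists_scalar (hr : r.Prime) (hr2 : r ≠ 2) (hn : 1 ≤ n) (hq : q = q₀ ^ r)
    (hK : Fintype.card K = q ^ 2) (σ : K ≃+* K) (hσ : orderOf σ = r) (M : SSU n K q σ) :
    ∃ d : MU K q, (d.1⁻¹ • M.1.1).map σ = d.1⁻¹ • M.1.1 := by
  obtain ⟨c, hc0, hc⟩ := M.2
  obtain ⟨i, j, hx⟩ := unitary_ne_zero hn M.1
  set x := M.1.1 i j with hxdef
  have hσx : σ x = c * x := by
    have := congrFun (congrFun hc i) j
    simpa [Matrix.map_apply, Matrix.smul_apply] using this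
  have hcn := mult_norm hK hn σ M.1 hc
  have ha : σ (x * x ^ q) = x * x ^ q := by
    rw [map_mul, map_pow, hσx, mul_pow]
    linear_combination (x * x ^ q) * hcn
  have haq : (x * x ^ q) ^ q = x * x ^ q := by
    rw [mul_pow, pow_q_pow_q hK, mul_comm]
  have ha0 : x * x ^ q ≠ 0 := mul_ne_zero hx (pow_ne_zero _ hx)
  obtain ⟨e, hefix, he⟩ := exists_norm_fix hr hr2 hq hK σ hσ ha ha0 haq
  have he0 : e ≠ 0 := by
    rintro rfl
    rw [zero_mul] at he
    exact ha0 he.symm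
  refine ⟨⟨x / e, ?_⟩, ?_⟩
  · rw [div_pow, div_mul_div_comm, he, div_self ha0]
  · show ((x / e)⁻¹ • M.1.1).map σ = (x / e)⁻¹ • M.1.1
    have h1 : ((x / e)⁻¹ • M.1.1).map σ = σ ((x / e)⁻¹) • M.1.1.map σ := by
      ext a b
      simp [Matrix.map_apply, Matrix.smul_apply]
    rw [h1, hc, smul_smul]
    congr 1
    rw [map_inv₀, map_div₀, hσx, hefix]
    field_simp

omit [Fintype K] in
theorem map_smul_sigma (σ : K ≃+* K) (c : K) (X : Matrix (Fin n) (Fin n) K) :
    (c • X).map σ = σ c • X.map σ := by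
  ext i j
  simp [Matrix.map_apply, Matrix.smul_apply]

omit [Fintype K] in
theorem norm_mul {a b : K} (ha : a * a ^ q = 1) (hb : b * b ^ q = 1) :
    (a * b) * (a * b) ^ q = 1 := by
  rw [mul_pow]
  linear_combination (b * b ^ q) * ha + hb

omit [Fintype K] in
theorem norm_div {a b : K} (ha : a * a ^ q = 1) (hb : b * b ^ q = 1) :
    (a / b) * (a / b) ^ q = 1 := by
  rw [div_eq_mul_inv]
  exact norm_mul ha (inv_norm hb)

/-- the inverse direction on the matrix component. -/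
def invS (σ : K ≃+* K) (dg : MU K q × TTU n K q σ) : SSU n K q σ :=
  ⟨⟨dg.1.1 • dg.2.1.1, smul_unitary dg.1.2 dg.2.1.2⟩, ⟨σ dg.1.1 / dg.1.1, by
    have h1 : dg.1.1 ≠ 0 := MU_ne_zero dg.1
    have h2 : σ dg.1.1 ≠ 0 := by simpa using h1
    exact div_ne_zero h2 h1, by
    show (dg.1.1 • dg.2.1.1).map σ = (σ dg.1.1 / dg.1.1) • (dg.1.1 • dg.2.1.1)
    rw [map_smul_sigma, dg.2.2, smul_smul]
    congr 1
    have h1 : dg.1.1 ≠ 0 := MU_ne_zero dg.1
    field_simp⟩⟩

omit [Fintype K] in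
theorem fixed_scalar (hn : 1 ≤ n) (σ : K ≃+* K) (g : TTU n K q σ) {e : K}
    (he : (e • g.1.1).map σ = e • g.1.1) : σ e = e := by
  obtain ⟨i, j, hx⟩ := unitary_ne_zero hn g.1
  rw [map_smul_sigma, g.2] at he
  have := congrFun (congrFun he i) j
  rw [Matrix.smul_apply, Matrix.smul_apply, smul_eq_mul, smul_eq_mul] at this
  exact mul_right_cancel₀ hx this

/-- the main bijection. -/
noncomputable def mainEquivU (hn : 1 ≤ n) (σ : K ≃+* K) (s : SSU n K q σ → MU K q)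
    (hs : ∀ M, ((s M).1⁻¹ • M.1.1).map σ = (s M).1⁻¹ • M.1.1) :
    SSU n K q σ × KXU K q σ ≃ MU K q × TTU n K q σ where
  toFun gm := (⟨(s gm.1).1 * gm.2.1, norm_mul (s gm.1).2 gm.2.2.1⟩,
    ⟨⟨((s gm.1).1 * gm.2.1)⁻¹ • gm.1.1.1,
      smul_unitary (inv_norm (norm_mul (s gm.1).2 gm.2.2.1)) gm.1.1.2⟩, by
      show ((((s gm.1).1 * gm.2.1)⁻¹ • gm.1.1.1)).map σ = ((s gm.1).1 * gm.2.1)⁻¹ • gm.1.1.1
      have h1 : ((s gm.1).1 * gm.2.1)⁻¹ • gm.1.1.1 = gm.2.1⁻¹ • ((s gm.1).1⁻¹ • gm.1.1.1) := by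
        rw [smul_smul, mul_inv, mul_comm]
      rw [h1, map_smul_sigma, hs, map_inv₀, gm.2.2.2]⟩)
  invFun dg := (invS σ dg, ⟨dg.1.1 / (s (invS σ dg)).1, norm_div dg.1.2 (s (invS σ dg)).2, by
    have h := hs (invS σ dg)
    have h2 : (s (invS σ dg)).1⁻¹ • (invS σ dg).1.1 = (dg.1.1 / (s (invS σ dg)).1) • dg.2.1.1 := by
      show (s (invS σ dg)).1⁻¹ • (dg.1.1 • dg.2.1.1) = _
      rw [smul_smul, div_eq_mul_inv, mul_comm]
    rw [h2] at h
    exact fixed_scalar hn σ dg.2 h⟩)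
  left_inv := by
    rintro ⟨g, m⟩
    have hs0 : (s g).1 ≠ 0 := MU_ne_zero (s g)
    have hm0 : m.1 ≠ 0 := by
      intro h
      have := m.2.1
      rw [h, zero_mul] at this
      exact zero_ne_one this
    have h1 : invS σ (⟨(s g).1 * m.1, norm_mul (s g).2 m.2.1⟩,
        (⟨⟨((s g).1 * m.1)⁻¹ • g.1.1, smul_unitary (inv_norm (norm_mul (s g).2 m.2.1)) g.1.2⟩,
          by
            show ((((s g).1 * m.1)⁻¹ • g.1.1)).map σ = ((s g).1 * m.1)⁻¹ • g.1.1
            have h1 : ((s g).1 * m.1)⁻¹ • g.1.1 = m.1⁻¹ • ((s g).1⁻¹ • g.1.1) := by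
              rw [smul_smul, mul_inv, mul_comm]
            rw [h1, map_smul_sigma, hs, map_inv₀, m.2.2]⟩ : TTU n K q σ)) = g := by
      apply Subtype.ext
      apply Subtype.ext
      show ((s g).1 * m.1) • (((s g).1 * m.1)⁻¹ • g.1.1) = g.1.1
      rw [smul_smul, mul_inv_cancel₀ (mul_ne_zero hs0 hm0), one_smul]
    apply Prod.ext
    · exact h1
    · apply Subtype.ext
      show ((s g).1 * m.1) / (s (invS σ _)).1 = m.1
      rw [h1]
      field_simp
  right_inv := by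
    rintro ⟨d, g⟩
    have hd0 : d.1 ≠ 0 := MU_ne_zero d
    have hs0 : (s (invS σ (d, g))).1 ≠ 0 := MU_ne_zero _
    apply Prod.ext
    · apply Subtype.ext
      show (s (invS σ (d, g))).1 * (d.1 / (s (invS σ (d, g))).1) = d.1
      field_simp
    · apply Subtype.ext
      apply Subtype.ext
      show ((s (invS σ (d, g))).1 * (d.1 / (s (invS σ (d, g))).1))⁻¹ • (d.1 • g.1.1) = g.1.1
      rw [smul_smul, mul_div_cancel₀ _ hs0, inv_mul_cancel₀ hd0, one_smul]

theorem card_MU (hK : Fintype.card K = q ^ 2) : Nat.card (MU K q) = q + 1 := by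
  have h1 : Nat.card (powMonoidHom (q + 1) : Kˣ →* Kˣ).ker = q + 1 := by
    rw [IsCyclic.card_powMonoidHom_ker, card_units_K hK, qsq_sub_one hK,
      Nat.gcd_eq_right (Dvd.intro_left _ rfl)]
  rw [← h1]
  refine Nat.card_congr ⟨fun c => ⟨Units.mk0 c.1 (MU_ne_zero c), ?_⟩, fun u => ⟨(u.1 : K), ?_⟩,
    fun c => rfl, fun u => ?_⟩
  · rw [MonoidHom.mem_ker, powMonoidHom_apply]
    apply Units.ext
    rw [Units.val_pow_eq_pow_val, Units.val_mk0, Units.val_one, pow_succ']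
    exact c.2
  · have := u.2
    rw [MonoidHom.mem_ker, powMonoidHom_apply] at this
    have h2 := congrArg Units.val this
    rw [Units.val_pow_eq_pow_val, Units.val_one, pow_succ'] at h2
    exact h2
  · apply Subtype.ext
    apply Units.ext
    rfl

section down
variable (hr : r.Prime) (hr2 : r ≠ 2) (hq : q = q₀ ^ r) (hK : Fintype.card K = q ^ 2)
  (σ : K ≃+* K) (hσ : orderOf σ = r)

/-- fixed norm-one scalars live in the fixed field. -/
noncomputable def kxEquivU : KXU K q σ ≃ MU (fixK σ) q₀ where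
  toFun d := ⟨⟨d.1, (mem_fixK σ _).mpr d.2.2⟩, by
    apply Subtype.ext
    show d.1 * d.1 ^ q₀ = 1
    rw [← pow_q_eq hr hr2 hq hK σ hσ d.2.2]
    exact d.2.1⟩
  invFun e := ⟨(e.1 : K), by
    have hfix : σ (e.1 : K) = (e.1 : K) := (mem_fixK σ _).mp e.1.2
    refine ⟨?_, hfix⟩
    rw [pow_q_eq hr hr2 hq hK σ hσ hfix]
    exact congrArg Subtype.val e.2⟩
  left_inv d := rfl
  right_inv e := rfl

/-- fixed unitary matrices live over the fixed field. -/
noncomputable def ttEquivU : TTU n K q σ ≃ UM n (fixK σ) q₀ where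
  toFun g := ⟨Matrix.of fun i j => ⟨g.1.1 i j, by
      rw [mem_fixK]
      have := congrFun (congrFun g.2 i) j
      simpa [Matrix.map_apply] using this⟩, by
    apply Matrix.map_injective (fixK σ).subtype_injective
    ext i j
    have h := congrFun (congrFun g.1.2 i) j
    rw [Matrix.mul_apply] at h
    beta_reduce
    rw [Matrix.map_apply, Matrix.mul_apply, map_sum]
    rw [show ((1 : Matrix (Fin n) (Fin n) (fixK σ)).map (fixK σ).subtype) i j
      = (1 : Matrix (Fin n) (Fin n) K) i j by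
      rw [Matrix.map_apply]
      by_cases hij : i = j
      · subst hij; simp
      · simp [Matrix.one_apply_ne hij]]
    rw [← h]
    refine Finset.sum_congr rfl fun k _ => ?_
    rw [map_mul]
    have hfix : σ (g.1.1 k j) = g.1.1 k j := by
      have := congrFun (congrFun g.2 k) j
      simpa [Matrix.map_apply] using this
    show g.1.1 k i * (g.1.1 k j) ^ q₀ = g.1.1 k i * (g.1.1 k j) ^ q
    rw [pow_q_eq hr hr2 hq hK σ hσ hfix]⟩
  invFun M := ⟨⟨M.1.map (fixK σ).subtype, by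
      have h := congrArg (fun X : Matrix (Fin n) (Fin n) (fixK σ) => X.map (fixK σ).subtype) M.2
      ext i j
      have h' := congrFun (congrFun h i) j
      simp only [Matrix.map_apply, Matrix.mul_apply, map_sum, map_mul] at h'
      rw [Matrix.mul_apply]
      rw [show (1 : Matrix (Fin n) (Fin n) K) i j
        = (fixK σ).subtype ((1 : Matrix (Fin n) (Fin n) (fixK σ)) i j) by
        by_cases hij : i = j
        · subst hij; simp
        · simp [Matrix.one_apply_ne hij]]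
      rw [← h']
      refine Finset.sum_congr rfl fun k _ => ?_
      have hfix : σ ((M.1 k j : fixK σ) : K) = ((M.1 k j : fixK σ) : K) :=
        (mem_fixK σ _).mp (M.1 k j).2
      show ((M.1 k i : fixK σ) : K) * ((M.1 k j : fixK σ) : K) ^ q
        = ((M.1 k i : fixK σ) : K) * (((M.1 k j) ^ q₀ : fixK σ) : K)
      rw [pow_q_eq hr hr2 hq hK σ hσ hfix]
      rfl⟩, by
    ext i j
    show σ ((M.1 i j : fixK σ) : K) = ((M.1 i j : fixK σ) : K)
    exact (mem_fixK σ _).mp (M.1 i j).2⟩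
  left_inv g := by
    apply Subtype.ext
    apply Subtype.ext
    ext i j
    rfl
  right_inv M := by
    apply Subtype.ext
    ext i j
    rfl

end down

theorem result {K : Type*} [Field K] [Fintype K] {q₀ q r n : ℕ} (hr : r.Prime) (hr2 : r ≠ 2) (hn : 1 ≤ n) (hq : q = q₀ ^ r) (hK : Fintype.card K = q ^ 2) (σ : K ≃+* K) (hσ : orderOf σ = r) : (Nat.card {g : ↥(Cfsg.GU n K q) // ∃ c : K, c ≠ 0 ∧ ((g : GL (Fin n) K) : Matrix (Fin n) (Fin n) K).map σ = c • ((g : GL (Fin n) K) : Matrix (Fin n) (Fin n) K)} : ℤ) = ((q + 1) / (q₀ + 1) : ℕ) * ((q₀ : ℤ) ^ (n * (n - 1) / 2) * ∏ i : Fin n, ((q₀ : ℤ) ^ ((i : ℕ) + 1) - (-1) ^ ((i : ℕ) + 1))) := by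
  classical
  have hK' : Fintype.card K = (q₀ ^ 2) ^ r := by rw [hK, hq]; ring
  have hc : Nat.card (fixK σ) = q₀ ^ 2 := card_fixK σ hr hK' hσ
  have : Fintype (fixK σ) := Fintype.ofFinite _
  have hc' : Fintype.card (fixK σ) = q₀ ^ 2 := by rw [← Nat.card_eq_fintype_card]; exact hc
  have hq0 : 2 ≤ q₀ := two_le_q hc'
  have e0 : Nat.card {g : ↥(Cfsg.GU n K q) // ∃ c : K, c ≠ 0 ∧ ((g : GL (Fin n) K) : Matrix (Fin n) (Fin n) K).map σ = c • ((g : GL (Fin n) K) : Matrix (Fin n) (Fin n) K)} = Nat.card (SSU n K q σ) :=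
    Nat.card_congr (Equiv.subtypeEquiv (guEquiv hK) fun g => Iff.rfl)
  let s : SSU n K q σ → MU K q := fun M => Classical.choose (exists_scalar hr hr2 hn hq hK σ hσ M)
  have hs : ∀ M, ((s M).1⁻¹ • M.1.1).map σ = (s M).1⁻¹ • M.1.1 :=
    fun M => Classical.choose_spec (exists_scalar hr hr2 hn hq hK σ hσ M)
  have e := Nat.card_congr (mainEquivU hn σ s hs)
  rw [Nat.card_prod, Nat.card_prod, Nat.card_congr (kxEquivU hr hr2 hq hK σ hσ),
    Nat.card_congr (ttEquivU hr hr2 hq hK σ hσ), card_MU hK, card_MU hc',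
    ← Nat.card_congr (guEquiv hc'), card_GU hc'] at e
  obtain ⟨m, hm⟩ : (q₀ + 1) ∣ (q + 1) := by
    rw [hq]
    have := Odd.nat_add_dvd_pow_add_pow q₀ 1 (hr.odd_of_ne_two hr2)
    simpa using this
  rw [e0, hm, Nat.mul_div_cancel_left _ (by omega)]
  have e' : Nat.card (SSU n K q σ) = m * (q₀ ^ (n * (n - 1) / 2) *
      ∏ i ∈ Finset.range n, (if Even i then q₀ ^ (i + 1) + 1 else q₀ ^ (i + 1) - 1)) := by
    rw [hm] at e
    have h1 : (q₀ + 1) * Nat.card (SSU n K q σ) = (q₀ + 1) * (m * (q₀ ^ (n * (n - 1) / 2) *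
      ∏ i ∈ Finset.range n, (if Even i then q₀ ^ (i + 1) + 1 else q₀ ^ (i + 1) - 1))) := by
      rw [mul_comm, e]
      ring
    exact Nat.eq_of_mul_eq_mul_left (by omega) h1
  rw [e']
  push_cast
  congr 2
  rw [Fin.prod_univ_eq_prod_range (fun i => (q₀ : ℤ) ^ (i + 1) - (-1) ^ (i + 1)) n]
  refine Finset.prod_congr rfl fun i _ => ?_
  have hpos : 1 ≤ q₀ ^ (i + 1) := Nat.one_le_pow _ _ (by omega)
  split_ifs with h
  · rw [Odd.neg_one_pow (Even.add_one h)]
    push_cast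
    ring
  · rw [Even.neg_one_pow (by
      rcases Nat.even_or_odd i with h' | h'
      · exact absurd h' h
      · exact Odd.add_one h')]
    push_cast [Nat.cast_sub hpos]
    ring

end Cfsg.Agent.S2677
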