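import Cfsg.Statements.S2678
import Cfsg.Agent.Helper8.QuadExt
import Mathlib

set_option autoImplicit false
open Cfsg

namespace Cfsg.Agent.S2678

open Cfsg.Agent.Helper8.QuadExt
open scoped Matrix

section
variable {R : Type*} [CommRing R] {l : Type*} [Fintype l] [DecidableEq l]

/-- the standard alternating form -/
def om (x y : l ⊕ l → R) : R := x ⬝ᵥ (Matrix.J l R *ᵥ y)

lemma om_eq (x y : l ⊕ l → R) :
    om x y = ∑ i : l, (x (Sum.inr i) * y (Sum.inl i) - x (Sum.inl i) * y (Sum.inr i)) := by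
  unfold om Matrix.J
  simp only [dotProduct, Fintype.sum_sum_type, Matrix.mulVec, Matrix.fromBlocks_apply₁₁,
    Matrix.fromBlocks_apply₁₂, Matrix.fromBlocks_apply₂₁, Matrix.fromBlocks_apply₂₂, Matrix.zero_apply,
    Matrix.neg_apply, Matrix.one_apply, zero_mul, Finset.sum_const_zero, zero_add, add_zero]
  simp only [neg_mul, ite_mul, one_mul, zero_mul, Finset.sum_neg_distrib, Finset.sum_ite_eq,
    Finset.mem_univ, if_true, mul_neg]
  rw [Finset.sum_sub_distrib]
  ring

lemma om_of_mem (g : Matrix (l ⊕ l) (l ⊕ l) R) (hg : g ∈ Matrix.symplecticGroup l R) (x y : l ⊕ l → R) :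
    om (g *ᵥ x) (g *ᵥ y) = om x y := by
  rw [SymplecticGroup.mem_iff'] at hg
  unfold om
  conv_rhs => rw [← hg]
  rw [← Matrix.mulVec_mulVec, ← Matrix.mulVec_mulVec, Matrix.dotProduct_mulVec (A := g.transpose),
    Matrix.vecMul_transpose]

end

section
variable {K F : Type*} [Field K] [Field F] [Algebra F K] {q : ℕ} (d : Data K F q) {a : ℕ}

/-- index equivalence -/
def e2 (a : ℕ) : Fin a ⊕ Fin a ≃ Fin (2 * a) := finSumFinEquiv.trans (finCongr (two_mul a).symm)

/-- the coordinate equivalence -/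
noncomputable def EE (a : ℕ) : (Fin a ⊕ Fin a → K) ≃ₗ[F] (Fin (2 * a) ⊕ Fin (2 * a) → F) where
  toFun u := Sum.elim
    (Sum.elim (fun i => d.re (u (Sum.inl i))) (fun i => d.im (u (Sum.inl i))) ∘ (e2 a).symm)
    (Sum.elim (fun i => d.im (u (Sum.inr i))) (fun i => d.re (u (Sum.inr i)) + d.tau * d.im (u (Sum.inr i)))
      ∘ (e2 a).symm)
  map_add' := by
    intro u v
    ext (k | k)
    · simp only [Sum.elim_inl, Function.comp_apply, Pi.add_apply]
      rcases (e2 a).symm k with i | i <;> simp [d.re_add, d.im_add]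
    · simp only [Sum.elim_inr, Function.comp_apply, Pi.add_apply]
      rcases (e2 a).symm k with i | i <;> simp [d.re_add, d.im_add]
      ring
  map_smul' := by
    intro c u
    ext (k | k)
    · simp only [Sum.elim_inl, Function.comp_apply, Pi.smul_apply, RingHom.id_apply]
      rcases (e2 a).symm k with i | i <;> simp [Algebra.smul_def, d.re_smul, d.im_smul]
    · simp only [Sum.elim_inr, Function.comp_apply, Pi.smul_apply, RingHom.id_apply]
      rcases (e2 a).symm k with i | i <;> simp [Algebra.smul_def, d.re_smul, d.im_smul]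
      ring
  invFun w := Sum.elim
    (fun i => algebraMap F K (w (Sum.inl (e2 a (Sum.inl i)))) +
      d.θ * algebraMap F K (w (Sum.inl (e2 a (Sum.inr i)))))
    (fun i => algebraMap F K (w (Sum.inr (e2 a (Sum.inr i))) - d.tau * w (Sum.inr (e2 a (Sum.inl i)))) +
      d.θ * algebraMap F K (w (Sum.inr (e2 a (Sum.inl i)))))
  left_inv := by
    intro u
    ext (i | i)
    · simp only [Sum.elim_inl, Function.comp_apply, Equiv.symm_apply_apply]
      exact d.decomp _
    · simp only [Sum.elim_inr, Function.comp_apply, Equiv.symm_apply_apply, Sum.elim_inl]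
      rw [add_sub_cancel_right]
      exact d.decomp _
  right_inv := by
    intro w
    ext (k | k)
    · simp only [Sum.elim_inl, Function.comp_apply]
      obtain ⟨s, rfl⟩ := (e2 a).surjective k
      rw [Equiv.symm_apply_apply]
      rcases s with i | i
      · exact d.re_eq rfl
      · exact d.im_eq rfl
    · simp only [Sum.elim_inr, Function.comp_apply]
      obtain ⟨s, rfl⟩ := (e2 a).surjective k
      rw [Equiv.symm_apply_apply]
      rcases s with i | i
      · exact d.im_eq rfl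
      · simp only [Sum.elim_inr]
        rw [d.re_eq rfl, d.im_eq rfl]
        ring

lemma EE_inl_inl (u : Fin a ⊕ Fin a → K) (i : Fin a) :
    EE d a u (Sum.inl (e2 a (Sum.inl i))) = d.re (u (Sum.inl i)) := by
  change (Sum.elim _ _ ∘ (e2 a).symm) (e2 a (Sum.inl i)) = _
  rw [Function.comp_apply, Equiv.symm_apply_apply]
  rfl

lemma EE_inl_inr (u : Fin a ⊕ Fin a → K) (i : Fin a) :
    EE d a u (Sum.inl (e2 a (Sum.inr i))) = d.im (u (Sum.inl i)) := by
  change (Sum.elim _ _ ∘ (e2 a).symm) (e2 a (Sum.inr i)) = _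
  rw [Function.comp_apply, Equiv.symm_apply_apply]
  rfl

lemma EE_inr_inl (u : Fin a ⊕ Fin a → K) (i : Fin a) :
    EE d a u (Sum.inr (e2 a (Sum.inl i))) = d.im (u (Sum.inr i)) := by
  change (Sum.elim _ _ ∘ (e2 a).symm) (e2 a (Sum.inl i)) = _
  rw [Function.comp_apply, Equiv.symm_apply_apply]
  rfl

lemma EE_inr_inr (u : Fin a ⊕ Fin a → K) (i : Fin a) :
    EE d a u (Sum.inr (e2 a (Sum.inr i))) = d.re (u (Sum.inr i)) + d.tau * d.im (u (Sum.inr i)) := by
  change (Sum.elim _ _ ∘ (e2 a).symm) (e2 a (Sum.inr i)) = _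
  rw [Function.comp_apply, Equiv.symm_apply_apply]
  rfl

lemma om_EE (u v : Fin a ⊕ Fin a → K) :
    om (EE d a u) (EE d a v) = d.im (om u v) := by
  rw [om_eq, om_eq, d.im_sum]
  rw [← Equiv.sum_comp (e2 a), Fintype.sum_sum_type, ← Finset.sum_add_distrib]
  apply Finset.sum_congr rfl
  intro i _
  rw [EE_inl_inl, EE_inl_inr, EE_inr_inl, EE_inr_inr, EE_inl_inl, EE_inl_inr, EE_inr_inl, EE_inr_inr,
    d.im_sub, mul_comm (u (Sum.inr i)) (v (Sum.inl i)), d.im_mul, d.im_mul]
  ring

end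

theorem result {K F : Type*} [Field K] [Fintype K] [Field F] [Fintype F] {q : ℕ} (hK : Fintype.card K = q ^ 2) (hF : Fintype.card F = q) (a : ℕ) : ∃ φ : ↥(Matrix.symplecticGroup (Fin a) K) →* ↥(Matrix.symplecticGroup (Fin (2 * a)) F), Function.Injective φ := by
  classical
  obtain ⟨alg, ⟨d⟩⟩ := nonempty_data hK hF
  letI : Algebra F K := alg
  let E := EE d a
  have hmem : ∀ g : ↥(Matrix.symplecticGroup (Fin a) K),
      Phi E (g : Matrix (Fin a ⊕ Fin a) (Fin a ⊕ Fin a) K) ∈ Matrix.symplecticGroup (Fin (2 * a)) F := by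
    intro g
    rw [SymplecticGroup.mem_iff']
    apply transpose_mul_mul_of_form
    intro x y
    obtain ⟨u, rfl⟩ := E.surjective x
    obtain ⟨v, rfl⟩ := E.surjective y
    rw [Phi_mulVec, Phi_mulVec]
    have h1 := om_EE d ((g : Matrix (Fin a ⊕ Fin a) (Fin a ⊕ Fin a) K) *ᵥ u)
      ((g : Matrix (Fin a ⊕ Fin a) (Fin a ⊕ Fin a) K) *ᵥ v)
    rw [om_of_mem _ g.2, ← om_EE d u v] at h1
    exact h1
  let φ : ↥(Matrix.symplecticGroup (Fin a) K) →* ↥(Matrix.symplecticGroup (Fin (2 * a)) F) :=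
    { toFun := fun g => ⟨Phi E (g : Matrix (Fin a ⊕ Fin a) (Fin a ⊕ Fin a) K), hmem g⟩
      map_one' := by
        apply Subtype.ext
        exact Phi_one E
      map_mul' := by
        intro x y
        apply Subtype.ext
        exact Phi_mul E _ _ }
  refine ⟨φ, ?_⟩
  intro x y hxy
  have h1 : Phi E (x : Matrix (Fin a ⊕ Fin a) (Fin a ⊕ Fin a) K) =
      Phi E (y : Matrix (Fin a ⊕ Fin a) (Fin a ⊕ Fin a) K) := congrArg Subtype.val hxy
  apply Subtype.ext
  exact Phi_injective E h1

end Cfsg.Agent.S2678
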