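import Cfsg.Statements.S2679
import Cfsg.Agent.Helper8.QuadExt
import Mathlib

set_option autoImplicit false
open Cfsg

namespace Cfsg.Agent.S2679

open Cfsg.Agent.Helper8.QuadExt
open scoped Matrix

section
variable {R : Type*} [Field R] {n : ℕ}

/-- polarization identity for `quadFormMinus` -/
lemma qm_polar (a c : R) (x y : (Fin n ⊕ Fin n) ⊕ Fin 2 → R) (t : R) :
    quadFormMinus n R a c (x + t • y) = quadFormMinus n R a c x +
      t * (quadFormMinus n R a c (x + y) - quadFormMinus n R a c x - quadFormMinus n R a c y) +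
      t ^ 2 * quadFormMinus n R a c y := by
  unfold quadFormMinus
  simp only [Pi.add_apply, Pi.smul_apply, smul_eq_mul]
  have h : ∀ i : Fin n, (x (Sum.inl (Sum.inl i)) + t * y (Sum.inl (Sum.inl i))) *
      (x (Sum.inl (Sum.inr i)) + t * y (Sum.inl (Sum.inr i))) =
      x (Sum.inl (Sum.inl i)) * x (Sum.inl (Sum.inr i)) +
      t * ((x (Sum.inl (Sum.inl i)) + y (Sum.inl (Sum.inl i))) *
        (x (Sum.inl (Sum.inr i)) + y (Sum.inl (Sum.inr i))) -
        x (Sum.inl (Sum.inl i)) * x (Sum.inl (Sum.inr i)) -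
        y (Sum.inl (Sum.inl i)) * y (Sum.inl (Sum.inr i))) +
      t ^ 2 * (y (Sum.inl (Sum.inl i)) * y (Sum.inl (Sum.inr i))) := by
    intro i
    ring
  simp only [h, Finset.sum_add_distrib, Finset.sum_sub_distrib, ← Finset.mul_sum]
  ring

end

section
variable {K F : Type*} [Field K] [Field F] [Algebra F K] {q : ℕ} {n : ℕ}

lemma qm_alg (a c : F) (w : (Fin n ⊕ Fin n) ⊕ Fin 2 → F) :
    quadFormMinus n K (algebraMap F K a) (algebraMap F K c) (fun j => algebraMap F K (w j)) =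
      algebraMap F K (quadFormMinus n F a c w) := by
  unfold quadFormMinus
  simp only [map_add, map_sum, map_mul, map_pow]

/-- invariance over `K` from invariance over `F` -/
lemma qm_invariant (d : Data K F q) (a c : F)
    (g : Matrix ((Fin n ⊕ Fin n) ⊕ Fin 2) ((Fin n ⊕ Fin n) ⊕ Fin 2) F)
    (hg : ∀ w, quadFormMinus n F a c (g *ᵥ w) = quadFormMinus n F a c w)
    (v : (Fin n ⊕ Fin n) ⊕ Fin 2 → K) :
    quadFormMinus n K (algebraMap F K a) (algebraMap F K c) (g.map (algebraMap F K) *ᵥ v) =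
      quadFormMinus n K (algebraMap F K a) (algebraMap F K c) v := by
  set v₁ : (Fin n ⊕ Fin n) ⊕ Fin 2 → F := fun j => d.re (v j) with hv₁
  set v₂ : (Fin n ⊕ Fin n) ⊕ Fin 2 → F := fun j => d.im (v j) with hv₂
  have hv : v = (fun j => algebraMap F K (v₁ j)) + d.θ • (fun j => algebraMap F K (v₂ j)) := by
    ext j
    simp only [Pi.add_apply, Pi.smul_apply, smul_eq_mul]
    exact (d.decomp (v j)).symm
  have hmap : ∀ w : (Fin n ⊕ Fin n) ⊕ Fin 2 → F,
      g.map (algebraMap F K) *ᵥ (fun j => algebraMap F K (w j)) =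
        fun j => algebraMap F K ((g *ᵥ w) j) := by
    intro w
    have := RingHom.map_mulVec (algebraMap F K) g w
    ext j
    exact (this j).symm
  have hsum : ∀ w₁ w₂ : (Fin n ⊕ Fin n) ⊕ Fin 2 → F,
      (fun j => algebraMap F K (w₁ j)) + (fun j => algebraMap F K (w₂ j)) =
        fun j => algebraMap F K ((w₁ + w₂) j) := by
    intro w₁ w₂
    ext j
    simp
  rw [hv, Matrix.mulVec_add, Matrix.mulVec_smul, hmap, hmap, qm_polar, qm_polar, hsum, hsum,
    qm_alg, qm_alg, qm_alg, qm_alg, qm_alg, qm_alg, ← Matrix.mulVec_add, hg, hg, hg]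

variable (η η' : K)

/-- the coordinate change to hyperbolic coordinates -/
def EK : ((Fin n ⊕ Fin n) ⊕ Fin 2 → K) →ₗ[K] (Fin (n + 1) ⊕ Fin (n + 1) → K) where
  toFun v := Sum.elim
    (Fin.snoc (fun i : Fin n => v (Sum.inl (Sum.inl i))) (v (Sum.inr 0) + η * v (Sum.inr 1)))
    (Fin.snoc (fun i : Fin n => v (Sum.inl (Sum.inr i))) (v (Sum.inr 0) + η' * v (Sum.inr 1)))
  map_add' := by
    intro u v
    ext (j | j)
    · simp only [Sum.elim_inl, Pi.add_apply]
      refine Fin.lastCases ?_ (fun i => ?_) j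
      · simp only [Fin.snoc_last]
        ring
      · simp only [Fin.snoc_castSucc]
    · simp only [Sum.elim_inr, Pi.add_apply]
      refine Fin.lastCases ?_ (fun i => ?_) j
      · simp only [Fin.snoc_last]
        ring
      · simp only [Fin.snoc_castSucc]
  map_smul' := by
    intro t v
    ext (j | j)
    · simp only [Sum.elim_inl, Pi.smul_apply, smul_eq_mul, RingHom.id_apply]
      refine Fin.lastCases ?_ (fun i => ?_) j
      · simp only [Fin.snoc_last]
        ring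
      · simp only [Fin.snoc_castSucc]
    · simp only [Sum.elim_inr, Pi.smul_apply, smul_eq_mul, RingHom.id_apply]
      refine Fin.lastCases ?_ (fun i => ?_) j
      · simp only [Fin.snoc_last]
        ring
      · simp only [Fin.snoc_castSucc]

lemma EK_quad (a c : K) (h1 : η + η' = a) (h2 : η * η' = c) (v : (Fin n ⊕ Fin n) ⊕ Fin 2 → K) :
    quadFormPlus (n + 1) K (EK η η' v) = quadFormMinus n K a c v := by
  unfold quadFormPlus quadFormMinus
  rw [Fin.sum_univ_castSucc]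
  simp only [EK, LinearMap.coe_mk, AddHom.coe_mk, Sum.elim_inl, Sum.elim_inr, Fin.snoc_castSucc,
    Fin.snoc_last]
  rw [← h1, ← h2]
  ring

lemma EK_injective (hne : η ≠ η') : Function.Injective (EK η η' (n := n)) := by
  rw [← LinearMap.ker_eq_bot, LinearMap.ker_eq_bot']
  intro v hv
  have h1 : ∀ i : Fin n, v (Sum.inl (Sum.inl i)) = 0 := by
    intro i
    have := congrFun hv (Sum.inl (Fin.castSucc i))
    simpa [EK] using this
  have h2 : ∀ i : Fin n, v (Sum.inl (Sum.inr i)) = 0 := by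
    intro i
    have := congrFun hv (Sum.inr (Fin.castSucc i))
    simpa [EK] using this
  have h3 : v (Sum.inr 0) + η * v (Sum.inr 1) = 0 := by
    have := congrFun hv (Sum.inl (Fin.last n))
    simpa [EK] using this
  have h4 : v (Sum.inr 0) + η' * v (Sum.inr 1) = 0 := by
    have := congrFun hv (Sum.inr (Fin.last n))
    simpa [EK] using this
  have h5 : v (Sum.inr 1) = 0 := by
    have : (η - η') * v (Sum.inr 1) = 0 := by linear_combination h3 - h4
    rcases mul_eq_zero.mp this with h | h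
    · exact absurd (sub_eq_zero.mp h) hne
    · exact h
  have h6 : v (Sum.inr 0) = 0 := by
    rw [h5, mul_zero, add_zero] at h3
    exact h3
  ext ((i | i) | t)
  · exact h1 i
  · exact h2 i
  · fin_cases t
    · exact h6
    · exact h5

end

theorem main {F K : Type*} [Field F] [Fintype F] [Field K] [Fintype K] {q : ℕ} (hF : Fintype.card F = q) (hK : Fintype.card K = q ^ 2) (n : ℕ) (a c : F) (hac : ∀ z₁ z₂ : F, z₁ ^ 2 + a * z₁ * z₂ + c * z₂ ^ 2 = 0 → z₁ = 0 ∧ z₂ = 0) : ∃ φ : ↥(Cfsg.isometryGroup F (Cfsg.quadFormMinus n F a c)) →* ↥(Cfsg.isometryGroup K (Cfsg.quadFormPlus (n + 1) K)), Function.Injective φ := by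
  classical
  obtain ⟨alg, ⟨d⟩⟩ := nonempty_data hK hF
  letI : Algebra F K := alg
  obtain ⟨η, hη⟩ := exists_root hK hF a c hac
  obtain ⟨hηne, hη1, hη2⟩ := d.root_props a c hac η hη
  have hfr : Module.finrank K ((Fin n ⊕ Fin n) ⊕ Fin 2 → K) =
      Module.finrank K (Fin (n + 1) ⊕ Fin (n + 1) → K) := by
    rw [Module.finrank_fintype_fun_eq_card, Module.finrank_fintype_fun_eq_card]
    simp only [Fintype.card_sum, Fintype.card_fin]
    ring
  let E : ((Fin n ⊕ Fin n) ⊕ Fin 2 → K) ≃ₗ[K] (Fin (n + 1) ⊕ Fin (n + 1) → K) :=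
    LinearMap.linearEquivOfInjective (EK η (η ^ q)) (EK_injective η (η ^ q) (Ne.symm hηne)) hfr
  have hE : ∀ u, E u = EK η (η ^ q) u := fun u => rfl
  let PhiHom : Matrix ((Fin n ⊕ Fin n) ⊕ Fin 2) ((Fin n ⊕ Fin n) ⊕ Fin 2) F →*
      Matrix (Fin (n + 1) ⊕ Fin (n + 1)) (Fin (n + 1) ⊕ Fin (n + 1)) K :=
    { toFun := fun g => Phi E (g.map (algebraMap F K))
      map_one' := by
        rw [Matrix.map_one _ (map_zero _) (map_one _)]
        exact Phi_one E
      map_mul' := by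
        intro x y
        rw [Matrix.map_mul]
        exact Phi_mul E _ _ }
  have hmem : ∀ g : ↥(Cfsg.isometryGroup F (Cfsg.quadFormMinus n F a c)),
      Units.map PhiHom (g.1 : GL ((Fin n ⊕ Fin n) ⊕ Fin 2) F) ∈
        Cfsg.isometryGroup K (Cfsg.quadFormPlus (n + 1) K) := by
    intro g x y
    change quadFormPlus (n + 1) K (Phi E (((g.1 : GL ((Fin n ⊕ Fin n) ⊕ Fin 2) F) :
      Matrix ((Fin n ⊕ Fin n) ⊕ Fin 2) ((Fin n ⊕ Fin n) ⊕ Fin 2) F).map (algebraMap F K)) *ᵥ x)
      = quadFormPlus (n + 1) K x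
    obtain ⟨u, rfl⟩ := E.surjective x
    rw [Phi_mulVec, hE, hE, EK_quad η (η ^ q) _ _ hη1 hη2, EK_quad η (η ^ q) _ _ hη1 hη2]
    apply qm_invariant d
    intro w
    exact g.2 w w
  let φ : ↥(Cfsg.isometryGroup F (Cfsg.quadFormMinus n F a c)) →*
      ↥(Cfsg.isometryGroup K (Cfsg.quadFormPlus (n + 1) K)) :=
    ((Units.map PhiHom).comp (Cfsg.isometryGroup F (Cfsg.quadFormMinus n F a c)).subtype).codRestrict _ hmem
  refine ⟨φ, ?_⟩
  intro x y hxy
  have h1 : Units.map PhiHom (x.1 : GL ((Fin n ⊕ Fin n) ⊕ Fin 2) F) =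
      Units.map PhiHom (y.1 : GL ((Fin n ⊕ Fin n) ⊕ Fin 2) F) := congrArg Subtype.val hxy
  have h2 : Phi E (((x.1 : GL ((Fin n ⊕ Fin n) ⊕ Fin 2) F) :
      Matrix ((Fin n ⊕ Fin n) ⊕ Fin 2) ((Fin n ⊕ Fin n) ⊕ Fin 2) F).map (algebraMap F K)) =
      Phi E (((y.1 : GL ((Fin n ⊕ Fin n) ⊕ Fin 2) F) :
      Matrix ((Fin n ⊕ Fin n) ⊕ Fin 2) ((Fin n ⊕ Fin n) ⊕ Fin 2) F).map (algebraMap F K)) :=
    congrArg Units.val h1
  have h3 := Phi_injective E h2
  apply Subtype.ext
  apply Units.ext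
  exact Matrix.map_injective (algebraMap F K).injective h3

theorem result {F K : Type*} [Field F] [Fintype F] [Field K] [Fintype K] {q : ℕ} (hF : Fintype.card F = q) (hK : Fintype.card K = q ^ 2) {m : ℕ} (hm : 1 ≤ m) (a c : F) (hac : ∀ z₁ z₂ : F, z₁ ^ 2 + a * z₁ * z₂ + c * z₂ ^ 2 = 0 → z₁ = 0 ∧ z₂ = 0) : ∃ φ : ↥(Cfsg.isometryGroup F (Cfsg.quadFormMinus (m - 1) F a c)) →* ↥(Cfsg.isometryGroup K (Cfsg.quadFormPlus m K)), Function.Injective φ := by
  obtain ⟨n, rfl⟩ : ∃ n, m = n + 1 := ⟨m - 1, by omega⟩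
  exact main hF hK n a c hac

end Cfsg.Agent.S2679
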