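import Cfsg.Statements.S2687
import Cfsg.Agent.LBal.UMain
import Cfsg.Agent.S0282

set_option autoImplicit false
open Cfsg

namespace Cfsg.Agent.S2687

/-- a solvable group whose order is not a prime is not simple -/
theorem lbal_u_not_simple_of_solvable {G : Type*} [Group G] (hs : Group.IsSolvable G)
    (hc : ¬ (Nat.card G).Prime) : ¬ IsSimpleGroup G := by
  intro hG
  have hcomm : ∀ a b : G, a * b = b * a := IsSimpleGroup.comm_iff_isSolvable.mpr hs
  let _ : CommGroup G := { (inferInstance : Group G) with mul_comm := hcomm }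
  exact hc IsSimpleGroup.prime_card

/-- A criterion for the failure of local balance in almost simple groups with unitary socle. -/
theorem result
    (F : Type*) [Field F] [Fintype F] (r : ℕ) [Fact r.Prime] [CharP F r] (q : ℕ) (hF : Fintype.card F = q ^ 2)
    (n : ℕ) (hn : 3 ≤ n) (hK : IsSimpleGroup (Cfsg.PSU n F q))
    (𝒢 : Subgroup (MulAut (Cfsg.PSU n F q))) (hinn : ∀ k : Cfsg.PSU n F q, MulAut.conj k ∈ 𝒢)
    (p : ℕ) [Fact p.Prime] (hpr : p ≠ r) (β : MulAut (Cfsg.PSU n F q)) (hβ : β ∈ 𝒢) (hord : orderOf β = p)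
    (hnot : ¬ Cfsg.IsInnerDiagonalAutPSU β) :
    Cfsg.pPrimeCore p ↥(𝒢 ⊓ Subgroup.centralizer {β}) ≠ ⊥ ↔
      ((∃ γ φ : MulAut (Cfsg.PSU n F q), Cfsg.IsInnerDiagonalAutPSU γ ∧ (∃ σ : F ≃+* F, Cfsg.IsFieldAutPSUOf σ φ) ∧ β = φ.trans γ) ∧
        Nat.Coprime p (Nat.card ↥(MonoidHom.eqLocus β.toMonoidHom (MonoidHom.id (Cfsg.PSU n F q))))) := by
  obtain ⟨k, rfl⟩ : ∃ k, n = k + 2 := ⟨n - 2, by omega⟩
  have hk : 1 ≤ k := by omega
  have hFact : Fact (Fintype.card F = q ^ 2) := ⟨hF⟩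
  have hkq : ¬ (k = 1 ∧ q = 2) := by
    rintro ⟨rfl, rfl⟩
    obtain ⟨h72, hsol⟩ := Cfsg.Agent.S0282.result (F := F) (by rw [hF]; norm_num)
    refine lbal_u_not_simple_of_solvable hsol ?_ hK
    rw [h72]
    norm_num
  exact Cfsg.Agent.LBal.lbal_u_main r hk hkq hK 𝒢 hinn hpr β hord hnot

end Cfsg.Agent.S2687
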