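import Mathlib
import Cfsg.Statements.S2701
import Cfsg.Agent.Helper8.GrAutL
import Cfsg.Agent.Helper8.GrAutK

set_option autoImplicit false
open Cfsg

namespace Cfsg.Agent.S2701

open Matrix Cfsg.Agent.Helper8.AutSLn Cfsg.Agent.Helper8.GrAut Cfsg.Agent.Helper7.Symp

/-- Let T = PSL_n(F) over a finite field of characteristic 2 with n = 2m ≥ 4 even, and G = Inndiag(T) the image of PGL_n(F). The involutory graph automorphisms of T fall into exactly two G-classes, with representatives γ₁ and γ₃ whose centralizers in G are isomorphic respectively to the symplectic group Sp_n(F) and to the centralizer in Sp_n(F) of a symplectic transvection. -/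
theorem result {F : Type*} [Field F] [Fintype F] [CharP F 2] {n m : ℕ} (hm : 2 ≤ m) (hnm : n = 2 * m) :
    ∃ (γ₁ γ₃ : MulAut (Matrix.ProjectiveSpecialLinearGroup (Fin n) F)) (t : ↥(Matrix.symplecticGroup (Fin m) F)), Cfsg.IsTransvection (t : Matrix (Fin m ⊕ Fin m) (Fin m ⊕ Fin m) F) ∧ Cfsg.IsGraphAutClassPSL γ₁ ∧ orderOf γ₁ = 2 ∧ Cfsg.IsGraphAutClassPSL γ₃ ∧ orderOf γ₃ = 2 ∧ ¬ Cfsg.IsConjUnder (Cfsg.inndiagPSL n F) γ₁ γ₃ ∧ (∀ γ : MulAut (Matrix.ProjectiveSpecialLinearGroup (Fin n) F), Cfsg.IsGraphAutClassPSL γ → orderOf γ = 2 → Cfsg.IsConjUnder (Cfsg.inndiagPSL n F) γ₁ γ ∨ Cfsg.IsConjUnder (Cfsg.inndiagPSL n F) γ₃ γ) ∧ Nonempty (↥(Cfsg.inndiagPSL n F ⊓ Subgroup.centralizer {γ₁}) ≃* ↥(Matrix.symplecticGroup (Fin m) F)) ∧ Nonempty (↥(Cfsg.inndiagPSL n F ⊓ Subgroup.centralizer {γ₃}) ≃* ↥(Subgroup.centralizer ({t} : Set ↥(Matrix.symplecticGroup (Fin m) F)))) := by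
  classical
  have hn2 : 2 ≤ n := by omega
  have hn3 : 3 ≤ n := by omega
  let e : Fin n ≃ Fin m ⊕ Fin m := (finCongr (by omega : n = m + m)).trans finSumFinEquiv.symm
  have hnt : Nontrivial (Fin m ⊕ Fin m) :=
    ⟨⟨Sum.inl ⟨0, by omega⟩, Sum.inr ⟨0, by omega⟩, by simp⟩⟩
  set z : Fin m ⊕ Fin m → F := Pi.single (Sum.inl ⟨0, by omega⟩) 1 with hzdef
  have hz : z ≠ 0 := by
    intro h
    have := congrFun h (Sum.inl ⟨0, by omega⟩)
    rw [hzdef, Pi.single_eq_same, Pi.zero_apply] at this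
    exact one_ne_zero this
  have hA₁alt : ∀ v : Fin n → F,
      v ⬝ᵥ ((reGL e (Jgl m F) : GL (Fin n) F) : Matrix (Fin n) (Fin n) F) *ᵥ v = 0 := by
    intro v
    rw [reGL_coe, submatrix_form, Jgl_coe, J_alt]
  have hA₃sym : ((reGL e (A3gl z) : GL (Fin n) F) : Matrix (Fin n) (Fin n) F).transpose
      = ((reGL e (A3gl z) : GL (Fin n) F) : Matrix (Fin n) (Fin n) F) := by
    rw [reGL_coe, Matrix.transpose_submatrix, A3gl_transpose]
  have hA₃na : ∃ v : Fin n → F,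
      v ⬝ᵥ ((reGL e (A3gl z) : GL (Fin n) F) : Matrix (Fin n) (Fin n) F) *ᵥ v ≠ 0 := by
    obtain ⟨v₀, hv₀⟩ := A3gl_nonalt z hz
    refine ⟨(reidx F e).symm v₀, ?_⟩
    rw [reGL_coe, submatrix_form, LinearEquiv.apply_symm_apply]
    exact hv₀
  refine ⟨graphAut (reGL e (Jgl m F)), graphAut (reGL e (A3gl z)), T z 1, isTransvection_T z hz,
    isGraphAutClass_graphAut hn3 _,
    (orderOf_graphAut_fin hn3 _).mpr (Or.inr (reGL_Jgl_transpose e)),
    isGraphAutClass_graphAut hn3 _, (orderOf_graphAut_fin hn3 _).mpr (Or.inl hA₃sym),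
    not_conj_alt_nonalt hn2 _ _ hA₁alt hA₃na, ?_, ?_, ?_⟩
  · intro γ hγ hγ2
    obtain ⟨A, rfl⟩ := exists_eq_graphAut hγ
    have hA := symm_of_or A ((orderOf_graphAut_fin hn3 A).mp hγ2)
    by_cases halt : ∀ v : Fin n → F, v ⬝ᵥ (A : Matrix (Fin n) (Fin n) F) *ᵥ v = 0
    · left
      exact conj_of_congr hn2 _ A (exists_congr_of_alt _ A hA₁alt halt)
    · right
      push Not at halt
      exact conj_of_nonalt hn2 _ A hA₃sym hA₃na hA halt
  · obtain ⟨e1⟩ := nonempty_centralizer_equiv_isoSub hn2 e (Jgl m F)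
    obtain ⟨e2⟩ := nonempty_isoSub_J_equiv (F := F) (m := m)
    exact ⟨e1.trans e2⟩
  · obtain ⟨e1⟩ := nonempty_centralizer_equiv_isoSub hn2 e (A3gl z)
    obtain ⟨e2⟩ := nonempty_isoSub_A3_equiv z hz
    exact ⟨e1.trans e2⟩

end Cfsg.Agent.S2701
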