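import Mathlib
import Cfsg.Statements.S2702
import Cfsg.Agent.Helper8.GrAutR

set_option autoImplicit false
open Cfsg

namespace Cfsg.Agent.S2702

open Matrix Cfsg.Agent.Helper8.AutSLn Cfsg.Agent.Helper8.GrAut

/-- Let T = PSL_n(F) over the field with q = p^f elements, n ≥ 3, G = Inndiag(T) the image of PGL_n(F), and γ an involutory graph automorphism of T. The G-class of γ is the union of exactly c T-classes, where: if n is even and q is odd, c = gcd(n/2, q − 1) when C_G(γ) is isomorphic to the projective conformal symplectic group PGSp_n(F) (symplectic type) and c = gcd(n, q − 1)/2 otherwise; and c = gcd(n, q − 1) when n is odd or q is even. -/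
theorem result {F : Type*} [Field F] [Fintype F] {p f : ℕ} [Fact p.Prime] (hF : Fintype.card F = p ^ f) (hf : 1 ≤ f) {n : ℕ} (hn : 3 ≤ n) (γ : MulAut (Matrix.ProjectiveSpecialLinearGroup (Fin n) F)) (hγ : Cfsg.IsGraphAutClassPSL γ) (hγ2 : orderOf γ = 2) :
    ((Even n ∧ Odd p ∧ Nonempty (↥(Cfsg.inndiagPSL n F ⊓ Subgroup.centralizer {γ}) ≃* Cfsg.PGSp (n / 2) F)) → Cfsg.splitClassCount (Cfsg.inndiagPSL n F) (Cfsg.Inn (Matrix.ProjectiveSpecialLinearGroup (Fin n) F)) γ = Nat.gcd (n / 2) (p ^ f - 1)) ∧ ((Even n ∧ Odd p ∧ ¬ Nonempty (↥(Cfsg.inndiagPSL n F ⊓ Subgroup.centralizer {γ}) ≃* Cfsg.PGSp (n / 2) F)) → Cfsg.splitClassCount (Cfsg.inndiagPSL n F) (Cfsg.Inn (Matrix.ProjectiveSpecialLinearGroup (Fin n) F)) γ = Nat.gcd n (p ^ f - 1) / 2) ∧ (¬ (Even n ∧ Odd p) → Cfsg.splitClassCount (Cfsg.inndiagPSL n F) (Cfsg.Inn (Matrix.ProjectiveSpecialLinearGroup (Fin n) F)) γ = Nat.gcd n (p ^ f - 1)) := by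
  classical
  have hn2 : 2 ≤ n := by omega
  have hchar : CharP F p := charP_of_card_eq_prime_pow hF
  obtain ⟨A, rfl⟩ := exists_eq_graphAut hγ
  have hA := (orderOf_graphAut_fin hn A).mp hγ2
  have h2iff : (2 : F) ≠ 0 ↔ p ≠ 2 := by
    constructor
    · intro h hp2
      apply h
      have : ((p : ℕ) : F) = 0 := CharP.cast_eq_zero F p
      rw [hp2] at this
      exact_mod_cast this
    · intro h h0
      apply h
      have h3 : (p : ℕ) ∣ 2 := by
        rw [← CharP.cast_eq_zero_iff F p]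
        exact_mod_cast h0
      exact (Nat.prime_dvd_prime_iff_eq (Fact.out : p.Prime) Nat.prime_two).mp h3
  have hoddp : Odd p → (2 : F) ≠ 0 := by
    intro hp
    rw [h2iff]
    rintro rfl
    exact absurd hp (by decide)
  have hoddF : Odd p → Odd (Fintype.card F) := by
    intro hp
    rw [hF]
    exact hp.pow
  refine ⟨?_, ?_, ?_⟩
  · rintro ⟨⟨m, hm⟩, hp, hne⟩
    have hnm : n = 2 * m := by omega
    have hm2 : 2 ≤ m := by omega
    have hdiv : n / 2 = m := by omega
    rw [hdiv] at hne ⊢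
    rcases hA with hA | hA
    · exact absurd hne (not_nonempty_equiv_PGSp_of_symm (hoddF hp) hm2 hnm A hA)
    · rw [splitClassCount_skew (hoddp hp) hn2 hnm A hA, hF]
  · rintro ⟨⟨m, hm⟩, hp, hne⟩
    have hnm : n = 2 * m := by omega
    have hdiv : n / 2 = m := by omega
    rw [hdiv] at hne
    rcases hA with hA | hA
    · rw [splitClassCount_symm (hoddp hp) hn2 hnm A hA, hF]
    · exact absurd (nonempty_equiv_PGSp_of_skew (hoddp hp) hn2 hnm A hA) hne
  · intro hne
    rw [← hF]
    by_cases hev : Even n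
    · have hp2 : p = 2 := by
        rcases (Fact.out : p.Prime).eq_two_or_odd' with h | h
        · exact h
        · exact absurd ⟨hev, h⟩ hne
      subst hp2
      exact splitClassCount_of_le hn2 A (map_det_simT_le_of_two hn2 A)
    · rw [Nat.not_even_iff_odd] at hev
      exact splitClassCount_of_le hn2 A (map_det_simT_le_of_odd hn2 hev A)

end Cfsg.Agent.S2702
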