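import Mathlib
import Cfsg.Statements.S2703
import Cfsg.Agent.Helper8.GrAutD
import Cfsg.Agent.S2620
import Cfsg.Agent.S2621
import Cfsg.Agent.Helper8.OmegaOdd

set_option autoImplicit false
open Cfsg

namespace Cfsg.Agent.S2703

open Matrix Cfsg.Agent.Helper8.AutSLn Cfsg.Agent.Helper8.GrAut Cfsg.Agent.Helper8.StdForms

/-- Let T = PSL_n(F) over the field with q elements, q odd, n = 2m ≥ 4 even, and ι the inverse-transpose automorphism. Its centralizer in G = Inndiag(T) (the image of PGL_n(F)) is isomorphic to the projective conformal orthogonal group of the plus-type form Σ xᵢ yᵢ in dimension n when n(q − 1)/4 is even, and to that of a minus-type form (Σ xᵢ yᵢ + z₁² + a z₁ z₂ + b z₂² with anisotropic binary part) when n(q − 1)/4 is odd. -/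
theorem result {F : Type*} [Field F] [Fintype F] (hodd : Odd (Fintype.card F)) {n m : ℕ} (hm : 2 ≤ m) (hnm : n = 2 * m) (ι : MulAut (Matrix.ProjectiveSpecialLinearGroup (Fin n) F)) (hι : Cfsg.IsInverseTransposeAutPSL ι) :
    (Even (n * (Fintype.card F - 1) / 4) → Nonempty (↥(Cfsg.inndiagPSL n F ⊓ Subgroup.centralizer {ι}) ≃* Cfsg.PGO F (Cfsg.quadFormPlus m F))) ∧ (¬ Even (n * (Fintype.card F - 1) / 4) → ∃ a b : F, (∀ z₁ z₂ : F, z₁ ^ 2 + a * z₁ * z₂ + b * z₂ ^ 2 = 0 → z₁ = 0 ∧ z₂ = 0) ∧ Nonempty (↥(Cfsg.inndiagPSL n F ⊓ Subgroup.centralizer {ι}) ≃* Cfsg.PGO F (Cfsg.quadFormMinus (m - 1) F a b))) := by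
  classical
  have h2 : (2 : F) ≠ 0 := by
    intro h
    have hc : ringChar F = 2 := by
      have : CharP F 2 := CharTwo.of_one_ne_zero_of_two_eq_zero one_ne_zero h
      exact ringChar.eq F 2
    obtain ⟨k, hk⟩ := FiniteField.card' F
    have hp : ringChar F ∣ Fintype.card F := by
      obtain ⟨k, hp, hk⟩ := FiniteField.card F (ringChar F)
      rw [hk]
      exact dvd_pow_self _ k.ne_zero
    rw [hc] at hp
    exact (Nat.not_even_iff_odd.mpr hodd) (even_iff_two_dvd.mpr hp)
  have hι' := eq_pslInvTr_of_isInverseTranspose hι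
  rw [hι']
  have hn2 : 2 ≤ n := by omega
  have hev : Even n := ⟨m, by omega⟩
  have hdiv : n * (Fintype.card F - 1) / 4 = m * (Fintype.card F - 1) / 2 := by
    rw [hnm, show 2 * m * (Fintype.card F - 1) = 2 * (m * (Fintype.card F - 1)) by ring,
      show 4 = 2 * 2 by norm_num, Nat.mul_div_mul_left _ _ (by norm_num : 0 < 2)]
  constructor
  · intro hE
    let e : Fin n ≃ Fin m ⊕ Fin m := (finCongr (by omega : n = m + m)).trans finSumFinEquiv.symm
    have hsq := (Cfsg.Agent.S2620.result (F := F) rfl hodd (by omega : 1 ≤ m)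
      (reBasis F e)).mpr (by rwa [← hdiv])
    have hfun : ⇑(plusForm F m) = quadFormPlus m F := funext (plusForm_apply F m)
    obtain ⟨L, hL⟩ := exists_isometry_dot h2 hev e (plusForm F m) (plusForm_nondeg F m)
      (by rw [hfun]; exact hsq)
    exact nonempty_centralizer_equiv_PGO h2 hn2 (quadFormPlus m F) L
      (fun v => by rw [← plusForm_apply, hL])
  · intro hE
    obtain ⟨ε, hε⟩ := Cfsg.Agent.Helper8.OmegaOdd.exists_nonsquare (F := F) h2
    have haniso : ∀ z₁ z₂ : F, z₁ ^ 2 + 0 * z₁ * z₂ + (-ε) * z₂ ^ 2 = 0 → z₁ = 0 ∧ z₂ = 0 := by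
      intro z₁ z₂ h
      have hz2 : z₂ = 0 := by
        by_contra hz
        apply hε
        refine ⟨z₁ / z₂, ?_⟩
        field_simp
        linear_combination -h
      subst hz2
      refine ⟨?_, rfl⟩
      have : z₁ ^ 2 = 0 := by linear_combination h
      exact pow_eq_zero_iff (two_ne_zero) |>.mp this
    refine ⟨0, -ε, haniso, ?_⟩
    let e : Fin n ≃ (Fin (m - 1) ⊕ Fin (m - 1)) ⊕ Fin 2 :=
      (finCongr (by omega : n = (m - 1 + (m - 1)) + 2)).trans
        (finSumFinEquiv.symm.trans (Equiv.sumCongr finSumFinEquiv.symm (Equiv.refl _)))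
    have hsq := (Cfsg.Agent.S2621.result (F := F) rfl hodd (by omega : 1 ≤ m) 0 (-ε) haniso
      (reBasis F e)).mpr (by rwa [← hdiv])
    have hfun : ⇑(minusForm F (m - 1) 0 (-ε)) = quadFormMinus (m - 1) F 0 (-ε) :=
      funext (minusForm_apply F (m - 1) 0 (-ε))
    obtain ⟨L, hL⟩ := exists_isometry_dot h2 hev e (minusForm F (m - 1) 0 (-ε))
      (minusForm_nondeg F (m - 1) haniso) (by rw [hfun]; exact hsq)
    exact nonempty_centralizer_equiv_PGO h2 hn2 (quadFormMinus (m - 1) F 0 (-ε)) L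
      (fun v => by rw [← minusForm_apply, hL])

end Cfsg.Agent.S2703
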