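import Mathlib
import Cfsg.Statements.S2708
import Cfsg.Agent.Helper8.UGrH
import Cfsg.Agent.Helper8.GrAutK
import Cfsg.Agent.S2701

set_option autoImplicit false
open Cfsg

namespace Cfsg.Agent.S2708

open Matrix Cfsg.Agent.Helper8.AutSU Cfsg.Agent.Helper8.AutSLn Cfsg.Agent.Helper8.GrAut Cfsg.Agent.Helper8.UGr

/-- Let T = PSU_n(q) with n = 2m ≥ 4 even and q even, realised over the field F (of characteristic 2) with q² elements, and G = Inndiag(T) the image of PGU_n(q). The involutory graph automorphisms of T fall into exactly two G-classes, with representatives whose centralizers in G are isomorphic respectively to the symplectic group Sp_n(F₀) and to the centralizer in Sp_n(F₀) of a symplectic transvection, F₀ a field with q elements. -/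
theorem result {F : Type*} [Field F] [Fintype F] [CharP F 2] {q : ℕ} (hF : Fintype.card F = q ^ 2) {n m : ℕ} (hm : 2 ≤ m) (hnm : n = 2 * m) (F₀ : Type*) [Field F₀] [Fintype F₀] (hF₀ : Fintype.card F₀ = q) :
    ∃ (γ₁ γ₃ : MulAut (Cfsg.PSU n F q)) (t : ↥(Matrix.symplecticGroup (Fin m) F₀)), Cfsg.IsTransvection (t : Matrix (Fin m ⊕ Fin m) (Fin m ⊕ Fin m) F₀) ∧ Cfsg.IsGraphAutClassPSU γ₁ ∧ orderOf γ₁ = 2 ∧ Cfsg.IsGraphAutClassPSU γ₃ ∧ orderOf γ₃ = 2 ∧ ¬ Cfsg.IsConjUnder (Cfsg.inndiagPSU n F q) γ₁ γ₃ ∧ (∀ γ : MulAut (Cfsg.PSU n F q), Cfsg.IsGraphAutClassPSU γ → orderOf γ = 2 → Cfsg.IsConjUnder (Cfsg.inndiagPSU n F q) γ₁ γ ∨ Cfsg.IsConjUnder (Cfsg.inndiagPSU n F q) γ₃ γ) ∧ Nonempty (↥(Cfsg.inndiagPSU n F q ⊓ Subgroup.centralizer {γ₁}) ≃* ↥(Matrix.symplecticGroup (Fin m) F₀)) ∧ Nonempty (↥(Cfsg.inndiagPSU n F q ⊓ Subgroup.centralizer {γ₃}) ≃* ↥(Subgroup.centralizer ({t}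 : Set ↥(Matrix.symplecticGroup (Fin m) F₀)))) := by
  classical
  have hc2 : CharP F 2 := inferInstance
  obtain ⟨p, f, hp, hq, hf⟩ := exists_char_data hF
  haveI : Fact p.Prime := ⟨hp⟩
  obtain ⟨k, rfl⟩ : ∃ k, n = k + 2 := ⟨n - 2, by omega⟩
  haveI : Fact (Fintype.card F = q ^ 2) := ⟨hF⟩
  have hcp : CharP F p := charP_of_card_eq_prime_pow (f := f * 2) (by rw [hF, hq, ← pow_mul])
  have hp2 : p = 2 := CharP.eq F hcp hc2
  subst hp2
  have hk : 1 ≤ k := by omega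
  have hn : 3 ≤ k + 2 := by omega
  obtain ⟨ι, D⟩ := exists_FD (F := F) 2 f hq F₀ hF₀
  haveI : CharP F₀ 2 := RingHom.charP ι ι.injective 2
  have S := SD.one (frobE F q)
  obtain ⟨γ₁, γ₃, t, ht, hg1, ho1, hg3, ho3, hn13, hall, e1, e3⟩ :=
    Cfsg.Agent.S2701.result (F := F₀) hm hnm
  obtain ⟨M₁, rfl⟩ := exists_eq_graphAut hg1
  obtain ⟨M₃, rfl⟩ := exists_eq_graphAut hg3
  have hM₁ := symm_of_or M₁ ((orderOf_graphAut_fin hn M₁).mp ho1)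
  have hM₃ := symm_of_or M₃ ((orderOf_graphAut_fin hn M₃).mp ho3)
  obtain ⟨A₁, B₁, X₁, hT₁⟩ := desc_surj (q := q) D S M₁ ((glT_map_eq_one_smul_iff ι M₁).mpr hM₁)
  obtain ⟨A₃, B₃, X₃, hT₃⟩ := desc_surj (q := q) D S M₃ ((glT_map_eq_one_smul_iff ι M₃).mpr hM₃)
  obtain ⟨c1⟩ := desc_centralizer 2 hk D X₁
  obtain ⟨c3⟩ := desc_centralizer 2 hk D X₃
  obtain ⟨e1⟩ := e1
  obtain ⟨e3⟩ := e3
  refine ⟨ugraphAut A₁, ugraphAut A₃, t, ht,
    isGraphAutClass_ugraphAut hn A₁,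
    (orderOf_ugraphAut_eq_two_iff 2 hk A₁).mpr (Or.inl ((glT_eq_one_smul_iff _).mp hT₁)),
    isGraphAutClass_ugraphAut hn A₃,
    (orderOf_ugraphAut_eq_two_iff 2 hk A₃).mpr (Or.inl ((glT_eq_one_smul_iff _).mp hT₃)),
    fun h => hn13 ((desc_conj_iff 2 hk D X₁ X₃).mp h), ?_, ⟨c1.trans e1⟩, ⟨c3.trans e3⟩⟩
  intro γ hγ hγ2
  obtain ⟨A, rfl⟩ := exists_eq_ugraphAut 2 f hq hk hγ hγ2
  have hA := symm_of_or _ ((orderOf_ugraphAut_eq_two_iff 2 hk A).mp hγ2)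
  have hT := (glT_eq_one_smul_iff _).mpr hA
  obtain ⟨B, M₀, X⟩ := desc_exists D S A hT
  have hM₀ := (glT_map_eq_one_smul_iff ι M₀).mp (X.glT_map S hT)
  rcases hall (graphAut M₀) (isGraphAutClass_graphAut hn M₀)
    ((orderOf_graphAut_fin hn M₀).mpr (Or.inl hM₀)) with h | h
  · exact Or.inl ((desc_conj_iff 2 hk D X₁ X).mpr h)
  · exact Or.inr ((desc_conj_iff 2 hk D X₃ X).mpr h)

end Cfsg.Agent.S2708
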