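import Mathlib
import Cfsg.Statements.S2709
import Cfsg.Agent.Helper8.UGrM
import Cfsg.Agent.Helper8.UGrI
import Cfsg.Agent.Helper8.GrAutR

set_option autoImplicit false
open Cfsg

namespace Cfsg.Agent.S2709

open Matrix Cfsg.Agent.Helper8.AutSU Cfsg.Agent.Helper8.AutSLn Cfsg.Agent.Helper8.GrAut Cfsg.Agent.Helper8.UGr

/-- Let T = PSU_n(q) be simple (n ≥ 3, (n,q) ≠ (3,2), q = p^f), realised over the field F with q² elements, G = Inndiag(T) the image of PGU_n(q), and γ an involutory graph automorphism of T. The G-class of γ is the union of exactly c T-classes, where: if n is even and q is odd, c = gcd(n/2, q + 1) when C_G(γ) is isomorphic to PGSp_n(F₀) for a field F₀ with q elements (symplectic type) and c = gcd(n, q + 1)/2 otherwise; and c = gcd(n, q + 1) when n is odd or q is even. -/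
theorem result {F : Type*} [Field F] [Fintype F] {p f q : ℕ} [Fact p.Prime] (hq : q = p ^ f) (hf : 1 ≤ f) (hF : Fintype.card F = q ^ 2) {n : ℕ} (hn : 3 ≤ n) (hs : ¬ (n = 3 ∧ q = 2)) (F₀ : Type*) [Field F₀] [Fintype F₀] (hF₀ : Fintype.card F₀ = q) (γ : MulAut (Cfsg.PSU n F q)) (hγ : Cfsg.IsGraphAutClassPSU γ) (hγ2 : orderOf γ = 2) :
    ((Even n ∧ Odd q ∧ Nonempty (↥(Cfsg.inndiagPSU n F q ⊓ Subgroup.centralizer {γ}) ≃* Cfsg.PGSp (n / 2) F₀)) → Cfsg.splitClassCount (Cfsg.inndiagPSU n F q) (Cfsg.Inn (Cfsg.PSU n F q)) γ = Nat.gcd (n / 2) (q + 1)) ∧ ((Even n ∧ Odd q ∧ ¬ Nonempty (↥(Cfsg.inndiagPSU n F q ⊓ Subgroup.centralizer {γ}) ≃* Cfsg.PGSp (n / 2) F₀)) → Cfsg.splitClassCount (Cfsg.inndiagPSU n F q) (Cfsg.Inn (Cfsg.PSU n F q)) γ = Nat.gcd n (q + 1) / 2) ∧ (¬ (Even n ∧ Odd q) → Cfsg.splitClassCount (Cfsg.inndiagPSU n F q) (Cfsg.Inn (Cfsg.PSU n F q)) γ = Nat.gcd n (q + 1)) := by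
  classical
  obtain ⟨k, rfl⟩ : ∃ k, n = k + 2 := ⟨n - 2, by omega⟩
  haveI : Fact (Fintype.card F = q ^ 2) := ⟨hF⟩
  haveI : CharP F p := charP_of_card_eq_prime_pow (f := f * 2) (by rw [hF, hq, ← pow_mul])
  have hk : 1 ≤ k := by omega
  have hn2 : 2 ≤ k + 2 := by omega
  obtain ⟨ι, D⟩ := exists_FD (F := F) p f hq F₀ hF₀
  obtain ⟨A, rfl⟩ := exists_eq_ugraphAut p f hq hk hγ hγ2
  obtain ⟨η, ω, SN⟩ := D.exists_SD_neg
  obtain ⟨M₀, R⟩ := exists_rel_right p hk D SN A hγ2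
  obtain ⟨e1⟩ := R.centralizer p hk D
  have hoddF : Odd q → Odd (Fintype.card F) := fun h => by rw [hF]; exact h.pow
  have hoddF₀ : Odd q → Odd (Fintype.card F₀) := fun h => by rw [hF₀]; exact h
  refine ⟨?_, ?_, ?_⟩
  · rintro ⟨⟨m, hm⟩, hqo, ⟨e⟩⟩
    have hnm : k + 2 = 2 * m := by omega
    have hm2 : 2 ≤ m := by omega
    have hdiv : (k + 2) / 2 = m := by omega
    rw [hdiv] at e ⊢
    have h2 := two_ne_zero_of_odd (hoddF hqo)
    have h20 := two_ne_zero_of_odd (hoddF₀ hqo)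
    rcases R with ⟨B, X, hT⟩ | ⟨B, X, hT⟩
    · have hM₀ := (glT_map_eq_one_smul_iff ι M₀).mp (X.glT_map (SD.one _) hT)
      exact absurd ⟨e1.symm.trans e⟩
        (not_nonempty_equiv_PGSp_of_symm (hoddF₀ hqo) hm2 hnm M₀ hM₀)
    · have hM₀ := (glT_map_eq_neg_one_smul_iff ι M₀).mp (X.glT_map SN hT)
      exact splitClassCount_uskew p hk D h2 h20 hnm X ((glT_eq_neg_one_smul_iff _).mp hT) hM₀
  · rintro ⟨⟨m, hm⟩, hqo, hne⟩
    have hnm : k + 2 = 2 * m := by omega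
    have hdiv : (k + 2) / 2 = m := by omega
    rw [hdiv] at hne
    have h2 := two_ne_zero_of_odd (hoddF hqo)
    have h20 := two_ne_zero_of_odd (hoddF₀ hqo)
    rcases R with ⟨B, X, hT⟩ | ⟨B, X, hT⟩
    · have hM₀ := (glT_map_eq_one_smul_iff ι M₀).mp (X.glT_map (SD.one _) hT)
      exact splitClassCount_usymm p hk D h2 h20 hqo hnm X hM₀
    · have hM₀ := (glT_map_eq_neg_one_smul_iff ι M₀).mp (X.glT_map SN hT)
      obtain ⟨e2⟩ := nonempty_equiv_PGSp_of_skew h20 hn2 hnm M₀ hM₀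
      exact absurd ⟨e1.trans e2⟩ hne
  · intro hne
    by_cases hev : Even (k + 2)
    · have hqe : Even q := by
        rw [← Nat.not_odd_iff_even]
        exact fun h => hne ⟨hev, h⟩
      exact splitClassCount_ugraphAut_of_le p hk A (map_det_usimU_le_of_even p hk hqe A)
    · rw [Nat.not_even_iff_odd] at hev
      exact splitClassCount_ugraphAut_of_le p hk A (map_det_usimU_le_of_odd p hk hev A)

end Cfsg.Agent.S2709
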