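import Mathlib
import Cfsg.Statements.S2710
import Cfsg.Agent.Helper8.UGrH
import Cfsg.Agent.Helper8.GrAutD
import Cfsg.Agent.S2703

set_option autoImplicit false
open Cfsg

namespace Cfsg.Agent.S2710

open Matrix Cfsg.Agent.Helper8.AutSU Cfsg.Agent.Helper8.AutSLn Cfsg.Agent.Helper8.GrAut Cfsg.Agent.Helper8.UGr

/-- Let T = PSU_n(q) with n ≥ 4 divisible by 4 (n = 2m) and q odd, realised over the field F with q² elements, G = Inndiag(T) the image of PGU_n(q), and φ the standard field automorphism of T attached to the q-th power map of F (it induces inverse-transpose on the unitary matrices and is a graph automorphism). Its centralizer in G is isomorphic to the projective conformal orthogonal group of the plus-type form Σ xᵢ yᵢ in dimension n over a field F₀ with q elements. (Dimensions n ≡ 2 (mod 4) are not covered.) -/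
theorem result {F : Type*} [Field F] [Fintype F] {q : ℕ} (hodd : Odd q) (hF : Fintype.card F = q ^ 2) {n m : ℕ} (hm : 2 ≤ m) (hnm : n = 2 * m) (h4 : 4 ∣ n) (F₀ : Type*) [Field F₀] [Fintype F₀] (hF₀ : Fintype.card F₀ = q) (σ : F ≃+* F) (hσ : ∀ a : F, σ a = a ^ q) (φ : MulAut (Cfsg.PSU n F q)) (hφ : Cfsg.IsFieldAutPSUOf σ φ) :
    Nonempty (↥(Cfsg.inndiagPSU n F q ⊓ Subgroup.centralizer {φ}) ≃* Cfsg.PGO F₀ (Cfsg.quadFormPlus m F₀)) := by
  classical
  obtain ⟨p, f, hp, hq, hf⟩ := exists_char_data hF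
  haveI : Fact p.Prime := ⟨hp⟩
  obtain ⟨k, rfl⟩ : ∃ k, n = k + 2 := ⟨n - 2, by omega⟩
  haveI : Fact (Fintype.card F = q ^ 2) := ⟨hF⟩
  haveI : CharP F p := charP_of_card_eq_prime_pow (f := f * 2) (by rw [hF, hq, ← pow_mul])
  have hk : 1 ≤ k := by omega
  obtain ⟨ι, D⟩ := exists_FD (F := F) p f hq F₀ hF₀
  rw [eq_phi0_of_isFieldAut hσ hφ, ← ugraphAut_one]
  obtain ⟨e1⟩ := desc_centralizer p hk D (DD_one (F := F) (q := q) (k := k) (ι := ι))
  have hodd' : Odd (Fintype.card F₀) := by rw [hF₀]; exact hodd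
  have h := (Cfsg.Agent.S2703.result hodd' hm hnm (graphAut (1 : GL (Fin (k + 2)) F₀))
    (by rw [graphAut_one]; exact isInverseTranspose_pslInvTr)).1
  have heven : Even ((k + 2) * (Fintype.card F₀ - 1) / 4) := by
    rw [hF₀]
    obtain ⟨j, hj⟩ := h4
    obtain ⟨i, hi⟩ := hodd
    have h1 : (k + 2) * (q - 1) = 4 * (2 * (j * i)) := by
      have : q - 1 = 2 * i := by omega
      rw [this, hj]
      ring
    rw [h1, Nat.mul_div_cancel_left _ (by norm_num)]
    exact even_two_mul _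
  obtain ⟨e2⟩ := h heven
  exact ⟨e1.trans e2⟩

end Cfsg.Agent.S2710
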