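import Mathlib
import Cfsg.Statements.S2714
import Cfsg.Agent.Helper8.AutOzk

set_option autoImplicit false
open Cfsg

namespace Cfsg.Agent.S2714

open Module Matrix Cfsg.Agent.Helper8.QuadForm Cfsg.Agent.Helper8.WittQuad
  Cfsg.Agent.Helper8.OrthOrder
  Cfsg.Agent.Helper8.Siegel Cfsg.Agent.Helper8.SiegelGeom Cfsg.Agent.Helper8.SiegelGroup
  Cfsg.Agent.Helper8.SiegelPrim Cfsg.Agent.Helper8.SiegelSimple Cfsg.Agent.Helper8.ReflMatrix
  Cfsg.Agent.Helper8.OmegaSimple Cfsg.Agent.Helper8.AutImagePsi Cfsg.Agent.Helper8.AutImageOrth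
  Cfsg.Agent.Helper8.StdForms Cfsg.Agent.Helper8.AutImage Cfsg.Agent.Helper8.AutO

/-- Let T = Ω_{2m+1}(F) (m ≥ 3, |F| = p^f odd; realised as PΩ of the form x₀² + Σ xᵢ yᵢ), G = Inndiag(T) the image of the conformal orthogonal group in Aut(T), and x a field automorphism of T of prime order r. Then r divides f; C_G(x) is isomorphic to Inndiag(Ω_{2m+1}(F₀)) for a field F₀ with p^(f/r) elements; and the G-class of x is a single T-class when r is odd and the union of exactly two T-classes when r = 2. -/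
theorem result {F : Type*} [Field F] [Fintype F] {p f : ℕ} [Fact p.Prime] (hF : Fintype.card F = p ^ f) (hf : 1 ≤ f) (hodd : Odd (Fintype.card F)) {m : ℕ} (hm : 3 ≤ m) (x : MulAut (Cfsg.POmega F (Cfsg.quadFormOdd m F))) (hx : Cfsg.IsFieldAutClassPOmega (Cfsg.quadFormOdd m F) x) {r : ℕ} (hr : r.Prime) (hxr : orderOf x = r) (F₀ : Type*) [Field F₀] [Fintype F₀] (hF₀ : Fintype.card F₀ = p ^ (f / r)) :
    r ∣ f ∧ Nonempty (↥(Cfsg.inndiagPOmegaOdd m F ⊓ Subgroup.centralizer {x}) ≃* ↥(Cfsg.inndiagPOmegaOdd m F₀)) ∧ (Odd r → Cfsg.splitClassCount (Cfsg.inndiagPOmegaOdd m F) (Cfsg.Inn (Cfsg.POmega F (Cfsg.quadFormOdd m F))) x = 1) ∧ (r = 2 → Cfsg.splitClassCount (Cfsg.inndiagPOmegaOdd m F) (Cfsg.Inn (Cfsg.POmega F (Cfsg.quadFormOdd m F))) x = 2) := by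
  have h2 : (2 : F) ≠ 0 := by
    intro h
    have hc2 : CharP F 2 := CharTwo.of_one_ne_zero_of_two_eq_zero one_ne_zero h
    have h3 : ringChar F = 2 := ringChar.eq F 2
    have h4 := FiniteField.even_card_iff_char_two.mp h3
    rw [Nat.odd_iff] at hodd
    omega
  have e : ⇑(oddForm F m) = Cfsg.quadFormOdd m F := funext (oddForm_apply F m)
  have e₀ : ⇑(oddForm F₀ m) = Cfsg.quadFormOdd m F₀ := funext (oddForm_apply F₀ m)
  have hcard : Fintype.card (Unit ⊕ (Fin m ⊕ Fin m)) = 2 * m + 1 := by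
    simp only [Fintype.card_sum, Fintype.card_unique, Fintype.card_fin]; ring
  -- an embedding exists, so the small field has odd characteristic too
  have hmain := Cfsg.Agent.Helper8.AutO.field_aut_main_pgo (oddForm F₀ m) (oddForm F m) hF h2
  by_cases h2₀ : (2 : F₀) = 0
  · -- impossible: the small field has the same characteristic
    exfalso
    have hc : CharP F p := charP_of_card_eq_prime_pow hF
    have hfr : f / r ≠ 0 := by
      intro h0
      rw [h0, pow_zero] at hF₀
      have := Fintype.one_lt_card (α := F₀)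
      omega
    have hc₀ : CharP F₀ p := charP_of_card_eq_prime_pow hF₀
    have h3 : ((2 : ℕ) : F₀) = 0 := by exact_mod_cast h2₀
    have h4 := (CharP.cast_eq_zero_iff F₀ p 2).mp h3
    have h5 : p = 2 := (Nat.prime_dvd_prime_iff_eq Fact.out Nat.prime_two).mp h4
    apply h2
    have h6 : ((p : ℕ) : F) = 0 := CharP.cast_eq_zero F p
    rw [h5] at h6
    exact_mod_cast h6
  have hmain' := hmain (oddForm_nondeg F₀ m h2₀) (oddForm_nondeg F m h2)
    (by rw [hcard]; omega) hcard
    (by
      by_cases h4 : 4 ≤ m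
      · left; rw [hcard]; omega
      · right
        apply noB2_of_finrank ((nondeg_iff _).mp (oddForm_nondeg F m h2))
        rw [finrank_odd]; omega)
    (by
      intro σ v
      rw [oddForm_apply, oddForm_apply]
      unfold Cfsg.quadFormOdd
      simp only [map_add, map_pow, map_sum, map_mul])
    (by
      intro j v
      rw [oddForm_apply, oddForm_apply]
      unfold Cfsg.quadFormOdd Cfsg.Agent.Helper8.AutO.hvec
      simp only [map_add, map_pow, map_sum, map_mul])
  rw [e, e₀] at hmain'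
  exact hmain' x hx hr hxr hF₀

end Cfsg.Agent.S2714
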