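import Mathlib
import Cfsg.Statements.S2718
import Cfsg.Agent.Helper8.GrInvE
import Cfsg.Agent.Helper8.AutOPa
import Cfsg.Agent.Helper8.AutOQn
import Cfsg.Agent.Helper8.OmegaStd
import Cfsg.Agent.S0790
import Cfsg.Agent.S2722

set_option autoImplicit false
open Cfsg

namespace Cfsg.Agent.S2718

open Module Cfsg.Agent.Helper8.StdForms Cfsg.Agent.Helper8.OmegaStd
  Cfsg.Agent.Helper8.AutImagePsi Cfsg.Agent.Helper8.AutImageOrth Cfsg.Agent.Helper8.AutO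
  Cfsg.Agent.Helper8.Cls

theorem main {F : Type*} [Field F] [Fintype F] (hodd : Odd (Fintype.card F)) {m : ℕ} (hm : 4 ≤ m)
    (Qf : (Fin m ⊕ Fin m → F) → F) (hQf : Qf = ⇑(plusForm F m))
    (hiff : (∃ g : ↥(Cfsg.isometryGroup F Qf), g ∈ Cfsg.Omega F Qf ∧
      ((g : GL (Fin m ⊕ Fin m) F) : Matrix (Fin m ⊕ Fin m) (Fin m ⊕ Fin m) F) = -1) ↔
        Fintype.card F ^ m % 4 = 1)
    (γ : MulAut (Cfsg.POmega F Qf))
    (hγ : ∃ g : GL (Fin m ⊕ Fin m) F, g ∈ Cfsg.Geo.quadSimilarityGroup (F := F) Qf ∧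
      ¬ Cfsg.PreservesSingularClasses Qf (g : Matrix (Fin m ⊕ Fin m) (Fin m ⊕ Fin m) F) ∧
      Cfsg.IsInducedBySemilinearPOmega Qf g (RingEquiv.refl F) γ)
    (hγ2 : orderOf γ = 2)
    (G : Subgroup (MulAut (Cfsg.POmega F Qf)))
    (hG : G = Cfsg.autSubgroupOf (fun β : Cfsg.POmega F Qf ≃* Cfsg.POmega F Qf =>
      ∃ g : GL (Fin m ⊕ Fin m) F, g ∈ Cfsg.Geo.quadSimilarityGroup (F := F) Qf ∧
      Cfsg.PreservesSingularClasses Qf (g : Matrix (Fin m ⊕ Fin m) (Fin m ⊕ Fin m) F) ∧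
      Cfsg.IsInducedBySemilinearPOmega Qf g (RingEquiv.refl F) β)) :
    (Cfsg.splitClassCount G (Cfsg.Inn (Cfsg.POmega F Qf)) γ = 1 ∨
      Cfsg.splitClassCount G (Cfsg.Inn (Cfsg.POmega F Qf)) γ = 2) ∧
    (¬ (Odd m ∧ Fintype.card F % 4 = 3) →
      Cfsg.splitClassCount G (Cfsg.Inn (Cfsg.POmega F Qf)) γ = 2) := by
  subst hQf
  have h2 : (2 : F) ≠ 0 := two_ne_zero_of_odd hodd
  have hne : ∃ v, plusForm F m v ≠ 0 := Cfsg.Agent.S2722.plus_ne (by omega)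
  have hpm := pow_mod_four (Fintype.card F) m hodd
  rw [inndiag_plus_eq_cpAut (by omega : 3 ≤ m) hne] at hG
  subst hG
  obtain ⟨g, hgs, hnp, hind⟩ := hγ
  rw [induced_iff ⇑(plusForm F m) hgs] at hind
  obtain ⟨gs, hgs'⟩ : ∃ gs : ↥(Cfsg.Geo.quadSimilarityGroup (F := F) ⇑(plusForm F m)),
      gs = ⟨g, hgs⟩ := ⟨_, rfl⟩
  rw [← hgs'] at hind
  have hdet : ((gs : GL (Fin m ⊕ Fin m) F) : Matrix (Fin m ⊕ Fin m) (Fin m ⊕ Fin m) F).det
      ≠ ((mult ⇑(plusForm F m) hne gs : Fˣ) : F) ^ m := by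
    intro hdet
    apply hnp
    have := (preservesPlus_iff_isCP (by omega : 3 ≤ m) gs.1 (mult ⇑(plusForm F m) hne gs)
      (fun u => mult_spec ⇑(plusForm F m) hne gs u)).mpr (Or.inl ⟨h2, hdet⟩)
    rw [hgs'] at this
    exact this
  have hgg : Phi ⇑(plusForm F m) (gs * gs) = 1 := by
    rw [map_mul, ← hind, ← pow_two, ← hγ2, pow_orderOf_eq_one]
  obtain ⟨e, he⟩ := Cfsg.Agent.Helper8.GrInv.exists_nonsq h2
  have he0 : e ≠ 0 := by
    rintro rfl
    exact he ⟨0, by ring⟩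
  have hd : ∃ d : ↥(Cfsg.Geo.quadSimilarityGroup (F := F) ⇑(plusForm F m)),
      ¬ IsSquare ((mult ⇑(plusForm F m) hne d : Fˣ) : F) := by
    obtain ⟨d, hd⟩ := exists_sim_mult_plus m hne (Units.mk0 e he0)
    exact ⟨d, by rw [hd]; exact he⟩
  obtain ⟨h12, hneg2⟩ := Cfsg.Agent.Helper8.GrInv.count_graph_involution (plusForm F m) h2
    (plusForm_nondeg F m) hne m (card_idx_plus m) (by rw [card_idx_plus]; omega) hd gs hgg hdet
  rw [← hind] at h12 hneg2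
  refine ⟨h12, ?_⟩
  intro hcase
  apply hneg2
  rw [hiff, hpm]
  by_contra hcon
  push Not at hcon
  exact hcase ⟨Nat.not_even_iff_odd.mp hcon.1, hcon.2⟩

/-- Let T = PΩ⁺_{2m}(F) with m ≥ 4 and |F| = q odd, G = Inndiag(T), and γ an involutory graph automorphism of T induced by a similarity (one interchanging the two classes of maximal totally singular subspaces). Then the G-class of γ is either a single T-class or the union of exactly two T-classes, and it is the union of two unless m is odd and q ≡ 3 (mod 4). -/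
theorem result {F : Type*} [Field F] [Fintype F] (hodd : Odd (Fintype.card F)) {m : ℕ} (hm : 4 ≤ m) (γ : MulAut (Cfsg.POmega F (Cfsg.quadFormPlus m F))) (hγ : Cfsg.IsSimilarityGraphAutPOmegaPlus m γ) (hγ2 : orderOf γ = 2) :
    (Cfsg.splitClassCount (Cfsg.inndiagPOmegaPlus m F) (Cfsg.Inn (Cfsg.POmega F (Cfsg.quadFormPlus m F))) γ = 1 ∨ Cfsg.splitClassCount (Cfsg.inndiagPOmegaPlus m F) (Cfsg.Inn (Cfsg.POmega F (Cfsg.quadFormPlus m F))) γ = 2) ∧ (¬ (Odd m ∧ Fintype.card F % 4 = 3) → Cfsg.splitClassCount (Cfsg.inndiagPOmegaPlus m F) (Cfsg.Inn (Cfsg.POmega F (Cfsg.quadFormPlus m F))) γ = 2) := by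
  have hiff := Cfsg.Agent.S0790.result (F := F) rfl hodd m (by omega)
  have hQeq : Cfsg.quadFormPlus m F = ⇑(plusForm F m) :=
    funext (fun v => (plusForm_apply F m v).symm)
  exact main hodd hm _ hQeq hiff γ hγ hγ2 _ rfl

end Cfsg.Agent.S2718
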