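import Mathlib
import Cfsg.Statements.S2719
import Cfsg.Agent.Helper8.GrInvH
import Cfsg.Agent.Helper8.GrInvI
import Cfsg.Agent.Helper8.AutOzzd
import Cfsg.Agent.Helper8.OmegaStd
import Cfsg.Agent.S0791
import Cfsg.Agent.S2726

set_option autoImplicit false
open Cfsg

namespace Cfsg.Agent.S2719

open Module Cfsg.Agent.Helper8.StdForms Cfsg.Agent.Helper8.OmegaStd
  Cfsg.Agent.Helper8.AutImagePsi Cfsg.Agent.Helper8.AutImageOrth Cfsg.Agent.Helper8.AutO
  Cfsg.Agent.Helper8.Cls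

set_option maxHeartbeats 1600000 in
theorem main {F : Type*} [Field F] [Fintype F] (hodd : Odd (Fintype.card F)) {m : ℕ} (hm : 3 ≤ m)
    (a b : F) (hab : ∀ z₁ z₂ : F, z₁ ^ 2 + a * z₁ * z₂ + b * z₂ ^ 2 = 0 → z₁ = 0 ∧ z₂ = 0)
    (Qf : ((Fin m ⊕ Fin m) ⊕ Fin 2 → F) → F) (hQf : Qf = ⇑(minusForm F m a b))
    (hiff : (∃ g : ↥(Cfsg.isometryGroup F Qf), g ∈ Cfsg.Omega F Qf ∧
      ((g : GL ((Fin m ⊕ Fin m) ⊕ Fin 2) F) :
        Matrix ((Fin m ⊕ Fin m) ⊕ Fin 2) ((Fin m ⊕ Fin m) ⊕ Fin 2) F) = -1) ↔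
        Fintype.card F ^ (m + 1) % 4 = 3)
    (γ : MulAut (Cfsg.POmega F Qf)) (hγ2 : orderOf γ = 2)
    (G : Subgroup (MulAut (Cfsg.POmega F Qf)))
    (hG : G = Cfsg.autSubgroupOf (fun β : Cfsg.POmega F Qf ≃* Cfsg.POmega F Qf =>
      ∃ g : GL ((Fin m ⊕ Fin m) ⊕ Fin 2) F, g ∈ Cfsg.Geo.quadSimilarityGroup (F := F) Qf ∧
      Cfsg.PreservesSingularClassesMinus m a b
        (g : Matrix ((Fin m ⊕ Fin m) ⊕ Fin 2) ((Fin m ⊕ Fin m) ⊕ Fin 2) F) ∧
      Cfsg.IsInducedBySemilinearPOmega Qf g (RingEquiv.refl F) β))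
    (hγn : γ ∉ G) :
    (Cfsg.splitClassCount G (Cfsg.Inn (Cfsg.POmega F Qf)) γ = 1 ∨
      Cfsg.splitClassCount G (Cfsg.Inn (Cfsg.POmega F Qf)) γ = 2) ∧
    (¬ (Even m ∧ Fintype.card F % 4 = 1) →
      Cfsg.splitClassCount G (Cfsg.Inn (Cfsg.POmega F Qf)) γ = 2) := by
  subst hQf
  have h2 : (2 : F) ≠ 0 := two_ne_zero_of_odd hodd
  have hne : ∃ v, minusForm F m a b v ≠ 0 := Cfsg.Agent.S2726.minus_ne (by omega) a b
  have hpm := pow_mod_four (Fintype.card F) (m + 1) hodd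
  rw [inndiag_minus_eq_cpAut m a b hab hne] at hG
  subst hG
  -- the characteristic
  obtain ⟨n, hp, hn⟩ := FiniteField.card F (ringChar F)
  have : Fact (ringChar F).Prime := ⟨hp⟩
  have hp2 : ringChar F ≠ 2 := by
    intro h
    rw [hn, h] at hodd
    exact (Nat.not_even_iff_odd.mpr hodd) (Nat.even_pow.mpr ⟨even_two, n.ne_zero⟩)
  have hγγ : γ * γ = 1 := by
    have := pow_orderOf_eq_one γ
    rw [hγ2, pow_two] at this
    exact this
  obtain ⟨gs, hgs⟩ := Cfsg.Agent.Helper8.GrInv.involution_mem_range_Phi (n.pos) hn hp2 hm a b hab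
    (minusForm F m a b) rfl γ hγγ
  have hdet : ((gs : GL ((Fin m ⊕ Fin m) ⊕ Fin 2) F) :
      Matrix ((Fin m ⊕ Fin m) ⊕ Fin 2) ((Fin m ⊕ Fin m) ⊕ Fin 2) F).det
      ≠ ((mult ⇑(minusForm F m a b) hne gs : Fˣ) : F) ^ (m + 1) := by
    intro hdet
    apply hγn
    rw [mem_cpAut_iff]
    exact ⟨gs, Or.inl ⟨h2, hdet⟩, hgs⟩
  have hgg : Phi ⇑(minusForm F m a b) (gs * gs) = 1 := by
    rw [map_mul, hgs]
    exact hγγ
  obtain ⟨e, he⟩ := Cfsg.Agent.Helper8.GrInv.exists_nonsq h2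
  have he0 : e ≠ 0 := by
    rintro rfl
    exact he ⟨0, by ring⟩
  have hd : ∃ d : ↥(Cfsg.Geo.quadSimilarityGroup (F := F) ⇑(minusForm F m a b)),
      ¬ IsSquare ((mult ⇑(minusForm F m a b) hne d : Fˣ) : F) := by
    obtain ⟨d, hd⟩ := Cfsg.Agent.S2726.minus_similarity m hab (Units.mk0 e he0)
    refine ⟨⟨d, ⟨Units.mk0 e he0, hd⟩⟩, ?_⟩
    rw [mult_eq_of _ hne _ hd]
    exact he
  have h5 : 5 ≤ Fintype.card ((Fin m ⊕ Fin m) ⊕ Fin 2) := by rw [card_idx_minus]; omega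
  obtain ⟨h12, hneg2⟩ := Cfsg.Agent.Helper8.GrInv.count_graph_involution (minusForm F m a b) h2
    (minusForm_nondeg F m hab) hne (m + 1) (card_idx_minus m) h5 hd gs hgg hdet
  rw [hgs] at h12 hneg2
  refine ⟨h12, ?_⟩
  intro hcase
  by_cases hneg : ∃ g : ↥(Cfsg.isometryGroup F ⇑(minusForm F m a b)),
      g ∈ Cfsg.Omega F ⇑(minusForm F m a b) ∧
      ((g : GL ((Fin m ⊕ Fin m) ⊕ Fin 2) F) :
        Matrix ((Fin m ⊕ Fin m) ⊕ Fin 2) ((Fin m ⊕ Fin m) ⊕ Fin 2) F) = -1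
  · exact hneg2 hneg
  · have hkeven : Even (m + 1) := by
      by_contra hcon
      have hmodd : Odd (m + 1) := Nat.not_even_iff_odd.mp hcon
      have hmeven : Even m := by
        obtain ⟨r, hr⟩ := hmodd
        exact ⟨r, by omega⟩
      have hq13 : Fintype.card F % 4 = 1 ∨ Fintype.card F % 4 = 3 := by
        obtain ⟨r, hr⟩ := hodd
        omega
      rcases hq13 with hq | hq
      · exact hcase ⟨hmeven, hq⟩
      · apply hneg
        rw [hiff]
        have h1 : ¬ (Fintype.card F ^ (m + 1) % 4 = 1) := by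
          rw [hpm]
          push Not
          exact ⟨hcon, hq⟩
        have hoddpow : Odd (Fintype.card F ^ (m + 1)) := hodd.pow
        obtain ⟨r, hr⟩ := hoddpow
        omega
    have := Cfsg.Agent.Helper8.GrInv.count_graph_involution_even (minusForm F m a b) h2
      (minusForm_nondeg F m hab) hne (m + 1) (card_idx_minus m) h5 hd hneg hkeven gs hgg hdet
    rw [hgs] at this
    exact this

/-- Let T = PΩ⁻_{2m+2}(F) with m ≥ 3 and |F| = q odd (form with anisotropic binary part z₁² + a z₁ z₂ + b z₂²), G = Inndiag(T), and γ an involutory graph automorphism of T (an automorphism in the image of the semisimilarity group, not inner-diagonal, of order 2). Then the G-class of γ is either a single T-class or the union of exactly two T-classes, and it is the union of two unless m is even and q ≡ 1 (mod 4). -/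
theorem result {F : Type*} [Field F] [Fintype F] (hodd : Odd (Fintype.card F)) {m : ℕ} (hm : 3 ≤ m) (a b : F) (hab : (∀ z₁ z₂ : F, z₁ ^ 2 + a * z₁ * z₂ + b * z₂ ^ 2 = 0 → z₁ = 0 ∧ z₂ = 0)) (γ : MulAut (Cfsg.POmega F (Cfsg.quadFormMinus m F a b))) (hγ : Cfsg.IsGraphAutClassPOmegaMinus m a b γ) (hγ2 : orderOf γ = 2) :
    (Cfsg.splitClassCount (Cfsg.inndiagPOmegaMinus m F a b) (Cfsg.Inn (Cfsg.POmega F (Cfsg.quadFormMinus m F a b))) γ = 1 ∨ Cfsg.splitClassCount (Cfsg.inndiagPOmegaMinus m F a b) (Cfsg.Inn (Cfsg.POmega F (Cfsg.quadFormMinus m F a b))) γ = 2) ∧ (¬ (Even m ∧ Fintype.card F % 4 = 1) → Cfsg.splitClassCount (Cfsg.inndiagPOmegaMinus m F a b) (Cfsg.Inn (Cfsg.POmega F (Cfsg.quadFormMinus m F a b))) γ = 2) := by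
  have hiff := Cfsg.Agent.S0791.result (F := F) rfl hodd (m + 1) (by omega) a b hab
  rw [Nat.add_sub_cancel] at hiff
  have hQeq : Cfsg.quadFormMinus m F a b = ⇑(minusForm F m a b) :=
    funext (fun v => (minusForm_apply F m a b v).symm)
  exact main hodd hm a b hab _ hQeq hiff γ hγ2 _ rfl hγ.2.1

end Cfsg.Agent.S2719
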