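import Mathlib
import Cfsg.Statements.S2720
import Cfsg.Agent.Helper8.SsClsV
import Cfsg.Agent.Helper8.AutOPa
import Cfsg.Agent.Helper8.OmegaStd
import Cfsg.Agent.S2722

set_option autoImplicit false
open Cfsg

namespace Cfsg.Agent.S2720

open Module Cfsg.Agent.Helper8.StdForms Cfsg.Agent.Helper8.OmegaStd
  Cfsg.Agent.Helper8.AutImagePsi Cfsg.Agent.Helper8.AutImageOrth Cfsg.Agent.Helper8.AutO
  Cfsg.Agent.Helper8.Cls

theorem two_ne_zero_of_charP {F : Type*} [Field F] {p : ℕ} [Fact p.Prime] [CharP F p] (hp : p ≠ 2) :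
    (2 : F) ≠ 0 := by
  intro h
  have h' : ((2 : ℕ) : F) = 0 := by exact_mod_cast h
  have hd := (CharP.cast_eq_zero_iff F p 2).mp h'
  exact hp ((Nat.prime_dvd_prime_iff_eq (Fact.out : p.Prime) Nat.prime_two).mp hd)

theorem cast_ne_zero_of_charP {F : Type*} [Field F] {p : ℕ} [Fact p.Prime] [CharP F p] {r : ℕ}
    (hr : r.Prime) (hrp : r ≠ p) : (r : F) ≠ 0 := by
  intro h
  have hd := (CharP.cast_eq_zero_iff F p r).mp h
  exact hrp ((Nat.prime_dvd_prime_iff_eq (Fact.out : p.Prime) hr).mp hd).symm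

theorem main {F : Type*} [Field F] [Fintype F] {p : ℕ} [Fact p.Prime] [CharP F p] (hp : p ≠ 2)
    {m : ℕ} (hm : 4 ≤ m)
    (Qf : (Fin m ⊕ Fin m → F) → F) (hQf : Qf = ⇑(plusForm F m))
    (x : MulAut (Cfsg.POmega F Qf)) (hx : x ∈ Cfsg.pgoAut F Qf) {r : ℕ} (hr : r.Prime)
    (hro : Odd r) (hrp : r ≠ p) (hxr : orderOf x = r)
    (G : Subgroup (MulAut (Cfsg.POmega F Qf)))
    (hG : G = Cfsg.autSubgroupOf (fun β : Cfsg.POmega F Qf ≃* Cfsg.POmega F Qf =>
      ∃ g : GL (Fin m ⊕ Fin m) F, g ∈ Cfsg.Geo.quadSimilarityGroup (F := F) Qf ∧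
      Cfsg.PreservesSingularClasses Qf (g : Matrix (Fin m ⊕ Fin m) (Fin m ⊕ Fin m) F) ∧
      Cfsg.IsInducedBySemilinearPOmega Qf g (RingEquiv.refl F) β)) :
    (∀ y : MulAut (Cfsg.POmega F Qf),
      (Cfsg.IsConjUnder (Cfsg.Inn (Cfsg.POmega F Qf)) x y ↔ Cfsg.IsConjUnder G x y) ∧
      (Cfsg.IsConjUnder (Cfsg.psoAut F Qf) x y ↔ Cfsg.IsConjUnder G x y)) ∧
    (∀ y : MulAut (Cfsg.POmega F Qf),
      Cfsg.IsConjUnder (Cfsg.poAut F Qf) x y ↔ Cfsg.IsConjUnder (Cfsg.pgoAut F Qf) x y) := by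
  subst hQf
  have h2 : (2 : F) ≠ 0 := two_ne_zero_of_charP hp
  have hne : ∃ v, plusForm F m v ≠ 0 := Cfsg.Agent.S2722.plus_ne (by omega)
  rw [inndiag_plus_eq_cpAut (by omega : 3 ≤ m) hne] at hG
  subst hG
  have hrF : (r : F) ≠ 0 := cast_ne_zero_of_charP hr hrp
  have hxr' : x ^ r = 1 := by rw [← hxr]; exact pow_orderOf_eq_one x
  exact Cfsg.Agent.Helper8.SsCls.classes_eq (plusForm F m) h2 (plusForm_nondeg F m) hne m
    (card_idx_plus m) (by rw [card_idx_plus]; omega) x hx hro hrF hxr'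

/-- Let T = PΩ⁺_{2m}(F) (m ≥ 4, F finite of odd characteristic p), G = Inndiag(T), and let x be an automorphism of T induced by a similarity of the form (an element of the image G̃ of the conformal orthogonal group) of odd prime order r ≠ p. Then the T-class, the PSO-class and the G-class of x coincide (conjugacy under inner automorphisms, under the image of the special orthogonal group, and under G), and the PO-class of x coincides with its G̃-class. (In characteristic 2 the first equality fails: there the special orthogonal group is the full orthogonal group and some such classes split.) -/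
theorem result {F : Type*} [Field F] [Fintype F] {p : ℕ} [Fact p.Prime] [CharP F p] (hp : p ≠ 2) {m : ℕ} (hm : 4 ≤ m) (x : MulAut (Cfsg.POmega F (Cfsg.quadFormPlus m F))) (hx : x ∈ Cfsg.pgoAut F (Cfsg.quadFormPlus m F)) {r : ℕ} (hr : r.Prime) (hro : Odd r) (hrp : r ≠ p) (hxr : orderOf x = r) :
    (∀ y : MulAut (Cfsg.POmega F (Cfsg.quadFormPlus m F)), (Cfsg.IsConjUnder (Cfsg.Inn (Cfsg.POmega F (Cfsg.quadFormPlus m F))) x y ↔ Cfsg.IsConjUnder (Cfsg.inndiagPOmegaPlus m F) x y) ∧ (Cfsg.IsConjUnder (Cfsg.psoAut F (Cfsg.quadFormPlus m F)) x y ↔ Cfsg.IsConjUnder (Cfsg.inndiagPOmegaPlus m F) x y)) ∧ (∀ y : MulAut (Cfsg.POmega F (Cfsg.quadFormPlus m F)), Cfsg.IsConjUnder (Cfsg.poAut F (Cfsg.quadFormPlus m F)) x y ↔ Cfsg.IsConjUnder (Cfsg.pgoAut F (Cfsg.quadFormPlus m F)) x y) := by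
  have hQeq : Cfsg.quadFormPlus m F = ⇑(plusForm F m) :=
    funext (fun v => (plusForm_apply F m v).symm)
  exact main hp hm _ hQeq x hx hr hro hrp hxr _ rfl

end Cfsg.Agent.S2720
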