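import Mathlib
import Cfsg.Statements.S2723
import Cfsg.Agent.Helper8.AutImageIdx
import Cfsg.Agent.Helper8.StdForms
import Cfsg.Agent.Helper8.OmegaStd
import Cfsg.Agent.S0790

set_option autoImplicit false
open Cfsg

namespace Cfsg.Agent.S2723

open Module Cfsg.Agent.Helper8.StdForms Cfsg.Agent.Helper8.OmegaStd
  Cfsg.Agent.Helper8.AutImageIdx

/-- Let T = PΩ⁺_{2m}(F) with m ≥ 4 and |F| = q odd. The image of the special orthogonal group in Aut(T) contains the inner automorphism group T with index 1 (they coincide) when m is odd and q ≡ 3 (mod 4), and with index 2 otherwise (the index is 2 exactly when the discriminant of the form is a square). -/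
theorem result {F : Type*} [Field F] [Fintype F] (hodd : Odd (Fintype.card F)) {m : ℕ} (hm : 4 ≤ m) :
    ((Odd m ∧ Fintype.card F % 4 = 3) → (Cfsg.Inn (Cfsg.POmega F (Cfsg.quadFormPlus m F))).relIndex (Cfsg.psoAut F (Cfsg.quadFormPlus m F)) = 1) ∧ (¬ (Odd m ∧ Fintype.card F % 4 = 3) → (Cfsg.Inn (Cfsg.POmega F (Cfsg.quadFormPlus m F))).relIndex (Cfsg.psoAut F (Cfsg.quadFormPlus m F)) = 2) := by
  classical
  have hiff := Cfsg.Agent.S0790.result (F := F) rfl hodd m (by omega)
  have hQeq : Cfsg.quadFormPlus m F = ⇑(plusForm F m) :=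
    funext (fun v => (plusForm_apply F m v).symm)
  rw [hQeq] at hiff ⊢
  have h2 : (2 : F) ≠ 0 := two_ne_zero_of_odd hodd
  have hcard : Fintype.card (Fin m ⊕ Fin m) = 2 * m := by
    rw [Fintype.card_sum, Fintype.card_fin]; ring
  obtain ⟨hA, hB⟩ := relIndex_Inn_psoAut (plusForm F m) h2 (plusForm_nondeg F m)
    (by rw [hcard]; omega) (by rw [hcard]; exact even_two_mul m)
  have hpm := pow_mod_four (Fintype.card F) m hodd
  constructor
  · rintro ⟨hmo, hq3⟩
    apply hB
    rw [hiff, hpm]
    rintro (h | h)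
    · exact (Nat.not_even_iff_odd.mpr hmo) h
    · exact h hq3
  · intro hno
    apply hA
    rw [hiff, hpm]
    by_contra hcon
    push Not at hcon
    exact hno ⟨Nat.not_even_iff_odd.mp hcon.1, hcon.2⟩

end Cfsg.Agent.S2723
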