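import Mathlib
import Cfsg.Statements.S2725
import Cfsg.Agent.Helper8.InnDiagPlusG
import Cfsg.Agent.Helper8.OmegaStd
import Cfsg.Agent.S0790
import Cfsg.Agent.S2722

set_option autoImplicit false
open Cfsg

namespace Cfsg.Agent.S2725

open Module Cfsg.Agent.Helper8.StdForms Cfsg.Agent.Helper8.OmegaStd Cfsg.Agent.Helper8.InnDiagPlus

/-- the inner-diagonal group for a general form -/
def innd {F : Type*} [Field F] {m : ℕ} (Q' : (Fin m ⊕ Fin m → F) → F) :
    Subgroup (MulAut (Cfsg.POmega F Q')) :=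
  Cfsg.autSubgroupOf fun β => ∃ g : GL (Fin m ⊕ Fin m) F,
    g ∈ Cfsg.Geo.quadSimilarityGroup (F := F) Q' ∧
    Cfsg.PreservesSingularClasses Q' (g : Matrix (Fin m ⊕ Fin m) (Fin m ⊕ Fin m) F) ∧
    Cfsg.IsInducedBySemilinearPOmega Q' g (RingEquiv.refl F) β

/-- the quotient of the inner-diagonal group by the inner automorphisms is `C` -/
def QuotIs {F : Type*} [Field F] {m : ℕ} (Q' : (Fin m ⊕ Fin m → F) → F) (C : Type) [Group C] :
    Prop :=
  ∃ φ : ↥(innd Q') →* C, Function.Surjective φ ∧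
    φ.ker = (Cfsg.Inn (Cfsg.POmega F Q')).subgroupOf (innd Q')

theorem main {F : Type*} [Field F] [Fintype F] (hodd : Odd (Fintype.card F)) {m : ℕ} (hm : 4 ≤ m)
    (Q' : (Fin m ⊕ Fin m → F) → F) (hQ' : Q' = ⇑(plusForm F m))
    (hiff : (∃ g : ↥(Cfsg.isometryGroup F Q'), g ∈ Cfsg.Omega F Q' ∧
      ((g : GL (Fin m ⊕ Fin m) F) : Matrix (Fin m ⊕ Fin m) (Fin m ⊕ Fin m) F) = -1) ↔
        Fintype.card F ^ m % 4 = 1) :
    ((Odd m ∧ Fintype.card F % 4 = 3) → QuotIs Q' (Multiplicative (ZMod 2))) ∧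
    ((Odd m ∧ Fintype.card F % 4 = 1) → QuotIs Q' (Multiplicative (ZMod 4))) ∧
    (Even m → QuotIs Q' (Multiplicative (ZMod 2 × ZMod 2))) := by
  subst hQ'
  have h2 : (2 : F) ≠ 0 := two_ne_zero_of_odd hodd
  have hne : ∃ v, plusForm F m v ≠ 0 := Cfsg.Agent.S2722.plus_ne (by omega)
  have hpm := pow_mod_four (Fintype.card F) m hodd
  refine ⟨?_, ?_, ?_⟩
  · rintro ⟨hmo, hq3⟩
    apply hom_caseA h2 hne hm
    rw [hiff, hpm]
    rintro (h | h)
    · exact (Nat.not_even_iff_odd.mpr hmo) h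
    · exact h hq3
  · rintro ⟨hmo, hq1⟩
    apply hom_caseB h2 hne hm _ hmo
    rw [hiff, hpm]
    right
    omega
  · intro hme
    apply hom_caseC h2 hne hm _ hme
    rw [hiff, hpm]
    left
    exact hme

/-- Let T = PΩ⁺_{2m}(F) with m ≥ 4 and |F| = q odd. The inner-diagonal group G = Inndiag(T) (image of the class-preserving similarities) taken modulo the inner automorphism group T is cyclic of order 2 when m is odd and q ≡ 3 (mod 4), cyclic of order 4 when m is odd and q ≡ 1 (mod 4), and elementary abelian of order 4 when m is even. -/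
theorem result {F : Type*} [Field F] [Fintype F] (hodd : Odd (Fintype.card F)) {m : ℕ} (hm : 4 ≤ m) :
    ((Odd m ∧ Fintype.card F % 4 = 3) → (∃ φ : ↥(Cfsg.inndiagPOmegaPlus m F) →* Multiplicative (ZMod 2), Function.Surjective φ ∧ φ.ker = (Cfsg.Inn (Cfsg.POmega F (Cfsg.quadFormPlus m F))).subgroupOf (Cfsg.inndiagPOmegaPlus m F))) ∧ ((Odd m ∧ Fintype.card F % 4 = 1) → (∃ φ : ↥(Cfsg.inndiagPOmegaPlus m F) →* Multiplicative (ZMod 4), Function.Surjective φ ∧ φ.ker = (Cfsg.Inn (Cfsg.POmega F (Cfsg.quadFormPlus m F))).subgroupOf (Cfsg.inndiagPOmegaPlus m F))) ∧ (Even m → (∃ φ : ↥(Cfsg.inndiagPOmegaPlus m F) →* Multiplicative (ZMod 2 × ZMod 2), Function.Surjective φ ∧ φ.ker = (Cfsg.Inn (Cfsg.POmega F (Cfsg.quadFormPlus m F))).subgroupOf (Cfsg.inndiagPOmegaPlus m F))) := by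
  have hiff := Cfsg.Agent.S0790.result (F := F) rfl hodd m (by omega)
  have hQeq : Cfsg.quadFormPlus m F = ⇑(plusForm F m) :=
    funext (fun v => (plusForm_apply F m v).symm)
  exact main hodd hm _ hQeq hiff

end Cfsg.Agent.S2725
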