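import Cfsg.Statements.S2738
import Cfsg.Agent.Helper7.LinearCard
import Cfsg.Agent.Helper7.Transvections

set_option autoImplicit false
open Cfsg

namespace Cfsg.Agent.S2738
open scoped commutatorElement

/-- conjugation by a central element times `k` is conjugation by `k` -/
theorem conj_central_mul {G : Type*} [Group G] (z : G) (hz : z ∈ Subgroup.center G) (k x : G) :
    (z * k) * x * (z * k)⁻¹ = k * x * k⁻¹ := by
  have hz' : ∀ g : G, g * z = z * g := Subgroup.mem_center_iff.mp hz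
  calc (z * k) * x * (z * k)⁻¹ = z * (k * x * k⁻¹) * z⁻¹ := by group
    _ = (k * x * k⁻¹) * z * z⁻¹ := by rw [hz']
    _ = k * x * k⁻¹ := by group

/-- a perfect group does not split over a nontrivial central subgroup -/
theorem no_complement {G : Type*} [Group G] (hperf : commutator G = ⊤)
    (hZ : Subgroup.center G ≠ ⊥) :
    ¬ ∃ K : Subgroup G, Subgroup.IsComplement' (Subgroup.center G) K := by
  rintro ⟨K, hK⟩
  have hsurj : ∀ g : G, ∃ z ∈ Subgroup.center G, ∃ k ∈ K, g = z * k := by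
    intro g
    obtain ⟨⟨z, k⟩, hzk⟩ := hK.2 g
    exact ⟨z.1, z.2, k.1, k.2, hzk.symm⟩
  have hcomm : commutator G ≤ K := by
    rw [commutator_eq_closure, Subgroup.closure_le]
    rintro _ ⟨g, h, rfl⟩
    obtain ⟨z₁, hz₁, k₁, hk₁, rfl⟩ := hsurj g
    obtain ⟨z₂, hz₂, k₂, hk₂, rfl⟩ := hsurj h
    have h1 : ⁅z₁ * k₁, z₂ * k₂⁆ = k₁ * (k₂ * k₁⁻¹ * k₂⁻¹) := by
      rw [commutatorElement_def, conj_central_mul z₁ hz₁ k₁ (z₂ * k₂)]
      have h2 : k₁ * (z₂ * k₂) * k₁⁻¹ * (z₂ * k₂)⁻¹ = k₁ * ((z₂ * k₂) * k₁⁻¹ * (z₂ * k₂)⁻¹) := by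
        group
      rw [h2, conj_central_mul z₂ hz₂ k₂ k₁⁻¹]
    rw [SetLike.mem_coe, h1]
    exact K.mul_mem hk₁ (K.mul_mem (K.mul_mem hk₂ (K.inv_mem hk₁)) (K.inv_mem hk₂))
  rw [hperf, top_le_iff] at hcomm
  have hdisj := hK.disjoint
  rw [hcomm, disjoint_top] at hdisj
  exact hZ hdisj

/-- The special linear group SL(3, 4) has centre of order 3 and does not split over it: no subgroup is a complement to the centre (so SL(3, 4) is a non-split central extension of PSL(3, 4) by a group of order 3). -/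
theorem result (F : Type*) [Field F] [Fintype F] (hF : Fintype.card F = 4) : Nat.card ↥(Subgroup.center (Matrix.SpecialLinearGroup (Fin 3) F)) = 3 ∧ ¬ ∃ K : Subgroup (Matrix.SpecialLinearGroup (Fin 3) F), Subgroup.IsComplement' (Subgroup.center (Matrix.SpecialLinearGroup (Fin 3) F)) K := by
  have hc : Nat.card ↥(Subgroup.center (Matrix.SpecialLinearGroup (Fin 3) F)) = 3 := by
    rw [Cfsg.Agent.Helper7.card_center_SL 3 (by norm_num), hF]
    rfl
  refine ⟨hc, ?_⟩
  apply no_complement (Cfsg.Agent.Helper7.Transv.commutator_SL_eq_top (le_refl 3))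
  intro hbot
  rw [hbot, Subgroup.card_bot] at hc
  omega

end Cfsg.Agent.S2738
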