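import Mathlib
import Cfsg.Agent.Helper2.DihSub
import Cfsg.Agent.Helper2.DihedralIso
import Cfsg.Agent.Helper5.Misc
import Cfsg.Statements.S2758
-- import your own Cfsg.Agent.* helpers here

set_option autoImplicit false
open Cfsg Cfsg.Agent.Helper5

namespace Cfsg.Agent.S2758

/-- (3) ⇒ (1) -/
theorem involves_of_inverts {G : Type*} [Group G] [Finite G] {p : ℕ} [Fact p.Prime] (hp : p ≠ 2)
    (x y : G) (k j : ℕ) (hx : orderOf x = 2 ^ k) (hy : orderOf y = p ^ j) (hy1 : y ≠ 1)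
    (hinv : x * y * x⁻¹ = y⁻¹) : Cfsg.Involves (DihedralGroup p) G := by
  classical
  have hpp : p.Prime := Fact.out
  have hj : 1 ≤ j := by
    rcases Nat.eq_zero_or_pos j with h | h
    · rw [h, pow_zero, orderOf_eq_one_iff] at hy; exact absurd hy hy1
    · exact h
  set y' := y ^ (p ^ (j - 1)) with hy'
  have hoy' : orderOf y' = p := by
    rw [hy', orderOf_pow_of_dvd (pow_ne_zero _ hpp.ne_zero) (by rw [hy]; exact pow_dvd_pow p (by omega)),
      hy, Nat.pow_div (by omega) hpp.pos]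
    have : j - (j - 1) = 1 := by omega
    rw [this, pow_one]
  have hinv' : x * y' * x⁻¹ = y'⁻¹ := by
    rw [hy', ← conj_pow, hinv, inv_pow]
  have hy'1 : y' ≠ 1 := by
    intro h
    rw [h, orderOf_one] at hoy'
    exact hpp.ne_one hoy'.symm
  have hy'p : y' ^ p = 1 := by rw [← hoy']; exact pow_orderOf_eq_one y'
  have hne : y'⁻¹ ≠ y' := by
    intro h
    have h2 : y' ^ 2 = 1 := by
      rw [pow_two]
      nth_rewrite 1 [← h]
      exact inv_mul_cancel y'
    have := orderOf_dvd_of_pow_eq_one h2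
    rw [hoy'] at this
    exact hp ((Nat.prime_dvd_prime_iff_eq hpp Nat.prime_two).mp this)
  have hnc : x * y' ≠ y' * x := by
    intro h
    apply hne
    rw [← hinv', h]; group
  have hcomm : x ^ 2 * y' = y' * x ^ 2 := by
    have h1 : x * y' = y'⁻¹ * x := by rw [← hinv']; group
    have h2 : x * y'⁻¹ = y' * x := by
      have h3 : x * y'⁻¹ * x⁻¹ = y' := by
        calc x * y'⁻¹ * x⁻¹ = (x * y' * x⁻¹)⁻¹ := by group
          _ = (y'⁻¹)⁻¹ := by rw [hinv']
          _ = y' := inv_inv _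
      calc x * y'⁻¹ = (x * y'⁻¹ * x⁻¹) * x := by group
        _ = y' * x := by rw [h3]
    calc x ^ 2 * y' = x * (x * y') := by rw [pow_two]; group
      _ = x * (y'⁻¹ * x) := by rw [h1]
      _ = (x * y'⁻¹) * x := by group
      _ = y' * x * x := by rw [h2]
      _ = y' * x ^ 2 := by rw [pow_two]; group
  -- elements of R commute with y'
  set R : Subgroup G := Subgroup.zpowers (x ^ 2) with hR
  have hRy : ∀ r ∈ R, r * y' = y' * r := by
    intro r hr
    obtain ⟨i, rfl⟩ := Subgroup.mem_zpowers_iff.mp hr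
    have : Commute (x ^ 2) y' := hcomm
    exact this.zpow_left i
  have hRx : ∀ r ∈ R, r * x = x * r := by
    intro r hr
    obtain ⟨i, rfl⟩ := Subgroup.mem_zpowers_iff.mp hr
    have : Commute (x ^ 2) x := (Commute.refl x).pow_left 2
    exact this.zpow_left i
  set H : Subgroup G := Subgroup.closure {x, y'} with hH
  have hxH : x ∈ H := Subgroup.subset_closure (by simp)
  have hyH : y' ∈ H := Subgroup.subset_closure (by simp)
  have hHc : H ≤ Subgroup.centralizer (R : Set G) := by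
    rw [hH, Subgroup.closure_le]
    intro g hg
    rcases hg with rfl | hg
    · rw [SetLike.mem_coe, Subgroup.mem_centralizer_iff]
      intro r hr; exact hRx r hr
    · rw [Set.mem_singleton_iff] at hg
      subst hg
      rw [SetLike.mem_coe, Subgroup.mem_centralizer_iff]
      intro r hr; exact hRy r hr
  have hn : (R.subgroupOf H).Normal := by
    constructor
    intro r hr h
    rw [Subgroup.mem_subgroupOf] at hr ⊢
    have := (Subgroup.mem_centralizer_iff.mp (hHc h.2)) _ hr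
    have h2 : ((h * r * h⁻¹ : H) : G) = (r : G) := by
      show (h : G) * (r : G) * (h : G)⁻¹ = r
      rw [← this]; group
    rw [h2]; exact hr
  set mk := QuotientGroup.mk' (R.subgroupOf H) with hmk
  have hmk1 : ∀ h : H, mk h = 1 ↔ (h : G) ∈ R := by
    intro h
    rw [hmk, QuotientGroup.mk'_apply, QuotientGroup.eq_one_iff, Subgroup.mem_subgroupOf]
  set xH : H := ⟨x, hxH⟩ with hxH'
  set yH : H := ⟨y', hyH⟩ with hyH'
  set s := mk xH with hs
  set t := mk (xH * yH) with ht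
  have hss : s * s = 1 := by
    rw [hs, ← map_mul, hmk1]
    show x * x ∈ R
    rw [← pow_two]; exact Subgroup.mem_zpowers _
  have htt : t * t = 1 := by
    rw [ht, ← map_mul, hmk1]
    show (x * y') * (x * y') ∈ R
    have : (x * y') * (x * y') = x ^ 2 := by
      calc (x * y') * (x * y') = (x * y' * x⁻¹) * (x ^ 2 * y') := by rw [pow_two]; group
        _ = y'⁻¹ * (y' * x ^ 2) := by rw [hinv', hcomm]
        _ = x ^ 2 := by group
    rw [this]; exact Subgroup.mem_zpowers _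
  have hs1 : s ≠ 1 := by
    intro h
    rw [hs, hmk1] at h
    exact hnc (hRy x h)
  have ht1 : t ≠ 1 := by
    intro h
    rw [ht, hmk1] at h
    have h2 := hRy _ h
    apply hnc
    have h3 : (x * y') * y' = (y' * x) * y' := by
      have : ((xH * yH : H) : G) = x * y' := rfl
      rw [this] at h2
      rw [h2]; group
    exact mul_right_cancel h3
  have hst : s * t = mk yH := by
    rw [hs, ht, map_mul, ← mul_assoc, ← hs, hss, one_mul]
  have hord : orderOf (s * t) = p := by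
    rw [hst]
    apply orderOf_eq_prime
    · rw [← map_pow]
      have : yH ^ p = 1 := by
        apply Subtype.ext
        show y' ^ p = 1
        exact hy'p
      rw [this, map_one]
    · intro h
      rw [hmk1] at h
      have h1 : y' ∈ Subgroup.zpowers x := by
        have : R ≤ Subgroup.zpowers x := by
          rw [hR, Subgroup.zpowers_le]
          exact Subgroup.pow_mem _ (Subgroup.mem_zpowers x) 2
        exact this h
      have h2 := orderOf_dvd_of_mem_zpowers h1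
      rw [hoy', hx] at h2
      exact hp ((Nat.prime_dvd_prime_iff_eq hpp Nat.prime_two).mp (hpp.dvd_of_dvd_pow h2))
  -- closure {s,t} = ⊤
  have htop : Subgroup.closure ({s, t} : Set (H ⧸ R.subgroupOf H)) = ⊤ := by
    rw [eq_top_iff]
    set L : Subgroup G := ((Subgroup.closure ({s, t} : Set (H ⧸ R.subgroupOf H))).comap mk).map H.subtype
      with hL
    have hsC : s ∈ Subgroup.closure ({s, t} : Set (H ⧸ R.subgroupOf H)) :=
      Subgroup.subset_closure (by simp)
    have htC : t ∈ Subgroup.closure ({s, t} : Set (H ⧸ R.subgroupOf H)) :=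
      Subgroup.subset_closure (by simp)
    have hHL : H ≤ L := by
      rw [hH, Subgroup.closure_le]
      intro g hg
      rcases hg with rfl | hg
      · exact ⟨xH, hsC, rfl⟩
      · rw [Set.mem_singleton_iff] at hg
        subst hg
        refine ⟨yH, ?_, rfl⟩
        rw [SetLike.mem_coe, Subgroup.mem_comap, ← hst]
        exact Subgroup.mul_mem _ hsC htC
    intro q _
    obtain ⟨h, rfl⟩ := QuotientGroup.mk'_surjective (R.subgroupOf H) q
    obtain ⟨h', hh', hh'2⟩ := hHL h.2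
    have : h' = h := Subtype.ext hh'2
    rw [← this]
    exact hh'
  obtain ⟨e⟩ := Cfsg.Agent.Helper2.closure_pair_invol_equiv_dihedral hss htt hs1 ht1
  rw [hord] at e
  exact ⟨H, R, hn, ⟨(Subgroup.topEquiv.symm.trans (MulEquiv.subgroupCongr htop.symm)).trans e⟩⟩

/-- (2) ⇒ (3) -/
theorem inverts_of_not_centralizes {G : Type*} [Group G] [Finite G] {p : ℕ} [Fact p.Prime]
    (x : G) (P : Subgroup G) (k : ℕ) (hx : orderOf x = 2 ^ k) (hP : IsPGroup p P)
    (hxN : x ∈ Subgroup.normalizer (P : Set G)) (hxC : x ∉ Subgroup.centralizer (P : Set G)) :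
    ∃ x' y : G, (∃ k : ℕ, orderOf x' = 2 ^ k) ∧ (∃ k : ℕ, orderOf y = p ^ k) ∧ y ≠ 1 ∧
      x' * y * x'⁻¹ = y⁻¹ := by
  classical
  have hpp : p.Prime := Fact.out
  have hex : ∃ m : ℕ, x ^ (2 ^ m) ∈ Subgroup.centralizer (P : Set G) :=
    ⟨k, by rw [← hx, pow_orderOf_eq_one]; exact Subgroup.one_mem _⟩
  set m := Nat.find hex with hm
  have hm1 : x ^ (2 ^ m) ∈ Subgroup.centralizer (P : Set G) := Nat.find_spec hex
  have hm0 : m ≠ 0 := by
    intro h
    rw [h, pow_zero, pow_one] at hm1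
    exact hxC hm1
  obtain ⟨m', hm'⟩ := Nat.exists_eq_succ_of_ne_zero hm0
  set x' := x ^ (2 ^ m') with hx'
  have hx'C : x' ∉ Subgroup.centralizer (P : Set G) := by
    have := Nat.find_min hex (m := m') (by omega)
    exact this
  have hx'2 : x' * x' ∈ Subgroup.centralizer (P : Set G) := by
    have : x' * x' = x ^ (2 ^ m) := by
      rw [hx', ← pow_add, hm', Nat.succ_eq_add_one, pow_succ]
      congr 1; ring
    rw [this]; exact hm1
  have hx'N : x' ∈ Subgroup.normalizer (P : Set G) := Subgroup.pow_mem _ hxN _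
  have hx'o : ∃ k : ℕ, orderOf x' = 2 ^ k := by
    have h1 : orderOf x' ∣ 2 ^ k := by
      rw [← hx, hx']
      exact orderOf_pow_dvd _
    obtain ⟨i, _, hi⟩ := (Nat.dvd_prime_pow Nat.prime_two).mp h1
    exact ⟨i, hi⟩
  -- an element moved by x'
  have hmoved : ∃ y₀ ∈ P, x' * y₀ * x'⁻¹ ≠ y₀ := by
    by_contra hcon
    push Not at hcon
    apply hx'C
    rw [Subgroup.mem_centralizer_iff]
    intro y₀ hy₀
    have := hcon y₀ hy₀
    calc y₀ * x' = (x' * y₀ * x'⁻¹) * x' := by rw [this]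
      _ = x' * y₀ := by group
  obtain ⟨y₀, hy₀, hmv⟩ := hmoved
  have hσ : x' * y₀ * x'⁻¹ ∈ P := (Subgroup.mem_normalizer_iff.mp hx'N y₀).mp hy₀
  set z := y₀⁻¹ * (x' * y₀ * x'⁻¹) with hz
  have hzP : z ∈ P := P.mul_mem (P.inv_mem hy₀) hσ
  have hz1 : z ≠ 1 := by
    intro h
    apply hmv
    have h2 : y₀ * z = y₀ := by rw [h, mul_one]
    rw [hz] at h2
    calc x' * y₀ * x'⁻¹ = y₀ * (y₀⁻¹ * (x' * y₀ * x'⁻¹)) := by group
      _ = y₀ := h2
  have hcc : (x' * x') * y₀ = y₀ * (x' * x') :=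
    ((Subgroup.mem_centralizer_iff.mp hx'2) y₀ hy₀).symm
  have hzinv : x' * z * x'⁻¹ = z⁻¹ := by
    have h1 : x' * z * x'⁻¹ = (x' * y₀ * x'⁻¹)⁻¹ * ((x' * x') * y₀ * (x' * x')⁻¹) := by
      rw [hz]; group
    have h2 : (x' * x') * y₀ * (x' * x')⁻¹ = y₀ := by rw [hcc]; group
    rw [h1, h2, hz]; group
  have hzo : ∃ k : ℕ, orderOf z = p ^ k := by
    obtain ⟨i, hi⟩ := hP ⟨z, hzP⟩
    have h1 : z ^ (p ^ i) = 1 := by
      have := congrArg Subtype.val hi
      simpa using this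
    have h2 := orderOf_dvd_of_pow_eq_one h1
    obtain ⟨i', _, hi'⟩ := (Nat.dvd_prime_pow hpp).mp h2
    exact ⟨i', hi'⟩
  exact ⟨x', z, hx'o, hzo, hz1, hzinv⟩

open DihedralGroup in
/-- (1) ⇒ (2) -/
theorem not_centralizes_of_involves {G : Type*} [Group G] [Finite G] {p : ℕ} [Fact p.Prime] (hp : p ≠ 2)
    (h : Cfsg.Involves (DihedralGroup p) G) :
    ∃ (x : G) (P : Subgroup G), (∃ k : ℕ, orderOf x = 2 ^ k) ∧ IsPGroup p ↥P ∧
      x ∈ Subgroup.normalizer (P : Set G) ∧ x ∉ Subgroup.centralizer (P : Set G) := by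
  classical
  have hpp : p.Prime := Fact.out
  haveI : NeZero p := ⟨hpp.ne_zero⟩
  obtain ⟨K, R, hn, ⟨e⟩⟩ := h
  set φ : K →* DihedralGroup p := e.toMonoidHom.comp (QuotientGroup.mk' (R.subgroupOf K)) with hφ
  have hφs : Function.Surjective φ := by
    rw [hφ]
    exact e.surjective.comp (QuotientGroup.mk'_surjective _)
  set Rot := Cfsg.Agent.Helper2.DihSub.rot p with hRot
  have hRi : Rot.index = 2 := Cfsg.Agent.Helper2.DihSub.rot_index p
  haveI hRn : Rot.Normal := Subgroup.normal_of_index_eq_two hRi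
  set N₀ : Subgroup K := Rot.comap φ with hN₀
  haveI hN₀n : N₀.Normal := hRn.comap φ
  have hN₀i : N₀.index = 2 := by
    rw [hN₀, Subgroup.index_comap_of_surjective _ hφs]; exact hRi
  let P₀ : Sylow p N₀ := default
  have hF := Sylow.normalizer_sup_eq_top P₀
  set P₀' : Subgroup K := (P₀ : Subgroup N₀).map N₀.subtype with hP₀'
  obtain ⟨g, hgN, hgN₀⟩ : ∃ g ∈ Subgroup.normalizer (P₀' : Set K), g ∉ N₀ := by
    by_contra hcon
    push Not at hcon
    have h1 : Subgroup.normalizer (P₀' : Set K) ⊔ N₀ = N₀ := sup_eq_right.mpr hcon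
    rw [h1] at hF
    rw [hF, Subgroup.index_top] at hN₀i
    omega
  obtain ⟨a, m, hmodd, hom⟩ := Nat.exists_eq_two_pow_mul_odd (orderOf_pos g).ne'
  have hm0 : m ≠ 0 := fun h => by rw [h] at hmodd; exact absurd hmodd (by decide)
  set x₀ := g ^ m with hx₀
  have hx₀o : orderOf x₀ = 2 ^ a := by
    rw [hx₀, orderOf_pow' _ hm0, hom, Nat.gcd_mul_left_left, Nat.mul_div_cancel _ (Nat.pos_of_ne_zero hm0)]
  have hx₀N : x₀ ∈ Subgroup.normalizer (P₀' : Set K) := Subgroup.pow_mem _ hgN _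
  have hx₀N₀ : x₀ ∉ N₀ := by
    obtain ⟨q, hq⟩ := hmodd
    intro h
    apply hgN₀
    have h2 : g ^ 2 ∈ N₀ := Subgroup.sq_mem_of_index_two hN₀i g
    have h3 : x₀ = (g ^ 2) ^ q * g := by rw [hx₀, hq, pow_succ, pow_mul]
    rw [h3] at h
    exact (Subgroup.mul_mem_cancel_left N₀ (Subgroup.pow_mem _ h2 q)).mp h
  -- φ x₀ is a reflection
  obtain ⟨j, hj⟩ : ∃ j, φ x₀ = sr j := by
    have h1 : φ x₀ ∉ Rot := hx₀N₀
    rcases hφx : φ x₀ with i | i
    · exfalso; apply h1; rw [hφx, hRot, Cfsg.Agent.Helper2.DihSub.mem_rot_iff]; exact ⟨i, rfl⟩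
    · exact ⟨i, rfl⟩
  -- an element of P₀' mapping to r 1
  obtain ⟨y', hy'P, hy'φ⟩ : ∃ y' ∈ P₀', φ y' = r 1 := by
    set ψ := φ.subgroupComap Rot with hψ
    have hψs : Function.Surjective ψ := φ.subgroupComap_surjective_of_surjective Rot hφs
    let P₁ : Sylow p Rot := P₀.mapSurjective hψs
    have hRp : IsPGroup p Rot := by
      apply IsPGroup.of_card (n := 1)
      rw [pow_one, hRot]
      unfold Cfsg.Agent.Helper2.DihSub.rot
      rw [Nat.card_zpowers, orderOf_r_one]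
    have hP₁top : (⊤ : Subgroup Rot) = (P₁ : Subgroup Rot) :=
      P₁.is_maximal' (hRp.to_subgroup ⊤) le_top
    have hr1 : r 1 ∈ Rot := by
      rw [hRot, Cfsg.Agent.Helper2.DihSub.mem_rot_iff]; exact ⟨1, rfl⟩
    have h1 : (⟨r 1, hr1⟩ : Rot) ∈ (P₁ : Subgroup Rot) := by rw [← hP₁top]; exact Subgroup.mem_top _
    rw [Sylow.coe_mapSurjective] at h1
    obtain ⟨n, hn, hnψ⟩ := Subgroup.mem_map.mp h1
    refine ⟨(n : K), ⟨n, hn, rfl⟩, ?_⟩
    have := congrArg Subtype.val hnψ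
    exact this
  refine ⟨(x₀ : G), P₀'.map K.subtype, ⟨a, ?_⟩, ?_, ?_, ?_⟩
  · rw [Subgroup.orderOf_coe, hx₀o]
  · exact (P₀.2.map _).map _
  · apply mem_normalizer_of_conj_mem
    rintro _ ⟨u, hu, rfl⟩
    refine ⟨x₀ * u * x₀⁻¹, ?_, rfl⟩
    exact (Subgroup.mem_normalizer_iff.mp hx₀N u).mp hu
  · intro hcen
    have h1 : (y' : G) * (x₀ : G) = (x₀ : G) * (y' : G) :=
      (Subgroup.mem_centralizer_iff.mp hcen) _ ⟨y', hy'P, rfl⟩
    have h2 : y' * x₀ = x₀ * y' := Subtype.ext h1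
    have h3 := congrArg φ h2
    rw [map_mul, map_mul, hj, hy'φ, r_mul_sr, sr_mul_r] at h3
    have h4 : j - 1 = j + 1 := by
      injection h3
    have h5 : (2 : ZMod p) = 0 := by
      have : (j + 1) - (j - 1) = (2 : ZMod p) := by ring
      rw [← this, h4]; ring
    have h6 : ((2 : ℕ) : ZMod p) = 0 := by exact_mod_cast h5
    rw [ZMod.natCast_eq_zero_iff] at h6
    exact hp ((Nat.prime_dvd_prime_iff_eq hpp Nat.prime_two).mp h6)

/-- For an odd prime p and a finite group G the following are equivalent: the dihedral group of order 2p is involved in G; some element of 2-power order normalizes but does not centralize some p-subgroup of G; some element of 2-power order inverts some nonidentity element of p-power order. -/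
theorem result {G : Type*} [Group G] [Finite G] {p : ℕ} [Fact p.Prime] (hp : p ≠ 2) : (Cfsg.Involves (DihedralGroup p) G ↔ ∃ (x : G) (P : Subgroup G), (∃ k : ℕ, orderOf x = 2 ^ k) ∧ IsPGroup p ↥P ∧ x ∈ Subgroup.normalizer (P : Set G) ∧ x ∉ Subgroup.centralizer (P : Set G)) ∧ (Cfsg.Involves (DihedralGroup p) G ↔ ∃ x y : G, (∃ k : ℕ, orderOf x = 2 ^ k) ∧ (∃ k : ℕ, orderOf y = p ^ k) ∧ y ≠ 1 ∧ x * y * x⁻¹ = y⁻¹) := by
  have hA := not_centralizes_of_involves (G := G) hp
  have hB : (∃ (x : G) (P : Subgroup G), (∃ k : ℕ, orderOf x = 2 ^ k) ∧ IsPGroup p ↥P ∧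
      x ∈ Subgroup.normalizer (P : Set G) ∧ x ∉ Subgroup.centralizer (P : Set G)) →
      ∃ x y : G, (∃ k : ℕ, orderOf x = 2 ^ k) ∧ (∃ k : ℕ, orderOf y = p ^ k) ∧ y ≠ 1 ∧
        x * y * x⁻¹ = y⁻¹ := by
    rintro ⟨x, P, ⟨k, hk⟩, hP, hxN, hxC⟩
    exact inverts_of_not_centralizes x P k hk hP hxN hxC
  have hC : (∃ x y : G, (∃ k : ℕ, orderOf x = 2 ^ k) ∧ (∃ k : ℕ, orderOf y = p ^ k) ∧ y ≠ 1 ∧
        x * y * x⁻¹ = y⁻¹) → Cfsg.Involves (DihedralGroup p) G := by
    rintro ⟨x, y, ⟨k, hk⟩, ⟨j, hj⟩, hy1, hinv⟩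
    exact involves_of_inverts hp x y k j hk hj hy1 hinv
  exact ⟨⟨hA, fun h => hC (hB h)⟩, ⟨fun h => hB (hA h), hC⟩⟩

end Cfsg.Agent.S2758
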