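import Mathlib
import Cfsg.Agent.Helper5.CharP
import Cfsg.Agent.Helper5.PResidual
import Cfsg.Statements.S2760
-- import your own Cfsg.Agent.* helpers here

set_option autoImplicit false
open Cfsg

namespace Cfsg.Agent.S2760

/-- Let G be a finite group with C_G(O₂(G)) ≤ O₂(G) and H a subgroup of G such that H is normal in G, or the subgroup O²(H) generated by the elements of H of odd order is normal in G. Then C_H(O₂(H)) ≤ O₂(H). -/
theorem result {G : Type*} [Group G] [Finite G] (hchar : Subgroup.centralizer (Cfsg.pCore 2 G : Set G) ≤ Cfsg.pCore 2 G) (H : Subgroup G) (hH : H.Normal ∨ ((Cfsg.pResidual 2 ↥H).map H.subtype).Normal) : Subgroup.centralizer (Cfsg.pCore 2 ↥H : Set ↥H) ≤ Cfsg.pCore 2 ↥H := by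
  rcases hH with hH | hH
  · have := hH
    exact Cfsg.Agent.Helper5.HasCharP.of_normal hchar H
  · apply Cfsg.Agent.Helper5.HasCharP.of_pprime_conj hchar
    intro c hc hcop q hq
    have h1 : (⟨c, hc⟩ : ↥H) ∈ Cfsg.pResidual 2 ↥H := by
      apply Cfsg.Agent.Helper5.mem_pResidual_of_coprime
      rwa [Subgroup.orderOf_mk]
    have h2 : c ∈ (Cfsg.pResidual 2 ↥H).map H.subtype := ⟨⟨c, hc⟩, h1, rfl⟩
    have h3 := hH.conj_mem c h2 q⁻¹
    have h4 : (Cfsg.pResidual 2 ↥H).map H.subtype ≤ H := by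
      rintro _ ⟨y, -, rfl⟩
      exact y.2
    have h5 := h4 h3
    simpa using h5

end Cfsg.Agent.S2760
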