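import Mathlib
import Cfsg.Agent.Helper5.NatSL2
import Cfsg.Statements.S2779
-- import your own Cfsg.Agent.* helpers here

set_option autoImplicit false
open Cfsg

namespace Cfsg.Agent.S2779

/-- Let L act on the elementary abelian p-group V (inside a finite group, by conjugation, faithfully) as SL₂(F) on its natural module, F a field with p^n elements, and let S be a Sylow p-subgroup of L. Then [V, S, S] = 1; |V| = p^(2n) and |C_V(S)| = p^n; and for every nonidentity s ∈ S and every v ∈ V outside C_V(S): C_V(s) = C_V(S) = [V, S] = [V, s] = the subgroup generated by the commutators [v, t], t ∈ S. -/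
theorem result {G : Type*} [Group G] [Finite G] {p : ℕ} [Fact p.Prime] {F : Type*} [Field F] [Fintype F] (n : ℕ) (hF : Fintype.card F = p ^ n) (V L : Subgroup G) (hnat : Cfsg.IsNaturalSL2Module F V L) (hf : L ⊓ Subgroup.centralizer (V : Set G) = ⊥) (S : Sylow p ↥L) (T : Subgroup G) (hT : T = ((S : Subgroup ↥L).map L.subtype)) : ⁅⁅V, T⁆, T⁆ = ⊥ ∧ Nat.card V = p ^ (2 * n) ∧ Nat.card ↥(V ⊓ Subgroup.centralizer ((T : Subgroup G) : Set G)) = p ^ n ∧ ∀ s ∈ T, s ≠ 1 → (V ⊓ Subgroup.centralizer ({s} : Set G)) = (V ⊓ Subgroup.centralizer ((T : Subgroup G) : Set G)) ∧ ⁅V, T⁆ = (V ⊓ Subgroup.centralizer ((T : Subgroup G) : Set G)) ∧ ⁅V, Subgroup.zpowers s⁆ = (V ⊓ Subgroup.centralizer ((T : Subgroup G) : Set G)) ∧ ∀ v ∈ V, v ∉ Subgroup.centralizer (T : Set G) → Subgroup.closure {x : G | ∃ t ∈ T, x = v * t * v⁻¹ * t⁻¹} = (V ⊓ Subgroup.centralizer ((T : Subgroup G) : Set G)) := by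
  open Cfsg.Agent.Helper5.NSL commutatorElement in
  classical
  obtain ⟨ρ, φ, h⟩ := exists_nat2 n hF V L hnat hf S T hT
  have hcomm_le := h.commutator_le
  refine ⟨?_, ?_, ?_, ?_⟩
  · rw [Subgroup.commutator_eq_bot_iff_le_centralizer]
    exact hcomm_le.trans inf_le_right
  · rw [h.card_V, hF, ← pow_mul, mul_comm]
  · rw [h.card_V0, hF]
  · intro s hs hs1
    obtain ⟨a, ha⟩ := h.exists_of_mem_T hs
    have ha0 : a ≠ 0 := h.ne_zero_of_ne_one hs ha hs1
    refine ⟨?_, ?_, ?_, ?_⟩
    · ext v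
      rw [h.mem_cent_singleton, h.mem_V0]
      constructor
      · rintro ⟨hv, h2⟩
        refine ⟨hv, ?_⟩
        have h3 := h.actT0 hs ha hv
        rw [h2] at h3
        have h4 : a * φ v 1 = 0 := (left_eq_add.mp h3)
        exact (mul_eq_zero.mp h4).resolve_left ha0
      · rintro ⟨hv, h2⟩
        refine ⟨hv, ?_⟩
        apply h.ext (h.norm s (h.TL hs) v hv) hv
        · rw [h.actT0 hs ha hv, h2, mul_zero, add_zero]
        · rw [h.actT1 hs ha hv]
    · apply le_antisymm hcomm_le
      intro w hw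
      have hw' := h.mem_V0.mp hw
      obtain ⟨v, hv, hv0, hv1⟩ := h.exists_vec 0 1
      obtain ⟨t, ht, hta⟩ := h.exists_mem_T (-(φ w 0))
      have h5 : w = ⁅v, t⁆ := by
        rw [commutatorElement_def]
        apply h.ext hw'.1 (h.comm_mem ht hv)
        · rw [h.comm0 ht hta hv, hv1]; ring
        · rw [h.comm1 ht hta hv, hw'.2]
      rw [h5]
      exact Subgroup.commutator_mem_commutator hv ht
    · apply le_antisymm
      · refine le_trans (Subgroup.commutator_mono le_rfl ?_) hcomm_le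
        rw [Subgroup.zpowers_le]
        exact hs
      · intro w hw
        have hw' := h.mem_V0.mp hw
        obtain ⟨v, hv, hv0, hv1⟩ := h.exists_vec 0 (-(φ w 0) / a)
        have h5 : w = ⁅v, s⁆ := by
          rw [commutatorElement_def]
          apply h.ext hw'.1 (h.comm_mem hs hv)
          · rw [h.comm0 hs ha hv, hv1]; field_simp
          · rw [h.comm1 hs ha hv, hw'.2]
        rw [h5]
        exact Subgroup.commutator_mem_commutator hv (Subgroup.mem_zpowers s)
    · intro v hv hvT
      have hv1 : φ v 1 ≠ 0 := by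
        intro h0
        exact hvT (h.mem_V0.mpr ⟨hv, h0⟩).2
      apply le_antisymm
      · rw [Subgroup.closure_le]
        rintro x ⟨t, ht, rfl⟩
        obtain ⟨b, hb⟩ := h.exists_of_mem_T ht
        exact h.mem_V0.mpr ⟨h.comm_mem ht hv, h.comm1 ht hb hv⟩
      · intro w hw
        have hw' := h.mem_V0.mp hw
        obtain ⟨t, ht, hta⟩ := h.exists_mem_T (-(φ w 0) / φ v 1)
        apply Subgroup.subset_closure
        refine ⟨t, ht, ?_⟩
        apply h.ext hw'.1 (h.comm_mem ht hv)
        · rw [h.comm0 ht hta hv]; field_simp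
        · rw [h.comm1 ht hta hv, hw'.2]

end Cfsg.Agent.S2779
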