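import Mathlib
import Cfsg.Agent.Helper5.NatSL2
import Cfsg.Statements.S2780
-- import your own Cfsg.Agent.* helpers here

set_option autoImplicit false
open Cfsg

namespace Cfsg.Agent.S2780

/-- Let L act on the elementary abelian p-group V (inside a finite group, faithfully) as SL₂(F) on its natural module, F a field with p^n elements, S a Sylow p-subgroup of L. Then: for every g ∈ L not normalizing S, V is the internal direct product of C_V(S) and C_V(gSg⁻¹); every nonidentity element of L of order prime to p acts on V without nonidentity fixed points; and C_V(S) and V/C_V(S) are irreducible for N_L(S): the only N_L(S)-invariant subgroups of C_V(S) are 1 and C_V(S), and the only N_L(S)-invariant subgroups between C_V(S) and V are those two. -/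
theorem result {G : Type*} [Group G] [Finite G] {p : ℕ} [Fact p.Prime] {F : Type*} [Field F] [Fintype F] (n : ℕ) (hF : Fintype.card F = p ^ n) (V L : Subgroup G) (hnat : Cfsg.IsNaturalSL2Module F V L) (hf : L ⊓ Subgroup.centralizer (V : Set G) = ⊥) (S : Sylow p ↥L) (T : Subgroup G) (hT : T = ((S : Subgroup ↥L).map L.subtype)) : (∀ g ∈ L, g ∉ Subgroup.normalizer (T : Set G) → Cfsg.IsInternalDirectProduct (V ⊓ Subgroup.centralizer ((T : Subgroup G) : Set G)) (V ⊓ Subgroup.centralizer ((T.map (MulAut.conj g).toMonoidHom : Subgroup G) : Set G)) V) ∧ (∀ x ∈ L, x ≠ 1 → (orderOf x).Coprime p → (V ⊓ Subgroup.centralizer ({x} : Set G)) = ⊥) ∧ (∀ U : Subgroup G, U ≤ (V ⊓ Subgroup.centralizer ((T : Subgroup G) : Set G)) → L ⊓ Subgroup.normalizer (T : Set G) ≤ Subgroup.normalizer (U : Set G) → U = ⊥ ∨ U = (V ⊓ Subgroup.centralizer ((T : Subgroup G) : Set G))) ∧ (∀ U : Subgroup G, (V ⊓ Subgroup.centralizer ((T : Subgroup G) : Set G)) ≤ U → U ≤ V → L ⊓ Subgroup.normalizer (T : Set G) ≤ Subgroup.normalizer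 (U : Set G) → U = (V ⊓ Subgroup.centralizer ((T : Subgroup G) : Set G)) ∨ U = V) := by
  open Cfsg.Agent.Helper5.NSL Cfsg.Agent.Helper5.SLB in
  classical
  obtain ⟨ρ, φ, h⟩ := exists_nat2 n hF V L hnat hf S T hT
  haveI : CharP F p := charP_of_card_eq_prime_pow hF
  refine ⟨?_, ?_, ?_, ?_⟩
  · intro g hg hgn
    have hc := h.rho_10_ne_zero hg hgn
    set a := ((ρ ⟨g, hg⟩ : Matrix.SpecialLinearGroup (Fin 2) F) : Matrix (Fin 2) (Fin 2) F) 0 0 with ha
    set c := ((ρ ⟨g, hg⟩ : Matrix.SpecialLinearGroup (Fin 2) F) : Matrix (Fin 2) (Fin 2) F) 1 0 with hc'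
    refine ⟨inf_le_left, inf_le_left, ?_, ?_, ?_⟩
    · intro x hx y hy
      exact h.comm hx.1 hy.1
    · rw [eq_bot_iff]
      intro v hv
      have h1 := h.mem_V0.mp hv.1
      have h2 := (h.mem_V0_conj hg).mp hv.2
      rw [Subgroup.mem_bot]
      apply h.eq_one h1.1 _ h1.2
      have h3 := h2.2
      rw [h1.2, mul_zero] at h3
      exact (mul_eq_zero.mp h3.symm).resolve_left hc
    · apply le_antisymm (sup_le inf_le_left inf_le_left)
      intro w hw
      obtain ⟨z, hz, hz0, hz1⟩ := h.exists_vec (a * φ w 1 / c) (φ w 1)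
      obtain ⟨y, hy, hy0, hy1⟩ := h.exists_vec (φ w 0 - a * φ w 1 / c) 0
      have h5 : w = y * z := by
        apply h.ext hw (V.mul_mem hy hz)
        · rw [h.add0 hy hz, hy0, hz0]; ring
        · rw [h.add1 hy hz, hy1, hz1]; ring
      rw [h5]
      apply Subgroup.mul_mem_sup
      · exact h.mem_V0.mpr ⟨hy, hy1⟩
      · refine (h.mem_V0_conj hg).mpr ⟨hz, ?_⟩
        change a * φ z 1 = c * φ z 0
        rw [hz0, hz1]
        field_simp
  · intro x hxL hx1 hcop
    rw [eq_bot_iff]
    intro v hv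
    rw [Subgroup.mem_bot]
    have hv' := h.mem_cent_singleton.mp hv
    by_contra hv1
    have hne : φ v 0 ≠ 0 ∨ φ v 1 ≠ 0 := by
      by_contra hcon
      push Not at hcon
      exact hv1 (h.eq_one hv'.1 hcon.1 hcon.2)
    have e0 := h.act0 hxL hv'.1
    have e1 := h.act1 hxL hv'.1
    rw [hv'.2] at e0 e1
    have hpow := pow_char_eq_one (p := p) (ρ ⟨x, hxL⟩) (φ v 0) (φ v 1) hne e0.symm e1.symm
    rw [← map_pow] at hpow
    have h2 : (⟨x, hxL⟩ : L) ^ p = 1 := h.rho_inj (by rw [hpow, map_one])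
    have h3 : x ^ p = 1 := by
      have := congrArg Subtype.val h2
      simpa using this
    have h4 : orderOf x ∣ p := orderOf_dvd_of_pow_eq_one h3
    have h5 : orderOf x = 1 := Nat.Coprime.eq_one_of_dvd hcop h4
    exact hx1 (orderOf_eq_one_iff.mp h5)
  · intro U hU hUN
    by_cases hbot : U = ⊥
    · exact Or.inl hbot
    · right
      apply le_antisymm hU
      obtain ⟨u, hu1⟩ := (Subgroup.ne_bot_iff_exists_ne_one (H := U)).mp hbot
      have hu1' : (u : G) ≠ 1 := fun hh => hu1 (Subtype.ext hh)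
      have huV := h.mem_V0.mp (hU u.2)
      have hu0 : φ (u : G) 0 ≠ 0 := by
        intro h0
        exact hu1' (h.eq_one huV.1 h0 huV.2)
      intro w hw
      have hw' := h.mem_V0.mp hw
      by_cases hw0 : φ w 0 = 0
      · rw [h.eq_one hw'.1 hw0 hw'.2]
        exact U.one_mem
      · have hd : φ w 0 / φ (u : G) 0 ≠ 0 := div_ne_zero hw0 hu0
        obtain ⟨l, hl, hlN, hld⟩ := h.exists_diag _ hd
        have hlU := hUN ⟨hl, hlN⟩
        have h6 : l * (u : G) * l⁻¹ ∈ U := (Subgroup.mem_normalizer_iff.mp hlU (u : G)).mp u.2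
        have h7 : w = l * (u : G) * l⁻¹ := by
          apply h.ext hw'.1 (h.norm l hl _ huV.1)
          · rw [h.actD0 hl hld huV.1]; field_simp
          · rw [h.actD1 hl hld huV.1, huV.2, hw'.2, mul_zero]
        rw [h7]
        exact h6
  · intro U hU0 hUV hUN
    by_cases heq : U = V ⊓ Subgroup.centralizer ((T : Subgroup G) : Set G)
    · exact Or.inl heq
    · right
      apply le_antisymm hUV
      have hex : ∃ u ∈ U, φ u 1 ≠ 0 := by
        by_contra hcon
        push Not at hcon
        apply heq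
        apply le_antisymm _ hU0
        intro u hu
        exact h.mem_V0.mpr ⟨hUV hu, hcon u hu⟩
      obtain ⟨u, hu, hu1⟩ := hex
      have huV := hUV hu
      intro w hw
      by_cases hw1 : φ w 1 = 0
      · exact hU0 (h.mem_V0.mpr ⟨hw, hw1⟩)
      · have hd : φ u 1 / φ w 1 ≠ 0 := div_ne_zero hu1 hw1
        obtain ⟨l, hl, hlN, hld⟩ := h.exists_diag _ hd
        have hlU := hUN ⟨hl, hlN⟩
        have h6 : l * u * l⁻¹ ∈ U := (Subgroup.mem_normalizer_iff.mp hlU u).mp hu
        have h6V := h.norm l hl u huV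
        obtain ⟨z, hz, hz0, hz1⟩ := h.exists_vec (φ w 0 - φ (l * u * l⁻¹) 0) 0
        have h7 : w = (l * u * l⁻¹) * z := by
          apply h.ext hw (V.mul_mem h6V hz)
          · rw [h.add0 h6V hz, hz0]; ring
          · rw [h.add1 h6V hz, hz1, h.actD1 hl hld huV, add_zero]; field_simp
        rw [h7]
        exact U.mul_mem h6 (hU0 (h.mem_V0.mpr ⟨hz, hz1⟩))

end Cfsg.Agent.S2780
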