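import Mathlib
import Cfsg.Agent.Helper5.NormMap
import Cfsg.Agent.Helper5.PReducedRel
import Cfsg.Agent.Helper5.LargeSub
import Cfsg.Agent.Helper5.PResidual
import Cfsg.Agent.Helper2.Component
import Cfsg.Statements.S2781
-- import your own Cfsg.Agent.* helpers here

set_option autoImplicit false
open Cfsg Cfsg.Agent.Helper5

namespace Cfsg.Agent.S2781

/-- Let H act faithfully by conjugation on the elementary abelian p-subgroup V of a finite group, let O^p(H) be the subgroup of H generated by its elements of order prime to p, and T a Sylow p-subgroup of O^p(H). If V is generated by the H-conjugates of C_V(T) (V is the smallest H-invariant subgroup containing C_V(T)), then V = [V, O^p(H)]·C_V(O^p(H)). -/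
theorem result {G : Type*} [Group G] [Finite G] {p : ℕ} [Fact p.Prime] (V H : Subgroup G) (hV : Cfsg.IsElementaryAbelian p V) (hHV : H ≤ Subgroup.normalizer (V : Set G)) (hf : H ⊓ Subgroup.centralizer (V : Set G) = ⊥) (R : Subgroup G) (hR : R = (Cfsg.pResidual p ↥H).map H.subtype) (S : Sylow p ↥R) (T : Subgroup G) (hT : T = ((S : Subgroup ↥R).map R.subtype)) (hgen : ∀ W : Subgroup G, H ≤ Subgroup.normalizer (W : Set G) → (V ⊓ Subgroup.centralizer ((T : Subgroup G) : Set G)) ≤ W → V ≤ W) : ⁅V, R⁆ ⊔ (V ⊓ Subgroup.centralizer ((R : Subgroup G) : Set G)) = V := by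
  classical
  have hVc : IsMulCommutative ↥V := hV.1
  have hp : p.Prime := Fact.out
  have hRH : R ≤ H := by rw [hR]; rintro _ ⟨x, -, rfl⟩; exact x.2
  have hRV : R ≤ Subgroup.normalizer (V : Set G) := hRH.trans hHV
  have hHR : H ≤ Subgroup.normalizer (R : Set G) := by
    rw [hR]
    have hc : (Cfsg.pResidual p ↥H).Characteristic := pResidual_characteristic (G := ↥H) p
    exact le_normalizer_map_subtype_of_normal H _ inferInstance
  have hle1 : ⁅V, R⁆ ≤ V := by
    rw [Subgroup.commutator_comm]
    exact Cfsg.Agent.Helper2.commutator_le_of_le_normalizer hRV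
  apply le_antisymm (sup_le hle1 inf_le_left)
  apply hgen
  · apply le_normalizer_of_conj_mem
    intro h hh x hx
    have hVh : V.map (MulAut.conj h).toMonoidHom = V := (mem_normalizer_iff_map_conj V h).mp (hHV hh)
    have hRh : R.map (MulAut.conj h).toMonoidHom = R := (mem_normalizer_iff_map_conj R h).mp (hHR hh)
    have hmap : (⁅V, R⁆ ⊔ (V ⊓ Subgroup.centralizer ((R : Subgroup G) : Set G))).map
        (MulAut.conj h).toMonoidHom ≤ ⁅V, R⁆ ⊔ (V ⊓ Subgroup.centralizer ((R : Subgroup G) : Set G)) := by
      rw [Subgroup.map_sup, Subgroup.map_commutator, hVh, hRh]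
      refine sup_le le_sup_left (le_trans ?_ le_sup_right)
      rw [map_conj_le_iff]
      intro y hy
      exact ⟨(Subgroup.mem_normalizer_iff.mp (hHV hh) y).mp hy.1,
        conj_mem_centralizer_of_mem_normalizer R h (hHR hh) y hy.2⟩
    exact (map_conj_le_iff _ _ _).mp hmap x hx
  · intro u hu
    have hidx : (T.relIndex R).Coprime p := by
      have h1 : T.subgroupOf R = (S : Subgroup ↥R) := by
        rw [hT]; exact Subgroup.comap_map_eq_self_of_injective R.subtype_injective _
      rw [Subgroup.relIndex, h1]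
      exact ((Nat.Prime.coprime_iff_not_dvd hp).mpr S.not_dvd_index).symm
    have := mem_sup_of_norm (p := p) V R R T hRV
      (fun r hr => ⟨r, hr, 1, Subgroup.one_mem _, (mul_one r).symm⟩) hidx u hu.1 hu.2 (hV.2 u hu.1)
    rwa [sup_comm] at this

end Cfsg.Agent.S2781
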