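import Mathlib
import Cfsg.Statements.S2788
import Cfsg.Agent.S2904
import Cfsg.Agent.S2231
import Cfsg.Agent.Helper8.SqF
import Cfsg.Agent.Helper8.SqG

set_option autoImplicit false
open Cfsg

namespace Cfsg.Agent.S2788

/-- Let H act faithfully by conjugation on the elementary abelian p-subgroup V of a finite group with H ≅ SL₂(F), F a field with p^n elements, S a Sylow p-subgroup of H, and A ≤ S a subgroup of order at least 3 acting quadratically on V ([V, A, A] = 1). Then |V/C_V(a)| ≥ p^n for every nonidentity a ∈ A. -/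
theorem result {G : Type*} [Group G] [Finite G] {p : ℕ} [Fact p.Prime] (V H : Subgroup G) (hV : Cfsg.IsElementaryAbelian p V) (hHV : H ≤ Subgroup.normalizer (V : Set G)) (hf : H ⊓ Subgroup.centralizer (V : Set G) = ⊥) {F : Type*} [Field F] [Fintype F] (n : ℕ) (hF : Fintype.card F = p ^ n) (hiso : Nonempty (↥H ≃* Matrix.SpecialLinearGroup (Fin 2) F)) (S : Sylow p ↥H) (T : Subgroup G) (hT : T = ((S : Subgroup ↥H).map H.subtype)) (A : Subgroup G) (hA : A ≤ T) (hA3 : 3 ≤ Nat.card A) (hquad : ⁅⁅V, A⁆, A⁆ = ⊥) : ∀ a ∈ A, a ≠ 1 → p ^ n ≤ ((V ⊓ Subgroup.centralizer ({a} : Set G))).relIndex V := by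
  intro a haA ha1
  obtain ⟨φ⟩ := hiso
  have hp : p.Prime := Fact.out
  -- `V` is a `p`-group
  have hVp : IsPGroup p V := by
    intro g
    refine ⟨1, ?_⟩
    apply Subtype.ext
    rw [pow_one, Subgroup.coe_pow]
    exact hV.2 g g.2
  -- `a` comes from `S`
  have haT : a ∈ T := hA haA
  rw [hT] at haT
  obtain ⟨a₀, ha₀S, ha₀⟩ := haT
  have ha₀' : (a₀ : G) = a := ha₀
  have ha₀1 : a₀ ≠ 1 := by
    intro h1
    apply ha1
    rw [← ha₀', h1]; rfl
  rw [← ha₀']
  -- the trivial bound
  have haH : (a₀ : G) ∈ H := a₀.2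
  have haC : (a₀ : G) ∉ Subgroup.centralizer (V : Set G) := by
    intro hc
    have : (a₀ : G) ∈ H ⊓ Subgroup.centralizer (V : Set G) := ⟨haH, hc⟩
    rw [hf] at this
    apply ha₀1
    apply Subtype.ext
    exact Subgroup.mem_bot.mp this
  have htriv : p ≤ (V ⊓ Subgroup.centralizer {(a₀ : G)}).relIndex V := by
    obtain ⟨c, hc⟩ := IsPGroup.iff_card.mp hVp
    have hidx : (V ⊓ Subgroup.centralizer {(a₀ : G)}).relIndex V ∣ p ^ c := by
      rw [← hc]; exact Subgroup.relIndex_dvd_card _ V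
    obtain ⟨d, -, hd⟩ := (Nat.dvd_prime_pow hp).1 hidx
    rcases Nat.eq_zero_or_pos d with h0 | h0
    · exfalso
      rw [h0, pow_zero, Subgroup.relIndex_eq_one] at hd
      apply haC
      rw [Subgroup.mem_centralizer_iff]
      intro v hv
      have : v ∈ Subgroup.centralizer {(a₀ : G)} := (hd hv).2
      rw [Subgroup.mem_centralizer_singleton_iff] at this
      exact this
    · rw [hd]
      calc p = p ^ 1 := (pow_one p).symm
        _ ≤ p ^ d := Nat.pow_le_pow_right hp.pos h0
  -- small `n`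
  rcases Nat.lt_or_ge n 2 with hn | hn
  · have h1 : p ^ n ≤ p := by
      calc p ^ n ≤ p ^ 1 := Nat.pow_le_pow_right hp.pos (by omega)
        _ = p := pow_one p
    exact h1.trans htriv
  -- characteristic
  have hchar : CharP F p := by
    obtain ⟨p', hp'⟩ := CharP.exists F
    obtain ⟨m, hp'prime, hm⟩ := FiniteField.card F p'
    rw [hF] at hm
    have h1 : p ∣ p' ^ (m : ℕ) := by
      rw [← hm]; exact dvd_pow_self p (by omega)
    have h2 := (Nat.prime_dvd_prime_iff_eq hp hp'prime).mp (hp.dvd_of_dvd_pow h1)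
    rw [h2]; exact hp'
  -- the `p`-element of `SL₂(F)`
  have hx1 : φ a₀ ≠ 1 := by
    intro h1
    apply ha₀1
    exact φ.injective (by rw [h1, map_one])
  have hxp : IsPGroup p (Subgroup.zpowers (φ a₀)) := by
    have h1 : IsPGroup p (Subgroup.zpowers a₀) :=
      S.isPGroup'.to_le (by rw [Subgroup.zpowers_le]; exact ha₀S)
    have h2 := h1.map φ.toMonoidHom
    rw [MonoidHom.map_zpowers] at h2
    exact h2
  have hcardSL := Cfsg.Agent.S2231.card_SL2 (K := F)
  rw [hF] at hcardSL
  by_cases h23 : p = 2 ∧ n = 3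
  · -- the field with eight elements
    obtain ⟨rfl, rfl⟩ := h23
    have hF8 : Fintype.card F = 8 := by rw [hF]; norm_num
    obtain ⟨g, hg⟩ := Cfsg.Agent.Helper8.Sq.exists_conj_orderOf_nine hF8 (φ a₀) hx1 hxp
    refine Cfsg.Agent.Helper8.Sq.main_step V H hVp hHV hf φ a₀ g 3 1 3 Nat.prime_three
      (by norm_num) (by rw [hg]; norm_num) ?_
    intro k hk0 hk6
    interval_cases k <;> norm_num
  · -- a primitive prime divisor
    obtain ⟨r, hr, hrdvd, hrmin⟩ := Cfsg.Agent.S2904.result p (2 * n) hp.one_lt (by omega)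
      (by
        rintro ⟨h1, h2⟩
        exact h23 ⟨h1, by omega⟩)
      (by
        rintro ⟨h1, -⟩
        omega)
    have hrp : r ≠ p := by
      rintro rfl
      have h1 : r ∣ r ^ (2 * n) := dvd_pow_self r (by omega)
      have h2 : 1 ≤ r ^ (2 * n) := Nat.one_le_pow _ _ hp.pos
      have h3 : r ∣ 1 := by
        have := Nat.dvd_sub h1 hrdvd
        rwa [Nat.sub_sub_self h2] at this
      exact hp.one_lt.ne' (Nat.dvd_one.mp h3)
    have hr2 : r ≠ 2 := by
      rintro rfl
      rcases hp.eq_two_or_odd with h2 | hodd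
      · rw [h2] at hrdvd
        have h1 : (2 ^ (2 * n) - 1) % 2 = 1 := by
          have h3 : 2 ^ (2 * n) = 2 * 2 ^ (2 * n - 1) := by
            rw [← pow_succ']; congr 1; omega
          have h4 : 1 ≤ 2 ^ (2 * n - 1) := Nat.one_le_two_pow
          omega
        omega
      · apply hrmin 1 (by norm_num) (by omega)
        rw [pow_one]
        omega
    have hdvd : r ∣ Nat.card (Matrix.SpecialLinearGroup (Fin 2) F) := by
      rw [hcardSL, ← pow_mul, mul_comm n 2]
      exact Dvd.dvd.mul_left hrdvd _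
    obtain ⟨g, hg⟩ := Cfsg.Agent.Helper8.Sq.exists_conj_orderOf p r hr hr2 hdvd (φ a₀) hx1 hxp
    refine Cfsg.Agent.Helper8.Sq.main_step V H hVp hHV hf φ a₀ g r 0 n hr hrp
      (by rw [hg]; simp) ?_
    intro k hk0 hk
    rw [zero_add, pow_one]
    exact hrmin k hk0 hk

end Cfsg.Agent.S2788
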