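import Mathlib
import Cfsg.Agent.Helper5.PReduced
import Cfsg.Agent.Helper5.PReducedRel
import Cfsg.Agent.Helper5.PReducedRel2
import Cfsg.Agent.Helper5.PResidual
import Cfsg.Agent.Helper5.Cores
import Cfsg.Agent.Helper1.Coprime
import Cfsg.Agent.Helper1.PQLemma
import Cfsg.Agent.Helper1.FrattiniAct
import Cfsg.Agent.Helper1.Fitting
import Cfsg.Agent.Helper2.SubnormalP
import Cfsg.Statements.S2804
-- import your own Cfsg.Agent.* helpers here

set_option autoImplicit false
open Cfsg Cfsg.Agent.Helper5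
open scoped commutatorElement

namespace Cfsg.Agent.S2804

/-- Let L be a finite group and p a prime with C_L(O_p(L)) ≤ O_p(L), V a p-reduced normal subgroup of L and K a subnormal subgroup of L. Then [V, O^p(K)] is contained in K and is a p-reduced normal subgroup of K, where O^p(K) is the subgroup of K generated by its elements of order prime to p. -/
theorem result {L : Type*} [Group L] [Finite L] {p : ℕ} [Fact p.Prime] (hchar : Subgroup.centralizer (Cfsg.pCore p L : Set L) ≤ Cfsg.pCore p L) (V : Subgroup L) (hV : Cfsg.IsPReducedNormal p V) (K : Subgroup L) (hK : K.IsSubnormal) : ⁅V, (Cfsg.pResidual p ↥K).map K.subtype⁆ ≤ K ∧ Cfsg.IsPReducedNormal p ((⁅V, (Cfsg.pResidual p ↥K).map K.subtype⁆).subgroupOf K) := by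
  classical
  have hp : p.Prime := Fact.out
  obtain ⟨hVn, hVel, hCn, hcore⟩ := hV
  have hRK : (Cfsg.pResidual p ↥K).map K.subtype ≤ K := Subgroup.map_subtype_le _
  have hRcl : (Cfsg.pResidual p ↥K).map K.subtype =
      Subgroup.closure {g : L | g ∈ K ∧ (orderOf g).Coprime p} := map_subtype_pResidual p K
  have hVp : IsPGroup p ↥V := by
    intro v
    refine ⟨1, ?_⟩
    rw [pow_one]
    exact Subtype.ext (by simpa using hVel.2 v v.2)
  have hVP : V ≤ Cfsg.pCore p L := le_pCore hVn hVp
  have hPR : Cfsg.pCore p L ≤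
      Subgroup.normalizer (((Cfsg.pResidual p ↥K).map K.subtype : Subgroup L) : Set L) := by
    have hPp : IsPGroup p ↥(Cfsg.pCore p L) := isPGroup_pCore p
    have heq : (Cfsg.pResidual p ↥(Cfsg.pCore p L ⊔ K)).map (Cfsg.pCore p L ⊔ K).subtype =
        (Cfsg.pResidual p ↥K).map K.subtype := by
      rw [hRcl, map_subtype_pResidual]
      congr 1
      ext g
      constructor
      · rintro ⟨hg, hgp⟩
        exact ⟨Cfsg.Agent.Helper2.mem_of_coprime_orderOf_of_mem_normal_sup_subnormal
          (Cfsg.pCore p L) hPp hK g hg hgp, hgp⟩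
      · rintro ⟨hg, hgp⟩
        exact ⟨Subgroup.mem_sup_right hg, hgp⟩
    rw [← heq]
    have hchar : (Cfsg.pResidual p ↥(Cfsg.pCore p L ⊔ K)).Characteristic :=
      pResidual_characteristic p
    exact (le_sup_left.trans Subgroup.le_normalizer).trans
      (Cfsg.Agent.Helper1.le_normalizer_map_of_characteristic (Cfsg.pCore p L ⊔ K) _)
  have hVR : V ≤ Subgroup.normalizer (((Cfsg.pResidual p ↥K).map K.subtype : Subgroup L) : Set L) :=
    hVP.trans hPR
  have hWR : ⁅V, (Cfsg.pResidual p ↥K).map K.subtype⁆ ≤ (Cfsg.pResidual p ↥K).map K.subtype := by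
    rw [Subgroup.commutator_comm]
    exact Subgroup.le_normalizer_iff_commutator_le_left.1 hVR
  have hWK : ⁅V, (Cfsg.pResidual p ↥K).map K.subtype⁆ ≤ K := hWR.trans hRK
  have hWV : ⁅V, (Cfsg.pResidual p ↥K).map K.subtype⁆ ≤ V := Subgroup.commutator_le_left V _
  refine ⟨hWK, ?_⟩
  rw [isPReducedNormal_iff_pRed, pRed_iff_pRedIn_map]
  have hmap : ((⁅V, (Cfsg.pResidual p ↥K).map K.subtype⁆).subgroupOf K).map K.subtype =
      ⁅V, (Cfsg.pResidual p ↥K).map K.subtype⁆ := by
    rw [Subgroup.subgroupOf_map_subtype, inf_eq_left.mpr hWK]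
  rw [hmap]
  have hKR : K ≤ Subgroup.normalizer (((Cfsg.pResidual p ↥K).map K.subtype : Subgroup L) : Set L) := by
    have hchar : (Cfsg.pResidual p ↥K).Characteristic := pResidual_characteristic p
    exact Subgroup.le_normalizer.trans
      (Cfsg.Agent.Helper1.le_normalizer_map_of_characteristic K _)
  have hKV : K ≤ Subgroup.normalizer (V : Set L) := by
    rw [Subgroup.normalizer_eq_top]; exact le_top
  have hKW : K ≤ Subgroup.normalizer
      ((⁅V, (Cfsg.pResidual p ↥K).map K.subtype⁆ : Subgroup L) : Set L) :=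
    Cfsg.Agent.Helper1.le_normalizer_commutator hKV hKR
  refine ⟨hWK, hKW, IsElementaryAbelian.of_le hVel hWV, ?_⟩
  intro D hDK hKD hDp
  have hDsub : D.IsSubnormal := Subgroup.IsSubnormal.trans hDK
    ((Subgroup.normal_subgroupOf_iff_le_normalizer hDK).mpr hKD).isSubnormal hK
  have hp' : ∀ x ∈ D, (orderOf x).Coprime p → x ∈ Subgroup.centralizer (V : Set L) := by
    intro x hx hxp
    obtain ⟨k, hk⟩ := hDp x hx
    have hxW : x ∈ Subgroup.centralizer
        ((⁅V, (Cfsg.pResidual p ↥K).map K.subtype⁆ : Subgroup L) : Set L) := by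
      have hcop : (p ^ k).gcd (orderOf x) = 1 := (Nat.Coprime.pow_right k hxp).symm
      have : x ∈ Subgroup.zpowers (x ^ p ^ k) := mem_zpowers_pow_iff.mpr hcop
      exact (Subgroup.zpowers_le.mpr hk) this
    have hxR : x ∈ (Cfsg.pResidual p ↥K).map K.subtype := by
      rw [hRcl]; exact Subgroup.subset_closure ⟨hDK hx, hxp⟩
    have hA : Subgroup.zpowers x ≤ Subgroup.normalizer (V : Set L) := by
      rw [Subgroup.normalizer_eq_top]; exact le_top
    have hcopA : (Nat.card (Subgroup.zpowers x)).Coprime (Nat.card V) := by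
      rw [Nat.card_zpowers]
      obtain ⟨n, hn⟩ := IsPGroup.iff_card.mp hVp
      rw [hn]; exact Nat.Coprime.pow_right n hxp
    have hcc := Cfsg.Agent.Helper1.coprime_commutator_commutator (Subgroup.zpowers x) V hA hcopA
      (Or.inl inferInstance)
    have h1 : ⁅V, Subgroup.zpowers x⁆ ≤ ⁅V, (Cfsg.pResidual p ↥K).map K.subtype⁆ :=
      Subgroup.commutator_mono le_rfl (Subgroup.zpowers_le.mpr hxR)
    have h2 : ⁅⁅V, Subgroup.zpowers x⁆, Subgroup.zpowers x⁆ = ⊥ := by
      rw [eq_bot_iff]
      calc ⁅⁅V, Subgroup.zpowers x⁆, Subgroup.zpowers x⁆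
          ≤ ⁅⁅V, (Cfsg.pResidual p ↥K).map K.subtype⁆, Subgroup.zpowers x⁆ :=
            Subgroup.commutator_mono h1 le_rfl
        _ ≤ ⊥ := by
          rw [Subgroup.commutator_le]
          intro w hw a ha
          rw [Subgroup.mem_bot, commutatorElement_eq_one_iff_mul_comm]
          have : a ∈ Subgroup.centralizer
              ((⁅V, (Cfsg.pResidual p ↥K).map K.subtype⁆ : Subgroup L) : Set L) :=
            (Subgroup.zpowers_le.mpr hxW) ha
          exact Subgroup.mem_centralizer_iff.mp this w hw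
    rw [hcc] at h2
    rw [Subgroup.mem_centralizer_iff]
    intro v hv
    have : ⁅v, x⁆ ∈ ⁅V, Subgroup.zpowers x⁆ :=
      Subgroup.commutator_mem_commutator hv (Subgroup.mem_zpowers x)
    rw [h2, Subgroup.mem_bot, commutatorElement_eq_one_iff_mul_comm] at this
    exact this
  have hDp' : ∀ d ∈ D, ∃ a : ℕ, d ^ p ^ a ∈ Subgroup.centralizer (V : Set L) := by
    intro d hd
    obtain ⟨a, m, hm, hdm⟩ := Nat.exists_eq_pow_mul_and_not_dvd (orderOf_pos d).ne' p hp.ne_one
    refine ⟨a, hp' _ (D.pow_mem hd _) ?_⟩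
    rw [orderOf_pow_of_dvd (pow_pos hp.pos a).ne' (by rw [hdm]; exact dvd_mul_right _ _), hdm,
      Nat.mul_div_cancel_left _ (pow_pos hp.pos a)]
    exact ((Nat.Prime.coprime_iff_not_dvd hp).mpr hm).symm
  have hDC : D ≤ Subgroup.centralizer (V : Set L) := by
    have hsurj := QuotientGroup.mk'_surjective (Subgroup.centralizer (V : Set L))
    have hDbar : (D.map (QuotientGroup.mk' (Subgroup.centralizer (V : Set L)))).IsSubnormal :=
      hDsub.map hsurj
    have hDbarp : IsPGroup p ↥(D.map (QuotientGroup.mk' (Subgroup.centralizer (V : Set L)))) := by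
      rintro ⟨_, d, hd, rfl⟩
      obtain ⟨a, ha⟩ := hDp' d hd
      refine ⟨a, Subtype.ext ?_⟩
      rw [Subgroup.coe_pow, Subgroup.coe_one, ← map_pow]
      exact (QuotientGroup.eq_one_iff _).mpr ha
    have hle := Cfsg.Agent.Helper2.isSubnormal_pGroup_le_pCore hDbar hDbarp
    rw [hcore] at hle
    intro d hd
    have h1 : QuotientGroup.mk' (Subgroup.centralizer (V : Set L)) d ∈
        (⊥ : Subgroup (L ⧸ Subgroup.centralizer (V : Set L))) :=
      hle (Subgroup.mem_map_of_mem _ hd)
    rw [Subgroup.mem_bot] at h1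
    exact (QuotientGroup.eq_one_iff d).mp h1
  exact hDC.trans (Subgroup.centralizer_le (by exact_mod_cast hWV))

end Cfsg.Agent.S2804
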