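import Mathlib
import Cfsg.Agent.Helper5.Kieler
import Cfsg.Agent.Helper1.Subnormal
import Cfsg.Agent.Helper5.CharP2
import Cfsg.Agent.Helper5.Cores
import Cfsg.Statements.S2805
-- import your own Cfsg.Agent.* helpers here

set_option autoImplicit false
open Cfsg Cfsg.Agent.Helper5

namespace Cfsg.Agent.S2805

open Cfsg.Agent.Helper5.Kieler

variable {H : Type*} [Group H]

theorem normalizer_le_normalizer_pCore_map [Finite H] {p : ℕ} [Fact p.Prime] (L : Subgroup H) :
    Subgroup.normalizer (L : Set H) ≤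
      Subgroup.normalizer (((Cfsg.pCore p ↥L).map L.subtype : Subgroup H) : Set H) := by
  apply le_normalizer_of_conj_mem
  intro k hk x hx
  set Q := (Cfsg.pCore p ↥L).map L.subtype with hQ
  have hQL : Q ≤ L := pCore_map_subtype_le p L
  have hQp : IsPGroup p Q := isPGroup_pCore_map_subtype p L
  have hLQ : L ≤ Subgroup.normalizer (Q : Set H) := le_normalizer_pCore_map_subtype p L
  have h1 : Q.map (MulAut.conj k).toMonoidHom ≤ Q := by
    apply le_pCore_map_subtype L _ _ (hQp.map _)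
    · rintro l hl
      rw [Subgroup.mem_normalizer_iff]
      have hl' : k⁻¹ * l * k⁻¹⁻¹ ∈ L :=
        (Subgroup.mem_normalizer_iff.mp (Subgroup.inv_mem _ hk) l).mp hl
      have key : ∀ y ∈ Q.map (MulAut.conj k).toMonoidHom, ∀ m ∈ L, k⁻¹ * m * k⁻¹⁻¹ ∈ L →
          m * y * m⁻¹ ∈ Q.map (MulAut.conj k).toMonoidHom := by
        rintro _ ⟨q, hq, rfl⟩ m _ hm'
        have h2 := (Subgroup.mem_normalizer_iff.mp (hLQ hm') q).mp hq
        refine ⟨_, h2, ?_⟩
        simp only [MulEquiv.coe_toMonoidHom, MulAut.conj_apply]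
        group
      intro y
      constructor
      · intro hy
        exact key y hy l hl hl'
      · intro hy
        have hli : l⁻¹ ∈ L := L.inv_mem hl
        have hli' : k⁻¹ * l⁻¹ * k⁻¹⁻¹ ∈ L :=
          (Subgroup.mem_normalizer_iff.mp (Subgroup.inv_mem _ hk) l⁻¹).mp hli
        have := key _ hy l⁻¹ hli hli'
        have e : l⁻¹ * (l * y * l⁻¹) * l⁻¹⁻¹ = y := by group
        rwa [e] at this
    · rintro _ ⟨q, hq, rfl⟩
      exact (Subgroup.mem_normalizer_iff.mp hk q).mp (hQL hq)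
  exact h1 ⟨x, hx, rfl⟩

/-- the data `M = Z(O_p(K))` for a subnormal subgroup `K` of a group of characteristic `p` -/
theorem zcenter_data [Finite H] {p : ℕ} [Fact p.Prime]
    (hH : Subgroup.centralizer (Cfsg.pCore p H : Set H) ≤ Cfsg.pCore p H) (T : Sylow p H)
    (K : Subgroup H) (hK : K.IsSubnormal) :
    ∃ M : Subgroup H, (∀ x ∈ M, ∀ y ∈ M, x * y = y * x) ∧
      Subgroup.normalizer (K : Set H) ≤ Subgroup.normalizer (M : Set H) ∧
      M ≤ (T : Subgroup H) ⊓ K ∧ zset p ((T : Subgroup H) ⊓ K) ⊆ M := by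
  set Q := (Cfsg.pCore p ↥K).map K.subtype with hQ
  have hQK : Q ≤ K := pCore_map_subtype_le p K
  have hQT : Q ≤ (T : Subgroup H) := by
    obtain ⟨S, hS⟩ := Cfsg.Agent.Helper1.sylow_inf_subnormal p K hK T
    rintro _ ⟨y, hy, rfl⟩
    have h1 : y ∈ (S : Subgroup ↥K) := pCore_le_sylow S hy
    rw [hS, Subgroup.mem_subgroupOf] at h1
    exact h1
  have hchar : HasCharP p ↥K := HasCharP.of_subnormal hH K hK
  refine ⟨Q ⊓ Subgroup.centralizer (Q : Set H), ?_, ?_, ?_, ?_⟩
  · intro x hx y hy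
    exact (Subgroup.mem_centralizer_iff.mp hy.2 x hx.1)
  · intro k hk
    have h1 := normalizer_le_normalizer_pCore_map (p := p) K hk
    exact mem_normalizer_inf _ _ k h1 (normalizer_le_normalizer_centralizer Q h1)
  · exact inf_le_left.trans (le_inf hQT hQK)
  · rintro a ⟨haT, -⟩
    have haK : a ∈ K := haT.1.2
    have hacen : a ∈ Subgroup.centralizer (Q : Set H) := by
      rw [Subgroup.mem_centralizer_iff]
      intro q hq
      exact Subgroup.mem_centralizer_iff.mp haT.2 q (Subgroup.mem_inf.mpr ⟨hQT hq, hQK hq⟩)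
    have h1 : (⟨a, haK⟩ : ↥K) ∈ Subgroup.centralizer (Cfsg.pCore p ↥K : Set ↥K) :=
      (mem_centralizer_pCore_iff p K ⟨a, haK⟩).mpr hacen
    have h2 : (⟨a, haK⟩ : ↥K) ∈ Cfsg.pCore p ↥K := hchar h1
    exact Subgroup.mem_inf.mpr ⟨⟨⟨a, haK⟩, h2, rfl⟩, hacen⟩

theorem kieler_zset [Finite H] {p : ℕ} [Fact p.Prime]
    (hH : Subgroup.centralizer (Cfsg.pCore p H : Set H) ≤ Cfsg.pCore p H) (T : Sylow p H)
    (L : Subgroup H) (hL : L.IsSubnormal) :
    L ⊓ Subgroup.centralizer (zset p (T : Subgroup H)) =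
      L ⊓ Subgroup.centralizer (zset p ((T : Subgroup H) ⊓ L)) := by
  induction hL with
  | top => rw [inf_top_eq]
  | step L K hLK hKs hN ih =>
    have hLs : L.IsSubnormal := Subgroup.IsSubnormal.step L K hLK hKs hN
    have hKL : K ≤ Subgroup.normalizer (L : Set H) :=
      (Subgroup.normal_subgroupOf_iff_le_normalizer hLK).mp hN
    obtain ⟨MH, hMHc, hKMH, hMHT, hZMH⟩ := zcenter_data hH T K hKs
    obtain ⟨ME, hMEc, hLME, hMET, hZME⟩ := zcenter_data hH T L hLs
    have hinf : (T : Subgroup H) ⊓ K ⊓ L = (T : Subgroup H) ⊓ L := by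
      rw [inf_assoc, inf_eq_right.mpr hLK]
    have hSyl : ¬ p ∣ ((T : Subgroup H) ⊓ K ⊓ L).relIndex L := by
      rw [hinf, Subgroup.inf_relIndex_right]
      exact Cfsg.Agent.Helper1.sylow_relIndex_subnormal p T hLs
    have key := kieler_normal ((T : Subgroup H) ⊓ K) L MH ME (T.2.to_le inf_le_left)
      (inf_le_right.trans hKL) hSyl hMHc
      ((hLK.trans Subgroup.le_normalizer).trans hKMH) hMHT hZMH hMEc
      (Subgroup.le_normalizer.trans hLME) ((inf_le_right.trans hKL).trans hLME)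
      (by rw [hinf]; exact hMET) (by rw [hinf]; exact hZME)
    rw [hinf] at key
    rw [← key]
    have h1 : L ⊓ Subgroup.centralizer (zset p (T : Subgroup H)) =
        L ⊓ (K ⊓ Subgroup.centralizer (zset p (T : Subgroup H))) := by
      rw [← inf_assoc, inf_eq_left.mpr hLK]
    rw [h1, ih, ← inf_assoc, inf_eq_left.mpr hLK]

/-- Kieler's Lemma: let H be a finite group of characteristic p (C_H(O_p(H)) ≤ O_p(H)), T a Sylow p-subgroup of H and L a subnormal subgroup of H. Then C_L(Ω₁(Z(T))) = C_L(Ω₁(Z(T ∩ L))), Ω₁(Z(·)) denoting the elements of order dividing p in the centre. -/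
theorem result {H : Type*} [Group H] [Finite H] {p : ℕ} [Fact p.Prime] (hH : Subgroup.centralizer (Cfsg.pCore p H : Set H) ≤ Cfsg.pCore p H) (T : Sylow p H) (L : Subgroup H) (hL : L.IsSubnormal) : L ⊓ Subgroup.centralizer ((Cfsg.omegaOne p ((T : Subgroup H) ⊓ Subgroup.centralizer ((T : Subgroup H) : Set H))) : Set H) = L ⊓ Subgroup.centralizer ((Cfsg.omegaOne p (((T : Subgroup H) ⊓ L) ⊓ Subgroup.centralizer ((((T : Subgroup H) ⊓ L) : Subgroup H) : Set H))) : Set H) := by
  have h := kieler_zset hH T L hL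
  unfold Cfsg.omegaOne
  rw [Subgroup.centralizer_closure, Subgroup.centralizer_closure]
  exact h

end Cfsg.Agent.S2805
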