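import Cfsg.Statements.S2806
import Cfsg.Agent.Kieler.Local
import Cfsg.Agent.Kieler.Assemble
import Cfsg.Agent.Helper5.SubnormalSylow2

set_option autoImplicit false
open Cfsg

namespace Cfsg.Agent.S2806

open Cfsg.Agent.Kieler Cfsg.Agent.Helper5

/-- For subnormal `X`, the point stabilizer of `X` with respect to `T ⊓ X` is `klP p T X`. -/
theorem pointStabilizer_eq_klP {H : Type*} [Group H] [Finite H] {p : ℕ} [Fact p.Prime]
    (hH : Cfsg.IsOfLocalCharacteristic p H) (T : Sylow p H) (X : Subgroup H) (hX : X.IsSubnormal) :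
    Cfsg.pointStabilizer p X ((T : Subgroup H) ⊓ X) = klP p (T : Subgroup H) X := by
  unfold Cfsg.pointStabilizer klP
  congr 1
  ext x
  simp only [Set.mem_ofPred_eq, Subgroup.mem_inf]
  constructor
  · rintro ⟨⟨hxX, hxc⟩, hxp⟩
    rw [kl_mem_centralizer_omegaOne_iff] at hxc
    exact ⟨hxX, (kl_subnormal hH T X hX hxX hxp).mpr hxc, hxp⟩
  · rintro ⟨hxX, hxO, hxp⟩
    refine ⟨⟨hxX, ?_⟩, hxp⟩
    rw [kl_mem_centralizer_omegaOne_iff]
    exact (kl_subnormal hH T X hX hxX hxp).mp hxO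

/-- Let H be a finite group of local characteristic p, T a Sylow p-subgroup, and L₁, L₂ subnormal subgroups of H generating the subgroup L. Then the point stabilizer of L with respect to T ∩ L is generated by the point stabilizers of L₁ and L₂ with respect to T ∩ L₁ and T ∩ L₂ (point stabilizer of X w.r.t. R: the subgroup generated by the p-elements of X centralizing Ω₁(Z(R))). -/
theorem result {H : Type*} [Group H] [Finite H] {p : ℕ} [Fact p.Prime] (hH : Cfsg.IsOfLocalCharacteristic p H) (T : Sylow p H) (L₁ L₂ : Subgroup H) (h₁ : L₁.IsSubnormal) (h₂ : L₂.IsSubnormal) : Cfsg.pointStabilizer p (L₁ ⊔ L₂) ((T : Subgroup H) ⊓ (L₁ ⊔ L₂)) = Cfsg.pointStabilizer p L₁ ((T : Subgroup H) ⊓ L₁) ⊔ Cfsg.pointStabilizer p L₂ ((T : Subgroup H) ⊓ L₂) := by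
  classical
  have hL : (L₁ ⊔ L₂).IsSubnormal := isSubnormal_sup' h₁ h₂
  rw [pointStabilizer_eq_klP hH T _ hL, pointStabilizer_eq_klP hH T _ h₁,
    pointStabilizer_eq_klP hH T _ h₂]
  set Tg : Subgroup H := (T : Subgroup H) with hTg
  set L : Subgroup H := L₁ ⊔ L₂ with hLdef
  have hTp : IsPGroup p ↥Tg := T.isPGroup'
  apply le_antisymm
  · -- the hard inclusion
    set Y : Subgroup H := L ⊓ omzSub p Tg with hY
    set R : Subgroup H := klP p Tg L₁ ⊔ klP p Tg L₂ with hR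
    have hL₁L : L₁ ≤ L := le_sup_left
    have hL₂L : L₂ ≤ L := le_sup_right
    have hP₁Y : klP p Tg L₁ ≤ Y :=
      (klP_le p Tg L₁).trans (inf_le_inf_right _ hL₁L)
    have hP₂Y : klP p Tg L₂ ≤ Y :=
      (klP_le p Tg L₂).trans (inf_le_inf_right _ hL₂L)
    -- subnormality of `klP p Tg Lᵢ` inside `Y`
    have hsub : ∀ Li : Subgroup H, Li.IsSubnormal → Li ≤ L →
        ((klP p Tg Li).subgroupOf Y).IsSubnormal := by
      intro Li hLi hLiL
      have hB : (Li.subgroupOf Y).IsSubnormal := hLi.subgroupOf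
      have hAB : (klP p Tg Li).subgroupOf Y ≤ Li.subgroupOf Y := by
        intro y hy
        rw [Subgroup.mem_subgroupOf] at hy ⊢
        exact (Subgroup.mem_inf.mp (klP_le p Tg Li hy)).1
      refine Subgroup.IsSubnormal.step _ _ hAB hB ?_
      constructor
      intro n hn g
      rw [Subgroup.mem_subgroupOf, Subgroup.mem_subgroupOf] at hn ⊢
      have hg1 : ((g : ↥Y) : H) ∈ Li := Subgroup.mem_subgroupOf.mp g.2
      have hg2 : ((g : ↥Y) : H) ∈ omzSub p Tg := (Subgroup.mem_inf.mp (g : ↥Y).2).2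
      have := kl_conj_mem_klP p Tg Li ((g : ↥Y) : H) (Subgroup.mem_inf.mpr ⟨hg1, hg2⟩) _ hn
      simpa using this
    have hRsub : (R.subgroupOf Y).IsSubnormal := by
      rw [hR, Subgroup.subgroupOf_sup hP₁Y hP₂Y]
      exact isSubnormal_sup' (hsub L₁ h₁ hL₁L) (hsub L₂ h₂ hL₂L)
    -- the Sylow subgroup `T ⊓ L` of `Y`
    have hTLY : Tg ⊓ L ≤ Y := by
      intro y hy
      obtain ⟨hyT, hyL⟩ := Subgroup.mem_inf.mp hy
      exact Subgroup.mem_inf.mpr ⟨hyL, OmZ.of_mem hyT⟩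
    have hidx : ¬ p ∣ ((Tg ⊓ L).subgroupOf Y).index := by
      have h1 : ¬ p ∣ Tg.relIndex L := Cfsg.Agent.Helper1.sylow_relIndex_subnormal p T hL
      have h2 : (Tg ⊓ L).relIndex L = Tg.relIndex L := Subgroup.inf_relIndex_right Tg L
      have h3 : (Tg ⊓ L).relIndex Y * Y.relIndex L = (Tg ⊓ L).relIndex L :=
        Subgroup.relIndex_mul_relIndex (Tg ⊓ L) Y L hTLY inf_le_left
      intro hdvd
      apply h1
      rw [← h2, ← h3]
      exact Dvd.dvd.mul_right hdvd _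
    have hpg : IsPGroup p ↥((Tg ⊓ L).subgroupOf Y) := by
      have : IsPGroup p ↥(Tg ⊓ L) := hTp.to_le inf_le_left
      exact this.comap_subtype
    set PY : Sylow p ↥Y := hpg.toSylow hidx with hPY
    have hTLR : Tg ⊓ L ≤ R := by
      have h1 : L ⊓ Tg = (L₁ ⊓ Tg) ⊔ (L₂ ⊓ Tg) := sylow_inf_sup_subnormal T L₁ L₂ h₁ h₂
      rw [inf_comm, h1]
      apply sup_le_sup
      · rw [inf_comm]; exact kl_inf_le_klP Tg L₁ hTp
      · rw [inf_comm]; exact kl_inf_le_klP Tg L₂ hTp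
    have hPYR : (PY : Subgroup ↥Y) ≤ R.subgroupOf Y := by
      rw [hPY, IsPGroup.toSylow_coe]
      intro y hy
      rw [Subgroup.mem_subgroupOf] at hy ⊢
      exact hTLR hy
    -- every generator lies in `R`
    rw [klP, Subgroup.closure_le]
    rintro x ⟨hxL, hxO, hxp⟩
    have hxY : x ∈ Y := Subgroup.mem_inf.mpr ⟨hxL, hxO⟩
    have hxp' : ∃ k : ℕ, orderOf (⟨x, hxY⟩ : ↥Y) = p ^ k := by
      obtain ⟨k, hk⟩ := hxp
      exact ⟨k, by rw [Subgroup.orderOf_mk]; exact hk⟩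
    have := kl_mem_of_subnormal_of_sylow_le PY hRsub hPYR hxp'
    rw [Subgroup.mem_subgroupOf] at this
    exact this
  · exact sup_le (klP_mono p Tg le_sup_left) (klP_mono p Tg le_sup_right)

end Cfsg.Agent.S2806
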