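import Mathlib
import Cfsg.Agent.Helper5.CharP
import Cfsg.Statements.S2809
-- import your own Cfsg.Agent.* helpers here

set_option autoImplicit false
open Cfsg

namespace Cfsg.Agent.S2809

open scoped commutatorElement

theorem iter_le {H : Type*} [Group H] (R L : Subgroup H) (hL : L ≤ Subgroup.normalizer (R : Set H)) :
    ∀ i : ℕ, Cfsg.iterCommutator R L i ≤ R := by
  intro i
  induction i with
  | zero => exact le_rfl
  | succ i ih =>
    show ⁅Cfsg.iterCommutator R L i, L⁆ ≤ R
    rw [Subgroup.commutator_le]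
    intro r hr l hl
    have h1 : l * r⁻¹ * l⁻¹ ∈ R := (Subgroup.mem_normalizer_iff.mp (hL hl) r⁻¹).mp (Subgroup.inv_mem _ (ih hr))
    have h2 : ⁅r, l⁆ = r * (l * r⁻¹ * l⁻¹) := by rw [commutatorElement_def]; group
    rw [h2]
    exact Subgroup.mul_mem _ (ih hr) h1

/-- Let H be a finite group, p a prime, R a p-subgroup of H with C_H(R) ≤ R, and L a subgroup of N_H(R) acting nilpotently on R (some iterated commutator [R, L, …, L] is trivial). Then L is a p-group. -/
theorem result {H : Type*} [Group H] [Finite H] {p : ℕ} [Fact p.Prime] (R : Subgroup H) (hR : IsPGroup p ↥R) (hC : Subgroup.centralizer (R : Set H) ≤ R) (L : Subgroup H) (hL : L ≤ Subgroup.normalizer (R : Set H)) (hnil : ∃ n : ℕ, Cfsg.iterCommutator R L n = ⊥) : IsPGroup p ↥L := by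
  obtain ⟨n, hn⟩ := hnil
  apply Cfsg.Agent.Helper5.isPGroup_of_pprime_elements
  intro c hcL hcop
  have key : ∀ j : ℕ, j ≤ n → ∀ q ∈ Cfsg.iterCommutator R L (n - j), c * q = q * c := by
    intro j
    induction j with
    | zero =>
      intro _ q hq
      rw [Nat.sub_zero, hn, Subgroup.mem_bot] at hq
      rw [hq]; simp
    | succ j ih =>
      intro hj q hq
      have hstep : n - j = (n - (j + 1)) + 1 := by omega
      have ih' := ih (by omega)
      have hrmem : q⁻¹ * (c * q * c⁻¹) ∈ Cfsg.iterCommutator R L (n - j) := by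
        rw [hstep]
        show q⁻¹ * (c * q * c⁻¹) ∈ ⁅Cfsg.iterCommutator R L (n - (j + 1)), L⁆
        have h2 : q⁻¹ * (c * q * c⁻¹) = ⁅q⁻¹, c⁆ := by rw [commutatorElement_def]; group
        rw [h2]
        exact Subgroup.commutator_mem_commutator (Subgroup.inv_mem _ hq) hcL
      apply Cfsg.Agent.Helper5.stability_elt (p := p) c q hcop
      · have hrR : q⁻¹ * (c * q * c⁻¹) ∈ R := iter_le R L hL _ hrmem
        obtain ⟨k, hk⟩ := hR ⟨_, hrR⟩
        exact ⟨k, by simpa using congrArg Subtype.val hk⟩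
      · exact ih' _ hrmem
  have hcen : c ∈ Subgroup.centralizer (R : Set H) := by
    rw [Subgroup.mem_centralizer_iff]
    intro q hq
    have := key n le_rfl q (by rw [Nat.sub_self]; exact hq)
    exact this.symm
  exact Cfsg.Agent.Helper5.eq_one_of_coprime_of_mem_pgroup R hR c (hC hcen) hcop

end Cfsg.Agent.S2809
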