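import Mathlib
import Cfsg.Agent.Helper5.CharP
import Cfsg.Agent.Helper5.CharP2
import Cfsg.Agent.Helper5.Cores
import Cfsg.Statements.S2810
-- import your own Cfsg.Agent.* helpers here

set_option autoImplicit false
open Cfsg

namespace Cfsg.Agent.S2810

open scoped commutatorElement

/-- Let H be a finite group of characteristic p and L a subgroup of H centralizing every factor of some H-invariant chain 1 = A₀ ≤ A₁ ≤ … ≤ Aₙ = O_p(H) of normal subgroups (that is, [A_{i+1}, L] ≤ Aᵢ for each i). Then L ≤ O_p(H). -/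
theorem result {H : Type*} [Group H] [Finite H] {p : ℕ} [Fact p.Prime] (hchar : Subgroup.centralizer (Cfsg.pCore p H : Set H) ≤ Cfsg.pCore p H) (L : Subgroup H) (n : ℕ) (A : Fin (n + 1) → Subgroup H) (h0 : A 0 = ⊥) (hn : A (Fin.last n) = Cfsg.pCore p H) (hmono : Monotone A) (hnorm : ∀ i, (A i).Normal) (hcent : ∀ i : Fin n, ⁅A i.succ, L⁆ ≤ A i.castSucc) : L ≤ Cfsg.pCore p H := by
  open Cfsg.Agent.Helper5 in
  have hnormAll : ∀ (i : Fin (n + 1)) (g : H), g ∈ Subgroup.normalizer ((A i : Subgroup H) : Set H) := by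
    intro i g
    rw [Subgroup.normalizer_eq_top_iff.mpr (hnorm i)]; exact Subgroup.mem_top g
  have hAp : ∀ i : Fin (n + 1), IsPGroup p (A i) := by
    intro i
    have : A i ≤ Cfsg.pCore p H := by rw [← hn]; exact hmono (Fin.le_last i)
    exact (isPGroup_pCore p).to_le this
  set C : Subgroup H := ⨅ i : Fin n, stabMod (A i.succ) (A i.castSucc) with hCdef
  have hCn : C.Normal := by
    apply Subgroup.normal_iInf_normal
    intro i
    constructor
    intro g hg x
    exact conj_mem_stabMod _ _ x g (hnormAll _ x) (hnormAll _ x) hg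
  have hCp : IsPGroup p C := by
    apply isPGroup_of_pprime_elements
    intro k hk hkp
    have hk' : ∀ i : Fin n, k ∈ stabMod (A i.succ) (A i.castSucc) := by
      intro i
      exact (Subgroup.mem_iInf.mp hk) i
    have hcen : ∀ i : Fin (n + 1), ∀ a ∈ A i, k * a = a * k := by
      intro i
      induction i using Fin.induction with
      | zero =>
        intro a ha
        rw [h0, Subgroup.mem_bot] at ha
        rw [ha]; simp
      | succ i ih =>
        exact commute_of_mem_stabMod (A i.succ) (A i.castSucc) (hAp _) k (hk' i) hkp ih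
    have hkc : k ∈ Subgroup.centralizer (Cfsg.pCore p H : Set H) := by
      rw [Subgroup.mem_centralizer_iff]
      intro a ha
      rw [← hn] at ha
      exact (hcen _ a ha).symm
    exact eq_one_of_coprime_of_mem_pgroup _ (isPGroup_pCore p) k (hchar hkc) hkp
  have hLC : L ≤ C := by
    intro l hl
    rw [hCdef, Subgroup.mem_iInf]
    intro i
    refine ⟨hnormAll _ l, hnormAll _ l, ?_⟩
    intro a ha
    have h1 : ⁅a⁻¹, l⁆ ∈ ⁅A i.succ, L⁆ := Subgroup.commutator_mem_commutator (Subgroup.inv_mem _ ha) hl
    have h2 : a⁻¹ * (l * a * l⁻¹) = ⁅a⁻¹, l⁆ := by rw [commutatorElement_def]; group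
    rw [h2]
    exact hcent i h1
  exact hLC.trans (le_pCore hCn hCp)

end Cfsg.Agent.S2810
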