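import Mathlib
import Cfsg.Agent.Helper5.FEAction
import Cfsg.Statements.S2812
-- import your own Cfsg.Agent.* helpers here

set_option autoImplicit false
open Cfsg Cfsg.Agent.Helper5

namespace Cfsg.Agent.S2812

/-- Let H be a subgroup of the finite group G with O_p(H) = 1, Y a p-subgroup of G normalizing H, and L a subgroup of the generalized Fitting subgroup F*(H) that is subnormal in H and normalized by Y. Then L = [L, Y]·C_L(Y) and [L, Y] = [L, Y, Y]. -/
theorem result {G : Type*} [Group G] [Finite G] {p : ℕ} [Fact p.Prime] (H : Subgroup G) (hO : Cfsg.pCore p ↥H = ⊥) (Y : Subgroup G) (hY : IsPGroup p ↥Y) (hYH : Y ≤ Subgroup.normalizer (H : Set G)) (L : Subgroup G) (hLF : L ≤ (Cfsg.generalizedFittingSubgroup ↥H).map H.subtype) (hLsn : (L.subgroupOf H).IsSubnormal) (hYL : Y ≤ Subgroup.normalizer (L : Set G)) : ⁅L, Y⁆ ⊔ (L ⊓ Subgroup.centralizer (Y : Set G)) = L ∧ ⁅L, Y⁆ = ⁅⁅L, Y⁆, Y⁆ := by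
  have hLH : L ≤ H := by
    intro x hx
    obtain ⟨y, -, rfl⟩ := hLF hx
    exact y.2
  have hS : L.subgroupOf H ≤ Cfsg.generalizedFittingSubgroup ↥H := by
    intro x hx
    obtain ⟨y, hy, hyx⟩ := hLF (Subgroup.mem_subgroupOf.mp hx)
    have : y = x := Subtype.ext hyx
    rwa [← this]
  have hFE0 : IsFE p ↥(L.subgroupOf H) := isFE_of_subnormal_le_genFitting hO _ hS hLsn
  have hFE : IsFE p ↥L := hFE0.of_equiv (Subgroup.subgroupOfEquivOfLe hLH)
  have h1 := fe_decomp L Y hY hYL hFE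
  exact ⟨h1, (comm_comm_eq_of_decomp Y L h1).symm⟩

end Cfsg.Agent.S2812
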