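import Mathlib
import Cfsg.Agent.Helper5.CharP
import Cfsg.Agent.Helper5.CharP2
import Cfsg.Agent.Helper5.AxB
import Cfsg.Agent.Helper5.Misc
import Cfsg.Statements.S2813
-- import your own Cfsg.Agent.* helpers here

set_option autoImplicit false
open Cfsg

namespace Cfsg.Agent.S2813

open scoped commutatorElement

/-- `⁅K, Y⁆` is normalized by `K`. -/
theorem le_normalizer_commutator_left' {G : Type*} [Group G] [Finite G] (K Y : Subgroup G) :
    K ≤ Subgroup.normalizer ((⁅K, Y⁆ : Subgroup G) : Set G) := by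
  apply Cfsg.Agent.Helper5.le_normalizer_of_conj_mem
  intro k' hk' x hx
  have hle : ⁅K, Y⁆ ≤ (⁅K, Y⁆ : Subgroup G).comap (MulAut.conj k').toMonoidHom := by
    rw [Subgroup.commutator_le]
    intro k hk y hy
    rw [Subgroup.mem_comap]
    have e : (MulAut.conj k').toMonoidHom ⁅k, y⁆ = ⁅k' * k, y⁆ * ⁅k', y⁆⁻¹ := by
      simp only [MulEquiv.coe_toMonoidHom, MulAut.conj_apply, commutatorElement_def]
      group
    rw [e]
    exact Subgroup.mul_mem _ (Subgroup.commutator_mem_commutator (K.mul_mem hk' hk) hy)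
      (Subgroup.inv_mem _ (Subgroup.commutator_mem_commutator hk' hy))
  have := hle hx
  rw [Subgroup.mem_comap] at this
  simpa using this

/-- Let K be a subgroup of the finite group H with O_p(K) = 1 and Y a p-subgroup of N_H(K) with [K, Y, Y] = 1. Then [K, Y] = 1. -/
theorem result {H : Type*} [Group H] [Finite H] {p : ℕ} [Fact p.Prime] (K : Subgroup H) (hO : Cfsg.pCore p ↥K = ⊥) (Y : Subgroup H) (hY : IsPGroup p ↥Y) (hYK : Y ≤ Subgroup.normalizer (K : Set H)) (hq : ⁅⁅K, Y⁆, Y⁆ = ⊥) : ⁅K, Y⁆ = ⊥ := by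
  open Cfsg.Agent.Helper5 in
  set X := ⁅K, Y⁆ with hX
  have hXK : X ≤ K := commutator_le_of_le_normalizer K Y hYK
  have hKX : K ≤ Subgroup.normalizer (X : Set H) := le_normalizer_commutator_left' K Y
  -- Y centralizes X
  have hYX : ∀ y ∈ Y, ∀ x ∈ X, y * x = x * y := by
    intro y hy x hx
    have h1 : ⁅x, y⁆ ∈ ⁅X, Y⁆ := Subgroup.commutator_mem_commutator hx hy
    rw [hq, Subgroup.mem_bot, commutatorElement_eq_one_iff_mul_comm] at h1
    exact h1.symm
  -- X is abelian: X ≤ C(X)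
  have hXab : X ≤ Subgroup.centralizer (X : Set H) := by
    rw [hX, Subgroup.commutator_le]
    intro k hk y hy
    rw [Subgroup.mem_centralizer_iff]
    intro x' hx'
    have h1 : k⁻¹ * x' * k⁻¹⁻¹ ∈ X := (Subgroup.mem_normalizer_iff.mp (hKX (K.inv_mem hk)) x').mp hx'
    have h2 := hYX y hy _ h1
    have h3 := hYX y⁻¹ (Y.inv_mem hy) x' hx'
    rw [commutatorElement_def]
    calc x' * (k * y * k⁻¹ * y⁻¹) = k * ((k⁻¹ * x' * k⁻¹⁻¹) * y) * k⁻¹ * y⁻¹ := by group
      _ = k * (y * (k⁻¹ * x' * k⁻¹⁻¹)) * k⁻¹ * y⁻¹ := by rw [h2]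
      _ = k * y * k⁻¹ * (x' * y⁻¹) := by group
      _ = k * y * k⁻¹ * (y⁻¹ * x') := by rw [h3]
      _ = k * y * k⁻¹ * y⁻¹ * x' := by group
  -- p-elements of X form a subgroup T containing the generators
  let T : Subgroup H :=
    { carrier := {x | x ∈ X ∧ ∃ m : ℕ, x ^ p ^ m = 1}
      one_mem' := ⟨X.one_mem, 0, by simp⟩
      mul_mem' := by
        rintro a b ⟨haX, m, hm⟩ ⟨hbX, m', hm'⟩
        refine ⟨X.mul_mem haX hbX, m + m', ?_⟩
        have hc : Commute a b := ((Subgroup.mem_centralizer_iff.mp (hXab hbX)) a haX)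
        rw [hc.mul_pow, pow_add, pow_mul, hm, one_pow, mul_comm (p ^ m), pow_mul, hm', one_pow, one_mul]
      inv_mem' := by
        rintro a ⟨haX, m, hm⟩
        exact ⟨X.inv_mem haX, m, by rw [inv_pow, hm, inv_one]⟩ }
  have hXT : X ≤ T := by
    rw [hX, Subgroup.commutator_le]
    intro k hk y hy
    refine ⟨Subgroup.commutator_mem_commutator hk hy, ?_⟩
    obtain ⟨m, hm⟩ := hY ⟨y, hy⟩
    have hym : y ^ p ^ m = 1 := by simpa using congrArg Subtype.val hm
    refine ⟨m, ?_⟩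
    -- k y k⁻¹ = ⁅k,y⁆ * y with ⁅k,y⁆ commuting with y
    have hxy : Commute ⁅k, y⁆ y := (hYX y hy _ (Subgroup.commutator_mem_commutator hk hy)).symm
    have e : k * y * k⁻¹ = ⁅k, y⁆ * y := by rw [commutatorElement_def]; group
    have h1 : (k * y * k⁻¹) ^ p ^ m = 1 := by rw [conj_pow, hym]; group
    rw [e, hxy.mul_pow, hym, mul_one] at h1
    exact h1
  have hXp : IsPGroup p X := by
    intro x
    obtain ⟨-, m, hm⟩ := hXT x.2
    exact ⟨m, Subtype.ext (by simpa using hm)⟩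
  have hle := le_pCore_map_subtype K X hXK hXp hKX
  rw [hO, Subgroup.map_bot] at hle
  exact eq_bot_iff.mpr hle

end Cfsg.Agent.S2813
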