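import Mathlib
import Cfsg.Agent.Helper5.SubnormalClosure
import Cfsg.Agent.Helper5.PIrreducible
import Cfsg.Agent.Helper5.WeaklyClosed
import Cfsg.Statements.S2814
-- import your own Cfsg.Agent.* helpers here

set_option autoImplicit false
open Cfsg Cfsg.Agent.Helper5
open scoped commutatorElement

namespace Cfsg.Agent.S2814

/-- Let A be a subgroup of the finite group H and K the subnormal closure of A (intersection of the subnormal subgroups containing A). Then K is the normal closure of A inside K and N_H(A) ≤ N_H(K); K = A·O^p(K), O^p(K) being generated by the elements of K of order prime to p; and if A is a p-group, O^p(K) = [O^p(K), A]. -/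
theorem result {H : Type*} [Group H] [Finite H] {p : ℕ} [Fact p.Prime] (A : Subgroup H) (K : Subgroup H) (hK : K = Cfsg.subnormalClosure A) : (Subgroup.normalClosure ((A.subgroupOf K : Subgroup ↥K) : Set ↥K)).map K.subtype = K ∧ Subgroup.normalizer (A : Set H) ≤ Subgroup.normalizer (K : Set H) ∧ A ⊔ (Cfsg.pResidual p ↥K).map K.subtype = K ∧ (IsPGroup p ↥A → ⁅(Cfsg.pResidual p ↥K).map K.subtype, A⁆ = (Cfsg.pResidual p ↥K).map K.subtype) := by
  have hKsn : K.IsSubnormal := hK ▸ subnormalClosure_isSubnormal A
  have hAK : A ≤ K := hK ▸ le_subnormalClosure A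
  have hmin : ∀ S : Subgroup H, A ≤ S → S.IsSubnormal → K ≤ S := fun S h1 h2 =>
    hK ▸ subnormalClosure_le A S h1 h2
  have h1 : (Subgroup.normalClosure ((A.subgroupOf K : Subgroup ↥K) : Set ↥K)).map K.subtype = K := by
    apply le_antisymm
    · rintro _ ⟨y, -, rfl⟩; exact y.2
    · apply hmin
      · intro a ha
        exact ⟨⟨a, hAK ha⟩, Subgroup.subset_normalClosure (Subgroup.mem_subgroupOf.mpr ha), rfl⟩
      · exact Subgroup.IsSubnormal.trans' (Subgroup.normalClosure_normal.isSubnormal) hKsn
  have h1' : Subgroup.normalClosure ((A.subgroupOf K : Subgroup ↥K) : Set ↥K) = ⊤ := by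
    apply Subgroup.map_injective (Subgroup.subtype_injective K)
    rw [h1, ← MonoidHom.range_eq_map, Subgroup.range_subtype]
  have h2 : Subgroup.normalizer (A : Set H) ≤ Subgroup.normalizer (K : Set H) := by
    intro n hn
    have key : ∀ m : H, m ∈ Subgroup.normalizer (A : Set H) → K ≤ K.map (MulAut.conj m).toMonoidHom := by
      intro m hm
      apply hmin
      · rw [← (mem_normalizer_iff_map_conj A m).mp hm]; exact Subgroup.map_mono hAK
      · exact hKsn.map (MulAut.conj m).surjective
    rw [mem_normalizer_iff_map_conj]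
    apply le_antisymm
    · have h := key n⁻¹ (inv_mem hn)
      calc K.map (MulAut.conj n).toMonoidHom
          ≤ (K.map (MulAut.conj n⁻¹).toMonoidHom).map (MulAut.conj n).toMonoidHom := Subgroup.map_mono h
        _ = K := map_conj_map_conj_inv K n
    · exact key n hn
  set R := Cfsg.pResidual p ↥K with hR
  set R' := R.map K.subtype with hR'
  have hR'K : R' ≤ K := by rintro _ ⟨y, -, rfl⟩; exact y.2
  have hRc : R.Characteristic := pResidual_characteristic (G := ↥K) p
  have hRn : R.Normal := inferInstance
  have h3 : A ⊔ R' = K := by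
    apply le_antisymm (sup_le hAK hR'K)
    apply hmin _ le_sup_left
    have hq : IsPGroup p (↥K ⧸ R) := isPGroup_quotient_pResidual p
    haveI : Group.IsNilpotent (↥K ⧸ R) := hq.isNilpotent
    have hs1 : ((A.subgroupOf K).map (QuotientGroup.mk' R)).IsSubnormal := isSubnormal_of_isNilpotent _
    have hs2 := hs1.comap (QuotientGroup.mk' R)
    rw [Subgroup.comap_map_eq, QuotientGroup.ker_mk'] at hs2
    have hs3 := Subgroup.IsSubnormal.trans' hs2 hKsn
    rw [Subgroup.map_sup, Subgroup.map_subgroupOf_eq_of_le hAK] at hs3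
    exact hs3
  refine ⟨h1, h2, h3, fun hAp => ?_⟩
  set C := ⁅R', A⁆ with hC
  have hKNR' : K ≤ Subgroup.normalizer (R' : Set H) := by
    have h := Subgroup.le_normalizer_map (H := R) K.subtype
    rw [Subgroup.normalizer_eq_top, ← MonoidHom.range_eq_map, Subgroup.range_subtype] at h
    exact h
  have hCR' : C ≤ R' := by
    rw [Subgroup.commutator_le]
    intro r hr a ha
    rw [commutatorElement_def]
    have h := (Subgroup.mem_normalizer_iff.mp (hKNR' (hAK ha)) r⁻¹).mp (inv_mem hr)
    have e : r * a * r⁻¹ * a⁻¹ = r * (a * r⁻¹ * a⁻¹) := by group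
    rw [e]; exact mul_mem hr h
  have hCR : ∀ r ∈ R', ∀ c ∈ C, r * c * r⁻¹ ∈ C := fun r hr c hc =>
    conj_mem_commutator_left R' A r hr c hc
  have hCA : ∀ a ∈ A, ∀ c ∈ C, a * c * a⁻¹ ∈ C := by
    intro a ha c hc
    have hc' : c ∈ ⁅A, R'⁆ := by rw [Subgroup.commutator_comm]; exact hc
    have h := conj_mem_commutator_left A R' a ha c hc'
    rw [Subgroup.commutator_comm] at h; exact h
  have hMK : C ⊔ A ≤ K := sup_le (hCR'.trans hR'K) hAK
  have hMn : ((C ⊔ A).subgroupOf K).Normal := by
    rw [Subgroup.normal_subgroupOf_iff_le_normalizer hMK, ← h3]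
    apply sup_le
    · apply le_normalizer_of_conj_mem
      intro a ha x hx
      have hle : C ⊔ A ≤ (C ⊔ A).comap (MulAut.conj a).toMonoidHom := by
        apply sup_le
        · intro c hc
          rw [Subgroup.mem_comap]
          exact le_sup_left (a := C) (by simpa using hCA a ha c hc)
        · intro b hb
          rw [Subgroup.mem_comap]
          exact le_sup_right (a := C) (by simpa using A.mul_mem (A.mul_mem ha hb) (A.inv_mem ha))
      simpa using hle hx
    · apply le_normalizer_of_conj_mem
      intro r hr x hx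
      have hle : C ⊔ A ≤ (C ⊔ A).comap (MulAut.conj r).toMonoidHom := by
        apply sup_le
        · intro c hc
          rw [Subgroup.mem_comap]
          exact le_sup_left (a := C) (by simpa using hCR r hr c hc)
        · intro b hb
          rw [Subgroup.mem_comap]
          have : (MulAut.conj r).toMonoidHom b = ⁅r, b⁆ * b := by simp [commutatorElement_def]
          rw [this]
          exact mul_mem (le_sup_left (a := C) (Subgroup.commutator_mem_commutator hr hb))
            (le_sup_right (a := C) hb)
      simpa using hle hx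
  have hMtop : (C ⊔ A).subgroupOf K = ⊤ := by
    rw [eq_top_iff, ← h1']
    apply Subgroup.normalClosure_le_normal
    intro x hx
    rw [SetLike.mem_coe, Subgroup.mem_subgroupOf] at hx ⊢
    exact le_sup_right (a := C) hx
  have hCn : (C.subgroupOf K).Normal := by
    rw [Subgroup.normal_subgroupOf_iff_le_normalizer (hCR'.trans hR'K), ← h3]
    exact sup_le (le_normalizer_of_conj_mem C A hCA) (le_normalizer_of_conj_mem C R' hCR)
  have hfin : R ≤ C.subgroupOf K := by
    haveI := hCn
    apply pResidual_le_of_le_sup (C.subgroupOf K) (A.subgroupOf K) hAp.comap_subtype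
    rw [← Subgroup.subgroupOf_sup (hCR'.trans hR'K) hAK, hMtop]
    exact le_top
  apply le_antisymm hCR'
  rintro _ ⟨y, hy, rfl⟩
  exact Subgroup.mem_subgroupOf.mp (hfin hy)

end Cfsg.Agent.S2814
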