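import Mathlib
import Cfsg.Agent.Helper5.PIrreducible
import Cfsg.Agent.Helper2.Layer3
import Cfsg.Agent.Helper2.Quasisimple
import Cfsg.Agent.Helper2.Component
import Cfsg.Agent.Helper1.Fitting
import Cfsg.Statements.S2815
-- import your own Cfsg.Agent.* helpers here

set_option autoImplicit false
open Cfsg Cfsg.Agent.Helper5
open scoped commutatorElement

namespace Cfsg.Agent.S2815

/-- In a group with `O_p = 1`, subgroups of `p`-closed normal subgroups have order prime to `p`. -/
theorem coprime_card_of_le_pClosed_normal {H : Type*} [Group H] [Finite H] {p : ℕ} [Fact p.Prime]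
    (hO : Cfsg.pCore p H = ⊥) (N : Subgroup H) [N.Normal] (hN : Cfsg.IsPClosed p ↥N)
    (S : Subgroup H) (hSN : S ≤ N) : (Nat.card ↥S).Coprime p := by
  rw [Nat.coprime_comm, (Fact.out : p.Prime).coprime_iff_not_dvd]
  intro hdvd
  obtain ⟨x, hx⟩ := exists_prime_orderOf_dvd_card' (G := ↥S) p hdvd
  have hxo : orderOf (x : H) = p := by rw [Subgroup.orderOf_coe]; exact hx
  have hYp : IsPGroup p ↥(Subgroup.zpowers (x : H)) :=
    IsPGroup.of_card (n := 1) (by rw [Nat.card_zpowers, hxo, pow_one])
  have hYN : Subgroup.zpowers (x : H) ≤ N := by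
    rw [Subgroup.zpowers_le]; exact hSN x.2
  have h1 := le_pCore_of_le_pClosed_normal N hN _ hYp hYN
  rw [hO] at h1
  have h2 : (x : H) = 1 := by
    have := h1 (Subgroup.mem_zpowers (x : H))
    rwa [Subgroup.mem_bot] at this
  rw [h2, orderOf_one] at hxo
  exact (Fact.out : p.Prime).one_lt.ne hxo

/-- A subgroup whose elements commute pairwise is `p`-closed. -/
theorem isPClosed_of_comm {H : Type*} [Group H] {p : ℕ} (N : Subgroup H)
    (hc : ∀ a ∈ N, ∀ b ∈ N, a * b = b * a) : Cfsg.IsPClosed p ↥N := by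
  intro P
  constructor
  intro n hn g
  have h1 : g * n * g⁻¹ = n := by
    have h2 : g * n = n * g := Subtype.ext (hc g g.2 n n.2)
    rw [h2]; group
  rw [h1]; exact hn

/-- Let H be a finite group and p a prime dividing its order with O_p(H) = 1, and suppose K = O^p(H) (generated by the elements of order prime to p) is quasisimple. Then K = F*(H); for every nontrivial p-subgroup Y of H, K = [K, Y] and K lies in the subgroup generated by the K-conjugates of Y; every normal subgroup of H not containing K has order prime to p; and H is p-irreducible. -/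
theorem result {H : Type*} [Group H] [Finite H] {p : ℕ} [Fact p.Prime] (hp : p ∣ Nat.card H) (hO : Cfsg.pCore p H = ⊥) (hq : Cfsg.IsQuasisimple ↥(Cfsg.pResidual p H)) : Cfsg.pResidual p H = Cfsg.generalizedFittingSubgroup H ∧ (∀ Y : Subgroup H, IsPGroup p ↥Y → Y ≠ ⊥ → ⁅Cfsg.pResidual p H, Y⁆ = Cfsg.pResidual p H ∧ Cfsg.pResidual p H ≤ ⨆ k : ↥(Cfsg.pResidual p H), Y.map (MulAut.conj (k : H)).toMonoidHom) ∧ (∀ C : Subgroup H, C.Normal → ¬ Cfsg.pResidual p H ≤ C → (Nat.card ↥C).Coprime p) ∧ Cfsg.IsPIrreducible p H := by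
  set E := Cfsg.pResidual p H with hE
  have hEc : E.Characteristic := pResidual_characteristic (G := H) p
  have hEn : E.Normal := inferInstance
  obtain ⟨hperf, hsimp⟩ := hq
  have hq' : Cfsg.IsQuasisimple ↥E := ⟨hperf, hsimp⟩
  have hEperf : ⁅E, E⁆ = E := Subgroup.isPerfect_iff.mp hperf
  have hEcomp : Cfsg.IsComponent E := ⟨hEn.isSubnormal, hq'⟩
  set F := Cfsg.fittingSubgroup H with hF
  have hFn : F.Normal := inferInstance
  have hFnil : Group.IsNilpotent ↥F := Cfsg.Agent.Helper1.fittingSubgroup_isNilpotent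
  have hFcl : Cfsg.IsPClosed p ↥F := fun P => inferInstance
  have hFcop : ∀ S : Subgroup H, S ≤ F → (Nat.card ↥S).Coprime p := fun S hS =>
    coprime_card_of_le_pClosed_normal hO F hFcl S hS
  have hFE : F ≤ E := by
    intro x hx
    apply mem_pResidual_of_coprime
    have h1 : orderOf x ∣ Nat.card ↥F := by
      have := orderOf_dvd_natCard (⟨x, hx⟩ : ↥F)
      rwa [Subgroup.orderOf_mk] at this
    exact Nat.Coprime.coprime_dvd_left h1 (hFcop F le_rfl)
  have hquot : IsPGroup p (H ⧸ E) := isPGroup_quotient_pResidual p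
  have hlayerE : Cfsg.layer H ≤ E := by
    unfold Cfsg.layer
    apply sSup_le
    intro K hK
    have hKperf : ⁅K, K⁆ = K := Cfsg.Agent.Helper2.component_perfect hK
    haveI : Group.IsPerfect ↥K := Subgroup.isPerfect_iff.mpr hKperf
    have h1 : Group.IsPerfect ↥(K.map (QuotientGroup.mk' E)) := Group.IsPerfect.map (QuotientGroup.mk' E)
    have h2 : Group.IsNilpotent ↥(K.map (QuotientGroup.mk' E)) := (hquot.to_subgroup _).isNilpotent
    have h3 : K.map (QuotientGroup.mk' E) = ⊥ := by
      by_contra hne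
      haveI : Nontrivial ↥(K.map (QuotientGroup.mk' E)) := (Subgroup.nontrivial_iff_ne_bot _).mpr hne
      exact Group.IsPerfect.not_isNilpotent ↥(K.map (QuotientGroup.mk' E)) h2
    intro k hk
    have h4 : (QuotientGroup.mk' E) k ∈ K.map (QuotientGroup.mk' E) := ⟨k, hk, rfl⟩
    rw [h3, Subgroup.mem_bot, QuotientGroup.mk'_apply, QuotientGroup.eq_one_iff] at h4
    exact h4
  have hEF : E = Cfsg.generalizedFittingSubgroup H := by
    unfold Cfsg.generalizedFittingSubgroup
    apply le_antisymm
    · exact (Cfsg.Agent.Helper2.component_le_layer hEcomp).trans le_sup_left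
    · exact sup_le hlayerE hFE
  have hCE : Subgroup.centralizer (E : Set H) ≤ E := by
    have := Cfsg.Agent.Helper2.centralizer_generalizedFittingSubgroup_le (G := H)
    rw [← hEF] at this
    exact this
  -- Z(E) as a subgroup of H
  set ZE := E ⊓ Subgroup.centralizer (E : Set H) with hZE
  have hZEn : ZE.Normal := inferInstance
  have hZEc : ∀ a ∈ ZE, ∀ b ∈ ZE, a * b = b * a := by
    intro a ha b hb
    exact (Subgroup.mem_centralizer_iff.mp hb.2 a ha.1)
  have hZEcl : Cfsg.IsPClosed p ↥ZE := isPClosed_of_comm ZE hZEc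
  have hZEcop : ∀ S : Subgroup H, S ≤ ZE → (Nat.card ↥S).Coprime p := fun S hS =>
    coprime_card_of_le_pClosed_normal hO ZE hZEcl S hS
  -- dichotomy for subgroups of E normalized by E
  have hdich : ∀ D : Subgroup H, D ≤ E → (∀ e ∈ E, ∀ d ∈ D, e * d * e⁻¹ ∈ D) →
      E ≤ D ∨ D ≤ Subgroup.centralizer (E : Set H) := by
    intro D hDE hDn
    have hn : (D.subgroupOf E).Normal := by
      constructor
      intro n hn g
      rw [Subgroup.mem_subgroupOf] at hn ⊢
      have := hDn g g.2 n hn
      simpa using this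
    rcases Cfsg.Agent.Helper2.isSubnormal_quasisimple hq' _ hn.isSubnormal with h | h
    · left
      rw [Subgroup.subgroupOf_eq_top] at h
      exact h
    · right
      intro d hd
      rw [Subgroup.mem_centralizer_iff]
      intro e he
      have h1 : (⟨d, hDE hd⟩ : ↥E) ∈ Subgroup.center ↥E := h (Subgroup.mem_subgroupOf.mpr hd)
      have h2 := Subgroup.mem_center_iff.mp h1 ⟨e, he⟩
      exact congrArg Subtype.val h2
  -- a normal-in-E-closed subgroup X with [X,E] central has X ≤ ZE
  have hcent : ∀ X : Subgroup H, ⁅X, E⁆ ≤ Subgroup.centralizer (E : Set H) → X ≤ ZE := by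
    intro X hX
    have h1 : ⁅⁅X, E⁆, E⁆ = ⊥ := Subgroup.commutator_eq_bot_iff_le_centralizer.mpr hX
    have h2 := Cfsg.Agent.Helper2.commutator_eq_bot_of_commutator_commutator_eq_bot hEperf h1
    have h3 : X ≤ Subgroup.centralizer (E : Set H) := Subgroup.commutator_eq_bot_iff_le_centralizer.mp h2
    exact le_inf (h3.trans hCE) h3
  have hb : ∀ Y : Subgroup H, IsPGroup p ↥Y → Y ≠ ⊥ →
      ⁅E, Y⁆ = E ∧ E ≤ ⨆ k : ↥E, Y.map (MulAut.conj (k : H)).toMonoidHom := by
    intro Y hYp hY1
    have hDE : ⁅E, Y⁆ ≤ E := Subgroup.commutator_le_left E Y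
    have h1 : ⁅E, Y⁆ = E := by
      rcases hdich ⁅E, Y⁆ hDE (fun e he d hd => conj_mem_commutator_left E Y e he d hd) with h | h
      · exact le_antisymm hDE h
      · exfalso
        rw [Subgroup.commutator_comm] at h
        have h2 := hcent Y h
        have h3 := hZEcop Y h2
        apply hY1
        rw [← Subgroup.card_eq_one]
        obtain ⟨n, hn⟩ := IsPGroup.iff_card.mp hYp
        rw [hn] at h3 ⊢
        rcases Nat.eq_zero_or_pos n with h0 | h0
        · rw [h0, pow_zero]
        · exfalso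
          have := Nat.Coprime.coprime_dvd_left (dvd_pow_self p h0.ne') h3
          rw [Nat.coprime_self] at this
          exact (Fact.out : p.Prime).one_lt.ne' this
    refine ⟨h1, le_of_eq_of_le h1.symm ?_⟩
    rw [Subgroup.commutator_le]
    intro e he y hy
    rw [commutatorElement_def]
    have h2 : e * y * e⁻¹ ∈ ⨆ k : ↥E, Y.map (MulAut.conj (k : H)).toMonoidHom :=
      (le_iSup (fun k : ↥E => Y.map (MulAut.conj (k : H)).toMonoidHom) ⟨e, he⟩)
        (conj_mem_map_conj Y e y hy)
    have h3 : y⁻¹ ∈ ⨆ k : ↥E, Y.map (MulAut.conj (k : H)).toMonoidHom := by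
      have h4 := (le_iSup (fun k : ↥E => Y.map (MulAut.conj (k : H)).toMonoidHom) 1)
        (conj_mem_map_conj Y ((1 : ↥E) : H) y⁻¹ (Y.inv_mem hy))
      simpa using h4
    exact Subgroup.mul_mem _ h2 h3
  have hc : ∀ C : Subgroup H, C.Normal → ¬ E ≤ C → (Nat.card ↥C).Coprime p := by
    intro C hCn hEC
    have h1 : C ⊓ E ≤ Subgroup.centralizer (E : Set H) := by
      rcases hdich (C ⊓ E) inf_le_right (fun e he d hd =>
        ⟨hCn.conj_mem d hd.1 e, hEn.conj_mem d hd.2 e⟩) with h | h
      · exact absurd (h.trans inf_le_left) hEC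
      · exact h
    have h2 : ⁅C, E⁆ ≤ C ⊓ E := le_inf (Subgroup.commutator_le_left C E) (Subgroup.commutator_le_right C E)
    exact hZEcop C (hcent C (h2.trans h1))
  refine ⟨hEF, hb, hc, ?_, ?_⟩
  · intro hcl
    obtain ⟨T⟩ : Nonempty (Sylow p H) := inferInstance
    have h1 := le_pCore_of_isPClosed hcl T T.2
    rw [hO, le_bot_iff] at h1
    exact T.ne_bot_of_dvd_card hp h1
  · intro N hNn hNcl
    by_contra hEN
    apply hNcl
    have hcop := hc N hNn hEN
    intro P
    have hP1 : (P : Subgroup ↥N) = ⊥ := by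
      rw [← Subgroup.card_eq_one]
      obtain ⟨n, hn⟩ := IsPGroup.iff_card.mp P.2
      have hdvd : Nat.card ↥(P : Subgroup ↥N) ∣ Nat.card ↥N := Subgroup.card_subgroup_dvd_card _
      rw [hn] at hdvd ⊢
      rcases Nat.eq_zero_or_pos n with h0 | h0
      · rw [h0, pow_zero]
      · exfalso
        have h5 : p ∣ Nat.card ↥N := (dvd_pow_self p h0.ne').trans hdvd
        have := Nat.Coprime.coprime_dvd_left h5 hcop
        rw [Nat.coprime_self] at this
        exact (Fact.out : p.Prime).one_lt.ne' this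
    rw [hP1]
    infer_instance

end Cfsg.Agent.S2815
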