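import Mathlib
import Cfsg.Agent.Helper5.GenFitComm
import Cfsg.Agent.Helper2.SubnormalP
import Cfsg.Agent.Helper2.Layer3
import Cfsg.Statements.S2816
-- import your own Cfsg.Agent.* helpers here

set_option autoImplicit false
open Cfsg Cfsg.Agent.Helper5 Cfsg.Agent.Helper2 Cfsg.Agent.Helper1

namespace Cfsg.Agent.S2816

/-- Let H be a finite group and p a prime with O_p(H) = 1, and Y a p-subgroup of H. Then for every subnormal subgroup K of H containing Y, [F*(H), Y] = [F*(K), Y] = [F*(K), Y, Y]; and if Y₀ ≤ Y with [F*(H), Y, Y₀] = 1 then Y₀ = 1 (in particular [F*(H), Y] = 1 forces Y = 1). -/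
theorem result {H : Type*} [Group H] [Finite H] {p : ℕ} [Fact p.Prime] (hO : Cfsg.pCore p H = ⊥) (Y : Subgroup H) (hY : IsPGroup p ↥Y) : (∀ K : Subgroup H, K.IsSubnormal → Y ≤ K → ⁅Cfsg.generalizedFittingSubgroup H, Y⁆ = ⁅(Cfsg.generalizedFittingSubgroup ↥K).map K.subtype, Y⁆ ∧ ⁅(Cfsg.generalizedFittingSubgroup ↥K).map K.subtype, Y⁆ = ⁅⁅(Cfsg.generalizedFittingSubgroup ↥K).map K.subtype, Y⁆, Y⁆) ∧ (∀ Y₀ : Subgroup H, Y₀ ≤ Y → ⁅⁅Cfsg.generalizedFittingSubgroup H, Y⁆, Y₀⁆ = ⊥ → Y₀ = ⊥) := by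
  set FS := Cfsg.generalizedFittingSubgroup H with hFS
  have hFSn : FS.Normal := inferInstance
  set A := ⁅FS, Y⁆ with hAdef
  have hA : ⁅A, Y⁆ = A := genFitting_comm_comm hO Y hY
  have hAF : A ≤ FS := Subgroup.commutator_le_left _ _
  refine ⟨?_, ?_⟩
  · intro K hK hYK
    have hAK : A ≤ K := le_subnormal_of_comm_eq A Y hA K hK hYK
    have hinf := genFitting_inf_subnormal K hK
    have h1 : A = ⁅(Cfsg.generalizedFittingSubgroup ↥K).map K.subtype, Y⁆ := by
      apply le_antisymm
      · calc A = ⁅A, Y⁆ := hA.symm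
          _ ≤ ⁅(Cfsg.generalizedFittingSubgroup ↥K).map K.subtype, Y⁆ := by
            apply Subgroup.commutator_mono _ le_rfl
            rw [hinf]
            exact le_inf hAF hAK
      · apply Subgroup.commutator_mono _ le_rfl
        rw [hinf]
        exact inf_le_left
    refine ⟨h1, ?_⟩
    rw [← h1]
    exact hA.symm
  · intro Y₀ hY₀ h
    have hY₀p : IsPGroup p ↥Y₀ := hY.to_le hY₀
    set A₀ := ⁅FS, Y₀⁆ with hA₀def
    have hA₀ : ⁅A₀, Y₀⁆ = A₀ := genFitting_comm_comm hO Y₀ hY₀p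
    have hA₀bot : A₀ = ⊥ := by
      rw [eq_bot_iff, ← hA₀, ← h]
      exact Subgroup.commutator_mono (Subgroup.commutator_mono le_rfl hY₀) le_rfl
    have hcen : Y₀ ≤ Subgroup.centralizer (FS : Set H) := by
      rw [hA₀def, Subgroup.commutator_comm, Subgroup.commutator_eq_bot_iff_le_centralizer] at hA₀bot
      exact hA₀bot
    have hY₀F : Y₀ ≤ FS := hcen.trans centralizer_generalizedFittingSubgroup_le
    set Z := FS ⊓ Subgroup.centralizer (FS : Set H) with hZ
    have hZn : Z.Normal := by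
      have : (Subgroup.centralizer (FS : Set H)).Normal := Subgroup.normal_centralizer
      infer_instance
    have hY₀Z : Y₀ ≤ Z := le_inf hY₀F hcen
    have hnorm : Z ≤ Subgroup.normalizer (Y₀ : Set H) := by
      intro z hz
      rw [Subgroup.mem_normalizer_iff]
      intro y
      have hcomm : ∀ w ∈ FS, z * w * z⁻¹ = w := by
        intro w hw
        have := (Subgroup.mem_centralizer_iff.mp hz.2) w hw
        rw [← this]; group
      constructor
      · intro hy
        rw [hcomm y (hY₀F hy)]; exact hy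
      · intro hy
        have h2 : z * y * z⁻¹ ∈ FS := hY₀F hy
        have h3 : y ∈ FS := by
          have := hFSn.conj_mem _ h2 z⁻¹
          have e : z⁻¹ * (z * y * z⁻¹) * z⁻¹⁻¹ = y := by group
          rwa [e] at this
        rw [hcomm y h3] at hy
        exact hy
    have hsub : Y₀.IsSubnormal :=
      Subgroup.IsSubnormal.step Y₀ Z hY₀Z hZn.isSubnormal
        ((Subgroup.normal_subgroupOf_iff_le_normalizer hY₀Z).mpr hnorm)
    have := isSubnormal_pGroup_le_pCore hsub hY₀p
    rw [hO] at this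
    exact eq_bot_iff.mpr this

end Cfsg.Agent.S2816
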