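import Mathlib
import Cfsg.Agent.Helper5.LQStruct
import Cfsg.Statements.S2817
-- import your own Cfsg.Agent.* helpers here

set_option autoImplicit false
open Cfsg Cfsg.Agent.Helper5
open scoped commutatorElement

namespace Cfsg.Agent.S2817

/-- Let H be a finite group and p a prime with O_p(H) = 1, Q a p-subgroup of H, L = [F*(H), Q], and F the largest normal subgroup of F*(H) centralized by Q (a normal subgroup of F*(H) centralized by Q and containing every such). Then F = C_{F*(H)}(LQ); L = [L, Q]; L ∩ F ≤ Φ(L); every p-subgroup B of N_H(Q) with [L, B] ≤ F satisfies [L, B] = 1; and C_H(FL) has order prime to p. -/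
theorem result {H : Type*} [Group H] [Finite H] {p : ℕ} [Fact p.Prime] (hO : Cfsg.pCore p H = ⊥) (Q : Subgroup H) (hQ : IsPGroup p ↥Q) (L : Subgroup H) (hL : L = ⁅Cfsg.generalizedFittingSubgroup H, Q⁆) (F : Subgroup H) (hF : F ≤ Cfsg.generalizedFittingSubgroup H ∧ Cfsg.generalizedFittingSubgroup H ≤ Subgroup.normalizer (F : Set H) ∧ Q ≤ Subgroup.centralizer (F : Set H) ∧ ∀ N : Subgroup H, N ≤ Cfsg.generalizedFittingSubgroup H → Cfsg.generalizedFittingSubgroup H ≤ Subgroup.normalizer (N : Set H) → Q ≤ Subgroup.centralizer (N : Set H) → N ≤ F) : F = Cfsg.generalizedFittingSubgroup H ⊓ Subgroup.centralizer ((L ⊔ Q : Subgroup H) : Set H) ∧ ⁅L, Q⁆ = L ∧ L ⊓ F ≤ (frattini ↥L).map L.subtype ∧ (∀ B : Subgroup H, IsPGroup p ↥B → B ≤ Subgroup.normalizer (Q : Set H) → ⁅L, B⁆ ≤ F → ⁅L, B⁆ = ⊥) ∧ (Nat.card ↥(Subgroup.centralizer ((F ⊔ L : Subgroup H) : Set H))).Coprime p := by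
  have hp : p.Prime := Fact.out
  subst hL
  set FS := Cfsg.generalizedFittingSubgroup H with hFS
  set L := (⁅FS, Q⁆ : Subgroup H) with hLdef
  have h1 := lq_F_eq Q F hF
  obtain ⟨hF1, hF2, hF3, hF4⟩ := hF
  have hLQ : ⁅L, Q⁆ = L := genFitting_comm_comm hO Q hQ
  have hFcen : F ≤ Subgroup.centralizer ((L ⊔ Q : Subgroup H) : Set H) := h1.le.trans inf_le_right
  have hFL : F ≤ Subgroup.centralizer (L : Set H) := hFcen.trans (centralizer_sup_le_left L Q)
  have hFQ : F ≤ Subgroup.centralizer (Q : Set H) := hFcen.trans (centralizer_sup_le_right L Q)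
  have hKF : L ⊓ Subgroup.centralizer (Q : Set H) ≤ ⁅L, L⁆ := lq_inf_centralizer_le hO Q hQ
  refine ⟨h1, hLQ, ?_, ?_, ?_⟩
  · intro x hx
    obtain ⟨hxL, hxF⟩ := Subgroup.mem_inf.mp hx
    have hxD : x ∈ ⁅L, L⁆ := hKF (Subgroup.mem_inf.mpr ⟨hxL, hFQ hxF⟩)
    have hcenter : (⟨x, hxL⟩ : ↥L) ∈ Subgroup.center ↥L := by
      rw [Subgroup.mem_center_iff]
      intro l
      apply Subtype.ext
      exact (Subgroup.mem_centralizer_iff.mp (hFL hxF)) l l.2
    have hcomm : (⟨x, hxL⟩ : ↥L) ∈ commutator ↥L := by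
      have h2 : (commutator ↥L).map L.subtype = ⁅L, L⁆ := by
        rw [commutator_def, Subgroup.map_commutator, ← MonoidHom.range_eq_map, Subgroup.range_subtype]
      rw [← h2] at hxD
      obtain ⟨y, hy, hyx⟩ := hxD
      have : y = ⟨x, hxL⟩ := Subtype.ext hyx
      rwa [← this]
    exact ⟨⟨x, hxL⟩, center_inf_commutator_le_frattini ↥L (Subgroup.mem_inf.mpr ⟨hcenter, hcomm⟩), rfl⟩
  · intro B hB hBQ hLB
    have hBL : B ≤ Subgroup.normalizer (L : Set H) := fun b hb =>
      mem_normalizer_commutator FS Q b (by rw [Subgroup.normalizer_eq_top]; trivial) (hBQ hb)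
    set A := (⁅L, B⁆ : Subgroup H) with hA
    have hAL : A ≤ L := Subgroup.le_normalizer_iff_commutator_le_left.1 hBL
    have hAD : A ≤ ⁅L, L⁆ := fun a ha => hKF (Subgroup.mem_inf.mpr ⟨hAL ha, hFQ (hLB ha)⟩)
    have hAcL : ⁅A, L⁆ = ⊥ := by
      rw [Subgroup.commutator_eq_bot_iff_le_centralizer]
      exact hLB.trans hFL
    have hDB : ⁅⁅L, L⁆, B⁆ = ⊥ := by
      apply Subgroup.commutator_commutator_eq_bot_of_rotate
      · exact hAcL
      · rw [Subgroup.commutator_comm B L]; exact hAcL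
    have hAB : ⁅A, B⁆ = ⊥ := by
      rw [eq_bot_iff, ← hDB]
      exact Subgroup.commutator_mono hAD le_rfl
    have h3 : ⁅A, B⁆ = A := lq_comm_comm hO Q B hB hBL
    rw [← h3]
    exact hAB
  · rw [Nat.coprime_comm, Nat.Prime.coprime_iff_not_dvd hp]
    intro hdvd
    obtain ⟨x, hx⟩ := exists_prime_orderOf_dvd_card' p hdvd
    set P := Subgroup.zpowers (x : H) with hPdef
    have hordx : orderOf (x : H) = p := by rw [Subgroup.orderOf_coe, hx]
    have hPp : IsPGroup p ↥P := by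
      apply IsPGroup.of_card (n := 1)
      rw [Nat.card_zpowers, hordx, pow_one]
    have hPC : P ≤ Subgroup.centralizer ((F ⊔ L : Subgroup H) : Set H) := by
      rw [Subgroup.zpowers_le]; exact x.2
    have hPbot := lq_centralizer_pgroup_eq_bot hO Q hQ F hF4 P hPp
      (hPC.trans (centralizer_sup_le_left F L)) (hPC.trans (centralizer_sup_le_right F L))
    have hx1 : (x : H) = 1 := by
      have := Subgroup.mem_zpowers (x : H)
      rw [← hPdef, hPbot] at this
      exact Subgroup.mem_bot.mp this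
    rw [hx1, orderOf_one] at hordx
    exact hp.one_lt.ne' hordx.symm

end Cfsg.Agent.S2817
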