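import Mathlib
import Cfsg.Agent.Helper5.FrattiniLe
import Cfsg.Statements.S2818
-- import your own Cfsg.Agent.* helpers here

set_option autoImplicit false
open Cfsg Cfsg.Agent.Helper5
open scoped commutatorElement

namespace Cfsg.Agent.S2818

/-- Let P be a finite p-subgroup of a group G and H a subgroup of N_G(P) with [P, H] ≤ Ω₁(Z(P)) (the elements of order dividing p in the centre of P). Then H centralizes the Frattini subgroup of P. -/
theorem result {G : Type*} [Group G] [Finite G] {p : ℕ} [Fact p.Prime] (P : Subgroup G) (hP : IsPGroup p ↥P) (H : Subgroup G) (hH : H ≤ Subgroup.normalizer (P : Set G)) (h : ⁅P, H⁆ ≤ Cfsg.omegaOne p (P ⊓ Subgroup.centralizer (P : Set G))) : ⁅(frattini ↥P).map P.subtype, H⁆ = ⊥ := by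
  classical
  have hPH := h
  set W := Cfsg.omegaOne p (P ⊓ Subgroup.centralizer (P : Set G)) with hW
  -- elements of W are central in P with trivial p-th power
  have hWprop : ∀ w ∈ W, (w ∈ P ∧ ∀ x ∈ P, x * w = w * x) ∧ w ^ p = 1 := by
    intro w hw
    rw [hW] at hw
    unfold Cfsg.omegaOne at hw
    induction hw using Subgroup.closure_induction with
    | mem x hx =>
      obtain ⟨⟨hxP, hxC⟩, hxp⟩ := hx
      exact ⟨⟨hxP, fun y hy => (Subgroup.mem_centralizer_iff.mp hxC) y hy⟩, hxp⟩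
    | one => exact ⟨⟨P.one_mem, fun x _ => by simp⟩, one_pow _⟩
    | mul a b _ _ iha ihb =>
      refine ⟨⟨P.mul_mem iha.1.1 ihb.1.1, fun x hx => ?_⟩, ?_⟩
      · rw [← mul_assoc, iha.1.2 x hx, mul_assoc, ihb.1.2 x hx, mul_assoc]
      · have hc : Commute a b := (iha.1.2 b ihb.1.1).symm
        rw [hc.mul_pow, iha.2, ihb.2, one_mul]
    | inv a _ iha =>
      refine ⟨⟨P.inv_mem iha.1.1, fun x hx => ?_⟩, by rw [inv_pow, iha.2, inv_one]⟩
      have := iha.1.2 x hx
      calc x * a⁻¹ = a⁻¹ * (a * x) * a⁻¹ := by group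
        _ = a⁻¹ * (x * a) * a⁻¹ := by rw [this]
        _ = a⁻¹ * x := by group
  -- conjugation by h ∈ H multiplies x ∈ P by an element of W
  have hconj : ∀ h ∈ H, ∀ x ∈ P, ∃ w ∈ W, h * x * h⁻¹ = x * w := by
    intro h hh x hx
    refine ⟨x⁻¹ * h * x * h⁻¹, ?_, by group⟩
    have : ⁅x⁻¹, h⁆ ∈ ⁅P, H⁆ := Subgroup.commutator_mem_commutator (P.inv_mem hx) hh
    have h2 := hPH this
    rw [commutatorElement_def, inv_inv] at h2
    exact h2
  set D : Subgroup ↥P := (Subgroup.centralizer (H : Set G)).subgroupOf P with hD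
  have hmemD : ∀ x : ↥P, x ∈ D ↔ ∀ h ∈ H, h * (x : G) * h⁻¹ = (x : G) := by
    intro x
    rw [hD, Subgroup.mem_subgroupOf, Subgroup.mem_centralizer_iff]
    constructor
    · intro hx h hh
      rw [hx h hh]; group
    · intro hx h hh
      have := hx h hh
      calc h * (x : G) = h * (x : G) * h⁻¹ * h := by group
        _ = (x : G) * h := by rw [this]
  have hle : frattini ↥P ≤ D := by
    apply frattini_le_of_forall (p := p) D
    · intro x
      rw [hmemD]
      intro h hh
      obtain ⟨w, hw, hxw⟩ := hconj h hh (x : G) x.2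
      obtain ⟨⟨hwP, hwc⟩, hwp⟩ := hWprop w hw
      have hc : Commute (x : G) w := hwc (x : G) x.2
      have e : h * ((x : G) ^ p) * h⁻¹ = (h * (x : G) * h⁻¹) ^ p := by
        rw [conj_pow]
      rw [Subgroup.coe_pow, e, hxw, hc.mul_pow, hwp, mul_one]
    · intro x y
      rw [hmemD]
      intro h hh
      obtain ⟨w, hw, hxw⟩ := hconj h hh (x : G) x.2
      obtain ⟨w', hw', hyw⟩ := hconj h hh (y : G) y.2
      obtain ⟨⟨hwP, hwc⟩, -⟩ := hWprop w hw
      obtain ⟨⟨hw'P, hw'c⟩, -⟩ := hWprop w' hw'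
      have e : h * ((x : G) * (y : G) * (x : G)⁻¹ * (y : G)⁻¹) * h⁻¹ =
          (h * (x : G) * h⁻¹) * (h * (y : G) * h⁻¹) * (h * (x : G) * h⁻¹)⁻¹ * (h * (y : G) * h⁻¹)⁻¹ := by group
      show h * ((x : G) * (y : G) * (x : G)⁻¹ * (y : G)⁻¹) * h⁻¹ = (x : G) * (y : G) * (x : G)⁻¹ * (y : G)⁻¹
      rw [e, hxw, hyw]
      have c1 : (y : G) * w = w * (y : G) := hwc _ y.2
      have c2 : (x : G) * w' = w' * (x : G) := hw'c _ x.2
      have c3 : w' * w = w * w' := hwc _ hw'P
      have c4 : (x : G) * w = w * (x : G) := hwc _ x.2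
      have c5 : (y : G) * w' = w' * (y : G) := hw'c _ y.2
      have key : ((x : G) * w) * ((y : G) * w') =
          (x : G) * (y : G) * (x : G)⁻¹ * (y : G)⁻¹ * (((y : G) * w') * ((x : G) * w)) := by
        calc ((x : G) * w) * ((y : G) * w') = (x : G) * (w * (y : G)) * w' := by group
          _ = (x : G) * ((y : G) * w) * w' := by rw [c1]
          _ = (x : G) * (y : G) * (w * w') := by group
          _ = (x : G) * (y : G) * (w' * w) := by rw [c3]
          _ = (x : G) * (y : G) * (x : G)⁻¹ * ((x : G) * w') * w := by group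
          _ = (x : G) * (y : G) * (x : G)⁻¹ * (w' * (x : G)) * w := by rw [c2]
          _ = (x : G) * (y : G) * (x : G)⁻¹ * (y : G)⁻¹ * (((y : G) * w') * ((x : G) * w)) := by group
      rw [key]; group
  rw [Subgroup.commutator_eq_bot_iff_le_centralizer]
  rintro _ ⟨x, hx, rfl⟩
  have := hle hx
  rw [hD, Subgroup.mem_subgroupOf] at this
  exact this

end Cfsg.Agent.S2818
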