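import Mathlib
import Cfsg.Agent.Helper5.Basic
import Cfsg.Agent.Helper5.FrattiniLe
import Cfsg.Statements.S2819
-- import your own Cfsg.Agent.* helpers here

set_option autoImplicit false
open Cfsg Cfsg.Agent.Helper5
open scoped commutatorElement

namespace Cfsg.Agent.S2819

/-- the stabilizer of the chain `Ψ ≥ P' ≥ 1` -/
def chainStab {G : Type*} [Group G] (P' Ψ : Subgroup G) : Subgroup G where
  carrier := {g | (∀ c ∈ P', g * c * g⁻¹ = c) ∧ ∀ a ∈ Ψ, g * a * g⁻¹ * a⁻¹ ∈ P'}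
  one_mem' := ⟨fun c _ => by simp, fun a _ => by simp⟩
  mul_mem' := by
    rintro g h ⟨hg1, hg2⟩ ⟨hh1, hh2⟩
    refine ⟨fun c hc => ?_, fun a ha => ?_⟩
    · calc g * h * c * (g * h)⁻¹ = g * (h * c * h⁻¹) * g⁻¹ := by group
        _ = c := by rw [hh1 c hc, hg1 c hc]
    · have h1 := hg1 _ (hh2 a ha)
      have h2 : g * h * a * (g * h)⁻¹ * a⁻¹ = (g * (h * a * h⁻¹ * a⁻¹) * g⁻¹) * (g * a * g⁻¹ * a⁻¹) := by group
      rw [h2, h1]
      exact P'.mul_mem (hh2 a ha) (hg2 a ha)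
  inv_mem' := by
    rintro g ⟨hg1, hg2⟩
    have hinv : ∀ c ∈ P', g⁻¹ * c * g⁻¹⁻¹ = c := by
      intro c hc
      have h := hg1 c hc
      calc g⁻¹ * c * g⁻¹⁻¹ = g⁻¹ * (g * c * g⁻¹) * g := by rw [h]; group
        _ = c := by group
    refine ⟨hinv, fun a ha => ?_⟩
    have hz := hg2 a ha
    have h1 := hinv _ (P'.inv_mem hz)
    have h2 : g⁻¹ * a * g⁻¹⁻¹ * a⁻¹ = g⁻¹ * (g * a * g⁻¹ * a⁻¹)⁻¹ * g⁻¹⁻¹ := by group
    rw [h2, h1]
    exact P'.inv_mem hz

theorem mem_chainStab {G : Type*} [Group G] (P' Ψ : Subgroup G) (g : G) :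
    g ∈ chainStab P' Ψ ↔ (∀ c ∈ P', g * c * g⁻¹ = c) ∧ ∀ a ∈ Ψ, g * a * g⁻¹ * a⁻¹ ∈ P' := Iff.rfl

/-- `{a ∈ P | [y, a] ∈ P'}` as a subgroup, when `P` normalizes `P'`. -/
def twistSub {G : Type*} [Group G] (y : G) (P P' : Subgroup G)
    (hnorm : ∀ a ∈ P, ∀ c ∈ P', a * c * a⁻¹ ∈ P') : Subgroup G where
  carrier := {a | a ∈ P ∧ y * a * y⁻¹ * a⁻¹ ∈ P'}
  one_mem' := ⟨P.one_mem, by simp⟩
  mul_mem' := by
    rintro a b ⟨ha1, ha2⟩ ⟨hb1, hb2⟩
    refine ⟨P.mul_mem ha1 hb1, ?_⟩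
    have h2 : y * (a * b) * y⁻¹ * (a * b)⁻¹ = (y * a * y⁻¹ * a⁻¹) * (a * (y * b * y⁻¹ * b⁻¹) * a⁻¹) := by group
    rw [h2]
    exact P'.mul_mem ha2 (hnorm a ha1 _ hb2)
  inv_mem' := by
    rintro a ⟨ha1, ha2⟩
    refine ⟨P.inv_mem ha1, ?_⟩
    have h2 : y * a⁻¹ * y⁻¹ * a⁻¹⁻¹ = a⁻¹ * (y * a * y⁻¹ * a⁻¹)⁻¹ * a⁻¹⁻¹ := by group
    rw [h2]
    exact hnorm a⁻¹ (P.inv_mem ha1) _ (P'.inv_mem ha2)

theorem mul_pow_mod_commutator {G : Type*} [Group G] (P : Subgroup G) (a b : G) (ha : a ∈ P) (hb : b ∈ P)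
    (n : ℕ) : (a * b) ^ n * (a ^ n * b ^ n)⁻¹ ∈ ⁅P, P⁆ := by
  have hmap : (commutator ↥P).map P.subtype = ⁅P, P⁆ := by
    rw [commutator_def, Subgroup.map_commutator, ← MonoidHom.range_eq_map, Subgroup.range_subtype]
  rw [← hmap]
  refine ⟨(⟨a, ha⟩ * ⟨b, hb⟩ : ↥P) ^ n * ((⟨a, ha⟩ : ↥P) ^ n * (⟨b, hb⟩ : ↥P) ^ n)⁻¹, ?_, by simp⟩
  rw [SetLike.mem_coe, ← Abelianization.ker_of, MonoidHom.mem_ker]
  simp only [map_mul, map_pow, map_inv]
  rw [mul_pow, mul_inv_cancel]

/-- Let P be a finite p-subgroup of a group G, H a subgroup of N_G(P), and Y a subgroup of H centralizing the derived subgroup P' such that [P, Y] is elementary abelian. Then O^p(⟨Y^H⟩), the subgroup of the normal closure of Y in H generated by its elements of order prime to p, centralizes the Frattini subgroup of P. -/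
theorem result {G : Type*} [Group G] [Finite G] {p : ℕ} [Fact p.Prime] (P : Subgroup G) (hP : IsPGroup p ↥P) (H : Subgroup G) (hH : H ≤ Subgroup.normalizer (P : Set G)) (Y : Subgroup G) (hYH : Y ≤ H) (hYc : Y ≤ Subgroup.centralizer ((⁅P, P⁆ : Subgroup G) : Set G)) (hel : Cfsg.IsElementaryAbelian p ⁅P, Y⁆) (NY : Subgroup G) (hNY : NY = (Subgroup.normalClosure ((Y.subgroupOf H : Subgroup ↥H) : Set ↥H)).map H.subtype) : (Cfsg.pResidual p ↥NY).map NY.subtype ≤ Subgroup.centralizer (((frattini ↥P).map P.subtype : Subgroup G) : Set G) := by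
  set P' := ⁅P, P⁆ with hP'
  set gens : Set G := {z | ∃ x ∈ P, z = x ^ p} ∪ {z | ∃ x ∈ P, ∃ w ∈ P, z = x * w * x⁻¹ * w⁻¹} with hgens
  set Ψ := Subgroup.closure gens with hΨ
  have hP'P : P' ≤ P := by
    rw [hP', Subgroup.commutator_le]
    intro x hx w hw
    rw [commutatorElement_def]
    exact P.mul_mem (P.mul_mem (P.mul_mem hx hw) (P.inv_mem hx)) (P.inv_mem hw)
  -- frattini ≤ Ψ
  have hΦΨ : (frattini ↥P).map P.subtype ≤ Ψ := by
    have h1 : frattini ↥P ≤ Ψ.subgroupOf P := by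
      apply frattini_le_of_forall (p := p)
      · intro x
        rw [Subgroup.mem_subgroupOf]
        apply Subgroup.subset_closure
        left
        exact ⟨x, x.2, by simp⟩
      · intro x w
        rw [Subgroup.mem_subgroupOf]
        apply Subgroup.subset_closure
        right
        exact ⟨x, x.2, w, w.2, by simp⟩
    rintro _ ⟨z, hz, rfl⟩
    exact Subgroup.mem_subgroupOf.mp (h1 hz)
  -- invariance under the normalizer of P
  have hPinv : ∀ h ∈ Subgroup.normalizer (P : Set G), ∀ x ∈ P, h * x * h⁻¹ ∈ P := fun h hh x hx =>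
    (Subgroup.mem_normalizer_iff.mp hh x).mp hx
  have hP'inv : ∀ h ∈ Subgroup.normalizer (P : Set G), ∀ c ∈ P', h * c * h⁻¹ ∈ P' := by
    intro h hh c hc
    have h1 : P'.map (MulAut.conj h).toMonoidHom = P' := by
      rw [hP', Subgroup.map_commutator, (mem_normalizer_iff_map_conj P h).mp hh]
    rw [← h1]
    exact conj_mem_map_conj P' h c hc
  have hΨinv : ∀ h ∈ Subgroup.normalizer (P : Set G), ∀ a ∈ Ψ, h * a * h⁻¹ ∈ Ψ := by
    intro h hh a ha
    have hle : Ψ ≤ Ψ.comap (MulAut.conj h).toMonoidHom := by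
      rw [hΨ, Subgroup.closure_le]
      rintro z (⟨x, hx, rfl⟩ | ⟨x, hx, w, hw, rfl⟩)
      · rw [SetLike.mem_coe, Subgroup.mem_comap, map_pow]
        apply Subgroup.subset_closure
        left
        exact ⟨_, hPinv h hh x hx, by simp⟩
      · rw [SetLike.mem_coe, Subgroup.mem_comap]
        apply Subgroup.subset_closure
        right
        refine ⟨h * x * h⁻¹, hPinv h hh x hx, h * w * h⁻¹, hPinv h hh w hw, ?_⟩
        simp only [MulEquiv.coe_toMonoidHom, MulAut.conj_apply]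
        group
    simpa using hle ha
  have hnorm : ∀ a ∈ P, ∀ c ∈ P', a * c * a⁻¹ ∈ P' := fun a ha c hc =>
    hP'inv a (Subgroup.le_normalizer ha) c hc
  -- Y ≤ chainStab
  have hYSt : Y ≤ chainStab P' Ψ := by
    intro y hy
    have hyN : y ∈ Subgroup.normalizer (P : Set G) := hH (hYH hy)
    rw [mem_chainStab]
    refine ⟨fun c hc => ?_, ?_⟩
    · have h1 := (Subgroup.mem_centralizer_iff.mp (hYc hy)) c hc
      calc y * c * y⁻¹ = (c * y) * y⁻¹ := by rw [h1]
        _ = c := by group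
    · have hle : Ψ ≤ twistSub y P P' hnorm := by
        rw [hΨ, Subgroup.closure_le]
        rintro z (⟨x, hx, rfl⟩ | ⟨x, hx, w, hw, rfl⟩)
        · refine ⟨P.pow_mem hx p, ?_⟩
          set c := y * x * y⁻¹ * x⁻¹ with hc
          have hcP : c ∈ P := P.mul_mem (hPinv y hyN x hx) (P.inv_mem hx)
          have hcm : c ∈ ⁅P, Y⁆ := by
            have h1 : c = ⁅x, y⁆⁻¹ := by rw [hc, commutatorElement_def]; group
            rw [h1]
            exact Subgroup.inv_mem _ (Subgroup.commutator_mem_commutator hx hy)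
          have hcp : c ^ p = 1 := hel.2 c hcm
          have h2 : y * x ^ p * y⁻¹ = (c * x) ^ p := by
            have h3 : c * x = y * x * y⁻¹ := by rw [hc]; group
            rw [h3]
            have h4 := map_pow (MulAut.conj y).toMonoidHom x p
            simpa using h4
          have h5 := mul_pow_mod_commutator P c x hcP hx p
          rw [hcp, one_mul] at h5
          rw [h2]
          exact h5
        · have hcomm : x * w * x⁻¹ * w⁻¹ ∈ P' := by
            have := Subgroup.commutator_mem_commutator hx hw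
            rwa [commutatorElement_def] at this
          refine ⟨hP'P hcomm, ?_⟩
          have h1 := (Subgroup.mem_centralizer_iff.mp (hYc hy)) _ hcomm
          have h2 : y * (x * w * x⁻¹ * w⁻¹) * y⁻¹ * (x * w * x⁻¹ * w⁻¹)⁻¹ = 1 := by
            calc y * (x * w * x⁻¹ * w⁻¹) * y⁻¹ * (x * w * x⁻¹ * w⁻¹)⁻¹
                = ((x * w * x⁻¹ * w⁻¹) * y) * y⁻¹ * (x * w * x⁻¹ * w⁻¹)⁻¹ := by rw [h1]
              _ = 1 := by group
          rw [h2]
          exact P'.one_mem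
      intro a ha
      exact (hle ha).2
  -- H normalizes chainStab
  have hStn : ((chainStab P' Ψ).subgroupOf H).Normal := by
    constructor
    intro g hg h
    rw [Subgroup.mem_subgroupOf] at hg ⊢
    have hhN : (h : G) ∈ Subgroup.normalizer (P : Set G) := hH h.2
    have hhN' : (h : G)⁻¹ ∈ Subgroup.normalizer (P : Set G) := Subgroup.inv_mem _ hhN
    rw [mem_chainStab] at hg
    obtain ⟨hg1, hg2⟩ := hg
    show ((h * g * h⁻¹ : ↥H) : G) ∈ chainStab P' Ψ
    rw [mem_chainStab]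
    simp only [Subgroup.coe_mul, Subgroup.coe_inv]
    refine ⟨fun c hc => ?_, fun a ha => ?_⟩
    · have h1 := hP'inv _ hhN' c hc
      rw [inv_inv] at h1
      have h2 := hg1 _ h1
      calc (h : G) * g * (h : G)⁻¹ * c * ((h : G) * g * (h : G)⁻¹)⁻¹
          = (h : G) * ((g : G) * ((h : G)⁻¹ * c * (h : G)) * (g : G)⁻¹) * (h : G)⁻¹ := by group
        _ = c := by rw [h2]; group
    · have h1 := hΨinv _ hhN' a ha
      rw [inv_inv] at h1
      have h2 := hg2 _ h1
      have h3 := hP'inv _ hhN _ h2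
      have h4 : (h : G) * g * (h : G)⁻¹ * a * ((h : G) * g * (h : G)⁻¹)⁻¹ * a⁻¹
          = (h : G) * ((g : G) * ((h : G)⁻¹ * a * (h : G)) * (g : G)⁻¹ * ((h : G)⁻¹ * a * (h : G))⁻¹) * (h : G)⁻¹ := by
        group
      rw [h4]
      exact h3
  have hNYSt : NY ≤ chainStab P' Ψ := by
    rw [hNY]
    have h1 : Subgroup.normalClosure ((Y.subgroupOf H : Subgroup ↥H) : Set ↥H) ≤ (chainStab P' Ψ).subgroupOf H := by
      apply Subgroup.normalClosure_le_normal
      intro x hx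
      rw [SetLike.mem_coe, Subgroup.mem_subgroupOf] at hx ⊢
      exact hYSt hx
    rintro _ ⟨z, hz, rfl⟩
    exact Subgroup.mem_subgroupOf.mp (h1 hz)
  -- conclusion
  rw [Subgroup.map_le_iff_le_comap]
  unfold Cfsg.pResidual
  rw [Subgroup.closure_le]
  intro x hx
  have hx' : Nat.Coprime (orderOf x) p := hx
  rw [SetLike.mem_coe, Subgroup.mem_comap, Subgroup.mem_centralizer_iff]
  intro a ha
  have haΨ : a ∈ Ψ := hΦΨ ha
  have hxSt := hNYSt x.2
  rw [mem_chainStab] at hxSt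
  obtain ⟨hx1, hx2⟩ := hxSt
  set g : G := NY.subtype x with hg
  set z := g * a * g⁻¹ * a⁻¹ with hz
  have hzP' : z ∈ P' := hx2 a haΨ
  have hgz : g * z * g⁻¹ = z := hx1 z hzP'
  have hconj : g * a * g⁻¹ = z * a := by rw [hz]; group
  have hpow : ∀ n : ℕ, g ^ n * a * (g ^ n)⁻¹ = z ^ n * a := by
    intro n
    induction n with
    | zero => simp
    | succ n ih =>
      have hzn : g * z ^ n * g⁻¹ = z ^ n := by
        have h4 := map_pow (MulAut.conj g).toMonoidHom z n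
        simp only [MulEquiv.coe_toMonoidHom, MulAut.conj_apply] at h4
        rw [h4, hgz]
      calc g ^ (n + 1) * a * (g ^ (n + 1))⁻¹ = g * (g ^ n * a * (g ^ n)⁻¹) * g⁻¹ := by
            rw [pow_succ']; group
        _ = g * (z ^ n * a) * g⁻¹ := by rw [ih]
        _ = (g * z ^ n * g⁻¹) * (g * a * g⁻¹) := by group
        _ = z ^ n * (z * a) := by rw [hzn, hconj]
        _ = z ^ (n + 1) * a := by rw [pow_succ]; group
  have hog : orderOf g = orderOf x := by
    rw [hg]; exact Subgroup.orderOf_coe x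
  have h2 := hpow (orderOf g)
  rw [pow_orderOf_eq_one, one_mul, inv_one, mul_one] at h2
  have h3 : z ^ orderOf g = 1 := by
    have := mul_right_cancel (a := 1) (b := a) (c := z ^ orderOf g) (by rw [one_mul]; exact h2)
    exact this.symm
  have hzP : z ∈ P := hP'P hzP'
  obtain ⟨k, hk⟩ := hP ⟨z, hzP⟩
  have hk' : z ^ p ^ k = 1 := by
    have h0 := congrArg Subtype.val hk
    rw [Subgroup.coe_pow, Subgroup.coe_one] at h0
    exact h0
  have h4 : z ^ Nat.gcd (orderOf g) (p ^ k) = 1 := pow_gcd_eq_one.mpr ⟨h3, hk'⟩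
  rw [hog, Nat.Coprime.pow_right k hx', pow_one] at h4
  rw [h4, one_mul] at hconj
  calc a * g = (g * a * g⁻¹) * g := by rw [hconj]
    _ = g * a := by group

end Cfsg.Agent.S2819
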