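import Mathlib
import Cfsg.Statements.S2820
import Cfsg.Agent.Helper2.SubnormalP

set_option autoImplicit false
open Cfsg

namespace Cfsg.Agent.S2820

open Cfsg.Agent.Helper2

/-- Let A and B be subnormal subgroups of the finite group H with A a p-group and B = O^p(B) (B generated by its elements of order prime to p). Then A normalizes B and B = O^p(AB), the subgroup of ⟨A, B⟩ generated by its elements of order prime to p. -/
theorem result {H : Type*} [Group H] [Finite H] {p : ℕ} [Fact p.Prime] (A B : Subgroup H) (hA : A.IsSubnormal) (hB : B.IsSubnormal) (hAp : IsPGroup p ↥A) (hBres : (Cfsg.pResidual p ↥B).map B.subtype = B) : A ≤ Subgroup.normalizer (B : Set H) ∧ (Cfsg.pResidual p ↥(A ⊔ B)).map (A ⊔ B).subtype = B := by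
  have hPn : (Cfsg.pCore p H).Normal := by
    rw [Cfsg.Agent.Helper1.pCore_eq_iInf_sylow]
    exact Cfsg.Agent.Helper1.iInf_sylow_normal p
  have hPp : IsPGroup p ↥(Cfsg.pCore p H) := Cfsg.Agent.Helper1.pCore_isPGroup p
  have hAP : A ≤ Cfsg.pCore p H := isSubnormal_pGroup_le_pCore hA hAp
  have hBgen : B = Subgroup.closure (B.subtype '' {g : ↥B | Nat.Coprime (orderOf g) p}) := by
    conv_lhs => rw [← hBres]
    rw [Cfsg.pResidual, MonoidHom.map_closure]
  have hAB : A ≤ Subgroup.normalizer (B : Set H) := by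
    apply le_normalizer_of_conj_mem
    intro a ha
    have hle : B ≤ Subgroup.comap (MulAut.conj a).toMonoidHom B := by
      conv_lhs => rw [hBgen]
      rw [Subgroup.closure_le]
      rintro _ ⟨g, hg, rfl⟩
      change a * (g : H) * a⁻¹ ∈ B
      apply mem_of_coprime_orderOf_of_mem_normal_sup_subnormal (Cfsg.pCore p H) hPp hB
      · exact Subgroup.mul_mem _ (Subgroup.mul_mem _ (le_sup_left (a := Cfsg.pCore p H) (hAP ha))
          (le_sup_right (a := Cfsg.pCore p H) g.2)) (Subgroup.inv_mem _ (le_sup_left (a := Cfsg.pCore p H) (hAP ha)))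
      · have h1 : orderOf (a * (g : H) * a⁻¹) = orderOf (g : H) := by
          have := orderOf_injective (MulAut.conj a).toMonoidHom (MulAut.conj a).injective (g : H)
          simpa using this
        rw [h1, Subgroup.orderOf_coe]
        exact hg
    intro x hx
    exact hle hx
  refine ⟨hAB, le_antisymm ?_ ?_⟩
  · rw [Cfsg.pResidual, MonoidHom.map_closure, Subgroup.closure_le]
    rintro _ ⟨g, hg, rfl⟩
    have hg' : (g : H) ∈ B ⊔ A := by rw [sup_comm]; exact g.2
    apply mem_of_coprime_orderOf_of_mem_sup hAp hAB hg'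
    rw [Subgroup.orderOf_coe]
    exact hg
  · conv_lhs => rw [hBgen]
    rw [Subgroup.closure_le]
    rintro _ ⟨g, hg, rfl⟩
    refine ⟨⟨(g : H), le_sup_right (a := A) g.2⟩, ?_, rfl⟩
    apply Subgroup.subset_closure
    change Nat.Coprime (orderOf (⟨(g : H), le_sup_right (a := A) g.2⟩ : ↥(A ⊔ B))) p
    rw [← Subgroup.orderOf_coe]
    change Nat.Coprime (orderOf (g : H)) p
    rw [Subgroup.orderOf_coe]
    exact hg

end Cfsg.Agent.S2820
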