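import Mathlib
import Cfsg.Agent.Helper5.NormMap
import Cfsg.Agent.Helper5.PReducedRel2
import Cfsg.Agent.Helper5.LargeSub
import Cfsg.Agent.Helper5.PResidual
import Cfsg.Agent.Helper2.Component
import Cfsg.Statements.S2823
-- import your own Cfsg.Agent.* helpers here

set_option autoImplicit false
open Cfsg Cfsg.Agent.Helper5

namespace Cfsg.Agent.S2823

/-- Let H be a finite group, p a prime, T a Sylow p-subgroup and L a subgroup of characteristic p containing T; let Z_L be the subgroup generated by the Ω₁(Z(S)) over the Sylow p-subgroups S of L and O^p(L) the subgroup generated by the elements of L of order prime to p. Then Z_L = Ω₁(Z(L))·[Z_L, O^p(L)] and [Z_L, L] = [Z_L, O^p(L)]. -/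
theorem result {H : Type*} [Group H] [Finite H] {p : ℕ} [Fact p.Prime] (T : Sylow p H) (L : Subgroup H) (hTL : (T : Subgroup H) ≤ L) (hL : Subgroup.centralizer (Cfsg.pCore p ↥L : Set ↥L) ≤ Cfsg.pCore p ↥L) : Cfsg.sylowCenterClosure p L = (Cfsg.omegaOne p (L ⊓ Subgroup.centralizer ((L : Subgroup H) : Set H))) ⊔ ⁅Cfsg.sylowCenterClosure p L, (Cfsg.pResidual p ↥L).map L.subtype⁆ ∧ ⁅Cfsg.sylowCenterClosure p L, L⁆ = ⁅Cfsg.sylowCenterClosure p L, (Cfsg.pResidual p ↥L).map L.subtype⁆ := by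
  classical
  have hp : p.Prime := Fact.out
  have hPZ := pRedIn_sylowCenterClosure L hL
  obtain ⟨hZL, hLZ, hZel, -⟩ := hPZ
  set Z := Cfsg.sylowCenterClosure p L with hZ
  set R := (Cfsg.pResidual p ↥L).map L.subtype with hR
  have hZc : IsMulCommutative ↥Z := hZel.1
  have hRL : R ≤ L := by rintro _ ⟨x, -, rfl⟩; exact x.2
  have hLR : L ≤ Subgroup.normalizer (R : Set H) := by
    have hc : (Cfsg.pResidual p ↥L).Characteristic := pResidual_characteristic (G := ↥L) p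
    exact le_normalizer_map_subtype_of_normal L _ inferInstance
  have hfac : ∀ l ∈ L, ∃ r ∈ R, ∃ t ∈ (T : Subgroup H), l = r * t := by
    intro l hl
    have hc : (Cfsg.pResidual p ↥L).Characteristic := pResidual_characteristic (G := ↥L) p
    have htop : (⟨l, hl⟩ : ↥L) ∈ Cfsg.pResidual p ↥L ⊔ ((T.subtype hTL : Sylow p ↥L) : Subgroup ↥L) := by
      rw [pResidual_sup_sylow]; exact Subgroup.mem_top _
    obtain ⟨y, hy, t, ht, hyt⟩ := Subgroup.mem_sup_of_normal_left.mp htop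
    rw [Sylow.coe_subtype, Subgroup.mem_subgroupOf] at ht
    refine ⟨(y : H), ⟨y, hy, rfl⟩, (t : H), ht, ?_⟩
    have := congrArg Subtype.val hyt
    simpa using this.symm
  have hidx : ((T : Subgroup H).relIndex L).Coprime p := by
    have h1 : (T : Subgroup H).subgroupOf L = ((T.subtype hTL : Sylow p ↥L) : Subgroup ↥L) := by
      rw [Sylow.coe_subtype]
    rw [Subgroup.relIndex, h1]
    exact ((Nat.Prime.coprime_iff_not_dvd hp).mpr (T.subtype hTL).not_dvd_index).symm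
  have hWZ : ⁅Z, R⁆ ≤ Z := by
    rw [Subgroup.commutator_comm]
    exact Cfsg.Agent.Helper2.commutator_le_of_le_normalizer (hRL.trans hLZ)
  have hLW : L ≤ Subgroup.normalizer ((⁅Z, R⁆ : Subgroup H) : Set H) := by
    intro l hl
    rw [mem_normalizer_iff_map_conj, Subgroup.map_commutator,
      (mem_normalizer_iff_map_conj Z l).mp (hLZ hl), (mem_normalizer_iff_map_conj R l).mp (hLR hl)]
  set Z₀ := Cfsg.omegaOne p ((T : Subgroup H) ⊓ Subgroup.centralizer ((T : Subgroup H) : Set H)) with hZ₀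
  have hZ₀Z : Z₀ ≤ Z := by
    rw [hZ]; unfold Cfsg.sylowCenterClosure
    refine le_trans ?_ (le_iSup _ (T.subtype hTL))
    have : ((T.subtype hTL : Sylow p ↥L) : Subgroup ↥L).map L.subtype = (T : Subgroup H) := by
      rw [Sylow.coe_subtype, Subgroup.map_subgroupOf_eq_of_le hTL]
    rw [this]
  have hZ₀T : Z₀ ≤ Subgroup.centralizer ((T : Subgroup H) : Set H) := by
    rw [hZ₀]; unfold Cfsg.omegaOne
    rw [Subgroup.closure_le]
    intro x hx; exact hx.1.2
  -- Z ≤ Z₀ ⊔ W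
  have hZle : Z ≤ Z₀ ⊔ ⁅Z, R⁆ := by
    rw [hZ]; unfold Cfsg.sylowCenterClosure
    apply iSup_le
    intro S
    obtain ⟨l, hl⟩ := MulAction.exists_smul_eq ↥L (T.subtype hTL) S
    obtain ⟨r, hr, t, ht, hlrt⟩ := hfac (l : H) l.2
    have hScoe : (S : Subgroup ↥L) = ((T : Subgroup H).subgroupOf L).map (MulAut.conj l).toMonoidHom := by
      rw [← hl, Sylow.coe_subgroup_smul, Sylow.coe_subtype, map_conj_eq_smul]
    have hSmem : ∀ y : H, y ∈ (S : Subgroup ↥L).map L.subtype ↔ r⁻¹ * y * r ∈ (T : Subgroup H) := by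
      intro y
      constructor
      · rintro ⟨x, hx, rfl⟩
        have hx0 : x ∈ (S : Subgroup ↥L) := hx
        rw [hScoe, mem_map_conj_iff, Subgroup.mem_subgroupOf] at hx0
        have hx' : (l : H)⁻¹ * (x : H) * (l : H) ∈ (T : Subgroup H) := by simpa using hx0
        rw [hlrt] at hx'
        have e : r⁻¹ * (L.subtype x) * r = t * ((r * t)⁻¹ * (x : H) * (r * t)) * t⁻¹ := by
          simp only [Subgroup.coe_subtype]; group
        rw [e]
        exact (T : Subgroup H).mul_mem ((T : Subgroup H).mul_mem ht hx') ((T : Subgroup H).inv_mem ht)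
      · intro hy
        have hyL : y ∈ L := by
          have h1 : r⁻¹ * y * r ∈ L := hTL hy
          have e : y = r * (r⁻¹ * y * r) * r⁻¹ := by group
          rw [e]; exact L.mul_mem (L.mul_mem (hRL hr) h1) (L.inv_mem (hRL hr))
        refine ⟨⟨y, hyL⟩, ?_, rfl⟩
        show (⟨y, hyL⟩ : ↥L) ∈ (S : Subgroup ↥L)
        rw [hScoe, mem_map_conj_iff, Subgroup.mem_subgroupOf]
        have e : (((l⁻¹ * ⟨y, hyL⟩ * l : ↥L)) : H) = t⁻¹ * (r⁻¹ * y * r) * t := by
          simp only [Subgroup.coe_mul, Subgroup.coe_inv, hlrt]; group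
        rw [e]
        exact (T : Subgroup H).mul_mem ((T : Subgroup H).mul_mem ((T : Subgroup H).inv_mem ht) hy) ht
    unfold Cfsg.omegaOne
    rw [Subgroup.closure_le]
    rintro x ⟨⟨hxT, hxC⟩, hxp⟩
    have hxT : r⁻¹ * x * r ∈ (T : Subgroup H) := (hSmem x).mp hxT
    -- x = r x₀ r⁻¹ with x₀ ∈ Z₀
    have hx₀C : r⁻¹ * x * r ∈ Subgroup.centralizer ((T : Subgroup H) : Set H) := by
      rw [Subgroup.mem_centralizer_iff]
      intro s hs
      have hrs : r * s * r⁻¹ ∈ (S : Subgroup ↥L).map L.subtype := by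
        rw [hSmem]
        have e : r⁻¹ * (r * s * r⁻¹) * r = s := by group
        rw [e]; exact hs
      have := (Subgroup.mem_centralizer_iff.mp hxC) (r * s * r⁻¹) hrs
      calc s * (r⁻¹ * x * r) = r⁻¹ * ((r * s * r⁻¹) * x) * r := by group
        _ = r⁻¹ * (x * (r * s * r⁻¹)) * r := by rw [this]
        _ = r⁻¹ * x * r * s := by group
    have hx₀p : (r⁻¹ * x * r) ^ p = 1 := by
      have : r⁻¹ * x * r = r⁻¹ * x * r⁻¹⁻¹ := by rw [inv_inv]
      rw [this, conj_pow, hxp, mul_one, inv_inv, inv_mul_cancel]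
    have hx₀ : r⁻¹ * x * r ∈ Z₀ := Subgroup.subset_closure ⟨⟨hxT, hx₀C⟩, hx₀p⟩
    have hcomm : (r⁻¹ * x * r)⁻¹ * r * (r⁻¹ * x * r) * r⁻¹ ∈ ⁅Z, R⁆ := by
      have := Subgroup.commutator_mem_commutator (Subgroup.inv_mem Z (hZ₀Z hx₀)) hr
      rw [commutatorElement_def, inv_inv] at this
      exact this
    have e : x = (r⁻¹ * x * r) * ((r⁻¹ * x * r)⁻¹ * r * (r⁻¹ * x * r) * r⁻¹) := by group
    rw [SetLike.mem_coe, e]
    exact Subgroup.mul_mem _ (Subgroup.mem_sup_left hx₀) (Subgroup.mem_sup_right hcomm)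
  -- second claim
  have h2 : ⁅Z, L⁆ = ⁅Z, R⁆ := by
    apply le_antisymm _ (Subgroup.commutator_mono le_rfl hRL)
    have hRg : R ≤ commGuard Z ⁅Z, R⁆ := by
      intro x hx
      refine ⟨hLW (hRL hx), fun c hc => ?_⟩
      have := Subgroup.commutator_mem_commutator hx hc
      rw [commutatorElement_def, Subgroup.commutator_comm] at this
      exact this
    have hTg : (T : Subgroup H) ≤ commGuard Z ⁅Z, R⁆ := by
      intro t ht
      refine ⟨hLW (hTL ht), fun c hc => ?_⟩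
      have hZ₀N : Z₀ ≤ Subgroup.normalizer ((⁅Z, R⁆ : Subgroup H) : Set H) := (hZ₀Z.trans hZL).trans hLW
      have hdec := Subgroup.coe_mul_of_left_le_normalizer_right Z₀ ⁅Z, R⁆ hZ₀N
      have hc' : c ∈ ((Z₀ ⊔ ⁅Z, R⁆ : Subgroup H) : Set H) := hZle hc
      rw [hdec] at hc'
      obtain ⟨z₀, hz₀, w, hw, rfl⟩ := Set.mem_mul.mp hc'
      have htz : t * z₀ = z₀ * t := (Subgroup.mem_centralizer_iff.mp (hZ₀T hz₀)) t ht
      have h1 : t * w * t⁻¹ ∈ ⁅Z, R⁆ := (Subgroup.mem_normalizer_iff.mp (hLW (hTL ht)) w).mp hw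
      have h3 : z₀ * (t * w * t⁻¹ * w⁻¹) * z₀⁻¹ ∈ ⁅Z, R⁆ :=
        (Subgroup.mem_normalizer_iff.mp (hZ₀N hz₀) _).mp (Subgroup.mul_mem _ h1 (Subgroup.inv_mem _ hw))
      have e : t * (z₀ * w) * t⁻¹ * (z₀ * w)⁻¹ = z₀ * (t * w * t⁻¹ * w⁻¹) * z₀⁻¹ := by
        calc t * (z₀ * w) * t⁻¹ * (z₀ * w)⁻¹ = (t * z₀) * w * t⁻¹ * w⁻¹ * z₀⁻¹ := by group
          _ = (z₀ * t) * w * t⁻¹ * w⁻¹ * z₀⁻¹ := by rw [htz]
          _ = _ := by group
      rw [e]; exact h3
    rw [Subgroup.commutator_comm, Subgroup.commutator_le]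
    intro l hl c hc
    obtain ⟨r, hr, t, ht, rfl⟩ := hfac l hl
    have := ((mem_commGuard _ _ _).mp (Subgroup.mul_mem _ (hRg hr) (hTg ht))).2 c hc
    rw [commutatorElement_def]; exact this
  refine ⟨?_, h2⟩
  apply le_antisymm
  · refine hZle.trans (sup_le ?_ le_sup_right)
    rw [hZ₀]; unfold Cfsg.omegaOne
    rw [Subgroup.closure_le]
    rintro u ⟨⟨huT, huC⟩, hup⟩
    have huZ : u ∈ Z := hZ₀Z (Subgroup.subset_closure ⟨⟨huT, huC⟩, hup⟩)
    have := mem_sup_of_norm (p := p) Z L R (T : Subgroup H) hLZ hfac hidx u huZ huC hup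
    have hle : (Z ⊓ Subgroup.centralizer (L : Set H)) ⊔ ⁅Z, R⁆ ≤
        Subgroup.closure {x : H | x ∈ L ⊓ Subgroup.centralizer ((L : Subgroup H) : Set H) ∧ x ^ p = 1} ⊔ ⁅Z, R⁆ := by
      refine sup_le (le_trans ?_ le_sup_left) le_sup_right
      intro x hx
      exact Subgroup.subset_closure ⟨⟨hZL hx.1, hx.2⟩, hZel.2 x hx.1⟩
    exact hle this
  · refine sup_le ?_ hWZ
    unfold Cfsg.omegaOne
    rw [Subgroup.closure_le]
    rintro x ⟨⟨hxL, hxC⟩, hxp⟩
    apply hZ₀Z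
    apply Subgroup.subset_closure
    refine ⟨⟨?_, Subgroup.centralizer_le (by exact_mod_cast hTL) hxC⟩, hxp⟩
    -- x ∈ T : x is a p-element of L, conjugate into T within L, central
    have hxpg : IsPGroup p ↥(Subgroup.zpowers x) := by
      rintro ⟨y, hy⟩
      obtain ⟨k, rfl⟩ := Subgroup.mem_zpowers_iff.mp hy
      refine ⟨1, ?_⟩
      apply Subtype.ext
      simp only [pow_one, Subgroup.coe_pow, Subgroup.coe_one]
      rw [← zpow_natCast, ← zpow_mul, mul_comm, zpow_mul, zpow_natCast, hxp, one_zpow]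
    obtain ⟨k, hk, hconj⟩ := exists_conj_le_sylow_of_le T L hTL (Subgroup.zpowers x)
      (by rw [Subgroup.zpowers_le]; exact hxL) hxpg
    have := hconj x (Subgroup.mem_zpowers x)
    have hkx : k * x = x * k := (Subgroup.mem_centralizer_iff.mp hxC) k hk
    rwa [hkx, mul_inv_cancel_right] at this

end Cfsg.Agent.S2823
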