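import Mathlib
import Cfsg.Agent.Helper5.PRedSub
import Cfsg.Statements.S2825
-- import your own Cfsg.Agent.* helpers here

set_option autoImplicit false
open Cfsg Cfsg.Agent.Helper5 Cfsg.Agent.Helper5.PRS

namespace Cfsg.Agent.S2825

theorem pRed_iff_pRedIn_top {H : Type*} [Group H] {p : ℕ} (V : Subgroup H) :
    PRed p V ↔ PRedIn p ⊤ V := by
  constructor
  · rintro ⟨hn, hel, hD⟩
    refine ⟨le_top, ?_, hel, fun D _ hDN hact => ?_⟩
    · rw [Subgroup.normalizer_eq_top V]
    · have hDn : D.Normal := Subgroup.normalizer_eq_top_iff.mp (top_le_iff.mp hDN)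
      exact hD D hDn hact
  · rintro ⟨_, hN, hel, hD⟩
    refine ⟨Subgroup.normalizer_eq_top_iff.mp (top_le_iff.mp hN), hel, fun D hDn hact => ?_⟩
    apply hD D le_top ?_ hact
    rw [Subgroup.normalizer_eq_top D]

/-- Let L be a subnormal subgroup of the finite group H, p a prime, Y_H and Y_L the largest p-reduced normal subgroups. Then Y_H ∩ L = Y_H ∩ Y_L and this subgroup is a p-reduced normal subgroup of L; C_L(Y_L) = C_L(Y_H) = C_L(Y_H ∩ L); and if O^p(H) ≤ L, then [Y_L, L] = 1 if and only if [Y_H, H] = 1. -/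
theorem result {H : Type*} [Group H] [Finite H] {p : ℕ} [Fact p.Prime] (L : Subgroup H) (hL : L.IsSubnormal) : Cfsg.largestPReduced p H ⊓ L = Cfsg.largestPReduced p H ⊓ (Cfsg.largestPReducedOf p L) ∧ Cfsg.IsPReducedNormal p ((Cfsg.largestPReduced p H ⊓ L).subgroupOf L) ∧ L ⊓ Subgroup.centralizer ((Cfsg.largestPReducedOf p L : Subgroup H) : Set H) = L ⊓ Subgroup.centralizer (Cfsg.largestPReduced p H : Set H) ∧ L ⊓ Subgroup.centralizer (Cfsg.largestPReduced p H : Set H) = L ⊓ Subgroup.centralizer ((Cfsg.largestPReduced p H ⊓ L : Subgroup H) : Set H) ∧ (Cfsg.pResidual p H ≤ L → (⁅(Cfsg.largestPReducedOf p L), L⁆ = ⊥ ↔ ⁅Cfsg.largestPReduced p H, (⊤ : Subgroup H)⁆ = ⊥)) := by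
  set Y := Cfsg.largestPReduced p H with hYdef
  have hY : PRed p Y := pRed_largestPReduced p
  have hYtop : PRedIn p ⊤ Y := (pRed_iff_pRedIn_top Y).mp hY
  have main : PRedIn p L (Y ⊓ L) ∧
      L ⊓ Subgroup.centralizer ((Y ⊓ L : Subgroup H) : Set H) ≤ Subgroup.centralizer (Y : Set H) ∧
      L ⊓ Subgroup.centralizer (Y : Set H) ≤
        Subgroup.centralizer ((Cfsg.largestPReducedOf p L : Subgroup H) : Set H) := by
    induction hL with
    | top =>
      refine ⟨by rw [inf_top_eq]; exact hYtop, by rw [inf_top_eq]; exact inf_le_right, ?_⟩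
      have h1 : PRed p (Cfsg.largestPReducedOf p (⊤ : Subgroup H)) :=
        (pRed_iff_pRedIn_top _).mpr (pRedIn_largestPReducedOf p ⊤)
      exact inf_le_right.trans (Subgroup.centralizer_le h1.le_largestPReduced)
    | step L K hLK hK hN ih =>
      obtain ⟨hA, hB, hC⟩ := ih
      have hKL : K ≤ Subgroup.normalizer (L : Set H) :=
        (Subgroup.normal_subgroupOf_iff_le_normalizer hLK).mp hN
      have heq : Y ⊓ K ⊓ L = Y ⊓ L := by rw [inf_assoc, inf_eq_right.mpr hLK]
      have hA' := PRedIn.inf_of_normal hA hLK hKL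
      have hB' := PRedIn.inf_centralizer_le hA hLK hKL
      rw [heq] at hA' hB'
      refine ⟨hA', ?_, ?_⟩
      · intro x hx
        exact hB ⟨hLK hx.1, hB' hx⟩
      · intro x hx
        have h1 : x ∈ Subgroup.centralizer ((Cfsg.largestPReducedOf p K : Subgroup H) : Set H) :=
          hC ⟨hLK hx.1, hx.2⟩
        exact inf_centralizer_largestPReducedOf_le hLK hKL ⟨hx.1, h1⟩
  obtain ⟨hA, hB, hC⟩ := main
  have hYLL : Cfsg.largestPReducedOf p L ≤ L := (pRedIn_largestPReducedOf p L).1
  have hYL : Y ⊓ L ≤ Cfsg.largestPReducedOf p L := hA.le_largestPReducedOf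
  have h3 : L ⊓ Subgroup.centralizer ((Cfsg.largestPReducedOf p L : Subgroup H) : Set H) =
      L ⊓ Subgroup.centralizer (Y : Set H) := by
    apply le_antisymm
    · intro x hx
      exact ⟨hx.1, hB ⟨hx.1, Subgroup.centralizer_le hYL hx.2⟩⟩
    · intro x hx
      exact ⟨hx.1, hC hx⟩
  refine ⟨?_, ?_, h3, ?_, ?_⟩
  · exact le_antisymm (le_inf inf_le_left hYL) (le_inf inf_le_left (inf_le_right.trans hYLL))
  · rw [isPReducedNormal_iff_pRed, pRed_iff_pRedIn_map, Subgroup.map_subgroupOf_eq_of_le inf_le_right]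
    exact hA
  · apply le_antisymm
    · intro x hx
      exact ⟨hx.1, Subgroup.centralizer_le inf_le_left hx.2⟩
    · intro x hx
      exact ⟨hx.1, hB hx⟩
  · intro hres
    rw [Subgroup.commutator_comm, Subgroup.commutator_eq_bot_iff_le_centralizer,
      Subgroup.commutator_comm, Subgroup.commutator_eq_bot_iff_le_centralizer]
    constructor
    · intro hLc
      have hLY : L ≤ Subgroup.centralizer (Y : Set H) := by
        intro x hx
        have : x ∈ L ⊓ Subgroup.centralizer (Y : Set H) := by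
          rw [← h3]; exact ⟨hx, hLc hx⟩
        exact this.2
      apply hY.2.2 ⊤ inferInstance
      intro h _
      obtain ⟨k, hk⟩ := (isPGroup_quotient_pResidual (G := H) p) (QuotientGroup.mk h)
      refine ⟨k, ?_⟩
      rw [← QuotientGroup.mk_pow, QuotientGroup.eq_one_iff] at hk
      exact hLY (hres hk)
    · intro htop x hx
      have : x ∈ L ⊓ Subgroup.centralizer ((Cfsg.largestPReducedOf p L : Subgroup H) : Set H) := by
        rw [h3]; exact ⟨hx, htop (Subgroup.mem_top x)⟩
      exact this.2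

end Cfsg.Agent.S2825
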