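import Mathlib
import Cfsg.Agent.Helper5.NormMap
import Cfsg.Agent.Helper5.Cores
import Cfsg.Agent.Helper5.PResidual
import Cfsg.Statements.S2826
-- import your own Cfsg.Agent.* helpers here

set_option autoImplicit false
open Cfsg Cfsg.Agent.Helper5

namespace Cfsg.Agent.S2826

/-- Let H be a finite group of characteristic p, T a Sylow p-subgroup, and V a normal elementary abelian p-subgroup of H containing Ω₁(Z(T)). Then C_H(Ω₁(Z(T))) = C_H([V, O^p(H)] ∩ Ω₁(Z(T))), O^p(H) being generated by the elements of order prime to p. -/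
theorem result {H : Type*} [Group H] [Finite H] {p : ℕ} [Fact p.Prime] (hH : Subgroup.centralizer (Cfsg.pCore p H : Set H) ≤ Cfsg.pCore p H) (T : Sylow p H) (V : Subgroup H) [V.Normal] (hV : Cfsg.IsElementaryAbelian p V) (hZV : (Cfsg.omegaOne p ((T : Subgroup H) ⊓ Subgroup.centralizer (((T : Subgroup H) : Subgroup H) : Set H))) ≤ V) : Subgroup.centralizer ((Cfsg.omegaOne p ((T : Subgroup H) ⊓ Subgroup.centralizer (((T : Subgroup H) : Subgroup H) : Set H))) : Set H) = Subgroup.centralizer (((⁅V, Cfsg.pResidual p H⁆ ⊓ (Cfsg.omegaOne p ((T : Subgroup H) ⊓ Subgroup.centralizer (((T : Subgroup H) : Subgroup H) : Set H)))) : Subgroup H) : Set H) := by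
  classical
  have hVc : IsMulCommutative ↥V := hV.1
  have hp : p.Prime := Fact.out
  apply le_antisymm
  · exact Subgroup.centralizer_le (by exact_mod_cast (inf_le_right :
      ⁅V, Cfsg.pResidual p H⁆ ⊓ (Cfsg.omegaOne p ((T : Subgroup H) ⊓
        Subgroup.centralizer (((T : Subgroup H) : Subgroup H) : Set H))) ≤ _))
  · set Z := Cfsg.omegaOne p ((T : Subgroup H) ⊓ Subgroup.centralizer (((T : Subgroup H) : Subgroup H) : Set H))
      with hZ
    set K := Subgroup.centralizer (((⁅V, Cfsg.pResidual p H⁆ ⊓ Z) : Subgroup H) : Set H) with hK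
    have hZT : Z ≤ Subgroup.centralizer ((T : Subgroup H) : Set H) := by
      rw [hZ]; unfold Cfsg.omegaOne
      rw [Subgroup.closure_le]
      intro x hx; exact hx.1.2
    have hTK : (T : Subgroup H) ≤ K := by
      refine (Subgroup.le_centralizer_iff.mp hZT).trans ?_
      exact Subgroup.centralizer_le (by exact_mod_cast (inf_le_right : ⁅V, Cfsg.pResidual p H⁆ ⊓ Z ≤ Z))
    have hVp : IsPGroup p ↥V := by
      intro x
      refine ⟨1, ?_⟩
      apply Subtype.ext
      rw [pow_one, Subgroup.coe_pow, Subgroup.coe_one]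
      exact hV.2 _ x.2
    have hVT : V ≤ (T : Subgroup H) := (le_pCore inferInstance hVp).trans (pCore_le_sylow T)
    rw [Subgroup.le_centralizer_iff]
    rw [hZ]; unfold Cfsg.omegaOne
    rw [Subgroup.closure_le]
    rintro u ⟨⟨huT, huC⟩, hup⟩
    have huV : u ∈ V := hZV (Subgroup.subset_closure ⟨⟨huT, huC⟩, hup⟩)
    set R₀ := (Cfsg.pResidual p ↥K).map K.subtype with hR₀
    have hfac : ∀ r ∈ K, ∃ r₀ ∈ R₀, ∃ t ∈ (T : Subgroup H), r = r₀ * t := by
      intro r hr
      have hc : (Cfsg.pResidual p ↥K).Characteristic := pResidual_characteristic (G := ↥K) p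
      have htop : (⟨r, hr⟩ : ↥K) ∈ Cfsg.pResidual p ↥K ⊔ ((T.subtype hTK : Sylow p ↥K) : Subgroup ↥K) := by
        rw [pResidual_sup_sylow]; exact Subgroup.mem_top _
      obtain ⟨y, hy, t, ht, hyt⟩ := Subgroup.mem_sup_of_normal_left.mp htop
      rw [Sylow.coe_subtype, Subgroup.mem_subgroupOf] at ht
      refine ⟨(y : H), ⟨y, hy, rfl⟩, (t : H), ht, ?_⟩
      have := congrArg Subtype.val hyt
      simpa using this.symm
    have hidx : ((T : Subgroup H).relIndex K).Coprime p := by
      have h1 : (T : Subgroup H).subgroupOf K = ((T.subtype hTK : Sylow p ↥K) : Subgroup ↥K) := by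
        rw [Sylow.coe_subtype]
      rw [Subgroup.relIndex, h1]
      exact ((Nat.Prime.coprime_iff_not_dvd hp).mpr (T.subtype hTK).not_dvd_index).symm
    have hKV : K ≤ Subgroup.normalizer (V : Set H) := by
      rw [Subgroup.normalizer_eq_top]; exact le_top
    obtain ⟨z, hzV, hzC, w, hw, hzw⟩ := exists_norm V K R₀ (T : Subgroup H) hKV hfac u huV huC
    have hR₀le : R₀ ≤ Cfsg.pResidual p H := by
      rw [hR₀]; unfold Cfsg.pResidual
      rw [MonoidHom.map_closure]
      apply Subgroup.closure_mono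
      rintro _ ⟨g, hg, rfl⟩
      show (orderOf ((g : ↥K) : H)).Coprime p
      rw [Subgroup.orderOf_coe]; exact hg
    have hwW : w ∈ ⁅V, Cfsg.pResidual p H⁆ := Subgroup.commutator_mono le_rfl hR₀le hw
    have hweq : w = (u ^ ((T : Subgroup H).relIndex K))⁻¹ * z := by rw [hzw, inv_mul_cancel_left]
    have hwV : w ∈ V := by
      rw [hweq]; exact V.mul_mem (V.inv_mem (V.pow_mem huV _)) hzV
    have hwZ : w ∈ Z := by
      apply Subgroup.subset_closure
      refine ⟨⟨hVT hwV, ?_⟩, hV.2 w hwV⟩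
      rw [hweq]
      exact Subgroup.mul_mem _ (Subgroup.inv_mem _ (Subgroup.pow_mem _ huC _))
        (Subgroup.centralizer_le (by exact_mod_cast hTK) hzC)
    have hwK : w ∈ Subgroup.centralizer (K : Set H) := by
      have h1 : ⁅V, Cfsg.pResidual p H⁆ ⊓ Z ≤ Subgroup.centralizer (K : Set H) :=
        Subgroup.le_centralizer_iff.mp le_rfl
      exact h1 ⟨hwW, hwZ⟩
    rw [SetLike.mem_coe]
    apply mem_of_pow_mem_of_coprime _ u ((T : Subgroup H).relIndex K) p hidx
    · have : u ^ ((T : Subgroup H).relIndex K) = z * w⁻¹ := by rw [hzw, mul_inv_cancel_right]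
      rw [this]
      exact Subgroup.mul_mem _ hzC (Subgroup.inv_mem _ hwK)
    · rw [hup]; exact Subgroup.one_mem _

end Cfsg.Agent.S2826
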