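import Mathlib
import Cfsg.Agent.Helper5.PClosedQuot
import Cfsg.Statements.S2828
-- import your own Cfsg.Agent.* helpers here

set_option autoImplicit false
open Cfsg Cfsg.Agent.Helper5

namespace Cfsg.Agent.S2828

/-- Let H be a finite group, p a prime and D a normal p-subgroup of H. Then H is p-irreducible if and only if H/D is p-irreducible, and H is strongly p-irreducible if and only if H/D is strongly p-irreducible. -/
theorem result {H : Type*} [Group H] [Finite H] {p : ℕ} [Fact p.Prime] (D : Subgroup H) [D.Normal] (hD : IsPGroup p ↥D) : (Cfsg.IsPIrreducible p H ↔ Cfsg.IsPIrreducible p (H ⧸ D)) ∧ (Cfsg.IsStronglyPIrreducible p H ↔ Cfsg.IsStronglyPIrreducible p (H ⧸ D)) := by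
  have hsurj := QuotientGroup.mk'_surjective D
  have hker : IsPGroup p ↥(QuotientGroup.mk' D).ker := by rw [QuotientGroup.ker_mk']; exact hD
  have hcl : Cfsg.IsPClosed p H ↔ Cfsg.IsPClosed p (H ⧸ D) := isPClosed_quotient_iff D hD
  have hres : Cfsg.pResidual p (H ⧸ D) = (Cfsg.pResidual p H).map (QuotientGroup.mk' D) :=
    pResidual_quotient D
  have hcore : (Cfsg.pCore p (H ⧸ D)).comap (QuotientGroup.mk' D) = Cfsg.pCore p H :=
    comap_pCore_quotient D hD
  have htop : (⊤ : Subgroup H).map (QuotientGroup.mk' D) = ⊤ := by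
    rw [← MonoidHom.range_eq_map, MonoidHom.range_eq_top]; exact hsurj
  -- common final step
  have hfin : ∀ N : Subgroup H, N.Normal →
      Cfsg.pResidual p (H ⧸ D) ≤ N.map (QuotientGroup.mk' D) → Cfsg.pResidual p H ≤ N := by
    intro N hNn h1
    rw [hres, Subgroup.map_le_iff_le_comap, Subgroup.comap_map_eq, QuotientGroup.ker_mk'] at h1
    exact pResidual_le_of_le_sup N D hD h1
  refine ⟨⟨?_, ?_⟩, ⟨?_, ?_⟩⟩
  · rintro ⟨hncl, hirr⟩
    refine ⟨fun h => hncl (hcl.mpr h), fun Nb hNbn hNbncl => ?_⟩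
    set N := Nb.comap (QuotientGroup.mk' D) with hN
    have hNn : N.Normal := hNbn.comap _
    have hDN : (QuotientGroup.mk' D).ker ≤ N := MonoidHom.ker_le_comap _ _
    have hmap : N.map (QuotientGroup.mk' D) = Nb := Subgroup.map_comap_eq_self_of_surjective hsurj Nb
    have hNncl : ¬ Cfsg.IsPClosed p ↥N := by
      intro h
      apply hNbncl
      rw [isPClosed_iff_pClosedSub] at h ⊢
      have := PClosedSub.map (QuotientGroup.mk' D) hsurj hker N hDN h
      rwa [hmap] at this
    have h2 := hirr N hNn hNncl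
    rw [hres, Subgroup.map_le_iff_le_comap]
    exact h2
  · rintro ⟨hncl, hirr⟩
    refine ⟨fun h => hncl (hcl.mp h), fun N hNn hNncl => ?_⟩
    apply hfin N hNn
    apply hirr _ (hNn.map _ hsurj)
    intro h
    apply hNncl
    rw [isPClosed_iff_pClosedSub] at h ⊢
    exact PClosedSub.of_map (QuotientGroup.mk' D) hker N h
  · rintro ⟨hncl, hirr⟩
    refine ⟨fun h => hncl (hcl.mpr h), fun Nb hNbn hNb => ?_⟩
    set N := Nb.comap (QuotientGroup.mk' D) with hN
    have hNn : N.Normal := hNbn.comap _
    have hmap : N.map (QuotientGroup.mk' D) = Nb := Subgroup.map_comap_eq_self_of_surjective hsurj Nb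
    have hN' : ¬ ⁅N, (⊤ : Subgroup H)⁆ ≤ Cfsg.pCore p H := by
      intro h
      apply hNb
      rw [← hcore] at h
      have h3 := Subgroup.map_mono (f := QuotientGroup.mk' D) h
      rw [Subgroup.map_commutator, hmap, htop] at h3
      exact h3.trans (Subgroup.map_comap_le _ _)
    have h2 := hirr N hNn hN'
    rw [hres, Subgroup.map_le_iff_le_comap]
    exact h2
  · rintro ⟨hncl, hirr⟩
    refine ⟨fun h => hncl (hcl.mp h), fun N hNn hN => ?_⟩
    apply hfin N hNn
    apply hirr _ (hNn.map _ hsurj)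
    intro h
    apply hN
    rw [← hcore, ← Subgroup.map_le_iff_le_comap, Subgroup.map_commutator, htop]
    exact h

end Cfsg.Agent.S2828
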