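import Mathlib
import Cfsg.Agent.Helper5.PIrreducible
import Cfsg.Statements.S2830
-- import your own Cfsg.Agent.* helpers here

set_option autoImplicit false
open Cfsg Cfsg.Agent.Helper5

namespace Cfsg.Agent.S2830

theorem isPClosed_of_mulEquiv {A B : Type*} [Group A] [Group B] {p : ℕ} [Fact p.Prime] (e : A ≃* B)
    (hA : Cfsg.IsPClosed p A) : Cfsg.IsPClosed p B := by
  intro P
  have hr : (P : Subgroup B) ≤ e.toMonoidHom.range := by
    intro x _; exact ⟨e.symm x, by simp⟩
  have h1 : ((P : Subgroup B).comap e.toMonoidHom).Normal := hA (P.comapOfInjective e.toMonoidHom e.injective hr)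
  have h2 := h1.map e.toMonoidHom e.surjective
  rwa [Subgroup.map_comap_eq_self_of_surjective e.surjective] at h2

/-- Let H act by conjugation on the elementary abelian p-subgroup V of a finite group G (H ≤ N(V)), with H p-irreducible and O^p(H) not centralizing V. Then C_H(V) is p-closed and C_T(V) ≤ O_p(H) for every p-subgroup T of H. If in addition O_p(H) centralizes V, then C_T(V) = T ∩ O_p(H) for every p-subgroup T of H, and V is p-reduced for H: O_p(H/C_H(V)) = 1. -/
theorem result {G : Type*} [Group G] [Finite G] {p : ℕ} [Fact p.Prime] (V H : Subgroup G) (hV : Cfsg.IsElementaryAbelian p V) (hHV : H ≤ Subgroup.normalizer (V : Set G)) (hH : Cfsg.IsPIrreducible p ↥H) (hnc : ¬ (Cfsg.pResidual p ↥H).map H.subtype ≤ Subgroup.centralizer (V : Set G)) [hn : ((Subgroup.centralizer (V : Set G)).subgroupOf H).Normal] : Cfsg.IsPClosed p ↥(H ⊓ Subgroup.centralizer (V : Set G)) ∧ (∀ T : Subgroup G, T ≤ H → IsPGroup p ↥T → T ⊓ Subgroup.centralizer (V : Set G) ≤ Cfsg.pCoreOf p H) ∧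 (Cfsg.pCoreOf p H ≤ Subgroup.centralizer (V : Set G) → (∀ T : Subgroup G, T ≤ H → IsPGroup p ↥T → T ⊓ Subgroup.centralizer (V : Set G) = T ⊓ Cfsg.pCoreOf p H) ∧ Cfsg.pCore p (↥H ⧸ (Subgroup.centralizer (V : Set G)).subgroupOf H) = ⊥) := by
  set C := Subgroup.centralizer (V : Set G) with hC
  set C' := C.subgroupOf H with hC'
  obtain ⟨hncl, hirr⟩ := hH
  set R := Cfsg.pResidual p ↥H with hR
  have h0 : ¬ R ≤ C' := by
    intro h
    apply hnc
    rintro _ ⟨y, hy, rfl⟩
    exact Subgroup.mem_subgroupOf.mp (h hy)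
  have hcl : Cfsg.IsPClosed p ↥C' := by
    by_contra hc
    exact h0 (hirr C' hn hc)
  have hpc : ∀ T : Subgroup G, T ≤ H → IsPGroup p ↥T → T ⊓ C ≤ Cfsg.pCoreOf p H := by
    intro T hTH hTp
    have hYp : IsPGroup p ↥((T ⊓ C).subgroupOf H) := (hTp.to_le inf_le_left).comap_subtype
    have hYC : (T ⊓ C).subgroupOf H ≤ C' := by
      intro y hy
      rw [Subgroup.mem_subgroupOf] at hy ⊢
      exact hy.2
    have := le_pCore_of_le_pClosed_normal C' hcl _ hYp hYC
    intro x hx
    unfold Cfsg.pCoreOf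
    exact ⟨⟨x, hTH hx.1⟩, this (Subgroup.mem_subgroupOf.mpr hx), rfl⟩
  refine ⟨?_, hpc, fun hO => ⟨fun T hTH hTp => ?_, ?_⟩⟩
  · -- part 1
    have e1 : C' = (H ⊓ C).subgroupOf H := by rw [hC', Subgroup.inf_subgroupOf_left]
    have e := Subgroup.subgroupOfEquivOfLe (inf_le_left : H ⊓ C ≤ H)
    rw [e1] at hcl
    exact isPClosed_of_mulEquiv e hcl
  · apply le_antisymm
    · exact le_inf inf_le_left (hpc T hTH hTp)
    · exact le_inf inf_le_left (inf_le_right.trans hO)
  · -- part 3b
    have hO' : Cfsg.pCore p ↥H ≤ C' := by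
      intro y hy
      rw [Subgroup.mem_subgroupOf]
      apply hO
      exact ⟨y, hy, rfl⟩
    set Pb := Cfsg.pCore p (↥H ⧸ C') with hPb
    have hPbp : IsPGroup p ↥Pb := isPGroup_pCore p
    have hPbn : Pb.Normal := Cfsg.Agent.Helper4.pCore_normal
    set X := Pb.comap (QuotientGroup.mk' C') with hX
    have hXn : X.Normal := hPbn.comap _
    have hXC : X ≤ C' := by
      by_cases hXcl : Cfsg.IsPClosed p ↥X
      · intro x hx
        have hx' : (QuotientGroup.mk' C') x ∈ Pb := hx
        obtain ⟨k, hk⟩ := hPbp ⟨_, hx'⟩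
        have hk' : x ^ p ^ k ∈ C' := by
          have h1 := congrArg Subtype.val hk
          rw [← QuotientGroup.eq_one_iff]
          simpa using h1
        obtain ⟨e, m, hm, hxm⟩ := Nat.exists_eq_pow_mul_and_not_dvd (orderOf_pos x).ne' p
          (Fact.out : p.Prime).one_lt.ne'
        have hxm1 : (x ^ m) ^ p ^ e = 1 := by rw [← pow_mul, mul_comm, ← hxm, pow_orderOf_eq_one]
        have hzp : IsPGroup p ↥(Subgroup.zpowers (x ^ m)) := by
          have h1 : orderOf (x ^ m) ∣ p ^ e := orderOf_dvd_of_pow_eq_one hxm1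
          obtain ⟨j, -, hj⟩ := (Nat.dvd_prime_pow (Fact.out : p.Prime)).mp h1
          exact IsPGroup.of_card (n := j) (by rw [Nat.card_zpowers]; exact hj)
        have hzX : Subgroup.zpowers (x ^ m) ≤ X := by
          rw [Subgroup.zpowers_le]; exact X.pow_mem hx m
        have h2 := le_pCore_of_le_pClosed_normal X hXcl _ hzp hzX
        have hxmC : x ^ m ∈ C' := hO' (h2 (Subgroup.mem_zpowers _))
        have hcop : Nat.Coprime m (p ^ k) :=
          Nat.Coprime.pow_right k (((Fact.out : p.Prime).coprime_iff_not_dvd).mpr hm).symm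
        exact mem_of_pow_mem_of_coprime C' x m (p ^ k) hcop hxmC hk'
      · exfalso
        apply h0
        have hRX : R ≤ X := hirr X hXn hXcl
        have h3 := pResidual_le_ker (QuotientGroup.mk' C') Pb hPbp (Subgroup.map_le_iff_le_comap.mpr hRX)
        rwa [QuotientGroup.ker_mk'] at h3
    rw [eq_bot_iff]
    intro y hy
    obtain ⟨x, rfl⟩ := QuotientGroup.mk'_surjective C' y
    have h4 : x ∈ C' := hXC hy
    rw [Subgroup.mem_bot, QuotientGroup.mk'_apply, QuotientGroup.eq_one_iff]
    exact h4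

end Cfsg.Agent.S2830
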