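import Mathlib
import Cfsg.Agent.Helper5.Misc
import Cfsg.Agent.Helper1.Subnormal
import Cfsg.Statements.S2831
-- import your own Cfsg.Agent.* helpers here

set_option autoImplicit false
open Cfsg Cfsg.Agent.Helper5

namespace Cfsg.Agent.S2831

/-- Let H be a finite group with Sylow p-subgroup T such that H is T-minimal (H is generated by the conjugates of T and T lies in exactly one maximal subgroup of H). Then H is p-irreducible: H is not p-closed and O^p(H) lies in every normal subgroup of H that is not p-closed. -/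
theorem result {H : Type*} [Group H] [Finite H] {p : ℕ} [Fact p.Prime] (T : Sylow p H) (hmin : Cfsg.IsMinimalOver (T : Subgroup H)) : Cfsg.IsPIrreducible p H := by
  classical
  obtain ⟨hcl, M, ⟨hMco, hTM⟩, huniq⟩ := hmin
  -- proper subgroups containing T lie in M
  have hprop : ∀ K : Subgroup H, (T : Subgroup H) ≤ K → K ≠ ⊤ → K ≤ M := by
    intro K hTK hK
    rcases eq_top_or_exists_le_coatom K with h | ⟨M', hM', hKM'⟩
    · exact absurd h hK
    · have := huniq M' ⟨hM', hTK.trans hKM'⟩
      rw [← this]; exact hKM'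
  refine ⟨?_, ?_⟩
  · intro hcl'
    have hTn : (T : Subgroup H).Normal := hcl' T
    have h1 : Subgroup.normalClosure ((T : Subgroup H) : Set H) = (T : Subgroup H) :=
      Subgroup.normalClosure_eq_self _
    rw [h1] at hcl
    apply hMco.1
    rw [eq_top_iff, ← hcl]; exact hTM
  · intro N hN hNcl
    by_cases hK : N ⊔ (T : Subgroup H) = ⊤
    · -- H/N is a p-group
      unfold Cfsg.pResidual
      rw [Subgroup.closure_le]
      intro g hg
      have hgmem : g ∈ N ⊔ (T : Subgroup H) := by rw [hK]; exact Subgroup.mem_top _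
      rw [← SetLike.mem_coe, Subgroup.normal_mul] at hgmem
      obtain ⟨n, hn, t, ht, rfl⟩ := hgmem
      -- image of g in H/N equals image of t
      have hcop : (orderOf (n * t)).Coprime p := hg
      obtain ⟨k, hk⟩ := T.isPGroup' ⟨t, ht⟩
      have htk : t ^ (p ^ k) = 1 := by
        have := congrArg Subtype.val hk
        simpa using this
      -- (n t)^(p^k) ∈ N
      have h1 : ((n * t : H) : H ⧸ N) ^ (p ^ k) = 1 := by
        have : ((n * t : H) : H ⧸ N) = ((t : H) : H ⧸ N) := by
          rw [QuotientGroup.eq]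
          have : (n * t)⁻¹ * t = t⁻¹ * n⁻¹ * t := by group
          rw [this]
          have := hN.conj_mem n⁻¹ (N.inv_mem hn) t⁻¹
          simpa [mul_assoc] using this
        rw [this, ← QuotientGroup.mk_pow, htk, QuotientGroup.mk_one]
      have h2 : (n * t) ^ (p ^ k) ∈ N := by
        rw [← QuotientGroup.eq_one_iff, QuotientGroup.mk_pow]; exact h1
      have h3 : (n * t) ^ (orderOf (n * t)) ∈ N := by rw [pow_orderOf_eq_one]; exact N.one_mem
      have hc : Nat.Coprime (p ^ k) (orderOf (n * t)) := (Nat.Coprime.pow_right k hcop).symm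
      have h4 : (n * t) ^ (Nat.gcd (p ^ k) (orderOf (n * t))) ∈ N := by
        rw [← zpow_natCast, Nat.gcd_eq_gcd_ab, zpow_add, zpow_mul, zpow_mul, zpow_natCast, zpow_natCast]
        exact N.mul_mem (N.zpow_mem h2 _) (N.zpow_mem h3 _)
      rw [hc, pow_one] at h4
      exact h4
    · exfalso
      have hKM : N ⊔ (T : Subgroup H) ≤ M := hprop _ le_sup_right hK
      obtain ⟨Q, hQ⟩ := Cfsg.Agent.Helper1.sylow_inf_subnormal p N hN.isSubnormal T
      have hfr := Sylow.normalizer_sup_eq_top Q
      have hTnorm : (T : Subgroup H) ≤ Subgroup.normalizer (((Q : Subgroup ↥N).map N.subtype : Subgroup H) : Set H) := by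
        intro t ht
        apply mem_normalizer_of_conj_mem
        rintro _ ⟨x, hx, rfl⟩
        rw [hQ] at hx
        replace hx : (x : H) ∈ (T : Subgroup H) := Subgroup.mem_subgroupOf.mp hx
        have hxN : t * (x : H) * t⁻¹ ∈ N := hN.conj_mem _ x.2 t
        refine ⟨⟨t * (x : H) * t⁻¹, hxN⟩, ?_, rfl⟩
        rw [hQ]
        exact Subgroup.mem_subgroupOf.mpr
          ((T : Subgroup H).mul_mem ((T : Subgroup H).mul_mem ht hx) ((T : Subgroup H).inv_mem ht))
      have hNtop : Subgroup.normalizer (((Q : Subgroup ↥N).map N.subtype : Subgroup H) : Set H) = ⊤ := by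
        by_contra hne
        have h1 := hprop _ hTnorm hne
        have h2 : (⊤ : Subgroup H) ≤ M := by
          rw [← hfr]
          exact sup_le h1 (le_sup_left.trans hKM)
        exact hMco.1 (eq_top_iff.mpr h2)
      have hRn : ((Q : Subgroup ↥N).map N.subtype).Normal := Subgroup.normalizer_eq_top_iff.mp hNtop
      have hQn : (Q : Subgroup ↥N).Normal := by
        refine ⟨fun x hx g => ?_⟩
        have h1 : ((x : ↥N) : H) ∈ (Q : Subgroup ↥N).map N.subtype := ⟨x, hx, rfl⟩
        have h2 := hRn.conj_mem _ h1 (g : H)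
        obtain ⟨y, hy, hyx⟩ := h2
        have : y = g * x * g⁻¹ := by
          apply Subtype.ext
          rw [← Subgroup.subtype_apply, hyx]
          simp
        rw [← this]; exact hy
      apply hNcl
      intro P'
      have := Sylow.unique_of_normal Q hQn
      have hPQ : P' = Q := Subsingleton.elim _ _
      rw [hPQ]; exact hQn

end Cfsg.Agent.S2831
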