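import Mathlib
import Cfsg.Statements.S2832
-- import your own Cfsg.Agent.* helpers here

set_option autoImplicit false
open Cfsg

namespace Cfsg.Agent.S2832

/-- Let H be a finite group with Sylow p-subgroup T such that H is T-minimal (generated by the conjugates of T, with T in exactly one maximal subgroup), and let N be a normal subgroup of H. Then either H/N is a p-group or H/N is minimal over the image of T in the same sense. -/
theorem result {H : Type*} [Group H] [Finite H] {p : ℕ} [Fact p.Prime] (T : Sylow p H) (hmin : Cfsg.IsMinimalOver (T : Subgroup H)) (N : Subgroup H) [N.Normal] : IsPGroup p (H ⧸ N) ∨ Cfsg.IsMinimalOver ((T : Subgroup H).map (QuotientGroup.mk' N)) := by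
  classical
  obtain ⟨hcl, M, ⟨hMco, hTM⟩, huniq⟩ := hmin
  have hprop : ∀ K : Subgroup H, (T : Subgroup H) ≤ K → K ≠ ⊤ → K ≤ M := by
    intro K hTK hK
    rcases eq_top_or_exists_le_coatom K with h | ⟨M', hM', hKM'⟩
    · exact absurd h hK
    · have := huniq M' ⟨hM', hTK.trans hKM'⟩
      rw [← this]; exact hKM'
  have hsurj := QuotientGroup.mk'_surjective N
  by_cases hK : N ⊔ (T : Subgroup H) = ⊤
  · left
    intro g
    obtain ⟨g, rfl⟩ := QuotientGroup.mk_surjective g
    have hgmem : g ∈ N ⊔ (T : Subgroup H) := by rw [hK]; exact Subgroup.mem_top _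
    rw [← SetLike.mem_coe, Subgroup.normal_mul] at hgmem
    obtain ⟨n, hn, t, ht, rfl⟩ := hgmem
    obtain ⟨k, hk⟩ := T.isPGroup' ⟨t, ht⟩
    have htk : t ^ (p ^ k) = 1 := by
      have := congrArg Subtype.val hk
      simpa using this
    refine ⟨k, ?_⟩
    have : ((n * t : H) : H ⧸ N) = ((t : H) : H ⧸ N) := by
      rw [QuotientGroup.eq]
      have : (n * t)⁻¹ * t = t⁻¹ * n⁻¹ * t := by group
      rw [this]
      have hN' : N.Normal := inferInstance
      have := hN'.conj_mem n⁻¹ (N.inv_mem hn) t⁻¹
      simpa [mul_assoc] using this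
    rw [this, ← QuotientGroup.mk_pow, htk, QuotientGroup.mk_one]
  · right
    have hKM : N ⊔ (T : Subgroup H) ≤ M := hprop _ le_sup_right hK
    have hNM : N ≤ M := le_sup_left.trans hKM
    have hker : (QuotientGroup.mk' N).ker ≤ M := by rw [QuotientGroup.ker_mk']; exact hNM
    have hcm : (M.map (QuotientGroup.mk' N)).comap (QuotientGroup.mk' N) = M :=
      Subgroup.comap_map_eq_self hker
    refine ⟨?_, M.map (QuotientGroup.mk' N), ⟨⟨?_, ?_⟩, Subgroup.map_mono hTM⟩, ?_⟩
    · rw [Subgroup.coe_map, ← Subgroup.map_normalClosure _ _ hsurj, hcl,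
        Subgroup.map_top_of_surjective _ hsurj]
    · intro h
      apply hMco.1
      rw [← hcm, h, Subgroup.comap_top]
    · intro K hK'
      have h1 : M < K.comap (QuotientGroup.mk' N) := by
        rw [← hcm]
        exact (Subgroup.comap_lt_comap_of_surjective hsurj).mpr hK'
      have h2 := hMco.2 _ h1
      rw [← Subgroup.comap_top (QuotientGroup.mk' N)] at h2
      exact Subgroup.comap_injective hsurj h2
    · rintro M' ⟨hM'co, hTM'⟩
      have h1 : IsCoatom (M'.comap (QuotientGroup.mk' N)) := Subgroup.isCoatom_comap_of_surjective hsurj hM'co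
      have h2 : (T : Subgroup H) ≤ M'.comap (QuotientGroup.mk' N) := by
        intro t ht
        exact hTM' ⟨t, ht, rfl⟩
      have h3 := huniq _ ⟨h1, h2⟩
      rw [← h3, Subgroup.map_comap_eq_self_of_surjective hsurj]

end Cfsg.Agent.S2832
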