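import Mathlib
import Cfsg.Agent.Helper5.Basic
import Cfsg.Agent.Helper5.Misc
import Cfsg.Agent.Helper5.LargeSub
import Cfsg.Agent.Helper5.PIrreducible
import Cfsg.Agent.Helper2.Component
import Cfsg.Statements.S2833
-- import your own Cfsg.Agent.* helpers here

set_option autoImplicit false
open Cfsg Cfsg.Agent.Helper5

namespace Cfsg.Agent.S2833

variable {G : Type*} [Group G]

theorem le_commGuard_aux [Finite G] (V X1 X2 : Subgroup G)
    (_h1 : X1 ≤ Subgroup.normalizer (V : Set G))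
    (h2 : X2 ≤ Subgroup.normalizer (V : Set G)) (hq : ⁅⁅V, X1⁆, X1⁆ = ⊥) :
    X1 ≤ commGuard V (⁅V, X1⁆ ⊔ ⁅V, X2⁆) := by
  have hB : ⁅V, X2⁆ ≤ V := by
    rw [Subgroup.commutator_comm]; exact Cfsg.Agent.Helper2.commutator_le_of_le_normalizer h2
  have hcen : ⁅V, X1⁆ ≤ Subgroup.centralizer (X1 : Set G) :=
    Subgroup.commutator_eq_bot_iff_le_centralizer.mp hq
  have hxv : ∀ x ∈ X1, ∀ v ∈ V, x * v * x⁻¹ * v⁻¹ ∈ ⁅V, X1⁆ := by
    intro x hx v hv
    rw [Subgroup.commutator_comm]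
    have := Subgroup.commutator_mem_commutator hx hv
    rwa [commutatorElement_def] at this
  intro x hx
  rw [mem_commGuard]
  refine ⟨?_, fun v hv => Subgroup.mem_sup_left (hxv x hx v hv)⟩
  apply mem_normalizer_of_conj_mem
  have : (⁅V, X1⁆ ⊔ ⁅V, X2⁆).map (MulAut.conj x).toMonoidHom ≤ ⁅V, X1⁆ ⊔ ⁅V, X2⁆ := by
    rw [Subgroup.map_sup]
    refine sup_le ?_ ?_
    · rw [map_conj_le_iff]
      intro a ha
      have h3 : x * a = a * x := (Subgroup.mem_centralizer_iff.mp (hcen ha)) x hx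
      rw [h3, mul_inv_cancel_right]
      exact Subgroup.mem_sup_left ha
    · rw [map_conj_le_iff]
      intro b hb
      have : x * b * x⁻¹ = (x * b * x⁻¹ * b⁻¹) * b := by group
      rw [this]
      exact mul_mem (Subgroup.mem_sup_left (hxv x hx b (hB hb))) (Subgroup.mem_sup_right hb)
  intro n hn
  exact (map_conj_le_iff _ _ _).mp this n hn

theorem commute_of_mem_centralizers (X1 X2 : Subgroup G) (b : G)
    (h1 : b ∈ Subgroup.centralizer (X1 : Set G)) (h2 : b ∈ Subgroup.centralizer (X2 : Set G)) :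
    ∀ l ∈ X1 ⊔ X2, l * b = b * l := by
  have h3 : X1 ⊔ X2 ≤ Subgroup.centralizer ((Subgroup.zpowers b : Subgroup G) : Set G) :=
    sup_le (Subgroup.le_centralizer_iff.mp ((Subgroup.zpowers_le).mpr h1))
      (Subgroup.le_centralizer_iff.mp ((Subgroup.zpowers_le).mpr h2))
  intro l hl
  exact ((Subgroup.mem_centralizer_iff.mp (h3 hl)) b (Subgroup.mem_zpowers b)).symm

/-- Let V be a subgroup of a finite group G normalized by the subgroup L, let X ≤ L and g ∈ L with [V, X, X] = 1 and L generated by X and gXg⁻¹. Put W = [V, L]. Then W = [V, X]·[V, gXg⁻¹], C_W(X) = [V, X], and C_W(L) = [V, X] ∩ [V, gXg⁻¹]. -/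
theorem result {G : Type*} [Group G] [Finite G] (V L : Subgroup G) (hLV : L ≤ Subgroup.normalizer (V : Set G)) (X : Subgroup G) (hX : X ≤ L) (g : G) (hg : g ∈ L) (hq : ⁅⁅V, X⁆, X⁆ = ⊥) (hgen : X ⊔ X.map (MulAut.conj g).toMonoidHom = L) (W : Subgroup G) (hW : W = ⁅V, L⁆) : ⁅V, X⁆ ⊔ ⁅V, X.map (MulAut.conj g).toMonoidHom⁆ = W ∧ W ⊓ Subgroup.centralizer (X : Set G) = ⁅V, X⁆ ∧ W ⊓ Subgroup.centralizer (L : Set G) = ⁅V, X⁆ ⊓ ⁅V, X.map (MulAut.conj g).toMonoidHom⁆ := by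
  classical
  subst hW
  set Xg := X.map (MulAut.conj g).toMonoidHom with hXg
  have hXgL : Xg ≤ L := by
    rw [map_conj_le_iff]; intro x hx; exact L.mul_mem (L.mul_mem hg (hX hx)) (L.inv_mem hg)
  have hVg : V.map (MulAut.conj g).toMonoidHom = V :=
    (mem_normalizer_iff_map_conj V g).mp (hLV hg)
  have hBmap : ⁅V, Xg⁆ = (⁅V, X⁆).map (MulAut.conj g).toMonoidHom := by
    rw [Subgroup.map_commutator, hVg]
  have hqg : ⁅⁅V, Xg⁆, Xg⁆ = ⊥ := by
    rw [hBmap, hXg, ← Subgroup.map_commutator, hq, Subgroup.map_bot]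
  have hAW : ⁅V, X⁆ ≤ ⁅V, L⁆ := Subgroup.commutator_mono le_rfl hX
  have hBW : ⁅V, Xg⁆ ≤ ⁅V, L⁆ := Subgroup.commutator_mono le_rfl hXgL
  have hAcen : ⁅V, X⁆ ≤ Subgroup.centralizer (X : Set G) :=
    Subgroup.commutator_eq_bot_iff_le_centralizer.mp hq
  have hBcen : ⁅V, Xg⁆ ≤ Subgroup.centralizer (Xg : Set G) :=
    Subgroup.commutator_eq_bot_iff_le_centralizer.mp hqg
  have hG1 : ⁅V, X⁆ ⊔ ⁅V, Xg⁆ = ⁅V, L⁆ := by
    apply le_antisymm (sup_le hAW hBW)
    have h1 := le_commGuard_aux V X Xg (hX.trans hLV) (hXgL.trans hLV) hq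
    have h2 := le_commGuard_aux V Xg X (hXgL.trans hLV) (hX.trans hLV) hqg
    rw [sup_comm] at h2
    have h3 : L ≤ commGuard V (⁅V, X⁆ ⊔ ⁅V, Xg⁆) := by rw [← hgen]; exact sup_le h1 h2
    rw [Subgroup.commutator_comm, Subgroup.commutator_le]
    intro l hl v hv
    rw [commutatorElement_def]
    exact ((mem_commGuard _ _ _).mp (h3 hl)).2 v hv
  have hVA : V ≤ Subgroup.normalizer ((⁅V, X⁆ : Subgroup G) : Set G) :=
    le_normalizer_of_conj_mem _ _ (fun r hr k hk => conj_mem_commutator_left V X r hr k hk)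
  have hBV : ⁅V, Xg⁆ ≤ V := by
    rw [Subgroup.commutator_comm]
    exact Cfsg.Agent.Helper2.commutator_le_of_le_normalizer (hXgL.trans hLV)
  have hdecomp : ∀ w ∈ ⁅V, X⁆ ⊔ ⁅V, Xg⁆, ∃ a ∈ ⁅V, X⁆, ∃ b ∈ ⁅V, Xg⁆, a * b = w := by
    intro w hw
    have := Subgroup.coe_mul_of_right_le_normalizer_left ⁅V, X⁆ ⁅V, Xg⁆ (hBV.trans hVA)
    have hw' : w ∈ ((⁅V, X⁆ ⊔ ⁅V, Xg⁆ : Subgroup G) : Set G) := hw
    rw [this] at hw'
    obtain ⟨a, ha, b, hb, rfl⟩ := Set.mem_mul.mp hw'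
    exact ⟨a, ha, b, hb, rfl⟩
  have hfix : ∀ b : G, g * b = b * g → (b ∈ ⁅V, Xg⁆ ↔ b ∈ ⁅V, X⁆) := by
    intro b hgb
    rw [hBmap, mem_map_conj_iff]
    have : g⁻¹ * b * g = b := by rw [mul_assoc, ← hgb, inv_mul_cancel_left]
    rw [this]
  have hG2 : ⁅V, L⁆ ⊓ Subgroup.centralizer (X : Set G) = ⁅V, X⁆ := by
    apply le_antisymm
    · intro w hw
      obtain ⟨a, ha, b, hb, rfl⟩ := hdecomp w (hG1 ▸ hw.1)
      have hbX : b ∈ Subgroup.centralizer (X : Set G) := by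
        have : b = a⁻¹ * (a * b) := by group
        rw [this]; exact mul_mem (inv_mem (hAcen ha)) hw.2
      have hgb := commute_of_mem_centralizers X Xg b hbX (hBcen hb) g (by rw [hgen]; exact hg)
      exact mul_mem ha ((hfix b hgb).mp hb)
    · exact le_inf hAW hAcen
  refine ⟨hG1, hG2, ?_⟩
  apply le_antisymm
  · intro w hw
    have hwX : w ∈ Subgroup.centralizer (X : Set G) :=
      Subgroup.centralizer_le (by exact_mod_cast hX) hw.2
    have hwA : w ∈ ⁅V, X⁆ := by rw [← hG2]; exact ⟨hw.1, hwX⟩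
    have hgw : g * w = w * g := (Subgroup.mem_centralizer_iff.mp hw.2) g hg
    exact ⟨hwA, (hfix w hgw).mpr hwA⟩
  · intro w hw
    refine ⟨hAW hw.1, ?_⟩
    show w ∈ Subgroup.centralizer (L : Set G)
    rw [Subgroup.mem_centralizer_iff]
    intro l hl
    have := commute_of_mem_centralizers X Xg w (hAcen hw.1) (hBcen hw.2) l (by rw [hgen]; exact hl)
    exact this

end Cfsg.Agent.S2833
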