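import Mathlib
import Cfsg.Agent.Helper5.Basic
import Cfsg.Agent.Helper5.Misc
import Cfsg.Agent.Helper5.SylowSub
import Cfsg.Agent.Helper5.Cores
import Cfsg.Statements.S2835
-- import your own Cfsg.Agent.* helpers here

set_option autoImplicit false
open Cfsg Cfsg.Agent.Helper5

namespace Cfsg.Agent.S2835

/-- Let L be a finite group, L₀ a maximal subgroup, T a Sylow p-subgroup of L₀ and Y ≤ T, and suppose L is Y-minimal (generated by the conjugates of Y, with Y in exactly one maximal subgroup, necessarily L₀). Then N_L(T) ≤ L₀, O_p(L) ≤ L₀ and T is a Sylow p-subgroup of L; N_L(L₀) = L₀; L = ⟨Y, gYg⁻¹⟩ for each g ∈ L outside L₀; and if Y is abelian then Y ∩ gYg⁻¹ = C_Y(L) for each such g. -/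
theorem result {L : Type*} [Group L] [Finite L] {p : ℕ} [Fact p.Prime] (L₀ : Subgroup L) (hL₀ : IsCoatom L₀) (T : Sylow p ↥L₀) (Y : Subgroup L) (hYT : Y ≤ (T : Subgroup ↥L₀).map L₀.subtype) (hmin : Cfsg.IsMinimalOver Y) : Subgroup.normalizer (((T : Subgroup ↥L₀).map L₀.subtype : Subgroup L) : Set L) ≤ L₀ ∧ Cfsg.pCore p L ≤ L₀ ∧ (∃ P : Sylow p L, (P : Subgroup L) = (T : Subgroup ↥L₀).map L₀.subtype) ∧ Subgroup.normalizer (L₀ : Set L) = L₀ ∧ (∀ g : L, g ∉ L₀ → Y ⊔ Y.map (MulAut.conj g).toMonoidHom = ⊤) ∧ (IsMulCommutative ↥Y → ∀ g : L, g ∉ L₀ → Y ⊓ Y.map (MulAut.conj g).toMonoidHom = Y ⊓ Subgroup.center L) := by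
  classical
  obtain ⟨hcl, M, ⟨hMco, hYM⟩, huniq⟩ := hmin
  set T' : Subgroup L := (T : Subgroup ↥L₀).map L₀.subtype with hT'
  have hT'L₀ : T' ≤ L₀ := by
    rintro _ ⟨x, -, rfl⟩; exact x.2
  have hYL₀ : Y ≤ L₀ := hYT.trans hT'L₀
  have hML₀ : L₀ = M := huniq L₀ ⟨hL₀, hYL₀⟩
  have hprop : ∀ K : Subgroup L, Y ≤ K → K ≠ ⊤ → K ≤ L₀ := by
    intro K hYK hK
    rcases eq_top_or_exists_le_coatom K with h | ⟨M', hM', hKM'⟩
    · exact absurd h hK
    · have := huniq M' ⟨hM', hYK.trans hKM'⟩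
      rw [hML₀, ← this]; exact hKM'
  have hT'p : IsPGroup p ↥T' := T.isPGroup'.map _
  -- (1)
  have h1 : Subgroup.normalizer (T' : Set L) ≤ L₀ := by
    apply hprop _ (hYT.trans Subgroup.le_normalizer)
    intro htop
    have hn : T'.Normal := Subgroup.normalizer_eq_top_iff.mp htop
    have h2 : Subgroup.normalClosure (Y : Set L) ≤ T' := Subgroup.normalClosure_le_normal hYT
    rw [hcl] at h2
    exact hL₀.1 (eq_top_iff.mpr (h2.trans hT'L₀))
  -- (3)
  have h3 : ∃ P : Sylow p L, (P : Subgroup L) = T' := by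
    obtain ⟨P, hP⟩ := hT'p.exists_le_sylow
    refine ⟨P, ?_⟩
    by_contra hne
    obtain ⟨n, hnP, hnN, hnT⟩ := exists_mem_normalizer_not_mem (P : Subgroup L) T' P.isPGroup' hP
      (fun h => hne h.symm)
    have hnL₀ : n ∈ L₀ := h1 hnN
    apply hnT
    have hn' : (⟨n, hnL₀⟩ : ↥L₀) ∈ Subgroup.normalizer ((T : Subgroup ↥L₀) : Set ↥L₀) := by
      apply mem_normalizer_of_conj_mem
      intro x hx
      have hx' : (x : L) ∈ T' := ⟨x, hx, rfl⟩
      have := (Subgroup.mem_normalizer_iff.mp hnN (x : L)).mp hx'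
      obtain ⟨y, hy, hyx⟩ := this
      have : y = (⟨n, hnL₀⟩ : ↥L₀) * x * (⟨n, hnL₀⟩ : ↥L₀)⁻¹ := by
        apply Subtype.ext
        rw [← Subgroup.subtype_apply, hyx]
        simp
      rw [← this]; exact hy
    have hpow : ∃ k : ℕ, (⟨n, hnL₀⟩ : ↥L₀) ^ p ^ k = 1 := by
      obtain ⟨k, hk⟩ := P.isPGroup' ⟨n, hnP⟩
      refine ⟨k, ?_⟩
      apply Subtype.ext
      have := congrArg Subtype.val hk
      simpa using this
    have := mem_sylow_of_mem_normalizer T _ hn' hpow
    exact ⟨⟨n, hnL₀⟩, this, rfl⟩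
  -- (4)
  have h4 : Subgroup.normalizer (L₀ : Set L) = L₀ := by
    rcases hL₀.le_iff.mp (Subgroup.le_normalizer : L₀ ≤ Subgroup.normalizer (L₀ : Set L)) with h | h
    · exfalso
      have hn : L₀.Normal := Subgroup.normalizer_eq_top_iff.mp h
      have h2 : Subgroup.normalClosure (Y : Set L) ≤ L₀ := Subgroup.normalClosure_le_normal hYL₀
      rw [hcl] at h2
      exact hL₀.1 (eq_top_iff.mpr h2)
    · exact h
  -- (5)
  have h5 : ∀ g : L, g ∉ L₀ → Y ⊔ Y.map (MulAut.conj g).toMonoidHom = ⊤ := by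
    intro g hg
    by_contra hne
    have hle := hprop _ le_sup_left hne
    have hYg : Y.map (MulAut.conj g).toMonoidHom ≤ L₀ := le_sup_right.trans hle
    -- Y ≤ L₀^{g⁻¹}
    have hco : IsCoatom (L₀.map (MulAut.conj g⁻¹).toMonoidHom) := by
      have := (OrderIso.isCoatom_iff (MulAut.conj g⁻¹ : L ≃* L).mapSubgroup L₀).mpr hL₀
      exact this
    have hYle : Y ≤ L₀.map (MulAut.conj g⁻¹).toMonoidHom := by
      intro y hy
      rw [mem_map_conj_iff, inv_inv]
      exact hYg (conj_mem_map_conj Y g y hy)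
    have heq := huniq _ ⟨hco, hYle⟩
    rw [← hML₀] at heq
    apply hg
    have : g⁻¹ ∈ Subgroup.normalizer (L₀ : Set L) := (mem_normalizer_iff_map_conj L₀ g⁻¹).mpr heq
    rw [h4] at this
    have := L₀.inv_mem this
    simpa using this
  refine ⟨h1, ?_, h3, h4, h5, ?_⟩
  · obtain ⟨P, hP⟩ := h3
    exact ((pCore_le_sylow P).trans hP.le).trans hT'L₀
  · intro hYab g hg
    have hgen := h5 g hg
    apply le_antisymm
    · intro x hx
      refine ⟨hx.1, ?_⟩
      show x ∈ Subgroup.center L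
      rw [Subgroup.mem_center_iff]
      -- x centralizes Y and Y^g
      have hc : Y ⊔ Y.map (MulAut.conj g).toMonoidHom ≤ Subgroup.centralizer ({x} : Set L) := by
        apply sup_le
        · intro y hy
          rw [Subgroup.mem_centralizer_singleton_iff]
          have := setLike_mul_comm (s := Y) hy hx.1
          exact this
        · intro y hy
          rw [Subgroup.mem_centralizer_singleton_iff]
          have hYgab : IsMulCommutative ↥(Y.map (MulAut.conj g).toMonoidHom) := by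
            apply IsMulCommutative.of_setLike_mul_comm
            rintro _ ⟨a, ha, rfl⟩ _ ⟨b, hb, rfl⟩
            rw [← map_mul, ← map_mul, setLike_mul_comm (s := Y) ha hb]
          exact setLike_mul_comm (s := Y.map (MulAut.conj g).toMonoidHom) hy hx.2
      rw [hgen] at hc
      intro h
      have := Subgroup.mem_centralizer_singleton_iff.mp (hc (Subgroup.mem_top h))
      exact this
    · intro x hx
      refine ⟨hx.1, ?_⟩
      show x ∈ Y.map (MulAut.conj g).toMonoidHom
      rw [mem_map_conj_iff]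
      have hxc := Subgroup.mem_center_iff.mp hx.2
      have : g⁻¹ * x * g = x := by
        rw [mul_assoc, ← hxc g]; group
      rw [this]; exact hx.1

end Cfsg.Agent.S2835
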