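import Mathlib
import Cfsg.Agent.Helper5.Basic
import Cfsg.Agent.Helper5.Cores
import Cfsg.Agent.Helper1.PGroup
import Cfsg.Statements.S2836
-- import your own Cfsg.Agent.* helpers here

set_option autoImplicit false
open Cfsg Cfsg.Agent.Helper5

namespace Cfsg.Agent.S2836

variable {L : Type*} [Group L]

theorem exists_conj_mem_of_not_dvd_index [Finite L] {p : ℕ} [Fact p.Prime] (H Y : Subgroup L)
    (hY : IsPGroup p Y) (hH : ¬ p ∣ H.index) : ∃ g : L, ∀ y ∈ Y, g⁻¹ * y * g ∈ H := by
  have hne := hY.nonempty_fixed_point_of_prime_not_dvd_card (L ⧸ H) hH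
  obtain ⟨q, hq⟩ := hne
  induction q using QuotientGroup.induction_on with
  | H g =>
    refine ⟨g, fun y hy => ?_⟩
    rw [MulAction.mem_fixedPoints] at hq
    have h1 : ((y * g : L) : L ⧸ H) = (g : L ⧸ H) := hq ⟨y, hy⟩
    rw [QuotientGroup.eq] at h1
    have := H.inv_mem h1
    simpa [mul_assoc] using this

theorem index_eq_of_sup_eq_top [Finite L] (H N : Subgroup L) [N.Normal] (hHN : H ⊔ N = ⊤) :
    H.index = (N ⊓ H).relIndex N := by
  have h1 : N.relIndex ⊤ = (N ⊓ H).relIndex H := by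
    rw [← hHN, Subgroup.relIndex_sup_right, Subgroup.inf_relIndex_right]
  have h2 := Subgroup.relIndex_mul_relIndex (N ⊓ H) H ⊤ inf_le_right le_top
  have h3 := Subgroup.relIndex_mul_relIndex (N ⊓ H) N ⊤ inf_le_left le_top
  rw [Subgroup.relIndex_top_right] at h2
  rw [h1] at h3
  have hne : (N ⊓ H).relIndex H ≠ 0 := by
    intro h0
    have := Subgroup.relIndex_dvd_index_of_le (H := N ⊓ H) (K := H) inf_le_right
    rw [h0] at this
    exact Subgroup.index_ne_zero_of_finite (zero_dvd_iff.mp this)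
  have : (N ⊓ H).relIndex H * H.index = (N ⊓ H).relIndex H * (N ⊓ H).relIndex N := by
    rw [h2, mul_comm, h3]
  exact Nat.eq_of_mul_eq_mul_left (Nat.pos_of_ne_zero hne) this

theorem key_top [Finite L] {L₀ Y : Subgroup L} (hL₀ : IsCoatom L₀) (hYL₀ : Y ≤ L₀)
    (hmin : Cfsg.IsMinimalOver Y) (H : Subgroup L) (hYH : Y ≤ H) (hH : ¬ H ≤ L₀) : H = ⊤ := by
  rcases eq_top_or_exists_le_coatom H with h | ⟨M, hM, hHM⟩
  · exact h
  · obtain ⟨M', -, huniq⟩ := hmin.2
    have h1 := huniq M ⟨hM, hYH.trans hHM⟩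
    have h2 := huniq L₀ ⟨hL₀, hYL₀⟩
    exact absurd (hHM.trans (h1.trans h2.symm).le) hH

theorem top_of_sup [Finite L] {p : ℕ} [Fact p.Prime] {L₀ Y : Subgroup L} (hL₀ : IsCoatom L₀)
    (hYL₀ : Y ≤ L₀) (hY : IsPGroup p Y) (hmin : Cfsg.IsMinimalOver Y)
    (N : Subgroup L) [N.Normal] (hN : N ≤ L₀) (H : Subgroup L) (hHN : H ⊔ N = ⊤) (Q : Sylow p ↥N)
    (hQH : (Q : Subgroup ↥N).map N.subtype ≤ H) : H = ⊤ := by
  have hidx : ¬ p ∣ H.index := by
    rw [index_eq_of_sup_eq_top H N hHN]
    have hQle : (Q : Subgroup ↥N).map N.subtype ≤ N ⊓ H :=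
      le_inf (by rintro _ ⟨y, _, rfl⟩; exact y.2) hQH
    have h1 := Subgroup.relIndex_dvd_of_le_left N hQle
    have h2 : ((Q : Subgroup ↥N).map N.subtype).relIndex N = (Q : Subgroup ↥N).index := by
      rw [Subgroup.relIndex, Subgroup.subgroupOf,
        Subgroup.comap_map_eq_self_of_injective N.subtype_injective]
    rw [h2] at h1
    exact fun h => Q.not_dvd_index (h.trans h1)
  obtain ⟨g, hg⟩ := exists_conj_mem_of_not_dvd_index H Y hY hidx
  set H' := H.map (MulAut.conj g).toMonoidHom with hH'def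
  have hYH' : Y ≤ H' := fun y hy => ⟨g⁻¹ * y * g, hg y hy, by simp [mul_assoc]⟩
  have hNg : N.map (MulAut.conj g).toMonoidHom = N := by
    rw [← mem_normalizer_iff_map_conj, Subgroup.normalizer_eq_top]
    exact Subgroup.mem_top g
  have hH'N : H' ⊔ N = ⊤ := by
    have h1 : (H ⊔ N).map (MulAut.conj g).toMonoidHom = H' ⊔ N := by
      rw [Subgroup.map_sup, hNg]
    rw [← h1, hHN, Subgroup.map_top_of_surjective _ (MulAut.conj g).surjective]
  have hH' : ¬ H' ≤ L₀ := fun h => hL₀.1 (top_le_iff.mp (hH'N ▸ sup_le h hN))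
  have h3 := key_top hL₀ hYL₀ hmin H' hYH' hH'
  apply Subgroup.map_injective (f := (MulAut.conj g).toMonoidHom) (MulAut.conj g).injective
  rw [Subgroup.map_top_of_surjective _ (MulAut.conj g).surjective]
  exact h3

theorem isCoatom_map_of_ker_le {G H : Type*} [Group G] [Group H] (f : G →* H)
    (hf : Function.Surjective f) {M : Subgroup G} (hM : IsCoatom M) (hker : f.ker ≤ M) :
    IsCoatom (M.map f) := by
  have hcm : (M.map f).comap f = M := by rw [Subgroup.comap_map_eq, sup_of_le_left hker]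
  refine ⟨fun h => hM.1 ?_, fun K hK => ?_⟩
  · rw [← hcm, h, Subgroup.comap_top]
  · have h1 : M < K.comap f := by
      rw [← hcm]
      exact (Subgroup.comap_lt_comap_of_surjective hf).mpr hK
    have h2 := hM.2 _ h1
    rw [← Subgroup.map_comap_eq_self_of_surjective hf K, h2, Subgroup.map_top_of_surjective f hf]

/-- Let L be a finite group, L₀ a maximal subgroup, T a Sylow p-subgroup of L₀, Y ≤ T, and suppose L is Y-minimal. Let D be the intersection of the conjugates of L₀ (the core of L₀). Then D contains O_p(L) and D/O_p(L) is the Frattini subgroup of L/O_p(L), so D is p-closed; and every normal subgroup N of L contained in L₀ is p-closed with N/O_p(N) a nilpotent group of order prime to p. -/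
theorem result {L : Type*} [Group L] [Finite L] {p : ℕ} [Fact p.Prime] (L₀ : Subgroup L) (hL₀ : IsCoatom L₀) (T : Sylow p ↥L₀) (Y : Subgroup L) (hYT : Y ≤ (T : Subgroup ↥L₀).map L₀.subtype) (hmin : Cfsg.IsMinimalOver Y) : (Cfsg.pCore p L ≤ L₀.normalCore ∧ (L₀.normalCore).map (QuotientGroup.mk' (Cfsg.pCore p L)) = frattini (L ⧸ Cfsg.pCore p L) ∧ Cfsg.IsPClosed p ↥(L₀.normalCore)) ∧ ∀ (N : Subgroup L) [N.Normal], N ≤ L₀ → Cfsg.IsPClosed p ↥N ∧ Group.IsNilpotent (↥N ⧸ Cfsg.pCore p ↥N) ∧ (Nat.card (↥N ⧸ Cfsg.pCore p ↥N)).Coprime p := by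
  classical
  have hT'L₀ : (T : Subgroup ↥L₀).map L₀.subtype ≤ L₀ := by rintro _ ⟨y, _, rfl⟩; exact y.2
  have hYL₀ : Y ≤ L₀ := hYT.trans hT'L₀
  have hT'p : IsPGroup p ((T : Subgroup ↥L₀).map L₀.subtype) := T.isPGroup'.map _
  have hYp : IsPGroup p Y := hT'p.to_le hYT
  have A1 : ∀ (N : Subgroup L) [N.Normal], N ≤ L₀ → ∀ Q : Sylow p ↥N,
      ((Q : Subgroup ↥N).map N.subtype).Normal := by
    intro N _ hN Q
    have hfr := Sylow.normalizer_sup_eq_top Q
    have := top_of_sup hL₀ hYL₀ hYp hmin N hN _ hfr Q Subgroup.le_normalizer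
    exact Subgroup.normalizer_eq_top_iff.mp this
  have A1' : ∀ (N : Subgroup L) [N.Normal], N ≤ L₀ → Cfsg.IsPClosed p ↥N := by
    intro N _ hN Q
    have h1 := A1 N hN Q
    have h2 : ((Q : Subgroup ↥N).map N.subtype).comap N.subtype = Q :=
      Subgroup.comap_map_eq_self_of_injective N.subtype_injective _
    rw [← h2]; exact h1.comap _
  have A1'' : ∀ (N : Subgroup L) [N.Normal], N ≤ L₀ → ∀ Q : Sylow p ↥N,
      (Q : Subgroup ↥N).map N.subtype ≤ Cfsg.pCore p L := by
    intro N _ hN Q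
    exact le_pCore (A1 N hN Q) (Q.isPGroup'.map _)
  have hO : Cfsg.pCore p L ≤ L₀ := by
    by_contra hnot
    have hYO : Y ⊔ pCore p L = ⊤ :=
      key_top hL₀ hYL₀ hmin _ le_sup_left (fun h => hnot (le_sup_right.trans h))
    have hLp : IsPGroup p L := by
      have h1 : IsPGroup p (Y ⊔ pCore p L : Subgroup L) :=
        IsPGroup.to_sup_of_normal_right hYp (isPGroup_pCore p)
      rw [hYO] at h1
      exact h1.of_equiv Subgroup.topEquiv
    have hn : L₀.Normal := Cfsg.Agent.Helper1.IsPGroup.coatom_normal hLp hL₀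
    have : Subgroup.normalClosure (Y : Set L) ≤ L₀ := Subgroup.normalClosure_le_normal hYL₀
    rw [hmin.1] at this
    exact hL₀.1 (top_le_iff.mp this)
  have hOD : pCore p L ≤ L₀.normalCore := Subgroup.normal_le_normalCore.mpr hO
  have hsurj : Function.Surjective (QuotientGroup.mk' (pCore p L)) := QuotientGroup.mk'_surjective _
  have B2 : (L₀.normalCore).map (QuotientGroup.mk' (Cfsg.pCore p L)) = frattini (L ⧸ Cfsg.pCore p L) := by
    apply le_antisymm
    · show _ ≤ Order.radical _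
      unfold Order.radical
      refine le_iInf₂ (fun Mb (hMb : IsCoatom Mb) => ?_)
      rw [Subgroup.map_le_iff_le_comap]
      have hM : IsCoatom (Mb.comap (QuotientGroup.mk' (pCore p L))) :=
        Subgroup.isCoatom_comap_of_surjective hsurj hMb
      have hOM : pCore p L ≤ Mb.comap (QuotientGroup.mk' (pCore p L)) := by
        have := Subgroup.ker_le_comap (QuotientGroup.mk' (pCore p L)) Mb
        rwa [QuotientGroup.ker_mk'] at this
      by_contra hDM
      have hsup : Mb.comap (QuotientGroup.mk' (pCore p L)) ⊔ L₀.normalCore = ⊤ := by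
        apply hM.2
        refine lt_of_le_of_ne le_sup_left (fun h => hDM ?_)
        rw [h]; exact le_sup_right
      have Q : Sylow p ↥(L₀.normalCore) := default
      have := top_of_sup hL₀ hYL₀ hYp hmin L₀.normalCore (Subgroup.normalCore_le L₀) _ hsup Q
        ((A1'' _ (Subgroup.normalCore_le L₀) Q).trans hOM)
      exact hM.1 this
    · intro xb hxb
      obtain ⟨x, rfl⟩ := hsurj xb
      refine ⟨x, ?_, rfl⟩
      show ∀ b : L, b * x * b⁻¹ ∈ L₀
      intro b
      have h1 : (QuotientGroup.mk' (pCore p L)) (b * x * b⁻¹) ∈ frattini (L ⧸ pCore p L) := by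
        rw [map_mul, map_mul, map_inv]
        exact (inferInstance : (frattini (L ⧸ pCore p L)).Normal).conj_mem _ hxb _
      have hco : IsCoatom (L₀.map (QuotientGroup.mk' (pCore p L))) :=
        isCoatom_map_of_ker_le _ hsurj hL₀ (by rw [QuotientGroup.ker_mk']; exact hO)
      have h2 := frattini_le_coatom hco h1
      have h3 : b * x * b⁻¹ ∈ (L₀.map (QuotientGroup.mk' (pCore p L))).comap (QuotientGroup.mk' (pCore p L)) := h2
      rw [Subgroup.comap_map_eq, QuotientGroup.ker_mk', sup_of_le_left hO] at h3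
      exact h3
  refine ⟨⟨hOD, B2, A1' _ (Subgroup.normalCore_le L₀)⟩, ?_⟩
  intro N _ hN
  have hcl := A1' N hN
  have Q : Sylow p ↥N := default
  have hQn : (Q : Subgroup ↥N).Normal := hcl Q
  have hQle : (Q : Subgroup ↥N) ≤ pCore p ↥N := le_pCore hQn Q.isPGroup'
  refine ⟨hcl, ?_, ?_⟩
  · set φ : ↥N →* L ⧸ pCore p L := (QuotientGroup.mk' (pCore p L)).comp N.subtype with hφ
    have hker1 : pCore p ↥N ≤ φ.ker := by
      intro x hx
      have hxQ : x ∈ (Q : Subgroup ↥N) := pCore_le_sylow Q hx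
      have : (x : L) ∈ pCore p L := A1'' N hN Q ⟨x, hxQ, rfl⟩
      rw [MonoidHom.mem_ker]
      show (QuotientGroup.mk' (pCore p L)) (x : L) = 1
      rw [QuotientGroup.mk'_apply, QuotientGroup.eq_one_iff]; exact this
    have hker2 : φ.ker ≤ pCore p ↥N := by
      have h1 : φ.ker = (pCore p L).subgroupOf N := by
        ext x; rw [MonoidHom.mem_ker, Subgroup.mem_subgroupOf]
        show (QuotientGroup.mk' (pCore p L)) (x : L) = 1 ↔ _
        rw [QuotientGroup.mk'_apply, QuotientGroup.eq_one_iff]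
      rw [h1]
      exact le_pCore inferInstance ((isPGroup_pCore p).comap_subtype)
    have hrange : ∀ x, φ x ∈ frattini (L ⧸ pCore p L) := by
      intro x
      rw [← B2]
      exact ⟨(x : L), (Subgroup.normal_le_normalCore.mpr hN) x.2, rfl⟩
    let ψ : ↥N ⧸ pCore p ↥N →* ↥(frattini (L ⧸ pCore p L)) :=
      (QuotientGroup.lift (pCore p ↥N) φ hker1).codRestrict _ (by
        intro q; induction q using QuotientGroup.induction_on with
        | H x => exact hrange x)
    have hinj : Function.Injective ψ := by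
      rw [injective_iff_map_eq_one]
      intro q hq
      induction q using QuotientGroup.induction_on with
      | H x =>
        have h1 : φ x = 1 := congrArg Subtype.val hq
        rw [QuotientGroup.eq_one_iff]
        exact hker2 (MonoidHom.mem_ker.mpr h1)
    have : Group.IsNilpotent ↥(frattini (L ⧸ pCore p L)) := frattini_nilpotent
    exact Subgroup.isNilpotent_of_ker_le_center ψ
      (by rw [(MonoidHom.ker_eq_bot_iff ψ).mpr hinj]; exact bot_le)
  · have : Nat.card (↥N ⧸ pCore p ↥N) = (pCore p ↥N).index := rfl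
    rw [this]
    have h1 := Subgroup.index_dvd_of_le hQle
    exact Nat.Coprime.coprime_dvd_left h1
      ((Nat.Prime.coprime_iff_not_dvd Fact.out).mpr Q.not_dvd_index).symm

end Cfsg.Agent.S2836
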