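import Mathlib
import Cfsg.Agent.Helper5.Basic
import Cfsg.Agent.Helper5.Misc
import Cfsg.Agent.Helper5.Cores
import Cfsg.Agent.Helper5.LargeSub
import Cfsg.Agent.Helper5.FrattiniLe
import Cfsg.Agent.Helper2.Component
import Cfsg.Agent.Helper1.PGroup
import Cfsg.Agent.S2836
import Cfsg.Agent.S2833
import Cfsg.Agent.S2819
import Cfsg.Statements.S2837
-- import your own Cfsg.Agent.* helpers here

set_option autoImplicit false
open Cfsg Cfsg.Agent.Helper5

namespace Cfsg.Agent.S2837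

variable {L : Type*} [Group L]

theorem sup_conj_eq_top [Finite L] {L₀ Y : Subgroup L} (hL₀ : IsCoatom L₀) (hYL₀ : Y ≤ L₀)
    (hmin : Cfsg.IsMinimalOver Y) (g : L) (hg : g ∉ L₀) :
    Y ⊔ Y.map (MulAut.conj g).toMonoidHom = ⊤ := by
  apply Cfsg.Agent.S2836.key_top hL₀ hYL₀ hmin _ le_sup_left
  intro hle
  have hYg : Y.map (MulAut.conj g).toMonoidHom ≤ L₀ := le_sup_right.trans hle
  have h1 : Y ≤ L₀.map (MulAut.conj g⁻¹).toMonoidHom := by
    intro y hy
    rw [mem_map_conj_iff]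
    have := hYg (conj_mem_map_conj Y g y hy)
    simpa using this
  have hco : IsCoatom (L₀.map (MulAut.conj g⁻¹).toMonoidHom) :=
    (OrderIso.isCoatom_iff (MulEquiv.mapSubgroup (MulAut.conj g⁻¹)) L₀).mpr hL₀
  obtain ⟨M', -, huniq⟩ := hmin.2
  have h2 : L₀.map (MulAut.conj g⁻¹).toMonoidHom = L₀ :=
    (huniq _ ⟨hco, h1⟩).trans (huniq _ ⟨hL₀, hYL₀⟩).symm
  have hgN : g⁻¹ ∈ Subgroup.normalizer (L₀ : Set L) := (mem_normalizer_iff_map_conj L₀ g⁻¹).mpr h2
  have hN : Subgroup.normalizer (L₀ : Set L) = L₀ := by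
    by_contra hne
    have hlt : L₀ < Subgroup.normalizer (L₀ : Set L) :=
      lt_of_le_of_ne Subgroup.le_normalizer (Ne.symm hne)
    have htop := hL₀.2 _ hlt
    have hn : L₀.Normal := Subgroup.normalizer_eq_top_iff.mp htop
    have : Subgroup.normalClosure (Y : Set L) ≤ L₀ := Subgroup.normalClosure_le_normal hYL₀
    rw [hmin.1] at this
    exact hL₀.1 (top_le_iff.mp this)
  rw [hN] at hgN
  exact hg (by simpa using L₀.inv_mem hgN)

theorem le_normalizer_sup_aux [Finite L] (Q Y1 Y2 : Subgroup L) [Q.Normal] [IsMulCommutative ↥Y1]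
    (h1 : Q ≤ Subgroup.normalizer (Y1 : Set L)) :
    Y1 ≤ Subgroup.normalizer (((Q ⊓ Y1) ⊔ (Q ⊓ Y2) : Subgroup L) : Set L) := by
  apply le_normalizer_of_conj_mem
  intro y hy n hn
  have : ((Q ⊓ Y1) ⊔ (Q ⊓ Y2)).map (MulAut.conj y).toMonoidHom ≤ (Q ⊓ Y1) ⊔ (Q ⊓ Y2) := by
    rw [Subgroup.map_sup]
    refine sup_le ?_ ?_
    · rw [map_conj_le_iff]; intro b hb
      have : y * b = b * y := setLike_mul_comm hy hb.2
      rw [this, mul_inv_cancel_right]; exact Subgroup.mem_sup_left hb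
    · rw [map_conj_le_iff]; intro b hb
      have e : y * b * y⁻¹ = (y * b * y⁻¹ * b⁻¹) * b := by group
      rw [e]
      refine mul_mem (Subgroup.mem_sup_left ⟨?_, ?_⟩) (Subgroup.mem_sup_right hb)
      · exact Q.mul_mem (Subgroup.Normal.conj_mem inferInstance b hb.1 y) (Q.inv_mem hb.1)
      · have : b * y⁻¹ * b⁻¹ ∈ Y1 :=
          (Subgroup.mem_normalizer_iff.mp (h1 hb.1) y⁻¹).mp (Y1.inv_mem hy)
        have e2 : y * b * y⁻¹ * b⁻¹ = y * (b * y⁻¹ * b⁻¹) := by group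
        rw [e2]; exact Y1.mul_mem hy this
  exact (map_conj_le_iff _ _ _).mp this n hn

/-- Let L be a finite group of characteristic p, L₀ a maximal subgroup, Y an elementary abelian p-subgroup of L₀ with L Y-minimal and O_p(L) ≤ N_L(Y). Put A = the normal closure of O_p(L) ∩ Y in L. Then for every g ∈ L outside L₀: Φ(A) = A' = [A ∩ Y, A] = [A ∩ Y, A ∩ gYg⁻¹] ≤ C_Y(L), and Y ∩ gYg⁻¹ = (A ∩ Y) ∩ (A ∩ gYg⁻¹) = C_Y(L) = C_A(L). -/
theorem result {L : Type*} [Group L] [Finite L] {p : ℕ} [Fact p.Prime] (hchar : Subgroup.centralizer (Cfsg.pCore p L : Set L) ≤ Cfsg.pCore p L) (L₀ : Subgroup L) (hL₀ : IsCoatom L₀) (Y : Subgroup L) (hYL₀ : Y ≤ L₀) (hYel : Cfsg.IsElementaryAbelian p Y) (hmin : Cfsg.IsMinimalOver Y) (hOY : Cfsg.pCore p L ≤ Subgroup.normalizer (Y : Set L)) (A : Subgroup L) (hA : A = Subgroup.normalClosure (((Cfsg.pCore p L ⊓ Y : Subgroup L)) : Set L)) (g : L) (hg : g ∉ L₀) : (frattini ↥A).map A.subtype = ⁅A, A⁆ ∧ ⁅A, A⁆ = ⁅A ⊓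 Y, A⁆ ∧ ⁅A ⊓ Y, A⁆ = ⁅A ⊓ Y, A ⊓ Y.map (MulAut.conj g).toMonoidHom⁆ ∧ ⁅A ⊓ Y, A⁆ ≤ Y ⊓ Subgroup.center L ∧ Y ⊓ Y.map (MulAut.conj g).toMonoidHom = Y ⊓ Subgroup.center L ∧ (A ⊓ Y) ⊓ (A ⊓ Y.map (MulAut.conj g).toMonoidHom) = Y ⊓ Subgroup.center L ∧ A ⊓ Subgroup.center L = Y ⊓ Subgroup.center L := by
  classical
  obtain ⟨hYc, hYp⟩ := hYel
  have : IsMulCommutative ↥Y := hYc
  set Q := Cfsg.pCore p L with hQ
  set Yg := Y.map (MulAut.conj g).toMonoidHom with hYg
  have htop : Y ⊔ Yg = ⊤ := sup_conj_eq_top hL₀ hYL₀ hmin g hg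
  have hYgc : IsMulCommutative ↥Yg := by rw [hYg]; infer_instance
  have hYgp : ∀ x ∈ Yg, x ^ p = 1 := by
    rintro _ ⟨y, hy, rfl⟩
    rw [← map_pow, hYp y hy, map_one]
  have hQYg : Q ≤ Subgroup.normalizer (Yg : Set L) := by
    apply le_normalizer_of_conj_mem
    rintro q hq _ ⟨y, hy, rfl⟩
    have hq' : g⁻¹ * q * g ∈ Q := by
      have := Subgroup.Normal.conj_mem (inferInstance : Q.Normal) q hq g⁻¹
      simpa using this
    have h1 : (g⁻¹ * q * g) * y * (g⁻¹ * q * g)⁻¹ ∈ Y :=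
      (Subgroup.mem_normalizer_iff.mp (hOY hq') y).mp hy
    refine ⟨_, h1, ?_⟩
    simp only [MulEquiv.coe_toMonoidHom, MulAut.conj_apply]
    group
  set B := Q ⊓ Y with hB
  set Bg := Q ⊓ Yg with hBg
  have hCn : (B ⊔ Bg).Normal := by
    rw [← Subgroup.normalizer_eq_top_iff, eq_top_iff, ← htop]
    refine sup_le (le_normalizer_sup_aux Q Y Yg hOY) ?_
    have := le_normalizer_sup_aux Q Yg Y hQYg
    rwa [sup_comm] at this
  have hQg : Q.map (MulAut.conj g).toMonoidHom = Q := by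
    rw [← mem_normalizer_iff_map_conj, Subgroup.normalizer_eq_top]; exact Subgroup.mem_top g
  have hBgmap : Bg = B.map (MulAut.conj g).toMonoidHom := by
    rw [hB, Subgroup.map_inf _ _ _ (MulAut.conj g).injective, hQg]
  have hAn : A.Normal := by rw [hA]; infer_instance
  have hAg : A.map (MulAut.conj g).toMonoidHom = A := by
    rw [← mem_normalizer_iff_map_conj, Subgroup.normalizer_eq_top]; exact Subgroup.mem_top g
  have hBA : B ≤ A := by rw [hA]; exact Subgroup.le_normalClosure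
  have hBgA : Bg ≤ A := by rw [hBgmap, ← hAg]; exact Subgroup.map_mono hBA
  have hAeq : A = B ⊔ Bg := by
    apply le_antisymm
    · rw [hA]; exact Subgroup.normalClosure_le_normal (le_sup_left (a := B) (b := Bg))
    · exact sup_le hBA hBgA
  have hAQ : A ≤ Q := by rw [hA]; exact Subgroup.normalClosure_le_normal inf_le_left
  have hAY : A ⊓ Y = B := le_antisymm (inf_le_inf_right _ hAQ) (le_inf hBA inf_le_right)
  have hAYg : A ⊓ Yg = Bg := le_antisymm (inf_le_inf_right _ hAQ) (le_inf hBgA inf_le_right)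
  -- Z₀
  have hcenY : ∀ x ∈ Y, x ∈ Subgroup.centralizer (Y : Set L) := by
    intro x hx; rw [Subgroup.mem_centralizer_iff]; intro h hh; exact setLike_mul_comm hh hx
  have hcenYg : ∀ x ∈ Yg, x ∈ Subgroup.centralizer (Yg : Set L) := by
    intro x hx; rw [Subgroup.mem_centralizer_iff]; intro h hh; exact setLike_mul_comm hh hx
  have hcentral : ∀ x, x ∈ Subgroup.centralizer (Y : Set L) → x ∈ Subgroup.centralizer (Yg : Set L) →
      x ∈ Subgroup.center L := by
    intro x h1 h2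
    rw [Subgroup.mem_center_iff]
    intro l
    exact Cfsg.Agent.S2833.commute_of_mem_centralizers Y Yg x h1 h2 l (by rw [htop]; exact Subgroup.mem_top l)
  have hconj_central : ∀ x ∈ Subgroup.center L, (x ∈ Yg ↔ x ∈ Y) := by
    intro x hx
    rw [hYg, mem_map_conj_iff]
    have : g⁻¹ * x * g = x := by
      rw [mul_assoc, ← (Subgroup.mem_center_iff.mp hx) g, inv_mul_cancel_left]
    rw [this]
  have h5 : Y ⊓ Yg = Y ⊓ Subgroup.center L := by
    apply le_antisymm
    · intro x hx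
      exact ⟨hx.1, hcentral x (hcenY x hx.1) (hcenYg x hx.2)⟩
    · intro x hx
      exact ⟨hx.1, (hconj_central x hx.2).mpr hx.1⟩
  have hZ₀Q : Y ⊓ Subgroup.center L ≤ Q := by
    apply le_pCore
    · refine ⟨fun z hz l => ?_⟩
      have : l * z * l⁻¹ = z := by
        rw [(Subgroup.mem_center_iff.mp hz.2) l, mul_inv_cancel_right]
      rw [this]; exact hz
    · intro x
      refine ⟨1, ?_⟩
      apply Subtype.ext
      rw [pow_one, Subgroup.coe_pow, Subgroup.coe_one]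
      exact hYp _ x.2.1
  have hZ₀B : Y ⊓ Subgroup.center L ≤ B := le_inf hZ₀Q inf_le_left
  have hZ₀Bg : Y ⊓ Subgroup.center L ≤ Bg := by
    rw [← h5]; exact le_inf (by rw [h5]; exact hZ₀Q) inf_le_right
  have h6 : B ⊓ Bg = Y ⊓ Subgroup.center L := by
    apply le_antisymm
    · rw [← h5]; exact inf_le_inf inf_le_right inf_le_right
    · exact le_inf hZ₀B hZ₀Bg
  -- K
  have hKB : ⁅B, Bg⁆ ≤ B := by
    refine le_inf ?_ ?_
    · exact (Subgroup.commutator_mono inf_le_left inf_le_left).trans (Subgroup.commutator_le_right Q Q)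
    · rw [Subgroup.commutator_comm]
      exact (Subgroup.commutator_mono inf_le_left inf_le_right).trans
        (Cfsg.Agent.Helper2.commutator_le_of_le_normalizer hOY)
  have hKBg : ⁅B, Bg⁆ ≤ Bg := by
    refine le_inf ?_ ?_
    · exact (Subgroup.commutator_mono inf_le_left inf_le_left).trans (Subgroup.commutator_le_right Q Q)
    · exact (Subgroup.commutator_mono inf_le_left inf_le_right).trans
        (Cfsg.Agent.Helper2.commutator_le_of_le_normalizer hQYg)
  have hKZ : ⁅B, Bg⁆ ≤ Y ⊓ Subgroup.center L := by rw [← h6]; exact le_inf hKB hKBg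
  have hKN : ∀ l : L, l ∈ Subgroup.normalizer ((⁅B, Bg⁆ : Subgroup L) : Set L) := by
    intro l
    apply mem_normalizer_of_conj_mem
    intro k hk
    have : l * k * l⁻¹ = k := by
      rw [(Subgroup.mem_center_iff.mp (hKZ hk).2) l, mul_inv_cancel_right]
    rw [this]; exact hk
  have hBcomm : ∀ x ∈ B, ∀ c ∈ B, x * c * x⁻¹ * c⁻¹ = 1 := by
    intro x hx c hc
    have : x * c = c * x := setLike_mul_comm hx.2 hc.2
    rw [this]; group
  have hBgcomm : ∀ x ∈ Bg, ∀ c ∈ Bg, x * c * x⁻¹ * c⁻¹ = 1 := by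
    intro x hx c hc
    have : x * c = c * x := setLike_mul_comm hx.2 hc.2
    rw [this]; group
  have hBBg : ∀ x ∈ B, ∀ c ∈ Bg, x * c * x⁻¹ * c⁻¹ ∈ ⁅B, Bg⁆ := by
    intro x hx c hc
    have := Subgroup.commutator_mem_commutator hx hc
    rwa [commutatorElement_def] at this
  have hBgB : ∀ x ∈ Bg, ∀ c ∈ B, x * c * x⁻¹ * c⁻¹ ∈ ⁅B, Bg⁆ := by
    intro x hx c hc
    have := Subgroup.inv_mem _ (hBBg c hc x hx)
    have e : (c * x * c⁻¹ * x⁻¹)⁻¹ = x * c * x⁻¹ * c⁻¹ := by group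
    rwa [e] at this
  have hA1 : A ≤ commGuard B ⁅B, Bg⁆ := by
    rw [hAeq]
    refine sup_le ?_ ?_
    · intro x hx; exact ⟨hKN x, fun c hc => by rw [hBcomm x hx c hc]; exact Subgroup.one_mem _⟩
    · intro x hx; exact ⟨hKN x, fun c hc => hBgB x hx c hc⟩
  have hA2 : A ≤ commGuard Bg ⁅B, Bg⁆ := by
    rw [hAeq]
    refine sup_le ?_ ?_
    · intro x hx; exact ⟨hKN x, fun c hc => hBBg x hx c hc⟩
    · intro x hx; exact ⟨hKN x, fun c hc => by rw [hBgcomm x hx c hc]; exact Subgroup.one_mem _⟩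
  have hA3 : A ≤ commGuard A ⁅B, Bg⁆ := by
    have hflip : ∀ (C : Subgroup L), A ≤ commGuard C ⁅B, Bg⁆ → C ≤ commGuard A ⁅B, Bg⁆ := by
      intro C hC x hx
      refine ⟨hKN x, fun c hc => ?_⟩
      have := Subgroup.inv_mem _ (((mem_commGuard _ _ _).mp (hC hc)).2 x hx)
      have e : (c * x * c⁻¹ * x⁻¹)⁻¹ = x * c * x⁻¹ * c⁻¹ := by group
      rwa [e] at this
    conv_lhs => rw [hAeq]
    exact sup_le (hflip B hA1) (hflip Bg hA2)
  have hAA : ⁅A, A⁆ = ⁅B, Bg⁆ := by
    apply le_antisymm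
    · rw [Subgroup.commutator_le]
      intro a₁ h₁ a₂ h₂
      rw [commutatorElement_def]
      exact ((mem_commGuard _ _ _).mp (hA3 h₁)).2 a₂ h₂
    · exact Subgroup.commutator_mono hBA hBgA
  have h2 : ⁅A, A⁆ = ⁅B, A⁆ := by
    apply le_antisymm
    · rw [hAA]; exact Subgroup.commutator_mono le_rfl hBgA
    · exact Subgroup.commutator_mono hBA le_rfl
  -- decomposition
  have hBgNB : Bg ≤ Subgroup.normalizer (B : Set L) := by
    apply le_normalizer_of_conj_mem
    intro x hx b hb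
    have e : x * b * x⁻¹ = (x * b * x⁻¹ * b⁻¹) * b := by group
    rw [e]; exact B.mul_mem (hKB (hBgB x hx b hb)) hb
  have hdecomp : ∀ w ∈ A, ∃ a ∈ B, ∃ b ∈ Bg, a * b = w := by
    intro w hw
    have := Subgroup.coe_mul_of_right_le_normalizer_left B Bg hBgNB
    have hw' : w ∈ ((B ⊔ Bg : Subgroup L) : Set L) := by rw [← hAeq]; exact hw
    rw [this] at hw'
    obtain ⟨a, ha, b, hb, rfl⟩ := Set.mem_mul.mp hw'
    exact ⟨a, ha, b, hb, rfl⟩
  have h7 : A ⊓ Subgroup.center L = Y ⊓ Subgroup.center L := by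
    apply le_antisymm
    · intro z hz
      obtain ⟨b, hb, b', hb', rfl⟩ := hdecomp z hz.1
      have hb'Y : b' ∈ Subgroup.centralizer (Y : Set L) := by
        have e : b' = b⁻¹ * (b * b') := by group
        rw [e]
        refine mul_mem (inv_mem (hcenY b hb.2)) ?_
        rw [Subgroup.mem_centralizer_iff]
        intro h _
        exact (Subgroup.mem_center_iff.mp hz.2) h
      have hb'c : b' ∈ Subgroup.center L := hcentral b' hb'Y (hcenYg b' hb'.2)
      have hb'inY : b' ∈ Y := (hconj_central b' hb'c).mp hb'.2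
      exact ⟨Y.mul_mem hb.2 hb'inY, hz.2⟩
    · exact le_inf (hZ₀B.trans hBA) inf_le_right
  -- Frattini
  have hAp : IsPGroup p ↥A := (isPGroup_pCore p).to_le hAQ
  have hmap : (commutator ↥A).map A.subtype = ⁅A, A⁆ := by
    rw [commutator_def, Subgroup.map_commutator, ← MonoidHom.range_eq_map, Subgroup.range_subtype]
  have h1 : (frattini ↥A).map A.subtype = ⁅A, A⁆ := by
    apply le_antisymm
    · have hle : frattini ↥A ≤ (⁅A, A⁆).subgroupOf A := by
        apply frattini_le_of_forall (p := p)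
        · intro x
          rw [Subgroup.mem_subgroupOf, Subgroup.coe_pow]
          obtain ⟨b, hb, b', hb', hbb⟩ := hdecomp (x : L) x.2
          rw [← hbb]
          have := Cfsg.Agent.S2819.mul_pow_mod_commutator A b b' (hBA hb) (hBgA hb') p
          rw [hYp b hb.2, hYgp b' hb'.2, mul_one, inv_one, mul_one] at this
          exact this
        · intro x y
          rw [Subgroup.mem_subgroupOf]
          have := Subgroup.commutator_mem_commutator x.2 y.2
          rw [commutatorElement_def] at this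
          simpa using this
      calc (frattini ↥A).map A.subtype ≤ ((⁅A, A⁆).subgroupOf A).map A.subtype :=
            Subgroup.map_mono hle
        _ ≤ ⁅A, A⁆ := by rw [Subgroup.subgroupOf_map_subtype]; exact inf_le_left
    · rw [← hmap]
      exact Subgroup.map_mono (Cfsg.Agent.Helper1.IsPGroup.commutator_le_frattini hAp)
  rw [hAY, hAYg]
  refine ⟨h1, h2, ?_, ?_, h5, h6, h7⟩
  · rw [← h2, hAA]
  · rw [← h2, hAA]; exact hKZ

end Cfsg.Agent.S2837
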