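import Mathlib
import Cfsg.Agent.Helper5.WeaklyClosed
import Cfsg.Agent.Helper5.Misc
import Cfsg.Statements.S2838
-- import your own Cfsg.Agent.* helpers here

set_option autoImplicit false
open Cfsg

namespace Cfsg.Agent.S2838

open scoped commutatorElement

open Cfsg.Agent.Helper5 in
/-- The normalizer criterion gives weak closure. -/
theorem wc_of_normalizers {H : Type*} [Group H] [Finite H] {p : ℕ} [Fact p.Prime] (Q : Subgroup H)
    (hQp : IsPGroup p ↥Q)
    (hyp : ∀ R : Subgroup H, IsPGroup p ↥R → Q ≤ R →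
      Subgroup.normalizer ((R : Subgroup H) : Set H) ≤ Subgroup.normalizer ((Q : Subgroup H) : Set H)) :
    Cfsg.IsWeaklyClosedSubgroup p Q := by
  obtain ⟨T, hQT⟩ := hQp.exists_le_sylow
  refine ⟨T, hQT, ?_⟩
  intro g hg
  have hTp : IsPGroup p ↥(T : Subgroup H) := T.isPGroup'
  have hTNQ : (T : Subgroup H) ≤ Subgroup.normalizer ((Q : Subgroup H) : Set H) :=
    Subgroup.le_normalizer.trans (hyp T hTp hQT)
  -- T normalizes P = Q^g
  have hTNP : (T : Subgroup H) ≤ Subgroup.normalizer ((Q.map (MulAut.conj g).toMonoidHom : Subgroup H) : Set H) := by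
    have h1 : Q ≤ (T : Subgroup H).map (MulAut.conj g⁻¹).toMonoidHom := by
      have := Subgroup.map_mono (f := (MulAut.conj g⁻¹).toMonoidHom) hg
      rwa [map_conj_inv_map_conj] at this
    have h2 := hyp _ (hTp.map _) h1
    rw [normalizer_map_conj] at h2
    have h3 := Subgroup.map_mono (f := (MulAut.conj g).toMonoidHom) h2
    rw [map_conj_map_conj_inv, ← normalizer_map_conj] at h3
    exact Subgroup.le_normalizer.trans h3
  have hTgNP : (T : Subgroup H).map (MulAut.conj g).toMonoidHom ≤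
      Subgroup.normalizer ((Q.map (MulAut.conj g).toMonoidHom : Subgroup H) : Set H) := by
    rw [normalizer_map_conj]
    exact Subgroup.map_mono hTNQ
  obtain ⟨n, hn, hnT⟩ := exists_conj_le_sylow_of_le T _ hTNP _ hTgNP (hTp.map _)
  have h1 : (T : Subgroup H).map (MulAut.conj (n * g)).toMonoidHom ≤ T := by
    rw [← map_conj_map_conj, map_conj_le_iff]
    exact hnT
  have h2 : (T : Subgroup H).map (MulAut.conj (n * g)).toMonoidHom = T :=
    Subgroup.eq_of_le_of_card_ge h1 (card_map_conj' _ _).ge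
  have h3 : n * g ∈ Subgroup.normalizer ((Q : Subgroup H) : Set H) :=
    hyp T hTp hQT ((mem_normalizer_iff_map_conj _ _).mpr h2)
  have h4 := (mem_normalizer_iff_map_conj _ _).mp h3
  rw [← map_conj_map_conj, (mem_normalizer_iff_map_conj _ _).mp hn] at h4
  exact h4

open Cfsg.Agent.Helper5 in
theorem normalizers_of_comm {H : Type*} [Group H] [Finite H] {p : ℕ} [Fact p.Prime] (Q : Subgroup H)
    (hyp : ∀ g : H, ⁅Q, ((Q : Subgroup H).map (MulAut.conj (g : H)).toMonoidHom)⁆ ≤
      Q ⊓ ((Q : Subgroup H).map (MulAut.conj (g : H)).toMonoidHom) →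
      ((Q : Subgroup H).map (MulAut.conj (g : H)).toMonoidHom) = Q) :
    ∀ R : Subgroup H, IsPGroup p ↥R → Q ≤ R →
      Subgroup.normalizer ((R : Subgroup H) : Set H) ≤ Subgroup.normalizer ((Q : Subgroup H) : Set H) := by
  -- mutual normalization gives equality
  have hmut : ∀ x : H, ∀ D : Subgroup H, Q ≤ D → D ≤ Subgroup.normalizer ((Q : Subgroup H) : Set H) →
      D.map (MulAut.conj x).toMonoidHom = D → x ∈ Subgroup.normalizer ((Q : Subgroup H) : Set H) := by
    intro x D hQD hDN hDx
    rw [mem_normalizer_iff_map_conj]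
    apply hyp
    have h1 : Q.map (MulAut.conj x).toMonoidHom ≤ Subgroup.normalizer ((Q : Subgroup H) : Set H) := by
      refine le_trans ?_ hDN
      rw [← hDx]
      exact Subgroup.map_mono hQD
    have h2 : Q ≤ Subgroup.normalizer ((Q.map (MulAut.conj x).toMonoidHom : Subgroup H) : Set H) := by
      rw [normalizer_map_conj]
      refine le_trans ?_ (Subgroup.map_mono hDN)
      rw [hDx]
      exact hQD
    exact le_inf (Subgroup.le_normalizer_iff_commutator_le_left.1 h1)
      (Subgroup.le_normalizer_iff_commutator_le_right.1 h2)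
  -- L: every p-group containing Q normalizes Q
  have L : ∀ R : Subgroup H, IsPGroup p ↥R → Q ≤ R → R ≤ Subgroup.normalizer ((Q : Subgroup H) : Set H) := by
    intro R hR hQR
    by_contra hcon
    have hne : R ⊓ Subgroup.normalizer ((Q : Subgroup H) : Set H) ≠ R := by
      intro h
      exact hcon (inf_eq_left.mp h)
    obtain ⟨x, hxR, hxN, hxD⟩ := exists_mem_normalizer_not_mem R _ hR inf_le_left hne
    apply hxD
    refine ⟨hxR, ?_⟩
    exact hmut x _ (le_inf hQR Subgroup.le_normalizer) inf_le_right ((mem_normalizer_iff_map_conj _ _).mp hxN)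
  intro R hR hQR y hy
  exact hmut y R hQR (L R hR hQR) ((mem_normalizer_iff_map_conj _ _).mp hy)

/-- For a nontrivial p-subgroup Q of a finite group H the following are equivalent: Q is a weakly closed subgroup (it is the only H-conjugate of itself inside some Sylow p-subgroup containing it); Q = P for every conjugate P of Q with [Q, P] ≤ Q ∩ P; Q is normal in N_H(R) for every p-subgroup R of H containing Q. -/
theorem result {H : Type*} [Group H] [Finite H] {p : ℕ} [Fact p.Prime] (Q : Subgroup H) (hQp : IsPGroup p ↥Q) (hQ1 : Q ≠ ⊥) : (Cfsg.IsWeaklyClosedSubgroup p Q ↔ ∀ g : H, ⁅Q, ((Q : Subgroup H).map (MulAut.conj (g : H)).toMonoidHom)⁆ ≤ Q ⊓ ((Q : Subgroup H).map (MulAut.conj (g : H)).toMonoidHom) → ((Q : Subgroup H).map (MulAut.conj (g : H)).toMonoidHom) = Q) ∧ (Cfsg.IsWeaklyClosedSubgroup p Q ↔ ∀ R : Subgroup H, IsPGroup p ↥R → Q ≤ R → Subgroup.normalizer ((R : Subgroup H) : Set H) ≤ Subgroup.normalizer ((Q : Subgroup H) : Set H)) := by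
  open Cfsg.Agent.Helper5 in
  have hfwd2 : Cfsg.IsWeaklyClosedSubgroup p Q → ∀ R : Subgroup H, IsPGroup p ↥R → Q ≤ R →
      Subgroup.normalizer ((R : Subgroup H) : Set H) ≤ Subgroup.normalizer ((Q : Subgroup H) : Set H) :=
    fun hwc R hR hQR => IsWeaklyClosedSubgroup.normalizer_le hwc R hR hQR
  refine ⟨⟨?_, ?_⟩, ⟨hfwd2, wc_of_normalizers Q hQp⟩⟩
  · intro hwc g hcomm
    have h1 : Q.map (MulAut.conj g).toMonoidHom ≤ Subgroup.normalizer ((Q : Subgroup H) : Set H) :=
      Subgroup.le_normalizer_iff_commutator_le_left.2 (hcomm.trans inf_le_left)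
    have hR : IsPGroup p ↥(Q ⊔ Q.map (MulAut.conj g).toMonoidHom) :=
      IsPGroup.to_sup_of_normal_left' hQp (hQp.map _) h1
    exact IsWeaklyClosedSubgroup.conj_eq_of_le_pgroup hwc _ hR le_sup_left g le_sup_right
  · intro hyp
    exact wc_of_normalizers Q hQp (normalizers_of_comm Q hyp)

end Cfsg.Agent.S2838
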