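import Mathlib
import Cfsg.Agent.Helper1.Coprime
import Cfsg.Agent.Helper1.PQLemma
import Cfsg.Agent.Helper5.WeaklyClosed
import Cfsg.Statements.S2841
-- import your own Cfsg.Agent.* helpers here

set_option autoImplicit false
open Cfsg

namespace Cfsg.Agent.S2841

open scoped commutatorElement

open Cfsg.Agent.Helper5 in
theorem part1 {H : Type*} [Group H] [Finite H] {p : ℕ} [Fact p.Prime] (Q : Subgroup H) (hQp : IsPGroup p ↥Q)
    (hwc : Cfsg.IsWeaklyClosedSubgroup p Q) (N' : Subgroup H) [hN : N'.Normal] :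
    ∀ n : H, n ∈ N' → ∃ a ∈ N' ⊓ Subgroup.normalizer ((Q : Subgroup H) : Set H), ∃ b ∈ ⁅N', Q⁆, n = a * b := by
  have hCN : ⁅N', Q⁆ ≤ N' := Subgroup.commutator_le_left N' Q
  have hQnC : Q ≤ Subgroup.normalizer ((⁅N', Q⁆ : Subgroup H) : Set H) := Subgroup.normalizer_commutator_ge_right N' Q
  -- claim for n⁻¹
  have key : ∀ n : H, n ∈ N' → ∃ c ∈ ⁅N', Q⁆, c⁻¹ * n ∈ Subgroup.normalizer ((Q : Subgroup H) : Set H) := by
    intro n hn
    have hQK : Q ≤ ⁅N', Q⁆ ⊔ Q := le_sup_right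
    have hconj : Q.map (MulAut.conj n).toMonoidHom ≤ ⁅N', Q⁆ ⊔ Q := by
      rw [map_conj_le_iff]
      intro x hx
      have : n * x * n⁻¹ = ⁅n, x⁆ * x := by rw [commutatorElement_def]; group
      rw [this]
      exact Subgroup.mul_mem _ (Subgroup.mem_sup_left (Subgroup.commutator_mem_commutator hn hx))
        (Subgroup.mem_sup_right hx)
    obtain ⟨k, hk, hkeq⟩ := IsWeaklyClosedSubgroup.exists_conj_in hwc hQp _ hQK n hconj
    obtain ⟨c, hc, q, hq, rfl⟩ := Cfsg.Agent.Helper1.mem_sup_of_le_normalizer hQnC hk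
    refine ⟨c, hc, ?_⟩
    have h1 : Q.map (MulAut.conj ((c * q)⁻¹ * n)).toMonoidHom = Q := by
      rw [← map_conj_map_conj, hkeq, map_conj_inv_map_conj]
    have h2 : (c * q)⁻¹ * n ∈ Subgroup.normalizer ((Q : Subgroup H) : Set H) :=
      (mem_normalizer_iff_map_conj Q _).mpr h1
    have h3 : c⁻¹ * n = q * ((c * q)⁻¹ * n) := by group
    rw [h3]
    exact Subgroup.mul_mem _ (Subgroup.le_normalizer hq) h2
  intro n hn
  obtain ⟨c, hc, hcn⟩ := key n⁻¹ (N'.inv_mem hn)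
  refine ⟨(c⁻¹ * n⁻¹)⁻¹, ⟨?_, Subgroup.inv_mem _ hcn⟩, c⁻¹, Subgroup.inv_mem _ hc, by group⟩
  exact N'.inv_mem (N'.mul_mem (N'.inv_mem (hCN hc)) (N'.inv_mem hn))

/-- Let Q be a nontrivial p-subgroup of the finite group H that is a weakly closed subgroup and N a normal subgroup of H. Then N = N_N(Q)·[N, Q] and [N, Q] = (Q ∩ [N, Q])·[N, Q, Q]. -/
theorem result {H : Type*} [Group H] [Finite H] {p : ℕ} [Fact p.Prime] (Q : Subgroup H) (hQp : IsPGroup p ↥Q) (hQ1 : Q ≠ ⊥) (hwc : Cfsg.IsWeaklyClosedSubgroup p Q) (N' : Subgroup H) [N'.Normal] : (∀ n : H, n ∈ N' → ∃ a ∈ N' ⊓ Subgroup.normalizer ((Q : Subgroup H) : Set H), ∃ b ∈ ⁅N', Q⁆, n = a * b) ∧ (∀ c : H, c ∈ ⁅N', Q⁆ → ∃ a ∈ Q ⊓ ⁅N', Q⁆, ∃ b ∈ ⁅⁅N', Q⁆, Q⁆, c = a * b) := by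
  have h1 := part1 Q hQp hwc N'
  refine ⟨h1, ?_⟩
  have hNn : ∀ X : Subgroup H, X ≤ Subgroup.normalizer ((N' : Subgroup H) : Set H) := by
    intro X x _
    rw [Subgroup.mem_normalizer_iff]
    intro h
    constructor
    · intro hh
      exact ‹N'.Normal›.conj_mem h hh x
    · intro hh
      have := ‹N'.Normal›.conj_mem _ hh x⁻¹
      simpa [mul_assoc] using this
  -- D = ⁅⁅N',Q⁆,Q⁆ ⊔ (Q ⊓ ⁅N',Q⁆)
  have hAn : Q ⊓ ⁅N', Q⁆ ≤ Subgroup.normalizer ((⁅⁅N', Q⁆, Q⁆ : Subgroup H) : Set H) :=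
    inf_le_right.trans (Subgroup.normalizer_commutator_ge_left _ _)
  have hle : ⁅N', Q⁆ ≤ ⁅⁅N', Q⁆, Q⁆ ⊔ (Q ⊓ ⁅N', Q⁆) := by
    rw [Subgroup.commutator_le]
    intro n hn q hq
    obtain ⟨a, ⟨haN, haQ⟩, b, hb, rfl⟩ := h1 n hn
    rw [commutatorElement_mul_left_eq_conj_mul]
    have hA : Subgroup.zpowers a ≤ Subgroup.normalizer ((Q : Subgroup H) : Set H) :=
      Subgroup.zpowers_le.mpr haQ
    have hA1 : Subgroup.zpowers a ≤ Subgroup.normalizer ((⁅N', Q⁆ : Subgroup H) : Set H) :=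
      Cfsg.Agent.Helper1.le_normalizer_commutator (hNn _) hA
    have hA2 : Subgroup.zpowers a ≤ Subgroup.normalizer ((⁅⁅N', Q⁆, Q⁆ : Subgroup H) : Set H) :=
      Cfsg.Agent.Helper1.le_normalizer_commutator hA1 hA
    have h2 : a * ⁅b, q⁆ * a⁻¹ ∈ ⁅⁅N', Q⁆, Q⁆ :=
      (Subgroup.mem_normalizer_iff.mp (hA2 (Subgroup.mem_zpowers a)) _).mp
        (Subgroup.commutator_mem_commutator hb hq)
    have h3 : ⁅a, q⁆ ∈ Q := by
      rw [commutatorElement_def]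
      have : a * q * a⁻¹ ∈ Q := (Subgroup.mem_normalizer_iff.mp haQ q).mp hq
      exact Q.mul_mem this (Q.inv_mem hq)
    have h4 : ⁅a, q⁆ ∈ ⁅N', Q⁆ := Subgroup.commutator_mem_commutator haN hq
    exact Subgroup.mul_mem _ (Subgroup.mem_sup_left h2) (Subgroup.mem_sup_right ⟨h3, h4⟩)
  intro c hc
  obtain ⟨n₂, hn₂, a, ha, rfl⟩ := Cfsg.Agent.Helper1.mem_sup_of_le_normalizer hAn (hle hc)
  refine ⟨a, ha, a⁻¹ * n₂ * a, ?_, by group⟩
  have := (Subgroup.mem_normalizer_iff.mp (Subgroup.inv_mem _ (hAn ha)) n₂).mp hn₂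
  simpa using this

end Cfsg.Agent.S2841
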