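import Mathlib
import Cfsg.Agent.Helper5.WCCharP
import Cfsg.Agent.Helper2.CharPLocal
import Cfsg.Statements.S2842
-- import your own Cfsg.Agent.* helpers here

set_option autoImplicit false
open Cfsg Cfsg.Agent.Helper5 Cfsg.Agent.Helper2

namespace Cfsg.Agent.S2842

theorem concl_of_hasCharP {H : Type*} [Group H] [Finite H] {p : ℕ} [Fact p.Prime] (Q : Subgroup H)
    (hQp : IsPGroup p ↥Q) (hwc : Cfsg.IsWeaklyClosedSubgroup p Q)
    (hCQ : Subgroup.centralizer ((Q : Subgroup H) : Set H) ≤ Q) (L : Subgroup H) (hQL : Q ≤ L)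
    (hD : HasCharP p ↥(Subgroup.centralizer (((Cfsg.pCore p ↥L).map L.subtype : Subgroup H) : Set H))) :
    ⁅Q, Subgroup.centralizer (((Cfsg.pCore p ↥L).map L.subtype : Subgroup H) : Set H)⁆ ≤
        Q ⊓ (Cfsg.pCore p ↥L).map L.subtype ∧
      IsPGroup p ↥(Subgroup.centralizer (((Cfsg.pCore p ↥L).map L.subtype : Subgroup H) : Set H)) ∧
      HasCharP p ↥L := by
  set R := (Cfsg.pCore p ↥L).map L.subtype with hR
  set D := Subgroup.centralizer (R : Set H) with hDdef
  have hLR : L ≤ Subgroup.normalizer (R : Set H) := le_normalizer_pCore_map_subtype p L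
  have hLD : L ≤ Subgroup.normalizer (D : Set H) := hLR.trans (normalizer_le_normalizer_centralizer R)
  have hDp : IsPGroup p ↥D :=
    isPGroup_of_weaklyClosed_charP Q hQp hwc hCQ L hQL D le_rfl hLD inf_le_right hD
  have hLDR : L ⊓ D ≤ R := by
    apply le_pCore_map_subtype L _ inf_le_left (hDp.to_le inf_le_right)
    intro l hl
    exact mem_normalizer_inf L _ l (Subgroup.le_normalizer hl) (hLD hl)
  have hQD : IsPGroup p ↥(Q ⊔ D) := IsPGroup.to_sup_of_normal_right' hQp hDp (hQL.trans hLD)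
  have hDQ : D ≤ Subgroup.normalizer (Q : Set H) :=
    (le_sup_right.trans Subgroup.le_normalizer).trans
      (IsWeaklyClosedSubgroup.normalizer_le hwc (Q ⊔ D) hQD le_sup_left)
  refine ⟨?_, hDp, hasCharP_of_isPGroup_inf_centralizer L (hDp.to_le inf_le_right)⟩
  rw [Subgroup.commutator_le]
  intro q hq d hd
  rw [commutatorElement_def]
  refine ⟨?_, ?_⟩
  · have h1 : q * d * q⁻¹ * d⁻¹ = q * (d * q⁻¹ * d⁻¹) := by group
    rw [h1]
    exact Q.mul_mem hq (conj_mem_of_mem_normalizer Q d (hDQ hd) q⁻¹ (Q.inv_mem hq))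
  · apply hLDR
    refine ⟨?_, ?_⟩
    · have h1 : q * d * q⁻¹ * d⁻¹ = q * (d * q⁻¹ * d⁻¹) := by group
      rw [h1]
      exact hQL (Q.mul_mem hq (conj_mem_of_mem_normalizer Q d (hDQ hd) q⁻¹ (Q.inv_mem hq)))
    · exact D.mul_mem (conj_mem_of_mem_normalizer D q (hLD (hQL hq)) d hd) (D.inv_mem hd)

/-- Let Q be a nontrivial p-subgroup of the finite group H that is a weakly closed subgroup with C_H(Q) ≤ Q, and Q ≤ L ≤ H. Suppose H has characteristic p, or more generally that C_H(y) has characteristic p for some nonidentity y ∈ C_{O_p(L)}(Q). Then [Q, C_H(O_p(L))] ≤ Q ∩ O_p(L), C_H(O_p(L)) is a p-group, and L has characteristic p. -/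
theorem result {H : Type*} [Group H] [Finite H] {p : ℕ} [Fact p.Prime] (Q : Subgroup H) (hQp : IsPGroup p ↥Q) (hQ1 : Q ≠ ⊥) (hwc : Cfsg.IsWeaklyClosedSubgroup p Q) (hCQ : Subgroup.centralizer ((Q : Subgroup H) : Set H) ≤ Q) (L : Subgroup H) (hQL : Q ≤ L) (hyp : Subgroup.centralizer (Cfsg.pCore p H : Set H) ≤ Cfsg.pCore p H ∨ ∃ y : H, y ≠ 1 ∧ y ∈ (Cfsg.pCoreOf p L) ⊓ Subgroup.centralizer ((Q : Subgroup H) : Set H) ∧ Subgroup.centralizer (Cfsg.pCore p ↥(Subgroup.centralizer ({y} : Set H)) : Set ↥(Subgroup.centralizer ({y} : Set H))) ≤ Cfsg.pCore p ↥(Subgroup.centralizer ({y} : Set H))) : ⁅Q, Subgroup.centralizer (((Cfsg.pCoreOf p L) : Subgroup H) : Set H)⁆ ≤ Q ⊓ (Cfsg.pCoreOf p L) ∧ IsPGroup p ↥(Subgroup.centralizer (((Cfsg.pCoreOf p L) : Subgroup H) : Set H)) ∧ Subgroup.centralizer (Cfsg.pCore p ↥L : Set ↥L) ≤ Cfsg.pCore p ↥L := by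
  have key : HasCharP p ↥(Subgroup.centralizer (((Cfsg.pCore p ↥L).map L.subtype : Subgroup H) : Set H)) := by
    set R := (Cfsg.pCore p ↥L).map L.subtype with hR
    set D := Subgroup.centralizer (R : Set H) with hDdef
    have hRp : IsPGroup p R := isPGroup_pCore_map_subtype p L
    have hLR : L ≤ Subgroup.normalizer (R : Set H) := le_normalizer_pCore_map_subtype p L
    have hLD : L ≤ Subgroup.normalizer (D : Set H) := hLR.trans (normalizer_le_normalizer_centralizer R)
    rcases hyp with h | ⟨y, hy1, hy, hHy⟩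
    · have h1 : HasCharP p ↥(Subgroup.normalizer (R : Set H)) := hasCharP_normalizer h R hRp
      exact hasCharP_of_le_normalizer D _ (Subgroup.centralizer_le_normalizer _)
        (normalizer_le_normalizer_centralizer R) h1
    · set Hy := Subgroup.centralizer ({y} : Set H) with hHydef
      have hyR : y ∈ R := hy.1
      have hyQ : y ∈ Subgroup.centralizer ((Q : Subgroup H) : Set H) := hy.2
      have hDHy : D ≤ Hy := by
        intro d hd
        rw [Subgroup.mem_centralizer_iff]
        intro z hz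
        rw [Set.mem_singleton_iff] at hz
        rw [hz]
        exact (Subgroup.mem_centralizer_iff.mp hd) y hyR
      have hQHy : Q ≤ Hy := by
        intro q hq
        rw [Subgroup.mem_centralizer_iff]
        intro z hz
        rw [Set.mem_singleton_iff] at hz
        rw [hz]
        exact ((Subgroup.mem_centralizer_iff.mp hyQ) q hq).symm
      set L' := Q ⊔ D with hL'
      have hL'Hy : L' ≤ Hy := sup_le hQHy hDHy
      set R' := (Cfsg.pCore p ↥L').map L'.subtype with hR'
      have hR'p : IsPGroup p R' := isPGroup_pCore_map_subtype p L'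
      have hR'L' : R' ≤ L' := pCore_map_subtype_le p L'
      have hL'R' : L' ≤ Subgroup.normalizer (R' : Set H) := le_normalizer_pCore_map_subtype p L'
      have h1 : HasCharP p ↥(Hy ⊓ Subgroup.normalizer (R' : Set H)) :=
        hasCharP_inf_normalizer Hy R' (hR'L'.trans hL'Hy) hR'p hHy
      set D' := Hy ⊓ Subgroup.centralizer (R' : Set H) with hD'
      have h2 : HasCharP p ↥D' := by
        apply hasCharP_of_le_normalizer D' (Hy ⊓ Subgroup.normalizer (R' : Set H)) _ _ h1
        · exact inf_le_inf_left _ (Subgroup.centralizer_le_normalizer _)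
        · intro x hx
          exact mem_normalizer_inf Hy _ x (Subgroup.le_normalizer hx.1)
            (normalizer_le_normalizer_centralizer R' hx.2)
      have hL'D' : L' ≤ Subgroup.normalizer (D' : Set H) := by
        intro x hx
        exact mem_normalizer_inf Hy _ x (Subgroup.le_normalizer (hL'Hy hx))
          (normalizer_le_normalizer_centralizer R' (hL'R' hx))
      have h3 : IsPGroup p ↥D' :=
        isPGroup_of_weaklyClosed_charP Q hQp hwc hCQ L' le_sup_left D' inf_le_right hL'D'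
          (fun x hx => ⟨hL'Hy hx.1, hx.2⟩) h2
      have h4 : HasCharP p ↥L' := by
        apply hasCharP_of_isPGroup_inf_centralizer
        exact h3.to_le (fun x hx => ⟨hL'Hy hx.1, hx.2⟩)
      apply hasCharP_of_le_normalizer D L' le_sup_right _ h4
      apply sup_le (hQL.trans hLD) Subgroup.le_normalizer
  obtain ⟨h1, h2, h3⟩ := concl_of_hasCharP Q hQp hwc hCQ L hQL key
  exact ⟨h1, h2, h3⟩

end Cfsg.Agent.S2842
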