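import Cfsg.Statements.S2846
import Cfsg.Agent.Helper6.FrakNF
import Cfsg.Agent.Helper6.FrakNG
import Cfsg.Agent.S2843
import Cfsg.Agent.S2844

set_option autoImplicit false
open Cfsg

namespace Cfsg.Agent.S2846

/-- Let Q be a nontrivial large p-subgroup of the finite group H, S a Sylow p-subgroup containing Q, and L a subgroup containing S with O_p(L) ≠ 1 and C_H(O_p(L)) ≤ O_p(L). Then there are a subgroup M containing S having the basic property (M ∈ 𝔐_H, writing Y_X for the largest p-reduced normal subgroup of X and 𝓛_H for the set of subgroups X with O_p(X) ≠ 1 and C_H(O_p(X)) ≤ O_p(X): M ∈ 𝓛_H, M·C_H(Y_M) is the only maximal member of 𝓛_H containing M and its largest p-reduced normal subgroup is again Y_M, C_M(Y_M) is p-closed, and the image of C_M(Y_M) in M/O_p(M) lies in the Frattini subgroup of M/O_p(M)) and a subgroup L* with S ≤ L* ≤ M, O_p(L*) ≠ 1, C_H(O_p(L*)) ≤ O_p(L*), such that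 L·C_H(Y_L) = L*·C_H(Y_L), the weak closures of Q in L and in L* agree and lie in that of M, and Y_L = Y_{L*} ≤ Y_M. If moreover Q is not normal in L, then Q is normal in neither L* nor M. -/
theorem result {H : Type*} [Group H] [Finite H] {p : ℕ} [Fact p.Prime] (Q : Subgroup H) (hQp : IsPGroup p ↥Q) (hQ1 : Q ≠ ⊥) (hLg : Cfsg.IsLarge Q) (S : Sylow p H) (hQS : Q ≤ (S : Subgroup H)) (L : Subgroup H) (hSL : (S : Subgroup H) ≤ L) (hL : L ∈ Cfsg.charPSubgroups p H) : ∃ M Ls : Subgroup H, (S : Subgroup H) ≤ M ∧ Cfsg.IsInFrakM p M ∧ (S : Subgroup H) ≤ Ls ∧ Ls ≤ M ∧ Ls ∈ Cfsg.charPSubgroups p H ∧ L ⊔ Subgroup.centralizer (((Cfsg.largestPReducedOf p L) : Subgroup H) : Set H) = Ls ⊔ Subgroup.centralizer (((Cfsg.largestPReducedOf p L) : Subgroup H) : Set H) ∧ Cfsg.weakClosure Q L = Cfsg.weakClosure Q Ls ∧ Cfsg.weakClosure Q Ls ≤ Cfsg.weakClosure Q M ∧ (Cfsg.largestPReducedOf p L) = (Cfsg.largestPReducedOf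 p Ls) ∧ (Cfsg.largestPReducedOf p Ls) ≤ (Cfsg.largestPReducedOf p M) ∧ (¬ L ≤ Subgroup.normalizer ((Q : Subgroup H) : Set H) → ¬ Ls ≤ Subgroup.normalizer ((Q : Subgroup H) : Set H) ∧ ¬ M ≤ Subgroup.normalizer ((Q : Subgroup H) : Set H)) := by
  classical
  have hpar : ∀ R : Subgroup H, (S : Subgroup H) ≤ R → Cfsg.pCore p ↥R ≠ ⊥ →
      R ∈ Cfsg.charPSubgroups p H := fun R hSR hR1 =>
    Cfsg.Agent.Helper6.FrakN.mem_charP_of_parabolic Q hQp hQ1 hLg R ⟨S, hSR⟩ hR1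
  obtain ⟨M, hSM, hM, hLLM⟩ := Cfsg.Agent.Helper6.FrakN.exists_frakM S hpar L hSL hL
  obtain ⟨Ls, hSLs, hLsM, hLsL, hYeq, hfac, hLsN⟩ :=
    Cfsg.Agent.Helper6.FrakN.exists_Ls S hpar L M hSL hL hSM hLLM
  have hS1 : (S : Subgroup H) ≠ ⊥ := Cfsg.Agent.Helper6.FrakN.sylow_ne_bot_of_pCore_ne_bot S hSL hL.1
  have hLchar := Cfsg.Agent.Helper6.FrakN.hasCharP_of_mem_charP hL
  have hY1 : Cfsg.largestPReducedOf p L ≠ ⊥ :=
    Cfsg.Agent.Helper6.FrakN.largestPReducedOf_ne_bot S hSL hLchar hS1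
  have hYp : IsPGroup p ↥(Cfsg.largestPReducedOf p L) :=
    S.2.to_le (Cfsg.Agent.Helper6.FrakN.largestPReducedOf_le_sylow S hSL)
  have hLN : L ≤ Subgroup.normalizer ((Cfsg.largestPReducedOf p L : Subgroup H) : Set H) :=
    (Cfsg.Agent.Helper5.pRedIn_largestPReducedOf p L).2.1
  have h1 := (Cfsg.Agent.S2843.result Q hQp hQ1 hLg L (hQS.trans hSL) _ hYp hY1 hLN).1
  have h2 := (Cfsg.Agent.S2843.result Q hQp hQ1 hLg Ls (hQS.trans hSLs) _ hYp hY1 hLsN).1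
  have hwcL : Cfsg.weakClosure Q L = Cfsg.weakClosure Q Ls := by
    rw [h1, h2, hfac]
  have hwc : Cfsg.IsWeaklyClosedSubgroup p Q := Cfsg.Agent.S2844.large_weaklyClosed Q hQp hQ1 hLg
  refine ⟨M, Ls, hSM, hM, hSLs, hLsM, hLsL, hfac, hwcL,
    Cfsg.Agent.Helper6.FrakN.weakClosure_mono Q hLsM, hYeq.symm, ?_, ?_⟩
  · rw [hYeq]
    exact hLLM.Y_le S hSL hSM (Cfsg.Agent.Helper6.FrakN.hasCharP_of_mem_charP hM.1)
  · intro hLQ
    have hLs : ¬ Ls ≤ Subgroup.normalizer ((Q : Subgroup H) : Set H) := by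
      intro hLsQ
      apply hLQ
      apply Cfsg.Agent.Helper6.FrakN.le_normalizer_of_weakClosure_eq
      rw [hwcL]
      exact Cfsg.Agent.Helper6.FrakN.weakClosure_eq_of_le_normalizer hwc hQp (hQS.trans hSLs) hLsQ
    exact ⟨hLs, fun hMQ => hLs (hLsM.trans hMQ)⟩

end Cfsg.Agent.S2846
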