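import Mathlib
import Cfsg.Agent.Helper5.PReducedRel2
import Cfsg.Agent.Helper5.PClosedQuot
import Cfsg.Statements.S2848
-- import your own Cfsg.Agent.* helpers here

set_option autoImplicit false
open Cfsg Cfsg.Agent.Helper5

namespace Cfsg.Agent.S2848

variable {G : Type*} [Group G]

/-- For `M` with `C_M(Y_M)` `p`-closed and `S ≤ M` Sylow: `O_p(M) = C_S(Y_M)`. -/
theorem pCoreOf_eq_inf_centralizer [Finite G] {p : ℕ} [Fact p.Prime] (S : Sylow p G) (M : Subgroup G)
    (hSM : (S : Subgroup G) ≤ M)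
    (hcl : Cfsg.IsPClosed p ↥(M ⊓ Subgroup.centralizer (Cfsg.largestPReducedOf p M : Set G))) :
    Cfsg.pCoreOf p M = (S : Subgroup G) ⊓ Subgroup.centralizer (Cfsg.largestPReducedOf p M : Set G) := by
  have hP := pRedIn_largestPReducedOf p M
  apply le_antisymm
  · exact le_inf (pCoreOf_le_sylow S hSM) hP.pCoreOf_le_centralizer
  · obtain ⟨P, hPK, hPp, -, hmax⟩ := (isPClosed_iff_pClosedSub _).mp hcl
    have hNC := normalizer_le_normalizer_centralizer (Cfsg.largestPReducedOf p M)
    have hMP : M ≤ Subgroup.normalizer (P : Set G) := by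
      apply le_normalizer_of_conj_mem
      intro m hm x hx
      have hle : P.map (MulAut.conj m).toMonoidHom ≤ P := by
        apply hmax _ _ (hPp.map _)
        rw [map_conj_le_iff]
        intro y hy
        exact ⟨M.mul_mem (M.mul_mem hm (hPK hy).1) (M.inv_mem hm),
          (Subgroup.mem_normalizer_iff.mp (hNC (hP.2.1 hm)) y).mp (hPK hy).2⟩
      exact (map_conj_le_iff _ _ _).mp hle x hx
    have hPM : P ≤ M := hPK.trans inf_le_left
    have hn : (P.subgroupOf M).Normal := (Subgroup.normal_subgroupOf_iff_le_normalizer hPM).mpr hMP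
    have h1 : P ≤ Cfsg.pCoreOf p M := by
      have h2 := Subgroup.map_mono (f := M.subtype) (le_pCore hn hPp.comap_subtype)
      rwa [Subgroup.map_subgroupOf_eq_of_le hPM] at h2
    refine le_trans ?_ h1
    exact hmax _ (inf_le_inf_right _ hSM) (S.2.to_le inf_le_left)

/-- Standing hypotheses: G a finite group, S a Sylow p-subgroup, Q a nontrivial large p-subgroup of G contained in S (C_G(Q) ≤ Q and N_G(U) ≤ N_G(Q) for all nontrivial U ≤ C_G(Q)), and M a subgroup containing S with the basic property (M ∈ 𝔐_G(S)); Y_M denotes the largest p-reduced normal subgroup of M and M† = M·C_G(Y_M). Then O_p(M) is a weakly closed subgroup of M† (for p): it is the only M†-conjugate of itself inside some Sylow p-subgroup of M† containing it. -/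
theorem result {G : Type*} [Group G] [Finite G] {p : ℕ} [Fact p.Prime] (S : Sylow p G) (Q : Subgroup G) (hQp : IsPGroup p ↥Q) (hQ1 : Q ≠ ⊥) (hQS : Q ≤ (S : Subgroup G)) (hQ : Cfsg.IsLarge Q) (M : Subgroup G) (hSM : (S : Subgroup G) ≤ M) (hM : Cfsg.IsInFrakM p M) : Cfsg.IsWeaklyClosedSubgroup p (((Cfsg.pCoreOf p M)).subgroupOf (M ⊔ Subgroup.centralizer (((Cfsg.largestPReducedOf p M) : Subgroup G) : Set G))) := by
  classical
  have hP := pRedIn_largestPReducedOf p M
  have hcl := hM.2.2.2.2.1
  have hO := pCoreOf_eq_inf_centralizer S M hSM hcl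
  have hNC := normalizer_le_normalizer_centralizer (Cfsg.largestPReducedOf p M)
  have hMdN : M ⊔ Subgroup.centralizer (Cfsg.largestPReducedOf p M : Set G) ≤
      Subgroup.normalizer ((Subgroup.centralizer (Cfsg.largestPReducedOf p M : Set G) : Subgroup G) : Set G) :=
    (sup_le hP.2.1 (Subgroup.centralizer_le_normalizer _)).trans hNC
  have hSMd : (S : Subgroup G) ≤ M ⊔ Subgroup.centralizer (Cfsg.largestPReducedOf p M : Set G) :=
    hSM.trans le_sup_left
  have hOMd : Cfsg.pCoreOf p M ≤ M ⊔ Subgroup.centralizer (Cfsg.largestPReducedOf p M : Set G) :=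
    (pCoreOf_le_sylow S hSM).trans hSMd
  refine ⟨S.subtype hSMd, ?_, ?_⟩
  · rw [Sylow.coe_subtype]
    intro x hx
    rw [Subgroup.mem_subgroupOf] at hx ⊢
    exact pCoreOf_le_sylow S hSM hx
  · intro g hg
    rw [Sylow.coe_subtype] at hg
    have hconj : ∀ x : ↥(M ⊔ Subgroup.centralizer (Cfsg.largestPReducedOf p M : Set G)),
        x ∈ ((Cfsg.pCoreOf p M).subgroupOf _).map (MulAut.conj g).toMonoidHom ↔
          (x : G) ∈ (Cfsg.pCoreOf p M).map (MulAut.conj (g : G)).toMonoidHom := by
      intro x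
      rw [mem_map_conj_iff, mem_map_conj_iff, Subgroup.mem_subgroupOf]
      simp
    have hOgS : (Cfsg.pCoreOf p M).map (MulAut.conj (g : G)).toMonoidHom ≤ (S : Subgroup G) := by
      rw [map_conj_le_iff]
      intro x hx
      have hxMd : (g : G) * x * (g : G)⁻¹ ∈ M ⊔ Subgroup.centralizer (Cfsg.largestPReducedOf p M : Set G) :=
        Subgroup.mul_mem _ (Subgroup.mul_mem _ g.2 (hOMd hx)) (Subgroup.inv_mem _ g.2)
      have h1 : (⟨(g : G) * x * (g : G)⁻¹, hxMd⟩ : ↥(M ⊔ Subgroup.centralizer (Cfsg.largestPReducedOf p M : Set G))) ∈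
          ((Cfsg.pCoreOf p M).subgroupOf _).map (MulAut.conj g).toMonoidHom := by
        rw [hconj]
        exact conj_mem_map_conj _ _ x hx
      exact Subgroup.mem_subgroupOf.mp (hg h1)
    have hOgC : (Cfsg.pCoreOf p M).map (MulAut.conj (g : G)).toMonoidHom ≤
        Subgroup.centralizer (Cfsg.largestPReducedOf p M : Set G) := by
      rw [map_conj_le_iff]
      intro x hx
      have hxC : x ∈ Subgroup.centralizer (Cfsg.largestPReducedOf p M : Set G) := by
        have := hO ▸ hx
        exact this.2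
      exact (Subgroup.mem_normalizer_iff.mp (hMdN g.2) x).mp hxC
    have hle : (Cfsg.pCoreOf p M).map (MulAut.conj (g : G)).toMonoidHom ≤ Cfsg.pCoreOf p M := by
      conv_rhs => rw [hO]
      exact le_inf hOgS hOgC
    have heq : (Cfsg.pCoreOf p M).map (MulAut.conj (g : G)).toMonoidHom = Cfsg.pCoreOf p M :=
      Subgroup.eq_of_le_of_card_ge hle (le_of_eq (card_map_conj' _ _).symm)
    ext x
    rw [hconj, heq, Subgroup.mem_subgroupOf]

end Cfsg.Agent.S2848
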