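import Mathlib
import Cfsg.Agent.Helper5.PReducedRel2
import Cfsg.Agent.Helper5.StrongEmb
import Cfsg.Agent.Helper2.Component
import Cfsg.Statements.S2849
-- import your own Cfsg.Agent.* helpers here

set_option autoImplicit false
open Cfsg Cfsg.Agent.Helper5

namespace Cfsg.Agent.S2849

variable {G : Type*} [Group G]

theorem isElementaryAbelian_closure {p : ℕ} (s : Set G) (hcomm : ∀ x ∈ s, ∀ y ∈ s, x * y = y * x)
    (hexp : ∀ x ∈ s, x ^ p = 1) : Cfsg.IsElementaryAbelian p (Subgroup.closure s) := by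
  have hc : IsMulCommutative ↥(Subgroup.closure s) := Subgroup.isMulCommutative_closure hcomm
  refine ⟨hc, ?_⟩
  intro v hv
  induction hv using Subgroup.closure_induction with
  | mem y hy => exact hexp y hy
  | one => exact one_pow _
  | mul a b ha hb iha ihb =>
    have hab : Commute a b := setLike_mul_comm ha hb
    rw [hab.mul_pow, iha, ihb, one_mul]
  | inv a _ iha => rw [inv_pow, iha, inv_one]

/-- Standing hypotheses: G a finite group, S a Sylow p-subgroup, Q a nontrivial large p-subgroup of G contained in S (C_G(Q) ≤ Q and N_G(U) ≤ N_G(Q) for all nontrivial U ≤ C_G(Q)), and M a subgroup containing S with the basic property (M ∈ 𝔐_G(S)); Y_M denotes the largest p-reduced normal subgroup of M and M† = M·C_G(Y_M). Suppose Y_M is asymmetric in G. Then for every subgroup R with Y_M ≤ R ≤ M†, the normal closure of Y_M in N_G(R) is elementary abelian. -/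
theorem result {G : Type*} [Group G] [Finite G] {p : ℕ} [Fact p.Prime] (S : Sylow p G) (Q : Subgroup G) (hQp : IsPGroup p ↥Q) (hQ1 : Q ≠ ⊥) (hQS : Q ≤ (S : Subgroup G)) (hQ : Cfsg.IsLarge Q) (M : Subgroup G) (hSM : (S : Subgroup G) ≤ M) (hM : Cfsg.IsInFrakM p M) (hasym : ¬ Cfsg.IsSymmetricIn (Cfsg.largestPReducedOf p M)) (R : Subgroup G) (hYR : (Cfsg.largestPReducedOf p M) ≤ R) (hRM : R ≤ (M ⊔ Subgroup.centralizer (((Cfsg.largestPReducedOf p M) : Subgroup G) : Set G))) : Cfsg.IsElementaryAbelian p ((Subgroup.normalClosure ((((Cfsg.largestPReducedOf p M)).subgroupOf (Subgroup.normalizer ((R : Subgroup G) : Set G)) : Subgroup ↥(Subgroup.normalizer ((R : Subgroup G) : Set G))) : Set ↥(Subgroup.normalizer ((R : Subgroup G) : Set G)))).map (Subgroup.normalizer ((R : Subgroup G) : Set G)).subtype) := by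
  classical
  have hP := pRedIn_largestPReducedOf p M
  have hMdN : M ⊔ Subgroup.centralizer (Cfsg.largestPReducedOf p M : Set G) ≤
      Subgroup.normalizer ((Cfsg.largestPReducedOf p M : Subgroup G) : Set G) :=
    sup_le hP.2.1 (Subgroup.centralizer_le_normalizer _)
  have hYel := hP.2.2.1
  have key : ∀ g ∈ Subgroup.normalizer (R : Set G), ∀ y₁ ∈ Cfsg.largestPReducedOf p M,
      ∀ y₂ ∈ Cfsg.largestPReducedOf p M, y₁ * (g * y₂ * g⁻¹) = (g * y₂ * g⁻¹) * y₁ := by
    intro g hg
    have hYgR : (Cfsg.largestPReducedOf p M).map (MulAut.conj g).toMonoidHom ≤ R := by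
      rw [map_conj_le_iff]; intro y hy; exact (Subgroup.mem_normalizer_iff.mp hg y).mp (hYR hy)
    have h1 : ⁅Cfsg.largestPReducedOf p M, (Cfsg.largestPReducedOf p M).map (MulAut.conj g).toMonoidHom⁆ ≤
        Cfsg.largestPReducedOf p M := by
      rw [Subgroup.commutator_comm]
      exact Cfsg.Agent.Helper2.commutator_le_of_le_normalizer ((hYgR.trans hRM).trans hMdN)
    have h2 : ⁅Cfsg.largestPReducedOf p M, (Cfsg.largestPReducedOf p M).map (MulAut.conj g).toMonoidHom⁆ ≤
        (Cfsg.largestPReducedOf p M).map (MulAut.conj g).toMonoidHom := by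
      apply Cfsg.Agent.Helper2.commutator_le_of_le_normalizer
      rw [normalizer_map_conj]
      intro y hy
      rw [mem_map_conj_iff]
      have : g⁻¹ * y * g ∈ R := by
        have := (Subgroup.mem_normalizer_iff.mp (Subgroup.inv_mem _ hg) y).mp (hYR hy)
        simpa using this
      exact hMdN (hRM this)
    have h3 : ⁅Cfsg.largestPReducedOf p M,
        (Cfsg.largestPReducedOf p M).map (MulAut.conj g).toMonoidHom⁆ = ⊥ := by
      by_contra hne
      exact hasym ⟨g, hne, le_inf h1 h2⟩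
    have h4 := Subgroup.commutator_eq_bot_iff_le_centralizer.mp h3
    intro y₁ hy₁ y₂ hy₂
    have := (Subgroup.mem_centralizer_iff.mp (h4 hy₁)) (g * y₂ * g⁻¹) (conj_mem_map_conj _ g y₂ hy₂)
    exact this.symm
  have hV : (Subgroup.normalClosure ((((Cfsg.largestPReducedOf p M)).subgroupOf
      (Subgroup.normalizer ((R : Subgroup G) : Set G)) : Subgroup ↥(Subgroup.normalizer ((R : Subgroup G) : Set G))) :
        Set ↥(Subgroup.normalizer ((R : Subgroup G) : Set G)))).map
      (Subgroup.normalizer ((R : Subgroup G) : Set G)).subtype =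
      Subgroup.closure ((Subgroup.normalizer ((R : Subgroup G) : Set G)).subtype ''
        Group.conjugatesOfSet ((((Cfsg.largestPReducedOf p M)).subgroupOf
      (Subgroup.normalizer ((R : Subgroup G) : Set G)) : Subgroup ↥(Subgroup.normalizer ((R : Subgroup G) : Set G))) :
        Set ↥(Subgroup.normalizer ((R : Subgroup G) : Set G)))) := by
    unfold Subgroup.normalClosure; rw [MonoidHom.map_closure]
  rw [hV]
  apply isElementaryAbelian_closure
  · rintro _ ⟨x, hx, rfl⟩ _ ⟨x', hx', rfl⟩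
    obtain ⟨y, hy, hxy⟩ := Group.mem_conjugatesOfSet_iff.mp hx
    obtain ⟨a, rfl⟩ := isConj_iff.mp hxy
    obtain ⟨y', hy', hxy'⟩ := Group.mem_conjugatesOfSet_iff.mp hx'
    obtain ⟨b, rfl⟩ := isConj_iff.mp hxy'
    simp only [Subgroup.coe_subtype, Subgroup.coe_mul, Subgroup.coe_inv]
    have hyY : (y : G) ∈ Cfsg.largestPReducedOf p M := Subgroup.mem_subgroupOf.mp hy
    have hy'Y : (y' : G) ∈ Cfsg.largestPReducedOf p M := Subgroup.mem_subgroupOf.mp hy'
    have hk := key ((a : G)⁻¹ * (b : G)) (Subgroup.mul_mem _ (Subgroup.inv_mem _ a.2) b.2) y hyY y' hy'Y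
    calc (a : G) * y * (a : G)⁻¹ * ((b : G) * y' * (b : G)⁻¹)
        = a * (y * ((a : G)⁻¹ * b * y' * ((a : G)⁻¹ * b)⁻¹)) * (a : G)⁻¹ := by group
      _ = a * (((a : G)⁻¹ * b * y' * ((a : G)⁻¹ * b)⁻¹) * y) * (a : G)⁻¹ := by rw [hk]
      _ = _ := by group
  · rintro _ ⟨x, hx, rfl⟩
    obtain ⟨y, hy, hxy⟩ := Group.mem_conjugatesOfSet_iff.mp hx
    obtain ⟨a, rfl⟩ := isConj_iff.mp hxy
    have hyY : (y : G) ∈ Cfsg.largestPReducedOf p M := Subgroup.mem_subgroupOf.mp hy
    simp only [Subgroup.coe_subtype, Subgroup.coe_mul, Subgroup.coe_inv]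
    rw [conj_pow, hYel.2 _ hyY, mul_one, mul_inv_cancel]

end Cfsg.Agent.S2849
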