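import Mathlib
import Cfsg.Agent.Helper5.VIter4
import Cfsg.Statements.S2856
-- import your own Cfsg.Agent.* helpers here

set_option autoImplicit false
open Cfsg Cfsg.Agent.Helper5
open scoped commutatorElement

namespace Cfsg.Agent.S2856

/-- Let (M₁, M₂) be an amalgam pair in X satisfying the rank-two standing hypothesis (characteristic p, the normalizers in M₁ and in M₂ of a Sylow p-subgroup of M₁ ∩ M₂ equal and contained in M₁ ∩ M₂, and strongly p-embedded residues), λ a vertex of the coset graph, L_λ the subgroup of its stabilizer generated by the p-elements, Q_λ = O_p of the stabilizer, O^p(L_λ) the subgroup of L_λ generated by its elements of order prime to p, and V_λ^{(k)} the subgroup generated by the Z_μ over the vertices μ at distance at most k from λ (Z_μ being generated by the Ω₁(Z(S)), S a Sylow p-subgroup of the stabilizer of μ). If n ≥ 1 and V_λ^{(n)} ≤ Q_λ, then O^p(L_λ) does not centralize V_λ^{(n)}/[V_λ^{(n)}, Q_λ], that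 is, [V_λ^{(n)}, O^p(L_λ)] is not contained in [V_λ^{(n)}, Q_λ]. -/
theorem result {X : Type*} [Group X] {p : ℕ} [Fact p.Prime] (M₁ M₂ : Subgroup X) (h : Cfsg.IsSpeAmalgamPair p M₁ M₂) (lam : Cfsg.CosetVertex M₁ M₂) (n : ℕ) (hn : 1 ≤ n) (V : Subgroup X) (hV : V = Cfsg.vertexVIter p M₁ M₂ n lam) (hVQ : V ≤ Cfsg.vertexQ p lam) : ¬ ⁅V, ((Cfsg.pResidual p ↥(Cfsg.pElementClosure p (MulAction.stabilizer X lam))).map (Cfsg.pElementClosure p (MulAction.stabilizer X lam)).subtype)⁆ ≤ ⁅V, Cfsg.vertexQ p lam⁆ := by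
  intro hcon
  obtain ⟨m, rfl⟩ : ∃ m, n = m + 1 := ⟨n - 1, by omega⟩
  subst hV
  have hcon' : ⁅Cfsg.vertexVIter p M₁ M₂ (m + 1) lam, pResPEl p (MulAction.stabilizer X lam)⁆ ≤
      ⁅Cfsg.vertexVIter p M₁ M₂ (m + 1) lam, Cfsg.vertexQ p lam⁆ := hcon
  obtain ⟨μ, hadj, hle⟩ := viter_key M₁ M₂ h lam m _ hcon'
  haveI : Finite ↥(MulAction.stabilizer X lam) := finite_stabilizer M₁ M₂ h.1 lam
  have hQA : Cfsg.vertexQ p lam ≤ MulAction.stabilizer X lam := pCore_map_subtype_le p _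
  haveI : Finite ↥(Cfsg.vertexQ p lam) :=
    Finite.of_injective (Subgroup.inclusion hQA) (Subgroup.inclusion_injective _)
  have hQp : IsPGroup p ↥(Cfsg.vertexQ p lam) := isPGroup_pCore_map_subtype p _
  have hQμ : Cfsg.vertexQ p lam ≤ MulAction.stabilizer X μ :=
    (Cfsg.Agent.S2746.result M₁ M₂ h.1 lam).trans (neighbourKernel_le_stabilizer M₁ M₂ lam μ hadj)
  have hQU : Cfsg.vertexQ p lam ≤ Subgroup.normalizer (Cfsg.vertexVIter p M₁ M₂ m μ : Set X) :=
    hQμ.trans (stabilizer_le_normalizer_vertexVIter M₁ M₂ h.1 m μ)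
  have hle2 := le_of_le_sup_commutator (Cfsg.vertexVIter p M₁ M₂ m μ)
    (Cfsg.vertexVIter p M₁ M₂ (m + 1) lam) (Cfsg.vertexQ p lam) hQp hVQ hQU
    (by rw [sup_comm]; exact hle)
  exact viter_not_le M₁ M₂ h.1 lam μ hadj m hVQ hle2

end Cfsg.Agent.S2856
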