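import Cfsg.Statements.S2860
import Cfsg.Agent.Helper6.QSecD

set_option autoImplicit false
open Cfsg
open scoped commutatorElement

namespace Cfsg.Agent.S2860

/-- Let Q be a nontrivial large p-subgroup of the finite group H, U a nontrivial elementary abelian p-subgroup of H, and Q ≤ E ≤ N_H(U) with Q not normal in E. Suppose O_p(E/C_E(U)) = 1 and O^p(E)·C_E(U)/C_E(U) is quasisimple. Let E° be the weak closure of Q in E (generated by the conjugates of Q inside E) and E_∘ = O^p(E°). Then O^p(E)·C_E(U) = E_∘·C_E(U); E_∘ is perfect and equals O^p(E_∘); E_∘/C_{E_∘}(U) and E_∘/O_p(E_∘) are quasisimple; and E_∘ = [E_∘, Y] for every p-subgroup Y of E not centralizing U. -/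
theorem result {G : Type*} [Group G] [Finite G] {p : ℕ} [Fact p.Prime] (Q : Subgroup G) (hQp : IsPGroup p ↥Q) (hQ1 : Q ≠ ⊥) (hQ : Cfsg.IsLarge Q) (U : Subgroup G) (hU : Cfsg.IsElementaryAbelian p U) (hU1 : U ≠ ⊥) (E : Subgroup G) (hQE : Q ≤ E) (hEU : E ≤ Subgroup.normalizer ((U : Subgroup G) : Set G)) (hQn : ¬ E ≤ Subgroup.normalizer ((Q : Subgroup G) : Set G)) [hn : ((Subgroup.centralizer ((U : Subgroup G) : Set G)).subgroupOf E).Normal] (hred : Cfsg.pCore p (↥E ⧸ (Subgroup.centralizer ((U : Subgroup G) : Set G)).subgroupOf E) = ⊥) (hqs : Cfsg.IsQuasisimple ↥(((Cfsg.pResidual p ↥E) ⊔ (Subgroup.centralizer ((U : Subgroup G) : Set G)).subgroupOf E).map (QuotientGroup.mk' ((Subgroup.centralizer ((U : Subgroup G) : Set G)).subgroupOf E)))) (Er : Subgroup G) (hEr : Er = ((Cfsg.pResidual p ↥(Cfsg.weakClosure Q E)).map ((Cfsg.weakClosure Q E)).subtype)) [hn2 : ((Subgroup.centralizer ((U : Subgroup G) : Set G)).subgroupOf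 Er).Normal] : ((Cfsg.pResidual p ↥E).map (E).subtype) ⊔ (E ⊓ Subgroup.centralizer ((U : Subgroup G) : Set G)) = Er ⊔ (E ⊓ Subgroup.centralizer ((U : Subgroup G) : Set G)) ∧ ⁅Er, Er⁆ = Er ∧ ((Cfsg.pResidual p ↥Er).map (Er).subtype) = Er ∧ Cfsg.IsQuasisimple (↥Er ⧸ (Subgroup.centralizer ((U : Subgroup G) : Set G)).subgroupOf Er) ∧ Cfsg.IsQuasisimple (↥Er ⧸ Cfsg.pCore p ↥Er) ∧ ∀ Y : Subgroup G, Y ≤ E → IsPGroup p ↥Y → ¬ Y ≤ Subgroup.centralizer ((U : Subgroup G) : Set G) → ⁅Er, Y⁆ = Er := by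
  subst hEr
  have hUp : IsPGroup p ↥U := by
    intro g
    refine ⟨1, ?_⟩
    rw [pow_one]
    apply Subtype.ext
    rw [Subgroup.coe_pow]
    exact hU.2 g g.2
  have h : Cfsg.Agent.Helper6.QSec.QHyp p Q U E := ⟨hQp, hQ1, hQ, hUp, hU1, hQE, hEU, hQn⟩
  obtain ⟨hres, ha, hperfK, hY, hOp⟩ := Cfsg.Agent.Helper6.QSec.bar_facts Q E
    (Subgroup.centralizer ((U : Subgroup G) : Set G)) hQp hQE h.not_le_C hred hqs
    (Cfsg.weakClosure Q E) h.Q_le_Ew (Cfsg.Agent.Helper6.QSec.QHyp.Ew_le Q E)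
    (Cfsg.Agent.Helper6.QSec.QHyp.E_le_normalizer_Ew Q E)
  have hperf := h.Er_perfect hperfK
  have hc1 := Cfsg.Agent.Helper6.QSec.isQuasisimple_quot_of_bar (hn := hn) (hn2 := hn2) E
    (Subgroup.centralizer ((U : Subgroup G) : Set G))
    ((Cfsg.pResidual p ↥(Cfsg.weakClosure Q E)).map ((Cfsg.weakClosure Q E)).subtype)
    (Cfsg.Agent.Helper6.QSec.QHyp.Er_le p Q E) _ hres hqs
  refine ⟨ha, hperf, Cfsg.Agent.Helper6.QSec.resOf_resOf p _, hc1, ?_, ?_⟩
  · apply Cfsg.Agent.Helper6.QSec.isQuasisimple_quot_pCore p ((Subgroup.centralizer ((U : Subgroup G) : Set G)).subgroupOf ((Cfsg.pResidual p ↥(Cfsg.weakClosure Q E)).map ((Cfsg.weakClosure Q E)).subtype)) hc1 (Subgroup.isPerfect_iff.mpr hperf)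
    · intro y hy
      show (y : G) ∈ Subgroup.centralizer ((U : Subgroup G) : Set G)
      exact Cfsg.Agent.Helper6.QSec.QHyp.pCoreOf_Er_le (Q := Q) _ hOp (Subgroup.mem_map_of_mem _ hy)
    · intro d hd w
      have h1 := h.comm_D_le (Subgroup.commutator_mem_commutator
        (show (d : G) ∈ _ ⊓ Subgroup.centralizer ((U : Subgroup G) : Set G) from ⟨d.2, hd⟩) w.2)
      obtain ⟨y, hy, hyeq⟩ := h1
      have : y = ⁅d, w⁆ := by
        apply Subtype.ext
        rw [Subgroup.coe_subtype] at hyeq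
        rw [hyeq]
        rfl
      rw [← this]
      exact hy
  · intro Y hYE hYp hYC
    exact h.comm_eq hperf Y hYE (hY Y hYE hYp hYC)

end Cfsg.Agent.S2860
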