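import Cfsg.Statements.S2863
import Cfsg.Agent.FrakL.Cases
import Cfsg.Agent.FrakL.Two
import Cfsg.Agent.FrakL.SL2Free
import Cfsg.Agent.FrakL.SzPart
import Cfsg.Agent.FrakL.Iso

set_option autoImplicit false
open Cfsg

namespace Cfsg.Agent.S2863

open Cfsg.Agent.FrakL in
/-- Transporting a subgroup along an isomorphism and back gives the subgroup. -/
theorem fl63_map_symm_map {Γ Γ' : Type*} [Group Γ] [Group Γ'] (φ : Γ ≃* Γ') (E : Subgroup Γ) :
    (E.map φ.toMonoidHom).map φ.symm.toMonoidHom = E := by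
  ext y
  constructor
  · rintro ⟨z, ⟨w, hw, rfl⟩, rfl⟩
    simpa using hw
  · intro hy
    exact ⟨φ y, ⟨y, hy, rfl⟩, by simp⟩

open Cfsg.Agent.FrakL in
/-- Pull `FLFree` back along an isomorphism. -/
theorem fl63_free_of_map {Γ Γ' : Type*} [Group Γ] [Group Γ'] (φ : Γ ≃* Γ') {p : ℕ} {E : Subgroup Γ}
    {x : Γ} (h : FLFree p (E.map φ.toMonoidHom) (φ x)) : FLFree p E x := by
  have key := h.map_equiv φ.symm
  rw [fl63_map_symm_map, MulEquiv.symm_apply_apply] at key
  exact key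

open Cfsg.Agent.FrakL in
/-- Pull `FLGood` back along an isomorphism. -/
theorem fl63_good_of_map {Γ Γ' : Type*} [Group Γ] [Group Γ'] (φ : Γ ≃* Γ') {E : Subgroup Γ}
    {x : Γ} (h : FLGood (E.map φ.toMonoidHom) (φ x)) : FLGood E x := by
  have key := h.map_equiv φ.symm
  rw [fl63_map_symm_map, MulEquiv.symm_apply_apply] at key
  exact key

/-- Standing hypotheses: G a finite group, S a Sylow p-subgroup, Q a nontrivial large p-subgroup of G contained in S, M a subgroup containing S with the basic property (M ∈ 𝔐_G(S)); Y_M the largest p-reduced normal subgroup of M and M† = M·C_G(Y_M). Let L ∈ 𝔏_G(Y_M) (L ∈ 𝔏_G(Y_M): Y_M ≤ L; O_p(L) is the normal closure in L of Y_M ∩ O_p(L) and normalizes Y_M; L is Y_M-minimal of characteristic p with N_L(Y_M) its unique maximal subgroup over Y_M; and L/O_p(L) ≅ SL₂(q) with q = |Y_M : Y_M ∩ O_p(L)|, or p = 2 and L/O_p(L) is a Suzuki group Sz(q) or dihedral of order 2r, r an odd prime), A = O_p(L),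 and C = C_{Y_M}(L). Then every element h of L whose order is not a power of p acts without nontrivial fixed points on A/C: for a ∈ A, hah⁻¹a⁻¹ ∈ C implies a ∈ C. -/
theorem result {G : Type*} [Group G] [Finite G] {p : ℕ} [Fact p.Prime] (S : Sylow p G) (Q : Subgroup G) (hQp : IsPGroup p ↥Q) (hQ1 : Q ≠ ⊥) (hQS : Q ≤ (S : Subgroup G)) (hQ : Cfsg.IsLarge Q) (M : Subgroup G) (hSM : (S : Subgroup G) ≤ M) (hM : Cfsg.IsInFrakM p M) (L : Subgroup G) (hL : Cfsg.IsInFrakL p M L) (h : G) (hh : h ∈ L) (hnp : ¬ ∃ k : ℕ, orderOf h = p ^ k) : ∀ a ∈ (Cfsg.pCoreOf p L), h * a * h⁻¹ * a⁻¹ ∈ (Cfsg.largestPReducedOf p M) ⊓ Subgroup.centralizer ((L : Subgroup G) : Set G) → a ∈ (Cfsg.largestPReducedOf p M) ⊓ Subgroup.centralizer ((L : Subgroup G) : Set G) := by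
  classical
  have C := Cfsg.Agent.FrakL.FLCtx.of_isInFrakL hL
  have hx := Cfsg.Agent.FrakL.flk_not_pow (p := p) (L := L) hh hnp
  have hfree : Cfsg.Agent.FrakL.FLFree p (Cfsg.Agent.FrakL.flE p L (Cfsg.largestPReducedOf p M))
      (QuotientGroup.mk' (Cfsg.pCore p ↥L) ⟨h, hh⟩) := by
    rcases Cfsg.Agent.FrakL.flk_cases hL with ⟨F, iF, iFt, iC, φ, hcard⟩ |
        ⟨hp2, F, iF, iFt, m, φ, hm, hF, hcard, hsq⟩ | ⟨hp2, hcard⟩
    · -- `SL₂(F)`
      apply fl63_free_of_map φ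
      apply Cfsg.Agent.FrakL.fl_sl2_free (p := p) _ hcard
      rw [MulEquiv.orderOf_eq]
      exact hx
    · -- `Sz(F)`, `p = 2`
      subst hp2
      apply Or.inl
      apply fl63_good_of_map φ
      apply Cfsg.Agent.FrakL.fl_sz_free m hm hF _ hcard hsq
      rw [MulEquiv.orderOf_eq]
      exact hx
    · -- `|Ē| = 2`, `p = 2`
      subst hp2
      obtain ⟨g, hgen⟩ := C.exists_gen
      exact Or.inl (Cfsg.Agent.FrakL.fl_two_free _ hcard g hgen _ hx)
  exact C.fixed_of_flFree hh hfree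

end Cfsg.Agent.S2863
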