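import Cfsg.Statements.S2864
import Cfsg.Agent.Helper6.FrakMC

set_option autoImplicit false
open Cfsg Cfsg.Agent.Helper5 Cfsg.Agent.Helper6.FrakM
open scoped commutatorElement

namespace Cfsg.Agent.S2864

/-- Standing hypotheses: G a finite group, S a Sylow p-subgroup, Q a nontrivial large p-subgroup of G contained in S, M a subgroup containing S with the basic property (M ∈ 𝔐_G(S)); Y_M the largest p-reduced normal subgroup of M and M† = M·C_G(Y_M). Let I be a nontrivial normal p-subgroup of M and Y ≤ O_p(M†); let L be a subgroup of G containing Y and A a normal p-subgroup of L with I ≤ A ≤ M. If [Y, A] ≤ [I, A], then Y ≤ O_p(L). -/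
theorem result {G : Type*} [Group G] [Finite G] {p : ℕ} [Fact p.Prime] (S : Sylow p G) (Q : Subgroup G) (hQp : IsPGroup p ↥Q) (hQ1 : Q ≠ ⊥) (hQS : Q ≤ (S : Subgroup G)) (hQ : Cfsg.IsLarge Q) (M : Subgroup G) (hSM : (S : Subgroup G) ≤ M) (hM : Cfsg.IsInFrakM p M) (I : Subgroup G) (hI1 : I ≠ ⊥) (hIp : IsPGroup p ↥I) (hIM : I ≤ M ∧ M ≤ Subgroup.normalizer ((I : Subgroup G) : Set G)) (Y : Subgroup G) (hY : Y ≤ (Cfsg.pCoreOf p (M ⊔ Subgroup.centralizer (((Cfsg.largestPReducedOf p M) : Subgroup G) : Set G)))) (L : Subgroup G) (hYL : Y ≤ L) (A : Subgroup G) (hAp : IsPGroup p ↥A) (hAL : A ≤ L ∧ L ≤ Subgroup.normalizer ((A : Subgroup G) : Set G)) (hIA : I ≤ A) (hAM : A ≤ M) (hc : ⁅Y, A⁆ ≤ ⁅I, A⁆) : Y ≤ (Cfsg.pCoreOf p L) := by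
  classical
  set Md := M ⊔ Subgroup.centralizer (((Cfsg.largestPReducedOf p M) : Subgroup G) : Set G) with hMd
  have hNI : Subgroup.normalizer (I : Set G) ≤ Md :=
    normalizer_le_dagger S Q hQp hQ1 hQ hSM hM I hI1 hIp hIM.2
  -- D = C_L(A)
  set D := L ⊓ Subgroup.centralizer (A : Set G) with hD
  have hDMd : D ≤ Md := by
    intro d hd
    apply hNI
    apply Subgroup.centralizer_le_normalizer
    exact Subgroup.centralizer_le (show (I : Set G) ⊆ A from hIA) hd.2
  have hLD : L ≤ Subgroup.normalizer (D : Set G) := by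
    intro l hl
    exact mem_normalizer_inf L _ l (Subgroup.le_normalizer hl)
      (Cfsg.Agent.Helper5.normalizer_le_normalizer_centralizer A (hAL.2 hl))
  set O := Cfsg.pCoreOf p D with hO
  have hLO : L ≤ Subgroup.normalizer (O : Set G) := hLD.trans (normalizer_le_normalizer_pCoreOf p D)
  have hLA' : L ≤ Subgroup.normalizer ((⁅A, A⁆ : Subgroup G) : Set G) :=
    Cfsg.Agent.Helper1.le_normalizer_commutator hAL.2 hAL.2
  set X := L ⊓ stabMod A ⁅A, A⁆ ⊓ stabMod D O with hX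
  have hXL : X ≤ L := inf_le_left.trans inf_le_left
  have hLX : L ≤ Subgroup.normalizer (X : Set G) := by
    intro l hl
    apply mem_normalizer_inf
    · apply mem_normalizer_inf
      · exact Subgroup.le_normalizer hl
      · exact mem_normalizer_stabMod A _ l (hLA' hl) (hAL.2 hl)
    · exact mem_normalizer_stabMod D O l (hLO hl) (hLD hl)
  have hPd : IsPGroup p ↥(Cfsg.pCoreOf p Md) := isPGroup_pCore_map_subtype p Md
  have hYp : IsPGroup p ↥Y := hPd.to_le hY
  have hMdPd : Md ≤ Subgroup.normalizer ((Cfsg.pCoreOf p Md : Subgroup G) : Set G) :=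
    le_normalizer_pCore_map_subtype p Md
  have hYX : Y ≤ X := by
    intro y hy
    have hyL : y ∈ L := hYL hy
    refine ⟨⟨hyL, hLA' hyL, hAL.2 hyL, ?_⟩, hLO hyL, hLD hyL, ?_⟩
    · intro r hr
      have h1 : ⁅r⁻¹, y⁆ ∈ ⁅A, Y⁆ := Subgroup.commutator_mem_commutator (A.inv_mem hr) hy
      rw [Subgroup.commutator_comm] at h1
      have h2 := (Subgroup.commutator_mono hIA le_rfl) (hc h1)
      rw [commutatorElement_def] at h2
      simpa [mul_assoc] using h2
    · intro r hr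
      have hrD : r⁻¹ * (y * r * y⁻¹) ∈ D :=
        D.mul_mem (D.inv_mem hr) ((Subgroup.mem_normalizer_iff.mp (hLD hyL) r).mp hr)
      have hrP : r⁻¹ * (y * r * y⁻¹) ∈ Cfsg.pCoreOf p Md := by
        have h1 : r⁻¹ * y * r⁻¹⁻¹ ∈ Cfsg.pCoreOf p Md :=
          (Subgroup.mem_normalizer_iff.mp (hMdPd (hDMd (D.inv_mem hr))) y).mp (hY hy)
        have h2 : r⁻¹ * (y * r * y⁻¹) = (r⁻¹ * y * r⁻¹⁻¹) * y⁻¹ := by group
        rw [h2]
        exact Subgroup.mul_mem _ h1 (Subgroup.inv_mem _ (hY hy))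
      have hle : D ⊓ Cfsg.pCoreOf p Md ≤ O := by
        apply le_pCore_map_subtype D _ inf_le_left (hPd.to_le inf_le_right)
        intro d hd
        exact mem_normalizer_inf D _ d (Subgroup.le_normalizer hd) (hMdPd (hDMd hd))
      exact hle ⟨hrD, hrP⟩
  apply le_pCoreOf_of_pprime_central_mod L X O Y hXL hLX (isPGroup_pCore_map_subtype p D)
    (hXL.trans hLO) _ hYX hYp
  intro x hx hxp y hy
  -- `x` centralizes `A`
  have hxA : Subgroup.zpowers x ≤ Subgroup.centralizer (A : Set G) := by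
    apply le_centralizer_of_coprime_of_commutator_le_derived (p := p) _ A hAp
    · rw [Subgroup.zpowers_le]; exact hAL.2 (hXL hx)
    · rw [Nat.card_zpowers]; exact hxp
    · rw [Subgroup.commutator_le]
      intro a ha z hz
      have hz' : z ∈ stabMod A ⁅A, A⁆ := by
        have : Subgroup.zpowers x ≤ stabMod A ⁅A, A⁆ := by
          rw [Subgroup.zpowers_le]; exact hx.1.2
        exact this hz
      have h1 := hz'.2.2 a⁻¹ (A.inv_mem ha)
      have h2 : ⁅a, z⁆ = a⁻¹⁻¹ * (z * a⁻¹ * z⁻¹) := by rw [commutatorElement_def]; group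
      rw [h2]; exact h1
  have hxD : x ∈ D := ⟨hXL hx, hxA (Subgroup.mem_zpowers x)⟩
  have h1 := hy.2.2.2 x hxD
  have h2 : x * y * x⁻¹ * y⁻¹ = x * (x⁻¹ * (y * x * y⁻¹))⁻¹ * x⁻¹ := by group
  rw [h2]
  exact (Subgroup.mem_normalizer_iff.mp (hLO (hXL hx)) _).mp (Subgroup.inv_mem _ h1)

end Cfsg.Agent.S2864
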