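import Mathlib
import Cfsg.Agent.Helper5.ExtremalTransfer
import Cfsg.Agent.Helper5.Misc
import Cfsg.Agent.Helper2.CyclicSylow2
import Cfsg.Agent.Helper1.PGroup
import Cfsg.Agent.Helper4.FrattiniQuotient
import Cfsg.Statements.S2872
-- import your own Cfsg.Agent.* helpers here

set_option autoImplicit false
open Cfsg Cfsg.Agent.Helper5

namespace Cfsg.Agent.S2872

/-- Let S be a Sylow 2-subgroup of the finite group G. Then G has a proper normal subgroup of 2-power index (O²(G) ≠ G), or Ω₁(Z(S)) is contained in the Frattini subgroup of S, or N_G(S) acts nontrivially on Ω₁(Z(S)) by conjugation. -/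
theorem result {G : Type*} [Group G] [Finite G] (S : Sylow 2 G) : Cfsg.pResidual 2 G ≠ ⊤ ∨ Cfsg.omegaOne 2 ((S : Subgroup G) ⊓ Subgroup.centralizer ((S : Subgroup G) : Set G)) ≤ (frattini ↥(S : Subgroup G)).map (S : Subgroup G).subtype ∨ ∃ g ∈ Subgroup.normalizer ((S : Subgroup G) : Set G), ∃ z ∈ Cfsg.omegaOne 2 ((S : Subgroup G) ⊓ Subgroup.centralizer ((S : Subgroup G) : Set G)), g * z * g⁻¹ ≠ z := by
  classical
  by_contra hcon
  push Not at hcon
  obtain ⟨hres, hnle, hfix⟩ := hcon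
  -- pick z in Ω₁(Z(S)) outside Φ(S)
  have hex : ∃ z : G, z ∈ (S : Subgroup G) ⊓ Subgroup.centralizer ((S : Subgroup G) : Set G) ∧ z ^ 2 = 1 ∧
      z ∉ (frattini ↥(S : Subgroup G)).map (S : Subgroup G).subtype := by
    by_contra h
    push Not at h
    apply hnle
    unfold Cfsg.omegaOne
    rw [Subgroup.closure_le]
    rintro x ⟨hx1, hx2⟩
    exact h x hx1 hx2
  obtain ⟨z, hzZ, hz2, hzΦ⟩ := hex
  have hzS : z ∈ (S : Subgroup G) := hzZ.1
  have hzΩ : z ∈ Cfsg.omegaOne 2 ((S : Subgroup G) ⊓ Subgroup.centralizer ((S : Subgroup G) : Set G)) :=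
    Subgroup.subset_closure ⟨hzZ, hz2⟩
  have hz' : (⟨z, hzS⟩ : ↥(S : Subgroup G)) ∉ frattini ↥(S : Subgroup G) := by
    intro h
    exact hzΦ ⟨⟨z, hzS⟩, h, rfl⟩
  rw [Cfsg.Agent.Helper4.mem_frattini_iff] at hz'
  push Not at hz'
  obtain ⟨M₀, hM₀, hzM₀⟩ := hz'
  have hSp : IsPGroup 2 ↥(S : Subgroup G) := S.isPGroup'
  have hM₀n : M₀.Normal := Cfsg.Agent.Helper1.IsPGroup.coatom_normal hSp hM₀
  have hM₀i : M₀.index = 2 := Cfsg.Agent.Helper1.IsPGroup.coatom_index hSp hM₀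
  set T : Subgroup G := M₀.map (S : Subgroup G).subtype with hT
  have hTS : T ≤ (S : Subgroup G) := by
    rintro _ ⟨x, -, rfl⟩; exact x.2
  have hTsub : T.subgroupOf (S : Subgroup G) = M₀ :=
    Subgroup.comap_map_eq_self_of_injective (S : Subgroup G).subtype_injective _
  have hTn : (T.subgroupOf (S : Subgroup G)).Normal := by rw [hTsub]; exact hM₀n
  have hmemT : ∀ s : ↥(S : Subgroup G), (s : G) ∈ T ↔ s ∈ M₀ := by
    intro s
    rw [← hTsub, Subgroup.mem_subgroupOf]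
  have hcard : Nat.card (↥(S : Subgroup G) ⧸ M₀) = 2 := by
    rw [← Subgroup.index_eq_card]; exact hM₀i
  have hcyc : IsCyclic (↥(S : Subgroup G) ⧸ M₀) := isCyclic_of_prime_card hcard
  letI : CommGroup (↥(S : Subgroup G) ⧸ M₀) := IsCyclic.commGroup
  let ϕ : ↥(S : Subgroup G) →* (↥(S : Subgroup G) ⧸ M₀) := QuotientGroup.mk' M₀
  have hϕ1 : ∀ s : ↥(S : Subgroup G), ϕ s = 1 ↔ (s : G) ∈ T := by
    intro s
    show (QuotientGroup.mk' M₀) s = 1 ↔ _
    rw [QuotientGroup.mk'_apply, QuotientGroup.eq_one_iff, hmemT]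
  set ε := ϕ ⟨z, hzS⟩ with hε
  have hzT : z ∉ T := fun h => hzM₀ ((hmemT ⟨z, hzS⟩).mp h)
  have hε1 : ε ≠ 1 := fun h => hzT ((hϕ1 _).mp h)
  have hε2 : ε ^ 2 = 1 := by
    rw [hε, ← map_pow]
    have : (⟨z, hzS⟩ : ↥(S : Subgroup G)) ^ 2 = 1 := by
      apply Subtype.ext; simpa using hz2
    rw [this, map_one]
  have hord : ∀ a : ↥(S : Subgroup G) ⧸ M₀, a ≠ 1 → a ^ 2 = 1 → orderOf a = 2 := by
    intro a ha1 ha2
    exact orderOf_eq_prime ha2 ha1
  have hϕy : ∀ s : ↥(S : Subgroup G), (s : G) ∉ T → (s : G) ^ 2 = 1 → ϕ s = ε := by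
    intro s hsT hs2
    have h1 : ϕ s ≠ 1 := fun h => hsT ((hϕ1 _).mp h)
    have h2 : (ϕ s) ^ 2 = 1 := by
      rw [← map_pow]
      have : s ^ 2 = 1 := by apply Subtype.ext; simpa using hs2
      rw [this, map_one]
    exact Cfsg.Agent.Helper2.eq_of_orderOf_two_of_isCyclic (hord _ h1 h2) (hord _ hε1 hε2)
  -- the transfer is trivial since G = O^2(G)
  have htr : MonoidHom.transfer ϕ z = 1 := by
    have hker : Cfsg.pResidual 2 G ≤ (MonoidHom.transfer ϕ).ker := by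
      unfold Cfsg.pResidual
      rw [Subgroup.closure_le]
      intro g hg
      rw [SetLike.mem_coe, MonoidHom.mem_ker]
      have h1 : orderOf (MonoidHom.transfer ϕ g) ∣ orderOf g := orderOf_map_dvd _ g
      have h2 : orderOf (MonoidHom.transfer ϕ g) ∣ 2 := by
        have := orderOf_dvd_natCard (MonoidHom.transfer ϕ g)
        rw [hcard] at this; exact this
      have h3 : orderOf (MonoidHom.transfer ϕ g) ∣ Nat.gcd (orderOf g) 2 := Nat.dvd_gcd h1 h2
      have hg' : Nat.gcd (orderOf g) 2 = 1 := hg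
      rw [hg', Nat.dvd_one] at h3
      exact orderOf_eq_one_iff.mp h3
    have : z ∈ (MonoidHom.transfer ϕ).ker := hker (by rw [hres]; exact Subgroup.mem_top _)
    exact MonoidHom.mem_ker.mp this
  obtain ⟨g, hgT, -, hsub⟩ := exists_extremal_conj S T hTS hTn ϕ ε hε1 hε2 z hz2
    (fun s hs => (hϕ1 s).mpr hs) hϕy htr
  -- g⁻¹ normalizes S
  have hSC : (S : Subgroup G) ⊓ Subgroup.centralizer ({z} : Set G) = (S : Subgroup G) := by
    apply le_antisymm inf_le_left
    intro x hx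
    refine ⟨hx, ?_⟩
    exact Subgroup.mem_centralizer_singleton_iff.mpr ((Subgroup.mem_centralizer_iff.mp hzZ.2) x hx)
  have hgN : g⁻¹ ∈ Subgroup.normalizer ((S : Subgroup G) : Set G) := by
    apply mem_normalizer_of_conj_mem
    intro x hx
    have := hsub x (by rw [hSC]; exact hx)
    rw [inv_inv]; exact this
  have := hfix g⁻¹ hgN z hzΩ
  rw [inv_inv] at this
  rw [this] at hgT
  exact hzT hgT

end Cfsg.Agent.S2872
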