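import Mathlib
import Cfsg.Agent.Helper5.ExtraCount
import Cfsg.Statements.S2880
-- import your own Cfsg.Agent.* helpers here

set_option autoImplicit false
open Cfsg Cfsg.Agent.Helper5

namespace Cfsg.Agent.S2880

/-- Let E be an extraspecial 2-group of order 2^(2m+1) of plus type, that is, containing an elementary abelian subgroup of order 2^(m+1) (equivalently, a central product of m dihedral groups of order 8). Then E has exactly 2^(2m) − 2^m elements of order 4. -/
theorem result {E : Type*} [Group E] [Finite E] (m : ℕ) (hm : 1 ≤ m) (hE : Cfsg.IsExtraspecial 2 E) (hcard : Nat.card E = 2 ^ (2 * m + 1)) (hplus : ∃ A : Subgroup E, Cfsg.IsElementaryAbelian 2 A ∧ Nat.card A = 2 ^ (m + 1)) : Nat.card {x : E // orderOf x = 4} = 2 ^ (2 * m) - 2 ^ m := by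
  classical
  obtain ⟨A, hA, hAc⟩ := hplus
  have hI := card_sq_eq_one m hE hcard A hA hAc
  have hZ := hE.2
  have hiff : ∀ x : E, orderOf x = 4 ↔ ¬ x ^ 2 = 1 := by
    intro x
    constructor
    · intro h4 h2
      have := orderOf_dvd_of_pow_eq_one h2
      rw [h4] at this
      have := Nat.le_of_dvd (by norm_num) this
      omega
    · intro h2
      have hx2 : x ^ 2 ∈ Subgroup.center E := extraspecial_two_sq_mem_center hE x
      have hx4 : x ^ 4 = 1 := by
        have h3 : (⟨x ^ 2, hx2⟩ : Subgroup.center E) ^ (Nat.card (Subgroup.center E)) = 1 :=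
          pow_card_eq_one'
        rw [hZ] at h3
        have h4 := congrArg Subtype.val h3
        rw [Subgroup.coe_pow, Subgroup.coe_one] at h4
        rw [show (4 : ℕ) = 2 * 2 from rfl, pow_mul]
        exact h4
      have hdvd : orderOf x ∣ 2 ^ 2 := orderOf_dvd_of_pow_eq_one (by norm_num; exact hx4)
      obtain ⟨k, hk, hok⟩ := (Nat.dvd_prime_pow Nat.prime_two).mp hdvd
      interval_cases k
      · exfalso; apply h2
        rw [pow_zero, orderOf_eq_one_iff] at hok
        rw [hok, one_pow]
      · exfalso; apply h2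
        rw [pow_one] at hok
        rw [← hok]; exact pow_orderOf_eq_one x
      · rw [hok]; norm_num
  have h1 : Nat.card {x : E // orderOf x = 4} = Nat.card {x : E // ¬ x ^ 2 = 1} :=
    Nat.card_congr (Equiv.subtypeEquivRight hiff)
  have h2 : Nat.card {x : E // ¬ x ^ 2 = 1} = Nat.card E - Nat.card {x : E // x ^ 2 = 1} := by
    have : Fintype E := Fintype.ofFinite E
    simp only [Nat.card_eq_fintype_card]
    exact Fintype.card_subtype_compl _
  rw [h1, h2, hcard, hI]
  have h3 : 2 ^ (2 * m + 1) = 2 * 2 ^ (2 * m) := by ring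
  omega

end Cfsg.Agent.S2880
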