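import Mathlib
import Cfsg.Agent.S2880
import Cfsg.Statements.S2881
-- import your own Cfsg.Agent.* helpers here

set_option autoImplicit false
open Cfsg

namespace Cfsg.Agent.S2881

/-- Let E be an extraspecial 2-group of order 2^(2m+1) of plus type (containing an elementary abelian subgroup of order 2^(m+1)), and let ω be an automorphism of E of order 5 whose fixed points are exactly the centre of E. Then m is divisible by 4. -/
theorem result {E : Type*} [Group E] [Finite E] (m : ℕ) (hm : 1 ≤ m) (hE : Cfsg.IsExtraspecial 2 E) (hcard : Nat.card E = 2 ^ (2 * m + 1)) (hplus : ∃ A : Subgroup E, Cfsg.IsElementaryAbelian 2 A ∧ Nat.card A = 2 ^ (m + 1)) (ω : E ≃* E) (hω : orderOf ω = 5) (hfix : ∀ x : E, ω x = x ↔ x ∈ Subgroup.center E) : 4 ∣ m := by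
  classical
  have hX := Cfsg.Agent.S2880.result m hm hE hcard hplus
  have hZ := hE.2
  have : Fintype E := Fintype.ofFinite E
  have hp5 : Fact (Nat.Prime 5) := ⟨by norm_num⟩
  -- the permutation of the elements of order 4 induced by ω
  let f : Function.End {x : E // orderOf x = 4} :=
    fun x => ⟨ω x.1, by rw [MulEquiv.orderOf_eq]; exact x.2⟩
  have hpow : ∀ (n : ℕ) (x : {x : E // orderOf x = 4}), ((f ^ n) x).1 = (ω ^ n) x.1 := by
    intro n
    induction n with
    | zero => intro x; rw [pow_zero, pow_zero]; rfl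
    | succ n ih =>
      intro x
      rw [pow_succ, pow_succ, MulAut.mul_apply]
      exact ih (f x)
  have hω5 : ω ^ 5 = 1 := by rw [← hω]; exact pow_orderOf_eq_one ω
  have hf5 : f ^ 5 ^ 1 = 1 := by
    rw [pow_one]
    funext x
    apply Subtype.ext
    rw [hpow 5 x, hω5]
    rfl
  have hmod := Equiv.Perm.card_fixedPoints_modEq (p := 5) (n := 1) hf5
  have hfix : IsEmpty (Function.fixedPoints f) := by
    constructor
    rintro ⟨x, hx⟩
    have h1 : ω x.1 = x.1 := congrArg Subtype.val hx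
    have h2 : x.1 ∈ Subgroup.center E := (hfix x.1).mp h1
    have h3 : (⟨x.1, h2⟩ : Subgroup.center E) ^ (Nat.card (Subgroup.center E)) = 1 :=
      pow_card_eq_one'
    rw [hZ] at h3
    have h4 := congrArg Subtype.val h3
    rw [Subgroup.coe_pow, Subgroup.coe_one] at h4
    have h5 := orderOf_dvd_of_pow_eq_one h4
    rw [x.2] at h5
    have := Nat.le_of_dvd (by norm_num) h5
    omega
  have h0 : Fintype.card (Function.fixedPoints f) = 0 := Fintype.card_eq_zero
  rw [h0] at hmod
  have hdvd : 5 ∣ Nat.card {x : E // orderOf x = 4} := by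
    rw [Nat.card_eq_fintype_card]
    exact (Nat.modEq_zero_iff_dvd).mp hmod
  rw [hX] at hdvd
  -- number theory
  have h16 : ∀ q : ℕ, 16 ^ q % 5 = 1 := by
    intro q
    induction q with
    | zero => rfl
    | succ q ih => rw [pow_succ, Nat.mul_mod, ih]
  have ht : 2 ^ m % 5 = 2 ^ (m % 4) % 5 := by
    conv_lhs => rw [← Nat.div_add_mod m 4, pow_add, pow_mul]
    rw [Nat.mul_mod, show (2 : ℕ) ^ 4 = 16 from rfl, h16, one_mul, Nat.mod_mod]
  have hle : 2 ^ m ≤ 2 ^ (2 * m) := Nat.pow_le_pow_right (by norm_num) (by omega)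
  have hmodeq : 2 ^ m ≡ 2 ^ (2 * m) [MOD 5] := (Nat.modEq_iff_dvd' hle).mpr hdvd
  have hsq : 2 ^ (2 * m) % 5 = ((2 ^ m % 5) ^ 2) % 5 := by
    rw [mul_comm, pow_mul, Nat.pow_mod]
  have hmodeq' : 2 ^ m % 5 = ((2 ^ m % 5) ^ 2) % 5 := by rw [← hsq]; exact hmodeq
  have hr : m % 4 < 4 := Nat.mod_lt _ (by norm_num)
  rw [ht] at hmodeq'
  have hr0 : m % 4 = 0 := by
    interval_cases h : m % 4
    · rfl
    · norm_num at hmodeq'
    · norm_num at hmodeq'
    · norm_num at hmodeq'
  exact Nat.dvd_of_mod_eq_zero hr0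

end Cfsg.Agent.S2881
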