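import Mathlib
import Cfsg.Agent.Helper5.CharP3
import Cfsg.Statements.S2896
-- import your own Cfsg.Agent.* helpers here

set_option autoImplicit false
open Cfsg Cfsg.Agent.Helper5 Cfsg.Agent.Helper2

namespace Cfsg.Agent.S2896

theorem centralizer_singleton_eq_zpowers {G : Type*} [Group G] (z : G) :
    Subgroup.centralizer ({z} : Set G) = Subgroup.centralizer ((Subgroup.zpowers z : Subgroup G) : Set G) := by
  apply le_antisymm
  · intro c hc
    rw [Subgroup.mem_centralizer_iff]
    intro y hy
    obtain ⟨k, rfl⟩ := Subgroup.mem_zpowers_iff.mp hy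
    have h1 : z * c = c * z := (Subgroup.mem_centralizer_iff.mp hc) z rfl
    have : Commute z c := h1
    exact (this.zpow_left k).eq
  · exact Subgroup.centralizer_le (by
      intro y hy
      rw [Set.mem_singleton_iff] at hy
      rw [hy]
      exact Subgroup.mem_zpowers z)

/-- Let p be a prime dividing the order of the finite group G, S a Sylow p-subgroup of G and X a subgroup of S. (i) If some nontrivial element z of the centre of X has F*(C_G(z)) = O_p(C_G(z)), then F*(N_G(X)) = O_p(N_G(X)). (ii) G has parabolic characteristic p if and only if F*(C_G(z)) = O_p(C_G(z)) for every nontrivial z ∈ Ω₁(Z(S)). (iii) If F*(C_G(z)) = O_p(C_G(z)) for every element z of S of order p, then G has local characteristic p. -/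
theorem result {G : Type*} [Group G] [Finite G] {p : ℕ} [Fact p.Prime] (hdiv : p ∣ Nat.card G) (S : Sylow p G) (X : Subgroup G) (hX : X ≤ (S : Subgroup G)) : (∀ z : G, z ≠ 1 → z ∈ X → (∀ x ∈ X, x * z = z * x) → Cfsg.generalizedFittingSubgroup ↥(Subgroup.centralizer ({z} : Set G)) = Cfsg.pCore p ↥(Subgroup.centralizer ({z} : Set G)) → Cfsg.generalizedFittingSubgroup ↥(Subgroup.normalizer (X : Set G)) = Cfsg.pCore p ↥(Subgroup.normalizer (X : Set G))) ∧ (Cfsg.IsOfParabolicCharacteristic p G ↔ ∀ z : G, z ≠ 1 → z ∈ Cfsg.omegaOne p ((S : Subgroup G) ⊓ Subgroup.centralizer ((S : Subgroup G) : Set G)) → Cfsg.generalizedFittingSubgroup ↥(Subgroup.centralizer ({z} : Set G)) = Cfsg.pCore p ↥(Subgroup.centralizer ({z} : Set G))) ∧ ((∀ z : G, z ∈ (S : Subgroup G) → orderOf z = p → Cfsg.generalizedFittingSubgroup ↥(Subgroup.centralizer ({z} : Set G)) = Cfsg.pCore p ↥(Subgroup.centralizer ({z} : Set G))) → Cfsg.IsOfLocalCharacteristic p G) := by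
  classical
  have hp : p.Prime := Fact.out
  refine ⟨?_, ?_, ?_⟩
  · intro z _ hzX hzc hz
    rw [generalizedFittingSubgroup_eq_pCore_iff] at hz ⊢
    exact (hasCharP_of_central_elt X (S.isPGroup'.to_le hX) z hzX hzc hz).2
  · constructor
    · intro hG z hz1 hz
      rw [generalizedFittingSubgroup_eq_pCore_iff]
      have hzZ : z ∈ (S : Subgroup G) ⊓ Subgroup.centralizer ((S : Subgroup G) : Set G) := by
        have hle : Cfsg.omegaOne p ((S : Subgroup G) ⊓ Subgroup.centralizer ((S : Subgroup G) : Set G)) ≤
            (S : Subgroup G) ⊓ Subgroup.centralizer ((S : Subgroup G) : Set G) := by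
          unfold Cfsg.omegaOne
          rw [Subgroup.closure_le]
          intro x hx
          exact hx.1
        exact hle hz
      have hRp : IsPGroup p ↥(Subgroup.zpowers z) := S.isPGroup'.to_le (by
        rw [Subgroup.zpowers_le]; exact hzZ.1)
      have hR1 : Subgroup.zpowers z ≠ ⊥ := by
        intro h
        apply hz1
        rw [Subgroup.zpowers_eq_bot] at h
        exact h
      have hSC : (S : Subgroup G) ≤ Subgroup.centralizer ((Subgroup.zpowers z : Subgroup G) : Set G) := by
        rw [← centralizer_singleton_eq_zpowers]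
        intro s hs
        rw [Subgroup.mem_centralizer_iff]
        intro y hy
        rw [Set.mem_singleton_iff] at hy
        rw [hy]
        exact ((Subgroup.mem_centralizer_iff.mp hzZ.2) s hs).symm
      have hpar : Cfsg.IsParabolic p (Subgroup.normalizer ((Subgroup.zpowers z : Subgroup G) : Set G)) :=
        ⟨S, le_trans hSC (Subgroup.centralizer_le_normalizer _)⟩
      have hN : HasCharP p ↥(Subgroup.normalizer ((Subgroup.zpowers z : Subgroup G) : Set G)) :=
        hG _ hRp hR1 hpar
      rw [centralizer_singleton_eq_zpowers]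
      exact hasCharP_of_le_normalizer _ _ (Subgroup.centralizer_le_normalizer _)
        (normalizer_le_normalizer_centralizer _) hN
    · intro h
      apply isOfParabolicCharacteristic_of_centralizers S
      intro z hz1 hzS hzc hzp
      rw [← generalizedFittingSubgroup_eq_pCore_iff]
      apply h z hz1
      unfold Cfsg.omegaOne
      apply Subgroup.subset_closure
      refine ⟨⟨hzS, ?_⟩, hzp⟩
      show z ∈ Subgroup.centralizer ((S : Subgroup G) : Set G)
      rw [Subgroup.mem_centralizer_iff]
      intro s hs
      exact hzc s hs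
  · intro h
    refine ⟨hdiv, ?_⟩
    intro T hT hT1
    obtain ⟨z, hzT, hzo, hzc⟩ := exists_orderOf_eq_prime_central T T hT le_rfl hT1 Subgroup.le_normalizer
    obtain ⟨k, hk⟩ := Cfsg.Agent.Helper5.exists_conj_le_sylow S T hT
    have hz'S : k * z * k⁻¹ ∈ (S : Subgroup G) := hk z hzT
    have hz'o : orderOf (k * z * k⁻¹) = p := by
      have := MulEquiv.orderOf_eq (MulAut.conj k) z
      rw [MulAut.conj_apply] at this
      rw [this, hzo]
    have h1 := h _ hz'S hz'o
    rw [generalizedFittingSubgroup_eq_pCore_iff] at h1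
    have h2 := hasCharP_centralizer_conj (k * z * k⁻¹) k⁻¹ h1
    have e : k⁻¹ * (k * z * k⁻¹) * k⁻¹⁻¹ = z := by group
    rw [e] at h2
    exact (hasCharP_of_central_elt T hT z hzT hzc h2).2

end Cfsg.Agent.S2896
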