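import Mathlib
import Cfsg.Agent.Helper5.Basic
import Cfsg.Agent.Helper5.Misc
import Cfsg.Agent.Helper5.Cores
import Cfsg.Agent.Helper5.PPrimeCore
import Cfsg.Agent.Helper5.PGroupCenter
import Cfsg.Agent.S2009
import Cfsg.Statements.S2898
-- import your own Cfsg.Agent.* helpers here

set_option autoImplicit false
open Cfsg Cfsg.Agent.Helper5

namespace Cfsg.Agent.S2898

theorem eq_one_of_pow_two_pow_of_odd {H : Type*} [Group H] (x : H) (j m : ℕ) (hm : Odd m)
    (h1 : x ^ (2 ^ j) = 1) (h2 : x ^ m = 1) : x = 1 := by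
  have hc : Nat.Coprime (2 ^ j) m := by
    apply Nat.Coprime.pow_left
    rw [Nat.coprime_two_left]; exact hm
  have := pow_gcd_eq_one.mpr ⟨h1, h2⟩
  rw [hc, pow_one] at this
  exact this

/-- Let G be a finite group of even order with parabolic characteristic 2. If the centre of G ⧸ O(G) is trivial, then O(G) = 1. -/
theorem result {G : Type*} [Group G] [Finite G] (h2 : 2 ∣ Nat.card G) (hG : Cfsg.IsOfParabolicCharacteristic 2 G) [hN : (Cfsg.oddCore G).Normal] (hZ : Subgroup.center (G ⧸ Cfsg.oddCore G) = ⊥) : Cfsg.oddCore G = ⊥ := by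
  classical
  set K := Cfsg.oddCore G with hK
  have hKodd : Odd (Nat.card K) := by
    have := coprime_card_pPrimeCore (G := G) 2
    rw [Nat.coprime_two_right] at this
    exact this
  have hKpow : ∀ k ∈ K, k ^ Nat.card K = 1 := by
    intro k hk
    have := pow_card_eq_one' (G := ↥K) (x := ⟨k, hk⟩)
    exact congrArg Subtype.val this
  obtain ⟨S⟩ := (inferInstance : Nonempty (Sylow 2 G))
  -- Step A
  have stepA : ∀ z : G, orderOf z = 2 → (∀ s ∈ (S : Subgroup G), s * z = z * s) →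
      ∀ k ∈ K, z * k = k * z → k = 1 := by
    intro z hz hzS k hk hzk
    set R := Subgroup.zpowers z with hR
    have hRp : IsPGroup 2 ↥R := by
      apply IsPGroup.of_card (n := 1)
      rw [Nat.card_zpowers, hz, pow_one]
    have hR1 : R ≠ ⊥ := by
      intro h
      have : z ∈ R := Subgroup.mem_zpowers z
      rw [h, Subgroup.mem_bot] at this
      rw [this, orderOf_one] at hz
      norm_num at hz
    have hcomm_norm : ∀ x : G, x * z = z * x → x ∈ Subgroup.normalizer (R : Set G) := by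
      intro x hx
      apply mem_normalizer_of_conj_mem
      intro h hh
      have hzc : z ∈ Subgroup.centralizer ({x} : Set G) := Subgroup.mem_centralizer_singleton_iff.mpr hx.symm
      have hhc : h ∈ Subgroup.centralizer ({x} : Set G) := (Subgroup.zpowers_le.mpr hzc) hh
      have hhx : h * x = x * h := Subgroup.mem_centralizer_singleton_iff.mp hhc
      have : x * h * x⁻¹ = h := by rw [← hhx]; group
      rw [this]; exact hh
    have hpar : Cfsg.IsParabolic 2 (Subgroup.normalizer (R : Set G)) :=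
      ⟨S, fun s hs => hcomm_norm s (hzS s hs)⟩
    have hchar := hG R hRp hR1 hpar
    set N := Subgroup.normalizer (R : Set G) with hN'
    have hkN : k ∈ N := hcomm_norm k hzk.symm
    have hKN : (K.subgroupOf N).Normal := inferInstance
    have hOn : (Cfsg.pCore 2 ↥N).Normal := by
      unfold Cfsg.pCore
      exact Subgroup.sSup_normal _ (fun H hH => hH.1)
    have hOp : IsPGroup 2 ↥(Cfsg.pCore 2 ↥N) := isPGroup_pCore 2
    -- elements in both are trivial
    have hboth : ∀ x : ↥N, x ∈ K.subgroupOf N → x ∈ Cfsg.pCore 2 ↥N → x = 1 := by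
      intro x hx1 hx2
      obtain ⟨j, hj⟩ := hOp ⟨x, hx2⟩
      have hj' : x ^ (2 ^ j) = 1 := by
        have := congrArg Subtype.val hj
        simpa using this
      have hm : x ^ Nat.card K = 1 := by
        apply Subtype.ext
        rw [Subgroup.coe_pow, Subgroup.coe_one]
        exact hKpow _ (Subgroup.mem_subgroupOf.mp hx1)
      exact eq_one_of_pow_two_pow_of_odd x j _ hKodd hj' hm
    have hk' : (⟨k, hkN⟩ : ↥N) ∈ K.subgroupOf N := Subgroup.mem_subgroupOf.mpr hk
    have hcent : (⟨k, hkN⟩ : ↥N) ∈ Subgroup.centralizer (Cfsg.pCore 2 ↥N : Set ↥N) := by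
      rw [Subgroup.mem_centralizer_iff]
      intro o ho
      have h1 : (⟨k, hkN⟩ : ↥N) * o * (⟨k, hkN⟩ : ↥N)⁻¹ * o⁻¹ ∈ K.subgroupOf N := by
        have := hKN.conj_mem _ ((K.subgroupOf N).inv_mem hk') o
        have h2 := (K.subgroupOf N).mul_mem hk' this
        have e : (⟨k, hkN⟩ : ↥N) * (o * (⟨k, hkN⟩ : ↥N)⁻¹ * o⁻¹) = (⟨k, hkN⟩ : ↥N) * o * (⟨k, hkN⟩ : ↥N)⁻¹ * o⁻¹ := by group
        rw [e] at h2; exact h2
      have h3 : (⟨k, hkN⟩ : ↥N) * o * (⟨k, hkN⟩ : ↥N)⁻¹ * o⁻¹ ∈ Cfsg.pCore 2 ↥N := by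
        have := hOn.conj_mem o ho (⟨k, hkN⟩ : ↥N)
        exact (Cfsg.pCore 2 ↥N).mul_mem this ((Cfsg.pCore 2 ↥N).inv_mem ho)
      have h4 := hboth _ h1 h3
      calc o * (⟨k, hkN⟩ : ↥N) = ((⟨k, hkN⟩ : ↥N) * o * (⟨k, hkN⟩ : ↥N)⁻¹ * o⁻¹)⁻¹ * ((⟨k, hkN⟩ : ↥N) * o) := by group
        _ = (⟨k, hkN⟩ : ↥N) * o := by rw [h4]; group
    have := hboth _ hk' (hchar hcent)
    exact congrArg Subtype.val this
  -- Step B: such a z inverts K
  have stepB : ∀ z : G, orderOf z = 2 → (∀ s ∈ (S : Subgroup G), s * z = z * s) →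
      ∀ k ∈ K, z * k * z⁻¹ = k⁻¹ := by
    intro z hz hzS
    have hzz : z * z = 1 := by rw [← pow_two, ← hz]; exact pow_orderOf_eq_one z
    apply Cfsg.Agent.S2009.inverts_of_fpf K z hzz
    intro n hn hfix
    apply stepA z hz hzS n hn
    calc z * n = z * n * z⁻¹ * z := by group
      _ = n * z := by rw [hfix]
  -- S is nontrivial
  have hS1 : (S : Subgroup G) ≠ ⊥ := by
    intro h
    have hc := S.card_eq_multiplicity
    rw [h, Subgroup.card_bot] at hc
    have hpos : 0 < (Nat.card G).factorization 2 :=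
      Nat.Prime.factorization_pos_of_dvd Nat.prime_two Nat.card_pos.ne' h2
    have : 1 < 2 ^ (Nat.card G).factorization 2 := Nat.one_lt_two_pow hpos.ne'
    omega
  set C := Subgroup.centralizer (K : Set G) with hC
  have hCn : C.Normal := inferInstance
  by_cases hCS : C ⊓ (S : Subgroup G) = ⊥
  · -- C has odd order, so C ≤ K
    exfalso
    have hCodd : (Nat.card C).Coprime 2 := by
      rw [Nat.coprime_two_right, ← Nat.not_even_iff_odd, even_iff_two_dvd]
      intro hdvd
      obtain ⟨c, hc⟩ := exists_prime_orderOf_dvd_card' (G := ↥C) 2 hdvd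
      have hcp : IsPGroup 2 ↥(Subgroup.zpowers (c : G)) := by
        apply IsPGroup.of_card (n := 1)
        rw [Nat.card_zpowers, Subgroup.orderOf_coe, hc, pow_one]
      obtain ⟨g, hg⟩ := exists_conj_le_sylow S _ hcp
      have h1 := hg (c : G) (Subgroup.mem_zpowers _)
      have h2 : g * (c : G) * g⁻¹ ∈ C := hCn.conj_mem _ c.2 g
      have h3 : g * (c : G) * g⁻¹ ∈ C ⊓ (S : Subgroup G) := ⟨h2, h1⟩
      rw [hCS, Subgroup.mem_bot] at h3
      have h4 : (c : G) = 1 := by
        have : (c : G) = g⁻¹ * (g * (c : G) * g⁻¹) * g := by group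
        rw [this, h3]; group
      have h5 : c = 1 := Subtype.ext h4
      rw [h5, orderOf_one] at hc
      norm_num at hc
    have hCK : C ≤ K := le_pPrimeCore hCn hCodd
    obtain ⟨z, hzS', hz, hzc⟩ := exists_orderOf_eq_prime_central (p := 2) (S : Subgroup G) (S : Subgroup G)
      S.isPGroup' le_rfl hS1 Subgroup.le_normalizer
    have hinv := stepB z hz hzc
    have hzz : z * z = 1 := by rw [← pow_two, ← hz]; exact pow_orderOf_eq_one z
    have hzinv : z⁻¹ = z := inv_eq_of_mul_eq_one_right hzz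
    have hcenter : ((z : G) : G ⧸ K) ∈ Subgroup.center (G ⧸ K) := by
      rw [Subgroup.mem_center_iff]
      intro g
      obtain ⟨g, rfl⟩ := QuotientGroup.mk_surjective g
      rw [← QuotientGroup.mk_mul, ← QuotientGroup.mk_mul, QuotientGroup.eq]
      apply hCK
      rw [hC, Subgroup.mem_centralizer_iff]
      intro k hk
      have hgk : g * k * g⁻¹ ∈ K := hN.conj_mem k hk g
      have h1 := hinv _ hgk
      have h2 := hinv k hk
      -- (g z)⁻¹ (z g) = z⁻¹... compute
      have e1 : (g * z)⁻¹ * (z * g) * k * ((g * z)⁻¹ * (z * g))⁻¹ =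
          z⁻¹ * (g⁻¹ * (z * (g * k * g⁻¹) * z⁻¹) * g) * z := by group
      have e2 : z⁻¹ * (g⁻¹ * (g * k * g⁻¹)⁻¹ * g) * z = z * k⁻¹ * z⁻¹ := by
        rw [hzinv]; group
      have e3 : z * k⁻¹ * z⁻¹ = k := by
        have := hinv k⁻¹ (K.inv_mem hk)
        rw [this, inv_inv]
      have h3 : (g * z)⁻¹ * (z * g) * k * ((g * z)⁻¹ * (z * g))⁻¹ = k := by
        rw [e1, h1, e2, e3]
      calc k * ((g * z)⁻¹ * (z * g)) = ((g * z)⁻¹ * (z * g) * k * ((g * z)⁻¹ * (z * g))⁻¹) * ((g * z)⁻¹ * (z * g)) := by rw [h3]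
        _ = (g * z)⁻¹ * (z * g) * k := by group
    rw [hZ, Subgroup.mem_bot, QuotientGroup.eq_one_iff] at hcenter
    have := hKpow z hcenter
    have h2' : orderOf z ∣ Nat.card K := orderOf_dvd_of_pow_eq_one this
    rw [hz] at h2'
    exact (Nat.not_even_iff_odd.mpr hKodd) (even_iff_two_dvd.mpr h2')
  · -- an involution of Z(S) centralizing K
    have hQS : C ⊓ (S : Subgroup G) ≤ (S : Subgroup G) := inf_le_right
    have hnorm : (S : Subgroup G) ≤ Subgroup.normalizer ((C ⊓ (S : Subgroup G) : Subgroup G) : Set G) := by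
      intro s hs
      apply mem_normalizer_of_conj_mem
      intro x hx
      exact ⟨hCn.conj_mem x hx.1 s, (S : Subgroup G).mul_mem ((S : Subgroup G).mul_mem hs hx.2) ((S : Subgroup G).inv_mem hs)⟩
    obtain ⟨x, hxQ, hx2, hxc⟩ := exists_orderOf_eq_prime_central (p := 2) (S : Subgroup G) (C ⊓ (S : Subgroup G))
      S.isPGroup' hQS hCS hnorm
    rw [eq_bot_iff]
    intro k hk
    rw [Subgroup.mem_bot]
    apply stepA x hx2 hxc k hk
    exact ((Subgroup.mem_centralizer_iff.mp hxQ.1) k hk).symm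

end Cfsg.Agent.S2898
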