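import Mathlib
import Cfsg.Agent.Helper5.PMinimal4
import Cfsg.Agent.Helper5.PMinimal2
import Cfsg.Agent.Helper5.PPrimeCore
import Cfsg.Agent.Helper2.PComp4
import Cfsg.Agent.Helper2.Layer8
import Cfsg.Agent.Helper2.SubnormalP
import Cfsg.Agent.Helper1.Coprime
import Cfsg.Statements.S2906
-- import your own Cfsg.Agent.* helpers here

set_option autoImplicit false
open Cfsg Cfsg.Agent.Helper5 Cfsg.Agent.Helper1 Cfsg.Agent.Helper2
open scoped commutatorElement

namespace Cfsg.Agent.S2906

/-- A component of a `p`-minimal group with `O_p = 1` not contained in `M` has order divisible by `p`. -/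
theorem component_dvd_card {P : Type*} [Group P] [Finite P] {p : ℕ} [Fact p.Prime]
    (hP : Cfsg.IsPMinimal p P) (S : Sylow p P) (M : Subgroup P) (hM : IsCoatom M)
    (hSM : (S : Subgroup P) ≤ M) (K : Subgroup P) (hK : Cfsg.IsComponent K) (hKM : ¬ K ≤ M) :
    p ∣ Nat.card ↥K := by
  classical
  have hp : p.Prime := Fact.out
  by_contra hnd
  have hcop : (Nat.card ↥K).Coprime p := (hp.coprime_iff_not_dvd.mpr hnd).symm
  have hKO : K ≤ Cfsg.pPrimeCore p P := le_pPrimeCore_of_subnormal K hK.1 hcop
  set R := Cfsg.pResidual p P with hR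
  have hKR : K ≤ R := (component_le_layer hK).trans (layer_le_pResidual p)
  rcases pMinimal_normal_dichotomy hP S M hM hSM (Cfsg.pPrimeCore p P) inferInstance with h | h
  · have hRcop : (Nat.card ↥R).Coprime p :=
      Nat.Coprime.coprime_dvd_left (Subgroup.card_dvd_of_le h) (coprime_card_pPrimeCore p)
    have h2 : ∀ T : Sylow p ↥R, (T : Subgroup ↥R).Normal := by
      intro T
      have hT : (T : Subgroup ↥R) = ⊥ := by
        apply Subgroup.eq_bot_of_card_eq
        obtain ⟨n, hn⟩ := IsPGroup.iff_card.mp T.2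
        have h3 : Nat.card (T : Subgroup ↥R) ∣ Nat.card ↥R := Subgroup.card_subgroup_dvd_card _
        have h4 : (Nat.card (T : Subgroup ↥R)).Coprime p := Nat.Coprime.coprime_dvd_left h3 hRcop
        rw [hn] at h4 ⊢
        rcases Nat.eq_zero_or_pos n with h0 | h0
        · rw [h0, pow_zero]
        · exfalso
          have : p ∣ Nat.gcd (p ^ n) p := Nat.dvd_gcd (dvd_pow_self p h0.ne') dvd_rfl
          rw [Nat.Coprime] at h4
          rw [h4] at this
          exact hp.one_lt.ne' (Nat.dvd_one.mp this)
      rw [hT]; infer_instance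
    have h3 := pMinimal_primeFactors_card_le_two hP S M hM hSM h2
    have hS1 : (S : Subgroup P) ≠ ⊥ := by
      intro hbot
      apply (hP S).1
      rw [hbot]; infer_instance
    have hpP : p ∣ Nat.card P := by
      obtain ⟨n, hn⟩ := IsPGroup.iff_card.mp S.2
      have hn0 : n ≠ 0 := by
        intro h0
        apply hS1
        apply Subgroup.eq_bot_of_card_eq
        rw [hn, h0, pow_zero]
      have : p ∣ Nat.card (S : Subgroup P) := by rw [hn]; exact dvd_pow_self p hn0
      exact this.trans (Subgroup.card_subgroup_dvd_card _)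
    have hsub : (Nat.card ↥R).primeFactors ⊆ (Nat.card P).primeFactors.erase p := by
      intro q hq
      rw [Nat.mem_primeFactors] at hq
      rw [Finset.mem_erase, Nat.mem_primeFactors]
      refine ⟨?_, hq.1, hq.2.1.trans (Subgroup.card_subgroup_dvd_card _), Nat.card_pos.ne'⟩
      intro hqp
      rw [hqp] at hq
      exact (hp.coprime_iff_not_dvd.mp hRcop.symm) hq.2.1
    have hle : (Nat.card ↥R).primeFactors.card ≤ 1 := by
      have h5 := Finset.card_le_card hsub
      have h6 : p ∈ (Nat.card P).primeFactors := by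
        rw [Nat.mem_primeFactors]; exact ⟨hp, hpP, Nat.card_pos.ne'⟩
      rw [Finset.card_erase_of_mem h6] at h5
      omega
    have hR1 : Nat.card ↥R ≠ 1 := by
      intro h1
      have hRbot : R = ⊥ := Subgroup.eq_bot_of_card_eq R h1
      rw [hRbot] at hKR
      exact component_ne_bot hK (eq_bot_iff.mpr hKR)
    have hcard1 : (Nat.card ↥R).primeFactors.card = 1 := by
      apply le_antisymm hle
      rw [Nat.succ_le_iff, Finset.card_pos, Nat.nonempty_primeFactors]
      have : 0 < Nat.card ↥R := Nat.card_pos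
      omega
    obtain ⟨q, k, hq, hk, hqk⟩ := isPrimePow_iff_card_primeFactors_eq_one.mpr hcard1
    have hq' : Fact q.Prime := ⟨Nat.prime_iff.mpr hq⟩
    have hRq : IsPGroup q ↥R := IsPGroup.of_card hqk.symm
    have hRnil : Group.IsNilpotent ↥R := hRq.isNilpotent
    have hKnil : Group.IsNilpotent ↥K := isNilpotent_of_le hKR hRnil
    exact component_not_solvable hK inferInstance
  · exact hKM (hKO.trans (h.trans (Subgroup.normalCore_le M)))

/-- Let P be a finite p-minimal group with O_p(P) = 1, S a Sylow p-subgroup of P and K a component of P. Then O^p(P) = F*(P) = E(P) is generated by the S-conjugates of K, and the subgroup K·N_S(K) is again p-minimal. -/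
theorem result {P : Type*} [Group P] [Finite P] {p : ℕ} [Fact p.Prime] (hP : Cfsg.IsPMinimal p P) (hOp : Cfsg.pCore p P = ⊥) (S : Sylow p P) (K : Subgroup P) (hK : Cfsg.IsComponent K) : Cfsg.pResidual p P = Cfsg.generalizedFittingSubgroup P ∧ Cfsg.generalizedFittingSubgroup P = Cfsg.layer P ∧ Cfsg.layer P = ⨆ s : ↥(S : Subgroup P), K.map (MulAut.conj (s : P)).toMonoidHom ∧ Cfsg.IsPMinimal p ↥(K ⊔ ((S : Subgroup P) ⊓ Subgroup.normalizer (K : Set P))) := by
  classical
  have hp : p.Prime := Fact.out
  obtain ⟨hSn, M, ⟨hM, hSM⟩, hMuniq⟩ := hP S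
  set F := M.normalCore with hF
  set L := conjJoin (S : Subgroup P) K with hL
  have hLiSup : (⨆ s : ↥(S : Subgroup P), K.map (MulAut.conj (s : P)).toMonoidHom) = L := by
    apply le_antisymm
    · apply iSup_le; intro s; exact le_sSup ⟨s.1, s.2, rfl⟩
    · apply sSup_le; rintro U ⟨s, hs, rfl⟩
      exact le_iSup (fun s : ↥(S : Subgroup P) => K.map (MulAut.conj (s : P)).toMonoidHom) ⟨s, hs⟩
  have hLsn : L.IsSubnormal := conjJoin_isSubnormal _ K hK.1
  have hSL : (S : Subgroup P) ≤ Subgroup.normalizer (L : Set P) := le_normalizer_conjJoin _ K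
  have hKL : K ≤ L := le_conjJoin _ K
  have hLE : L ≤ Cfsg.layer P := by
    apply sSup_le; rintro U ⟨s, hs, rfl⟩
    exact component_le_layer (isComponent_map_equiv (MulAut.conj s) hK)
  have hKM : ¬ K ≤ M := by
    intro hKM
    have hLM : L ≤ M := conjJoin_le _ K M hSM hKM
    have hLF : L ≤ F := pMinimal_le_normalCore hP S M hM hSM L hLsn hSL hLM
    have hFnil : Group.IsNilpotent ↥F := pMinimal_normalCore_isNilpotent hP hOp S M hM hSM
    have hKnil : Group.IsNilpotent ↥K := isNilpotent_of_le (hKL.trans hLF) hFnil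
    exact component_not_solvable hK inferInstance
  have hLS : L ⊔ (S : Subgroup P) = ⊤ := by
    by_contra hne
    have := pMinimal_le_of_sylow_le hP S M hM hSM _ le_sup_right hne
    exact hKM (hKL.trans (le_sup_left.trans this))
  have hLn : L.Normal := by
    rw [← Subgroup.normalizer_eq_top_iff, eq_top_iff, ← hLS]
    exact sup_le Subgroup.le_normalizer hSL
  have hRL : Cfsg.pResidual p P ≤ L := pResidual_le_of_sup_sylow_eq_top S L hLS
  have hER : Cfsg.layer P ≤ Cfsg.pResidual p P := layer_le_pResidual p
  have hEL : Cfsg.layer P = L := le_antisymm (hER.trans hRL) hLE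
  have hRE : Cfsg.pResidual p P = Cfsg.layer P := le_antisymm (hRL.trans hLE) hER
  have hFstar : Cfsg.generalizedFittingSubgroup P = Cfsg.layer P := by
    unfold Cfsg.generalizedFittingSubgroup
    apply le_antisymm
    · exact sup_le le_rfl ((fitting_le_pResidual hOp).trans (le_of_eq hRE))
    · exact le_sup_left
  refine ⟨hRE.trans hFstar.symm, hFstar, hEL.trans hLiSup.symm, ?_⟩
  -- Part 4
  set NK := Subgroup.normalizer (K : Set P) with hNK
  set SK := (S : Subgroup P) ⊓ NK with hSK
  set PK := K ⊔ SK with hPK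
  have hSKN : SK ≤ NK := inf_le_right
  have hSKS : SK ≤ (S : Subgroup P) := inf_le_left
  have hKPK : K ≤ PK := le_sup_left
  have hSKPK : SK ≤ PK := le_sup_right
  have hKS : K ⊓ SK = K ⊓ (S : Subgroup P) := by
    apply le_antisymm
    · exact inf_le_inf_left _ hSKS
    · intro x hx
      exact ⟨hx.1, hx.2, Subgroup.le_normalizer hx.1⟩
  obtain ⟨Q, hQ⟩ := sylow_inf_subnormal p K hK.1 S
  have hpK : p ∣ Nat.card ↥K := component_dvd_card hP S M hM hSM K hK hKM
  have hSK'p : IsPGroup p ↥(SK.subgroupOf PK) :=
    (S.2.to_le hSKS).comap_of_injective PK.subtype PK.subtype_injective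
  have hidx : ¬ p ∣ (SK.subgroupOf PK).index := by
    have h1 := card_sup_mul_card_inf_of_le_normalizer K SK hSKN
    rw [hKS] at h1
    have h2 : Nat.card (SK.subgroupOf PK) * (SK.subgroupOf PK).index = Nat.card PK :=
      Subgroup.card_mul_index _
    have h3 : Nat.card (SK.subgroupOf PK) = Nat.card SK :=
      Nat.card_congr (Subgroup.subgroupOfEquivOfLe hSKPK).toEquiv
    have h4 : Nat.card (Q : Subgroup K) * (Q : Subgroup K).index = Nat.card K :=
      Subgroup.card_mul_index _
    have h5 : Nat.card (Q : Subgroup K) = Nat.card ↥(K ⊓ (S : Subgroup P)) := by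
      rw [hQ, ← Subgroup.card_map_of_injective K.subtype_injective,
        Subgroup.subgroupOf_map_subtype, inf_comm]
    have h6 : (SK.subgroupOf PK).index = (Q : Subgroup K).index := by
      have h7 : Nat.card SK * ((SK.subgroupOf PK).index * Nat.card ↥(K ⊓ (S : Subgroup P))) =
          Nat.card SK * ((Q : Subgroup K).index * Nat.card ↥(K ⊓ (S : Subgroup P))) := by
        rw [← mul_assoc, ← h3, h2, h1, ← h4, h5, h3]; ring
      have h8 := Nat.eq_of_mul_eq_mul_left Nat.card_pos h7
      exact Nat.eq_of_mul_eq_mul_right Nat.card_pos h8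
    rw [h6]; exact Q.not_dvd_index
  let T : Sylow p ↥PK := hSK'p.toSylow hidx
  have hT : (T : Subgroup ↥PK) = SK.subgroupOf PK := IsPGroup.toSylow_coe _ _
  have hTn : ¬ (T : Subgroup ↥PK).Normal := by
    intro hn
    rw [hT] at hn
    have hPKN : PK ≤ Subgroup.normalizer (SK : Set P) :=
      (Subgroup.normal_subgroupOf_iff_le_normalizer hSKPK).mp hn
    have hQn : (Q : Subgroup K).Normal := by
      rw [hQ]
      constructor
      intro x hx k
      rw [Subgroup.mem_subgroupOf] at hx ⊢
      have hxSK : (x : P) ∈ SK := ⟨hx, Subgroup.le_normalizer x.2⟩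
      have := (Subgroup.mem_normalizer_iff.mp (hPKN (hKPK k.2)) (x : P)).mp hxSK
      have h9 := hSKS this
      simpa using h9
    have hDsn : ((Q : Subgroup K).map K.subtype).IsSubnormal :=
      Subgroup.IsSubnormal.trans' hQn.isSubnormal hK.1
    have hDp : IsPGroup p ↥((Q : Subgroup K).map K.subtype) := Q.2.map _
    have hD := isSubnormal_pGroup_le_pCore hDsn hDp
    rw [hOp] at hD
    have hQbot : (Q : Subgroup K) = ⊥ := by
      rw [eq_bot_iff]; intro x hx
      have : (x : P) ∈ (⊥ : Subgroup P) := hD ⟨x, hx, rfl⟩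
      rw [Subgroup.mem_bot] at this ⊢; exact Subtype.ext this
    exact Q.ne_bot_of_dvd_card hpK hQbot
  set MK := (M ⊓ K) ⊔ SK with hMK
  have hMKM : MK ≤ M := sup_le inf_le_left (hSKS.trans hSM)
  have hMKPK : MK ≤ PK := sup_le (inf_le_right.trans hKPK) hSKPK
  have hSKMK : SK ≤ MK := le_sup_right
  have hMKne : ¬ PK ≤ MK := by
    intro h; apply hKM; exact hKPK.trans (h.trans hMKM)
  set C := Subgroup.centralizer (K : Set P) with hC
  have key : ∀ X : Subgroup P, SK ≤ X → X ≤ PK → X ≠ PK → X ≤ MK := by
    intro X hSKX hXPK hXne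
    set Y := X ⊓ K with hY
    have hXY : X ≤ Y ⊔ SK := by
      intro x hx
      obtain ⟨k, hk, s, hs, rfl⟩ := mem_sup_of_le_normalizer hSKN (hXPK hx)
      have hkX : k ∈ X := by
        have : k = (k * s) * s⁻¹ := by group
        rw [this]; exact X.mul_mem hx (X.inv_mem (hSKX hs))
      exact Subgroup.mul_mem _ (Subgroup.mem_sup_left ⟨hkX, hk⟩) (Subgroup.mem_sup_right hs)
    have hYK : ¬ K ≤ Y := by
      intro h
      apply hXne
      apply le_antisymm hXPK
      exact sup_le (h.trans inf_le_left) hSKX
    have hSKY : SK ≤ Subgroup.normalizer (Y : Set P) :=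
      le_normalizer_inf (hSKX.trans Subgroup.le_normalizer) hSKN
    have hCY : C ≤ Subgroup.normalizer (Y : Set P) := by
      intro c hc
      rw [Subgroup.mem_normalizer_iff]
      intro y
      have hcomm : ∀ k ∈ K, c * k * c⁻¹ = k := by
        intro k hk
        have := Subgroup.mem_centralizer_iff.mp hc k hk
        rw [← this]; group
      constructor
      · intro hy
        rw [hcomm y hy.2]; exact hy
      · intro hy
        have h1 : c * y * c⁻¹ ∈ K := hy.2
        have h2 : y = c⁻¹ * (c * y * c⁻¹) * c := by group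
        have h3 : c⁻¹ * (c * y * c⁻¹) * c = c * y * c⁻¹ := by
          have h4 := hcomm (c * y * c⁻¹) h1
          have h5 : c⁻¹ * (c * y * c⁻¹) * c = c⁻¹ * (c * (c * y * c⁻¹) * c⁻¹) * c := by rw [h4]
          rw [h5]; group
        rw [h2, h3]; exact hy
    set Yh := conjJoin (S : Subgroup P) Y with hYh
    have hYYh : Y ≤ Yh := le_conjJoin _ Y
    have hSYh : (S : Subgroup P) ≤ Subgroup.normalizer (Yh : Set P) := le_normalizer_conjJoin _ Y
    have hYhM : Yh ≤ M := by
      have hne : Yh ⊔ (S : Subgroup P) ≠ ⊤ := by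
        intro htop
        have hYhn : Yh.Normal := by
          rw [← Subgroup.normalizer_eq_top_iff, eq_top_iff, ← htop]
          exact sup_le Subgroup.le_normalizer hSYh
        rcases pMinimal_normal_dichotomy hP S M hM hSM Yh hYhn with h | h
        · have hKYh : K ≤ Yh := by
            have : L ≤ Yh := by rw [← hEL, ← hRE]; exact h
            exact hKL.trans this
          have hYhYC : Yh ≤ Y ⊔ C := by
            apply sSup_le
            rintro U ⟨s, hs, rfl⟩
            by_cases hsN : s ∈ NK
            · refine le_trans ?_ le_sup_left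
              rintro _ ⟨y, hy, rfl⟩
              have := (Subgroup.mem_normalizer_iff.mp (hSKY ⟨hs, hsN⟩) y).mp hy
              simpa using this
            · refine le_trans ?_ le_sup_right
              have hKs : Cfsg.IsComponent (K.map (MulAut.conj s).toMonoidHom) :=
                isComponent_map_equiv (MulAut.conj s) hK
              have hne : K.map (MulAut.conj s).toMonoidHom ≠ K := by
                intro heq
                apply hsN
                rw [hNK, Subgroup.mem_normalizer_iff]
                intro h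
                constructor
                · intro hh
                  rw [← heq]; exact conj_mem_map_conj K s h hh
                · intro hh
                  rw [← heq, mem_map_conj_iff] at hh
                  have e : s⁻¹ * (s * h * s⁻¹) * s = h := by group
                  rwa [e] at hh
              have hcomm := components_commute hKs hK hne
              rw [Subgroup.commutator_eq_bot_iff_le_centralizer] at hcomm
              exact (Subgroup.map_mono inf_le_right).trans hcomm
          have hKY : K ≤ Y := by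
            rw [← component_perfect hK, Subgroup.commutator_le]
            intro a ha b hb
            obtain ⟨y1, hy1, c1, hc1, rfl⟩ := mem_sup_of_le_normalizer hCY (hYhYC (hKYh ha))
            obtain ⟨y2, hy2, c2, hc2, rfl⟩ := mem_sup_of_le_normalizer hCY (hYhYC (hKYh hb))
            have e1 : c1 * (y2 * c2) * c1⁻¹ = y2 * c2 := by
              have := Subgroup.mem_centralizer_iff.mp hc1 (y2 * c2) hb
              rw [← this]; group
            have e2 : c2 * y1⁻¹ * c2⁻¹ = y1⁻¹ := by
              have := Subgroup.mem_centralizer_iff.mp hc2 y1⁻¹ (K.inv_mem hy1.2)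
              rw [← this]; group
            have e3 : ⁅y1 * c1, y2 * c2⁆ = ⁅y1, y2⁆ := by
              rw [commutatorElement_def, commutatorElement_def]
              have s1 : y1 * c1 * (y2 * c2) * (y1 * c1)⁻¹ * (y2 * c2)⁻¹ =
                  y1 * (c1 * (y2 * c2) * c1⁻¹) * y1⁻¹ * (y2 * c2)⁻¹ := by group
              rw [s1, e1]
              have s2 : y1 * (y2 * c2) * y1⁻¹ * (y2 * c2)⁻¹ =
                  y1 * y2 * (c2 * y1⁻¹ * c2⁻¹) * y2⁻¹ := by group
              rw [s2, e2]
            rw [e3, commutatorElement_def]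
            exact Y.mul_mem (Y.mul_mem (Y.mul_mem hy1 hy2) (Y.inv_mem hy1)) (Y.inv_mem hy2)
          exact hYK hKY
        · apply hM.1
          rw [eq_top_iff, ← htop]
          exact sup_le (h.trans (Subgroup.normalCore_le M)) hSM
      exact (le_sup_left).trans (pMinimal_le_of_sylow_le hP S M hM hSM _ le_sup_right hne)
    have hYM : Y ≤ M ⊓ K := le_inf (hYYh.trans hYhM) inf_le_right
    exact hXY.trans (sup_le_sup_right hYM SK)
  have lift : ∀ X' : Subgroup ↥PK, SK.subgroupOf PK ≤ X' → X' ≠ ⊤ → X' ≤ MK.subgroupOf PK := by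
    intro X' hSX' hX'ne
    have h1 : SK ≤ X'.map PK.subtype := by
      intro s hs
      exact ⟨⟨s, hSKPK hs⟩, hSX' (by rw [Subgroup.mem_subgroupOf]; exact hs), rfl⟩
    have h2 : X'.map PK.subtype ≤ PK := Subgroup.map_subtype_le _
    have h3 : X'.map PK.subtype ≠ PK := by
      intro heq
      apply hX'ne
      rw [eq_top_iff]
      intro z _
      have hz : (z : P) ∈ X'.map PK.subtype := by rw [heq]; exact z.2
      obtain ⟨w, hw, hwz⟩ := hz
      have : w = z := Subtype.ext hwz
      rw [← this]; exact hw
    have h4 := key _ h1 h2 h3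
    intro x hx
    rw [Subgroup.mem_subgroupOf]
    exact h4 ⟨x, hx, rfl⟩
  have hMK'ne : MK.subgroupOf PK ≠ ⊤ := by
    intro h
    rw [Subgroup.subgroupOf_eq_top] at h
    exact hMKne h
  have hSKMK' : SK.subgroupOf PK ≤ MK.subgroupOf PK := by
    intro x hx
    rw [Subgroup.mem_subgroupOf] at hx ⊢
    exact hSKMK hx
  apply isPMinimal_of_sylow T hTn
  refine ⟨MK.subgroupOf PK, ⟨⟨hMK'ne, ?_⟩, ?_⟩, ?_⟩
  · intro X' hlt
    by_contra hne
    have := lift X' (hSKMK'.trans hlt.le) hne
    exact absurd this (not_le_of_gt hlt)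
  · rw [hT]; exact hSKMK'
  · rintro M'' ⟨hM'', hTM''⟩
    rw [hT] at hTM''
    have h1 := lift M'' hTM'' hM''.1
    rcases hM''.le_iff.mp h1 with h | h
    · exact absurd h hMK'ne
    · exact h.symm

end Cfsg.Agent.S2906
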