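import Mathlib
import Cfsg.Statements.S2907
-- import your own Cfsg.Agent.* helpers here

set_option autoImplicit false
open Cfsg

namespace Cfsg.Agent.S2907

/-- Let X be a finite semi-extraspecial p-group and x an element of X outside the centre. Then the index of C_X(x) in X equals the order of Z(X), and the commutators [x, y], y ∈ X, form exactly the centre Z(X). -/
theorem result {X : Type*} [Group X] [Finite X] {p : ℕ} [Fact p.Prime] (hX : Cfsg.IsSemiExtraspecial p X) (x : X) (hx : x ∉ Subgroup.center X) : (Subgroup.centralizer ({x} : Set X)).index = Nat.card ↥(Subgroup.center X) ∧ {z : X | ∃ y : X, z = x * y * x⁻¹ * y⁻¹} = (Subgroup.center X : Set X) := by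
  obtain ⟨⟨hp, hfr, hcomm⟩, hse⟩ := hX
  set Z := Subgroup.center X with hZ
  have hcz : ∀ y : X, x * y * x⁻¹ * y⁻¹ ∈ Z := by
    intro y
    rw [← hcomm, commutator_def]
    have := Subgroup.commutator_mem_commutator (Subgroup.mem_top x) (Subgroup.mem_top y)
    rwa [commutatorElement_def] at this
  let φ : X →* X := MonoidHom.mk' (fun y => x * y * x⁻¹ * y⁻¹) (by
    intro a b
    have hb := hcz b
    rw [hZ, Subgroup.mem_center_iff] at hb
    calc x * (a * b) * x⁻¹ * (a * b)⁻¹ = x * a * x⁻¹ * ((x * b * x⁻¹ * b⁻¹) * a⁻¹) := by group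
      _ = x * a * x⁻¹ * (a⁻¹ * (x * b * x⁻¹ * b⁻¹)) := by rw [hb a⁻¹]
      _ = (x * a * x⁻¹ * a⁻¹) * (x * b * x⁻¹ * b⁻¹) := by group)
  have hφ : ∀ y, φ y = x * y * x⁻¹ * y⁻¹ := fun y => rfl
  have hker : φ.ker = Subgroup.centralizer {x} := by
    ext y
    rw [MonoidHom.mem_ker, Subgroup.mem_centralizer_singleton_iff, hφ]
    constructor
    · intro h
      calc y * x = (x * y * x⁻¹ * y⁻¹)⁻¹ * (x * y) := by group
        _ = x * y := by rw [h, inv_one, one_mul]
    · intro h
      calc x * y * x⁻¹ * y⁻¹ = (x * y) * x⁻¹ * y⁻¹ := by group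
        _ = (y * x) * x⁻¹ * y⁻¹ := by rw [h]
        _ = 1 := by group
  have hrZ : φ.range ≤ Z := by
    rintro _ ⟨y, rfl⟩; exact hcz y
  have hrange : φ.range = Z := by
    by_contra hne
    have hI : φ.range.subgroupOf Z ≠ ⊤ := by
      intro h
      rw [Subgroup.subgroupOf_eq_top] at h
      exact hne (le_antisymm hrZ h)
    rcases eq_top_or_exists_le_coatom (φ.range.subgroupOf Z) with h | ⟨M, hM, hIM⟩
    · exact hI h
    · set Y := M.map Z.subtype with hY
      have hYZ : Y ≤ Z := by
        rintro _ ⟨y, -, rfl⟩; exact y.2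
      have hYM : Y.subgroupOf Z = M := by
        rw [hY]
        exact Subgroup.comap_map_eq_self_of_injective (Subgroup.subtype_injective _) M
      obtain ⟨hYn, hYes⟩ := hse Y hYZ (by rw [hYM]; exact hM)
      have hcc : commutator (X ⧸ Y) = Subgroup.center (X ⧸ Y) := hYes.1.2.2
      have hrY : ∀ y : X, x * y * x⁻¹ * y⁻¹ ∈ Y := by
        intro y
        have h1 : (⟨x * y * x⁻¹ * y⁻¹, hcz y⟩ : Z) ∈ φ.range.subgroupOf Z := by
          rw [Subgroup.mem_subgroupOf]; exact ⟨y, rfl⟩
        exact ⟨_, hIM h1, rfl⟩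
      have hxc : (QuotientGroup.mk' Y) x ∈ Subgroup.center (X ⧸ Y) := by
        rw [Subgroup.mem_center_iff]
        intro yb
        obtain ⟨y, rfl⟩ := QuotientGroup.mk'_surjective Y yb
        have h2 : (QuotientGroup.mk' Y) (x * y * x⁻¹ * y⁻¹) = 1 := by
          rw [QuotientGroup.mk'_apply, QuotientGroup.eq_one_iff]; exact hrY y
        rw [map_mul, map_mul, map_mul, map_inv, map_inv] at h2
        calc (QuotientGroup.mk' Y) y * (QuotientGroup.mk' Y) x
            = ((QuotientGroup.mk' Y) x * (QuotientGroup.mk' Y) y * ((QuotientGroup.mk' Y) x)⁻¹ * ((QuotientGroup.mk' Y) y)⁻¹)⁻¹ * ((QuotientGroup.mk' Y) x * (QuotientGroup.mk' Y) y) := by group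
          _ = (QuotientGroup.mk' Y) x * (QuotientGroup.mk' Y) y := by rw [h2, inv_one, one_mul]
      rw [← hcc, commutator_def] at hxc
      have htop : (⊤ : Subgroup X).map (QuotientGroup.mk' Y) = ⊤ := by
        rw [← MonoidHom.range_eq_map, MonoidHom.range_eq_top]; exact QuotientGroup.mk'_surjective Y
      rw [← htop, ← Subgroup.map_commutator, ← commutator_def, hcomm] at hxc
      obtain ⟨z, hz, hzx⟩ := hxc
      rw [QuotientGroup.mk'_apply, QuotientGroup.mk'_apply, QuotientGroup.eq] at hzx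
      apply hx
      have : x = z * (z⁻¹ * x) := by group
      rw [this]
      exact Z.mul_mem hz (hYZ hzx)
  refine ⟨?_, ?_⟩
  · rw [← hker, Subgroup.index_ker, hrange]
  · ext z
    constructor
    · rintro ⟨y, rfl⟩; exact hcz y
    · intro hz
      have hz' : z ∈ φ.range := by rw [hrange]; exact hz
      obtain ⟨y, hy⟩ := hz'
      exact ⟨y, hy.symm⟩

end Cfsg.Agent.S2907
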