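import Mathlib
import Cfsg.Agent.Helper1.Coprime
import Cfsg.Agent.Helper1.PQLemma
import Cfsg.Statements.S2908
-- import your own Cfsg.Agent.* helpers here

set_option autoImplicit false
open Cfsg

namespace Cfsg.Agent.S2908

open scoped commutatorElement

theorem eq_bot_of_le_commutator {G : Type*} [Group G] [Finite G] {p : ℕ} [Fact p.Prime] {R H : Subgroup G}
    (hRH : R ≤ H) (hH : IsPGroup p ↥H) (h : R ≤ ⁅R, H⁆) : R = ⊥ := by
  have hnil : Group.IsNilpotent ↥H := hH.isNilpotent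
  obtain ⟨n, hn⟩ := (Subgroup.isNilpotent_iff_lowerCentralSeries H).mp hnil
  have hle : ∀ k, R ≤ H.lowerCentralSeries k := by
    intro k
    induction k with
    | zero => exact hRH
    | succ k ih =>
      rw [Subgroup.lowerCentralSeries_succ]
      exact le_trans h (Subgroup.commutator_mono ih le_rfl)
  rw [eq_bot_iff, ← hn]
  exact hle n

theorem le_normalizer_sup {G : Type*} [Group G] {B P A : Subgroup G}
    (h1 : B ≤ Subgroup.normalizer (P : Set G)) (h2 : B ≤ Subgroup.normalizer (A : Set G)) :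
    B ≤ Subgroup.normalizer ((P ⊔ A : Subgroup G) : Set G) := by
  intro b hb
  apply Cfsg.Agent.Helper1.mem_normalizer_of_conj_smul_eq
  rw [Subgroup.smul_sup, Cfsg.Agent.Helper1.conj_smul_eq_of_mem_normalizer (h1 hb),
    Cfsg.Agent.Helper1.conj_smul_eq_of_mem_normalizer (h2 hb)]

/-- Let P be a p-subgroup of a finite group, normalized by a p-subgroup A and by a subgroup B of order prime to p that commutes elementwise with A. If [P, B] ≤ [P, A], then B centralizes P. -/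
theorem result {G : Type*} [Group G] [Finite G] {p : ℕ} [Fact p.Prime] (P A B : Subgroup G) (hP : IsPGroup p ↥P) (hA : IsPGroup p ↥A) (hB : ¬ p ∣ Nat.card ↥B) (hnA : A ≤ Subgroup.normalizer (P : Set G)) (hnB : B ≤ Subgroup.normalizer (P : Set G)) (hAB : ⁅A, B⁆ = ⊥) (hcomm : ⁅P, B⁆ ≤ ⁅P, A⁆) : ⁅P, B⁆ = ⊥ := by
  have hpp : p.Prime := Fact.out
  have hcop : (Nat.card ↥B).Coprime (Nat.card ↥P) := by
    obtain ⟨k, hk⟩ := IsPGroup.iff_card.mp hP
    rw [hk]
    exact Nat.Coprime.pow_right _ ((Nat.Prime.coprime_iff_not_dvd hpp).mpr hB).symm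
  have hPsolv : Group.IsSolvable ↥P := by
    have : Group.IsNilpotent ↥P := hP.isNilpotent
    infer_instance
  have hAcB : A ≤ Subgroup.centralizer (B : Set G) := Subgroup.commutator_eq_bot_iff_le_centralizer.mp hAB
  have hBcA : B ≤ Subgroup.centralizer (A : Set G) := by
    rw [Subgroup.commutator_comm] at hAB
    exact Subgroup.commutator_eq_bot_iff_le_centralizer.mp hAB
  have hAnB : A ≤ Subgroup.normalizer (B : Set G) := hAcB.trans (Subgroup.centralizer_le_normalizer _)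
  have hBnA : B ≤ Subgroup.normalizer (A : Set G) := hBcA.trans (Subgroup.centralizer_le_normalizer _)
  have hRP : ⁅P, B⁆ ≤ P := Subgroup.le_normalizer_iff_commutator_le_left.1 hnB
  have hRR : ⁅⁅P, B⁆, B⁆ = ⁅P, B⁆ := Cfsg.Agent.Helper1.coprime_commutator_commutator B P hnB hcop (Or.inr hPsolv)
  have hdec : ⁅P, B⁆ ⊔ (P ⊓ Subgroup.centralizer (B : Set G)) = P :=
    Cfsg.Agent.Helper1.coprime_commutator_sup_centralizer B P hnB hcop (Or.inr hPsolv)
  have hH : IsPGroup p ↥(P ⊔ A) := IsPGroup.to_sup_of_normal_left' hP hA hnA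
  have hPR : P ≤ Subgroup.normalizer ((⁅P, B⁆ : Subgroup G) : Set G) := Subgroup.normalizer_commutator_ge_left P B
  have hBR : B ≤ Subgroup.normalizer ((⁅P, B⁆ : Subgroup G) : Set G) := Subgroup.normalizer_commutator_ge_right P B
  have hAR : A ≤ Subgroup.normalizer ((⁅P, B⁆ : Subgroup G) : Set G) :=
    Cfsg.Agent.Helper1.le_normalizer_commutator hnA hAnB
  have hHR : P ⊔ A ≤ Subgroup.normalizer ((⁅P, B⁆ : Subgroup G) : Set G) := sup_le hPR hAR
  have hBH : B ≤ Subgroup.normalizer ((P ⊔ A : Subgroup G) : Set G) := le_normalizer_sup hnB hBnA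
  have hTR : ⁅⁅P, B⁆, P ⊔ A⁆ ≤ ⁅P, B⁆ := Subgroup.le_normalizer_iff_commutator_le_left.1 hHR
  have hBT : B ≤ Subgroup.normalizer ((⁅⁅P, B⁆, P ⊔ A⁆ : Subgroup G) : Set G) :=
    Cfsg.Agent.Helper1.le_normalizer_commutator hBR hBH
  have hHT : P ⊔ A ≤ Subgroup.normalizer ((⁅⁅P, B⁆, P ⊔ A⁆ : Subgroup G) : Set G) :=
    Subgroup.normalizer_commutator_ge_right _ _
  have hCP : P ⊓ Subgroup.centralizer (B : Set G) ≤ P := inf_le_left
  have hCT : P ⊓ Subgroup.centralizer (B : Set G) ≤ Subgroup.normalizer ((⁅⁅P, B⁆, P ⊔ A⁆ : Subgroup G) : Set G) :=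
    hCP.trans (le_sup_left.trans hHT)
  have hCR : P ⊓ Subgroup.centralizer (B : Set G) ≤ Subgroup.normalizer ((⁅P, B⁆ : Subgroup G) : Set G) :=
    hCP.trans hPR
  -- Key 1
  have key1 : ⁅P, A⁆ ≤ ⁅⁅P, B⁆, P ⊔ A⁆ ⊔ (P ⊓ Subgroup.centralizer (B : Set G)) := by
    rw [Subgroup.commutator_le]
    intro x hx a ha
    rw [← hdec] at hx
    obtain ⟨r, hr, c, hc, rfl⟩ := Cfsg.Agent.Helper1.mem_sup_of_le_normalizer hCR hx
    rw [commutatorElement_mul_left_eq_conj_mul]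
    have hcaP : ⁅c, a⁆ ∈ P := by
      have h1 : ⁅P, A⁆ ≤ P := Subgroup.le_normalizer_iff_commutator_le_left.1 hnA
      exact h1 (Subgroup.commutator_mem_commutator hc.1 ha)
    have hcaC : ⁅c, a⁆ ∈ Subgroup.centralizer (B : Set G) := by
      rw [commutatorElement_def]
      exact Subgroup.mul_mem _ (Subgroup.mul_mem _ (Subgroup.mul_mem _ hc.2 (hAcB ha))
        (Subgroup.inv_mem _ hc.2)) (Subgroup.inv_mem _ (hAcB ha))
    have h1 : r * ⁅c, a⁆ * r⁻¹ = ⁅r, ⁅c, a⁆⁆ * ⁅c, a⁆ := by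
      rw [commutatorElement_def r]
      group
    rw [h1]
    have h2 : ⁅r, ⁅c, a⁆⁆ ∈ ⁅⁅P, B⁆, P ⊔ A⁆ :=
      Subgroup.commutator_mem_commutator hr (Subgroup.mem_sup_left hcaP)
    have h3 : ⁅r, a⁆ ∈ ⁅⁅P, B⁆, P ⊔ A⁆ :=
      Subgroup.commutator_mem_commutator hr (Subgroup.mem_sup_right ha)
    exact Subgroup.mul_mem _ (Subgroup.mul_mem _ (Subgroup.mem_sup_left h2) (Subgroup.mem_sup_right ⟨hcaP, hcaC⟩))
      (Subgroup.mem_sup_left h3)
  have hRD : ⁅P, B⁆ ≤ ⁅⁅P, B⁆, P ⊔ A⁆ ⊔ (P ⊓ Subgroup.centralizer (B : Set G)) := hcomm.trans key1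
  -- Key 2
  have key2 : ⁅P, B⁆ ≤ ⁅⁅P, B⁆, P ⊔ A⁆ := by
    conv_lhs => rw [← hRR]
    rw [Subgroup.commutator_le]
    intro r hr b hb
    obtain ⟨t, ht, c, hc, rfl⟩ := Cfsg.Agent.Helper1.mem_sup_of_le_normalizer hCT (hRD hr)
    rw [commutatorElement_mul_left_eq_conj_mul]
    have hcb : ⁅c, b⁆ = 1 := by
      rw [commutatorElement_eq_one_iff_mul_comm]
      exact ((Subgroup.mem_centralizer_iff.mp hc.2) b hb).symm
    rw [hcb, mul_one, mul_inv_cancel, one_mul, commutatorElement_def]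
    have h1 : b * t⁻¹ * b⁻¹ ∈ ⁅⁅P, B⁆, P ⊔ A⁆ :=
      (Subgroup.mem_normalizer_iff.mp (hBT hb) t⁻¹).mp (Subgroup.inv_mem _ ht)
    have h2 : t * b * t⁻¹ * b⁻¹ = t * (b * t⁻¹ * b⁻¹) := by group
    rw [h2]
    exact Subgroup.mul_mem _ ht h1
  exact eq_bot_of_le_commutator (hRP.trans le_sup_left) hH key2

end Cfsg.Agent.S2908
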