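import Mathlib
import Cfsg.Agent.Helper1.Coprime
import Cfsg.Agent.Helper1.PQLemma
import Cfsg.Agent.Helper4.ThreeSubgroups
import Cfsg.Agent.Helper5.AxB
import Cfsg.Agent.Helper5.CharP2
import Cfsg.Agent.S0058
import Cfsg.Agent.S2908
import Cfsg.Statements.S2909
-- import your own Cfsg.Agent.* helpers here

set_option autoImplicit false
open Cfsg

namespace Cfsg.Agent.S2909

open scoped commutatorElement

theorem le_normalizer_of_normal {G : Type*} [Group G] (E : Subgroup G) [hE : E.Normal] (X : Subgroup G) :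
    X ≤ Subgroup.normalizer (E : Set G) := by
  intro x _
  rw [Subgroup.mem_normalizer_iff]
  intro h
  constructor
  · intro hh
    exact hE.conj_mem h hh x
  · intro hh
    have := hE.conj_mem _ hh x⁻¹
    simpa [mul_assoc] using this

theorem centralizer_zpowers_eq {G : Type*} [Group G] (u : G) :
    Subgroup.centralizer ((Subgroup.zpowers u : Subgroup G) : Set G) = Subgroup.centralizer ({u} : Set G) := by
  apply le_antisymm
  · apply Subgroup.centralizer_le
    intro x hx
    rw [Set.mem_singleton_iff] at hx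
    rw [hx]
    exact Subgroup.mem_zpowers u
  · intro c hc
    rw [Subgroup.mem_centralizer_singleton_iff] at hc
    rw [Subgroup.mem_centralizer_iff]
    rintro h ⟨k, rfl⟩
    have hcu : Commute u c := hc.symm
    exact (hcu.zpow_left k).eq

theorem commutator_le_normal_iff {G : Type*} [Group G] (N : Subgroup G) [N.Normal] (X U : Subgroup G) :
    ⁅X, U⁆ ≤ N ↔ X ≤ (Subgroup.centralizer ((U.map (QuotientGroup.mk' N) : Subgroup (G ⧸ N)) : Set (G ⧸ N))).comap
      (QuotientGroup.mk' N) := by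
  rw [Cfsg.Agent.Helper4.le_normal_iff_map_mk_eq_bot, Subgroup.map_commutator,
    Subgroup.commutator_eq_bot_iff_le_centralizer, Subgroup.map_le_iff_le_comap]

/-- The main step: for `u ∈ U` nontrivial, `[C_R(u), U]` centralizes `E`. -/
theorem step {G : Type*} [Group G] [Finite G] {p : ℕ} [Fact p.Prime] (E : Subgroup G) [E.Normal]
    (hE : IsPGroup p ↥E) (U : Subgroup G) (hU : Cfsg.IsElementaryAbelian p U)
    (R : Subgroup G) (hR : ¬ p ∣ Nat.card ↥R) (hRU : U ≤ Subgroup.normalizer (R : Set G))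
    (u : G) (hu : u ∈ U)
    (hcond : E ⊓ Subgroup.centralizer (U : Set G) = E ⊓ Subgroup.centralizer ({u} : Set G) ∨
      ⁅E, U⁆ = ⁅E, Subgroup.zpowers u⁆) :
    ⁅R ⊓ Subgroup.centralizer ({u} : Set G), U⁆ ≤ Subgroup.centralizer (E : Set G) := by
  have hpp : p.Prime := Fact.out
  have hUc : IsMulCommutative ↥U := hU.1
  have hUp : IsPGroup p ↥U := by
    intro g
    refine ⟨1, ?_⟩
    apply Subtype.ext
    simpa using hU.2 g g.2
  have hZU : Subgroup.zpowers u ≤ U := Subgroup.zpowers_le.mpr hu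
  have hZp : IsPGroup p ↥(Subgroup.zpowers u) := hUp.to_le hZU
  have hUcu : U ≤ Subgroup.centralizer ({u} : Set G) := by
    intro w hw
    rw [Subgroup.mem_centralizer_singleton_iff]
    exact setLike_mul_comm hw hu
  have hUnY : U ≤ Subgroup.normalizer ((R ⊓ Subgroup.centralizer ({u} : Set G) : Subgroup G) : Set G) :=
    Cfsg.Agent.Helper1.le_normalizer_inf hRU (hUcu.trans Subgroup.le_normalizer)
  have hBY : ⁅R ⊓ Subgroup.centralizer ({u} : Set G), U⁆ ≤ R ⊓ Subgroup.centralizer ({u} : Set G) :=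
    Subgroup.le_normalizer_iff_commutator_le_left.1 hUnY
  have hBR : ⁅R ⊓ Subgroup.centralizer ({u} : Set G), U⁆ ≤ R := hBY.trans inf_le_left
  have hBcu : ⁅R ⊓ Subgroup.centralizer ({u} : Set G), U⁆ ≤ Subgroup.centralizer ({u} : Set G) := hBY.trans inf_le_right
  have hBp : ¬ p ∣ Nat.card ↥(⁅R ⊓ Subgroup.centralizer ({u} : Set G), U⁆ : Subgroup G) := by
    intro h
    exact hR (h.trans (Subgroup.card_dvd_of_le hBR))
  have hYnE : R ⊓ Subgroup.centralizer ({u} : Set G) ≤ Subgroup.normalizer (E : Set G) := le_normalizer_of_normal E _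
  have hYcu : R ⊓ Subgroup.centralizer ({u} : Set G) ≤ Subgroup.centralizer ({u} : Set G) := inf_le_right
  rcases hcond with hc1 | hc2
  · -- Case 1: Thompson A × B
    have hXU : E ⊓ Subgroup.centralizer ({u} : Set G) ≤ Subgroup.centralizer (U : Set G) := by
      rw [← hc1]; exact inf_le_right
    have hUX : U ≤ Subgroup.centralizer ((E ⊓ Subgroup.centralizer ({u} : Set G) : Subgroup G) : Set G) :=
      Subgroup.le_centralizer_iff.mp hXU
    have hXUbot : ⁅E ⊓ Subgroup.centralizer ({u} : Set G), U⁆ = ⊥ :=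
      Subgroup.commutator_eq_bot_iff_le_centralizer.mpr hXU
    have hUXbot : ⁅U, E ⊓ Subgroup.centralizer ({u} : Set G)⁆ = ⊥ :=
      Subgroup.commutator_eq_bot_iff_le_centralizer.mpr hUX
    have hYnX : R ⊓ Subgroup.centralizer ({u} : Set G) ≤
        Subgroup.normalizer ((E ⊓ Subgroup.centralizer ({u} : Set G) : Subgroup G) : Set G) :=
      Cfsg.Agent.Helper1.le_normalizer_inf hYnE (hYcu.trans Subgroup.le_normalizer)
    have h1 : ⁅⁅U, E ⊓ Subgroup.centralizer ({u} : Set G)⁆, R ⊓ Subgroup.centralizer ({u} : Set G)⁆ = ⊥ := by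
      rw [hUXbot, Subgroup.commutator_bot_left]
    have h2 : ⁅⁅E ⊓ Subgroup.centralizer ({u} : Set G), R ⊓ Subgroup.centralizer ({u} : Set G)⁆, U⁆ = ⊥ := by
      rw [eq_bot_iff, ← hXUbot]
      exact Subgroup.commutator_mono (Subgroup.le_normalizer_iff_commutator_le_left.1 hYnX) le_rfl
    have h3 := Subgroup.commutator_commutator_eq_bot_of_rotate h1 h2
    have hBX : ⁅R ⊓ Subgroup.centralizer ({u} : Set G), U⁆ ≤
        Subgroup.centralizer ((E ⊓ Subgroup.centralizer ({u} : Set G) : Subgroup G) : Set G) :=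
      Subgroup.commutator_eq_bot_iff_le_centralizer.mp h3
    intro c hc
    have hcord : (orderOf c).Coprime p := by
      have hd : orderOf c ∣ Nat.card ↥R := (Subgroup.orderOf_dvd_natCard _ hc).trans (Subgroup.card_dvd_of_le hBR)
      exact Nat.Coprime.coprime_dvd_left hd ((Nat.Prime.coprime_iff_not_dvd hpp).mpr hR).symm
    have hcZ : c ∈ Subgroup.centralizer ((Subgroup.zpowers u : Subgroup G) : Set G) := by
      rw [centralizer_zpowers_eq]; exact hBcu hc
    have hmain := Cfsg.Agent.Helper5.thompson_AxB (Subgroup.zpowers u) hZp c hcord hcZ E hE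
      (le_normalizer_of_normal E ⊤ (Subgroup.mem_top c)) (le_normalizer_of_normal E _)
      (by
        intro r hr hrZ
        rw [centralizer_zpowers_eq] at hrZ
        exact ((Subgroup.mem_centralizer_iff.mp (hBX hc)) r ⟨hr, hrZ⟩).symm)
    rw [Subgroup.mem_centralizer_iff]
    intro r hr
    exact (hmain r hr).symm
  · -- Case 2: the dual statement S2908
    have hZnE : Subgroup.zpowers u ≤ Subgroup.normalizer (E : Set G) := le_normalizer_of_normal E _
    have hUnE : U ≤ Subgroup.normalizer (E : Set G) := le_normalizer_of_normal E _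
    have hYnZ : R ⊓ Subgroup.centralizer ({u} : Set G) ≤ Subgroup.normalizer ((Subgroup.zpowers u : Subgroup G) : Set G) := by
      have : R ⊓ Subgroup.centralizer ({u} : Set G) ≤ Subgroup.centralizer ((Subgroup.zpowers u : Subgroup G) : Set G) := by
        rw [centralizer_zpowers_eq]; exact inf_le_right
      exact this.trans (Subgroup.centralizer_le_normalizer _)
    have hYnN : R ⊓ Subgroup.centralizer ({u} : Set G) ≤ Subgroup.normalizer ((⁅E, U⁆ : Subgroup G) : Set G) := by
      rw [hc2]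
      exact Cfsg.Agent.Helper1.le_normalizer_commutator hYnE hYnZ
    have hUS : U ≤ Cfsg.Agent.Helper5.stabMod E ⁅E, U⁆ := by
      intro w hw
      refine ⟨Subgroup.normalizer_commutator_ge_right E U hw, hUnE hw, ?_⟩
      intro e he
      have : e⁻¹ * (w * e * w⁻¹) = ⁅e⁻¹, w⁆ := by
        rw [commutatorElement_def]; group
      rw [this]
      exact Subgroup.commutator_mem_commutator (E.inv_mem he) hw
    have hBS : ⁅R ⊓ Subgroup.centralizer ({u} : Set G), U⁆ ≤ Cfsg.Agent.Helper5.stabMod E ⁅E, U⁆ := by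
      rw [Subgroup.commutator_le]
      intro y hy w hw
      have hyS := Cfsg.Agent.Helper5.mem_normalizer_stabMod E ⁅E, U⁆ y (hYnN hy) (hYnE hy)
      have h1 : y * w * y⁻¹ ∈ Cfsg.Agent.Helper5.stabMod E ⁅E, U⁆ :=
        (Subgroup.mem_normalizer_iff.mp hyS w).mp (hUS hw)
      rw [commutatorElement_def]
      exact Subgroup.mul_mem _ h1 (Subgroup.inv_mem _ (hUS hw))
    have hcomm : ⁅E, ⁅R ⊓ Subgroup.centralizer ({u} : Set G), U⁆⁆ ≤ ⁅E, Subgroup.zpowers u⁆ := by
      rw [← hc2, Subgroup.commutator_le]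
      intro e he b hb
      have h1 := (hBS hb).2.2 e⁻¹ (E.inv_mem he)
      have : ⁅e, b⁆ = e⁻¹⁻¹ * (b * e⁻¹ * b⁻¹) := by
        rw [commutatorElement_def]; group
      rw [this]
      exact h1
    have hAB : ⁅Subgroup.zpowers u, ⁅R ⊓ Subgroup.centralizer ({u} : Set G), U⁆⁆ = ⊥ := by
      rw [Subgroup.commutator_comm, Subgroup.commutator_eq_bot_iff_le_centralizer, centralizer_zpowers_eq]
      exact hBcu
    have hres := Cfsg.Agent.S2908.result E (Subgroup.zpowers u) ⁅R ⊓ Subgroup.centralizer ({u} : Set G), U⁆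
      hE hZp hBp hZnE (le_normalizer_of_normal E _) hAB hcomm
    rw [Subgroup.commutator_comm] at hres
    exact Subgroup.commutator_eq_bot_iff_le_centralizer.mp hres

/-- Let p be a prime, E a normal p-subgroup of the finite group G, and U a non-cyclic elementary abelian p-subgroup of G such that either C_E(U) = C_E(u) for every nontrivial u ∈ U, or [E, U] = [E, ⟨u⟩] for every nontrivial u ∈ U. If R is a subgroup of order prime to p normalized by U, then [R, U] centralizes E. -/
theorem result {G : Type*} [Group G] [Finite G] {p : ℕ} [Fact p.Prime] (E : Subgroup G) [E.Normal] (hE : IsPGroup p ↥E) (U : Subgroup G) (hU : Cfsg.IsElementaryAbelian p U) (hnc : ¬ IsCyclic ↥U) (hcond : (∀ u ∈ U, u ≠ 1 → E ⊓ Subgroup.centralizer (U : Set G) = E ⊓ Subgroup.centralizer ({u} : Set G)) ∨ (∀ u ∈ U, u ≠ 1 → ⁅E, U⁆ = ⁅E, Subgroup.zpowers u⁆)) (R : Subgroup G) (hR : ¬ p ∣ Nat.card ↥R) (hRU : U ≤ Subgroup.normalizer (R : Set G)) : ⁅R, U⁆ ≤ Subgroup.centralizer (E : Set G) := by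
  have hpp : p.Prime := Fact.out
  have hUc : IsMulCommutative ↥U := hU.1
  have hUp : IsPGroup p ↥U := by
    intro g
    refine ⟨1, ?_⟩
    apply Subtype.ext
    simpa using hU.2 g g.2
  have hcop : (Nat.card ↥U).Coprime (Nat.card ↥R) := by
    obtain ⟨k, hk⟩ := IsPGroup.iff_card.mp hUp
    rw [hk]
    exact Nat.Coprime.pow_left _ ((Nat.Prime.coprime_iff_not_dvd hpp).mpr hR)
  have hgen := Cfsg.Agent.S0058.result U R hnc hRU hcop
  rw [commutator_le_normal_iff]
  conv_lhs => rw [← hgen]
  apply iSup₂_le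
  rintro u ⟨hu, hu1⟩
  rw [← commutator_le_normal_iff]
  apply step E hE U hU R hR hRU u hu
  rcases hcond with h | h
  · exact Or.inl (h u hu hu1)
  · exact Or.inr (h u hu hu1)

end Cfsg.Agent.S2909
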