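import Mathlib
import Cfsg.Agent.Helper5.Z2D8
import Cfsg.Agent.Helper5.ExtremalTransfer
import Cfsg.Agent.Helper1.Fusion
import Cfsg.Statements.S2911
-- import your own Cfsg.Agent.* helpers here

set_option autoImplicit false
open Cfsg Cfsg.Agent.Helper5 Cfsg.Agent.Helper5.Z2D8

namespace Cfsg.Agent.S2911

/-- A finite group whose Sylow 2-subgroups are isomorphic to the direct product of a group of order 2 and a dihedral group of order 8 has a subgroup of index two. -/
theorem result {G : Type*} [Group G] [Finite G] (S : Sylow 2 G) (hS : Nonempty (↥(S : Subgroup G) ≃* Multiplicative (ZMod 2) × DihedralGroup 4)) : ∃ H : Subgroup G, H.index = 2 := by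
  classical
  by_contra hno
  push Not at hno
  obtain ⟨φ⟩ := hS
  have hp2 : Fact (Nat.Prime 2) := ⟨Nat.prime_two⟩
  let ι : S0 →* G := (S : Subgroup G).subtype.comp φ.symm.toMonoidHom
  have hιdef : ∀ x : S0, ι x = ((φ.symm x : ↥(S : Subgroup G)) : G) := fun x => rfl
  have hιinj : Function.Injective ι := by
    intro x y h
    have : φ.symm x = φ.symm y := Subtype.ext h
    exact φ.symm.injective this
  have hιS : ∀ x : S0, ι x ∈ (S : Subgroup G) := fun x => (φ.symm x).2
  have hSι : ∀ s ∈ (S : Subgroup G), ∃ x : S0, ι x = s := by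
    intro s hs
    refine ⟨φ ⟨s, hs⟩, ?_⟩
    rw [hιdef, MulEquiv.symm_apply_apply]
  have hιφ : ∀ s : ↥(S : Subgroup G), ι (φ s) = (s : G) := by
    intro s
    rw [hιdef, MulEquiv.symm_apply_apply]
  let R : S0 → S0 → Prop := fun x y => ∃ g : G, g * ι x * g⁻¹ = ι y
  have hrefl : ∀ x, R x x := fun x => ⟨1, by simp⟩
  have hsymm : ∀ x y, R x y → R y x := by
    rintro x y ⟨g, hg⟩
    refine ⟨g⁻¹, ?_⟩
    rw [← hg]; group
  have htrans : ∀ x y z, R x y → R y z → R x z := by
    rintro x y z ⟨g, hg⟩ ⟨k, hk⟩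
    refine ⟨k * g, ?_⟩
    rw [← hk, ← hg]; group
  have h1 : ∀ s x : S0, R x (s * x * s⁻¹) := by
    intro s x
    exact ⟨ι s, by rw [map_mul, map_mul, map_inv]⟩
  -- transfers are trivial
  have htr : ∀ (ϕ : ↥(S : Subgroup G) →* ℤˣ) (y : G), MonoidHom.transfer ϕ y = 1 := by
    intro ϕ y
    by_contra hne
    set f := MonoidHom.transfer ϕ with hf
    apply hno f.ker
    rw [Subgroup.index_ker]
    have hdvd : Nat.card ↥f.range ∣ 2 := by
      have := Subgroup.card_subgroup_dvd_card f.range
      rwa [Nat.card_eq_fintype_card (α := ℤˣ), Fintype.card_units_int] at this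
    have hne1 : Nat.card ↥f.range ≠ 1 := by
      intro h1
      have hbot := Subgroup.card_eq_one.mp h1
      have hmem : f y ∈ f.range := ⟨y, rfl⟩
      rw [hbot, Subgroup.mem_bot] at hmem
      exact hne hmem
    rcases (Nat.dvd_prime Nat.prime_two).mp hdvd with h | h
    · exact absurd h hne1
    · exact h
  -- the extremal property
  have hExt : ∀ χ : S0 →* ℤˣ, Ext R χ := by
    intro χ y hy
    set ϕ : ↥(S : Subgroup G) →* ℤˣ := χ.comp φ.toMonoidHom with hϕ
    set T : Subgroup G := ϕ.ker.map (S : Subgroup G).subtype with hT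
    have hTS : T ≤ (S : Subgroup G) := Subgroup.map_subtype_le _
    have hmemT : ∀ s : ↥(S : Subgroup G), (s : G) ∈ T ↔ ϕ s = 1 := by
      intro s
      constructor
      · rintro ⟨s', hs', hss'⟩
        have : s' = s := Subtype.ext hss'
        rw [← this]; exact hs'
      · intro h
        exact ⟨s, h, rfl⟩
    have hTn : (T.subgroupOf (S : Subgroup G)).Normal := by
      have : T.subgroupOf (S : Subgroup G) = ϕ.ker := by
        ext s
        rw [Subgroup.mem_subgroupOf, hmemT, MonoidHom.mem_ker]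
      rw [this]; infer_instance
    have hy2 : (ι y) ^ 2 = 1 := by
      rw [← map_pow, pow_two, hy.2, map_one]
    obtain ⟨g, hgT, -, hgS⟩ := exists_extremal_conj S T hTS hTn ϕ (-1) (by decide) (by decide)
      (ι y) hy2 (fun s hs => (hmemT s).mp hs)
      (fun s hs _ => by
        rcases Int.units_eq_one_or (ϕ s) with h | h
        · exact absurd ((hmemT s).mpr h) hs
        · exact h)
      (htr ϕ (ι y))
    have hcent : ∀ x : S0, x * y = y * x →
        ι x ∈ (S : Subgroup G) ⊓ Subgroup.centralizer {ι y} := by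
      intro x hx
      refine Subgroup.mem_inf.mpr ⟨hιS x, ?_⟩
      rw [Subgroup.mem_centralizer_singleton_iff]
      rw [← map_mul, ← map_mul, hx]
    let f : S0 → S0 := fun x =>
      if h : g⁻¹ * ι x * g ∈ (S : Subgroup G) then φ ⟨g⁻¹ * ι x * g, h⟩ else 1
    have hf : ∀ x : S0, x * y = y * x → ι (f x) = g⁻¹ * ι x * g := by
      intro x hx
      have h := hgS (ι x) (hcent x hx)
      show ι (if h : g⁻¹ * ι x * g ∈ (S : Subgroup G) then φ ⟨g⁻¹ * ι x * g, h⟩ else 1) = _
      rw [dif_pos h, hιφ]
    refine ⟨f, ?_, ?_, ?_, ?_⟩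
    · intro x1 x2 hx1 hx2
      apply hιinj
      have hx12 : (x1 * x2) * y = y * (x1 * x2) := by
        rw [mul_assoc, hx2, ← mul_assoc, hx1, mul_assoc]
      rw [map_mul ι (f x1) (f x2), hf _ hx12, hf _ hx1, hf _ hx2, map_mul]; group
    · intro x1 x2 hx1 hx2 h
      apply hιinj
      have h' := congrArg ι h
      rw [hf _ hx1, hf _ hx2] at h'
      have := congrArg (fun t => g * t * g⁻¹) h'
      simpa [mul_assoc] using this
    · intro x hx
      refine ⟨g⁻¹, ?_⟩
      rw [hf x hx, inv_inv]
    · have hyy : y * y = y * y := rfl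
      have h := hf y hyy
      have hmem : ι (f y) ∈ T := by rw [h]; exact hgT
      obtain ⟨s, hs⟩ : ∃ s : ↥(S : Subgroup G), (s : G) = ι (f y) := ⟨⟨_, hιS (f y)⟩, rfl⟩
      rw [← hs] at hmem
      have h2 := (hmemT s).mp hmem
      have h3 : φ s = f y := by
        apply hιinj
        rw [hιφ, hs]
      rw [hϕ] at h2
      simpa [h3] using h2
  -- Step A: central elements are not fused
  have h2 : ∀ x y : S0, cen x → cen y → R x y → x = y := by
    rintro x y hx hy ⟨g, hg⟩
    have hcenS : ∀ w : S0, cen w → ∀ s ∈ (S : Subgroup G), s * ι w * s⁻¹ = ι w := by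
      intro w hw s hs
      obtain ⟨s0, rfl⟩ := hSι s hs
      rw [← map_inv, ← map_mul, ← map_mul, ← hw s0, mul_inv_cancel_right]
    obtain ⟨n, hn, hnx⟩ := Cfsg.Agent.Helper1.burnside_fusion_subsets S {ι x} {ι y}
      (fun s hs => by rw [Set.image_singleton, hcenS x hx s hs])
      (fun s hs => by rw [Set.image_singleton, hcenS y hy s hs]) g
      (by rw [Set.image_singleton, hg])
    rw [Set.image_singleton, Set.singleton_eq_singleton_iff] at hnx
    have hnS : ∀ s ∈ (S : Subgroup G), n * s * n⁻¹ ∈ (S : Subgroup G) :=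
      fun s hs => (Subgroup.mem_normalizer_iff.mp hn s).mp hs
    have hnS' : ∀ w : S0, ∃ w' : S0, ι w' = n * ι w * n⁻¹ := fun w => hSι _ (hnS _ (hιS w))
    have hc : n * ι c0 * n⁻¹ = ι c0 := by
      obtain ⟨a', ha'⟩ := hnS' a0
      have e1 : n * ι c0 * n⁻¹ = ι (a' * a') := by
        rw [map_mul, ha', ← a0_sq, map_mul]; group
      rcases sq_eq a' with h | h
      · exfalso
        rw [h, map_one] at e1
        have e2 : ι c0 = 1 := by
          have h' := congrArg (fun t => n⁻¹ * t * n) e1
          simpa [mul_assoc] using h'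
        exact c0_ne_one (hιinj (e2.trans (map_one ι).symm))
      · rw [e1, h]
    obtain ⟨z', hz'⟩ := hnS' z0
    have hz'cen : cen z' := by
      intro s0
      apply hιinj
      rw [map_mul, map_mul, hz']
      have hs1 : n⁻¹ * ι s0 * n ∈ (S : Subgroup G) := by
        have := (Subgroup.mem_normalizer_iff.mp (Subgroup.inv_mem _ hn) (ι s0)).mp (hιS s0)
        simpa using this
      obtain ⟨s1, hs1'⟩ := hSι _ hs1
      have hcomm : ι z0 * ι s1 = ι s1 * ι z0 := by rw [← map_mul, ← map_mul, cen_z0 s1]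
      rw [hs1'] at hcomm
      calc n * ι z0 * n⁻¹ * ι s0 = n * (ι z0 * (n⁻¹ * ι s0 * n)) * n⁻¹ := by group
        _ = n * ((n⁻¹ * ι s0 * n) * ι z0) * n⁻¹ := by rw [hcomm]
        _ = ι s0 * (n * ι z0 * n⁻¹) := by group
    have hz'ne1 : z' ≠ 1 := by
      intro h
      rw [h, map_one] at hz'
      have e2 : ι z0 = 1 := by
        have h' := congrArg (fun t => n⁻¹ * t * n) hz'
        simpa [mul_assoc] using h'.symm
      exact z0_ne_one (hιinj (e2.trans (map_one ι).symm))
    have hz'nec : z' ≠ c0 := by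
      intro h
      rw [h, ← hc] at hz'
      have e2 : ι c0 = ι z0 := by
        have h' := congrArg (fun t => n⁻¹ * t * n) hz'
        simpa [mul_assoc] using h'
      exact z0_ne_c0 (hιinj e2).symm
    have hz'cases : z' = z0 ∨ z' = z0 * c0 := by
      rcases (cen_iff z').mp hz'cen with h | h | h | h
      · exact absurd h hz'ne1
      · exact Or.inl h
      · exact absurd h hz'nec
      · exact Or.inr h
    have hn2 : (n * n) * ι z0 * (n * n)⁻¹ = ι z0 := by
      rcases hz'cases with h | h
      · rw [h] at hz'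
        calc (n * n) * ι z0 * (n * n)⁻¹ = n * (n * ι z0 * n⁻¹) * n⁻¹ := by group
          _ = ι z0 := by rw [← hz', ← hz']
      · rw [h, map_mul] at hz'
        calc (n * n) * ι z0 * (n * n)⁻¹ = n * (n * ι z0 * n⁻¹) * n⁻¹ := by group
          _ = n * (ι z0 * ι c0) * n⁻¹ := by rw [← hz']
          _ = (n * ι z0 * n⁻¹) * (n * ι c0 * n⁻¹) := by group
          _ = (ι z0 * ι c0) * ι c0 := by rw [← hz', hc]
          _ = ι z0 := by rw [mul_assoc, ← map_mul, c0_sq, map_one, mul_one]
    set N := Subgroup.normalizer ((S : Subgroup G) : Set G) with hN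
    have hSN : (S : Subgroup G) ≤ N := Subgroup.le_normalizer
    have hSnorm : ((S : Subgroup G).subgroupOf N).Normal := Subgroup.normal_in_normalizer
    set m := ((S : Subgroup G).subgroupOf N).index with hm
    have hnm : n ^ m ∈ (S : Subgroup G) := by
      have := Subgroup.pow_index_mem ((S : Subgroup G).subgroupOf N) (⟨n, hn⟩ : ↥N)
      rw [Subgroup.mem_subgroupOf] at this
      simpa using this
    have hmodd : ¬ 2 ∣ m := by
      intro h
      apply S.not_dvd_index
      exact dvd_trans h (Subgroup.relIndex_dvd_index_of_le hSN)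
    have hnz : n * ι z0 * n⁻¹ = ι z0 := by
      set C := Subgroup.centralizer ({ι z0} : Set G) with hC
      have hmemC : ∀ k : G, k ∈ C ↔ k * ι z0 * k⁻¹ = ι z0 := by
        intro k
        rw [hC, Subgroup.mem_centralizer_singleton_iff]
        constructor
        · intro h; rw [h]; group
        · intro h
          have h' := congrArg (fun t => t * k) h
          simpa [mul_assoc] using h'
      have h2C : n * n ∈ C := (hmemC _).mpr hn2
      have hmC : n ^ m ∈ C := (hmemC _).mpr (hcenS z0 cen_z0 _ hnm)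
      have hnC : n ∈ C := by
        obtain ⟨k, hk⟩ : Odd m := Nat.odd_iff.mpr (by omega)
        have e3 : n = ((n * n) ^ k)⁻¹ * n ^ m := by
          rw [hk, pow_succ, pow_mul, pow_two, inv_mul_cancel_left]
        rw [e3]; exact C.mul_mem (C.inv_mem (C.pow_mem h2C k)) hmC
      exact (hmemC n).mp hnC
    have hfix : ∀ w : S0, cen w → n * ι w * n⁻¹ = ι w := by
      intro w hw
      rcases (cen_iff w).mp hw with h | h | h | h
      · rw [h, map_one]; group
      · rw [h]; exact hnz
      · rw [h]; exact hc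
      · rw [h, map_mul]
        calc n * (ι z0 * ι c0) * n⁻¹ = (n * ι z0 * n⁻¹) * (n * ι c0 * n⁻¹) := by group
          _ = ι z0 * ι c0 := by rw [hnz, hc]
    apply hιinj
    rw [← hnx, hfix x hx]
  exact core R hrefl hsymm htrans h1 h2 (hExt chi1) (hExt chi4) (hExt chi5)

end Cfsg.Agent.S2911
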