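import Mathlib
import Cfsg.Statements.S2912
import Cfsg.Agent.Helper3.ExtraCore
import Cfsg.Agent.Helper1.Class2
import Cfsg.Agent.Helper5.Generation
-- import your own Cfsg.Agent.* helpers here

set_option autoImplicit false
open Cfsg

namespace Cfsg.Agent.S2912

universe u

open scoped commutatorElement
open Cfsg.Agent.Helper3.Extra

section Rep

variable {E : Type u} [Group E] {V : Type u} [CommGroup V]

/-- restriction of an action to an invariant subgroup -/
def restrictRep (ρ : E →* Monoid.End V) (W : Subgroup V) (hW : ∀ e, ∀ v ∈ W, ρ e v ∈ W) :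
    E →* Monoid.End ↥W where
  toFun e := ((ρ e).comp W.subtype).codRestrict W (fun v => hW e v v.2)
  map_one' := by
    apply MonoidHom.ext
    intro v
    apply Subtype.ext
    show ρ 1 (v : V) = v
    rw [map_one]; rfl
  map_mul' a b := by
    apply MonoidHom.ext
    intro v
    apply Subtype.ext
    show ρ (a * b) (v : V) = ρ a (ρ b (v : V))
    rw [map_mul]; rfl

theorem restrictRep_apply (ρ : E →* Monoid.End V) (W : Subgroup V)
    (hW : ∀ e, ∀ v ∈ W, ρ e v ∈ W) (e : E) (v : ↥W) :
    ((restrictRep ρ W hW e v : ↥W) : V) = ρ e (v : V) := rfl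

/-- the action attached to a representation -/
@[reducible] def actOf (ρ : E →* Monoid.End V) : MulAction E V where
  smul e v := ρ e v
  one_smul v := by show ρ 1 v = v; rw [map_one]; rfl
  mul_smul a b v := by show ρ (a * b) v = ρ a (ρ b v); rw [map_mul]; rfl

theorem rho_mul_apply (ρ : E →* Monoid.End V) (a b : E) (v : V) : ρ (a * b) v = ρ a (ρ b v) := by
  rw [map_mul]; rfl

theorem rho_one_apply (ρ : E →* Monoid.End V) (v : V) : ρ 1 v = v := by
  rw [map_one]; rfl

theorem rho_inv_apply (ρ : E →* Monoid.End V) (a : E) (v : V) : ρ a⁻¹ (ρ a v) = v := by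
  rw [← rho_mul_apply, inv_mul_cancel, rho_one_apply]

theorem rho_apply_inv (ρ : E →* Monoid.End V) (a : E) (v : V) : ρ a (ρ a⁻¹ v) = v := by
  rw [← rho_mul_apply, mul_inv_cancel, rho_one_apply]

theorem rho_injective (ρ : E →* Monoid.End V) (a : E) : Function.Injective (ρ a) := by
  intro v w h
  have := congrArg (ρ a⁻¹) h
  rwa [rho_inv_apply, rho_inv_apply] at this

theorem rho_pow_apply (ρ : E →* Monoid.End V) (a : E) (k : ℕ) (v : V) :
    ρ (a ^ k) v = (ρ a)^[k] v := by
  induction k generalizing v with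
  | zero => rw [pow_zero, rho_one_apply]; rfl
  | succ k ih => rw [pow_succ, rho_mul_apply, ih, Function.iterate_succ_apply]

end Rep

section Base

variable {p r : ℕ} [hp : Fact p.Prime] [hr : Fact r.Prime]

/-- the base estimate: a fixed-point-free central element of order `p` forces `p ∣ #V - 1`. -/
theorem base (n : ℕ) (hmin : ∀ k : ℕ, 1 ≤ k → p ∣ r ^ k - 1 → n ≤ k)
    {E : Type u} [Group E] [Finite E] {V : Type u} [CommGroup V] [Finite V]
    (hE : InClass p E) (hV : IsPGroup r V) (ρ : E →* Monoid.End V)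
    (hfpf : ∀ z ∈ Subgroup.center E, z ≠ 1 → ∀ v, ρ z v = v → v = 1) (hnt : Nontrivial V) :
    r ^ n ≤ Nat.card V := by
  classical
  have hZp : IsPGroup p (Subgroup.center E) := IsPGroup.of_card (n := 1) (by rw [hE.card_center, pow_one])
  letI : MulAction (Subgroup.center E) V := actOf (ρ.comp (Subgroup.center E).subtype)
  have h1 := hZp.card_modEq_card_fixedPoints V
  -- the fixed points are trivial
  have hntZ : Nontrivial (Subgroup.center E) := by
    rw [← Finite.one_lt_card_iff_nontrivial, hE.card_center]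
    exact hp.out.one_lt
  obtain ⟨z, hz⟩ := exists_ne (1 : Subgroup.center E)
  have hfix : MulAction.fixedPoints (Subgroup.center E) V = {1} := by
    ext v
    rw [MulAction.mem_fixedPoints, Set.mem_singleton_iff]
    constructor
    · intro h
      apply hfpf z z.2 (fun h1 => hz (Subtype.ext h1)) v
      exact h z
    · intro h g
      rw [h]
      show ρ (g : E) 1 = 1
      exact map_one _
  rw [hfix] at h1
  have h2 : Nat.card ({1} : Set V) = 1 := by simp
  rw [h2] at h1
  obtain ⟨d, hd⟩ := IsPGroup.iff_card.mp hV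
  have hd1 : 1 ≤ d := by
    rcases Nat.eq_zero_or_pos d with h | h
    · rw [h, pow_zero] at hd
      have := Finite.one_lt_card_iff_nontrivial.mpr hnt
      omega
    · exact h
  have hdvd : p ∣ r ^ d - 1 := by
    rw [hd] at h1
    exact (Nat.modEq_iff_dvd' (Nat.one_le_pow _ _ hr.out.pos)).mp h1.symm
  have := hmin d hd1 hdvd
  rw [hd]
  exact Nat.pow_le_pow_right hr.out.pos this

end Base


section Eigen

variable {E : Type u} [Group E] {V : Type u} [CommGroup V]

/-- the subgroup of fixed points of an endomorphism -/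
def fixedSub (f : Monoid.End V) : Subgroup V where
  carrier := {v | f v = v}
  one_mem' := map_one f
  mul_mem' := by
    intro a b ha hb
    show f (a * b) = a * b
    rw [map_mul, ha, hb]
  inv_mem' := by
    intro a ha
    show f a⁻¹ = a⁻¹
    rw [map_inv, ha]

theorem mem_fixedSub (f : Monoid.End V) (v : V) : v ∈ fixedSub f ↔ f v = v := Iff.rfl

variable (ρ : E →* Monoid.End V) {p : ℕ}

/-- independence of the eigen-subgroups -/
theorem indep (x c : E) (hxc : Commute x c)
    (hfp : ∀ j, 0 < j → j < p → ∀ v, ρ (c ^ j) v = v → v = 1) :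
    ∀ k, k ≤ p → ∀ f : ℕ → V, (∀ i, f i ∈ fixedSub (ρ (x * c ^ i))) →
      ∏ i ∈ Finset.range k, f i = 1 → ∀ i, i < k → f i = 1 := by
  intro k
  induction k with
  | zero => intro _ f _ _ i hi; omega
  | succ k ih =>
    intro hk f hf hprod i hi
    rw [Finset.prod_range_succ] at hprod
    -- the map `δ v = T v * v⁻¹`
    let T : Monoid.End V := ρ (x * c ^ k)
    let δ : V →* V := MonoidHom.mk' (fun v => T v * v⁻¹) (by
      intro a b
      show T (a * b) * (a * b)⁻¹ = T a * a⁻¹ * (T b * b⁻¹)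
      rw [map_mul, mul_inv]
      exact mul_mul_mul_comm _ _ _ _)
    have hδ : ∀ v, δ v = T v * v⁻¹ := fun v => rfl
    have hcomm : ∀ i : ℕ, Commute (x * c ^ i) (x * c ^ k) := by
      intro i
      have h1 : Commute x (c ^ k) := hxc.pow_right k
      have h2 : Commute x (c ^ i) := hxc.pow_right i
      have h3 : Commute (c ^ i) (c ^ k) := (Commute.refl c).pow_pow i k
      exact ((Commute.refl x).mul_right h1).mul_left ((h2.symm).mul_right h3)
    have hg : ∀ i, δ (f i) ∈ fixedSub (ρ (x * c ^ i)) := by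
      intro i
      rw [mem_fixedSub, hδ, map_mul, map_inv]
      have h1 : ρ (x * c ^ i) (T (f i)) = T (ρ (x * c ^ i) (f i)) := by
        show ρ (x * c ^ i) (ρ (x * c ^ k) (f i)) = ρ (x * c ^ k) (ρ (x * c ^ i) (f i))
        rw [← rho_mul_apply, ← rho_mul_apply, (hcomm i).eq]
      rw [h1, (mem_fixedSub _ _).mp (hf i)]
    have hfk : T (f k) = f k := (mem_fixedSub _ _).mp (hf k)
    have hprodg : ∏ i ∈ Finset.range k, δ (f i) = 1 := by
      rw [← map_prod]
      have h1 : ∏ i ∈ Finset.range k, f i = (f k)⁻¹ := eq_inv_of_mul_eq_one_left hprod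
      rw [h1, hδ, map_inv, hfk, inv_inv, inv_mul_cancel]
    have hall := ih (by omega) (fun i => δ (f i)) hg hprodg
    have hlow : ∀ i, i < k → f i = 1 := by
      intro i hik
      have h1 := hall i hik
      rw [hδ, mul_inv_eq_one] at h1
      -- `f i` is fixed by `x c^k` and by `x c^i`
      have h2 : ρ (x * c ^ i) (f i) = f i := (mem_fixedSub _ _).mp (hf i)
      have h3 : x * c ^ k = (x * c ^ i) * c ^ (k - i) := by
        rw [mul_assoc, ← pow_add]
        congr 2
        omega
      have h4 : ρ (x * c ^ i) (ρ (c ^ (k - i)) (f i)) = ρ (x * c ^ i) (f i) := by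
        rw [← rho_mul_apply, ← h3, h2]
        exact h1
      have h5 := rho_injective ρ _ h4
      exact hfp (k - i) (by omega) (by omega) _ h5
    rcases Nat.lt_succ_iff_lt_or_eq.mp hi with h | h
    · exact hlow i h
    · rw [h]
      have h1 : ∏ i ∈ Finset.range k, f i = 1 := by
        apply Finset.prod_eq_one
        intro i hi
        exact hlow i (Finset.mem_range.mp hi)
      rw [h1, one_mul] at hprod
      exact hprod


/-- the product of the orders of the eigen-subgroups is at most the order of `V` -/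
theorem card_prod_le [Finite V] (x c : E) (hxc : Commute x c)
    (hfp : ∀ j, 0 < j → j < p → ∀ v, ρ (c ^ j) v = v → v = 1) :
    ∏ i : Fin p, Nat.card (fixedSub (ρ (x * c ^ (i : ℕ)))) ≤ Nat.card V := by
  classical
  rw [← Nat.card_pi]
  let Φ : (∀ i : Fin p, ↥(fixedSub (ρ (x * c ^ (i : ℕ))))) → V := fun a => ∏ i : Fin p, (a i : V)
  apply Nat.card_le_card_of_injective Φ
  intro a b hab
  -- the quotient family
  let f : ℕ → V := fun i => if h : i < p then (a ⟨i, h⟩ : V) * (b ⟨i, h⟩ : V)⁻¹ else 1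
  have hf : ∀ i, f i ∈ fixedSub (ρ (x * c ^ i)) := by
    intro i
    by_cases h : i < p
    · simp only [f, dif_pos h]
      exact Subgroup.mul_mem _ (a ⟨i, h⟩).2 (Subgroup.inv_mem _ (b ⟨i, h⟩).2)
    · simp only [f, dif_neg h]
      exact Subgroup.one_mem _
  have hprod : ∏ i ∈ Finset.range p, f i = 1 := by
    rw [Finset.prod_range]
    have h1 : ∀ i : Fin p, f (i : ℕ) = (a i : V) * (b i : V)⁻¹ := by
      intro i
      simp only [f, dif_pos i.2]
    simp only [h1]
    rw [Finset.prod_mul_distrib, Finset.prod_inv_distrib]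
    show Φ a * (Φ b)⁻¹ = 1
    rw [hab, mul_inv_cancel]
  have hall := indep ρ x c hxc hfp p le_rfl f hf hprod
  funext i
  apply Subtype.ext
  have h1 := hall i i.2
  simp only [f, dif_pos i.2] at h1
  exact mul_inv_eq_one.mp h1

/-- conjugate eigen-subgroups have the same order -/
theorem card_fixedSub_conj [Finite V] (x c y : E) (i : ℕ) (hy : y ^ i * x = x * c ^ i * y ^ i) :
    Nat.card (fixedSub (ρ (x * c ^ i))) = Nat.card (fixedSub (ρ x)) := by
  apply le_antisymm
  · -- v ↦ ρ (y^i)⁻¹ v
    let Ψ : ↥(fixedSub (ρ (x * c ^ i))) → ↥(fixedSub (ρ x)) := fun v =>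
      ⟨ρ (y ^ i)⁻¹ (v : V), by
        rw [mem_fixedSub, ← rho_mul_apply]
        have h1 : x * (y ^ i)⁻¹ = (y ^ i)⁻¹ * (x * c ^ i) := by
          rw [eq_inv_mul_iff_mul_eq, ← mul_assoc, hy]
          group
        rw [h1, rho_mul_apply, (mem_fixedSub _ _).mp v.2]⟩
    apply Nat.card_le_card_of_injective Ψ
    intro v w h
    apply Subtype.ext
    have := congrArg Subtype.val h
    exact rho_injective ρ _ this
  · let Ψ : ↥(fixedSub (ρ x)) → ↥(fixedSub (ρ (x * c ^ i))) := fun v =>
      ⟨ρ (y ^ i) (v : V), by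
        rw [mem_fixedSub, ← rho_mul_apply, ← hy, rho_mul_apply, (mem_fixedSub _ _).mp v.2]⟩
    apply Nat.card_le_card_of_injective Ψ
    intro v w h
    apply Subtype.ext
    have := congrArg Subtype.val h
    exact rho_injective ρ _ this


/-- the eigen-subgroup of `x` is nontrivial -/
theorem fixedSub_ne_bot [Finite V] [hp : Fact p.Prime] (hcop : (Nat.card V).Coprime p)
    (x c y : E) (hxc : Commute x c) (hxp : x ^ p = 1) (hcp : c ^ p = 1)
    (hy : ∀ i : ℕ, y ^ i * x = x * c ^ i * y ^ i)
    (hfp : ∀ j, 0 < j → j < p → ∀ v, ρ (c ^ j) v = v → v = 1) (hnt : Nontrivial V) :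
    fixedSub (ρ x) ≠ ⊥ := by
  classical
  intro hbot
  have hp1 : 1 < p := hp.out.one_lt
  have htriv : ∀ i : ℕ, ∀ v, ρ (x * c ^ i) v = v → v = 1 := by
    intro i v hv
    have h1 := card_fixedSub_conj ρ x c y i (hy i)
    rw [hbot, Subgroup.card_bot] at h1
    have h2 : fixedSub (ρ (x * c ^ i)) = ⊥ := Subgroup.card_eq_one.mp h1
    have h3 : v ∈ fixedSub (ρ (x * c ^ i)) := hv
    rw [h2, Subgroup.mem_bot] at h3
    exact h3
  let act : ZMod p → ZMod p → (V →* V) := fun s t => ρ (x ^ s.val * c ^ t.val)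
  have hact : ∀ s t v, act s t v = ρ (x ^ s.val * c ^ t.val) v := fun _ _ _ => rfl
  have hxmod : ∀ m : ℕ, x ^ (m % p) = x ^ m := fun m => (pow_eq_pow_mod m hxp).symm
  have hcmod : ∀ m : ℕ, c ^ (m % p) = c ^ m := fun m => (pow_eq_pow_mod m hcp).symm
  have hadd : ∀ s t s' t' : ZMod p, act (s + s') (t + t') = (act s t).comp (act s' t') := by
    intro s t s' t'
    apply MonoidHom.ext
    intro v
    rw [MonoidHom.comp_apply, hact, hact, hact, ← rho_mul_apply]
    congr 2
    rw [ZMod.val_add, ZMod.val_add, hxmod, hcmod, pow_add, pow_add]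
    have h1 : Commute (c ^ t.val) (x ^ s'.val) := (hxc.pow_pow s'.val t.val).symm
    calc x ^ s.val * x ^ s'.val * (c ^ t.val * c ^ t'.val)
        = x ^ s.val * (x ^ s'.val * c ^ t.val) * c ^ t'.val := by simp only [mul_assoc]
      _ = x ^ s.val * (c ^ t.val * x ^ s'.val) * c ^ t'.val := by rw [h1.eq]
      _ = x ^ s.val * c ^ t.val * (x ^ s'.val * c ^ t'.val) := by simp only [mul_assoc]
  have h0 : act 0 0 = MonoidHom.id V := by
    apply MonoidHom.ext
    intro v
    rw [hact, ZMod.val_zero, pow_zero, pow_zero, mul_one, rho_one_apply]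
    rfl
  have hfix : ∀ s t : ZMod p, (s ≠ 0 ∨ t ≠ 0) → ∀ v : V, act s t v = v → v = 1 := by
    intro s t hst v hv
    rw [hact] at hv
    by_cases hs : s = 0
    · have ht : t ≠ 0 := by
        rcases hst with h | h
        · exact absurd hs h
        · exact h
      rw [hs, ZMod.val_zero, pow_zero, one_mul] at hv
      apply hfp t.val _ (ZMod.val_lt t) v hv
      exact Nat.pos_of_ne_zero (fun h => ht ((ZMod.val_eq_zero t).mp h))
    · -- raise to the power `s⁻¹`
      set m := (s⁻¹).val with hm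
      set u := x ^ s.val * c ^ t.val with hu
      have h1 : ρ (u ^ m) v = v := by
        rw [rho_pow_apply]
        exact Function.iterate_fixed hv m
      have h2 : u ^ m = x * c ^ ((t.val * m) % p) := by
        rw [hu, (hxc.pow_pow s.val t.val).mul_pow, ← pow_mul, ← pow_mul, hcmod]
        congr 1
        rw [← hxmod]
        have h3 : (s.val * m) % p = 1 := by
          rw [hm, ← ZMod.val_mul, mul_inv_cancel₀ hs, ZMod.val_one]
        rw [h3, pow_one]
      rw [h2] at h1
      exact htriv _ v h1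
  have hall := Cfsg.Agent.Helper5.trivial_of_fixedPointFree_sq hcop act hadd h0 hfix
  obtain ⟨a, b, hab⟩ := hnt
  exact hab ((hall a).trans (hall b).symm)

end Eigen


section Step

variable {p r : ℕ} [hp : Fact p.Prime] [hr : Fact r.Prime]

/-- the inductive step along a non-central element of order `p` -/
theorem step (hpr : p ≠ r) (N : ℕ)
    {E : Type u} [Group E] [Finite E] {V : Type u} [CommGroup V] [Finite V]
    (hE : InClass p E) (hV : IsPGroup r V) (ρ : E →* Monoid.End V)
    (hfpf : ∀ z ∈ Subgroup.center E, z ≠ 1 → ∀ v, ρ z v = v → v = 1) (hnt : Nontrivial V)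
    (x y : E) (hxy : ⁅y, x⁆ ≠ 1) (hxp : x ^ p = 1)
    (ih : ∀ (V₀ : Type u) [CommGroup V₀] [Finite V₀], IsPGroup r V₀ →
      ∀ ρ₀ : ↥(Subgroup.centralizer ({x, y} : Set E)) →* Monoid.End V₀,
        (∀ z ∈ Subgroup.center ↥(Subgroup.centralizer ({x, y} : Set E)), z ≠ 1 →
          ∀ v, ρ₀ z v = v → v = 1) → Nontrivial V₀ → N ≤ Nat.card V₀) :
    N ^ p ≤ Nat.card V := by
  classical
  set c : E := ⁅y, x⁆ with hc
  have hcZ : c ∈ Subgroup.center E := hE.comm_mem y x
  have hccomm : ∀ z, Commute c z := fun z => (Subgroup.mem_center_iff.mp hcZ z).symm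
  have hxc : Commute x c := (hccomm x).symm
  have hcp : c ^ p = 1 := by
    have h1 : (⟨c, hcZ⟩ : Subgroup.center E) ^ p = 1 := by
      have h0 : (⟨c, hcZ⟩ : Subgroup.center E) ^ Nat.card (Subgroup.center E) = 1 :=
        pow_card_eq_one'
      rwa [hE.card_center] at h0
    exact congrArg Subtype.val h1
  have hyx : y * x = c * x * y := by simp [hc, commutatorElement_def]
  have hy : ∀ i : ℕ, y ^ i * x = x * c ^ i * y ^ i := by
    intro i
    rw [Cfsg.Agent.Helper1.pow_mul_of_central hccomm hyx i, ((hccomm x).pow_left i).eq]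
  have hord : orderOf c = p := by
    have h1 : orderOf c ∣ p := orderOf_dvd_of_pow_eq_one hcp
    rcases (Nat.dvd_prime hp.out).1 h1 with h | h
    · exact absurd (orderOf_eq_one_iff.1 h) hxy
    · exact h
  have hfp : ∀ j, 0 < j → j < p → ∀ v, ρ (c ^ j) v = v → v = 1 := by
    intro j hj0 hjp v hv
    apply hfpf (c ^ j) (Subgroup.pow_mem _ hcZ j) _ v hv
    exact pow_ne_one_of_lt_orderOf hj0.ne' (by rw [hord]; exact hjp)
  have hcop : (Nat.card V).Coprime p := by
    obtain ⟨d, hd⟩ := IsPGroup.iff_card.mp hV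
    rw [hd]
    apply Nat.Coprime.pow_left
    exact (Nat.coprime_primes hr.out hp.out).mpr (Ne.symm hpr)
  -- the eigen-subgroup
  set V₀ : Subgroup V := fixedSub (ρ x) with hV₀
  have hV₀ne : V₀ ≠ ⊥ := fixedSub_ne_bot ρ hcop x c y hxc hxp hcp hy hfp hnt
  have hcard : ∏ i : Fin p, Nat.card (fixedSub (ρ (x * c ^ (i : ℕ)))) ≤ Nat.card V :=
    card_prod_le ρ x c hxc hfp
  have hcard2 : (Nat.card V₀) ^ p ≤ Nat.card V := by
    have h1 : ∀ i : Fin p, Nat.card (fixedSub (ρ (x * c ^ (i : ℕ)))) = Nat.card V₀ :=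
      fun i => card_fixedSub_conj ρ x c y i (hy i)
    simp only [h1, Finset.prod_const, Finset.card_univ, Fintype.card_fin] at hcard
    exact hcard
  -- the restricted action
  set E₁ : Subgroup E := Subgroup.centralizer ({x, y} : Set E) with hE₁
  have hinv : ∀ e : ↥E₁, ∀ v ∈ V₀, (ρ.comp E₁.subtype) e v ∈ V₀ := by
    intro e v hv
    show ρ x (ρ (e : E) v) = ρ (e : E) v
    have hex : Commute x (e : E) := Subgroup.mem_centralizer_iff.mp e.2 x (by simp)
    rw [← rho_mul_apply, hex.eq, rho_mul_apply, (mem_fixedSub _ _).mp hv]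
  have hV₀nt : Nontrivial ↥V₀ := (Subgroup.nontrivial_iff_ne_bot _).mpr hV₀ne
  have hN := ih ↥V₀ (hV.to_subgroup V₀) (restrictRep (ρ.comp E₁.subtype) V₀ hinv) (by
    intro z hz hz1 v hv
    have hzE : (z : E) ∈ Subgroup.center E := (hE.mem_center_centralizer_iff x y hxy z).mp hz
    have hz1' : (z : E) ≠ 1 := fun h => hz1 (Subtype.ext h)
    have h2 : ρ (z : E) (v : V) = v := congrArg Subtype.val hv
    exact Subtype.ext (hfpf _ hzE hz1' _ h2)) hV₀nt
  calc N ^ p ≤ (Nat.card V₀) ^ p := Nat.pow_le_pow_left hN p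
    _ ≤ Nat.card V := hcard2

end Step


section Exists

variable {p : ℕ} [hp : Fact p.Prime] {E : Type u} [Group E] [Finite E]

/-- for odd `p`: a non-central element of order dividing `p` -/
theorem exists_noncentral_odd (hE : InClass p E) (hp2 : p ≠ 2) (w : ℕ) (hw : 1 ≤ w)
    (hcard : Nat.card E = p ^ (2 * w + 1)) : ∃ x : E, x ∉ Subgroup.center E ∧ x ^ p = 1 := by
  classical
  have hcenpow : ∀ z ∈ Subgroup.center E, z ^ p = 1 := by
    intro z hz
    have h1 : (⟨z, hz⟩ : Subgroup.center E) ^ p = 1 := by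
      have h0 : (⟨z, hz⟩ : Subgroup.center E) ^ Nat.card (Subgroup.center E) = 1 :=
        pow_card_eq_one'
      rwa [hE.card_center] at h0
    exact congrArg Subtype.val h1
  have hdvd : p ∣ p.choose 2 := by
    apply hp.out.dvd_choose_self (by norm_num)
    have := hp.out.two_le
    omega
  -- the power map
  let φ : E →* Subgroup.center E := MonoidHom.mk' (fun x => ⟨x ^ p, hE.pow_mem x⟩) (by
    intro a b
    apply Subtype.ext
    show (a * b) ^ p = a ^ p * b ^ p
    have hcZ : ⁅b, a⁆ ∈ Subgroup.center E := hE.comm_mem b a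
    have hccomm : ∀ z, Commute ⁅b, a⁆ z := fun z => (Subgroup.mem_center_iff.mp hcZ z).symm
    have hyx : b * a = ⁅b, a⁆ * a * b := by simp [commutatorElement_def]
    rw [Cfsg.Agent.Helper1.mul_pow_of_central hccomm hyx p]
    obtain ⟨k, hk⟩ := hdvd
    rw [hk, pow_mul, hcenpow _ hcZ, one_pow, mul_one])
  have hφ : ∀ x, ((φ x : Subgroup.center E) : E) = x ^ p := fun x => rfl
  by_contra hcon
  push Not at hcon
  have hker : φ.ker ≤ Subgroup.center E := by
    intro x hx
    by_contra hxc
    apply hcon x hxc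
    have := congrArg Subtype.val (MonoidHom.mem_ker.mp hx)
    rwa [hφ] at this
  have h1 : Nat.card φ.ker ≤ p := hE.card_center ▸ Subgroup.card_le_of_le hker
  have h2 : Nat.card φ.range ≤ p := by
    have := Nat.card_le_card_of_injective (Subgroup.subtype φ.range) (Subgroup.subtype_injective _)
    rwa [hE.card_center] at this
  have h3 : Nat.card E = Nat.card φ.ker * Nat.card φ.range := by
    rw [← Subgroup.index_ker, mul_comm]
    exact (Subgroup.index_mul_card φ.ker).symm
  have h4 : p ^ (2 * w + 1) ≤ p * p := by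
    rw [← hcard, h3]
    exact Nat.mul_le_mul h1 h2
  have h5 : p ^ (2 * w + 1) ≤ p ^ 2 := by rwa [pow_two]
  have h6 := (Nat.pow_le_pow_iff_right hp.out.one_lt).mp h5
  omega

omit hp in
/-- for `p = 2` and width at least two: a non-central involution -/
theorem exists_noncentral_two (hE : InClass 2 E) (w : ℕ) (hw : 2 ≤ w)
    (hcard : Nat.card E = 2 ^ (2 * w + 1)) : ∃ x : E, x ∉ Subgroup.center E ∧ x ^ 2 = 1 := by
  classical
  have hlt : 2 < Nat.card E := by
    rw [hcard]
    calc 2 = 2 ^ 1 := by norm_num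
      _ < 2 ^ (2 * w + 1) := Nat.pow_lt_pow_right (by norm_num) (by omega)
  obtain ⟨x, y, hxy⟩ := hE.exists_pair_of_card_lt hlt
  have hE₁ := hE.inClass_centralizer x y hxy
  have hcard₁ := hE.card_eq x y hxy
  have hlt₁ : 2 < Nat.card (Subgroup.centralizer ({x, y} : Set E)) := by
    rw [hcard] at hcard₁
    have h1 : (2 : ℕ) ^ (2 * w + 1) = 2 ^ 2 * 2 ^ (2 * w - 1) := by
      rw [← pow_add]; congr 1; omega
    rw [h1] at hcard₁
    have h2 := Nat.eq_of_mul_eq_mul_left (by norm_num) hcard₁
    rw [← h2]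
    calc 2 = 2 ^ 1 := by norm_num
      _ < 2 ^ (2 * w - 1) := Nat.pow_lt_pow_right (by norm_num) (by omega)
  obtain ⟨u, v, huv⟩ := hE₁.exists_pair_of_card_lt hlt₁
  -- uniqueness of the nontrivial central element
  have huniq : ∀ a ∈ Subgroup.center E, ∀ b ∈ Subgroup.center E, a ≠ 1 → b ≠ 1 → a = b := by
    intro a ha b hb ha1 hb1
    have h2 := (Nat.card_eq_two_iff' (1 : Subgroup.center E)).mp hE.card_center
    obtain ⟨t, -, ht⟩ := h2
    have hat : (⟨a, ha⟩ : Subgroup.center E) = t := ht _ (fun h => ha1 (congrArg Subtype.val h))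
    have hbt : (⟨b, hb⟩ : Subgroup.center E) = t := ht _ (fun h => hb1 (congrArg Subtype.val h))
    exact congrArg Subtype.val (hat.trans hbt.symm)
  have hcensq : ∀ z ∈ Subgroup.center E, z ^ 2 = 1 := by
    intro z hz
    have h1 : (⟨z, hz⟩ : Subgroup.center E) ^ 2 = 1 := by
      have h0 : (⟨z, hz⟩ : Subgroup.center E) ^ Nat.card (Subgroup.center E) = 1 :=
        pow_card_eq_one'
      rwa [hE.card_center] at h0
    exact congrArg Subtype.val h1
  have hxnc : x ∉ Subgroup.center E := by
    intro h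
    apply hxy
    rw [commutatorElement_eq_one_iff_commute]
    exact (Subgroup.mem_center_iff.mp h y)
  have hunc : (u : E) ∉ Subgroup.center E := by
    intro h
    apply huv
    rw [commutatorElement_eq_one_iff_commute]
    have := Subgroup.mem_center_iff.mp h (v : E)
    exact Subtype.ext this
  by_cases hx2 : x ^ 2 = 1
  · exact ⟨x, hxnc, hx2⟩
  by_cases hu2 : (u : E) ^ 2 = 1
  · exact ⟨u, hunc, hu2⟩
  -- the product
  have hux : Commute x (u : E) := Subgroup.mem_centralizer_iff.mp u.2 x (by simp)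
  have huy : Commute y (u : E) := Subgroup.mem_centralizer_iff.mp u.2 y (by simp)
  refine ⟨x * u, ?_, ?_⟩
  · intro h
    apply hxy
    rw [commutatorElement_eq_one_iff_commute]
    have h1 : y * (x * u) = (x * u) * y := Subgroup.mem_center_iff.mp h y
    have h2 : y * x * (u : E) = x * y * (u : E) := by
      calc y * x * (u : E) = y * (x * u) := by rw [mul_assoc]
        _ = (x * u) * y := h1
        _ = x * (u * y) := by rw [mul_assoc]
        _ = x * (y * u) := by rw [huy.eq]
        _ = x * y * u := by rw [mul_assoc]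
    exact mul_right_cancel h2
  · rw [hux.mul_pow]
    have h1 := huniq _ (hE.pow_mem x) _ (hE.pow_mem (u : E)) hx2 hu2
    rw [h1, ← pow_two]
    exact hcensq _ (hE.pow_mem (u : E))

end Exists


section Core

variable {p r : ℕ} [hp : Fact p.Prime] [hr : Fact r.Prime]

omit hp in
/-- a non-abelian group in the class cannot act in this way on a group of prime order -/
theorem card_ne_prime {E : Type u} [Group E] {V : Type u} [CommGroup V] [Finite V]
    (hE : InClass p E) (ρ : E →* Monoid.End V)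
    (hfpf : ∀ z ∈ Subgroup.center E, z ≠ 1 → ∀ v, ρ z v = v → v = 1) (hnt : Nontrivial V)
    (x y : E) (hxy : ⁅y, x⁆ ≠ 1) : Nat.card V ≠ r := by
  intro hcard
  haveI : IsCyclic V := isCyclic_of_prime_card hcard
  obtain ⟨g, hg⟩ := IsCyclic.exists_generator (α := V)
  -- endomorphisms are power maps
  have hpowmap : ∀ f : Monoid.End V, ∃ a : ℤ, ∀ v, f v = v ^ a := by
    intro f
    obtain ⟨a, ha⟩ := Subgroup.mem_zpowers_iff.mp (hg (f g))
    refine ⟨a, fun v => ?_⟩
    obtain ⟨m, hm⟩ := Subgroup.mem_zpowers_iff.mp (hg v)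
    rw [← hm, map_zpow, ← ha, ← zpow_mul, ← zpow_mul, mul_comm]
  obtain ⟨a, ha⟩ := hpowmap (ρ x)
  obtain ⟨b, hb⟩ := hpowmap (ρ y)
  have hcomm : ∀ v, ρ (y * x) v = ρ (x * y) v := by
    intro v
    rw [rho_mul_apply, rho_mul_apply, ha, hb, ha, hb, ← zpow_mul, ← zpow_mul, mul_comm]
  have hcZ : ⁅y, x⁆ ∈ Subgroup.center E := hE.comm_mem y x
  have hyx : y * x = ⁅y, x⁆ * (x * y) := by simp [commutatorElement_def, mul_assoc]
  have hall : ∀ w : V, w = 1 := by
    intro w
    apply hfpf _ hcZ hxy w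
    have h1 := hcomm (ρ (x * y)⁻¹ w)
    rw [hyx, rho_mul_apply, rho_apply_inv] at h1
    exact h1
  obtain ⟨v₁, v₂, hv⟩ := hnt
  exact hv ((hall v₁).trans (hall v₂).symm)

/-- the abstract form of the theorem -/
theorem absCore (hpr : p ≠ r) (n : ℕ) (hn : 1 ≤ n) (hdiv : p ∣ r ^ n - 1)
    (hmin : ∀ k : ℕ, 1 ≤ k → p ∣ r ^ k - 1 → n ≤ k) :
    ∀ (w : ℕ) (E : Type u) [Group E] [Finite E] (V : Type u) [CommGroup V] [Finite V],
      InClass p E → Nat.card E = p ^ (2 * w + 1) → IsPGroup r V →
      ∀ ρ : E →* Monoid.End V, (∀ z ∈ Subgroup.center E, z ≠ 1 → ∀ v, ρ z v = v → v = 1) →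
      Nontrivial V → r ^ (n * p ^ w) ≤ Nat.card V := by
  intro w
  induction w with
  | zero =>
    intro E _ _ V _ _ hE _ hV ρ hfpf hnt
    rw [pow_zero, mul_one]
    exact base n hmin hE hV ρ hfpf hnt
  | succ w ih =>
    intro E _ _ V _ _ hE hcard hV ρ hfpf hnt
    -- the main case: a non-central element of order `p`
    have main : (∃ x : E, x ∉ Subgroup.center E ∧ x ^ p = 1) → r ^ (n * p ^ (w + 1)) ≤ Nat.card V := by
      rintro ⟨x, hxc, hxp⟩
      have hex : ∃ y : E, ⁅y, x⁆ ≠ 1 := by
        by_contra hcon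
        push Not at hcon
        apply hxc
        rw [Subgroup.mem_center_iff]
        intro g
        exact (commutatorElement_eq_one_iff_mul_comm.mp (hcon g))
      obtain ⟨y, hxy⟩ := hex
      have hE₁ := hE.inClass_centralizer x y hxy
      have hcard₁ : Nat.card (Subgroup.centralizer ({x, y} : Set E)) = p ^ (2 * w + 1) := by
        have h1 := hE.card_eq x y hxy
        rw [hcard] at h1
        have h2 : p ^ (2 * (w + 1) + 1) = p ^ 2 * p ^ (2 * w + 1) := by
          rw [← pow_add]; congr 1; omega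
        rw [h2] at h1
        exact (Nat.eq_of_mul_eq_mul_left (pow_pos hp.out.pos 2) h1).symm
      have h3 := step hpr (r ^ (n * p ^ w)) hE hV ρ hfpf hnt x y hxy hxp
        (fun V₀ _ _ hV₀ ρ₀ hfpf₀ hnt₀ => ih _ V₀ hE₁ hcard₁ hV₀ ρ₀ hfpf₀ hnt₀)
      rw [← pow_mul] at h3
      have h4 : n * p ^ w * p = n * p ^ (w + 1) := by rw [pow_succ, mul_assoc]
      rw [h4] at h3
      exact h3
    by_cases hp2 : p = 2
    · by_cases hw : 1 ≤ w
      · subst hp2
        exact main (exists_noncentral_two hE (w + 1) (by omega) hcard)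
      · -- `p = 2`, width one
        have hw0 : w = 0 := by omega
        subst hw0
        have hrodd : Odd r := by
          apply hr.out.odd_of_ne_two
          intro h
          exact hpr (hp2.trans h.symm)
        have hn1 : n = 1 := by
          have h1 : p ∣ r ^ 1 - 1 := by
            rw [hp2, pow_one]
            obtain ⟨k, hk⟩ := hrodd
            exact ⟨k, by omega⟩
          have := hmin 1 le_rfl h1
          omega
        have hlt : p < Nat.card E := by
          rw [hcard]
          calc p = p ^ 1 := (pow_one p).symm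
            _ < p ^ (2 * (0 + 1) + 1) := Nat.pow_lt_pow_right hp.out.one_lt (by norm_num)
        obtain ⟨x, y, hxy⟩ := hE.exists_pair_of_card_lt hlt
        have hne : Nat.card V ≠ r := card_ne_prime hE ρ hfpf hnt x y hxy
        obtain ⟨d, hd⟩ := IsPGroup.iff_card.mp hV
        have hd2 : 2 ≤ d := by
          rcases Nat.lt_or_ge d 2 with h | h
          · exfalso
            interval_cases d
            · rw [pow_zero] at hd
              have := Finite.one_lt_card_iff_nontrivial.mpr hnt
              omega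
            · rw [pow_one] at hd
              exact hne hd
          · exact h
        rw [hn1, hp2, hd]
        exact Nat.pow_le_pow_right hr.out.pos (by norm_num; exact hd2)
    · exact main (exists_noncentral_odd hE hp2 (w + 1) (by omega) hcard)

end Core


section Faithful

variable {p r : ℕ} [hp : Fact p.Prime] [hr : Fact r.Prime]

/-- the theorem for an action in which the centre acts faithfully -/
theorem absFaithful (hpr : p ≠ r) (n : ℕ) (hn : 1 ≤ n) (hdiv : p ∣ r ^ n - 1)
    (hmin : ∀ k : ℕ, 1 ≤ k → p ∣ r ^ k - 1 → n ≤ k)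
    (w : ℕ) (E : Type u) [Group E] [Finite E] (V : Type u) [CommGroup V] [Finite V]
    (hE : InClass p E) (hcard : Nat.card E = p ^ (2 * w + 1)) (hV : IsPGroup r V)
    (ρ : E →* Monoid.End V) (hfaith : ∀ z ∈ Subgroup.center E, z ≠ 1 → ∃ v, ρ z v ≠ v) :
    r ^ (n * p ^ w) ≤ Nat.card V := by
  classical
  have hntZ : Nontrivial (Subgroup.center E) := by
    rw [← Finite.one_lt_card_iff_nontrivial, hE.card_center]
    exact hp.out.one_lt
  obtain ⟨z₀', hz₀'⟩ := exists_ne (1 : Subgroup.center E)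
  set z₀ : E := (z₀' : E) with hz₀def
  have hz₀Z : z₀ ∈ Subgroup.center E := z₀'.2
  have hz₀1 : z₀ ≠ 1 := fun h => hz₀' (Subtype.ext h)
  have hz₀p : z₀ ^ p = 1 := by
    have h1 : z₀' ^ p = 1 := by
      have h0 : z₀' ^ Nat.card (Subgroup.center E) = 1 := pow_card_eq_one'
      rwa [hE.card_center] at h0
    exact congrArg Subtype.val h1
  -- the commutator map
  let κ : V →* V := MonoidHom.mk' (fun v => ρ z₀ v * v⁻¹) (by
    intro a b
    show ρ z₀ (a * b) * (a * b)⁻¹ = ρ z₀ a * a⁻¹ * (ρ z₀ b * b⁻¹)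
    rw [map_mul, mul_inv]
    exact mul_mul_mul_comm _ _ _ _)
  have hκ : ∀ v, κ v = ρ z₀ v * v⁻¹ := fun v => rfl
  set V₁ : Subgroup V := κ.range with hV₁
  have hinv : ∀ e, ∀ v ∈ V₁, ρ e v ∈ V₁ := by
    rintro e v ⟨u, rfl⟩
    refine ⟨ρ e u, ?_⟩
    rw [hκ, hκ, map_mul, map_inv, ← rho_mul_apply, ← rho_mul_apply,
      (Subgroup.mem_center_iff.mp hz₀Z e)]
  -- fixed points of `z₀` on `V₁`
  have hpowfix : ∀ (g : E) (v : V), ρ g v = v → ∀ k : ℕ, ρ (g ^ k) v = v := by
    intro g v hv k
    rw [rho_pow_apply]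
    exact Function.iterate_fixed hv k
  have hcopr : ∀ v : V, v ^ p = 1 → v = 1 := by
    intro v hv
    have h4 : orderOf v ∣ p := orderOf_dvd_of_pow_eq_one hv
    obtain ⟨d, hd⟩ := IsPGroup.iff_card.mp hV
    have h5 : orderOf v ∣ r ^ d := hd ▸ orderOf_dvd_natCard v
    have hcop : (r ^ d).Coprime p := by
      apply Nat.Coprime.pow_left
      exact (Nat.coprime_primes hr.out hp.out).mpr (Ne.symm hpr)
    have h6 : orderOf v = 1 := Nat.eq_one_of_dvd_coprimes hcop h5 h4
    exact orderOf_eq_one_iff.mp h6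
  have key : ∀ v ∈ V₁, ρ z₀ v = v → v = 1 := by
    rintro v ⟨u, rfl⟩ hv
    apply hcopr
    have h1 : ∀ j : ℕ, ρ (z₀ ^ (j + 1)) u / ρ (z₀ ^ j) u = κ u := by
      intro j
      have h2 := hpowfix z₀ (κ u) hv j
      rw [hκ, map_mul, map_inv, ← rho_mul_apply, ← pow_succ] at h2
      rw [div_eq_mul_inv, h2, hκ]
    have h3 := Finset.prod_range_div (fun j => ρ (z₀ ^ j) u) p
    simp only [h1, Finset.prod_const, Finset.card_range] at h3
    rw [h3, hz₀p, pow_zero, rho_one_apply, div_self']
  have hfpf : ∀ z ∈ Subgroup.center E, z ≠ 1 → ∀ v : ↥V₁,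
      (restrictRep ρ V₁ hinv) z v = v → v = 1 := by
    intro z hz hz1 v hv
    have hv' : ρ z (v : V) = v := congrArg Subtype.val hv
    have htop := zpowers_eq_top_of_prime_card (G := Subgroup.center E) hE.card_center
      (g := ⟨z, hz⟩) (fun h => hz1 (congrArg Subtype.val h))
    have hmem : z₀' ∈ Subgroup.zpowers (⟨z, hz⟩ : Subgroup.center E) := by
      rw [htop]; exact Subgroup.mem_top _
    rw [← mem_powers_iff_mem_zpowers] at hmem
    obtain ⟨k, hk⟩ := hmem
    have hk' : z ^ k = z₀ := congrArg Subtype.val hk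
    have h2 := hpowfix z (v : V) hv' k
    rw [hk'] at h2
    exact Subtype.ext (key _ v.2 h2)
  have hnt : Nontrivial ↥V₁ := by
    obtain ⟨v, hv⟩ := hfaith z₀ hz₀Z hz₀1
    rw [Subgroup.nontrivial_iff_ne_bot]
    intro hbot
    have h1 : κ v ∈ V₁ := ⟨v, rfl⟩
    rw [hbot, Subgroup.mem_bot, hκ, mul_inv_eq_one] at h1
    exact hv h1
  have h1 := absCore hpr n hn hdiv hmin w E ↥V₁ hE hcard (hV.to_subgroup V₁)
    (restrictRep ρ V₁ hinv) hfpf hnt
  exact h1.trans (Nat.card_le_card_of_injective _ (Subgroup.subtype_injective V₁))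

end Faithful

section Final

variable {G : Type u} [Group G]

/-- the conjugation action of a normalizing subgroup -/
def conjRep (E A : Subgroup G) (hnorm : E ≤ Subgroup.normalizer (A : Set G)) :
    ↥E →* Monoid.End ↥A where
  toFun e := MonoidHom.mk' (fun a => ⟨(e : G) * a * (e : G)⁻¹,
      (Subgroup.mem_normalizer_iff.mp (hnorm e.2) a).mp a.2⟩) (by
    intro a b
    apply Subtype.ext
    show (e : G) * ((a : G) * (b : G)) * (e : G)⁻¹ = (e : G) * a * (e : G)⁻¹ * ((e : G) * b * (e : G)⁻¹)
    group)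
  map_one' := by
    apply MonoidHom.ext
    intro a
    apply Subtype.ext
    show ((1 : ↥E) : G) * (a : G) * ((1 : ↥E) : G)⁻¹ = a
    simp
  map_mul' e f := by
    apply MonoidHom.ext
    intro a
    apply Subtype.ext
    show ((e * f : ↥E) : G) * (a : G) * ((e * f : ↥E) : G)⁻¹
      = (e : G) * ((f : G) * a * (f : G)⁻¹) * (e : G)⁻¹
    rw [Subgroup.coe_mul, mul_inv_rev]
    group

theorem conjRep_apply (E A : Subgroup G) (hnorm : E ≤ Subgroup.normalizer (A : Set G))
    (e : ↥E) (a : ↥A) :
    ((conjRep E A hnorm e a : ↥A) : G) = (e : G) * a * (e : G)⁻¹ := rfl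


open IsMulCommutative in
/-- Let p and r be distinct primes, let E be an extraspecial subgroup of order p^(2w+1) of a finite group, and let A be an elementary abelian r-subgroup normalized by E on which E acts faithfully (C_E(A) = 1). If n ≥ 1 is least with p dividing rⁿ − 1 (the smallest dimension of a faithful representation of a group of order p over the field with r elements), then the order of A is at least r^(n·p^w). -/
theorem result {G : Type*} [Group G] [Finite G] {p r : ℕ} [Fact p.Prime] [hr : Fact r.Prime] (hpr : p ≠ r) (E A : Subgroup G) (w : ℕ) (hE : Cfsg.IsExtraspecial p ↥E) (hEcard : Nat.card ↥E = p ^ (2 * w + 1)) (hA : Cfsg.IsElementaryAbelian r A) (hnorm : E ≤ Subgroup.normalizer (A : Set G)) (hfaith : E ⊓ Subgroup.centralizer (A : Set G) = ⊥) (n : ℕ) (hn : 1 ≤ n) (hdiv : p ∣ r ^ n - 1) (hmin : ∀ k : ℕ, 1 ≤ k → p ∣ r ^ k - 1 → n ≤ k) : r ^ (n * p ^ w) ≤ Nat.card ↥A := by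
  classical
  haveI : IsMulCommutative ↥A := hA.1
  have hE' : InClass p ↥E := inClass_of_isExtraspecial hE
  have hV : IsPGroup r ↥A := by
    intro a
    refine ⟨1, ?_⟩
    rw [pow_one]
    apply Subtype.ext
    rw [Subgroup.coe_pow, Subgroup.coe_one]
    exact hA.2 a a.2
  apply absFaithful hpr n hn hdiv hmin w ↥E ↥A hE' hEcard hV (conjRep E A hnorm)
  intro z hz hz1
  by_contra hcon
  push Not at hcon
  apply hz1
  have hcent : (z : G) ∈ Subgroup.centralizer (A : Set G) := by
    rw [Subgroup.mem_centralizer_iff]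
    intro a ha
    have h1 := congrArg Subtype.val (hcon ⟨a, ha⟩)
    rw [conjRep_apply] at h1
    have h2 : (z : G) * a * (z : G)⁻¹ = a := h1
    calc a * (z : G) = ((z : G) * a * (z : G)⁻¹) * z := by rw [h2]
      _ = z * a := by group
  have hmem : (z : G) ∈ E ⊓ Subgroup.centralizer (A : Set G) := ⟨z.2, hcent⟩
  rw [hfaith, Subgroup.mem_bot] at hmem
  exact Subtype.ext hmem

end Final


end Cfsg.Agent.S2912
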