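import Mathlib
import Cfsg.Agent.Helper2.CharPLocal
import Cfsg.Agent.Helper5.CharP
import Cfsg.Agent.Helper5.CharP2
import Cfsg.Statements.S2922
-- import your own Cfsg.Agent.* helpers here

set_option autoImplicit false
open Cfsg Cfsg.Agent.Helper5 Cfsg.Agent.Helper2

namespace Cfsg.Agent.S2922

/-- Let p be a prime, X a finite group, B a p-subgroup of X and C a normal subgroup of B. If N_X(C) has characteristic p (its generalized Fitting subgroup is O_p(N_X(C))), then N_X(B) and C_X(B) have characteristic p. -/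
theorem result {X : Type*} [Group X] [Finite X] {p : ℕ} [Fact p.Prime] (B C : Subgroup X) (hB : IsPGroup p ↥B) (hCB : C ≤ B) (hCn : (C.subgroupOf B).Normal) (hC : Cfsg.generalizedFittingSubgroup ↥(Subgroup.normalizer (C : Set X)) = Cfsg.pCore p ↥(Subgroup.normalizer (C : Set X))) : Cfsg.generalizedFittingSubgroup ↥(Subgroup.normalizer (B : Set X)) = Cfsg.pCore p ↥(Subgroup.normalizer (B : Set X)) ∧ Cfsg.generalizedFittingSubgroup ↥(Subgroup.centralizer (B : Set X)) = Cfsg.pCore p ↥(Subgroup.centralizer (B : Set X)) := by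
  classical
  have hBH : B ≤ Subgroup.normalizer (C : Set X) :=
    (Subgroup.normal_subgroupOf_iff_le_normalizer hCB).mp hCn
  have hH : HasCharP p ↥(Subgroup.normalizer (C : Set X)) :=
    (generalizedFittingSubgroup_eq_pCore_iff p).mp hC
  have hHN : HasCharP p ↥(Subgroup.normalizer (C : Set X) ⊓ Subgroup.normalizer (B : Set X)) :=
    hasCharP_inf_normalizer _ B hBH hB hH
  have hKC : Subgroup.centralizer (B : Set X) ≤ Subgroup.normalizer (C : Set X) :=
    le_trans (Subgroup.centralizer_le (SetLike.coe_subset_coe.mpr hCB))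
      (Subgroup.centralizer_le_normalizer _)
  have hKN : Subgroup.centralizer (B : Set X) ≤ Subgroup.normalizer (B : Set X) :=
    Subgroup.centralizer_le_normalizer _
  have hNK : Subgroup.normalizer (B : Set X) ≤
      Subgroup.normalizer ((Subgroup.centralizer (B : Set X) : Subgroup X) : Set X) :=
    normalizer_le_normalizer_centralizer B
  have hK : HasCharP p ↥(Subgroup.centralizer (B : Set X)) :=
    hasCharP_of_le_normalizer _ _ (le_inf hKC hKN) (le_trans inf_le_right hNK) hHN
  refine ⟨?_, (generalizedFittingSubgroup_eq_pCore_iff p).mpr hK⟩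
  rw [generalizedFittingSubgroup_eq_pCore_iff]
  intro c hc
  rw [mem_centralizer_pCore_iff] at hc
  have hBle : B ≤ (Cfsg.pCore p ↥(Subgroup.normalizer (B : Set X))).map (Subgroup.normalizer (B : Set X)).subtype :=
    le_pCore_map_subtype _ B Subgroup.le_normalizer hB le_rfl
  have hcK : (c : X) ∈ Subgroup.centralizer (B : Set X) :=
    Subgroup.centralizer_le (SetLike.coe_subset_coe.mpr hBle) hc
  have hOpK : (Cfsg.pCore p ↥(Subgroup.centralizer (B : Set X))).map (Subgroup.centralizer (B : Set X)).subtype ≤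
      (Cfsg.pCore p ↥(Subgroup.normalizer (B : Set X))).map (Subgroup.normalizer (B : Set X)).subtype :=
    le_pCore_of_normal_in_normal _ (Subgroup.centralizer (B : Set X)) _ hKN hNK
      (pCore_map_subtype_le p _) (isPGroup_pCore_map_subtype p _) (le_normalizer_pCore_map_subtype p _)
  have hc' : (⟨(c : X), hcK⟩ : ↥(Subgroup.centralizer (B : Set X))) ∈
      Subgroup.centralizer (Cfsg.pCore p ↥(Subgroup.centralizer (B : Set X)) : Set ↥(Subgroup.centralizer (B : Set X))) := by
    rw [mem_centralizer_pCore_iff]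
    exact Subgroup.centralizer_le (SetLike.coe_subset_coe.mpr hOpK) hc
  have h4 := hK hc'
  have h5 : (c : X) ∈ (Cfsg.pCore p ↥(Subgroup.normalizer (B : Set X))).map (Subgroup.normalizer (B : Set X)).subtype :=
    hOpK ⟨⟨(c : X), hcK⟩, h4, rfl⟩
  obtain ⟨c'', hc'', hcc⟩ := h5
  have : c'' = c := Subtype.ext hcc
  rwa [this] at hc''

end Cfsg.Agent.S2922
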