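import Mathlib
import Cfsg.Agent.Helper2.Layer
import Cfsg.Agent.Helper1.Subnormal
import Cfsg.Agent.Helper1.Coprime
import Cfsg.Statements.S2925
-- import your own Cfsg.Agent.* helpers here

set_option autoImplicit false
open Cfsg
open scoped Pointwise commutatorElement

namespace Cfsg.Agent.S2925

/-- Let K be a component of the finite group X and T a Sylow 2-subgroup of X. If some abelian normal subgroup Y of T does not normalize K, then K ⧸ Z(K) has abelian Sylow 2-subgroups. -/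
theorem result {X : Type*} [Group X] [Finite X] (K : Subgroup X) (hK : Cfsg.IsComponent K) (T : Sylow 2 X) (Y : Subgroup X) (hYT : Y ≤ (T : Subgroup X)) (hYn : (Y.subgroupOf (T : Subgroup X)).Normal) (hYab : IsMulCommutative ↥Y) (hnot : ¬ Y ≤ Subgroup.normalizer (K : Set X)) (P : Sylow 2 (↥K ⧸ Subgroup.center ↥K)) : IsMulCommutative ↥(P : Subgroup (↥K ⧸ Subgroup.center ↥K)) := by
  classical
  obtain ⟨y, hyY, hyN⟩ : ∃ y ∈ Y, y ∉ Subgroup.normalizer (K : Set X) := by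
    by_contra h
    push Not at h
    exact hnot (fun y hy => h y hy)
  set K' := K.map (MulAut.conj y).toMonoidHom with hK'
  have hK'c : Cfsg.IsComponent K' := Cfsg.Agent.Helper2.isComponent_map_equiv (MulAut.conj y) hK
  have hne : K ≠ K' := by
    intro h
    apply hyN
    apply Cfsg.Agent.Helper1.mem_normalizer_of_conj_smul_eq
    exact h.symm
  have hcomm := Cfsg.Agent.Helper2.components_commute hK hK'c hne
  have hcomm' : ∀ a ∈ K, ∀ b ∈ K', a * b = b * a := by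
    intro a ha b hb
    have h1 := Subgroup.commutator_mem_commutator ha hb
    rw [hcomm, Subgroup.mem_bot] at h1
    exact commutatorElement_eq_one_iff_mul_comm.mp h1
  have key : ∀ u ∈ (T : Subgroup X) ⊓ K, ∀ v ∈ (T : Subgroup X) ⊓ K, ∀ k ∈ K,
      (u⁻¹ * v⁻¹ * u * v) * k = k * (u⁻¹ * v⁻¹ * u * v) := by
    rintro u ⟨huT, huK⟩ v ⟨hvT, hvK⟩ k hk
    have hconjY : ∀ w ∈ (T : Subgroup X), w * (y * w⁻¹ * y⁻¹) ∈ Y := by
      intro w hw
      have h1 := hYn.conj_mem ⟨y, hYT hyY⟩ (Subgroup.mem_subgroupOf.mpr hyY) ⟨w, hw⟩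
      rw [Subgroup.mem_subgroupOf] at h1
      have h2 : w * y * w⁻¹ ∈ Y := h1
      have h3 : w * (y * w⁻¹ * y⁻¹) = (w * y * w⁻¹) * y⁻¹ := by group
      rw [h3]; exact Y.mul_mem h2 (Y.inv_mem hyY)
    have hcu := hconjY u huT
    have hcv := hconjY v hvT
    have hYc := hYab.is_comm.comm ⟨_, hcu⟩ ⟨_, hcv⟩
    have hYc' : (u * (y * u⁻¹ * y⁻¹)) * (v * (y * v⁻¹ * y⁻¹)) =
        (v * (y * v⁻¹ * y⁻¹)) * (u * (y * u⁻¹ * y⁻¹)) := congrArg Subtype.val hYc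
    have hu' : y * u⁻¹ * y⁻¹ ∈ K' := ⟨u⁻¹, K.inv_mem huK, by simp [MulAut.conj_apply]⟩
    have hv' : y * v⁻¹ * y⁻¹ ∈ K' := ⟨v⁻¹, K.inv_mem hvK, by simp [MulAut.conj_apply]⟩
    generalize y * u⁻¹ * y⁻¹ = u' at hu' hYc'
    generalize y * v⁻¹ * y⁻¹ = v' at hv' hYc'
    have e1 : u * v * (u' * v') = v * u * (v' * u') := by
      calc u * v * (u' * v') = u * (v * u') * v' := by group
        _ = u * (u' * v) * v' := by rw [hcomm' v hvK u' hu']
        _ = (u * u') * (v * v') := by group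
        _ = (v * v') * (u * u') := hYc'
        _ = v * (v' * u) * u' := by group
        _ = v * (u * v') * u' := by rw [← hcomm' u huK v' hv']
        _ = v * u * (v' * u') := by group
    have e2 : u⁻¹ * v⁻¹ * u * v = v' * u' * v'⁻¹ * u'⁻¹ := by
      calc u⁻¹ * v⁻¹ * u * v = (v * u)⁻¹ * (u * v * (u' * v')) * (u' * v')⁻¹ := by group
        _ = (v * u)⁻¹ * (v * u * (v' * u')) * (u' * v')⁻¹ := by rw [e1]
        _ = v' * u' * v'⁻¹ * u'⁻¹ := by group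
    have hw : u⁻¹ * v⁻¹ * u * v ∈ K' := by
      rw [e2]
      exact K'.mul_mem (K'.mul_mem (K'.mul_mem hv' hu') (K'.inv_mem hv')) (K'.inv_mem hu')
    exact (hcomm' k hk _ hw).symm
  obtain ⟨Q, hQ⟩ := Cfsg.Agent.Helper1.sylow_inf_subnormal 2 K hK.1 T
  have hπ : Function.Surjective (QuotientGroup.mk' (Subgroup.center ↥K)) :=
    QuotientGroup.mk'_surjective _
  have hQ'comm : ∀ a ∈ ((Q.mapSurjective hπ : Sylow 2 (↥K ⧸ Subgroup.center ↥K)) :
      Subgroup (↥K ⧸ Subgroup.center ↥K)), ∀ b ∈ ((Q.mapSurjective hπ : Sylow 2 (↥K ⧸ Subgroup.center ↥K)) :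
      Subgroup (↥K ⧸ Subgroup.center ↥K)), a * b = b * a := by
    intro a ha b hb
    rw [Sylow.coe_mapSurjective] at ha hb
    obtain ⟨a₀, ha₀, rfl⟩ := ha
    obtain ⟨b₀, hb₀, rfl⟩ := hb
    have ha₁ : a₀ ∈ (T : Subgroup X).subgroupOf K := by rw [← hQ]; exact ha₀
    have hb₁ : b₀ ∈ (T : Subgroup X).subgroupOf K := by rw [← hQ]; exact hb₀
    rw [Subgroup.mem_subgroupOf] at ha₁ hb₁
    have hc : a₀⁻¹ * b₀⁻¹ * a₀ * b₀ ∈ Subgroup.center ↥K := by
      rw [Subgroup.mem_center_iff]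
      intro k
      apply Subtype.ext
      simp only [Subgroup.coe_mul, Subgroup.coe_inv]
      exact (key a₀ ⟨ha₁, a₀.2⟩ b₀ ⟨hb₁, b₀.2⟩ k k.2).symm
    have h1 := (QuotientGroup.eq_one_iff _).mpr hc
    simp only [QuotientGroup.mk_mul, QuotientGroup.mk_inv] at h1
    simp only [QuotientGroup.mk'_apply]
    calc (a₀ : ↥K ⧸ Subgroup.center ↥K) * b₀
        = b₀ * a₀ * ((a₀ : ↥K ⧸ Subgroup.center ↥K)⁻¹ * (b₀ : ↥K ⧸ Subgroup.center ↥K)⁻¹ * a₀ * b₀) := by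
          group
      _ = b₀ * a₀ := by rw [h1, mul_one]
  obtain ⟨g, hg⟩ := MulAction.exists_smul_eq (↥K ⧸ Subgroup.center ↥K) (Q.mapSurjective hπ) P
  have hg' : ((Q.mapSurjective hπ : Sylow 2 (↥K ⧸ Subgroup.center ↥K)) :
      Subgroup (↥K ⧸ Subgroup.center ↥K)).map (MulAut.conj g).toMonoidHom = (P : Subgroup _) := by
    rw [← hg]; rfl
  refine ⟨⟨fun a b => ?_⟩⟩
  have ha : (a : ↥K ⧸ Subgroup.center ↥K) ∈ ((Q.mapSurjective hπ : Sylow 2 (↥K ⧸ Subgroup.center ↥K)) :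
      Subgroup (↥K ⧸ Subgroup.center ↥K)).map (MulAut.conj g).toMonoidHom := by rw [hg']; exact a.2
  have hb : (b : ↥K ⧸ Subgroup.center ↥K) ∈ ((Q.mapSurjective hπ : Sylow 2 (↥K ⧸ Subgroup.center ↥K)) :
      Subgroup (↥K ⧸ Subgroup.center ↥K)).map (MulAut.conj g).toMonoidHom := by rw [hg']; exact b.2
  obtain ⟨a₁, ha₁, hae⟩ := ha
  obtain ⟨b₁, hb₁, hbe⟩ := hb
  apply Subtype.ext
  rw [Subgroup.coe_mul, Subgroup.coe_mul, ← hae, ← hbe, ← map_mul, ← map_mul, hQ'comm a₁ ha₁ b₁ hb₁]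

end Cfsg.Agent.S2925
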