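import Mathlib
import Cfsg.Statements.S2928
import Cfsg.Agent.Helper8.TtJ
import Cfsg.Agent.Helper8.JdC

set_option autoImplicit false
open Cfsg

namespace Cfsg.Agent.S2928

open scoped Pointwise

/-- Let n ≥ 8 and let H be a subgroup of the symmetric group of degree n whose generalized Fitting subgroup F*(H) is quasisimple. If H contains a Sylow 2-subgroup of the alternating group of degree n, then F*(H) is isomorphic to an alternating group of degree m for some m ∈ {n − 3, n − 2, n − 1, n}. -/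
theorem result (n : ℕ) (hn : 8 ≤ n) (H : Subgroup (Equiv.Perm (Fin n))) (hF : Cfsg.IsQuasisimple ↥(Cfsg.generalizedFittingSubgroup ↥H)) (hS : ∃ P : Sylow 2 ↥(alternatingGroup (Fin n)), ((P : Subgroup ↥(alternatingGroup (Fin n))).map (alternatingGroup (Fin n)).subtype) ≤ H) : ∃ m : ℕ, (m = n - 3 ∨ m = n - 2 ∨ m = n - 1 ∨ m = n) ∧ Nonempty (↥(Cfsg.generalizedFittingSubgroup ↥H) ≃* ↥(alternatingGroup (Fin m))) := by
  classical
  obtain ⟨P, hP⟩ := hS
  set F := Cfsg.generalizedFittingSubgroup ↥H with hFdef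
  set K := F.map H.subtype with hKdef
  have hs : Cfsg.Agent.Helper8.Tt.Setup H K := Cfsg.Agent.Helper8.Tt.setup_of_quasisimple H hF
  have eFK : ↥F ≃* ↥K := F.equivMapOfInjective H.subtype H.subtype_injective
  obtain ⟨g, hg⟩ := Cfsg.Agent.Helper8.Tt.exists_tets_of_sylow P H hP
  have h0 : 4 * 0 + 3 < n := by omega
  have h1 : 4 * 1 + 3 < n := by omega
  have hB₁ := hg 0 h0
  have hB₂ := hg 1 h1
  have hdisj : Disjoint (g • Cfsg.Agent.Helper8.Tt.blk 0 h0) (g • Cfsg.Agent.Helper8.Tt.blk 1 h1) := by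
    rw [Finset.disjoint_left]
    intro z hz hz'
    rw [← Finset.inv_smul_mem_iff, Cfsg.Agent.Helper8.Tt.mem_blk] at hz hz'
    omega
  -- a three-cycle of `H`, not centralizing `K`
  obtain ⟨c, hcH, hc3⟩ := hs.exists_three_cycle hB₁ hB₂ hdisj
  have hcn : ¬ ∀ k ∈ K, k * c = c * k := by
    intro hcen
    exact Cfsg.Agent.Helper8.Jd.perfect_not_centralize K hs.hq.1 c hc3
      (hs.hmemK c hcH hcen) hcen
  obtain ⟨m, Δ, hΔm, hmove, hfix, _, ⟨e⟩⟩ :=
    Cfsg.Agent.Helper8.Jd.exists_alt K H hs.hn hs.hKH hs.hq c hcH hc3 hcn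
  -- the support of `K` lies in `Δ`
  have hsuppΔ : Cfsg.Agent.Helper8.Tt.supp K ⊆ Δ := by
    intro z hz
    rw [Cfsg.Agent.Helper8.Tt.mem_supp] at hz
    obtain ⟨k, hk, hkz⟩ := hz
    by_contra hzΔ
    exact hkz (hfix k hk z hzΔ)
  -- the points of the standard blocks
  have hle : 4 * (n / 4) ≤ n := Nat.mul_div_le n 4
  have hT : (Finset.univ.map (Fin.castLEEmb hle)).map g.toEmbedding ⊆ Δ := by
    intro y hy
    rw [Finset.mem_map] at hy
    obtain ⟨z, hz, rfl⟩ := hy
    rw [Finset.mem_map] at hz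
    obtain ⟨i, _, rfl⟩ := hz
    have hi : (Fin.castLEEmb hle i).val = i.val := rfl
    have hj : 4 * (i.val / 4) + 3 < n := by
      have := i.2
      omega
    apply hsuppΔ
    apply (hs.main (hg (i.val / 4) hj)).1
    change g (Fin.castLEEmb hle i) ∈ _
    rw [← Equiv.Perm.smul_def, Finset.smul_mem_smul_finset_iff, Cfsg.Agent.Helper8.Tt.mem_blk, hi]
  have h1 : n - 3 ≤ m := by
    rw [← hΔm]
    have := Finset.card_le_card hT
    rw [Finset.card_map, Finset.card_map, Finset.card_univ, Fintype.card_fin] at this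
    omega
  have h2 : m ≤ n := by
    rw [← hΔm]
    have := Finset.card_le_univ Δ
    simpa using this
  refine ⟨m, by omega, ⟨eFK.trans e⟩⟩

end Cfsg.Agent.S2928
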