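import Mathlib
import Cfsg.Statements.S2929
import Cfsg.Agent.Helper2.Layer3
import Cfsg.Agent.Helper2.Component
import Cfsg.Agent.Helper8.JdC
import Cfsg.Agent.Helper8.JdD

set_option autoImplicit false
open Cfsg

namespace Cfsg.Agent.S2929

/-- Let n ≥ 5 and let H be a subgroup of the symmetric group of degree n whose generalized Fitting subgroup F*(H) is quasisimple. If H contains a Sylow 3-subgroup of the symmetric group, then F*(H) is isomorphic to an alternating group of degree m for some m ∈ {n − 2, n − 1, n}. -/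
theorem result (n : ℕ) (hn : 5 ≤ n) (H : Subgroup (Equiv.Perm (Fin n))) (hF : Cfsg.IsQuasisimple ↥(Cfsg.generalizedFittingSubgroup ↥H)) (hS : ∃ P : Sylow 3 (Equiv.Perm (Fin n)), (P : Subgroup (Equiv.Perm (Fin n))) ≤ H) : ∃ m : ℕ, (m = n - 2 ∨ m = n - 1 ∨ m = n) ∧ Nonempty (↥(Cfsg.generalizedFittingSubgroup ↥H) ≃* ↥(alternatingGroup (Fin m))) := by
  classical
  obtain ⟨P, hP⟩ := hS
  set F := Cfsg.generalizedFittingSubgroup ↥H with hFdef
  set K := F.map H.subtype with hKdef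
  have hFn : F.Normal := inferInstance
  have hKH : K ≤ H := Subgroup.map_subtype_le F
  have hn : ∀ h ∈ H, ∀ k ∈ K, h * k * h⁻¹ ∈ K := by
    rintro h hh k ⟨f, hf, rfl⟩
    exact ⟨⟨h, hh⟩ * f * ⟨h, hh⟩⁻¹, hFn.conj_mem f hf ⟨h, hh⟩, rfl⟩
  have eFK : ↥F ≃* ↥K := F.equivMapOfInjective H.subtype H.subtype_injective
  have hq : Cfsg.IsQuasisimple ↥K := Cfsg.Agent.Helper2.isQuasisimple_of_mulEquiv eFK hF
  -- elements of `H` centralizing `K` lie in `K`
  have hmemK : ∀ c ∈ H, (∀ k ∈ K, k * c = c * k) → c ∈ K := by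
    intro c hc hcen
    have h1 : (⟨c, hc⟩ : ↥H) ∈ Subgroup.centralizer (F : Set ↥H) := by
      rw [Subgroup.mem_centralizer_iff]
      intro f hf
      apply Subtype.ext
      exact hcen _ ⟨f, hf, rfl⟩
    have h2 := Cfsg.Agent.Helper2.centralizer_generalizedFittingSubgroup_le h1
    exact ⟨⟨c, hc⟩, h2, rfl⟩
  obtain ⟨T, hTcard, hT⟩ := Cfsg.Agent.Helper8.Jd.exists_moved_of_sylow P
  -- a three-cycle of `H` not centralizing `K`
  obtain ⟨c, hcH, hc3, hcn⟩ : ∃ c ∈ H, c.IsThreeCycle ∧ ¬ ∀ k ∈ K, k * c = c * k := by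
    have hTne : T.Nonempty := by
      rw [← Finset.card_pos]; omega
    obtain ⟨x, hx⟩ := hTne
    obtain ⟨c₀, hc₀P, hc₀3, _⟩ := hT x hx
    refine ⟨c₀, hP hc₀P, hc₀3, ?_⟩
    intro hcen
    exact Cfsg.Agent.Helper8.Jd.perfect_not_centralize K hq.1 c₀ hc₀3
      (hmemK c₀ (hP hc₀P) hcen) hcen
  obtain ⟨m, Δ, hΔm, hmove, hfix, _, ⟨e⟩⟩ :=
    Cfsg.Agent.Helper8.Jd.exists_alt K H hn hKH hq c hcH hc3 hcn
  have hTΔ : T ⊆ Δ := by
    intro x hx
    obtain ⟨c', hc'P, hc'3, hc'x⟩ := hT x hx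
    by_contra hxΔ
    by_cases hcen : ∀ k ∈ K, k * c' = c' * k
    · exact hc'x (hfix c' (hmemK c' (hP hc'P) hcen) x hxΔ)
    · obtain ⟨m', Δ', _, hmove', _, hsupp', _⟩ :=
        Cfsg.Agent.Helper8.Jd.exists_alt K H hn hKH hq c' (hP hc'P) hc'3 hcen
      obtain ⟨k, hk, hkx⟩ := hmove' x (hsupp' x hc'x)
      exact hkx (hfix k hk x hxΔ)
  have h1 : n - 2 ≤ m := by
    rw [← hΔm]
    exact hTcard.trans (Finset.card_le_card hTΔ)
  have h2 : m ≤ n := by
    rw [← hΔm]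
    have := Finset.card_le_univ Δ
    simpa using this
  refine ⟨m, by omega, ⟨eFK.trans e⟩⟩

end Cfsg.Agent.S2929
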