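import Cfsg.Statements.S2933
import Cfsg.Agent.Helper5.FourTE
import Cfsg.Agent.S1237
import Cfsg.Agent.Helper2.Ord64C
import Cfsg.Agent.Helper2.Ord64D
import Cfsg.Agent.Helper2.Ord64E

set_option autoImplicit false
open Cfsg

namespace Cfsg.Agent.S2933

/-- Let T be a 2-subgroup of a finite group G, V ≤ Z(T) a four-group, and t, ρ ∈ N_G(V) ∩ N_G(T) elements of order 2 and 3 with t commuting with ρ and with V. If [V, ρ] = V and C_T(t) = V, then T is elementary abelian of order 16, or homocyclic of rank 2 (ℤ/2ⁿ × ℤ/2ⁿ for some n ≥ 1), or isomorphic to a Sylow 2-subgroup of PSL₃(4) or of PSU₃(4). -/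
theorem result {G : Type*} [Group G] [Finite G] (T V : Subgroup G) (hT : IsPGroup 2 ↥T) (hVT : V ≤ T ⊓ Subgroup.centralizer (T : Set G)) (hV : Nat.card ↥V = 4 ∧ ∀ v ∈ V, v ^ 2 = 1) (t ρ : G) (ht : orderOf t = 2) (hρ : orderOf ρ = 3) (htn : t ∈ Subgroup.normalizer (V : Set G) ⊓ Subgroup.normalizer (T : Set G)) (hρn : ρ ∈ Subgroup.normalizer (V : Set G) ⊓ Subgroup.normalizer (T : Set G)) (htρ : t * ρ = ρ * t) (htV : t ∈ Subgroup.centralizer (V : Set G)) (hVρ : ⁅V, Subgroup.zpowers ρ⁆ = V) (hCt : T ⊓ Subgroup.centralizer ({t} : Set G) = V) : (Nat.card ↥T = 16 ∧ ∀ x ∈ T, x ^ 2 = 1) ∨ (∃ n : ℕ, 1 ≤ n ∧ Nonempty (↥T ≃* Multiplicative (ZMod (2 ^ n)) × Multiplicative (ZMod (2 ^ n)))) ∨ (∃ (F : Type) (_ : Field F) (_ : Fintype F), Fintype.card F = 4 ∧ ∀ P : Sylow 2 (Matrix.ProjectiveSpecialLinearGroup (Fin 3) F), Nonempty (↥T ≃* ↥(P : Subgroup (Matrix.ProjectiveSpecialLinearGroup (Fin 3) F)))) ∨ (∃ (F : Type) (_ : Field F) (_ : Fintype F), Fintype.card F = 16 ∧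 ∀ P : Sylow 2 (Cfsg.PSU 3 F 4), Nonempty (↥T ≃* ↥(P : Subgroup (Cfsg.PSU 3 F 4)))) := by
  classical
  have r := Cfsg.Agent.Helper5.FourT.raw_of T V hT hVT hV t ρ ht hρ htn.2 hρn.2 htρ hVρ hCt
  have c := r.cfg
  have p := c.pre
  rcases Cfsg.Agent.Helper5.FourT.main_abs c with hall | ⟨h16, hsq⟩ | ⟨h64, a, ha, haZ⟩
  · -- all involutions lie in `V`: rank two
    right
    have h2 : Cfsg.PRankLE 2 2 ↥T := by
      intro A _ hA
      have hle : A ≤ V.subgroupOf T := by
        intro x hx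
        apply hall
        have h := hA x hx
        rwa [pow_two] at h
      calc Nat.card A ≤ Nat.card (V.subgroupOf T) := Subgroup.card_le_of_le hle
        _ = 2 ^ 2 := by rw [p.card_V]; norm_num
    have h1 : ¬ Cfsg.PRankLE 2 1 ↥T := by
      intro h
      have hcomm : IsMulCommutative (V.subgroupOf T) :=
        ⟨⟨fun x y => Subtype.ext (c.cen x x.2 y)⟩⟩
      have h' := h (V.subgroupOf T) hcomm (fun v hv => by rw [pow_two]; exact p.sq v hv)
      rw [p.card_V] at h'
      norm_num at h'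
    have htrans : ∀ s u : ↥T, orderOf s = 2 → orderOf u = 2 →
        ∃ k : ℕ, ((Cfsg.Agent.Helper5.FourT.cAut T ρ hρn.2) ^ k) s = u := by
      intro s u hs hu
      have hs2 : s * s = 1 := by
        have h := pow_orderOf_eq_one s
        rwa [hs, pow_two] at h
      have hu2 : u * u = 1 := by
        have h := pow_orderOf_eq_one u
        rwa [hu, pow_two] at h
      have hs1 : s ≠ 1 := by
        intro h
        rw [h, orderOf_one] at hs
        norm_num at hs
      have hu1 : u ≠ 1 := by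
        intro h
        rw [h, orderOf_one] at hu
        norm_num at hu
      rcases p.four_of (hall s hs2) hs1 u (hall u hu2) with h | h | h | h
      · exact absurd h hu1
      · exact ⟨0, by rw [pow_zero, MulAut.one_apply, h]⟩
      · exact ⟨1, by rw [pow_one, h]⟩
      · exact ⟨2, by rw [pow_two, MulAut.mul_apply, h]⟩
    by_cases hhom : ∃ n : ℕ, 1 ≤ n ∧
        Nonempty (↥T ≃* Multiplicative (ZMod (2 ^ n) × ZMod (2 ^ n)))
    · left
      obtain ⟨n, hn, ⟨e⟩⟩ := hhom
      exact ⟨n, hn, ⟨e.trans (MulEquiv.prodMultiplicative _ _)⟩⟩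
    · right; right
      have : Fact (Nat.Prime 2) := ⟨Nat.prime_two⟩
      let _ : Fintype (GaloisField 2 4) := Fintype.ofFinite _
      have hF : Fintype.card (GaloisField 2 4) = 16 := by
        rw [← Nat.card_eq_fintype_card, GaloisField.card 2 4 (by norm_num)]
        norm_num
      refine ⟨GaloisField 2 4, inferInstance, inferInstance, hF, fun P => ?_⟩
      rcases Cfsg.Agent.S1237.result hT h2 h1 (Cfsg.Agent.Helper5.FourT.cAut T ρ hρn.2)
        htrans hF P with h | h
      · exact absurd h hhom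
      · exact h
  · -- elementary abelian of order 16
    left
    refine ⟨h16, fun x hx => ?_⟩
    have h := congrArg Subtype.val (hsq ⟨x, hx⟩)
    rw [pow_two]
    exact h
  · -- order 64, with a non-central involution
    right; right; left
    have hFP : Cfsg.Agent.Helper2.Ord64.FP (Cfsg.Agent.Helper5.FourT.cAut T ρ hρn.2) := by
      refine ⟨h64, ?_, p.rho3, fun y hy => p.fpf hy⟩
      by_contra hc
      push Not at hc
      apply haZ
      rw [Subgroup.mem_center_iff]
      intro g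
      exact hc g a
    obtain ⟨b, hb, hbM⟩ := Cfsg.Agent.Helper2.Ord64.exists_invol2 hFP ha haZ
    obtain ⟨e⟩ := Cfsg.Agent.Helper2.Ord64.exists_iso hFP ha haZ hb hbM
    obtain ⟨S, ⟨e2⟩⟩ :=
      Cfsg.Agent.Helper2.Ord64.Heis.exists_sylow Cfsg.Agent.Helper7.F4Mat.F4.card
    have : Fact (Nat.Prime 2) := ⟨Nat.prime_two⟩
    refine ⟨Cfsg.Agent.Helper7.F4Mat.F4, inferInstance, inferInstance,
      Cfsg.Agent.Helper7.F4Mat.F4.card, fun P => ?_⟩
    exact ⟨e.symm.trans (e2.trans (Sylow.equiv S P))⟩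

end Cfsg.Agent.S2933
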