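import Mathlib
import Cfsg.Statements.S2934
import Cfsg.Agent.Helper8.QEI
import Cfsg.Agent.Helper3.ExtraCore

set_option autoImplicit false
open Cfsg

namespace Cfsg.Agent.S2934

/-- Let p be an odd prime, W a finite 2-group and E a non-cyclic abelian p-subgroup of Aut(W) such that, for every nontrivial e ∈ E, the fixed points of e in W contain at most one involution. Then E has order 9, W is extraspecial of order 2⁵, 2⁷ or 2⁹, and the common fixed points of E in W form exactly the centre Z(W). -/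
theorem result {W : Type*} [Group W] [Finite W] (hW : IsPGroup 2 W) {p : ℕ} [Fact p.Prime] (hp : p ≠ 2) (E : Subgroup (MulAut W)) (hE : IsPGroup p ↥E) (hab : IsMulCommutative ↥E) (hnc : ¬ IsCyclic ↥E) (hfix : ∀ e ∈ E, e ≠ 1 → ∀ x y : W, orderOf x = 2 → orderOf y = 2 → e x = x → e y = y → x = y) : Nat.card ↥E = 9 ∧ Cfsg.IsExtraspecial 2 W ∧ (Nat.card W = 2 ^ 5 ∨ Nat.card W = 2 ^ 7 ∨ Nat.card W = 2 ^ 9) ∧ {x : W | ∀ e ∈ E, e x = x} = (Subgroup.center W : Set W) := by
  have H0 : Cfsg.Agent.Helper8.QE.Hyp p E :=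
    { hW := hW, hp := hp, hE := hE
      hab := fun a ha b hb =>
        congrArg Subtype.val (hab.is_comm.comm (⟨a, ha⟩ : ↥E) ⟨b, hb⟩)
      hnc := hnc, hfix := hfix }
  obtain ⟨-, H⟩ := H0.toHyp3
  obtain ⟨k, hk2, hk4, hcard⟩ := H.card_W
  have hcen := H.center_eq
  refine ⟨H.card_E, ?_, ?_, ?_⟩
  · have hin : Cfsg.Agent.Helper3.Extra.InClass 2 W :=
      { card_center := by rw [hcen]; exact H.cardCE
        comm_mem := H.comm_mem
        pow_mem := H.sq_mem }
    apply hin.isExtraspecial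
    rw [hcard]
    have : 4 ^ 2 ≤ 4 ^ k := Nat.pow_le_pow_right (by norm_num) hk2
    omega
  · interval_cases k
    · left; rw [hcard]; norm_num
    · right; left; rw [hcard]; norm_num
    · right; right; rw [hcard]; norm_num
  · rw [hcen]; rfl

end Cfsg.Agent.S2934
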