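import Mathlib
import Cfsg.Agent.Helper5.SylowCtrl
import Cfsg.Statements.S2939
-- import your own Cfsg.Agent.* helpers here

set_option autoImplicit false
open Cfsg Cfsg.Agent.Helper5

namespace Cfsg.Agent.S2939

/-- partial products -/
noncomputable def pp {G : Type*} [Group G] {n : ℕ} (y : Fin n → G) (k : ℕ) : G :=
  ((List.ofFn y).take k).prod

theorem pp_zero {G : Type*} [Group G] {n : ℕ} (y : Fin n → G) : pp y 0 = 1 := by
  simp [pp]

theorem pp_succ {G : Type*} [Group G] {n : ℕ} (y : Fin n → G) (k : ℕ) (hk : k < n) :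
    pp y (k + 1) = pp y k * y ⟨k, hk⟩ := by
  unfold pp
  rw [List.prod_take_succ _ _ (by simpa using hk)]
  simp

theorem pp_last {G : Type*} [Group G] {n : ℕ} (y : Fin n → G) : pp y n = (List.ofFn y).prod := by
  unfold pp
  rw [List.take_of_length_le (by simp)]

theorem mem_cr_iff {G : Type*} [Group G] (g a : G) (X : Subgroup G) :
    a ∈ Cfsg.subgroupConjRight g X ↔ g * a * g⁻¹ ∈ X := by
  rw [subgroupConjRight_def, mem_map_conj_iff]
  simp

theorem forward {G : Type*} [Group G] [Finite G] {p : ℕ} [Fact p.Prime]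
    (𝓕 : Set (Subgroup G)) (h𝓕 : Cfsg.IsNormalSet 𝓕) (hc : Cfsg.ControlsSylowIntersections p 𝓕) :
    Cfsg.FamilyStronglyControlsFusion p 𝓕 := by
  classical
  intro S A g hAS hA1 hAg
  set T : Sylow p G := g • S with hT
  have hTc : (T : Subgroup G) = Cfsg.subgroupConjRight g⁻¹ (S : Subgroup G) := by
    rw [subgroupConjRight_def, inv_inv]; rfl
  have hAT : A ⊆ ((T : Subgroup G) : Set G) := by
    intro a ha
    have h1 : g⁻¹ * a * g ∈ (S : Subgroup G) := hAg ⟨a, ha, rfl⟩
    show a ∈ (T : Subgroup G)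
    rw [hTc, mem_cr_iff]
    simpa using h1
  by_cases hST : S = T
  · refine ⟨0, Fin.elim0, Fin.elim0, g, ?_, fun i => i.elim0, ?_, fun i => i.elim0⟩
    · exact Sylow.smul_eq_iff_mem_normalizer.mp hST.symm
    · simp
  · obtain ⟨a, haA, ha1⟩ := hA1
    have hint : (S : Subgroup G) ⊓ (T : Subgroup G) ≠ ⊥ := by
      intro h
      have : a ∈ (S : Subgroup G) ⊓ (T : Subgroup G) := Subgroup.mem_inf.mpr ⟨hAS haA, hAT haA⟩
      rw [h, Subgroup.mem_bot] at this
      exact ha1 this
    obtain ⟨n, c, X, x, hc0, hcl, hcc⟩ := hc S T hST hint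
    -- u
    let x' : ℕ → G := fun k => if h : k < n then x ⟨k, h⟩ else 1
    let u : ℕ → G := fun k => Nat.rec (motive := fun _ => G) 1 (fun j r => x' j * r) k
    have hu0 : u 0 = 1 := rfl
    have hus : ∀ k (hk : k < n), u (k + 1) = x ⟨k, hk⟩ * u k := by
      intro k hk
      show x' k * u k = _
      simp only [x', dif_pos hk]
    -- S_i^{u_i} = S
    have hcu : ∀ i : Fin (n + 1), Cfsg.subgroupConjRight (u i) (c i : Subgroup G) = (S : Subgroup G) := by
      intro i
      induction i using Fin.induction with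
      | zero => rw [hc0]; show Cfsg.subgroupConjRight (u 0) _ = _; rw [hu0, subgroupConjRight_one]
      | succ i ih =>
        obtain ⟨_, _, _, hconj, _⟩ := hcc i
        have h1 : u (i.succ : Fin (n+1)) = x i * u (i.castSucc : Fin (n+1)) := by
          have := hus i.val i.isLt
          simpa using this
        rw [h1, ← subgroupConjRight_mul, hconj, ih]
    let Y : Fin n → Subgroup G := fun i => Cfsg.subgroupConjRight (u i) (X i)
    let y : Fin n → G := fun i => (u i)⁻¹ * x i * u i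
    have hpp : ∀ k, k ≤ n → pp y k = u k := by
      intro k
      induction k with
      | zero => intro _; rw [pp_zero, hu0]
      | succ k ih =>
        intro hk
        rw [pp_succ y k hk, ih (by omega), hus k hk]
        show u k * ((u k)⁻¹ * x ⟨k, hk⟩ * u k) = _
        group
    refine ⟨n, Y, y, (u n)⁻¹ * g, ?_, ?_, ?_, ?_⟩
    · have h1 := hcu (Fin.last n)
      rw [hcl, hTc, subgroupConjRight_mul] at h1
      have h2 : (g⁻¹ * u (Fin.last n : Fin (n+1)))⁻¹ ∈
          Subgroup.normalizer ((S : Subgroup G) : Set G) := by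
        rw [mem_normalizer_iff_map_conj]
        exact h1
      simpa using h2
    · intro i
      obtain ⟨hX1, _, hxX, _, _⟩ := hcc i
      constructor
      · have h1 := sylowMembers_conjRight 𝓕 h𝓕 _ _ (c i.castSucc).2 (u i) hX1
        have h2 := hcu i.castSucc
        simp only [Fin.val_castSucc] at h2
        rw [h2] at h1
        exact h1
      · show (u i)⁻¹ * x i * u i ∈ Cfsg.subgroupConjRight (u i) (X i)
        rw [mem_cr_iff]
        have : u ↑i * ((u ↑i)⁻¹ * x i * u ↑i) * (u ↑i)⁻¹ = x i := by group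
        rw [this]
        exact hxX
    · rw [← pp_last, hpp n le_rfl]
      group
    · intro i
      show Cfsg.conjRight (pp y (i.val + 1)) A ⊆ _
      rw [hpp _ (by omega), hus i.val i.isLt]
      obtain ⟨_, _, hxX, _, hle⟩ := hcc i
      rintro _ ⟨b, hbA, rfl⟩
      have hb : b ∈ (S : Subgroup G) ⊓ (T : Subgroup G) := Subgroup.mem_inf.mpr ⟨hAS hbA, hAT hbA⟩
      have hb2 := Subgroup.mem_inf.mp (hle hb)
      constructor
      · have h1 := hcu i.succ
        have h2 : u (i.succ : Fin (n+1)) = x i * u i.val := by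
          have := hus i.val i.isLt
          simpa using this
        rw [h2] at h1
        show _ ∈ (S : Subgroup G)
        rw [← h1, mem_cr_iff]
        have : x ⟨↑i, i.isLt⟩ * u ↑i * ((x ⟨↑i, i.isLt⟩ * u ↑i)⁻¹ * b * (x ⟨↑i, i.isLt⟩ * u ↑i)) *
            (x ⟨↑i, i.isLt⟩ * u ↑i)⁻¹ = b := by group
        rw [this]
        exact hb2.1
      · show _ ∈ Cfsg.subgroupConjRight (u i) (X i)
        rw [mem_cr_iff]
        have : u ↑i * ((x ⟨↑i, i.isLt⟩ * u ↑i)⁻¹ * b * (x ⟨↑i, i.isLt⟩ * u ↑i)) * (u ↑i)⁻¹ =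
            (x i)⁻¹ * b * x i := by group
        rw [this]
        exact (X i).mul_mem ((X i).mul_mem ((X i).inv_mem hxX) hb2.2) hxX

theorem backward {G : Type*} [Group G] [Finite G] {p : ℕ} [Fact p.Prime]
    (𝓕 : Set (Subgroup G)) (h𝓕 : Cfsg.IsNormalSet 𝓕) (hf : Cfsg.FamilyStronglyControlsFusion p 𝓕) :
    Cfsg.ControlsSylowIntersections p 𝓕 := by
  classical
  intro S T hST hint
  obtain ⟨g, hg⟩ := MulAction.exists_smul_eq G S T
  have hTc : (T : Subgroup G) = Cfsg.subgroupConjRight g⁻¹ (S : Subgroup G) := by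
    rw [subgroupConjRight_def, inv_inv, ← hg]; rfl
  obtain ⟨a, ha1⟩ := (Subgroup.ne_bot_iff_exists_ne_one).mp hint
  have hAS : (((S : Subgroup G) ⊓ (T : Subgroup G) : Subgroup G) : Set G) ⊆ ((S : Subgroup G) : Set G) :=
    fun b hb => (Subgroup.mem_inf.mp hb).1
  have hA1 : ∃ b ∈ (((S : Subgroup G) ⊓ (T : Subgroup G) : Subgroup G) : Set G), b ≠ 1 := by
    refine ⟨(a : G), a.2, ?_⟩
    intro h
    exact ha1 (Subtype.ext h)
  have hAg : Cfsg.conjRight g (((S : Subgroup G) ⊓ (T : Subgroup G) : Subgroup G) : Set G) ⊆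
      ((S : Subgroup G) : Set G) := by
    rintro _ ⟨b, hb, rfl⟩
    have hbT : b ∈ (T : Subgroup G) := (Subgroup.mem_inf.mp hb).2
    rw [hTc, mem_cr_iff] at hbT
    show g⁻¹ * b * g ∈ (S : Subgroup G)
    simpa using hbT
  obtain ⟨n, Y, y, y₀, hy₀, hY, hgy, hcond⟩ := hf S _ g hAS hA1 hAg
  let u : ℕ → G := fun k => pp y k
  have hcS : ∀ k, ((u k • S : Sylow p G) : Subgroup G) = Cfsg.subgroupConjRight (u k)⁻¹ (S : Subgroup G) := by
    intro k
    rw [subgroupConjRight_def, inv_inv]; rfl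
  refine ⟨n, fun i => u i • S, fun i => Cfsg.subgroupConjRight (u (i.val + 1))⁻¹ (Y i),
    fun i => u (i.val + 1) * (u i.val)⁻¹, ?_, ?_, ?_⟩
  · show u 0 • S = S
    show pp y 0 • S = S
    rw [pp_zero, one_smul]
  · show u n • S = T
    show pp y n • S = T
    rw [pp_last]
    have h1 : (List.ofFn y).prod = g * y₀⁻¹ := by rw [hgy]; group
    rw [h1, mul_smul]
    have h2 : y₀⁻¹ • S = S := by
      exact Sylow.smul_eq_iff_mem_normalizer.mpr (Subgroup.inv_mem _ hy₀)
    rw [h2, hg]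
  · intro i
    have hus : u (i.val + 1) = u i.val * y i := pp_succ y i.val i.isLt
    have hXalt : Cfsg.subgroupConjRight (u (i.val + 1))⁻¹ (Y i) =
        Cfsg.subgroupConjRight (u i.val)⁻¹ (Y i) := by
      rw [hus, mul_inv_rev, ← subgroupConjRight_mul]
      congr 1
      rw [subgroupConjRight_def, inv_inv]
      exact map_conj_eq_self_of_mem _ _ (hY i).2
    refine ⟨?_, ?_, ?_, ?_, ?_⟩
    · show Cfsg.subgroupConjRight (u (i.val + 1))⁻¹ (Y i) ∈
        Cfsg.sylowMembers p 𝓕 ((u i.val • S : Sylow p G) : Subgroup G)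
      rw [hcS, hXalt]
      exact sylowMembers_conjRight 𝓕 h𝓕 _ _ S.2 _ (hY i).1
    · show Cfsg.subgroupConjRight (u (i.val + 1))⁻¹ (Y i) ∈
        Cfsg.sylowMembers p 𝓕 ((u (i.val + 1) • S : Sylow p G) : Subgroup G)
      rw [hcS]
      exact sylowMembers_conjRight 𝓕 h𝓕 _ _ S.2 _ (hY i).1
    · show u (i.val + 1) * (u i.val)⁻¹ ∈ Cfsg.subgroupConjRight (u (i.val + 1))⁻¹ (Y i)
      rw [hXalt, mem_cr_iff, hus]
      have : (u ↑i)⁻¹ * (u ↑i * y i * (u ↑i)⁻¹) * (u ↑i)⁻¹⁻¹ = y i := by group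
      rw [this]
      exact (hY i).2
    · show Cfsg.subgroupConjRight (u (i.val + 1) * (u i.val)⁻¹)
        ((u (i.val + 1) • S : Sylow p G) : Subgroup G) = ((u i.val • S : Sylow p G) : Subgroup G)
      rw [hcS, hcS, subgroupConjRight_mul]
      congr 1
      group
    · intro b hb
      have h1 := hcond i ⟨b, hb, rfl⟩
      have h2 : (u (i.val + 1))⁻¹ * b * u (i.val + 1) ∈ (S : Subgroup G) := h1.1
      have h3 : (u (i.val + 1))⁻¹ * b * u (i.val + 1) ∈ Y i := h1.2
      refine Subgroup.mem_inf.mpr ⟨?_, ?_⟩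
      · show b ∈ ((u (i.val + 1) • S : Sylow p G) : Subgroup G)
        rw [hcS, mem_cr_iff]
        simpa using h2
      · show b ∈ Cfsg.subgroupConjRight (u (i.val + 1))⁻¹ (Y i)
        rw [mem_cr_iff]
        simpa using h3

/-- Let p be a prime dividing the order of the finite group G and 𝓕 a family of subgroups of G closed under conjugation, with conjugates taken as X^g = g⁻¹Xg. Then 𝓕 controls Sylow p-intersections in G (any two distinct Sylow p-subgroups S and T with S ∩ T ≠ 1 are joined by a chain S = S₀, S₁, …, Sₙ = T of Sylow p-subgroups where, for each i, some member Xᵢ of 𝓕 meets both S_{i-1} and Sᵢ in Sylow p-subgroups of Xᵢ, satisfies S ∩ T ≤ Sᵢ ∩ Xᵢ, and contains an element xᵢ with Sᵢ^{xᵢ} = S_{i-1}) if and only if 𝓕 strongly controls p-fusion in G (whenever A is a subset of a Sylow p-subgroup S, A contains an element other than 1, and A^g ⊆ S, the element g factorises as g = y₁⋯yₙy with y ∈ N_G(S) and each yᵢ in a member Yᵢ of 𝓕 that meets S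 in a Sylow p-subgroup of Yᵢ, with A^{y₁⋯yᵢ} ⊆ S ∩ Yᵢ for each i). -/
theorem result {G : Type*} [Group G] [Finite G] {p : ℕ} [Fact p.Prime] (hdiv : p ∣ Nat.card G) (𝓕 : Set (Subgroup G)) (h𝓕 : Cfsg.IsNormalSet 𝓕) : Cfsg.ControlsSylowIntersections p 𝓕 ↔ Cfsg.FamilyStronglyControlsFusion p 𝓕 := by
  exact ⟨forward 𝓕 h𝓕, backward 𝓕 h𝓕⟩

end Cfsg.Agent.S2939
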