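import Mathlib
import Cfsg.Agent.Helper5.SylowSub
import Cfsg.Agent.Helper5.StrongEmb
import Cfsg.Statements.S2940
-- import your own Cfsg.Agent.* helpers here

set_option autoImplicit false
open Cfsg Cfsg.Agent.Helper5

namespace Cfsg.Agent.S2940

/-- Let S be a Sylow p-subgroup of the finite group G and G₁, G₂ subgroups containing S with G = G₁G₂. Then for every g ∈ G there is a Sylow p-subgroup U of G with S ∩ S^g ≤ U ≤ G₁ ∩ G₂^g (conjugates taken as X^g = g⁻¹Xg). -/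
theorem result {G : Type*} [Group G] [Finite G] {p : ℕ} [Fact p.Prime] (S : Sylow p G) (G₁ G₂ : Subgroup G) (h1 : (S : Subgroup G) ≤ G₁) (h2 : (S : Subgroup G) ≤ G₂) (hfact : ∀ g : G, ∃ g₁ ∈ G₁, ∃ g₂ ∈ G₂, g = g₁ * g₂) (g : G) : ∃ U : Sylow p G, (S : Subgroup G) ⊓ Cfsg.subgroupConjRight g (S : Subgroup G) ≤ (U : Subgroup G) ∧ (U : Subgroup G) ≤ G₁ ⊓ Cfsg.subgroupConjRight g G₂ := by
  obtain ⟨a, ha, b, hb, hab⟩ := hfact g⁻¹
  unfold Cfsg.subgroupConjRight
  rw [hab]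
  set D : Subgroup G := G₁ ⊓ G₂.map (MulAut.conj (a * b)).toMonoidHom with hD
  -- S' = a • S ≤ D
  have hS'D : ((a • S : Sylow p G) : Subgroup G) ≤ D := by
    intro x hx
    rw [sylow_mem_smul_iff] at hx
    refine ⟨?_, ?_⟩
    · have : x = a * (a⁻¹ * x * a) * a⁻¹ := by group
      rw [this]
      exact G₁.mul_mem (G₁.mul_mem ha (h1 hx)) (G₁.inv_mem ha)
    · show x ∈ G₂.map (MulAut.conj (a * b)).toMonoidHom
      rw [mem_map_conj_iff]
      have : (a * b)⁻¹ * x * (a * b) = b⁻¹ * (a⁻¹ * x * a) * b := by group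
      rw [this]
      exact G₂.mul_mem (G₂.mul_mem (G₂.inv_mem hb) (h2 hx)) hb
  have hle : (S : Subgroup G) ⊓ (S : Subgroup G).map (MulAut.conj (a * b)).toMonoidHom ≤ D := by
    exact inf_le_inf h1 (Subgroup.map_mono h2)
  have hpg : IsPGroup p ↥((S : Subgroup G) ⊓ (S : Subgroup G).map (MulAut.conj (a * b)).toMonoidHom) :=
    S.2.to_le inf_le_left
  obtain ⟨k, hk, hkS⟩ := exists_conj_le_sylow_of_le (a • S) D hS'D _ hle hpg
  refine ⟨k⁻¹ • (a • S), ?_, ?_⟩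
  · intro x hx
    rw [sylow_mem_smul_iff, inv_inv]
    exact hkS x hx
  · intro x hx
    rw [sylow_mem_smul_iff, inv_inv] at hx
    have : x = k⁻¹ * (k * x * k⁻¹) * k := by group
    rw [this]
    exact D.mul_mem (D.mul_mem (D.inv_mem hk) (hS'D hx)) hk

end Cfsg.Agent.S2940
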