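import Mathlib
import Cfsg.Statements.S2941
import Cfsg.Agent.Helper2.CommNorm

set_option autoImplicit false
open Cfsg

namespace Cfsg.Agent.S2941

open Cfsg.Agent.Helper2

open scoped commutatorElement

/-- Let G be a finite group of characteristic 2 type in which every 2-local subgroup is solvable and the centralizer of Ω₁(Z(S)) lies in N_G(S) for every Sylow 2-subgroup S, and let T be a nontrivial 2-subgroup and K a J(T)-component (J the Thompson subgroup generated by the elementary abelian 2-subgroups of largest order). If a subgroup Q is normalized by ⟨K, J(T)⟩ and normalizes J(T), then Q normalizes K. -/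
theorem result {G : Type*} [Group G] [Finite G] (hL : Cfsg.IsCharacteristicTwoType G) (hN : ∀ N : Subgroup G, Cfsg.IsTwoLocal N → Group.IsSolvable ↥N)
    (hZ : ∀ S : Sylow 2 G, Subgroup.centralizer (Cfsg.omegaCenterOf (S : Subgroup G) : Set G) ≤ Subgroup.normalizer ((S : Subgroup G) : Set G)) (T : Subgroup G) (hT : IsPGroup 2 ↥T) (hT1 : T ≠ ⊥) (K : Subgroup G) (hK : Cfsg.IsJComponent T K)
    (Q : Subgroup G) (hQ1 : K ⊔ Cfsg.thompsonSubgroupOf 2 T ≤ Subgroup.normalizer (Q : Set G)) (hQ2 : Q ≤ Subgroup.normalizer (Cfsg.thompsonSubgroupOf 2 T : Set G)) :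
    Q ≤ Subgroup.normalizer (K : Set G) := by
  obtain ⟨hgen, hKJ, -, -, -, -⟩ := hK
  set J := Cfsg.thompsonSubgroupOf 2 T with hJdef
  have hJT : J ≤ T := by
    rintro _ ⟨x, _, rfl⟩
    exact x.2
  have hJ2 : IsPGroup 2 ↥J := hT.to_le hJT
  have hJK : J ≤ Subgroup.normalizer (K : Set G) := by
    have := le_normalizer_commutator_right K J
    rwa [hKJ] at this
  have hKQ : K ≤ Subgroup.normalizer (Q : Set G) := le_sup_left.trans hQ1
  have hJQ : J ≤ Subgroup.normalizer (Q : Set G) := le_sup_right.trans hQ1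
  -- conjugating `K` by `q ∈ Q` stays in `K ⊔ J`
  have hstep : ∀ q ∈ Q, ∀ x ∈ K, q * x * q⁻¹ ∈ K ⊔ J := by
    intro q hq
    have hle : ⁅K, J⁆ ≤ Subgroup.comap (MulAut.conj q).toMonoidHom (K ⊔ J) := by
      rw [Subgroup.commutator_le]
      intro k hk j hj
      rw [Subgroup.mem_comap]
      change q * ⁅k, j⁆ * q⁻¹ ∈ K ⊔ J
      have hq'' : k⁻¹ * q * k ∈ Q := by
        have := conj_mem_of_le_normalizer hKQ _ (K.inv_mem hk) _ hq
        simpa using this
      have hj' : (k⁻¹ * q * k) * j * (k⁻¹ * q * k)⁻¹ ∈ J := conj_mem_of_le_normalizer hQ2 _ hq'' _ hj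
      have hj2 : q * j⁻¹ * q⁻¹ ∈ J := conj_mem_of_le_normalizer hQ2 _ hq _ (J.inv_mem hj)
      have h1 : q * ⁅k, j⁆ * q⁻¹ = (k * ((k⁻¹ * q * k) * j * (k⁻¹ * q * k)⁻¹) * k⁻¹) * (q * j⁻¹ * q⁻¹) := by
        simp only [commutatorElement_def]; group
      rw [h1]
      have hkM : k ∈ K ⊔ J := le_sup_left (a := K) hk
      exact (K ⊔ J).mul_mem ((K ⊔ J).mul_mem ((K ⊔ J).mul_mem hkM (le_sup_right (a := K) hj'))
        ((K ⊔ J).inv_mem hkM)) (le_sup_right (a := K) hj2)
    intro x hx
    rw [← hKJ] at hx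
    exact hle hx
  apply le_normalizer_of_conj_mem
  intro q hq
  have hle : K ≤ Subgroup.comap (MulAut.conj q).toMonoidHom K := by
    conv_lhs => rw [← hgen]
    rw [Subgroup.closure_le]
    rintro g ⟨hgK, hgodd⟩
    change q * g * q⁻¹ ∈ K
    apply mem_of_coprime_orderOf_of_mem_sup (p := 2) hJ2 hJK (hstep q hq g hgK)
    have h1 : orderOf (q * g * q⁻¹) = orderOf g := by
      have := orderOf_injective (MulAut.conj q).toMonoidHom (MulAut.conj q).injective g
      simpa using this
    rw [h1]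
    exact Nat.Coprime.symm (Nat.coprime_two_left.mpr hgodd)
  intro x hx
  exact hle hx

end Cfsg.Agent.S2941
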