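import Mathlib
import Cfsg.Agent.Helper5.SylowCtrl
import Cfsg.Statements.S2955
-- import your own Cfsg.Agent.* helpers here

set_option autoImplicit false
open Cfsg Cfsg.Agent.Helper5

namespace Cfsg.Agent.S2955

/-- Let p be a prime dividing the order of the finite group G and 𝓕 a conjugation-closed family of subgroups that controls Sylow p-intersections in G. Suppose the Sylow p-subgroups of G are chain-connected: any two of them are joined by a chain of Sylow p-subgroups, consecutive ones distinct with nontrivial intersection, all containing the intersection of the two ends (equivalently, the graph on the Sylow p-subgroups whose edges are the distinct pairs meeting nontrivially is connected). Then for every Sylow p-subgroup S, G is generated by N_G(S) together with the members of 𝓕 that meet S in a Sylow p-subgroup of themselves. -/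
theorem result {G : Type*} [Group G] [Finite G] (p : ℕ) [Fact p.Prime] (hdiv : p ∣ Nat.card G)
    (𝓕 : Set (Subgroup G)) (h𝓕 : Cfsg.IsNormalSet 𝓕) (hc : Cfsg.ControlsSylowIntersections p 𝓕)
    (hconn : Cfsg.IsSylowChainConnected p G) (S : Sylow p G) :
    (⨆ X ∈ Cfsg.sylowMembers p 𝓕 (S : Subgroup G), X) ⊔ Subgroup.normalizer ((S : Subgroup G) : Set G) = ⊤ := by
  classical
  set K : Subgroup G := (⨆ X ∈ Cfsg.sylowMembers p 𝓕 (S : Subgroup G), X) ⊔
    Subgroup.normalizer ((S : Subgroup G) : Set G) with hK
  have hNK : Subgroup.normalizer ((S : Subgroup G) : Set G) ≤ K := le_sup_right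
  have hXK : ∀ X ∈ Cfsg.sylowMembers p 𝓕 (S : Subgroup G), X ≤ K := by
    intro X hX
    refine le_trans ?_ le_sup_left
    exact le_iSup₂ (f := fun (X : Subgroup G) (_ : X ∈ Cfsg.sylowMembers p 𝓕 (S : Subgroup G)) => X) X hX
  -- members of 𝓕(S^k) with k ∈ K lie in K
  have hmem : ∀ k ∈ K, ∀ X ∈ Cfsg.sylowMembers p 𝓕 (Cfsg.subgroupConjRight k (S : Subgroup G)), X ≤ K := by
    intro k hk X hX
    have h1 := sylowMembers_conjRight 𝓕 h𝓕 _ X
      (by rw [subgroupConjRight_def]; exact S.2.map _) k⁻¹ hX
    rw [subgroupConjRight_mul, mul_inv_cancel, subgroupConjRight_one] at h1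
    have h2 := hXK _ h1
    have h3 := subgroupConjRight_le_of_mem K _ k hk h2
    rwa [subgroupConjRight_mul, inv_mul_cancel, subgroupConjRight_one] at h3
  -- one step
  have hstep : ∀ A B : Sylow p G, A ≠ B → (A : Subgroup G) ⊓ (B : Subgroup G) ≠ ⊥ →
      (∃ k ∈ K, Cfsg.subgroupConjRight k (S : Subgroup G) = (A : Subgroup G)) →
      ∃ k ∈ K, Cfsg.subgroupConjRight k (S : Subgroup G) = (B : Subgroup G) := by
    intro A B hAB hint hA
    obtain ⟨m, d, X, x, hd0, hdl, hd⟩ := hc A B hAB hint
    have key : ∀ j : Fin (m + 1), ∃ k ∈ K, Cfsg.subgroupConjRight k (S : Subgroup G) = (d j : Subgroup G) := by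
      intro j
      induction j using Fin.induction with
      | zero => rw [hd0]; exact hA
      | succ j ih =>
        obtain ⟨k, hk, hkS⟩ := ih
        obtain ⟨hX1, _, hxX, hconj, _⟩ := hd j
        rw [← hkS] at hX1
        have hxK : x j ∈ K := hmem k hk _ hX1 hxX
        refine ⟨k * (x j)⁻¹, K.mul_mem hk (K.inv_mem hxK), ?_⟩
        rw [← subgroupConjRight_mul, hkS, ← hconj, subgroupConjRight_mul, mul_inv_cancel,
          subgroupConjRight_one]
    have := key (Fin.last m)
    rwa [hdl] at this
  -- all Sylow subgroups are K-conjugates of S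
  have hall : ∀ T : Sylow p G, ∃ k ∈ K, Cfsg.subgroupConjRight k (S : Subgroup G) = (T : Subgroup G) := by
    intro T
    obtain ⟨n, c, hc0, hcl, _, hcs⟩ := hconn S T
    have key : ∀ i : Fin (n + 1), ∃ k ∈ K, Cfsg.subgroupConjRight k (S : Subgroup G) = (c i : Subgroup G) := by
      intro i
      induction i using Fin.induction with
      | zero => rw [hc0]; exact ⟨1, K.one_mem, subgroupConjRight_one _⟩
      | succ i ih => exact hstep _ _ (hcs i).1 (hcs i).2 ih
    have := key (Fin.last n)
    rwa [hcl] at this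
  rw [eq_top_iff]
  intro g _
  obtain ⟨k, hk, hkS⟩ := hall ((MulAut.conj g⁻¹) • S)
  have h1 : Cfsg.subgroupConjRight k (S : Subgroup G) = Cfsg.subgroupConjRight g (S : Subgroup G) := by
    rw [hkS]; rfl
  have h2 : Cfsg.subgroupConjRight (g * k⁻¹) (S : Subgroup G) = (S : Subgroup G) := by
    rw [← subgroupConjRight_mul, ← h1, subgroupConjRight_mul, mul_inv_cancel, subgroupConjRight_one]
  have h3 : (g * k⁻¹)⁻¹ ∈ Subgroup.normalizer ((S : Subgroup G) : Set G) := by
    rw [mem_normalizer_iff_map_conj]
    exact h2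
  have h4 : g * k⁻¹ ∈ K := by
    have := K.inv_mem (hNK h3)
    rwa [inv_inv] at this
  have := K.mul_mem h4 hk
  rwa [inv_mul_cancel_right] at this

end Cfsg.Agent.S2955
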