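import Mathlib
import Cfsg.Statements.S2958
-- import your own Cfsg.Agent.* helpers here

set_option autoImplicit false
open Cfsg

namespace Cfsg.Agent.S2958

theorem conj_map_map {G : Type*} [Group G] (X : Subgroup G) (a g : G) :
    (X.map (MulAut.conj g).toMonoidHom).map (MulAut.conj a).toMonoidHom =
      X.map (MulAut.conj (a * g)).toMonoidHom := by
  rw [Subgroup.map_map]
  congr 1
  ext x
  simp [mul_assoc]

/-- Let X, A, B be subgroups of a group G such that G is generated by the conjugates of X and every conjugate of X is contained in A or in B. Then A = G or B = G. -/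
theorem result {G : Type*} [Group G] (X A B : Subgroup G) (hgen : (⨆ g : G, X.map (MulAut.conj g).toMonoidHom) = ⊤) (hcover : ∀ g : G, X.map (MulAut.conj g).toMonoidHom ≤ A ∨ X.map (MulAut.conj g).toMonoidHom ≤ B) : A = ⊤ ∨ B = ⊤ := by
  classical
  by_cases hA : ∀ g : G, X.map (MulAut.conj g).toMonoidHom ≤ A
  · left
    rw [eq_top_iff, ← hgen]
    exact iSup_le hA
  · right
    push Not at hA
    obtain ⟨g0, hg0⟩ := hA
    set B₀ : Subgroup G := ⨆ g : {g : G // ¬ X.map (MulAut.conj g).toMonoidHom ≤ A},
      X.map (MulAut.conj (g : G)).toMonoidHom with hB₀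
    have hB₀B : B₀ ≤ B := by
      apply iSup_le
      rintro ⟨g, hg⟩
      exact (hcover g).resolve_left hg
    -- elements of A map B₀ into B₀
    have hAB₀ : ∀ a ∈ A, B₀.map (MulAut.conj a).toMonoidHom ≤ B₀ := by
      intro a ha
      rw [hB₀, Subgroup.map_iSup]
      apply iSup_le
      rintro ⟨g, hg⟩
      rw [conj_map_map]
      have : ¬ X.map (MulAut.conj (a * g)).toMonoidHom ≤ A := by
        intro h
        apply hg
        have h2 : (X.map (MulAut.conj (a * g)).toMonoidHom).map (MulAut.conj a⁻¹).toMonoidHom ≤ A := by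
          rintro _ ⟨y, hy, rfl⟩
          have hyA := h hy
          simp only [MulEquiv.coe_toMonoidHom, MulAut.conj_apply, inv_inv]
          exact A.mul_mem (A.mul_mem (A.inv_mem ha) hyA) ha
        rw [conj_map_map] at h2
        simpa using h2
      exact le_iSup (fun g : {g : G // ¬ X.map (MulAut.conj g).toMonoidHom ≤ A} =>
        X.map (MulAut.conj (g : G)).toMonoidHom) ⟨a * g, this⟩
    have hAnorm : A ≤ Subgroup.normalizer (B₀ : Set G) := by
      intro a ha
      rw [Subgroup.mem_normalizer_iff]
      intro h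
      constructor
      · intro hh
        have := hAB₀ a ha (Subgroup.mem_map_of_mem _ hh)
        simpa using this
      · intro hh
        have := hAB₀ a⁻¹ (A.inv_mem ha) (Subgroup.mem_map_of_mem _ hh)
        simpa [mul_assoc] using this
    have hnorm : Subgroup.normalizer (B₀ : Set G) = ⊤ := by
      rw [eq_top_iff, ← hgen]
      apply iSup_le
      intro g
      by_cases hg : X.map (MulAut.conj g).toMonoidHom ≤ A
      · exact hg.trans hAnorm
      · exact (le_iSup (fun g : {g : G // ¬ X.map (MulAut.conj g).toMonoidHom ≤ A} =>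
          X.map (MulAut.conj (g : G)).toMonoidHom) ⟨g, hg⟩).trans Subgroup.le_normalizer
    have hBn : B₀.Normal := Subgroup.normalizer_eq_top_iff.mp hnorm
    have hg0B : X.map (MulAut.conj g0).toMonoidHom ≤ B₀ :=
      le_iSup (fun g : {g : G // ¬ X.map (MulAut.conj g).toMonoidHom ≤ A} =>
          X.map (MulAut.conj (g : G)).toMonoidHom) ⟨g0, hg0⟩
    have hall : ∀ g : G, X.map (MulAut.conj g).toMonoidHom ≤ B₀ := by
      intro g
      have : X.map (MulAut.conj g).toMonoidHom =
          (X.map (MulAut.conj g0).toMonoidHom).map (MulAut.conj (g * g0⁻¹)).toMonoidHom := by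
        rw [conj_map_map]; simp
      rw [this]
      rintro _ ⟨y, hy, rfl⟩
      simp only [MulEquiv.coe_toMonoidHom, MulAut.conj_apply]
      exact hBn.conj_mem y (hg0B hy) _
    rw [eq_top_iff]
    calc ⊤ = ⨆ g : G, X.map (MulAut.conj g).toMonoidHom := hgen.symm
      _ ≤ B₀ := iSup_le hall
      _ ≤ B := hB₀B

end Cfsg.Agent.S2958
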