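import Mathlib
import Cfsg.Agent.Helper5.CharP
import Cfsg.Agent.Helper5.AxB
import Cfsg.Agent.Helper5.Cores
import Cfsg.Statements.S2960
-- import your own Cfsg.Agent.* helpers here

set_option autoImplicit false
open Cfsg

namespace Cfsg.Agent.S2960

theorem normalizer_le_normalizer_centralizer' {G : Type*} [Group G] (Q : Subgroup G) :
    Subgroup.normalizer (Q : Set G) ≤ Subgroup.normalizer ((Subgroup.centralizer (Q : Set G) : Subgroup G) : Set G) := by
  intro t ht
  rw [Subgroup.mem_normalizer_iff]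
  have aux : ∀ s : G, s ∈ Subgroup.normalizer (Q : Set G) → ∀ x ∈ Subgroup.centralizer (Q : Set G),
      s * x * s⁻¹ ∈ Subgroup.centralizer (Q : Set G) := by
    intro s hs x hx
    rw [Subgroup.mem_centralizer_iff] at hx ⊢
    intro q hq
    have h1 : s⁻¹ * q * s⁻¹⁻¹ ∈ Q :=
      (Subgroup.mem_normalizer_iff.mp (Subgroup.inv_mem _ hs) q).mp hq
    have h2 := hx _ h1
    have h3 : q = s * (s⁻¹ * q * s⁻¹⁻¹) * s⁻¹ := by group
    calc q * (s * x * s⁻¹) = s * ((s⁻¹ * q * s⁻¹⁻¹) * x) * s⁻¹ := by group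
      _ = s * (x * (s⁻¹ * q * s⁻¹⁻¹)) * s⁻¹ := by rw [h2]
      _ = s * x * s⁻¹ * q := by group
  intro x
  constructor
  · exact aux t ht x
  · intro hx
    have := aux t⁻¹ (Subgroup.inv_mem _ ht) _ hx
    have h4 : t⁻¹ * (t * x * t⁻¹) * t⁻¹⁻¹ = x := by group
    rwa [h4] at this

/-- Let G be a finite group of characteristic p (C_G(O_p(G)) ≤ O_p(G)), p prime, T a Sylow p-subgroup of G and Q a normal subgroup of T with C_T(Q) ≤ Q. Then C_G(Q) ≤ Q. -/
theorem result {G : Type*} [Group G] [Finite G] {p : ℕ} [Fact p.Prime] (hG : Subgroup.centralizer (Cfsg.pCore p G : Set G) ≤ Cfsg.pCore p G) (T : Sylow p G) (Q : Subgroup G) (hQT : Q ≤ (T : Subgroup G)) (hQn : (T : Subgroup G) ≤ Subgroup.normalizer (Q : Set G)) (hC : (T : Subgroup G) ⊓ Subgroup.centralizer (Q : Set G) ≤ Q) : Subgroup.centralizer (Q : Set G) ≤ Q := by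
  have hRT : Cfsg.pCore p G ≤ (T : Subgroup G) := Cfsg.Agent.Helper5.pCore_le_sylow T
  have hRn : (Cfsg.pCore p G).Normal := inferInstance
  have hCp : IsPGroup p (Subgroup.centralizer (Q : Set G)) := by
    apply Cfsg.Agent.Helper5.isPGroup_of_pprime_elements
    intro c hc hcop
    have hQp : IsPGroup p Q := T.isPGroup'.to_le hQT
    have h1 := Cfsg.Agent.Helper5.thompson_AxB Q hQp c hcop hc (Cfsg.pCore p G)
      (Cfsg.Agent.Helper5.isPGroup_pCore p)
      (by rw [Subgroup.normalizer_eq_top_iff.mpr hRn]; exact Subgroup.mem_top c)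
      (by rw [Subgroup.normalizer_eq_top_iff.mpr hRn]; exact le_top)
      (by
        intro r hr hrQ
        have hrQ' : r ∈ Q := hC ⟨hRT hr, hrQ⟩
        exact ((Subgroup.mem_centralizer_iff.mp hc) r hrQ').symm)
    have hcen : c ∈ Subgroup.centralizer (Cfsg.pCore p G : Set G) := by
      rw [Subgroup.mem_centralizer_iff]
      intro r hr
      exact (h1 r hr).symm
    exact Cfsg.Agent.Helper5.eq_one_of_coprime_of_mem_pgroup _ (Cfsg.Agent.Helper5.isPGroup_pCore p) c
      (hG hcen) hcop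
  have hTn : (T : Subgroup G) ≤ Subgroup.normalizer ((Subgroup.centralizer (Q : Set G) : Subgroup G) : Set G) :=
    hQn.trans (normalizer_le_normalizer_centralizer' Q)
  have hsup : IsPGroup p (Subgroup.centralizer (Q : Set G) ⊔ (T : Subgroup G) : Subgroup G) :=
    IsPGroup.to_sup_of_normal_left' hCp T.isPGroup' hTn
  have heq := T.is_maximal' hsup le_sup_right
  have hCT : Subgroup.centralizer (Q : Set G) ≤ (T : Subgroup G) := by
    rw [← heq]; exact le_sup_left
  exact fun x hx => hC ⟨hCT hx, hx⟩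

end Cfsg.Agent.S2960
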