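import Mathlib
import Cfsg.Agent.Helper5.CharP
import Cfsg.Agent.Helper5.CharP2
import Cfsg.Agent.Helper5.Cores
import Cfsg.Agent.S2960
import Cfsg.Statements.S2961
-- import your own Cfsg.Agent.* helpers here

set_option autoImplicit false
open Cfsg

namespace Cfsg.Agent.S2961

/-- Let G be a finite group of characteristic p (C_G(O_p(G)) ≤ O_p(G)), p prime, T a Sylow p-subgroup of G and Q a normal subgroup of T with C_T(Q) ≤ Q. Then every subgroup L of G containing Q has characteristic p: C_L(O_p(L)) ≤ O_p(L). -/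
theorem result {G : Type*} [Group G] [Finite G] {p : ℕ} [Fact p.Prime] (hG : Subgroup.centralizer (Cfsg.pCore p G : Set G) ≤ Cfsg.pCore p G) (T : Sylow p G) (Q : Subgroup G) (hQT : Q ≤ (T : Subgroup G)) (hQn : (T : Subgroup G) ≤ Subgroup.normalizer (Q : Set G)) (hC : (T : Subgroup G) ⊓ Subgroup.centralizer (Q : Set G) ≤ Q) (L : Subgroup G) (hQL : Q ≤ L) : Subgroup.centralizer (Cfsg.pCore p ↥L : Set ↥L) ≤ Cfsg.pCore p ↥L := by
  open Cfsg.Agent.Helper5 in
  have hCQ : Subgroup.centralizer (Q : Set G) ≤ Q := Cfsg.Agent.S2960.result hG T Q hQT hQn hC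
  show HasCharP p ↥L
  apply hasCharP_of_pprime_elements
  intro c hc hcop
  have hcop' : (orderOf (c : G)).Coprime p := by rwa [Subgroup.orderOf_coe]
  rw [mem_centralizer_pCore_iff] at hc
  set R := Cfsg.pCore p G with hRdef
  set D := (Cfsg.pCore p ↥L).map L.subtype with hDdef
  have hRn : R.Normal := inferInstance
  have hRnorm : ∀ g : G, g ∈ Subgroup.normalizer (R : Set G) := by
    intro g; rw [Subgroup.normalizer_eq_top_iff.mpr hRn]; exact Subgroup.mem_top g
  have hRp : IsPGroup p R := isPGroup_pCore p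
  have hRT : R ≤ (T : Subgroup G) := pCore_le_sylow T
  have hDL : D ≤ L := pCore_map_subtype_le p L
  have hLD : L ≤ Subgroup.normalizer (D : Set G) := le_normalizer_pCore_map_subtype p L
  set X := L ⊓ Subgroup.centralizer (D : Set G) with hXdef
  have hLX : L ≤ Subgroup.normalizer (X : Set G) := by
    intro l hl
    exact mem_normalizer_inf _ _ l (Subgroup.le_normalizer hl)
      (normalizer_le_normalizer_centralizer D (hLD hl))
  set A := R ⊓ Q with hAdef
  have hAp : IsPGroup p A := hRp.to_le inf_le_left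
  have hAD : A ≤ D := by
    have h1 : R ⊓ L ≤ D := by
      apply le_pCore_map_subtype L (R ⊓ L) inf_le_right (hRp.to_le inf_le_left)
      intro l hl
      exact mem_normalizer_inf _ _ l (hRnorm l) (Subgroup.le_normalizer hl)
    exact (inf_le_inf_left R hQL).trans h1
  have hXA : ∀ x ∈ X, ∀ a ∈ A, x * a = a * x := by
    intro x hx a ha
    exact ((Subgroup.mem_centralizer_iff.mp hx.2) a (hAD ha)).symm
  have hXnA : ∀ x ∈ X, x ∈ Subgroup.normalizer (A : Set G) := by
    intro x hx
    apply Subgroup.centralizer_le_normalizer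
    rw [Subgroup.mem_centralizer_iff]
    intro a ha
    exact (hXA x hx a ha).symm
  set N := X ⊓ stabMod R A with hNdef
  have hNp : IsPGroup p N := by
    apply isPGroup_of_pprime_elements
    intro k hk hkp
    have h1 := commute_of_mem_stabMod R A hAp k hk.2 hkp (hXA k hk.1)
    have h2 : k ∈ Subgroup.centralizer (R : Set G) := by
      rw [Subgroup.mem_centralizer_iff]
      intro r hr
      exact (h1 r hr).symm
    exact eq_one_of_coprime_of_mem_pgroup R hRp k (hG h2) hkp
  have hXN : X ≤ Subgroup.normalizer (N : Set G) := by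
    intro y hy
    exact mem_normalizer_inf _ _ y (Subgroup.le_normalizer hy)
      (mem_normalizer_stabMod R A y (hXnA y hy) (hRnorm y))
  have hND : N ≤ D := le_pCore_of_normal_in_normal L X N inf_le_left hLX inf_le_left hNp hXN
  have hQstab : Q ≤ stabMod R A := by
    intro u hu
    have huQn : u ∈ Subgroup.normalizer (Q : Set G) := Subgroup.le_normalizer hu
    refine ⟨mem_normalizer_inf _ _ u (hRnorm u) huQn, hRnorm u, ?_⟩
    intro r hr
    refine ⟨Subgroup.mul_mem _ (Subgroup.inv_mem _ hr) (hRn.conj_mem r hr u), ?_⟩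
    have hrn : r⁻¹ ∈ Subgroup.normalizer (Q : Set G) := hQn (hRT (Subgroup.inv_mem _ hr))
    have h1 : r⁻¹ * u * r⁻¹⁻¹ ∈ Q := (Subgroup.mem_normalizer_iff.mp hrn u).mp hu
    have h2 : r⁻¹ * (u * r * u⁻¹) = (r⁻¹ * u * r⁻¹⁻¹) * u⁻¹ := by group
    rw [h2]
    exact Subgroup.mul_mem _ h1 (Subgroup.inv_mem _ hu)
  have hcX : (c : G) ∈ X := ⟨c.2, hc⟩
  have hcQ : (c : G) ∈ Subgroup.centralizer (Q : Set G) := by
    rw [Subgroup.mem_centralizer_iff]
    intro u hu
    symm
    have hrN : u⁻¹ * ((c : G) * u * (c : G)⁻¹) ∈ N := by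
      constructor
      · have hu' : u⁻¹ ∈ Subgroup.normalizer (X : Set G) := hLX (hQL (Subgroup.inv_mem _ hu))
        have h1 : u⁻¹ * (c : G) * u⁻¹⁻¹ ∈ X := (Subgroup.mem_normalizer_iff.mp hu' _).mp hcX
        have h2 : u⁻¹ * ((c : G) * u * (c : G)⁻¹) = (u⁻¹ * (c : G) * u⁻¹⁻¹) * (c : G)⁻¹ := by group
        rw [h2]
        exact Subgroup.mul_mem _ h1 (Subgroup.inv_mem _ hcX)
      · exact Subgroup.mul_mem _ (Subgroup.inv_mem _ (hQstab hu))
          (conj_mem_stabMod R A (c : G) u (hXnA _ hcX) (hRnorm _) (hQstab hu))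
    apply stability_elt (p := p) (c : G) u hcop'
    · obtain ⟨j, hj⟩ := hNp ⟨_, hrN⟩
      exact ⟨j, by simpa using congrArg Subtype.val hj⟩
    · exact ((Subgroup.mem_centralizer_iff.mp hc) _ (hND hrN)).symm
  have h5 := eq_one_of_coprime_of_mem_pgroup Q (T.isPGroup'.to_le hQT) (c : G) (hCQ hcQ) hcop'
  exact Subtype.ext (by simpa using h5)

end Cfsg.Agent.S2961
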