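import Mathlib
import Cfsg.Statements.S2963
-- import your own Cfsg.Agent.* helpers here

set_option autoImplicit false
open Cfsg

namespace Cfsg.Agent.S2963

/-- Let n be odd. If the symmetric group of degree n is a minimal parabolic group for the prime 2, that is, a Sylow 2-subgroup is not normal and lies in exactly one maximal subgroup, then n = 2^m + 1 for some natural number m. -/
theorem result (n : ℕ) (hn : Odd n) (h : Cfsg.IsPMinimal 2 (Equiv.Perm (Fin n))) : ∃ m : ℕ, n = 2 ^ m + 1 := by
  classical
  haveI : Fact (Nat.Prime 2) := ⟨Nat.prime_two⟩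
  obtain ⟨S⟩ : Nonempty (Sylow 2 (Equiv.Perm (Fin n))) := inferInstance
  have hSp : IsPGroup 2 ↥(S : Subgroup (Equiv.Perm (Fin n))) := S.isPGroup'
  have hcard : Nat.card (Fin n) = n := by simp
  have hodd : ¬ 2 ∣ Nat.card (Fin n) := by
    rw [hcard]
    exact hn.not_two_dvd_nat
  obtain ⟨x, hx⟩ := hSp.nonempty_fixed_point_of_prime_not_dvd_card (Fin n) hodd
  have hxfix : ∀ s ∈ (S : Subgroup (Equiv.Perm (Fin n))), s x = x := by
    intro s hs
    exact hx ⟨s, hs⟩
  by_cases htrans : ∀ y z : Fin n, y ≠ x → z ≠ x → z ∈ MulAction.orbit ↥(S : Subgroup (Equiv.Perm (Fin n))) y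
  · by_cases hex : ∃ y : Fin n, y ≠ x
    · obtain ⟨y, hy⟩ := hex
      have horb : MulAction.orbit ↥(S : Subgroup (Equiv.Perm (Fin n))) y = ({x}ᶜ : Set (Fin n)) := by
        ext z
        constructor
        · rintro ⟨s, rfl⟩
          intro hz
          rw [Set.mem_singleton_iff] at hz
          apply hy
          have h1 : (s : Equiv.Perm (Fin n)) y = x := hz
          have h2 : (s : Equiv.Perm (Fin n)) x = x := hxfix _ s.2
          exact (s : Equiv.Perm (Fin n)).injective (h1.trans h2.symm)
        · intro hz
          exact htrans y z hy hz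
      obtain ⟨k, hk⟩ := hSp.card_orbit y
      rw [horb] at hk
      refine ⟨k, ?_⟩
      have h3 : Nat.card (({x}ᶜ : Set (Fin n))) = n - 1 := by
        rw [Nat.card_eq_fintype_card, ← Set.toFinset_card, Set.toFinset_compl, Finset.card_compl]
        simp
      rw [h3] at hk
      have hn1 : 1 ≤ n := hn.pos
      omega
    · exfalso
      push Not at hex
      have hsub : Subsingleton (Equiv.Perm (Fin n)) := by
        constructor
        intro a b
        ext i
        rw [hex (a i), hex (b i)]
      apply (h S).1
      constructor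
      intro m hm g
      have : g * m * g⁻¹ = m := Subsingleton.elim _ _
      rwa [this]
  · exfalso
    push Not at htrans
    obtain ⟨y, z, hy, hz, hzy⟩ := htrans
    obtain ⟨M, ⟨hMco, hSM⟩, hMuniq⟩ := (h S).2
    -- the two subgroups
    have hA : MulAction.stabilizer (Equiv.Perm (Fin n)) x ≤ M := by
      have hne : MulAction.stabilizer (Equiv.Perm (Fin n)) x ≠ ⊤ := by
        intro htop
        have : Equiv.swap x z ∈ MulAction.stabilizer (Equiv.Perm (Fin n)) x := by
          rw [htop]; exact Subgroup.mem_top _
        rw [MulAction.mem_stabilizer_iff, Equiv.Perm.smul_def, Equiv.swap_apply_left] at this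
        exact hz this
      obtain ⟨M', hM'co, hAM'⟩ := (eq_top_or_exists_le_coatom _).resolve_left hne
      have hSM' : (S : Subgroup (Equiv.Perm (Fin n))) ≤ M' := by
        intro s hs
        apply hAM'
        rw [MulAction.mem_stabilizer_iff, Equiv.Perm.smul_def]
        exact hxfix s hs
      rw [← hMuniq M' ⟨hM'co, hSM'⟩]
      exact hAM'
    -- the setwise stabilizer of the orbit of y
    let B : Subgroup (Equiv.Perm (Fin n)) :=
      { carrier := {g | ∀ i, g i ∈ MulAction.orbit ↥(S : Subgroup (Equiv.Perm (Fin n))) y ↔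
          i ∈ MulAction.orbit ↥(S : Subgroup (Equiv.Perm (Fin n))) y}
        one_mem' := by intro i; simp
        mul_mem' := by
          intro a b ha hb i
          rw [Equiv.Perm.mul_apply, ha (b i), hb i]
        inv_mem' := by
          intro a ha i
          have := ha (a⁻¹ i)
          rw [Equiv.Perm.inv_def, Equiv.apply_symm_apply] at this
          rw [Equiv.Perm.inv_def]
          exact this.symm }
    have hSB : (S : Subgroup (Equiv.Perm (Fin n))) ≤ B := by
      intro s hs i
      constructor
      · rintro ⟨t, ht⟩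
        refine ⟨⟨s, hs⟩⁻¹ * t, ?_⟩
        have ht' : (t : Equiv.Perm (Fin n)) y = s i := ht
        show (s⁻¹ * (t : Equiv.Perm (Fin n))) y = i
        rw [Equiv.Perm.mul_apply, ht', Equiv.Perm.inv_def, Equiv.symm_apply_apply]
      · rintro ⟨t, rfl⟩
        refine ⟨⟨s, hs⟩ * t, ?_⟩
        show (s * (t : Equiv.Perm (Fin n))) y = s ((t : Equiv.Perm (Fin n)) y)
        rw [Equiv.Perm.mul_apply]
    have hyorb : y ∈ MulAction.orbit ↥(S : Subgroup (Equiv.Perm (Fin n))) y := MulAction.mem_orbit_self y
    have hxorb : x ∉ MulAction.orbit ↥(S : Subgroup (Equiv.Perm (Fin n))) y := by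
      rintro ⟨s, hs⟩
      apply hy
      have h1 : (s : Equiv.Perm (Fin n)) y = x := hs
      have h2 : (s : Equiv.Perm (Fin n)) x = x := hxfix _ s.2
      exact (s : Equiv.Perm (Fin n)).injective (h1.trans h2.symm)
    have hB : B ≤ M := by
      have hne : B ≠ ⊤ := by
        intro htop
        have : Equiv.swap y z ∈ B := by rw [htop]; exact Subgroup.mem_top _
        have h1 := (this y).mpr hyorb
        rw [Equiv.swap_apply_left] at h1
        exact hzy h1
      obtain ⟨M', hM'co, hBM'⟩ := (eq_top_or_exists_le_coatom _).resolve_left hne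
      rw [← hMuniq M' ⟨hM'co, hSB.trans hBM'⟩]
      exact hBM'
    -- the swap of x and z lies in B
    have hswapB : Equiv.swap x z ∈ B := by
      intro i
      by_cases hix : i = x
      · rw [hix, Equiv.swap_apply_left]
        exact ⟨fun h => absurd h hzy, fun h => absurd h hxorb⟩
      · by_cases hiz : i = z
        · rw [hiz, Equiv.swap_apply_right]
          exact ⟨fun h => absurd h hxorb, fun h => absurd h hzy⟩
        · rw [Equiv.swap_apply_of_ne_of_ne hix hiz]
    apply hMco.1
    rw [eq_top_iff]
    intro g _
    by_cases hgx : g x = x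
    · apply hA
      rw [MulAction.mem_stabilizer_iff, Equiv.Perm.smul_def]
      exact hgx
    · -- a ∈ A with a z = g x
      have hzx : z ≠ x := hz
      set w := g x with hw
      have hwx : w ≠ x := hgx
      have ha : Equiv.swap z w ∈ M := by
        apply hA
        rw [MulAction.mem_stabilizer_iff, Equiv.Perm.smul_def]
        exact Equiv.swap_apply_of_ne_of_ne (Ne.symm hzx) (Ne.symm hwx)
      have hσ : Equiv.swap x z ∈ M := hB hswapB
      have hrest : (Equiv.swap z w * Equiv.swap x z)⁻¹ * g ∈ M := by
        apply hA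
        rw [MulAction.mem_stabilizer_iff, Equiv.Perm.smul_def, Equiv.Perm.mul_apply, ← hw,
          Equiv.Perm.inv_eq_iff_eq, Equiv.Perm.mul_apply, Equiv.swap_apply_left, Equiv.swap_apply_left]
      have : g = (Equiv.swap z w * Equiv.swap x z) * ((Equiv.swap z w * Equiv.swap x z)⁻¹ * g) := by group
      rw [this]
      exact M.mul_mem (M.mul_mem ha hσ) hrest

end Cfsg.Agent.S2963
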