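import Mathlib
import Cfsg.Agent.Helper5.Isolated
import Cfsg.Agent.S1939
import Cfsg.Statements.S2968
-- import your own Cfsg.Agent.* helpers here

set_option autoImplicit false
open Cfsg

namespace Cfsg.Agent.S2968

/-- Let G be a finite group, p a prime, P a Sylow p-subgroup of G and x ∈ P an element of p-power order which is isolated in G (the only conjugate of x commuting with x is x itself). Then x lies in the centre of P, and the subgroup generated by x is both strongly closed and weakly closed in P with respect to G. -/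
theorem result {G : Type*} [Group G] [Finite G] {p : ℕ} [Fact p.Prime] (P : Sylow p G) (x : G) (hxP : x ∈ (P : Subgroup G)) (hx : ∃ k : ℕ, orderOf x = p ^ k) (hiso : Cfsg.IsIsolated x) : x ∈ (P : Subgroup G) ⊓ Subgroup.centralizer ((P : Subgroup G) : Set G) ∧ Cfsg.IsStronglyClosed (Subgroup.zpowers x) (P : Subgroup G) ∧ Cfsg.IsWeaklyClosed (Subgroup.zpowers x) (P : Subgroup G) := by
  have hcen := Cfsg.Agent.Helper5.central_of_isIsolated_in_pgroup (P : Subgroup G) P.isPGroup' x hxP hiso
  have hwc : ∀ g : G, g * x * g⁻¹ ∈ (P : Subgroup G) → g * x * g⁻¹ = x :=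
    fun g hg => hiso g (hcen _ hg).symm
  have hzP : Subgroup.zpowers x ≤ (P : Subgroup G) := by
    rw [Subgroup.zpowers_le]; exact hxP
  refine ⟨Subgroup.mem_inf.mpr ⟨hxP, ?_⟩, ⟨hzP, ?_⟩, ⟨hzP, ?_⟩⟩
  · rw [Subgroup.mem_centralizer_iff]
    intro h hh
    exact hcen h hh
  · intro y hy g hg
    rw [← mem_powers_iff_mem_zpowers, Submonoid.mem_powers_iff] at hy
    obtain ⟨n, rfl⟩ := hy
    have := Cfsg.Agent.S1939.result P x hxP hwc n g hg
    rw [this]
    exact Subgroup.pow_mem _ (Subgroup.mem_zpowers x) n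
  · intro g hg
    have h1 : g * x * g⁻¹ ∈ (P : Subgroup G) :=
      hg (Cfsg.Agent.Helper5.conj_mem_map_conj _ g x (Subgroup.mem_zpowers x))
    have h2 := hwc g h1
    rw [MonoidHom.map_zpowers]
    simp only [MulEquiv.coe_toMonoidHom, MulAut.conj_apply]
    rw [h2]

end Cfsg.Agent.S2968
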