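import Mathlib
import Cfsg.Agent.Helper5.Isolated
import Cfsg.Statements.S2969
-- import your own Cfsg.Agent.* helpers here

set_option autoImplicit false
open Cfsg

namespace Cfsg.Agent.S2969

/-- Let G be a finite group, p a prime and x ∈ G an element of p-power order which is isolated in G. If R is a p-subgroup of G containing x, then N_G(R) ≤ C_G(x); in particular x lies in the centre of R. Moreover, if x lies in a normal subgroup N of a subgroup H of G, then H = N·C_H(x). -/
theorem result {G : Type*} [Group G] [Finite G] {p : ℕ} [Fact p.Prime] (x : G) (hx : ∃ k : ℕ, orderOf x = p ^ k) (hiso : Cfsg.IsIsolated x) : (∀ R : Subgroup G, IsPGroup p ↥R → x ∈ R → Subgroup.normalizer (R : Set G) ≤ Subgroup.centralizer ({x} : Set G)) ∧ (∀ H N : Subgroup G, N ≤ H → H ≤ Subgroup.normalizer (N : Set G) → x ∈ N → N ⊔ (H ⊓ Subgroup.centralizer ({x} : Set G)) = H) := by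
  constructor
  · intro R hR hxR n hn
    have hcen := Cfsg.Agent.Helper5.central_of_isIsolated_in_pgroup R hR x hxR hiso
    have h1 : n * x * n⁻¹ ∈ R := (Subgroup.mem_normalizer_iff.mp hn x).mp hxR
    have h2 : n * x * n⁻¹ = x := hiso n (hcen _ h1).symm
    rw [Subgroup.mem_centralizer_singleton_iff]
    calc n * x = n * x * n⁻¹ * n := by group
      _ = x * n := by rw [h2]
  · intro H N hNH hHN hxN
    apply le_antisymm
    · exact sup_le hNH inf_le_left
    · intro h hh
      obtain ⟨k0, hk0⟩ := hx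
      have hyN : h * x * h⁻¹ ∈ N := (Subgroup.mem_normalizer_iff.mp (hHN hh) x).mp hxN
      -- Sylow subgroup of N containing x
      have hxp : IsPGroup p (Subgroup.zpowers (⟨x, hxN⟩ : N)) := by
        apply IsPGroup.of_card (n := k0)
        rw [Nat.card_zpowers, Subgroup.orderOf_mk, hk0]
      have hyp : IsPGroup p (Subgroup.zpowers (⟨h * x * h⁻¹, hyN⟩ : N)) := by
        apply IsPGroup.of_card (n := k0)
        rw [Nat.card_zpowers, Subgroup.orderOf_mk]
        have : h * x * h⁻¹ = MulAut.conj h x := by simp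
        rw [this, MulEquiv.orderOf_eq, hk0]
      obtain ⟨S, hS⟩ := hxp.exists_le_sylow
      obtain ⟨k, hk⟩ := Cfsg.Agent.Helper5.exists_conj_le_sylow S _ hyp
      have hk1 : k * ⟨h * x * h⁻¹, hyN⟩ * k⁻¹ ∈ (S : Subgroup N) :=
        hk _ (Subgroup.mem_zpowers _)
      have hxS : (⟨x, hxN⟩ : N) ∈ (S : Subgroup N) := hS (Subgroup.mem_zpowers _)
      -- map to G
      have hS'p : IsPGroup p ((S : Subgroup N).map N.subtype) := S.isPGroup'.map _
      have hxS' : x ∈ (S : Subgroup N).map N.subtype := ⟨⟨x, hxN⟩, hxS, rfl⟩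
      have hyS' : (k : G) * (h * x * h⁻¹) * (k : G)⁻¹ ∈ (S : Subgroup N).map N.subtype :=
        ⟨_, hk1, by simp⟩
      have hcen := Cfsg.Agent.Helper5.central_of_isIsolated_in_pgroup _ hS'p x hxS' hiso
      have e1 : ((k : G) * h) * x * ((k : G) * h)⁻¹ = (k : G) * (h * x * h⁻¹) * (k : G)⁻¹ := by group
      have e2 : ((k : G) * h) * x * ((k : G) * h)⁻¹ = x := by
        apply hiso
        rw [e1]
        exact (hcen _ hyS').symm
      have hkhC : (k : G) * h ∈ H ⊓ Subgroup.centralizer ({x} : Set G) := by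
        refine Subgroup.mem_inf.mpr ⟨H.mul_mem (hNH k.2) hh, ?_⟩
        rw [Subgroup.mem_centralizer_singleton_iff]
        calc (k : G) * h * x = ((k : G) * h) * x * ((k : G) * h)⁻¹ * ((k : G) * h) := by group
          _ = x * ((k : G) * h) := by rw [e2]
      have : h = (k : G)⁻¹ * ((k : G) * h) := by group
      rw [this]
      exact Subgroup.mul_mem_sup (N.inv_mem k.2) hkhC

end Cfsg.Agent.S2969
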