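import Mathlib
import Cfsg.Agent.Lead.IsolatedRankOne
-- under Cfsg/Agent/.
import Cfsg.Statements.S2971
-- import your own Cfsg.Agent.* helpers here

set_option autoImplicit false
open Cfsg

namespace Cfsg.Agent.S2971

/-- Let G be a finite group and p an odd prime such that G has p-rank at most 1 (no elementary abelian subgroup of order p²). If x ∈ G is an isolated element of order p, then x is central modulo the largest normal subgroup of G of order prime to p. -/
theorem result {G : Type*} [Group G] [Finite G] {p : ℕ} [Fact p.Prime] (hp : p ≠ 2) (hrk : Cfsg.PRankLE p 1 G) (x : G) (hx : orderOf x = p) (hiso : Cfsg.IsIsolated x) : Cfsg.InZStar p x := by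
  exact Cfsg.Agent.Lead.inZStar_of_isolated_rank_one hp hrk x hx hiso

end Cfsg.Agent.S2971
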