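import Mathlib
import Cfsg.Agent.Helper5.ZStarMin2
import Cfsg.Statements.S2972
-- import your own Cfsg.Agent.* helpers here

set_option autoImplicit false
open Cfsg Cfsg.Agent.Helper5
open scoped commutatorElement

namespace Cfsg.Agent.S2972

/-- Let G be a finite group, p a prime and x ∈ G an isolated element of order p (the only conjugate of x commuting with x is x) which is not central modulo the largest normal subgroup of order prime to p, while x is central modulo the largest normal subgroup of order prime to p in every proper subgroup containing x, and the image of x is so in every quotient of G by a nontrivial normal subgroup (a minimal counterexample to the Z*_p statement). Then the derived subgroup G' is a non-abelian simple group and G = G'⟨x⟩. -/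
theorem result {G : Type*} [Group G] [Finite G] {p : ℕ} [Fact p.Prime] (x : G) (hx : orderOf x = p) (hiso : Cfsg.IsIsolated x) (hnz : ¬ Cfsg.InZStar p x) (hmin : ∀ (H : Subgroup G) (hxH : x ∈ H), H ≠ ⊤ → Cfsg.InZStar p (⟨x, hxH⟩ : ↥H)) (hquot : ∀ (N : Subgroup G) [N.Normal], N ≠ ⊥ → Cfsg.InZStar p (QuotientGroup.mk x : G ⧸ N)) : IsSimpleGroup ↥(commutator G) ∧ ¬ IsMulCommutative ↥(commutator G) ∧ commutator G ⊔ Subgroup.zpowers x = ⊤ := by
  classical
  have hncent : ¬ ∀ g : G, g * x = x * g := fun h => hnz (inZStar_of_central x h)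
  have hx1 : x ≠ 1 := by
    intro h
    rw [h, orderOf_one] at hx
    exact (Fact.out : p.Prime).one_lt.ne hx
  have : Nontrivial G := ⟨⟨x, 1, hx1⟩⟩
  obtain ⟨N, hNn, hN1, hNmin⟩ : ∃ N : Subgroup G, N.Normal ∧ N ≠ ⊥ ∧
      ∀ B : Subgroup G, B.Normal → B ≤ N → B = ⊥ ∨ B = N := by
    have hfin : Set.Finite {S : Subgroup G | S.Normal ∧ S ≠ ⊥} := Set.toFinite _
    have hne : {S : Subgroup G | S.Normal ∧ S ≠ ⊥}.Nonempty := ⟨⊤, inferInstance, top_ne_bot⟩
    obtain ⟨S, hS, hmin'⟩ := hfin.exists_minimal hne
    refine ⟨S, hS.1, hS.2, fun R hR hRS => ?_⟩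
    by_cases h : R = ⊥
    · exact Or.inl h
    · exact Or.inr (le_antisymm hRS (hmin' ⟨hR, h⟩ hRS))
  have := hNn
  have htop := minNormal_sup_zpowers_eq_top x hiso hnz hmin hquot N hN1 hNmin
  have hnab := minNormal_not_abelian x hx hiso hnz hmin hquot N hN1 hNmin
  have hsimp := eq_bot_or_eq_of_normal_in_minNormal x hx hiso hnz hmin hquot N hN1 hNmin
  have hcomm_le : commutator G ≤ N :=
    Subgroup.Normal.commutator_le_of_self_sup_commutative_eq_top htop
      (Subgroup.zpowers_isMulCommutative x)
  have hcN : commutator G = N := by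
    rcases hNmin (commutator G) inferInstance hcomm_le with h | h
    · exfalso
      apply hncent
      intro g
      have h1 : ⁅g, x⁆ ∈ commutator G := by
        rw [commutator_def]
        exact Subgroup.commutator_mem_commutator (Subgroup.mem_top g) (Subgroup.mem_top x)
      rw [h, Subgroup.mem_bot, commutatorElement_def] at h1
      calc g * x = (g * x * g⁻¹ * x⁻¹) * x * g := by group
        _ = x * g := by rw [h1, one_mul]
    · exact h
  rw [hcN]
  have : Nontrivial ↥N := (Subgroup.nontrivial_iff_ne_bot N).mpr hN1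
  refine ⟨⟨fun K' hK' => ?_⟩, ?_, htop⟩
  · have hKN : K'.map N.subtype ≤ N := Subgroup.map_subtype_le K'
    have hK'eq : (K'.map N.subtype).subgroupOf N = K' :=
      Subgroup.comap_map_eq_self_of_injective N.subtype_injective K'
    rcases hsimp (K'.map N.subtype) hKN (by rw [hK'eq]; exact hK') with h | h
    · left
      exact (Subgroup.map_eq_bot_iff_of_injective K' N.subtype_injective).mp h
    · right
      rw [← hK'eq, h]
      exact Subgroup.subgroupOf_self N
  · intro hc
    apply hnab
    intro a ha b hb
    have := hc.is_comm.comm ⟨a, ha⟩ ⟨b, hb⟩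
    exact congrArg Subtype.val this

end Cfsg.Agent.S2972
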