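import Mathlib
import Cfsg.Agent.Helper5.ZStarMin3
import Cfsg.Agent.Helper5.StrongEmb
import Cfsg.Statements.S2975
-- import your own Cfsg.Agent.* helpers here

set_option autoImplicit false
open Cfsg Cfsg.Agent.Helper5
open scoped Pointwise

namespace Cfsg.Agent.S2975

/-- Let G be a finite group, p a prime and x ∈ G an isolated element of order p (the only conjugate of x commuting with x is x) which is not central modulo the largest normal subgroup of order prime to p, while x is central modulo the largest normal subgroup of order prime to p in every proper subgroup containing x, and the image of x is so in every quotient of G by a nontrivial normal subgroup (a minimal counterexample to the Z*_p statement). Then for every prime q, every q-subgroup of G that is normalized by x and maximal among the q-subgroups normalized by x is either trivial or a Sylow q-subgroup of G; and C_G(x) permutes the x-invariant Sylow q-subgroups of G transitively by conjugation. -/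
theorem result {G : Type*} [Group G] [Finite G] {p : ℕ} [Fact p.Prime] (x : G) (hx : orderOf x = p) (hiso : Cfsg.IsIsolated x) (hnz : ¬ Cfsg.InZStar p x) (hmin : ∀ (H : Subgroup G) (hxH : x ∈ H), H ≠ ⊤ → Cfsg.InZStar p (⟨x, hxH⟩ : ↥H)) (hquot : ∀ (N : Subgroup G) [N.Normal], N ≠ ⊥ → Cfsg.InZStar p (QuotientGroup.mk x : G ⧸ N)) (q : ℕ) [Fact q.Prime] : (∀ Q : Subgroup G, IsPGroup q ↥Q → x ∈ Subgroup.normalizer (Q : Set G) → (∀ R : Subgroup G, IsPGroup q ↥R → x ∈ Subgroup.normalizer (R : Set G) → Q ≤ R → R = Q) → Q = ⊥ ∨ ∃ S : Sylow q G, (S : Subgroup G) = Q) ∧ (∀ S₁ S₂ : Sylow q G, x ∈ Subgroup.normalizer ((S₁ : Subgroup G) : Set G) → x ∈ Subgroup.normalizer ((S₂ : Subgroup G) : Set G) → ∃ c ∈ Subgroup.centralizer ({x} : Set G), (S₁ : Subgroup G).map (MulAut.conj c).toMonoidHom = (S₂ : Subgroup G)) := by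
  classical
  have hp : p.Prime := Fact.out
  have hq : q.Prime := Fact.out
  constructor
  · intro Q hQ hxQ hmax
    by_cases hqp : q = p
    · subst hqp
      right
      have hzp := isPGroup_zpowers_of_orderOf x hx
      have hzn : Subgroup.zpowers x ≤ Subgroup.normalizer (Q : Set G) := by
        rw [Subgroup.zpowers_le]; exact hxQ
      have hR : IsPGroup q ↥(Q ⊔ Subgroup.zpowers x) := hQ.to_sup_of_normal_left' hzp hzn
      have hxz : x ∈ Subgroup.normalizer ((Subgroup.zpowers x : Subgroup G) : Set G) :=
        Subgroup.le_normalizer (Subgroup.mem_zpowers x)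
      have hxR := mem_normalizer_sup Q (Subgroup.zpowers x) x hxQ hxz
      have hReq := hmax _ hR hxR le_sup_left
      have hxQ' : x ∈ Q := by
        rw [← hReq]; exact Subgroup.mem_sup_right (Subgroup.mem_zpowers x)
      obtain ⟨S, hS⟩ := hQ.exists_le_sylow
      have hxS : x ∈ Subgroup.normalizer ((S : Subgroup G) : Set G) :=
        Subgroup.le_normalizer (hS hxQ')
      exact ⟨S, hmax S S.2 hxS hS⟩
    · by_cases hQ1 : Q = ⊥
      · left; exact hQ1
      right
      set H := Subgroup.normalizer (Q : Set G) with hH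
      have hHne : H ≠ ⊤ := normalizer_ne_top_of_isPGroup x hx hiso hnz hmin hquot Q hQ hQ1
      have hZ := hmin H hxQ hHne
      have hxo : orderOf (⟨x, hxQ⟩ : ↥H) = p := by
        rw [← hx]; exact Subgroup.orderOf_mk x hxQ
      obtain ⟨S', hS'⟩ := exists_invariant_sylow_of_inZStar hqp (⟨x, hxQ⟩ : ↥H) hxo hZ
      set T' := (S' : Subgroup ↥H).map H.subtype with hT'
      have hT'H : T' ≤ H := Subgroup.map_subtype_le _
      have hT'q : IsPGroup q ↥T' := S'.2.map _
      have hxT' : x ∈ Subgroup.normalizer (T' : Set G) :=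
        Subgroup.le_normalizer_map H.subtype (Subgroup.mem_map_of_mem H.subtype hS')
      have hR : IsPGroup q ↥(Q ⊔ T') := hQ.to_sup_of_normal_left' hT'q hT'H
      have hxR := mem_normalizer_sup Q T' x hxQ hxT'
      have hReq := hmax _ hR hxR le_sup_left
      have hT'Q : T' ≤ Q := by rw [← hReq]; exact le_sup_right
      obtain ⟨n, hn⟩ := IsPGroup.iff_card.mp hQ
      apply exists_sylow_eq_of_card_normalizer Q n hn
      intro hdvd
      have hcT' : Nat.card T' = q ^ (Nat.card H).factorization q := by
        rw [hT', Subgroup.card_map_of_injective H.subtype_injective, S'.card_eq_multiplicity]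
      have h1 : Nat.card T' ∣ Nat.card Q := Subgroup.card_dvd_of_le hT'Q
      rw [hcT', hn] at h1
      have h2 : (Nat.card H).factorization q ≤ n := (Nat.pow_dvd_pow_iff_le_right hq.one_lt).mp h1
      have hH0 : Nat.card H ≠ 0 := Nat.card_pos.ne'
      have h3 : n + 1 ≤ (Nat.card H).factorization q :=
        (hq.pow_dvd_iff_le_factorization hH0).mp hdvd
      omega
  · intro S₁ S₂ h1 h2
    obtain ⟨g, hg⟩ := MulAction.exists_smul_eq G S₁ S₂
    have hg' : (S₁ : Subgroup G).map (MulAut.conj g).toMonoidHom = (S₂ : Subgroup G) := by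
      rw [← hg]; rfl
    have hy : g⁻¹ * x * g⁻¹⁻¹ ∈ Subgroup.normalizer ((S₁ : Subgroup G) : Set G) := by
      rw [← hg', normalizer_map_conj] at h2
      obtain ⟨n, hn, hnx⟩ := h2
      have : g⁻¹ * x * g⁻¹⁻¹ = n := by
        rw [← hnx]; simp [MulAut.conj_apply]; group
      rw [this]; exact hn
    obtain ⟨h, hh, hconj⟩ := isolated_conj_in_subgroup x hx hiso _ h1 g⁻¹ hy
    have hx' : g * (h * x * h⁻¹) * g⁻¹ = x := by
      rw [← hconj]; group
    refine ⟨g * h, ?_, ?_⟩
    · rw [Subgroup.mem_centralizer_iff]
      intro y hy'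
      rw [Set.mem_singleton_iff] at hy'
      subst hy'
      calc y * (g * h) = (g * (h * y * h⁻¹) * g⁻¹) * (g * h) := by rw [hx']
        _ = g * h * y := by group
    · rw [← hg']
      have e1 : (S₁ : Subgroup G).map (MulAut.conj (g * h)).toMonoidHom
          = MulAut.conj (g * h) • (S₁ : Subgroup G) := rfl
      have e2 : (S₁ : Subgroup G).map (MulAut.conj g).toMonoidHom
          = MulAut.conj g • (S₁ : Subgroup G) := rfl
      rw [e1, e2, map_mul, mul_smul, Cfsg.Agent.Helper1.conj_smul_eq_of_mem_normalizer hh]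

end Cfsg.Agent.S2975
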