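import Mathlib
import Cfsg.Agent.Helper5.StrongEmb
import Cfsg.Statements.S2998
-- import your own Cfsg.Agent.* helpers here

set_option autoImplicit false
open Cfsg

namespace Cfsg.Agent.S2998

/-- Let G be a finite group, p a prime, P a Sylow p-subgroup of G and x ∈ P an element such that N_G(R) ≤ C_G(x) for every nontrivial subgroup R of P. Then P ≤ C_G(x); every G-conjugate of x lying in P equals x (so g ∈ C_G(x) whenever g x g⁻¹ ∈ P); and for every normal subgroup N of G, the image of x in G ⧸ N has the same property with respect to the image of P: the normalizer of every nontrivial subgroup of the image of P centralizes the image of x. -/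
theorem result {G : Type*} [Group G] [Finite G] {p : ℕ} [Fact p.Prime] (P : Sylow p G) (x : G) (hxP : x ∈ (P : Subgroup G)) (hlc : ∀ R : Subgroup G, R ≤ (P : Subgroup G) → R ≠ ⊥ → Subgroup.normalizer (R : Set G) ≤ Subgroup.centralizer ({x} : Set G)) : (P : Subgroup G) ≤ Subgroup.centralizer ({x} : Set G) ∧ (∀ g : G, g * x * g⁻¹ ∈ (P : Subgroup G) → g * x * g⁻¹ = x) ∧ ∀ (N : Subgroup G) [N.Normal], ∀ R : Subgroup (G ⧸ N), R ≤ (P : Subgroup G).map (QuotientGroup.mk' N) → R ≠ ⊥ → Subgroup.normalizer (R : Set (G ⧸ N)) ≤ Subgroup.centralizer ({(QuotientGroup.mk x : G ⧸ N)} : Set (G ⧸ N)) := by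
  classical
  set M := Subgroup.centralizer ({x} : Set G) with hM
  have hxM : x ∈ M := by rw [hM, Subgroup.mem_centralizer_singleton_iff]
  have hPM : (P : Subgroup G) ≤ M := by
    by_cases hP : (P : Subgroup G) = ⊥
    · rw [hP]; exact bot_le
    · exact Subgroup.le_normalizer.trans (hlc _ le_rfl hP)
  have hLC : Cfsg.Agent.Helper5.LocCtrl M (P : Subgroup G) := ⟨hPM, hlc⟩
  have hpart2 : ∀ g : G, g * x * g⁻¹ ∈ (P : Subgroup G) → g * x * g⁻¹ = x := by
    intro g hg
    by_cases hx1 : x = 1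
    · rw [hx1]; group
    · set D := Subgroup.zpowers (g * x * g⁻¹) with hD
      have hDP : D ≤ (P : Subgroup G) := by rw [hD, Subgroup.zpowers_le]; exact hg
      have hD1 : D ≠ ⊥ := by
        rw [hD, Ne, Subgroup.zpowers_eq_bot]
        intro h
        apply hx1
        have : x = g⁻¹ * (g * x * g⁻¹) * g := by group
        rw [this, h]; group
      have hDMg : D ≤ M.map (MulAut.conj g).toMonoidHom := by
        rw [hD, Subgroup.zpowers_le]
        exact Cfsg.Agent.Helper5.conj_mem_map_conj M g x hxM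
      have hgM : g ∈ M := hLC.mem_of_inter g D (hDP.trans hPM) hDMg (P.isPGroup'.to_le hDP) hD1
      rw [hM, Subgroup.mem_centralizer_singleton_iff] at hgM
      calc g * x * g⁻¹ = x * g * g⁻¹ := by rw [hgM]
        _ = x := by group
  refine ⟨hPM, hpart2, ?_⟩
  intro N hN R hRP hR1 nbar hnbar
  obtain ⟨n, rfl⟩ := QuotientGroup.mk_surjective nbar
  -- L = preimage of R, R₀ = L ⊓ P
  set L := R.comap (QuotientGroup.mk' N) with hL
  set R₀ := L ⊓ (P : Subgroup G) with hR₀
  have hR₀1 : R₀ ≠ ⊥ := by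
    intro h
    apply hR1
    rw [eq_bot_iff]
    intro r hr
    obtain ⟨y, hyP, rfl⟩ := hRP hr
    have : y ∈ R₀ := ⟨hr, hyP⟩
    rw [h, Subgroup.mem_bot] at this
    rw [this]; simp
  have hR₀p : IsPGroup p R₀ := P.isPGroup'.to_le inf_le_right
  obtain ⟨T, hR₀T, hTL, hTp, -, hTconj⟩ :=
    Cfsg.Agent.Helper5.exists_sylow_of_subgroup L R₀ inf_le_left hR₀p
  have hTM : T ≤ M := hLC.le_of_le R₀ T (inf_le_right.trans hPM) hR₀1 hR₀T hTp
  have hT1 : T ≠ ⊥ := fun hT => hR₀1 (eq_bot_iff.mpr (hT ▸ hR₀T))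
  have hNT : Subgroup.normalizer (T : Set G) ≤ M := hLC.normalizer_le T hTM hTp hT1
  have hnL : n ∈ Subgroup.normalizer (L : Set G) := by
    rw [Subgroup.mem_normalizer_iff]
    intro h
    rw [hL, Subgroup.mem_comap, Subgroup.mem_comap]
    have := Subgroup.mem_normalizer_iff.mp hnbar ((QuotientGroup.mk' N) h)
    simpa using this
  obtain ⟨l, hlL, c, hcN, rfl⟩ := Cfsg.Agent.Helper5.frattini_elementwise L T hTL hTp hTconj n hnL
  -- the image of l lies in R ≤ image of P ≤ image of M
  have hcM : c ∈ M := hNT hcN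
  have hlbar : (QuotientGroup.mk' N) l ∈ R := hlL
  obtain ⟨y, hyP, hy⟩ := hRP hlbar
  have hyM : y ∈ M := hPM hyP
  rw [Subgroup.mem_centralizer_singleton_iff]
  rw [hM, Subgroup.mem_centralizer_singleton_iff] at hcM hyM
  have e1 : ((l * c : G) : G ⧸ N) = (QuotientGroup.mk' N) y * (QuotientGroup.mk' N) c := by
    rw [hy]; rfl
  rw [e1]
  have hyx : (QuotientGroup.mk' N) y * (QuotientGroup.mk' N) x = (QuotientGroup.mk' N) x * (QuotientGroup.mk' N) y := by
    rw [← map_mul, ← map_mul, hyM]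
  have hcx : (QuotientGroup.mk' N) c * (QuotientGroup.mk' N) x = (QuotientGroup.mk' N) x * (QuotientGroup.mk' N) c := by
    rw [← map_mul, ← map_mul, hcM]
  change (QuotientGroup.mk' N) y * (QuotientGroup.mk' N) c * (QuotientGroup.mk' N) x =
    (QuotientGroup.mk' N) x * ((QuotientGroup.mk' N) y * (QuotientGroup.mk' N) c)
  rw [mul_assoc, hcx, ← mul_assoc, hyx, mul_assoc]

end Cfsg.Agent.S2998
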