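import Mathlib
import Cfsg.Agent.Helper1.Coprime
import Cfsg.Agent.Helper5.HyperplaneGen
import Cfsg.Statements.S3003
-- import your own Cfsg.Agent.* helpers here

set_option autoImplicit false
open Cfsg

namespace Cfsg.Agent.S3003

theorem part1 {G : Type*} [Group G] [Finite G] {p : ℕ} [Fact p.Prime] (Q : Subgroup G) (hQp : IsPGroup p ↥Q)
    (hlarge : Cfsg.IsLarge Q) (G₁ : Subgroup G) (hQG : Q ≤ G₁) (R : Subgroup G) (hR : (Nat.card ↥R).Coprime p)
    (hGR : G₁ ≤ Subgroup.normalizer (R : Set G)) (U : Subgroup G)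
    (h : ∃ x ∈ U, x ≠ 1 ∧ ∃ g ∈ G₁, g * x * g⁻¹ ∈ Q ⊓ Subgroup.centralizer (Q : Set G)) :
    R ⊓ Subgroup.centralizer (U : Set G) = ⊥ := by
  obtain ⟨x, hxU, hx1, g, hg, hzQ, hzC⟩ := h
  set z := g * x * g⁻¹ with hz
  have hz1 : z ≠ 1 := by
    intro h1
    apply hx1
    have : x = g⁻¹ * z * g := by rw [hz]; group
    rw [this, h1]; group
  have hRQ : R ⊓ Q = ⊥ := by
    apply Disjoint.eq_bot
    apply Subgroup.disjoint_of_coprime_natCard
    obtain ⟨k, hk⟩ := IsPGroup.iff_card.mp hQp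
    rw [hk]
    exact Nat.Coprime.pow_right _ hR
  -- the key claim
  have hclaim : R ⊓ Subgroup.centralizer ({z} : Set G) = ⊥ := by
    have hZC : Subgroup.zpowers z ≤ Subgroup.centralizer (Q : Set G) := Subgroup.zpowers_le.mpr hzC
    have hZ1 : Subgroup.zpowers z ≠ ⊥ := by
      intro h1
      apply hz1
      have : z ∈ Subgroup.zpowers z := Subgroup.mem_zpowers z
      rw [h1, Subgroup.mem_bot] at this
      exact this
    have hN := hlarge.2 (Subgroup.zpowers z) hZC hZ1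
    have hYN : R ⊓ Subgroup.centralizer ({z} : Set G) ≤ Subgroup.normalizer (Q : Set G) := by
      refine le_trans ?_ hN
      intro y hy
      have hyz : y ∈ Subgroup.centralizer ({z} : Set G) := hy.2
      rw [Subgroup.mem_centralizer_singleton_iff] at hyz
      have hyZ : y ∈ Subgroup.centralizer ((Subgroup.zpowers z : Subgroup G) : Set G) := by
        rw [Subgroup.mem_centralizer_iff]
        rintro h ⟨k, rfl⟩
        have hc : Commute z y := hyz.symm
        exact (hc.zpow_left k).eq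
      exact Subgroup.centralizer_le_normalizer _ hyZ
    have hQcz : Q ≤ Subgroup.centralizer ({z} : Set G) := by
      intro q hq
      rw [Subgroup.mem_centralizer_singleton_iff]
      exact (Subgroup.mem_centralizer_iff.mp hzC) q hq
    have hQY : Q ≤ Subgroup.normalizer ((R ⊓ Subgroup.centralizer ({z} : Set G) : Subgroup G) : Set G) :=
      Cfsg.Agent.Helper1.le_normalizer_inf (hQG.trans hGR) (hQcz.trans Subgroup.le_normalizer)
    have h1 : ⁅R ⊓ Subgroup.centralizer ({z} : Set G), Q⁆ ≤ R ⊓ Subgroup.centralizer ({z} : Set G) :=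
      Subgroup.le_normalizer_iff_commutator_le_left.1 hQY
    have h2 : ⁅R ⊓ Subgroup.centralizer ({z} : Set G), Q⁆ ≤ Q :=
      Subgroup.le_normalizer_iff_commutator_le_right.1 hYN
    have h3 : ⁅R ⊓ Subgroup.centralizer ({z} : Set G), Q⁆ = ⊥ := by
      rw [eq_bot_iff, ← hRQ]
      exact le_inf (h1.trans inf_le_left) h2
    have h4 : R ⊓ Subgroup.centralizer ({z} : Set G) ≤ Subgroup.centralizer (Q : Set G) :=
      Subgroup.commutator_eq_bot_iff_le_centralizer.mp h3
    rw [eq_bot_iff, ← hRQ]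
    exact le_inf inf_le_left (h4.trans hlarge.1)
  rw [eq_bot_iff]
  rintro r ⟨hrR, hrC⟩
  have h1 : g * r * g⁻¹ ∈ R := (Subgroup.mem_normalizer_iff.mp (hGR hg) r).mp hrR
  have hrx : x * r = r * x := (Subgroup.mem_centralizer_iff.mp hrC) x hxU
  have h2 : g * r * g⁻¹ ∈ Subgroup.centralizer ({z} : Set G) := by
    rw [Subgroup.mem_centralizer_singleton_iff, hz]
    calc g * r * g⁻¹ * (g * x * g⁻¹) = g * (r * x) * g⁻¹ := by group
      _ = g * (x * r) * g⁻¹ := by rw [hrx]
      _ = g * x * g⁻¹ * (g * r * g⁻¹) := by group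
  have h3 : g * r * g⁻¹ ∈ (⊥ : Subgroup G) := by
    rw [← hclaim]; exact ⟨h1, h2⟩
  rw [Subgroup.mem_bot] at h3 ⊢
  have : r = g⁻¹ * (g * r * g⁻¹) * g := by group
  rw [this, h3]; group

/-- Let G be a finite group, p a prime and Q a large p-subgroup of G: C_G(Q) ≤ Q and N_G(U) ≤ N_G(Q) for every nontrivial subgroup U of C_G(Q). Let Q ≤ G₁ ≤ G, let R be a subgroup of order prime to p normalized by G₁, and let U ≤ G₁ be a p-subgroup. If U contains a nontrivial element which is G₁-conjugate to an element of Z(Q), then C_R(U) = 1. In particular, if U is elementary abelian of order at least p² and every maximal subgroup of U contains a nontrivial element G₁-conjugate into Z(Q), then R = 1. -/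
theorem result {G : Type*} [Group G] [Finite G] {p : ℕ} [Fact p.Prime] (Q : Subgroup G) (hQp : IsPGroup p ↥Q) (hlarge : Cfsg.IsLarge Q) (G₁ : Subgroup G) (hQG : Q ≤ G₁) (R : Subgroup G) (hR : (Nat.card ↥R).Coprime p) (hGR : G₁ ≤ Subgroup.normalizer (R : Set G)) (U : Subgroup G) (hUG : U ≤ G₁) (hUp : IsPGroup p ↥U) : ((∃ x ∈ U, x ≠ 1 ∧ ∃ g ∈ G₁, g * x * g⁻¹ ∈ Q ⊓ Subgroup.centralizer (Q : Set G)) → R ⊓ Subgroup.centralizer (U : Set G) = ⊥) ∧ (Cfsg.IsElementaryAbelian p U → p ^ 2 ≤ Nat.card ↥U → (∀ U₀ : Subgroup G, U₀ ≤ U → IsCoatom (U₀.subgroupOf U) → ∃ x ∈ U₀, x ≠ 1 ∧ ∃ g ∈ G₁, g * x * g⁻¹ ∈ Q ⊓ Subgroup.centralizer (Q : Set G)) → R = ⊥) := by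
  have hpp : p.Prime := Fact.out
  refine ⟨part1 Q hQp hlarge G₁ hQG R hR hGR U, ?_⟩
  intro hU hcard hhyp
  have hUp' : IsPGroup p ↥U := hUp
  have hcop : (Nat.card ↥U).Coprime (Nat.card ↥R) := by
    obtain ⟨k, hk⟩ := IsPGroup.iff_card.mp hUp
    rw [hk]
    exact Nat.Coprime.pow_left _ hR.symm
  have hp2 : p < p ^ 2 := by
    have := hpp.one_lt
    nlinarith
  have hUbot : (⊥ : Subgroup G) < U := by
    rw [bot_lt_iff_ne_bot]
    intro h
    rw [h, Subgroup.card_bot] at hcard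
    have := hpp.two_le
    omega
  have hnotmax : ¬ Cfsg.Agent.Helper5.IsMaxIn ⊥ U := by
    rintro ⟨-, hmax⟩
    obtain ⟨g, hgU, hg1⟩ := SetLike.exists_of_lt hUbot
    rw [Subgroup.mem_bot] at hg1
    have hZ : (⊥ : Subgroup G) < Subgroup.zpowers g := by
      rw [bot_lt_iff_ne_bot]
      intro h
      apply hg1
      have : g ∈ Subgroup.zpowers g := Subgroup.mem_zpowers g
      rw [h, Subgroup.mem_bot] at this
      exact this
    have h1 := hmax _ hZ (Subgroup.zpowers_le.mpr hgU)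
    have h2 : Nat.card ↥U = orderOf g := by
      rw [← h1, Nat.card_zpowers]
    have h3 : orderOf g ∣ p := orderOf_dvd_of_pow_eq_one (hU.2 g hgU)
    have h4 : orderOf g ≤ p := Nat.le_of_dvd hpp.pos h3
    omega
  apply Cfsg.Agent.Helper5.eq_bot_of_hyperplanes U hU _ ⊥ R rfl hUbot hnotmax bot_le (hUG.trans hGR) hcop
  intro U₀ _ hmax
  apply part1 Q hQp hlarge G₁ hQG R hR hGR U₀
  exact hhyp U₀ hmax.1.le (Cfsg.Agent.Helper5.isCoatom_subgroupOf_of_isMaxIn hmax)

end Cfsg.Agent.S3003
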