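import Mathlib
import Cfsg.Agent.Helper5.ChermakDelgado
import Cfsg.Statements.S3004
-- import your own Cfsg.Agent.* helpers here

set_option autoImplicit false
open scoped Pointwise
open Cfsg

namespace Cfsg.Agent.S3004

open Cfsg.Agent.Helper5 in
theorem key_arith {M q cq r cr i ci j cj x y : ℕ} (hM : 0 < M)
    (hq : q * cq = M) (hr : r * cr = M) (hi : i * ci ≤ M) (hj : j * cj ≤ M)
    (hx : x * i = q * r) (hy : y * cj = cq * cr) (hxj : x ≤ j) (hyc : y ≤ ci)
    (hipos : 0 < i) (hcjpos : 0 < cj) (hypos : 0 < y) (hjpos : 0 < j) :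
    x = j ∧ y = ci ∧ j * cj = M ∧ i * ci = M := by
  have h1 : M * M = (x * y) * (i * cj) := by
    calc M * M = (q * cq) * (r * cr) := by rw [hq, hr]
      _ = (q * r) * (cq * cr) := by ring
      _ = (x * i) * (y * cj) := by rw [hx, hy]
      _ = (x * y) * (i * cj) := by ring
  have h2 : (x * y) * (i * cj) ≤ (j * ci) * (i * cj) :=
    Nat.mul_le_mul_right _ (Nat.mul_le_mul hxj hyc)
  have h3 : (j * ci) * (i * cj) = (j * cj) * (i * ci) := by ring
  have h4 : (j * cj) * (i * ci) ≤ M * M := Nat.mul_le_mul hj hi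
  have h5 : (x * y) * (i * cj) = (j * ci) * (i * cj) := by
    apply le_antisymm h2
    rw [h3, ← h1]; exact h4
  have h6 : (j * cj) * (i * ci) = M * M := by
    apply le_antisymm h4
    rw [← h3, ← h5, ← h1]
  have hpos : 0 < i * cj := Nat.mul_pos hipos hcjpos
  have h7 : x * y = j * ci := Nat.eq_of_mul_eq_mul_right hpos h5
  have hxj' : x = j := by
    by_contra hne
    have hlt : x < j := lt_of_le_of_ne hxj hne
    have : x * y < j * ci := calc x * y < j * y := Nat.mul_lt_mul_of_pos_right hlt hypos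
      _ ≤ j * ci := Nat.mul_le_mul_left _ hyc
    omega
  have hyc' : y = ci := by
    rw [hxj'] at h7
    exact Nat.eq_of_mul_eq_mul_left hjpos h7
  have hjM : j * cj = M := by
    by_contra hne
    have hlt : j * cj < M := lt_of_le_of_ne hj hne
    have : (j * cj) * (i * ci) < M * M := calc (j * cj) * (i * ci) ≤ (j * cj) * M := Nat.mul_le_mul_left _ hi
      _ < M * M := Nat.mul_lt_mul_of_pos_right hlt hM
    omega
  have hiM : i * ci = M := by
    rw [hjM] at h6
    exact Nat.eq_of_mul_eq_mul_left hM h6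
  exact ⟨hxj', hyc', hjM, hiM⟩

/-- Let P be a finite p-group and call a subgroup R of P measure-largest if |R|·|C_P(R)| is as large as possible among subgroups of P. If Q and R are measure-largest then QR = RQ is a subgroup, QR and Q ∩ R are measure-largest, C_P(Q) is measure-largest, Q = C_P(C_P(Q)), and C_P(Q ∩ R) = C_P(Q)·C_P(R). -/
theorem result {p : ℕ} [Fact p.Prime] (P : Type*) [Group P] [Finite P] (hP : IsPGroup p P) (Q R : Subgroup P) (hQ : Cfsg.IsCentralizerLarge Q) (hR : Cfsg.IsCentralizerLarge R) : ((Q ⊔ R : Subgroup P) : Set P) = (Q : Set P) * (R : Set P) ∧ Cfsg.IsCentralizerLarge (Q ⊔ R) ∧ Cfsg.IsCentralizerLarge (Q ⊓ R) ∧ Cfsg.IsCentralizerLarge (Subgroup.centralizer (Q : Set P)) ∧ Q = Subgroup.centralizer ((Subgroup.centralizer (Q : Set P) : Subgroup P) : Set P) ∧ ((Subgroup.centralizer (Q : Set P) ⊔ Subgroup.centralizer (R : Set P) : Subgroup P) : Set P) = (Subgroup.centralizer (Q : Set P) : Set P) * (Subgroup.centralizer (R : Set P) : Set P) ∧ Subgroup.centralizer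 ((Q ⊓ R : Subgroup P) : Set P) = Subgroup.centralizer (Q : Set P) ⊔ Subgroup.centralizer (R : Set P) := by
  have hM : 0 < Cfsg.maxCentralizerProduct P := by
    have := Cfsg.Agent.Helper5.cdMeasure_pos Q
    have h2 := Cfsg.Agent.Helper5.cdMeasure_le_max Q
    omega
  have hx := Cfsg.Agent.Helper5.card_mul_set_mul_card_inf Q R
  have hy := Cfsg.Agent.Helper5.card_mul_set_mul_card_inf (Subgroup.centralizer (Q : Set P)) (Subgroup.centralizer (R : Set P))
  have hi := Cfsg.Agent.Helper5.cdMeasure_le_max (Q ⊓ R)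
  have hj := Cfsg.Agent.Helper5.cdMeasure_le_max (Q ⊔ R)
  unfold Cfsg.Agent.Helper5.cdMeasure at hi hj
  rw [Cfsg.Agent.Helper5.centralizer_sup_eq] at hj
  have hsub1 := Cfsg.Agent.Helper5.mul_subset_sup Q R
  have hsub2 := Cfsg.Agent.Helper5.centralizer_mul_subset Q R
  have hxj : Nat.card ((Q : Set P) * (R : Set P) : Set P) ≤ Nat.card ↥(Q ⊔ R) :=
    Nat.card_mono (Set.toFinite _) hsub1
  have hyc : Nat.card (((Subgroup.centralizer (Q : Set P) : Subgroup P) : Set P) * ((Subgroup.centralizer (R : Set P) : Subgroup P) : Set P) : Set P) ≤ Nat.card ↥(Subgroup.centralizer ((Q ⊓ R : Subgroup P) : Set P)) :=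
    Nat.card_mono (Set.toFinite _) hsub2
  have hypos : 0 < Nat.card (((Subgroup.centralizer (Q : Set P) : Subgroup P) : Set P) * ((Subgroup.centralizer (R : Set P) : Subgroup P) : Set P) : Set P) := by
    have : Nonempty (((Subgroup.centralizer (Q : Set P) : Subgroup P) : Set P) * ((Subgroup.centralizer (R : Set P) : Subgroup P) : Set P) : Set P) :=
      ⟨⟨1 * 1, Set.mul_mem_mul (Subgroup.one_mem _) (Subgroup.one_mem _)⟩⟩
    exact Nat.card_pos
  obtain ⟨e1, e2, e3, e4⟩ := key_arith hM hQ hR hi hj hx hy hxj hyc Nat.card_pos Nat.card_pos hypos Nat.card_pos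
  have hset1 : ((Q ⊔ R : Subgroup P) : Set P) = (Q : Set P) * (R : Set P) := by
    symm
    apply Set.eq_of_subset_of_ncard_le hsub1 _ (Set.toFinite _)
    rw [← _root_.Nat.card_coe_set_eq, ← _root_.Nat.card_coe_set_eq]
    exact le_of_eq e1.symm
  have hset2 : ((Subgroup.centralizer ((Q ⊓ R : Subgroup P) : Set P) : Subgroup P) : Set P) = ((Subgroup.centralizer (Q : Set P) : Subgroup P) : Set P) * ((Subgroup.centralizer (R : Set P) : Subgroup P) : Set P) := by
    symm
    apply Set.eq_of_subset_of_ncard_le hsub2 _ (Set.toFinite _)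
    rw [← _root_.Nat.card_coe_set_eq, ← _root_.Nat.card_coe_set_eq]
    exact le_of_eq e2.symm
  have hle : Subgroup.centralizer (Q : Set P) ⊔ Subgroup.centralizer (R : Set P) ≤ Subgroup.centralizer ((Q ⊓ R : Subgroup P) : Set P) :=
    sup_le (Subgroup.centralizer_le (inf_le_left : Q ⊓ R ≤ Q)) (Subgroup.centralizer_le (inf_le_right : Q ⊓ R ≤ R))
  have hge : Subgroup.centralizer ((Q ⊓ R : Subgroup P) : Set P) ≤ Subgroup.centralizer (Q : Set P) ⊔ Subgroup.centralizer (R : Set P) := by
    intro z hz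
    have hz' : z ∈ ((Subgroup.centralizer ((Q ⊓ R : Subgroup P) : Set P) : Subgroup P) : Set P) := hz
    rw [hset2] at hz'
    exact Cfsg.Agent.Helper5.mul_subset_sup _ _ hz'
  have heq : Subgroup.centralizer ((Q ⊓ R : Subgroup P) : Set P) = Subgroup.centralizer (Q : Set P) ⊔ Subgroup.centralizer (R : Set P) :=
    le_antisymm hge hle
  have hQcc : Q ≤ Subgroup.centralizer ((Subgroup.centralizer (Q : Set P) : Subgroup P) : Set P) := by
    intro a ha
    rw [Subgroup.mem_centralizer_iff]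
    intro b hb
    exact ((Subgroup.mem_centralizer_iff.mp hb) a ha).symm
  have hcc := Cfsg.Agent.Helper5.cdMeasure_le_max (Subgroup.centralizer (Q : Set P))
  unfold Cfsg.Agent.Helper5.cdMeasure at hcc
  have hcard_le : Nat.card ↥Q ≤ Nat.card ↥(Subgroup.centralizer ((Subgroup.centralizer (Q : Set P) : Subgroup P) : Set P)) :=
    Subgroup.card_le_of_le hQcc
  have hQ' : Nat.card ↥Q * Nat.card ↥(Subgroup.centralizer (Q : Set P)) = Cfsg.maxCentralizerProduct P := hQ
  have hCQ : Nat.card ↥(Subgroup.centralizer (Q : Set P)) * Nat.card ↥(Subgroup.centralizer ((Subgroup.centralizer (Q : Set P) : Subgroup P) : Set P)) = Cfsg.maxCentralizerProduct P := by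
    apply le_antisymm hcc
    rw [← hQ', mul_comm]
    exact Nat.mul_le_mul_left _ hcard_le
  have hcard_eq : Nat.card ↥(Subgroup.centralizer ((Subgroup.centralizer (Q : Set P) : Subgroup P) : Set P)) = Nat.card ↥Q := by
    have hpos : 0 < Nat.card ↥(Subgroup.centralizer (Q : Set P)) := Nat.card_pos
    have : Nat.card ↥(Subgroup.centralizer (Q : Set P)) * Nat.card ↥(Subgroup.centralizer ((Subgroup.centralizer (Q : Set P) : Subgroup P) : Set P)) = Nat.card ↥(Subgroup.centralizer (Q : Set P)) * Nat.card ↥Q := by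
      rw [hCQ, ← hQ', mul_comm]
    exact Nat.eq_of_mul_eq_mul_left hpos this
  refine ⟨hset1, ?_, e4, hCQ, ?_, ?_, heq⟩
  · show Nat.card ↥(Q ⊔ R) * Nat.card ↥(Subgroup.centralizer ((Q ⊔ R : Subgroup P) : Set P)) = Cfsg.maxCentralizerProduct P
    rw [Cfsg.Agent.Helper5.centralizer_sup_eq]
    exact e3
  · exact Subgroup.eq_of_le_of_card_ge hQcc (le_of_eq hcard_eq)
  · rw [← heq]
    exact hset2

end Cfsg.Agent.S3004
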