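import Mathlib
import Cfsg.Agent.Helper5.MaxAbelian
import Cfsg.Statements.S3006
-- import your own Cfsg.Agent.* helpers here

set_option autoImplicit false
open scoped Pointwise
open Cfsg

namespace Cfsg.Agent.S3006

/-- Let P be a finite p-group, Q a centrally large subgroup of P (|Q|·|Z(Q)| maximal among subgroups of P) and A an abelian subgroup of P of largest order. Then QA = AQ is a centrally large subgroup of P, C_{QA}(Q ∩ A) = Z(Q)·A, and the subgroup generated by all centrally large subgroups of P contains C_P(Z(J(P))), where J(P) is generated by the abelian subgroups of largest order. -/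
theorem result {p : ℕ} [Fact p.Prime] (P : Type*) [Group P] [Finite P] (hP : IsPGroup p P) (Q A : Subgroup P) (hQ : Cfsg.IsCentrallyLarge Q) (hA : A ∈ Cfsg.maxAbelianSubgroups P) : ((Q ⊔ A : Subgroup P) : Set P) = (Q : Set P) * (A : Set P) ∧ Cfsg.IsCentrallyLarge (Q ⊔ A) ∧ (Q ⊔ A) ⊓ Subgroup.centralizer ((Q ⊓ A : Subgroup P) : Set P) = (Q ⊓ Subgroup.centralizer (Q : Set P)) ⊔ A ∧ (((Q ⊓ Subgroup.centralizer (Q : Set P)) ⊔ A : Subgroup P) : Set P) = ((Q ⊓ Subgroup.centralizer (Q : Set P)) : Set P) * (A : Set P) ∧ Subgroup.centralizer ((Cfsg.thompsonSubgroupA P ⊓ Subgroup.centralizer (Cfsg.thompsonSubgroupA P : Set P) : Subgroup P) : Set P) ≤ Cfsg.centrallyLargeJoin P := by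
  obtain ⟨hQ1, hQ2⟩ := Cfsg.Agent.Helper5.IsCentrallyLarge.isCentralizerLarge hQ
  obtain ⟨h1, h2, h3, h4⟩ := Cfsg.Agent.Helper5.IsCentrallyLarge.sup_maxAbelian hQ hA
  have h5 := Cfsg.Agent.Helper5.IsCentrallyLarge.inf_centralizer_inf_le hQ hA
  have hCA := Cfsg.Agent.Helper5.centralizer_eq_of_mem_maxAbelianSubgroups hA
  have hZ : Q ⊓ Subgroup.centralizer (Q : Set P) = Subgroup.centralizer (Q : Set P) := inf_eq_right.mpr hQ2
  have hAB : A ≤ Subgroup.centralizer ((Q ⊓ A : Subgroup P) : Set P) := by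
    conv_lhs => rw [← hCA]
    exact Subgroup.centralizer_le inf_le_right
  have key : ∀ x ∈ (Q ⊔ A) ⊓ Subgroup.centralizer ((Q ⊓ A : Subgroup P) : Set P),
      x ∈ ((Subgroup.centralizer (Q : Set P) : Subgroup P) : Set P) * (A : Set P) := by
    intro x hx
    have hxJ : x ∈ ((Q ⊔ A : Subgroup P) : Set P) := hx.1
    rw [h1] at hxJ
    obtain ⟨g, hg, α, hα, rfl⟩ := hxJ
    have hgC : g ∈ Subgroup.centralizer ((Q ⊓ A : Subgroup P) : Set P) := by
      have : g = (g * α) * α⁻¹ := by group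
      rw [this]
      exact Subgroup.mul_mem _ hx.2 (Subgroup.inv_mem _ (hAB hα))
    have hg2 : g ∈ ((Subgroup.centralizer (Q : Set P) ⊔ (Q ⊓ A) : Subgroup P) : Set P) := h5 ⟨hg, hgC⟩
    rw [h4] at hg2
    obtain ⟨c, hc, β, hβ, rfl⟩ := hg2
    refine ⟨c, hc, β * α, Subgroup.mul_mem _ hβ.2 hα, ?_⟩
    group
  have h6 : (Q ⊔ A) ⊓ Subgroup.centralizer ((Q ⊓ A : Subgroup P) : Set P) = Subgroup.centralizer (Q : Set P) ⊔ A := by
    apply le_antisymm
    · intro x hx
      exact Cfsg.Agent.Helper5.mul_subset_sup _ _ (key x hx)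
    · apply sup_le
      · exact le_inf (hQ2.trans le_sup_left) (Subgroup.centralizer_le inf_le_left)
      · exact le_inf le_sup_right hAB
  have hZs : ((Q : Set P) ⊓ ((Subgroup.centralizer (Q : Set P) : Subgroup P) : Set P)) =
      ((Subgroup.centralizer (Q : Set P) : Subgroup P) : Set P) :=
    inf_eq_right.mpr (fun x hx => hQ2 hx)
  rw [hZ, hZs]
  refine ⟨h1, h2, h6, ?_, ?_⟩
  · apply Set.Subset.antisymm
    · intro x hx
      have hx' : x ∈ Subgroup.centralizer (Q : Set P) ⊔ A := hx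
      rw [← h6] at hx'
      exact key x hx'
    · exact Cfsg.Agent.Helper5.mul_subset_sup _ _
  · exact Cfsg.Agent.Helper5.centralizer_center_thompsonA_le
      Cfsg.Agent.Helper5.isCentrallyLarge_centrallyLargeJoin
      Cfsg.Agent.Helper5.thompsonSubgroupA_le_centrallyLargeJoin

end Cfsg.Agent.S3006
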