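import Cfsg.Statements.S3009
import Cfsg.Agent.Lead.SL2NatD

set_option autoImplicit false
open Cfsg

namespace Cfsg.Agent.S3009

/-- Let p be a prime and let G and V be subgroups of a finite group with V elementary abelian and normalized by G, and G isomorphic to SL₂(F) for a finite field F with pⁿ elements. Suppose G acts irreducibly and nontrivially on V by conjugation (no G-invariant subgroups of V other than 1 and V, and [V, G] ≠ 1), and let S be a Sylow p-subgroup of G and V₀ = C_V(S). If [V, S, S] = 1 or |V| ≤ |V₀|², then G acts on V as SL₂(F) on its natural two-dimensional module; in particular |V| = |F|². -/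
theorem result {X : Type*} [Group X] [Finite X] {p : ℕ} [Fact p.Prime] (G V : Subgroup X) (hV : Cfsg.IsElementaryAbelian p V) (hGV : G ≤ Subgroup.normalizer (V : Set X)) (F : Type) [Field F] [Fintype F] (n : ℕ) (hF : Fintype.card F = p ^ n) (hG : Nonempty (↥G ≃* Matrix.SpecialLinearGroup (Fin 2) F)) (hirr : ∀ U : Subgroup X, U ≤ V → G ≤ Subgroup.normalizer (U : Set X) → U = ⊥ ∨ U = V) (hnt : ⁅V, G⁆ ≠ ⊥) (S : Sylow p ↥G) (hyp : ⁅⁅V, (S : Subgroup ↥G).map G.subtype⁆, (S : Subgroup ↥G).map G.subtype⁆ = ⊥ ∨ Nat.card ↥V ≤ Nat.card ↥(V ⊓ Subgroup.centralizer (((S : Subgroup ↥G).map G.subtype : Subgroup X) : Set X)) ^ 2) : Cfsg.ActsAsSL2OnSection F ⊤ G V ⊥ := by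
  classical
  have : CharP F p := charP_of_card_eq_prime_pow hF
  obtain ⟨e₀⟩ := hG
  have hr : (S : Subgroup ↥G) ≤ e₀.symm.toMonoidHom.range := by
    rw [MonoidHom.range_eq_top.mpr e₀.symm.surjective]; exact le_top
  let S' : Sylow p (Matrix.SpecialLinearGroup (Fin 2) F) :=
    S.comapOfInjective e₀.symm.toMonoidHom e₀.symm.injective hr
  obtain ⟨c, hc⟩ := MulAction.exists_smul_eq (Matrix.SpecialLinearGroup (Fin 2) F) S'
    (Cfsg.Agent.Helper5.SLB.unipSylow (F := F) p)
  let e : ↥G ≃* Matrix.SpecialLinearGroup (Fin 2) F := e₀.trans (MulAut.conj c)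
  refine Cfsg.Agent.Lead.SL2Nat.concrete G V hV hGV F e hirr hnt _ ?_ hyp
  intro a
  apply Subgroup.mem_map_of_mem
  have h1 : Cfsg.Agent.Helper5.SLB.uMat a ∈
      ((Cfsg.Agent.Helper5.SLB.unipSylow (F := F) p : Sylow p (Matrix.SpecialLinearGroup (Fin 2) F)) :
        Subgroup (Matrix.SpecialLinearGroup (Fin 2) F)) := Cfsg.Agent.Helper5.SLB.uMat_mem a
  rw [← hc, Sylow.coe_subgroup_smul, Subgroup.mem_pointwise_smul_iff_inv_smul_mem] at h1
  have h2 : (MulAut.conj c)⁻¹ • Cfsg.Agent.Helper5.SLB.uMat a ∈ Subgroup.comap e₀.symm.toMonoidHom (S : Subgroup ↥G) := h1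
  rw [Subgroup.mem_comap] at h2
  exact h2

end Cfsg.Agent.S3009
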