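import Mathlib
import Cfsg.Agent.S0200
import Cfsg.Statements.S3011
-- import your own Cfsg.Agent.* helpers here

set_option autoImplicit false
open Cfsg

namespace Cfsg.Agent.S3011

theorem eq_one_of_sq_eq_one_of_odd {G : Type*} [Group G] {z : G} (hz : Odd (orderOf z))
    (h : z * z = 1) : z = 1 := by
  have h1 : orderOf z ∣ 2 := orderOf_dvd_of_pow_eq_one (by rw [sq]; exact h)
  have h2 : orderOf z = 1 := by
    rcases (Nat.dvd_prime Nat.prime_two).mp h1 with h3 | h3
    · exact h3
    · exfalso; rw [h3] at hz; exact (by decide : ¬ Odd 2) hz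
  exact orderOf_eq_one_iff.mp h2

theorem commute_of_commute_pow {G : Type*} [Group G] {u z : G} (hz : Odd (orderOf z)) (k : ℕ)
    (h : Commute u (z ^ (2 ^ k))) : Commute u z := by
  obtain ⟨j, hj⟩ := exists_pow_eq_self_of_coprime
    (Nat.Coprime.pow_left k ((Nat.coprime_two_left).mpr hz))
  have := h.pow_right j
  rwa [hj] at this

theorem key {G : Type*} [Group G] (V : Subgroup G) (hS : Cfsg.IsSidkiPair V) (b c : G)
    (hb : b ∈ V) (hc : c ∈ V) (hbb : b * b = 1) (hcc : c * c = 1)
    (hV : ∀ w ∈ V, w = 1 ∨ w = b ∨ w = c ∨ w = b * c)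
    (x y : G) (hx : Odd (orderOf x)) (hy : Odd (orderOf y)) (hx1 : x ≠ 1) (hy1 : y ≠ 1)
    (hcx : c * x * c⁻¹ = x⁻¹) (hbx : b * x = x * b) (hby : b * y * b⁻¹ = y⁻¹) (hcy : c * y = y * c) :
    False := by
  have hbx' : MulAut.conj b x = x := by rw [MulAut.conj_apply, hbx, mul_inv_cancel_right]
  have hby' : MulAut.conj b y = y⁻¹ := by rw [MulAut.conj_apply]; exact hby
  have hcx' : MulAut.conj c x = x⁻¹ := by rw [MulAut.conj_apply]; exact hcx
  have hcy' : MulAut.conj c y = y := by rw [MulAut.conj_apply, hcy, mul_inv_cancel_right]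
  have hcomm_iff : ∀ w h : G, w * h = h * w ↔ MulAut.conj w h = h := by
    intro w h; rw [MulAut.conj_apply, mul_inv_eq_iff_eq_mul]
  have hinv_iff : ∀ w h : G, w * h * w⁻¹ = h⁻¹ ↔ MulAut.conj w h = h⁻¹ := by
    intro w h; rw [MulAut.conj_apply]
  have hbcconj : MulAut.conj (b * c) = MulAut.conj b * MulAut.conj c := map_mul _ _ _
  -- Step 1: x and y commute
  have hxy : Commute x y := by
    have hodd' : Odd (orderOf (y⁻¹ * x * y)) := by
      have : y⁻¹ * x * y = MulAut.conj y⁻¹ x := by simp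
      rw [this, MulEquiv.orderOf_eq]; exact hx
    have hinv' : c * (y⁻¹ * x * y) * c⁻¹ = (y⁻¹ * x * y)⁻¹ := by
      rw [hinv_iff]
      simp only [map_mul, map_inv, hcx', hcy']; group
    obtain ⟨w, hwV, hw1, hwc⟩ := hS _ c hc hodd' hinv'
    rw [hcomm_iff] at hwc
    rcases hV w hwV with rfl | rfl | rfl | rfl
    · exact absurd rfl hw1
    · -- w = b
      simp only [map_mul, map_inv, hbx', hby', inv_inv] at hwc
      apply commute_of_commute_pow hy 1
      show x * y ^ 2 ^ 1 = y ^ 2 ^ 1 * x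
      rw [pow_one, sq]
      calc x * (y * y) = y * (y⁻¹ * x * y) * y := by group
        _ = y * (y * x * y⁻¹) * y := by rw [hwc]
        _ = y * y * x := by group
    · -- w = c
      exfalso
      rw [hinv_iff, hwc] at hinv'
      have h3 : (y⁻¹ * x * y) * (y⁻¹ * x * y) = 1 := mul_eq_one_iff_eq_inv.mpr hinv'
      have h4 := eq_one_of_sq_eq_one_of_odd hodd' h3
      apply hx1
      calc x = y * (y⁻¹ * x * y) * y⁻¹ := by group
        _ = 1 := by rw [h4]; group
    · -- w = b * c
      exfalso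
      rw [hbcconj, MulAut.mul_apply] at hwc
      simp only [map_mul, map_inv, hcx', hcy', hbx', hby', inv_inv] at hwc
      have h4 : x = (y * y) * x⁻¹ * (y * y)⁻¹ := by
        calc x = y * (y⁻¹ * x * y) * y⁻¹ := by group
          _ = y * (y * x⁻¹ * y⁻¹) * y⁻¹ := by rw [hwc]
          _ = (y * y) * x⁻¹ * (y * y)⁻¹ := by simp only [mul_inv_rev, inv_inv, mul_assoc]
      have h5 : x⁻¹ = (y * y) * x * (y * y)⁻¹ := by
        calc x⁻¹ = ((y * y) * x⁻¹ * (y * y)⁻¹)⁻¹ := by rw [← h4]
          _ = (y * y) * x * (y * y)⁻¹ := by simp only [mul_inv_rev, inv_inv, mul_assoc]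
      have h6 : Commute x (y ^ 2 ^ 2) := by
        show x * y ^ 2 ^ 2 = y ^ 2 ^ 2 * x
        have e : y ^ 2 ^ 2 = y * y * y * y := by
          rw [show (2 : ℕ) ^ 2 = 4 from rfl, pow_succ, pow_succ, pow_succ, pow_one]
        rw [e]
        have h7 : x = (y * y * y * y) * x * (y * y * y * y)⁻¹ := by
          calc x = (y * y) * x⁻¹ * (y * y)⁻¹ := h4
            _ = (y * y) * ((y * y) * x * (y * y)⁻¹) * (y * y)⁻¹ := by rw [← h5]
            _ = (y * y * y * y) * x * (y * y * y * y)⁻¹ := by simp only [mul_inv_rev, inv_inv, mul_assoc]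
        calc x * (y * y * y * y) = ((y * y * y * y) * x * (y * y * y * y)⁻¹) * (y * y * y * y) := by
              rw [← h7]
          _ = (y * y * y * y) * x := by simp only [mul_inv_rev, inv_inv, mul_assoc, inv_mul_cancel_left, inv_mul_cancel, mul_one]
      have h8 : Commute x y := commute_of_commute_pow hy 2 h6
      have h9 : x = x⁻¹ := by
        calc x = (y * y) * x⁻¹ * (y * y)⁻¹ := h4
          _ = x⁻¹ * (y * y) * (y * y)⁻¹ := by rw [((h8.inv_left.mul_right h8.inv_left)).eq]
          _ = x⁻¹ := by group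
      exact hx1 (eq_one_of_sq_eq_one_of_odd hx (mul_eq_one_iff_eq_inv.mpr h9))
  -- Step 2: the diagonal element
  have hodd2 : Odd (orderOf (x * y)) :=
    Odd.of_dvd_nat (hx.mul hy) hxy.orderOf_mul_dvd_mul_orderOf
  have hinv2 : (b * c) * (x * y) * (b * c)⁻¹ = (x * y)⁻¹ := by
    rw [hinv_iff, hbcconj, MulAut.mul_apply]
    simp only [map_mul, map_inv, hcx', hcy', hbx', hby']
    rw [mul_inv_rev, hxy.inv_inv.eq]
  obtain ⟨w, hwV, hw1, hwc⟩ := hS _ (b * c) (V.mul_mem hb hc) hodd2 hinv2
  rw [hcomm_iff] at hwc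
  rcases hV w hwV with rfl | rfl | rfl | rfl
  · exact absurd rfl hw1
  · -- w = b : x * y⁻¹ = x * y
    simp only [map_mul, hbx', hby'] at hwc
    have h1 : y⁻¹ = y := mul_left_cancel hwc
    exact hy1 (eq_one_of_sq_eq_one_of_odd hy (mul_eq_one_iff_eq_inv.mpr h1.symm))
  · -- w = c : x⁻¹ * y = x * y
    simp only [map_mul, hcx', hcy'] at hwc
    have h1 : x⁻¹ = x := mul_right_cancel hwc
    exact hx1 (eq_one_of_sq_eq_one_of_odd hx (mul_eq_one_iff_eq_inv.mpr h1.symm))
  · -- w = b * c
    rw [hinv_iff, hwc] at hinv2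
    have h3 : (x * y) * (x * y) = 1 := mul_eq_one_iff_eq_inv.mpr hinv2
    have h4 := eq_one_of_sq_eq_one_of_odd hodd2 h3
    have h5 : y = x⁻¹ := (mul_eq_one_iff_eq_inv'.mp h4)
    rw [h5, map_inv, hbx'] at hby'
    rw [inv_inv] at hby'
    exact hx1 (eq_one_of_sq_eq_one_of_odd hx (mul_eq_one_iff_eq_inv.mpr hby'.symm))

/-- Let G be a finite group and V a nontrivial elementary abelian 2-subgroup of G of order at most 4 such that, whenever an element of V inverts an element h of G of odd order, some nontrivial element of V commutes with h. Then V meets O₂(G) nontrivially. (The case of order at most 4 has a short argument from the Baer–Suzuki theorem.) -/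
theorem result {G : Type*} [Group G] [Finite G] (V : Subgroup G) (hV : Cfsg.IsElementaryAbelian 2 V) (hV1 : V ≠ ⊥) (hS : Cfsg.IsSidkiPair V) (h4 : Nat.card V ≤ 4) : V ⊓ Cfsg.pCore 2 G ≠ ⊥ := by
  by_contra hbot
  have hcommV : ∀ u ∈ V, ∀ v ∈ V, u * v = v * u := by
    intro u hu v hv
    have := hV.1
    exact setLike_mul_comm hu hv
  have hsq : ∀ v ∈ V, v * v = 1 := fun v hv => by rw [← sq]; exact hV.2 v hv
  -- every nontrivial element of V inverts a nontrivial element of odd order
  have hBS : ∀ v ∈ V, v ≠ 1 → ∃ h : G, h ≠ 1 ∧ Odd (orderOf h) ∧ v * h * v⁻¹ = h⁻¹ := by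
    intro v hv hv1
    apply Cfsg.Agent.S0200.result v
    · exact orderOf_eq_prime (by rw [sq]; exact hsq v hv) hv1
    · intro N hN hNp hvN
      have hle : N ≤ Cfsg.pCore 2 G := le_sSup ⟨hN, hNp⟩
      have : v ∈ V ⊓ Cfsg.pCore 2 G := ⟨hv, hle hvN⟩
      rw [hbot, Subgroup.mem_bot] at this
      exact hv1 this
  have hinv_comm : ∀ v h : G, Odd (orderOf h) → h ≠ 1 → v * h * v⁻¹ = h⁻¹ → v * h = h * v → False := by
    intro v h hodd h1 hinv hc
    apply h1
    apply eq_one_of_sq_eq_one_of_odd hodd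
    rw [mul_eq_one_iff_eq_inv, ← hinv, hc, mul_inv_cancel_right]
  obtain ⟨a, ha1⟩ := (Subgroup.ne_bot_iff_exists_ne_one).mp hV1
  have ha1' : (a : G) ≠ 1 := fun h => ha1 (Subtype.ext h)
  obtain ⟨x, hx1, hxodd, hax⟩ := hBS a a.2 ha1'
  obtain ⟨b, hbV, hb1, hbx⟩ := hS x a a.2 hxodd hax
  have hab : (a : G) ≠ b := by
    intro h
    rw [← h] at hbx
    exact hinv_comm a x hxodd hx1 hax hbx
  -- V = {1, a, b, ab}
  have hV4 : ∀ w ∈ V, w = 1 ∨ w = b ∨ w = (a : G) ∨ w = b * a := by
    have hS4 : ({1, b, (a : G), b * a} : Set G).ncard = 4 := by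
      rw [Set.ncard_insert_of_notMem, Set.ncard_insert_of_notMem, Set.ncard_pair]
      · intro h
        apply hb1
        have : b * (a : G) = 1 * a := by rw [one_mul]; exact h.symm
        exact mul_right_cancel this
      · simp only [Set.mem_insert_iff, Set.mem_singleton_iff, not_or]
        refine ⟨fun h => hab h.symm, ?_⟩
        intro h
        apply ha1'
        have : b * 1 = b * (a : G) := by rw [mul_one]; exact h
        exact (mul_left_cancel this).symm
      · simp only [Set.mem_insert_iff, Set.mem_singleton_iff, not_or]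
        refine ⟨fun h => hb1 h.symm, fun h => ha1' h.symm, ?_⟩
        intro h
        apply hab
        have h2 : b * (a : G) = b * b := by rw [hsq b hbV]; exact h.symm
        exact mul_left_cancel h2
    have hsub : ({1, b, (a : G), b * a} : Set G) ⊆ (V : Set G) := by
      intro z hz
      simp only [Set.mem_insert_iff, Set.mem_singleton_iff] at hz
      rcases hz with rfl | rfl | rfl | rfl
      · exact V.one_mem
      · exact hbV
      · exact a.2
      · exact V.mul_mem hbV a.2
    have hcard : (V : Set G).ncard ≤ ({1, b, (a : G), b * a} : Set G).ncard := by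
      rw [hS4, ← _root_.Nat.card_coe_set_eq]; exact h4
    have heq := Set.eq_of_subset_of_ncard_le hsub hcard (Set.toFinite _)
    intro w hw
    have : w ∈ ({1, b, (a : G), b * a} : Set G) := by rw [heq]; exact hw
    simpa only [Set.mem_insert_iff, Set.mem_singleton_iff] using this
  -- b inverts some y
  obtain ⟨y, hy1, hyodd, hby⟩ := hBS b hbV hb1
  obtain ⟨w, hwV, hw1, hwy⟩ := hS y b hbV hyodd hby
  rcases hV4 w hwV with rfl | rfl | rfl | rfl
  · exact hw1 rfl
  · exact hinv_comm w y hyodd hy1 hby hwy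
  · -- a centralizes y
    exact key V hS b a hbV a.2 (hsq b hbV) (hsq a a.2) hV4 x y hxodd hyodd hx1 hy1 hax hbx hby hwy
  · -- b * a centralizes y; use c = b * a
    have hba : b * (a : G) = a * b := hcommV b hbV a a.2
    have hV4' : ∀ w ∈ V, w = 1 ∨ w = b ∨ w = b * (a : G) ∨ w = b * (b * a) := by
      intro w hw
      rcases hV4 w hw with h | h | h | h
      · exact Or.inl h
      · exact Or.inr (Or.inl h)
      · right; right; right
        rw [← mul_assoc, hsq b hbV, one_mul]; exact h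
      · exact Or.inr (Or.inr (Or.inl h))
    have hcx : (b * (a : G)) * x * (b * a)⁻¹ = x⁻¹ := by
      calc (b * (a : G)) * x * (b * a)⁻¹ = b * ((a : G) * x * (a : G)⁻¹) * b⁻¹ := by group
        _ = b * x⁻¹ * b⁻¹ := by rw [hax]
        _ = (b * x * b⁻¹)⁻¹ := by group
        _ = x⁻¹ := by rw [hbx, mul_inv_cancel_right]
    have hcc : (b * (a : G)) * (b * a) = 1 := hsq _ (V.mul_mem hbV a.2)
    exact key V hS b (b * a) hbV (V.mul_mem hbV a.2) (hsq b hbV) hcc hV4' x y hxodd hyodd hx1 hy1
      hcx hbx hby hwy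

end Cfsg.Agent.S3011
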