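import Mathlib
import Cfsg.Statements.S3012
-- import your own Cfsg.Agent.* helpers here

set_option autoImplicit false
open Cfsg

namespace Cfsg.Agent.S3012

/-- Let G be a finite group, V a nontrivial elementary abelian 2-subgroup of G satisfying the Sidki pair condition (every odd-order element inverted by an element of V commutes with a nontrivial element of V), and K a normal subgroup of G with V ∩ K = 1. Then the image of V in G/K satisfies the Sidki pair condition in G/K. -/
theorem result {G : Type*} [Group G] [Finite G] (V K : Subgroup G) [K.Normal] (hV : Cfsg.IsElementaryAbelian 2 V) (hV1 : V ≠ ⊥) (hS : Cfsg.IsSidkiPair V) (hVK : V ⊓ K = ⊥) : Cfsg.IsSidkiPair (V.map (QuotientGroup.mk' K)) := by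
  intro hb vb hvb hodd hinvb
  obtain ⟨v, hv, rfl⟩ := Subgroup.mem_map.mp hvb
  obtain ⟨h, rfl⟩ := QuotientGroup.mk'_surjective K hb
  have hv2 : v ^ 2 = 1 := hV.2 v hv
  have hvv : v * v = 1 := by rw [← sq, hv2]
  have hvinv : v⁻¹ = v := by
    rw [inv_eq_iff_mul_eq_one, hvv]
  have hginv : v * (h * v * h⁻¹ * v⁻¹) * v⁻¹ = (h * v * h⁻¹ * v⁻¹)⁻¹ := by
    simp only [mul_inv_rev, inv_inv, hvinv]
    simp [mul_assoc, hvv]
  set g := h * v * h⁻¹ * v⁻¹ with hg
  -- the image of g is the square of the image of h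
  have himg : (QuotientGroup.mk' K) g = (QuotientGroup.mk' K) h ^ 2 := by
    have h1 : (QuotientGroup.mk' K) v * ((QuotientGroup.mk' K) h)⁻¹ * ((QuotientGroup.mk' K) v)⁻¹
        = (QuotientGroup.mk' K) h := by
      have := congrArg (fun z => z⁻¹) hinvb
      simp only [mul_inv_rev, inv_inv] at this
      rw [mul_assoc]; exact this
    rw [hg, map_mul, map_mul, map_mul, map_inv, map_inv, mul_assoc, mul_assoc, ← mul_assoc _ _ ((QuotientGroup.mk' K) v)⁻¹, h1, sq]
  have hn : orderOf g ≠ 0 := (orderOf_pos g).ne'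
  obtain ⟨a, m, hm, hnm⟩ := Nat.exists_eq_two_pow_mul_odd hn
  have hodd' : Odd (orderOf (g ^ (2 ^ a))) := by
    have : orderOf (g ^ (2 ^ a)) ∣ m := by
      apply orderOf_dvd_of_pow_eq_one
      rw [← pow_mul, ← hnm, pow_orderOf_eq_one]
    exact Odd.of_dvd_nat hm this
  have hinv' : v * (g ^ (2 ^ a)) * v⁻¹ = (g ^ (2 ^ a))⁻¹ := by
    rw [← conj_pow, hginv, inv_pow]
  obtain ⟨w, hwV, hw1, hwc⟩ := hS (g ^ (2 ^ a)) v hv hodd' hinv'
  refine ⟨(QuotientGroup.mk' K) w, Subgroup.mem_map_of_mem _ hwV, ?_, ?_⟩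
  · intro hw
    have hwK : w ∈ K := by
      rw [← QuotientGroup.eq_one_iff]; exact hw
    have : w ∈ V ⊓ K := ⟨hwV, hwK⟩
    rw [hVK, Subgroup.mem_bot] at this
    exact hw1 this
  · have hcop : Nat.Coprime (2 ^ (a + 1)) (orderOf ((QuotientGroup.mk' K) h)) := by
      apply Nat.Coprime.pow_left
      exact (Nat.coprime_two_left).mpr hodd
    obtain ⟨j, hj⟩ := exists_pow_eq_self_of_coprime hcop
    have hcomm : Commute ((QuotientGroup.mk' K) w) ((QuotientGroup.mk' K) h ^ 2 ^ (a + 1)) := by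
      have : (QuotientGroup.mk' K) h ^ 2 ^ (a + 1) = (QuotientGroup.mk' K) (g ^ 2 ^ a) := by
        rw [map_pow, himg, ← pow_mul, pow_succ, mul_comm]
      rw [this]
      show (QuotientGroup.mk' K) w * (QuotientGroup.mk' K) (g ^ 2 ^ a) = (QuotientGroup.mk' K) (g ^ 2 ^ a) * (QuotientGroup.mk' K) w
      rw [← map_mul, ← map_mul, hwc]
    have := hcomm.pow_right j
    rw [hj] at this
    exact this

end Cfsg.Agent.S3012
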