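import Mathlib
import Cfsg.Statements.S3013
-- import your own Cfsg.Agent.* helpers here

set_option autoImplicit false
open Cfsg

namespace Cfsg.Agent.S3013

/-- Let G be a finite group and V a nontrivial elementary abelian 2-subgroup of G satisfying the Sidki pair condition. Let v ∈ V and let x be an element of odd order inverted by v, and put C = C_G(v) ∩ C_G(x), the centralizer of the dihedral subgroup generated by v and x. Then C ∩ V is nontrivial and satisfies the Sidki pair condition inside C: every odd-order element of C inverted by an element of C ∩ V commutes with a nontrivial element of C ∩ V. -/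
theorem result {G : Type*} [Group G] [Finite G] (V : Subgroup G) (hV : Cfsg.IsElementaryAbelian 2 V) (hV1 : V ≠ ⊥) (hS : Cfsg.IsSidkiPair V) (v x : G) (hv : v ∈ V) (hx : Odd (orderOf x)) (hinv : v * x * v⁻¹ = x⁻¹) (C : Subgroup G) (hC : C = Subgroup.centralizer ({v} : Set G) ⊓ Subgroup.centralizer ({x} : Set G)) : C ⊓ V ≠ ⊥ ∧ Cfsg.IsSidkiPair ((C ⊓ V).subgroupOf C) := by
  subst hC
  have hcomm : ∀ a ∈ V, ∀ b ∈ V, a * b = b * a := by
    intro a ha b hb
    haveI := hV.1
    exact setLike_mul_comm ha hb
  have hx' : v * x = x⁻¹ * v := by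
    rw [← hinv]; group
  have key : ∀ h : G, h * v = v * h → h * x = x * h → Odd (orderOf h) → ∀ u ∈ V, u * x = x * u →
      u * h * u⁻¹ = h⁻¹ → ∃ w ∈ V, w ≠ 1 ∧ w * h = h * w ∧ w * x = x * w := by
    intro h hhv hhx hodd u hu hux huh
    have huh' : u * h = h⁻¹ * u := by rw [← huh]; group
    have hux' : u * x⁻¹ = x⁻¹ * u := by
      have : Commute u x := hux
      exact this.inv_right
    have hhx' : Commute h x := hhx
    have hoddy : Odd (orderOf (h * x)) := by
      have h1 : orderOf (h * x) ∣ orderOf h * orderOf x := hhx'.orderOf_mul_dvd_mul_orderOf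
      exact Odd.of_dvd_nat (hodd.mul hx) h1
    have hinvy : (u * v) * (h * x) * (u * v)⁻¹ = (h * x)⁻¹ := by
      rw [mul_inv_eq_iff_eq_mul]
      calc u * v * (h * x) = u * ((v * h) * x) := by simp only [mul_assoc]
        _ = u * ((h * v) * x) := by rw [hhv]
        _ = u * h * (v * x) := by simp only [mul_assoc]
        _ = h⁻¹ * u * (x⁻¹ * v) := by rw [huh', hx']
        _ = h⁻¹ * (u * x⁻¹) * v := by simp only [mul_assoc]
        _ = h⁻¹ * (x⁻¹ * u) * v := by rw [hux']
        _ = (h⁻¹ * x⁻¹) * (u * v) := by simp only [mul_assoc]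
        _ = (h * x)⁻¹ * (u * v) := by rw [hhx, mul_inv_rev]
    obtain ⟨w, hwV, hw1, hwy⟩ := hS (h * x) (u * v) (V.mul_mem hu hv) hoddy hinvy
    have hwy' : Commute w (h * x) := hwy
    have hwv : Commute w v := hcomm w hwV v hv
    have h1 : Commute w (v * (h * x) * v⁻¹) := (hwv.mul_right hwy').mul_right hwv.inv_right
    have h2 : (h * x) * (v * (h * x) * v⁻¹) = h ^ 2 := by
      have e1 : v * (h * x) * v⁻¹ = h * x⁻¹ := by
        rw [mul_inv_eq_iff_eq_mul]
        calc v * (h * x) = (v * h) * x := by simp only [mul_assoc]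
          _ = (h * v) * x := by rw [hhv]
          _ = h * (v * x) := by simp only [mul_assoc]
          _ = h * (x⁻¹ * v) := by rw [hx']
          _ = h * x⁻¹ * v := by simp only [mul_assoc]
      rw [e1, sq]
      calc h * x * (h * x⁻¹) = h * (x * h) * x⁻¹ := by simp only [mul_assoc]
        _ = h * (h * x) * x⁻¹ := by rw [hhx]
        _ = h * h := by simp [mul_assoc]
    have h3 : Commute w (h ^ 2) := by rw [← h2]; exact hwy'.mul_right h1
    have hcop : Nat.Coprime 2 (orderOf h) := (Nat.coprime_two_left).mpr hodd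
    obtain ⟨j, hj⟩ := exists_pow_eq_self_of_coprime hcop
    have h4 : Commute w h := by
      have := h3.pow_right j
      rwa [hj] at this
    have h5 : Commute w x := by
      have : x = h⁻¹ * (h * x) := by group
      rw [this]
      exact h4.inv_right.mul_right hwy'
    exact ⟨w, hwV, hw1, h4, h5⟩
  constructor
  · obtain ⟨w, hwV, hw1, -, hwx⟩ := key 1 (by simp) (by simp) (by simp) 1 V.one_mem (by simp) (by simp)
    intro hbot
    have hwC : w ∈ Subgroup.centralizer ({v} : Set G) ⊓ Subgroup.centralizer ({x} : Set G) := by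
      refine ⟨?_, ?_⟩
      · exact Subgroup.mem_centralizer_singleton_iff.mpr (hcomm w hwV v hv)
      · exact Subgroup.mem_centralizer_singleton_iff.mpr hwx
    have : w ∈ (Subgroup.centralizer ({v} : Set G) ⊓ Subgroup.centralizer ({x} : Set G)) ⊓ V := ⟨hwC, hwV⟩
    rw [hbot, Subgroup.mem_bot] at this
    exact hw1 this
  · intro h u hu hodd huh
    have hu' : (u : G) ∈ (Subgroup.centralizer ({v} : Set G) ⊓ Subgroup.centralizer ({x} : Set G)) ⊓ V :=
      Subgroup.mem_subgroupOf.mp hu
    have hhC := h.2
    have hhv : (h : G) * v = v * h := Subgroup.mem_centralizer_singleton_iff.mp hhC.1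
    have hhx : (h : G) * x = x * h := Subgroup.mem_centralizer_singleton_iff.mp hhC.2
    have hux : (u : G) * x = x * u := Subgroup.mem_centralizer_singleton_iff.mp hu'.1.2
    have hodd' : Odd (orderOf (h : G)) := by rwa [Subgroup.orderOf_coe]
    have huh' : (u : G) * h * (u : G)⁻¹ = (h : G)⁻¹ := by
      have := congrArg Subtype.val huh
      simpa using this
    obtain ⟨w, hwV, hw1, hwh, hwx⟩ := key h hhv hhx hodd' u hu'.2 hux huh'
    have hwC : w ∈ Subgroup.centralizer ({v} : Set G) ⊓ Subgroup.centralizer ({x} : Set G) := by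
      refine ⟨?_, ?_⟩
      · exact Subgroup.mem_centralizer_singleton_iff.mpr (hcomm w hwV v hv)
      · exact Subgroup.mem_centralizer_singleton_iff.mpr hwx
    refine ⟨⟨w, hwC⟩, ?_, ?_, ?_⟩
    · rw [Subgroup.mem_subgroupOf]; exact ⟨hwC, hwV⟩
    · intro h1
      apply hw1
      exact congrArg Subtype.val h1
    · apply Subtype.ext
      simpa using hwh

end Cfsg.Agent.S3013
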