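import Mathlib
import Cfsg.Agent.Helper5.Misc
import Cfsg.Agent.Helper5.StrongEmb
import Cfsg.Agent.Helper5.TransferEval
import Cfsg.Agent.S2908
import Cfsg.Statements.S3014
-- import your own Cfsg.Agent.* helpers here

set_option autoImplicit false
open Cfsg Cfsg.Agent.Helper5

namespace Cfsg.Agent.S3014

theorem eq_or_eq_of_isCoatom_subgroupOf {G : Type*} [Group G] {H M K : Subgroup G}
    (hc : IsCoatom (H.subgroupOf M)) (hHK : H ≤ K) (hKM : K ≤ M) : K = H ⊓ M ∨ K = M := by
  have h1 : H.subgroupOf M ≤ K.subgroupOf M := fun y hy => by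
    rw [Subgroup.mem_subgroupOf] at hy ⊢; exact hHK hy
  rcases hc.le_iff.mp h1 with h | h
  · right
    rw [Subgroup.subgroupOf_eq_top] at h
    exact le_antisymm hKM h
  · left
    rw [Subgroup.subgroupOf_inj] at h
    rw [← h]
    exact (inf_eq_left.mpr hKM).symm

/-- Let G be a finite group and H ≤ M ≤ G subgroups such that for every g ∈ G the subgroup generated by H and g H g⁻¹ meets M exactly in H. If H is a maximal subgroup of M and M is a maximal subgroup of G, then the normal closure of H in G meets M exactly in H. -/
theorem result {G : Type*} [Group G] [Finite G] (H M : Subgroup G) (hHM : H ≤ M) (hcl : ∀ g : G, (H ⊔ H.map (MulAut.conj g).toMonoidHom) ⊓ M = H) (hmaxH : IsCoatom (H.subgroupOf M)) (hmaxM : IsCoatom M) : Subgroup.normalClosure (H : Set G) ⊓ M = H := by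
  classical
  -- (a) strong closure
  have hsc : ∀ g : G, ∀ h ∈ H, g * h * g⁻¹ ∈ M → g * h * g⁻¹ ∈ H := by
    intro g h hh hm
    have : g * h * g⁻¹ ∈ (H ⊔ H.map (MulAut.conj g).toMonoidHom) ⊓ M :=
      ⟨Subgroup.mem_sup_right (conj_mem_map_conj H g h hh), hm⟩
    rwa [hcl g] at this
  -- (b) M normalizes H
  have hMN : M ≤ Subgroup.normalizer (H : Set G) :=
    le_normalizer_of_conj_mem H M (fun m hm x hx =>
      hsc m x hx (M.mul_mem (M.mul_mem hm (hHM hx)) (M.inv_mem hm)))
  have hHinfM : H ⊓ M = H := inf_eq_left.mpr hHM
  apply le_antisymm _ (le_inf Subgroup.le_normalClosure hHM)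
  rcases hmaxM.le_iff.mp hMN with hN | hN
  · -- H normal in G
    have hn : H.Normal := Subgroup.normalizer_eq_top_iff.mp hN
    rw [Subgroup.normalClosure_eq_self]
    exact inf_le_left
  · -- N_G(H) = M
    by_cases hB : ∀ g : G, g ∉ M → ∀ m ∈ M, g⁻¹ * m * g ∈ M → m ∈ H
    · -- transfer
      have hHn : (H.subgroupOf M).Normal :=
        (Subgroup.normal_subgroupOf_iff_le_normalizer hHM).mpr hMN
      have hz : ∀ a : ↥M ⧸ H.subgroupOf M, a ≠ 1 → Subgroup.zpowers a = ⊤ := by
        intro a ha
        have h1 : H.subgroupOf M ≤ (Subgroup.zpowers a).comap (QuotientGroup.mk' (H.subgroupOf M)) := by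
          intro y hy
          rw [Subgroup.mem_comap]
          have : (QuotientGroup.mk' (H.subgroupOf M)) y = 1 := by
            rw [QuotientGroup.mk'_apply, QuotientGroup.eq_one_iff]; exact hy
          rw [this]; exact Subgroup.one_mem _
        rcases hmaxH.le_iff.mp h1 with h | h
        · rw [eq_top_iff]
          intro b _
          obtain ⟨y, rfl⟩ := QuotientGroup.mk'_surjective (H.subgroupOf M) b
          have : y ∈ (Subgroup.zpowers a).comap (QuotientGroup.mk' (H.subgroupOf M)) := by
            rw [h]; trivial
          exact this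
        · exfalso
          apply ha
          obtain ⟨y, rfl⟩ := QuotientGroup.mk'_surjective (H.subgroupOf M) a
          have : y ∈ (Subgroup.zpowers ((QuotientGroup.mk' (H.subgroupOf M)) y)).comap
              (QuotientGroup.mk' (H.subgroupOf M)) := by
            rw [Subgroup.mem_comap]; exact Subgroup.mem_zpowers _
          rw [h] at this
          rw [QuotientGroup.mk'_apply, QuotientGroup.eq_one_iff]; exact this
      have hcomm : ∀ a b : ↥M ⧸ H.subgroupOf M, a * b = b * a := by
        intro a b
        by_cases ha : a = 1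
        · simp [ha]
        · have hb : b ∈ Subgroup.zpowers a := by rw [hz a ha]; trivial
          obtain ⟨k, rfl⟩ := hb
          exact ((Commute.refl a).zpow_right k)
      letI : CommGroup (↥M ⧸ H.subgroupOf M) :=
        { (inferInstance : Group (↥M ⧸ H.subgroupOf M)) with mul_comm := hcomm }
      have hker : ∀ y : ↥M, (QuotientGroup.mk' (H.subgroupOf M)) y = 1 ↔ (y : G) ∈ H := by
        intro y
        rw [QuotientGroup.mk'_apply, QuotientGroup.eq_one_iff, Subgroup.mem_subgroupOf]
      have hV1 : ∀ h ∈ H, MonoidHom.transfer (QuotientGroup.mk' (H.subgroupOf M)) h = 1 := by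
        intro h hh
        apply transfer_eq_one_of_forall
        intro k g hmem
        rw [hker]
        have := hsc g⁻¹ (h ^ k) (H.pow_mem hh k)
        rw [inv_inv] at this
        exact this hmem
      have hV2 : ∀ m : G, ∀ hm : m ∈ M, m ∉ H →
          MonoidHom.transfer (QuotientGroup.mk' (H.subgroupOf M)) m =
            (QuotientGroup.mk' (H.subgroupOf M)) ⟨m, hm⟩ := by
        intro m hm hmH
        apply transfer_eq_self_of_forall
        intro k g hg hmem
        rw [hker]
        have h1 : m ^ k ∈ H := hB g hg (m ^ k) (M.pow_mem hm k) hmem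
        have := hsc g⁻¹ (m ^ k) h1
        rw [inv_inv] at this
        exact this hmem
      have hle : Subgroup.normalClosure (H : Set G) ≤
          (MonoidHom.transfer (QuotientGroup.mk' (H.subgroupOf M))).ker := by
        apply Subgroup.normalClosure_le_normal
        intro h hh
        exact hV1 h hh
      intro x hx
      by_contra hxH
      have h1 := hle hx.1
      rw [MonoidHom.mem_ker, hV2 x hx.2 hxH, hker] at h1
      exact hxH h1
    · -- some T_g is normal
      push Not at hB
      obtain ⟨g, hgM, m, hmM, hgm, hmH⟩ := hB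
      have hmNH : m ∈ Subgroup.normalizer (H : Set G) := hMN hmM
      have hmNHg : m ∈ Subgroup.normalizer ((H.map (MulAut.conj g).toMonoidHom : Subgroup G) : Set G) := by
        rw [normalizer_map_conj, mem_map_conj_iff]
        exact hMN hgm
      have hmNT : m ∈ Subgroup.normalizer ((H ⊔ H.map (MulAut.conj g).toMonoidHom : Subgroup G) : Set G) := by
        have := Cfsg.Agent.S2908.le_normalizer_sup (B := Subgroup.zpowers m) (P := H)
          (A := H.map (MulAut.conj g).toMonoidHom) (Subgroup.zpowers_le.mpr hmNH)
          (Subgroup.zpowers_le.mpr hmNHg)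
        exact this (Subgroup.mem_zpowers m)
      -- H ⊔ zpowers m = M
      have hHm : H ⊔ Subgroup.zpowers m = M := by
        rcases eq_or_eq_of_isCoatom_subgroupOf hmaxH (le_sup_left : H ≤ H ⊔ Subgroup.zpowers m)
          (sup_le hHM (Subgroup.zpowers_le.mpr hmM)) with h | h
        · exfalso
          apply hmH
          rw [hHinfM] at h
          rw [← h]
          exact Subgroup.mem_sup_right (Subgroup.mem_zpowers m)
        · exact h
      have hMNT : M ≤ Subgroup.normalizer ((H ⊔ H.map (MulAut.conj g).toMonoidHom : Subgroup G) : Set G) := by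
        rw [← hHm]
        apply sup_le
        · exact le_trans le_sup_left Subgroup.le_normalizer
        · exact Subgroup.zpowers_le.mpr hmNT
      have hTn : (H ⊔ H.map (MulAut.conj g).toMonoidHom).Normal := by
        rw [← Subgroup.normalizer_eq_top_iff]
        rcases hmaxM.le_iff.mp hMNT with h | h
        · exact h
        · exfalso
          apply hgM
          have hTM : H ⊔ H.map (MulAut.conj g).toMonoidHom ≤ M := by
            rw [← h]; exact Subgroup.le_normalizer
          rw [← hN]
          apply mem_normalizer_of_conj_mem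
          intro x hx
          apply hsc g x hx
          exact hTM (Subgroup.mem_sup_right (conj_mem_map_conj H g x hx))
      have hle : Subgroup.normalClosure (H : Set G) ≤ H ⊔ H.map (MulAut.conj g).toMonoidHom :=
        Subgroup.normalClosure_le_normal (fun x hx => Subgroup.mem_sup_left hx)
      calc Subgroup.normalClosure (H : Set G) ⊓ M
          ≤ (H ⊔ H.map (MulAut.conj g).toMonoidHom) ⊓ M := inf_le_inf_right M hle
        _ = H := hcl g

end Cfsg.Agent.S3014
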