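import Mathlib
import Cfsg.Agent.Helper5.Misc
import Cfsg.Agent.Helper5.StrongEmb
import Cfsg.Agent.Helper5.TransferEval
import Cfsg.Agent.S2908
import Cfsg.Agent.S3014
import Cfsg.Statements.S3015
-- import your own Cfsg.Agent.* helpers here

set_option autoImplicit false
open Cfsg Cfsg.Agent.Helper5

namespace Cfsg.Agent.S3015

theorem isCoatom_of_prime_index {G : Type*} [Group G] (N : Subgroup G) (h : N.index.Prime) :
    IsCoatom N := by
  constructor
  · intro htop
    rw [htop, Subgroup.index_top] at h
    exact Nat.not_prime_one h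
  · intro K hK
    have h1 := Subgroup.relIndex_mul_index hK.le
    rcases (Nat.prime_mul_iff.mp (h1 ▸ h)) with ⟨_, h2⟩ | ⟨_, h2⟩
    · exact Subgroup.index_eq_one.mp h2
    · exfalso
      exact (not_le_of_gt hK) (Subgroup.relIndex_eq_one.mp h2)

theorem exists_mem_not_mem_not_mem {G : Type*} [Group G] {A B C : Subgroup G}
    (hA : ¬ C ≤ A) (hB : ¬ C ≤ B) : ∃ m ∈ C, m ∉ A ∧ m ∉ B := by
  obtain ⟨a, haC, haA⟩ := SetLike.not_le_iff_exists.mp hA
  obtain ⟨b, hbC, hbB⟩ := SetLike.not_le_iff_exists.mp hB
  by_cases haB : a ∈ B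
  · by_cases hbA : b ∈ A
    · refine ⟨a * b, C.mul_mem haC hbC, ?_, ?_⟩
      · intro h
        exact haA ((Subgroup.mul_mem_cancel_right A hbA).mp h)
      · intro h
        exact hbB ((Subgroup.mul_mem_cancel_left B haB).mp h)
    · exact ⟨b, hbC, hbA, hbB⟩
  · exact ⟨a, haC, haA, haB⟩

/-- Let G be a finite non-abelian simple group, M a maximal subgroup of G and H a normal subgroup of M of prime index in M. Then G is generated by H together with one of its conjugates. -/
theorem result {G : Type*} [Group G] [Finite G] [IsSimpleGroup G] (hG : ¬ IsMulCommutative G) (M H : Subgroup G) (hmaxM : IsCoatom M) (hHM : H ≤ M) (hHn : (H.subgroupOf M).Normal) (hidx : (H.relIndex M).Prime) : ∃ g : G, H ⊔ H.map (MulAut.conj g).toMonoidHom = ⊤ := by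
  classical
  by_contra hno
  push Not at hno
  have hmaxH : IsCoatom (H.subgroupOf M) := isCoatom_of_prime_index _ hidx
  have hMtop : M ≠ ⊤ := hmaxM.1
  have hHneM : H ≠ M := by
    intro h
    rw [h, Subgroup.relIndex_self] at hidx
    exact Nat.not_prime_one hidx
  have hMN : M ≤ Subgroup.normalizer (H : Set G) :=
    (Subgroup.normal_subgroupOf_iff_le_normalizer hHM).mp hHn
  have hMbot : M ≠ ⊥ := by
    intro h
    apply hHneM
    rw [h] at hHM ⊢
    exact le_bot_iff.mp hHM
  -- N_G(M) = M
  have hNM : Subgroup.normalizer (M : Set G) = M := by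
    rcases hmaxM.le_iff.mp (Subgroup.le_normalizer (H := M)) with h | h
    · exfalso
      have hn : M.Normal := Subgroup.normalizer_eq_top_iff.mp h
      rcases hn.eq_bot_or_eq_top with h' | h'
      · exact hMbot h'
      · exact hMtop h'
    · exact h
  have hgM : ∀ g : G, g ∉ M → ¬ M.map (MulAut.conj g).toMonoidHom ≤ M := by
    intro g hg hle
    apply hg
    rw [← hNM]
    apply mem_normalizer_of_conj_mem
    intro x hx
    exact hle (conj_mem_map_conj M g x hx)
  have hMMg : ∀ g : G, g ∉ M → M ⊔ M.map (MulAut.conj g).toMonoidHom = ⊤ := by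
    intro g hg
    rcases hmaxM.le_iff.mp (le_sup_left : M ≤ M ⊔ M.map (MulAut.conj g).toMonoidHom) with h | h
    · exact h
    · exfalso
      apply hgM g hg
      have h9 : M.map (MulAut.conj g).toMonoidHom ≤ M ⊔ M.map (MulAut.conj g).toMonoidHom := le_sup_right
      exact le_of_le_of_eq h9 h
  by_cases hHbot : H = ⊥
  · -- M has prime order; transfer into M
    subst hHbot
    rw [Subgroup.relIndex_bot_left] at hidx
    haveI : Fact (Nat.card ↥M).Prime := ⟨hidx⟩
    have hcyc : IsCyclic ↥M := isCyclic_of_prime_card rfl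
    letI : CommGroup ↥M := IsCyclic.commGroup
    have hdisj : ∀ g : G, g ∉ M → M ⊓ M.map (MulAut.conj g).toMonoidHom = ⊥ := by
      intro g hg
      rcases ((M.map (MulAut.conj g).toMonoidHom).subgroupOf M).eq_bot_or_eq_top_of_prime_card with h | h
      · rw [Subgroup.subgroupOf_eq_bot] at h
        rw [inf_comm]
        exact h.eq_bot
      · exfalso
        rw [Subgroup.subgroupOf_eq_top] at h
        have h2 : M.map (MulAut.conj g).toMonoidHom = M :=
          (Subgroup.eq_of_le_of_card_ge h (card_map_conj' M g).le).symm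
        exact hgM g hg h2.le
    have hV : ∀ m : G, ∀ hm : m ∈ M, MonoidHom.transfer (MonoidHom.id ↥M) m = ⟨m, hm⟩ := by
      intro m hm
      have := transfer_eq_self_of_forall M (MonoidHom.id ↥M) m hm ?_
      · exact this
      · intro k g hg hmem
        have h1 : m ^ k ∈ M ⊓ M.map (MulAut.conj g).toMonoidHom := by
          exact ⟨M.pow_mem hm k, (mem_map_conj_iff M g _).mpr hmem⟩
        rw [hdisj g hg, Subgroup.mem_bot] at h1
        apply Subtype.ext
        simp [h1]
    have hkn : (MonoidHom.transfer (MonoidHom.id ↥M)).ker.Normal := inferInstance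
    rcases hkn.eq_bot_or_eq_top with h | h
    · apply hG
      constructor
      constructor
      intro a b
      have hinj : Function.Injective (MonoidHom.transfer (MonoidHom.id ↥M)) :=
        (MonoidHom.ker_eq_bot_iff _).mp h
      apply hinj
      rw [map_mul, map_mul, mul_comm]
    · obtain ⟨m, hm1⟩ := (Subgroup.ne_bot_iff_exists_ne_one).mp hMbot
      have : (m : G) ∈ (MonoidHom.transfer (MonoidHom.id ↥M)).ker := by rw [h]; trivial
      rw [MonoidHom.mem_ker, hV m m.2] at this
      exact hm1 this
  · -- H ≠ ⊥
    have hHinfM : H ⊓ M = H := inf_eq_left.mpr hHM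
    have hclaim2 : ∀ g : G, g ∉ M → ∀ m ∈ M, g⁻¹ * m * g ∈ M → m ∉ H → g⁻¹ * m * g ∉ H → False := by
      intro g hg m hmM hgm hmH hgmH
      have hmNH : m ∈ Subgroup.normalizer (H : Set G) := hMN hmM
      have hmNHg : m ∈ Subgroup.normalizer ((H.map (MulAut.conj g).toMonoidHom : Subgroup G) : Set G) := by
        rw [normalizer_map_conj, mem_map_conj_iff]
        exact hMN hgm
      have hmNT : m ∈ Subgroup.normalizer ((H ⊔ H.map (MulAut.conj g).toMonoidHom : Subgroup G) : Set G) := by
        have := Cfsg.Agent.S2908.le_normalizer_sup (B := Subgroup.zpowers m) (P := H)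
          (A := H.map (MulAut.conj g).toMonoidHom) (Subgroup.zpowers_le.mpr hmNH)
          (Subgroup.zpowers_le.mpr hmNHg)
        exact this (Subgroup.mem_zpowers m)
      have hHm : H ⊔ Subgroup.zpowers m = M := by
        rcases Cfsg.Agent.S3014.eq_or_eq_of_isCoatom_subgroupOf hmaxH
          (le_sup_left : H ≤ H ⊔ Subgroup.zpowers m)
          (sup_le hHM (Subgroup.zpowers_le.mpr hmM)) with h | h
        · exfalso
          apply hmH
          rw [hHinfM] at h
          rw [← h]
          exact Subgroup.mem_sup_right (Subgroup.mem_zpowers m)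
        · exact h
      have hHm' : H ⊔ Subgroup.zpowers (g⁻¹ * m * g) = M := by
        rcases Cfsg.Agent.S3014.eq_or_eq_of_isCoatom_subgroupOf hmaxH
          (le_sup_left : H ≤ H ⊔ Subgroup.zpowers (g⁻¹ * m * g))
          (sup_le hHM (Subgroup.zpowers_le.mpr hgm)) with h | h
        · exfalso
          apply hgmH
          rw [hHinfM] at h
          rw [← h]
          exact Subgroup.mem_sup_right (Subgroup.mem_zpowers _)
        · exact h
      have hMNT : M ≤ Subgroup.normalizer ((H ⊔ H.map (MulAut.conj g).toMonoidHom : Subgroup G) : Set G) := by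
        rw [← hHm]
        apply sup_le
        · exact le_trans le_sup_left Subgroup.le_normalizer
        · exact Subgroup.zpowers_le.mpr hmNT
      have hMgNT : M.map (MulAut.conj g).toMonoidHom ≤
          Subgroup.normalizer ((H ⊔ H.map (MulAut.conj g).toMonoidHom : Subgroup G) : Set G) := by
        rw [← hHm', Subgroup.map_sup, MonoidHom.map_zpowers]
        apply sup_le
        · exact le_trans le_sup_right Subgroup.le_normalizer
        · apply Subgroup.zpowers_le.mpr
          have : (MulAut.conj g).toMonoidHom (g⁻¹ * m * g) = m := by simp [mul_assoc]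
          rw [this]; exact hmNT
      have hTn : (H ⊔ H.map (MulAut.conj g).toMonoidHom).Normal := by
        rw [← Subgroup.normalizer_eq_top_iff, eq_top_iff, ← hMMg g hg]
        exact sup_le hMNT hMgNT
      rcases hTn.eq_bot_or_eq_top with h | h
      · apply hHbot
        rw [eq_bot_iff, ← h]
        exact le_sup_left
      · exact hno g h
    have hclaim3 : ∀ g : G, H.map (MulAut.conj g).toMonoidHom ≤ M →
        H.map (MulAut.conj g).toMonoidHom = H := by
      intro g hle
      by_contra hne
      have hg : g ∉ M := fun hg => hne ((mem_normalizer_iff_map_conj H g).mp (hMN hg))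
      obtain ⟨x, hxK, hxM⟩ := SetLike.not_le_iff_exists.mp (hgM g hg)
      have hxN : x ∈ Subgroup.normalizer ((H.map (MulAut.conj g).toMonoidHom : Subgroup G) : Set G) := by
        rw [normalizer_map_conj]
        exact Subgroup.map_mono hMN hxK
      have hxN' : x⁻¹ ∈ Subgroup.normalizer ((H.map (MulAut.conj g).toMonoidHom : Subgroup G) : Set G) :=
        Subgroup.inv_mem _ hxN
      have h1 : H.map (MulAut.conj g).toMonoidHom ≤ M.map (MulAut.conj x).toMonoidHom := by
        intro y hy
        rw [mem_map_conj_iff]
        apply hle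
        have := (Subgroup.mem_normalizer_iff.mp hxN' y).mp hy
        simpa using this
      have h2 : ¬ H.map (MulAut.conj g).toMonoidHom ≤ H := by
        intro h
        exact hne (Subgroup.eq_of_le_of_card_ge h (card_map_conj' H g).ge)
      have h3 : ¬ H.map (MulAut.conj g).toMonoidHom ≤ H.map (MulAut.conj x).toMonoidHom := by
        intro h
        have h4 : H.map (MulAut.conj g).toMonoidHom = H.map (MulAut.conj x).toMonoidHom :=
          Subgroup.eq_of_le_of_card_ge h (by rw [card_map_conj', card_map_conj'])
        have h5 := (mem_normalizer_iff_map_conj _ _).mp hxN'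
        rw [h4, map_conj_map_conj] at h5
        have h6 : x⁻¹ * x = 1 := by group
        rw [h6, map_conj_one] at h5
        exact hne (h4.trans h5.symm)
      obtain ⟨m, hm1, hm2, hm3⟩ := exists_mem_not_mem_not_mem h2 h3
      refine hclaim2 x hxM m (hle hm1) ?_ hm2 ?_
      · have := h1 hm1
        rwa [mem_map_conj_iff] at this
      · intro h
        apply hm3
        rw [mem_map_conj_iff]; exact h
    have hcl : ∀ g : G, (H ⊔ H.map (MulAut.conj g).toMonoidHom) ⊓ M = H := by
      intro g
      rcases Cfsg.Agent.S3014.eq_or_eq_of_isCoatom_subgroupOf hmaxH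
        (le_inf (le_sup_left : H ≤ H ⊔ H.map (MulAut.conj g).toMonoidHom) hHM)
        (inf_le_right) with h | h
      · rw [h, hHinfM]
      · exfalso
        have hMT : M ≤ H ⊔ H.map (MulAut.conj g).toMonoidHom := inf_eq_right.mp h
        rcases hmaxM.le_iff.mp hMT with h' | h'
        · exact hno g h'
        · have h4 : H.map (MulAut.conj g).toMonoidHom ≤ M := by
            rw [← h']; exact le_sup_right
          have h5 := hclaim3 g h4
          rw [h5, sup_idem] at h'
          exact hHneM h'
    have hfin := Cfsg.Agent.S3014.result H M hHM hcl hmaxH hmaxM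
    have hnn : (Subgroup.normalClosure (H : Set G)).Normal := Subgroup.normalClosure_normal
    rcases hnn.eq_bot_or_eq_top with h | h
    · apply hHbot
      rw [eq_bot_iff, ← h]
      exact Subgroup.le_normalClosure
    · rw [h, top_inf_eq] at hfin
      exact hHneM hfin.symm

end Cfsg.Agent.S3015
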