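import Mathlib
import Cfsg.Agent.Helper5.SylowSub
import Cfsg.Agent.Helper5.Misc
import Cfsg.Statements.S3021
-- import your own Cfsg.Agent.* helpers here

set_option autoImplicit false
open Cfsg Cfsg.Agent.Helper5

namespace Cfsg.Agent.S3021

/-- Let G be a finite group, p a prime and H a p-subgroup of G that is extremely closed (for every g, the subgroup generated by H and g H g⁻¹ meets N_G(H) exactly in H). Then every p-subgroup Q of G containing H has N_G(Q) ≤ N_G(H); in particular every Sylow p-subgroup P of G containing H normalizes H, and H is strongly closed in P with respect to G. -/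
theorem result {G : Type*} [Group G] [Finite G] {p : ℕ} [Fact p.Prime] (H : Subgroup G) (hHp : IsPGroup p H) (hcl : Cfsg.IsExtremelyClosed H) : (∀ Q : Subgroup G, IsPGroup p Q → H ≤ Q → Subgroup.normalizer (Q : Set G) ≤ Subgroup.normalizer (H : Set G)) ∧ ∀ P : Sylow p G, H ≤ (P : Subgroup G) → (P : Subgroup G) ≤ Subgroup.normalizer (H : Set G) ∧ Cfsg.IsStronglyClosed H (P : Subgroup G) := by
  have partA : ∀ Q : Subgroup G, IsPGroup p Q → H ≤ Q →
      Subgroup.normalizer (Q : Set G) ≤ Subgroup.normalizer (H : Set G) := by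
    intro Q hQ hHQ g hg
    have hconj : H.map (MulAut.conj g).toMonoidHom ≤ Q := by
      rw [map_conj_le_iff]
      intro x hx
      exact (Subgroup.mem_normalizer_iff.mp hg x).mp (hHQ hx)
    have hTQ : H ⊔ H.map (MulAut.conj g).toMonoidHom ≤ Q := sup_le hHQ hconj
    have hTp : IsPGroup p ↥(H ⊔ H.map (MulAut.conj g).toMonoidHom) := hQ.to_le hTQ
    have hTH : H ⊔ H.map (MulAut.conj g).toMonoidHom = H := by
      by_contra hne
      obtain ⟨n, hnT, hnN, hnH⟩ := exists_mem_normalizer_not_mem
        (H ⊔ H.map (MulAut.conj g).toMonoidHom) H hTp le_sup_left (Ne.symm hne)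
      have : n ∈ (H ⊔ H.map (MulAut.conj g).toMonoidHom) ⊓ Subgroup.normalizer (H : Set G) :=
        ⟨hnT, hnN⟩
      rw [hcl g] at this
      exact hnH this
    apply mem_normalizer_of_conj_mem
    intro x hx
    have : g * x * g⁻¹ ∈ H ⊔ H.map (MulAut.conj g).toMonoidHom :=
      Subgroup.mem_sup_right (conj_mem_map_conj H g x hx)
    rw [hTH] at this; exact this
  refine ⟨partA, ?_⟩
  intro P hHP
  have hPN : (P : Subgroup G) ≤ Subgroup.normalizer (H : Set G) :=
    le_trans Subgroup.le_normalizer (partA P P.isPGroup' hHP)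
  refine ⟨hPN, hHP, ?_⟩
  intro x hx g hgx
  have h1 : g * x * g⁻¹ ∈ (H ⊔ H.map (MulAut.conj g).toMonoidHom) ⊓ Subgroup.normalizer (H : Set G) :=
    ⟨Subgroup.mem_sup_right (conj_mem_map_conj H g x hx), hPN hgx⟩
  rw [hcl g] at h1
  exact h1

end Cfsg.Agent.S3021
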