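import Mathlib
import Cfsg.Agent.Helper5.SylowSub
import Cfsg.Agent.Helper5.Misc
import Cfsg.Agent.Helper5.PPrimeCore
import Cfsg.Agent.S3021
import Cfsg.Statements.S3020
-- import your own Cfsg.Agent.* helpers here

set_option autoImplicit false
open Cfsg Cfsg.Agent.Helper5

namespace Cfsg.Agent.S3020

/-- Let G be a finite group, p a prime and H an abelian p-subgroup of G that is extremely closed (for every g, the subgroup generated by H and g H g⁻¹ meets N_G(H) exactly in H). Then for every g ∈ G, the subgroup T generated by H and g H g⁻¹ is the product of H with O_{p'}(T), and H meets O_{p'}(T) trivially; that is, O_{p'}(T) is a normal p-complement of H in T. -/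
theorem result {G : Type*} [Group G] [Finite G] {p : ℕ} [Fact p.Prime] (H : Subgroup G) (hHp : IsPGroup p H) (hHab : IsMulCommutative H) (hcl : Cfsg.IsExtremelyClosed H) (g : G) (T : Subgroup G) (hT : T = H ⊔ H.map (MulAut.conj g).toMonoidHom) : H ⊔ (Cfsg.pPrimeCore p ↥T).map T.subtype = T ∧ H ⊓ (Cfsg.pPrimeCore p ↥T).map T.subtype = ⊥ := by
  subst hT
  have hHT : H ≤ H ⊔ H.map (MulAut.conj g).toMonoidHom := le_sup_left
  have hTN : (H ⊔ H.map (MulAut.conj g).toMonoidHom) ⊓ Subgroup.normalizer (H : Set G) = H := hcl g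
  set T := H ⊔ H.map (MulAut.conj g).toMonoidHom with hTdef
  have hHTp : IsPGroup p (H.subgroupOf T) := hHp.comap_subtype
  obtain ⟨P, hP⟩ := hHTp.exists_le_sylow
  have hPG : (P : Subgroup ↥T).map T.subtype = H := by
    have h2 : H ≤ (P : Subgroup ↥T).map T.subtype := by
      intro x hx
      exact ⟨⟨x, hHT hx⟩, hP (by rw [Subgroup.mem_subgroupOf]; exact hx), rfl⟩
    apply le_antisymm _ h2
    have h1 : IsPGroup p ((P : Subgroup ↥T).map T.subtype) := P.isPGroup'.map _
    have h3 := (Cfsg.Agent.S3021.result H hHp hcl).1 _ h1 h2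
    have h4 : (P : Subgroup ↥T).map T.subtype ≤ T := by
      rintro _ ⟨y, -, rfl⟩; exact y.2
    rw [← hTN]
    exact le_inf h4 (le_trans Subgroup.le_normalizer h3)
  have hNC : Subgroup.normalizer ((P : Subgroup ↥T) : Set ↥T) ≤
      Subgroup.centralizer ((P : Subgroup ↥T) : Set ↥T) := by
    intro x hx
    have hxH : (x : G) ∈ H := by
      rw [← hTN]
      refine ⟨x.2, ?_⟩
      apply mem_normalizer_of_conj_mem
      intro y hy
      rw [← hPG] at hy ⊢
      obtain ⟨z, hz, rfl⟩ := hy
      exact ⟨x * z * x⁻¹, (Subgroup.mem_normalizer_iff.mp hx z).mp hz, by simp⟩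
    rw [Subgroup.mem_centralizer_iff]
    intro y hy
    have hyH : (y : G) ∈ H := by rw [← hPG]; exact ⟨y, hy, rfl⟩
    apply Subtype.ext
    have := setLike_mul_comm hyH hxH
    simpa using this
  have hK := MonoidHom.ker_transferSylow_isComplement' P hNC
  have hKn : (MonoidHom.transferSylow P hNC).ker.Normal := inferInstance
  have hKcop : (Nat.card (MonoidHom.transferSylow P hNC).ker).Coprime p := by
    have h2 : ¬ p ∣ (P : Subgroup ↥T).index := P.not_dvd_index
    have h3 : (P : Subgroup ↥T).index = Nat.card (MonoidHom.transferSylow P hNC).ker := hK.index_eq_card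
    rw [Nat.coprime_comm, (Fact.out : p.Prime).coprime_iff_not_dvd, ← h3]; exact h2
  have hKO : (MonoidHom.transferSylow P hNC).ker ≤ Cfsg.pPrimeCore p ↥T := le_pPrimeCore hKn hKcop
  constructor
  · apply le_antisymm
    · apply sup_le hHT
      rintro _ ⟨y, -, rfl⟩; exact y.2
    · intro t ht
      have h1 : (⟨t, ht⟩ : ↥T) ∈ (MonoidHom.transferSylow P hNC).ker ⊔ (P : Subgroup ↥T) := by
        rw [hK.sup_eq_top]; trivial
      have h2 : t ∈ ((MonoidHom.transferSylow P hNC).ker ⊔ (P : Subgroup ↥T)).map T.subtype :=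
        ⟨⟨t, ht⟩, h1, rfl⟩
      rw [Subgroup.map_sup, hPG] at h2
      rw [sup_comm]
      exact (sup_le_sup_right (Subgroup.map_mono hKO) H) h2
  · apply (Subgroup.disjoint_of_coprime_natCard ?_).eq_bot
    obtain ⟨n, hn⟩ := IsPGroup.iff_card.mp hHp
    rw [hn, Subgroup.card_map_of_injective T.subtype_injective]
    exact (Nat.Coprime.pow_right n (coprime_card_pPrimeCore p)).symm

end Cfsg.Agent.S3020
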