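import Mathlib
import Cfsg.Agent.Helper5.Basic
import Cfsg.Agent.Helper5.StrongEmb
import Cfsg.Agent.S0016
import Cfsg.Statements.S3025
-- import your own Cfsg.Agent.* helpers here

set_option autoImplicit false
open Cfsg Cfsg.Agent.Helper5

namespace Cfsg.Agent.S3025

theorem normalClosure_simple {F : Type*} [Group F] (H : Subgroup F)
    (hmin : ∀ R : Subgroup F, R ≠ ⊥ → H ≤ Subgroup.normalizer (R : Set F) → H ≤ R)
    (R : Subgroup (Subgroup.normalClosure (H : Set F))) (hR : R.Normal) (hRb : R ≠ ⊥) : R = ⊤ := by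
  have hNn : (Subgroup.normalClosure (H : Set F)).Normal := Subgroup.normalClosure_normal
  have hHN : H ≤ Subgroup.normalClosure (H : Set F) := Subgroup.le_normalClosure
  have hconj1 : ∀ m ∈ Subgroup.normalClosure (H : Set F),
      ∀ y ∈ R.map (Subgroup.normalClosure (H : Set F)).subtype,
        m * y * m⁻¹ ∈ R.map (Subgroup.normalClosure (H : Set F)).subtype := by
    rintro m hm _ ⟨r, hr, rfl⟩
    exact ⟨⟨m, hm⟩ * r * ⟨m, hm⟩⁻¹, hR.conj_mem r hr ⟨m, hm⟩, rfl⟩
  have hconj : ∀ m ∈ Subgroup.normalClosure (H : Set F), ∀ y,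
      y ∈ R.map (Subgroup.normalClosure (H : Set F)).subtype ↔
        m * y * m⁻¹ ∈ R.map (Subgroup.normalClosure (H : Set F)).subtype := by
    intro m hm y
    refine ⟨hconj1 m hm y, fun h => ?_⟩
    have := hconj1 m⁻¹ ((Subgroup.normalClosure (H : Set F)).inv_mem hm) _ h
    simpa [mul_assoc] using this
  have hR'b : R.map (Subgroup.normalClosure (H : Set F)).subtype ≠ ⊥ := by
    intro h
    apply hRb
    rw [eq_bot_iff]
    intro r hr
    have : (r : F) ∈ R.map (Subgroup.normalClosure (H : Set F)).subtype := ⟨r, hr, rfl⟩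
    rw [h, Subgroup.mem_bot] at this
    rw [Subgroup.mem_bot]; exact Subtype.ext this
  have hcore : H ≤ Subgroup.normalCore (R.map (Subgroup.normalClosure (H : Set F)).subtype) := by
    intro a ha
    change ∀ b : F, b * a * b⁻¹ ∈ R.map (Subgroup.normalClosure (H : Set F)).subtype
    intro b
    have h1 : H ≤ (R.map (Subgroup.normalClosure (H : Set F)).subtype).map
        (MulAut.conj b⁻¹).toMonoidHom := by
      apply hmin _ (map_conj_ne_bot _ _ hR'b)
      intro h hh
      rw [Subgroup.mem_normalizer_iff]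
      intro x
      rw [mem_map_conj_iff, mem_map_conj_iff]
      have hm : b * h * b⁻¹ ∈ Subgroup.normalClosure (H : Set F) := hNn.conj_mem h (hHN hh) b
      rw [hconj _ hm]
      have : b * h * b⁻¹ * (b⁻¹⁻¹ * x * b⁻¹) * (b * h * b⁻¹)⁻¹ = b⁻¹⁻¹ * (h * x * h⁻¹) * b⁻¹ := by
        group
      rw [this]
    have h2 := h1 ha
    rw [mem_map_conj_iff] at h2
    simpa using h2
  have hle : Subgroup.normalClosure (H : Set F) ≤
      R.map (Subgroup.normalClosure (H : Set F)).subtype :=
    (Subgroup.normalClosure_le_normal hcore).trans (Subgroup.normalCore_le _)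
  rw [eq_top_iff]
  intro n _
  obtain ⟨r, hr, hrn⟩ := hle n.2
  have : r = n := Subtype.ext hrn
  rw [← this]; exact hr

theorem trichotomy {F : Type*} [Group F] [Finite F] (H N : Subgroup F) (hH : H ≠ ⊥)
    (hmin : ∀ R : Subgroup F, R ≠ ⊥ → H ≤ Subgroup.normalizer (R : Set F) → H ≤ R)
    (hNn : N.Normal) (hHN : H ≤ N)
    (hNmin : ∀ M : Subgroup F, M.Normal → M ≠ ⊥ → N ≤ M) (hsimple : IsSimpleGroup ↥N)
    (hC : Subgroup.centralizer (N : Set F) ≠ ⊥) :
    (H = N ∧ (Nat.card N).Prime ∧ IsCyclic ↥(Subgroup.centralizer (N : Set F)) ∧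
          (∃ k : ℕ, 1 ≤ k ∧ Nat.card ↥(Subgroup.centralizer (N : Set F)) = Nat.card N ^ k) ∧
          (∃ g : F, Subgroup.centralizer (N : Set F) ⊔ Subgroup.zpowers g = ⊤) ∧
          (Subgroup.centralizer (N : Set F)).index ∣ Nat.card N - 1) ∨
       (H = N ∧ Nat.card N = 2 ∧ Subgroup.centralizer (N : Set F) = ⊤ ∧
          ∃ k : ℕ, 1 ≤ k ∧ Nonempty (F ≃* QuaternionGroup (2 ^ k))) := by
  classical
  have hCn : (Subgroup.centralizer (N : Set F)).Normal := inferInstance
  have hNC : N ≤ Subgroup.centralizer (N : Set F) := hNmin _ hCn hC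
  have hcomm : ∀ x ∈ N, ∀ y ∈ N, x * y = y * x := fun x hx y hy =>
    (Subgroup.mem_centralizer_iff.mp (hNC hy)) x hx
  have hNcomm : IsMulCommutative ↥N := ⟨⟨fun a b => Subtype.ext (hcomm a a.2 b b.2)⟩⟩
  have hprime : (Nat.card N).Prime := (Group.is_simple_iff_prime_card).mp hsimple
  have hfact : Fact (Nat.card N).Prime := ⟨hprime⟩
  have hHeq : H = N := by
    rcases (H.subgroupOf N).eq_bot_or_eq_top_of_prime_card with h | h
    · exfalso
      apply hH
      rw [Subgroup.subgroupOf_eq_bot] at h
      exact (disjoint_of_le_iff_left_eq_bot hHN).mp h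
    · rw [Subgroup.subgroupOf_eq_top] at h
      exact le_antisymm hHN h
  have hRC : ∀ R : Subgroup F, R ≤ Subgroup.centralizer (N : Set F) → R ≠ ⊥ → N ≤ R := by
    intro R hR hRb
    rw [← hHeq]
    apply hmin R hRb
    rw [hHeq]
    intro n hn
    rw [Subgroup.mem_normalizer_iff]
    intro x
    constructor
    · intro hx
      have h1 : n * x = x * n := Subgroup.mem_centralizer_iff.mp (hR hx) n hn
      rw [h1, mul_inv_cancel_right]; exact hx
    · intro hy
      have h1 : n⁻¹ * (n * x * n⁻¹) = (n * x * n⁻¹) * n⁻¹ :=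
        Subgroup.mem_centralizer_iff.mp (hR hy) n⁻¹ (N.inv_mem hn)
      have h2 : x = n * x * n⁻¹ := by
        have : x = n⁻¹ * (n * x * n⁻¹) * n := by group
        rw [h1] at this
        exact this.trans (inv_mul_cancel_right _ _)
      rw [h2]; exact hy
  -- C is a p-group
  have hcardC : ∃ k : ℕ, Nat.card ↥(Subgroup.centralizer (N : Set F)) = Nat.card N ^ k := by
    refine ⟨_, Nat.eq_prime_pow_of_unique_prime_dvd Nat.card_pos.ne' ?_⟩
    intro q hq hqd
    have : Fact q.Prime := ⟨hq⟩
    obtain ⟨c, hc⟩ := exists_prime_orderOf_dvd_card' q hqd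
    have hc' : orderOf (c : F) = q := by rw [Subgroup.orderOf_coe]; exact hc
    have hle : Subgroup.zpowers (c : F) ≤ Subgroup.centralizer (N : Set F) := by
      rw [Subgroup.zpowers_le]; exact c.2
    have hne : Subgroup.zpowers (c : F) ≠ ⊥ := by
      rw [Ne, Subgroup.zpowers_eq_bot]
      intro h1
      rw [h1, orderOf_one] at hc'
      exact hq.one_lt.ne hc'
    have h1 := Subgroup.card_dvd_of_le (hRC _ hle hne)
    rw [Nat.card_zpowers, hc'] at h1
    exact ((Nat.prime_dvd_prime_iff_eq hprime hq).mp h1).symm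
  obtain ⟨k, hk⟩ := hcardC
  have hk1 : 1 ≤ k := by
    rcases Nat.eq_zero_or_pos k with h0 | h0
    · exfalso
      rw [h0, pow_zero] at hk
      exact hC ((Subgroup.card_eq_one).mp hk)
    · exact h0
  have hCp : IsPGroup (Nat.card N) ↥(Subgroup.centralizer (N : Set F)) := IsPGroup.of_card hk
  have huniq : ∀ A B : Subgroup ↥(Subgroup.centralizer (N : Set F)),
      Nat.card A = Nat.card N → Nat.card B = Nat.card N → A = B := by
    have key : ∀ A : Subgroup ↥(Subgroup.centralizer (N : Set F)), Nat.card A = Nat.card N →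
        A.map (Subgroup.centralizer (N : Set F)).subtype = N := by
      intro A hA
      have hcard : Nat.card (A.map (Subgroup.centralizer (N : Set F)).subtype) = Nat.card N := by
        rw [Subgroup.card_map_of_injective (Subgroup.subtype_injective _)]; exact hA
      have hle : A.map (Subgroup.centralizer (N : Set F)).subtype ≤
          Subgroup.centralizer (N : Set F) := by
        rintro _ ⟨a, _, rfl⟩; exact a.2
      have hne : A.map (Subgroup.centralizer (N : Set F)).subtype ≠ ⊥ := by
        intro h1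
        rw [h1, Subgroup.card_bot] at hcard
        exact hprime.one_lt.ne hcard
      exact (Subgroup.eq_of_le_of_card_ge (hRC _ hle hne) hcard.le).symm
    intro A B hA hB
    apply Subgroup.map_injective (Subgroup.subtype_injective (Subgroup.centralizer (N : Set F)))
    rw [key A hA, key B hB]
  -- the conjugation action on N
  have hNcyc : IsCyclic ↥N := isCyclic_of_prime_card (p := Nat.card N) rfl
  have hAutcyc : IsCyclic (MulAut ↥N) := by
    rw [(IsCyclic.mulAutMulEquiv ↥N).isCyclic]
    infer_instance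
  have hAutcard : Nat.card (MulAut ↥N) = Nat.card N - 1 := by
    rw [IsCyclic.card_mulAut, Nat.totient_prime hprime]
  have hker : (MulAut.conjNormal (H := N)).ker = Subgroup.centralizer (N : Set F) := by
    ext g
    rw [MonoidHom.mem_ker, Subgroup.mem_centralizer_iff]
    constructor
    · intro h n hn
      have h1 := congrArg (fun f : MulAut ↥N => ((f ⟨n, hn⟩ : ↥N) : F)) h
      simp only [MulAut.conjNormal_apply, MulAut.one_apply] at h1
      have h2 : n * g = g * n * g⁻¹ * g := by rw [h1]
      rw [h2]; group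
    · intro h
      ext n
      rw [MulAut.conjNormal_apply, MulAut.one_apply]
      rw [← h n n.2, mul_inv_cancel_right]
  have hidx : (Subgroup.centralizer (N : Set F)).index ∣ Nat.card N - 1 := by
    rw [← hker, Subgroup.index_ker, ← hAutcard]
    exact Subgroup.card_subgroup_dvd_card _
  have hgen : ∃ g : F, Subgroup.centralizer (N : Set F) ⊔ Subgroup.zpowers g = ⊤ := by
    have hrc : IsCyclic ↥(MulAut.conjNormal (H := N)).range := inferInstance
    obtain ⟨⟨_, g, rfl⟩, hg⟩ := hrc.exists_generator
    refine ⟨g, ?_⟩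
    rw [eq_top_iff]
    intro x _
    obtain ⟨i, hi⟩ := Subgroup.mem_zpowers_iff.mp
      (hg ⟨MulAut.conjNormal (H := N) x, x, rfl⟩)
    have hi' : (MulAut.conjNormal (H := N) g) ^ i = MulAut.conjNormal (H := N) x := by
      have := congrArg Subtype.val hi
      simpa using this
    have hmem : x * (g ^ i)⁻¹ ∈ Subgroup.centralizer (N : Set F) := by
      rw [← hker, MonoidHom.mem_ker, map_mul, map_inv, map_zpow, hi', mul_inv_cancel]
    have : x = x * (g ^ i)⁻¹ * g ^ i := by group
    rw [this]
    exact Subgroup.mul_mem_sup hmem (Subgroup.zpow_mem_zpowers g i)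
  rcases Cfsg.Agent.S0016.result (Nat.card N) hCp huniq with hcyc | ⟨h2, n, ⟨e⟩⟩
  · left
    exact ⟨hHeq, hprime, hcyc, ⟨k, hk1, hk⟩, hgen, hidx⟩
  · by_cases hcyc : IsCyclic ↥(Subgroup.centralizer (N : Set F))
    · left
      exact ⟨hHeq, hprime, hcyc, ⟨k, hk1, hk⟩, hgen, hidx⟩
    · right
      have hCtop : Subgroup.centralizer (N : Set F) = ⊤ := by
        rw [← Subgroup.index_eq_one]
        rw [h2] at hidx
        exact Nat.dvd_one.mp hidx
      have hn1 : 1 ≤ n := by
        rcases Nat.eq_zero_or_pos n with h0 | h0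
        · exfalso
          apply hcyc
          rw [h0, pow_zero] at e
          have := QuaternionGroup.quaternionGroup_one_isCyclic
          exact e.isCyclic.mpr this
        · exact h0
      refine ⟨hHeq, h2, hCtop, n, hn1, ⟨?_⟩⟩
      exact Subgroup.topEquiv.symm.trans ((MulEquiv.subgroupCongr hCtop.symm).trans e)

/-- Let F be a finite group and H a nontrivial subgroup of F that is contained in every nontrivial subgroup of F which H normalizes. Then F has a nontrivial normal subgroup N contained in every nontrivial normal subgroup of F (a unique minimal normal subgroup), N is simple, and one of the following holds: C_F(N) = 1; or H = N has prime order p, C_F(N) is cyclic of order a power of p, and F/C_F(N) is cyclic of order dividing p − 1; or H = N has order 2, N is central in F, and F is a generalized quaternion group. -/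
theorem result {F : Type*} [Group F] [Finite F] (H : Subgroup F) (hH : H ≠ ⊥)
    (hmin : ∀ R : Subgroup F, R ≠ ⊥ → H ≤ Subgroup.normalizer (R : Set F) → H ≤ R) :
    ∃ N : Subgroup F, N.Normal ∧ N ≠ ⊥ ∧ (∀ M : Subgroup F, M.Normal → M ≠ ⊥ → N ≤ M) ∧ IsSimpleGroup ↥N ∧
      (Subgroup.centralizer (N : Set F) = ⊥ ∨
       (H = N ∧ (Nat.card N).Prime ∧ IsCyclic ↥(Subgroup.centralizer (N : Set F)) ∧
          (∃ k : ℕ, 1 ≤ k ∧ Nat.card ↥(Subgroup.centralizer (N : Set F)) = Nat.card N ^ k) ∧
          (∃ g : F, Subgroup.centralizer (N : Set F) ⊔ Subgroup.zpowers g = ⊤) ∧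
          (Subgroup.centralizer (N : Set F)).index ∣ Nat.card N - 1) ∨
       (H = N ∧ Nat.card N = 2 ∧ Subgroup.centralizer (N : Set F) = ⊤ ∧
          ∃ k : ℕ, 1 ≤ k ∧ Nonempty (F ≃* QuaternionGroup (2 ^ k)))) := by
  classical
  have hNn : (Subgroup.normalClosure (H : Set F)).Normal := Subgroup.normalClosure_normal
  have hHN : H ≤ Subgroup.normalClosure (H : Set F) := Subgroup.le_normalClosure
  have hNbot : Subgroup.normalClosure (H : Set F) ≠ ⊥ := fun h => hH (le_bot_iff.mp (h ▸ hHN))
  have hNmin : ∀ M : Subgroup F, M.Normal → M ≠ ⊥ → Subgroup.normalClosure (H : Set F) ≤ M := by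
    intro M hM hMb
    have : H ≤ M := hmin M hMb (by rw [Subgroup.normalizer_eq_top]; exact le_top)
    exact Subgroup.normalClosure_le_normal this
  have hnt : Nontrivial ↥(Subgroup.normalClosure (H : Set F)) :=
    (Subgroup.nontrivial_iff_ne_bot _).mpr hNbot
  have hsimple : IsSimpleGroup ↥(Subgroup.normalClosure (H : Set F)) := by
    refine ⟨fun R hR => ?_⟩
    by_cases hRb : R = ⊥
    · left; exact hRb
    · right; exact normalClosure_simple H hmin R hR hRb
  refine ⟨Subgroup.normalClosure (H : Set F), hNn, hNbot, hNmin, hsimple, ?_⟩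
  by_cases hC : Subgroup.centralizer ((Subgroup.normalClosure (H : Set F) : Subgroup F) : Set F) = ⊥
  · left; exact hC
  · right
    exact trichotomy H _ hH hmin hNn hHN hNmin hsimple hC

end Cfsg.Agent.S3025
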