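import Mathlib
import Cfsg.Agent.Helper2.Component
import Cfsg.Statements.S3027
-- import your own Cfsg.Agent.* helpers here

set_option autoImplicit false
open Cfsg

namespace Cfsg.Agent.S3027

theorem sup_eq_top_iff_map {G : Type*} [Group G] (D : Subgroup G) [D.Normal] (X : Subgroup G) :
    X ⊔ D = ⊤ ↔ X.map (QuotientGroup.mk' D) = ⊤ := by
  have hsurj := QuotientGroup.mk'_surjective D
  constructor
  · intro h
    have h1 : (X ⊔ D).map (QuotientGroup.mk' D) = ⊤ := by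
      rw [h, ← MonoidHom.range_eq_map, MonoidHom.range_eq_top]; exact hsurj
    rw [Subgroup.map_sup] at h1
    have h2 : D.map (QuotientGroup.mk' D) = ⊥ := by
      rw [eq_bot_iff, Subgroup.map_le_iff_le_comap]
      intro x hx
      rw [Subgroup.mem_comap, Subgroup.mem_bot, QuotientGroup.mk'_apply, QuotientGroup.eq_one_iff]
      exact hx
    rwa [h2, sup_bot_eq] at h1
  · intro h
    have h1 := Subgroup.comap_map_eq (QuotientGroup.mk' D) X
    rw [h, QuotientGroup.ker_mk', Subgroup.comap_top] at h1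
    exact h1.symm

theorem commutator_supp {G : Type*} [Group G] (D : Subgroup G) [D.Normal]
    (hperf : ⁅(⊤ : Subgroup G), (⊤ : Subgroup G)⁆ ⊔ D = ⊤) (X Y : Subgroup G)
    (hX : X ⊔ D = ⊤) (hY : Y ⊔ D = ⊤) : ⁅X, Y⁆ ⊔ D = ⊤ := by
  rw [sup_eq_top_iff_map] at hperf hX hY ⊢
  rw [Subgroup.map_commutator, hX, hY]
  rw [Subgroup.map_commutator] at hperf
  have htop : (⊤ : Subgroup G).map (QuotientGroup.mk' D) = ⊤ := by
    rw [← MonoidHom.range_eq_map, MonoidHom.range_eq_top]; exact QuotientGroup.mk'_surjective D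
  rw [htop] at hperf
  exact hperf

theorem inf_supp {G : Type*} [Group G] (D : Subgroup G) [D.Normal]
    (hperf : ⁅(⊤ : Subgroup G), (⊤ : Subgroup G)⁆ ⊔ D = ⊤) (B₁ : Subgroup G) (h₁ : B₁.IsSubnormal) :
    B₁ ⊔ D = ⊤ → ∀ B₂ : Subgroup G, B₂.IsSubnormal → B₂ ⊔ D = ⊤ → (B₁ ⊓ B₂) ⊔ D = ⊤ := by
  induction h₁ with
  | top => intro _ B₂ _ h; rw [top_inf_eq]; exact h
  | step B₁ C hle hC hn ih =>
    intro hB₁ B₂ hB₂ hB₂D
    have hCD : C ⊔ D = ⊤ := by
      rw [eq_top_iff, ← hB₁]; exact sup_le_sup_right hle D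
    have hL := ih hCD B₂ hB₂ hB₂D
    set L := C ⊓ B₂ with hLdef
    have hLsn : L.IsSubnormal := hC.inf hB₂
    obtain ⟨n, hn'⟩ := Cfsg.Agent.Helper2.exists_iterate_commutator_le_of_isSubnormal hLsn
    have hCN : C ≤ Subgroup.normalizer (B₁ : Set G) :=
      (Subgroup.normal_subgroupOf_iff_le_normalizer hle).mp hn
    have hLN : L ≤ Subgroup.normalizer (B₁ : Set G) := inf_le_left.trans hCN
    have key : ∀ i : ℕ, (fun B : Subgroup G => ⁅B, L⁆)^[i] B₁ ≤ B₁ ∧
        (fun B : Subgroup G => ⁅B, L⁆)^[i] B₁ ⊔ D = ⊤ := by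
      intro i
      induction i with
      | zero => exact ⟨le_rfl, hB₁⟩
      | succ i ihi =>
        rw [Function.iterate_succ_apply']
        refine ⟨?_, commutator_supp D hperf _ _ ihi.2 hL⟩
        calc ⁅(fun B : Subgroup G => ⁅B, L⁆)^[i] B₁, L⁆ ≤ ⁅B₁, L⁆ := Subgroup.commutator_mono ihi.1 le_rfl
          _ = ⁅L, B₁⁆ := Subgroup.commutator_comm _ _
          _ ≤ B₁ := Cfsg.Agent.Helper2.commutator_le_of_le_normalizer hLN
    have h3 : (fun B : Subgroup G => ⁅B, L⁆)^[n] B₁ ≤ B₁ ⊓ B₂ :=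
      le_inf (key n).1 ((hn' B₁).trans inf_le_right)
    rw [eq_top_iff, ← (key n).2]
    exact sup_le_sup_right h3 D

/-- Let G be a finite group and D a normal subgroup of G such that G/D is perfect (that is, G = G′D). Then among the subnormal subgroups B of G with BD = G there is a least one, and it is normal in G. -/
theorem result {G : Type*} [Group G] [Finite G] (D : Subgroup G) [D.Normal] (hperf : ⁅(⊤ : Subgroup G), (⊤ : Subgroup G)⁆ ⊔ D = ⊤) :
    ∃ B : Subgroup G, B.Normal ∧ B ⊔ D = ⊤ ∧ ∀ B' : Subgroup G, B'.IsSubnormal → B' ⊔ D = ⊤ → B ≤ B' := by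
  set 𝒮 : Set (Subgroup G) := {B' | B'.IsSubnormal ∧ B' ⊔ D = ⊤} with h𝒮
  have hfin : ∀ s : Set (Subgroup G), s.Finite → s ⊆ 𝒮 → sInf s ∈ 𝒮 := by
    intro s hs
    induction s, hs using Set.Finite.induction_on with
    | empty =>
      intro _
      rw [sInf_empty]
      exact ⟨Subgroup.IsSubnormal.top, top_sup_eq _⟩
    | insert ha hs ih =>
      intro hsub
      rw [sInf_insert]
      have h1 := hsub (Set.mem_insert _ _)
      have h2 := ih (fun S hS => hsub (Set.mem_insert_of_mem _ hS))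
      exact ⟨h1.1.inf h2.1, inf_supp D hperf _ h1.1 h1.2 _ h2.1 h2.2⟩
  have hB := hfin 𝒮 (Set.toFinite _) le_rfl
  refine ⟨sInf 𝒮, ?_, hB.2, fun B' h1 h2 => sInf_le ⟨h1, h2⟩⟩
  constructor
  intro n hn g
  rw [Subgroup.mem_sInf] at hn ⊢
  intro B' hB'
  -- B'^{g⁻¹} ∈ 𝒮
  have h1 : B'.map (MulAut.conj g⁻¹).toMonoidHom ∈ 𝒮 := by
    refine ⟨hB'.1.map (MulAut.conj g⁻¹).surjective, ?_⟩
    have h2 : D.map (MulAut.conj g⁻¹).toMonoidHom = D := by
      apply le_antisymm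
      · rintro _ ⟨d, hd, rfl⟩
        simpa using ‹D.Normal›.conj_mem d hd g⁻¹
      · intro d hd
        refine ⟨g * d * g⁻¹, ‹D.Normal›.conj_mem d hd g, ?_⟩
        simp [mul_assoc]
    have h3 : (B' ⊔ D).map (MulAut.conj g⁻¹).toMonoidHom = ⊤ := by
      rw [hB'.2, ← MonoidHom.range_eq_map, MonoidHom.range_eq_top]
      exact (MulAut.conj g⁻¹).surjective
    rw [Subgroup.map_sup, h2] at h3
    exact h3
  have h4 := hn _ h1
  obtain ⟨b, hb, hbn⟩ := h4
  have : g * n * g⁻¹ = b := by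
    rw [← hbn]; simp [mul_assoc]
  rw [this]; exact hb

end Cfsg.Agent.S3027
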