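import Mathlib
import Cfsg.Statements.S3035
import Cfsg.Agent.Helper8.CD8G

set_option autoImplicit false
open Cfsg

namespace Cfsg.Agent.S3035

open Cfsg.Agent.Helper8.CD8

/-- Let G be a finite group with an involution z whose centralizer is dihedral of order 8. Then G = C_G(z) O(G) with O(G) the largest normal subgroup of odd order, or G is isomorphic to the symmetric group of degree 4, the symmetric group of degree 5, the group SL₃(2), or the alternating group of degree 6. -/
theorem result {G : Type*} [Group G] [Finite G] (z : G) (hz : orderOf z = 2)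
    (hC : Nonempty (↥(Subgroup.centralizer ({z} : Set G)) ≃* DihedralGroup 4)) :
    Subgroup.centralizer ({z} : Set G) ⊔ Cfsg.oddCore G = ⊤ ∨ Nonempty (G ≃* Equiv.Perm (Fin 4)) ∨ Nonempty (G ≃* Equiv.Perm (Fin 5)) ∨
      Nonempty (G ≃* Matrix.SpecialLinearGroup (Fin 3) (ZMod 2)) ∨ Nonempty (G ≃* ↥(alternatingGroup (Fin 6))) := by
  classical
  obtain ⟨e⟩ := hC
  by_cases hiso : Cfsg.IsIsolatedInvolution z
  · left
    exact isolated_case z hiso
  · right
    obtain ⟨e', hb⟩ := exists_equiv_conj z hz e hiso
    by_cases hw : IsConj z (el z e' (DihedralGroup.sr 1))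
    · rcases oneclass_case z hz e' hb hw with h | h
      · right; right; left; exact h
      · right; right; right; exact h
    · rcases idx2_case z hz e' hb hw with h | h
      · left; exact h
      · right; left; exact h

end Cfsg.Agent.S3035
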