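import Mathlib
import Cfsg.Agent.Helper5.CentrallyLarge
import Cfsg.Agent.Helper5.Misc
import Cfsg.Statements.S3036
-- import your own Cfsg.Agent.* helpers here

set_option autoImplicit false
open Cfsg

namespace Cfsg.Agent.S3036

open Cfsg.Agent.Helper5 in
theorem isCentralizerLarge_map_conj {G : Type*} [Group G] [Finite G] {M : Subgroup G}
    (h : Cfsg.IsCentralizerLarge M) (g : G) :
    Cfsg.IsCentralizerLarge (M.map (MulAut.conj g).toMonoidHom) := by
  rw [isCentralizerLarge_iff] at h ⊢
  apply le_antisymm (cdMeasure_le_max _)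
  rw [← h]
  unfold cdMeasure
  rw [card_map_conj']
  apply Nat.mul_le_mul_left
  have h1 := Subgroup.map_centralizer_le_centralizer_image (M : Set G) (MulAut.conj g).toMonoidHom
  rw [← Subgroup.coe_map] at h1
  calc Nat.card ↥(Subgroup.centralizer (M : Set G))
      = Nat.card ↥((Subgroup.centralizer (M : Set G)).map (MulAut.conj g).toMonoidHom) := (card_map_conj' _ g).symm
    _ ≤ _ := Subgroup.card_le_of_le h1

open Cfsg.Agent.Helper5 in
theorem eq_bot_or_top_of_isCentralizerLarge {G : Type*} [Group G] [Finite G] [IsSimpleGroup G]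
    {M : Subgroup G} (hM : Cfsg.IsCentralizerLarge M) : M = ⊥ ∨ M = ⊤ := by
  by_contra hcon
  push Not at hcon
  obtain ⟨hM1, hM2⟩ := hcon
  have hfin : {T : Subgroup G | Cfsg.IsCentralizerLarge T ∧ M ≤ T ∧ T ≠ ⊤}.Finite := Set.toFinite _
  obtain ⟨A, ⟨hA1, hA2, hA3⟩, hAmax⟩ := Set.exists_max_image _ (fun T : Subgroup G => Nat.card ↥T) hfin
    ⟨M, hM, le_rfl, hM2⟩
  have hconj : ∀ g : G, A.map (MulAut.conj g).toMonoidHom ≤ A := by
    intro g
    have hAg := isCentralizerLarge_map_conj hA1 g
    obtain ⟨hset, hJ, -, -⟩ := chermak_delgado A _ hA1 hAg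
    by_cases htop : A ⊔ A.map (MulAut.conj g).toMonoidHom = ⊤
    · exfalso
      have hmem : g⁻¹ ∈ ((A ⊔ A.map (MulAut.conj g).toMonoidHom : Subgroup G) : Set G) := by
        rw [htop]; exact Subgroup.mem_top _
      rw [hset] at hmem
      obtain ⟨a, ha, c, hc, hac⟩ := hmem
      obtain ⟨b, hb, rfl⟩ := hc
      have hg : g = a⁻¹ * b⁻¹ := by
        have h1 : a * (g * b * g⁻¹) = g⁻¹ := by simpa using hac
        have h2 : a * g * b = 1 := by
          calc a * g * b = a * (g * b * g⁻¹) * g := by group
            _ = g⁻¹ * g := by rw [h1]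
            _ = 1 := by group
        calc g = a⁻¹ * (a * g * b) * b⁻¹ := by group
          _ = a⁻¹ * b⁻¹ := by rw [h2]; group
      have hgA : g ∈ A := by
        rw [hg]; exact A.mul_mem (A.inv_mem ha) (A.inv_mem hb)
      have hle : A.map (MulAut.conj g).toMonoidHom ≤ A := by
        rintro _ ⟨y, hy, rfl⟩
        exact A.mul_mem (A.mul_mem hgA hy) (A.inv_mem hgA)
      apply hA3
      rw [← htop]
      exact (sup_eq_left.mpr hle).symm
    · have h1 := hAmax (A ⊔ A.map (MulAut.conj g).toMonoidHom) ⟨hJ, hA2.trans le_sup_left, htop⟩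
      have h2 : A = A ⊔ A.map (MulAut.conj g).toMonoidHom := Subgroup.eq_of_le_of_card_ge le_sup_left h1
      exact le_sup_right.trans (le_of_eq h2.symm)
  have hnormal : A.Normal := by
    constructor
    intro n hn g
    exact hconj g ⟨n, hn, rfl⟩
  rcases hnormal.eq_bot_or_eq_top with h | h
  · apply hM1
    rw [eq_bot_iff, ← h]; exact hA2
  · exact hA3 h

/-- Let G be a finite non-abelian simple group and A a proper nontrivial subgroup of G. Then |G| > |A| · |C_G(A)|. In particular |G| > |A|² for every nontrivial abelian subgroup A of G. -/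
theorem result {G : Type*} [Group G] [Finite G] [IsSimpleGroup G] (hG : ¬ IsMulCommutative G) (A : Subgroup G) (hA1 : A ≠ ⊥) (hA2 : A ≠ ⊤) : Nat.card A * Nat.card ↥(Subgroup.centralizer (A : Set G)) < Nat.card G := by
  open Cfsg.Agent.Helper5 in
  have hcenter : Subgroup.center G = ⊥ := by
    rcases (inferInstance : (Subgroup.center G).Normal).eq_bot_or_eq_top with h | h
    · exact h
    · exfalso
      apply hG
      apply IsMulCommutative.of_comm
      intro a b
      have hb : b ∈ Subgroup.center G := by rw [h]; exact Subgroup.mem_top b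
      exact (Subgroup.mem_center_iff.mp hb) a
  have hmax : Cfsg.maxCentralizerProduct G = Nat.card G := by
    obtain ⟨M, hM⟩ := exists_isCentralizerLarge (P := G)
    have hM' := hM
    rw [isCentralizerLarge_iff] at hM'
    rw [← hM']
    unfold cdMeasure
    rcases eq_bot_or_top_of_isCentralizerLarge hM with h | h
    · rw [h]
      have : Subgroup.centralizer (((⊥ : Subgroup G) : Subgroup G) : Set G) = ⊤ := by
        rw [Subgroup.centralizer_eq_top_iff_subset]
        intro x hx
        have hx' : x ∈ (⊥ : Subgroup G) := hx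
        rw [Subgroup.mem_bot] at hx'
        rw [hx']
        exact Subgroup.one_mem _
      rw [this, Subgroup.card_bot, Subgroup.card_top, one_mul]
    · rw [h, Subgroup.coe_top, Subgroup.centralizer_univ, hcenter, Subgroup.card_bot, Subgroup.card_top, mul_one]
  have hle := cdMeasure_le_max A
  rw [hmax] at hle
  apply lt_of_le_of_ne hle
  intro heq
  have hAL : Cfsg.IsCentralizerLarge A := by
    rw [isCentralizerLarge_iff, hmax]; exact heq
  rcases eq_bot_or_top_of_isCentralizerLarge hAL with h | h
  · exact hA1 h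
  · exact hA2 h

end Cfsg.Agent.S3036
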