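import Mathlib
import Cfsg.Agent.Helper5.Misc
import Cfsg.Agent.Helper5.ProdCard
import Cfsg.Agent.Helper5.ChermakDelgado
import Cfsg.Statements.S3037
-- import your own Cfsg.Agent.* helpers here

set_option autoImplicit false
open Cfsg Cfsg.Agent.Helper5

namespace Cfsg.Agent.S3037

open scoped Pointwise in
theorem card_ineq_sup_inf {X : Type*} [Group X] [Finite X] (Q R : Subgroup X) :
    Nat.card Q * Nat.card R ≤ Nat.card ↥(Q ⊔ R) * Nat.card ↥(Q ⊓ R) := by
  rw [← card_mul_set_mul_card_inf Q R]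
  apply Nat.mul_le_mul_right
  have h := mul_subset_sup Q R
  have : Nat.card ((Q : Set X) * (R : Set X) : Set X) ≤ Nat.card ((Q ⊔ R : Subgroup X) : Set X) :=
    Nat.card_mono (Set.toFinite _) h
  exact this

open scoped Pointwise in
theorem card_ineq_cV {X : Type*} [Group X] [Finite X] (V Q R : Subgroup X) :
    Nat.card ↥(V ⊓ Subgroup.centralizer (Q : Set X)) * Nat.card ↥(V ⊓ Subgroup.centralizer (R : Set X)) ≤
      Nat.card ↥(V ⊓ Subgroup.centralizer ((Q ⊔ R : Subgroup X) : Set X)) *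
        Nat.card ↥(V ⊓ Subgroup.centralizer ((Q ⊓ R : Subgroup X) : Set X)) := by
  rw [← card_mul_set_mul_card_inf, mul_comm]
  have h1 : (V ⊓ Subgroup.centralizer (Q : Set X)) ⊓ (V ⊓ Subgroup.centralizer (R : Set X)) =
      V ⊓ Subgroup.centralizer ((Q ⊔ R : Subgroup X) : Set X) := by
    rw [centralizer_sup_eq]
    ext y
    simp only [Subgroup.mem_inf]
    tauto
  rw [h1]
  apply Nat.mul_le_mul_left
  apply Nat.card_mono (Set.toFinite _)
  rintro _ ⟨x, hx, y, hy, rfl⟩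
  refine ⟨V.mul_mem hx.1 hy.1, ?_⟩
  exact centralizer_mul_subset Q R (Set.mul_mem_mul hx.2 hy.2)

theorem cV_map_conj {X : Type*} [Group X] (V A : Subgroup X) (g : X)
    (hg : g ∈ Subgroup.normalizer (V : Set X)) :
    V ⊓ Subgroup.centralizer ((A.map (MulAut.conj g).toMonoidHom : Subgroup X) : Set X) =
      (V ⊓ Subgroup.centralizer (A : Set X)).map (MulAut.conj g).toMonoidHom := by
  ext y
  rw [mem_map_conj_iff]
  simp only [Subgroup.mem_inf]
  have hV : g⁻¹ * y * g ∈ V ↔ y ∈ V := by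
    have := Subgroup.mem_normalizer_iff.mp (Subgroup.inv_mem _ hg) y
    rw [inv_inv] at this
    exact this.symm
  rw [hV]
  apply and_congr_right
  intro _
  rw [Subgroup.mem_centralizer_iff, Subgroup.mem_centralizer_iff]
  constructor
  · intro h a ha
    have h1 := h (g * a * g⁻¹) (conj_mem_map_conj A g a ha)
    calc a * (g⁻¹ * y * g) = g⁻¹ * ((g * a * g⁻¹) * y) * g := by group
      _ = g⁻¹ * (y * (g * a * g⁻¹)) * g := by rw [h1]
      _ = g⁻¹ * y * g * a := by group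
  · rintro h _ ⟨a, ha, rfl⟩
    have h1 := h a ha
    show g * a * g⁻¹ * y = y * (g * a * g⁻¹)
    calc g * a * g⁻¹ * y = g * (a * (g⁻¹ * y * g)) * g⁻¹ := by group
      _ = g * ((g⁻¹ * y * g) * a) * g⁻¹ := by rw [h1]
      _ = y * (g * a * g⁻¹) := by group

/-- Let V and G be subgroups of a finite group with V an elementary abelian p-group (p prime) on which G acts faithfully and irreducibly by conjugation: G normalizes V, G ∩ C(V) = 1, and the only subgroups of V normalized by G are 1 and V. If for some nontrivial subgroup A of G and some real α > 0 one has |V| ≤ |A|^α · |C_V(A)|, then |V| ≤ |G|^α. -/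
theorem result {X : Type*} [Group X] [Finite X] {p : ℕ} [Fact p.Prime] (V G : Subgroup X) (hV : Cfsg.IsElementaryAbelian p V)
    (hGV : G ≤ Subgroup.normalizer (V : Set X)) (hfaith : G ⊓ Subgroup.centralizer (V : Set X) = ⊥)
    (hirr : ∀ W : Subgroup X, W ≤ V → G ≤ Subgroup.normalizer (W : Set X) → W = ⊥ ∨ W = V)
    (A : Subgroup X) (hA : A ≤ G) (hA1 : A ≠ ⊥) (α : ℝ) (hα : 0 < α)
    (hbig : (Nat.card V : ℝ) ≤ (Nat.card A : ℝ) ^ α * (Nat.card ↥(V ⊓ Subgroup.centralizer (A : Set X)) : ℝ)) :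
    (Nat.card V : ℝ) ≤ (Nat.card G : ℝ) ^ α := by
  classical
  -- the measure
  set f : Subgroup X → ℝ := fun B =>
    (Nat.card B : ℝ) ^ α * (Nat.card ↥(V ⊓ Subgroup.centralizer (B : Set X)) : ℝ) with hf
  have hfpos : ∀ B : Subgroup X, 0 < f B := by
    intro B
    apply mul_pos
    · apply Real.rpow_pos_of_pos
      exact_mod_cast Nat.card_pos
    · exact_mod_cast Nat.card_pos
  have hkey : ∀ Q R : Subgroup X, f Q * f R ≤ f (Q ⊔ R) * f (Q ⊓ R) := by
    intro Q R
    have h1 : ((Nat.card Q : ℝ) * (Nat.card R : ℝ)) ^ α ≤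
        ((Nat.card ↥(Q ⊔ R) : ℝ) * (Nat.card ↥(Q ⊓ R) : ℝ)) ^ α := by
      apply Real.rpow_le_rpow (by positivity) _ hα.le
      exact_mod_cast card_ineq_sup_inf Q R
    have h2 : (Nat.card ↥(V ⊓ Subgroup.centralizer (Q : Set X)) : ℝ) *
        (Nat.card ↥(V ⊓ Subgroup.centralizer (R : Set X)) : ℝ) ≤
        (Nat.card ↥(V ⊓ Subgroup.centralizer ((Q ⊔ R : Subgroup X) : Set X)) : ℝ) *
          (Nat.card ↥(V ⊓ Subgroup.centralizer ((Q ⊓ R : Subgroup X) : Set X)) : ℝ) := by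
      exact_mod_cast card_ineq_cV V Q R
    rw [Real.mul_rpow (by positivity) (by positivity), Real.mul_rpow (by positivity) (by positivity)] at h1
    have h3 := mul_le_mul h1 h2 (by positivity) (by positivity)
    simp only [hf]
    calc _ = (Nat.card Q : ℝ) ^ α * (Nat.card R : ℝ) ^ α *
          ((Nat.card ↥(V ⊓ Subgroup.centralizer (Q : Set X)) : ℝ) *
            (Nat.card ↥(V ⊓ Subgroup.centralizer (R : Set X)) : ℝ)) := by ring
      _ ≤ _ := h3
      _ = _ := by ring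
  have hfbot : f ⊥ = (Nat.card V : ℝ) := by
    simp only [hf]
    have h1 : V ⊓ Subgroup.centralizer (((⊥ : Subgroup X) : Subgroup X) : Set X) = V := by
      rw [Subgroup.coe_bot, Subgroup.centralizer_eq_top_iff_subset.mpr (by simp), inf_top_eq]
    rw [h1, Subgroup.card_bot]
    simp
  have hfconj : ∀ B : Subgroup X, ∀ g ∈ G, f (B.map (MulAut.conj g).toMonoidHom) = f B := by
    intro B g hg
    simp only [hf]
    rw [cV_map_conj V B g (hGV hg), card_map_conj', card_map_conj']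
  -- maximize over subgroups of G
  have hfin : {B : Subgroup X | B ≤ G}.Finite := Set.toFinite _
  obtain ⟨B₁, hB₁G, hB₁max⟩ := Set.exists_max_image _ f hfin ⟨⊥, (bot_le : (⊥ : Subgroup X) ≤ G)⟩
  -- a nontrivial maximizer
  have hex : ∃ B : Subgroup X, B ≤ G ∧ B ≠ ⊥ ∧ ∀ C : Subgroup X, C ≤ G → f C ≤ f B := by
    by_cases hb : B₁ = ⊥
    · refine ⟨A, hA, hA1, fun C hC => ?_⟩
      have h1 : f B₁ ≤ f A := by
        rw [hb, hfbot]; exact hbig
      exact le_trans (hB₁max C hC) h1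
    · exact ⟨B₁, hB₁G, hb, hB₁max⟩
  have hfin2 : {B : Subgroup X | B ≤ G ∧ B ≠ ⊥ ∧ ∀ C : Subgroup X, C ≤ G → f C ≤ f B}.Finite :=
    Set.toFinite _
  obtain ⟨A₀, ⟨hA₀G, hA₀1, hA₀max⟩, hA₀min⟩ := Set.exists_min_image _
    (fun B : Subgroup X => Nat.card ↥(V ⊓ Subgroup.centralizer (B : Set X))) hfin2 hex
  -- C_V(A₀) is G-invariant
  have hinvt : ∀ g ∈ G, V ⊓ Subgroup.centralizer (A₀ : Set X) ≤
      (V ⊓ Subgroup.centralizer (A₀ : Set X)).map (MulAut.conj g).toMonoidHom := by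
    intro g hg
    have hAg : A₀.map (MulAut.conj g).toMonoidHom ≤ G := by
      rw [map_conj_le_iff]
      intro x hx
      exact G.mul_mem (G.mul_mem hg (hA₀G hx)) (G.inv_mem hg)
    have hBG : A₀ ⊔ A₀.map (MulAut.conj g).toMonoidHom ≤ G := sup_le hA₀G hAg
    have hB1 : A₀ ⊔ A₀.map (MulAut.conj g).toMonoidHom ≠ ⊥ := by
      intro h
      apply hA₀1
      rw [eq_bot_iff, ← h]; exact le_sup_left
    have hDG : A₀ ⊓ A₀.map (MulAut.conj g).toMonoidHom ≤ G := le_trans inf_le_left hA₀G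
    have h1 := hkey A₀ (A₀.map (MulAut.conj g).toMonoidHom)
    rw [hfconj A₀ g hg] at h1
    have h2 : f (A₀ ⊓ A₀.map (MulAut.conj g).toMonoidHom) ≤ f A₀ := hA₀max _ hDG
    have h3 : f A₀ ≤ f (A₀ ⊔ A₀.map (MulAut.conj g).toMonoidHom) := by
      have h4 : f A₀ * f (A₀ ⊓ A₀.map (MulAut.conj g).toMonoidHom) ≤
          f (A₀ ⊔ A₀.map (MulAut.conj g).toMonoidHom) * f (A₀ ⊓ A₀.map (MulAut.conj g).toMonoidHom) :=
        le_trans (mul_le_mul_of_nonneg_left h2 (hfpos A₀).le) h1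
      exact le_of_mul_le_mul_right h4 (hfpos _)
    have hBmem : (A₀ ⊔ A₀.map (MulAut.conj g).toMonoidHom) ∈
        {B : Subgroup X | B ≤ G ∧ B ≠ ⊥ ∧ ∀ C : Subgroup X, C ≤ G → f C ≤ f B} :=
      ⟨hBG, hB1, fun C hC => le_trans (hA₀max C hC) h3⟩
    have h5 := hA₀min _ hBmem
    have h6 : V ⊓ Subgroup.centralizer ((A₀ ⊔ A₀.map (MulAut.conj g).toMonoidHom : Subgroup X) : Set X) ≤
        V ⊓ Subgroup.centralizer (A₀ : Set X) :=
      inf_le_inf_left V (Subgroup.centralizer_le (le_sup_left : A₀ ≤ A₀ ⊔ A₀.map (MulAut.conj g).toMonoidHom))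
    have h7 := Subgroup.eq_of_le_of_card_ge h6 h5
    rw [← cV_map_conj V A₀ g (hGV hg), ← h7]
    exact inf_le_inf_left V (Subgroup.centralizer_le (le_sup_right : A₀.map (MulAut.conj g).toMonoidHom ≤ A₀ ⊔ A₀.map (MulAut.conj g).toMonoidHom))
  have hGN : G ≤ Subgroup.normalizer ((V ⊓ Subgroup.centralizer (A₀ : Set X) : Subgroup X) : Set X) := by
    intro g hg
    apply mem_normalizer_of_conj_mem
    intro x hx
    have := hinvt g⁻¹ (G.inv_mem hg) hx
    rw [mem_map_conj_iff, inv_inv] at this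
    exact this
  rcases hirr _ inf_le_left hGN with h | h
  · -- C_V(A₀) trivial
    have h1 : f A₀ = (Nat.card A₀ : ℝ) ^ α := by
      simp only [hf]
      rw [h, Subgroup.card_bot]; simp
    have h2 : (Nat.card V : ℝ) ≤ f A₀ := by
      rw [← hfbot]; exact hA₀max ⊥ bot_le
    rw [h1] at h2
    apply le_trans h2
    apply Real.rpow_le_rpow (by positivity) _ hα.le
    exact_mod_cast Subgroup.card_le_of_le hA₀G
  · -- C_V(A₀) = V: A₀ centralizes V
    exfalso
    apply hA₀1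
    rw [eq_bot_iff, ← hfaith]
    refine le_inf hA₀G ?_
    have hVC : V ≤ Subgroup.centralizer (A₀ : Set X) := inf_eq_left.mp h
    exact Subgroup.le_centralizer_iff.mp hVC

end Cfsg.Agent.S3037
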