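import Mathlib
import Cfsg.Statements.S3054
import Cfsg.Agent.Helper8.XpJ

set_option autoImplicit false
open Cfsg

namespace Cfsg.Agent.S3054

/-- Let p be an odd prime and G a finite group with a Sylow p-subgroup P that is extraspecial of order p³ and exponent p. Suppose P contains three distinct subgroups A of order p² (each is elementary abelian of rank 2) such that every automorphism of A of order p is induced by conjugation by an element of G; equivalently the automorphism group induced on A by its normalizer contains the special linear group of A. Then p ≤ 13. -/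
theorem result {G : Type*} [Group G] [Finite G]
    {p : ℕ} [Fact p.Prime] (hp : p ≠ 2) (P : Sylow p G) (hE : Cfsg.IsExtraspecial p ↥P)
    (hcard : Nat.card P = p ^ 3) (hexp : Monoid.exponent ↥P = p)
    (A : Fin 3 → Subgroup G) (hA : Function.Injective A) (hAP : ∀ i, A i ≤ (P : Subgroup G))
    (hAcard : ∀ i, Nat.card ↥(A i) = p ^ 2)
    (hSL : ∀ i, ∀ φ : MulAut ↥(A i), orderOf φ = p → ∃ g : G, ∀ a : ↥(A i), (φ a : G) = g * (a : G) * g⁻¹) :
    p ≤ 13 := by
  classical
  have hpp : p.Prime := Fact.out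
  obtain ⟨D⟩ := Cfsg.Agent.Helper8.Xp.exists_hdata hE hcard
  have hexp' : ∀ g : (P : Subgroup G), g ^ p = 1 := by
    intro g
    have h := Monoid.pow_exponent_eq_one g
    erw [hexp] at h
    exact h
  have hB' : ∀ i, Nat.card ((A i).subgroupOf (P : Subgroup G)) = p ^ 2 := by
    intro i
    rw [Cfsg.Agent.Lead.card_subgroupOf_of_le (hAP i)]; exact hAcard i
  -- a noncentral element in each subgroup
  have hex : ∀ i, ∃ x : (P : Subgroup G), (x : G) ∈ A i ∧ x ∉ Subgroup.center (P : Subgroup G) := by
    intro i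
    obtain ⟨x, hxB, hx⟩ := D.exists_mem_not_center (hB' i)
    exact ⟨x, Subgroup.mem_subgroupOf.mp hxB, hx⟩
  choose x hxA hxc using hex
  have hgood : ∀ i, Cfsg.Agent.Helper8.Xp.Good (Cfsg.Agent.Helper8.Xp.rho P D).range
      (D.cvec (x i)) := by
    intro i
    apply Cfsg.Agent.Helper8.Xp.good_of_lower P D hexp' (x i) (hxc i)
    exact Cfsg.Agent.Helper8.Xp.lower_of_shear P D hexp' (A i) (hAP i) (hAcard i) (hSL i) (x i)
      (hxA i) (hxc i)
  have hdet : ∀ i j : Fin 3, i ≠ j →
      D.cvec (x i) 0 * D.cvec (x j) 1 - D.cvec (x i) 1 * D.cvec (x j) 0 ≠ 0 := by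
    intro i j hij
    rw [← D.pair_eq]
    apply D.pair_ne_zero (hB' i) (hB' j) _ (Subgroup.mem_subgroupOf.mpr (hxA i))
      (Subgroup.mem_subgroupOf.mpr (hxA j)) (hxc i) (hxc j)
    intro h
    apply hij
    apply hA
    have h1 : ((A i).subgroupOf (P : Subgroup G)).map (P : Subgroup G).subtype =
        ((A j).subgroupOf (P : Subgroup G)).map (P : Subgroup G).subtype := by rw [h]
    rwa [Subgroup.map_subgroupOf_eq_of_le (hAP i), Subgroup.map_subgroupOf_eq_of_le (hAP j)] at h1
  rcases Cfsg.Agent.Helper8.Xp.bound_three hp (Cfsg.Agent.Helper8.Xp.rho P D).range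
    (Cfsg.Agent.Helper8.Xp.coprime_range P D) (hdet 0 1 (by decide)) (hdet 0 2 (by decide))
    (hdet 1 2 (by decide)) (hgood 0) (hgood 1) (hgood 2) with h | ⟨h13, -⟩
  · omega
  · omega

end Cfsg.Agent.S3054
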