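import Mathlib
import Cfsg.Statements.S3055
import Cfsg.Agent.Helper8.XpH

set_option autoImplicit false
open Cfsg

namespace Cfsg.Agent.S3055

/-- Let p be an odd prime and G a finite group with a Sylow p-subgroup P that is extraspecial of order p³ and exponent p. If all nonidentity elements of P are conjugate in G, then p ≤ 7. -/
theorem result {G : Type*} [Group G] [Finite G]
    {p : ℕ} [Fact p.Prime] (hp : p ≠ 2) (P : Sylow p G) (hE : Cfsg.IsExtraspecial p ↥P)
    (hcard : Nat.card P = p ^ 3) (hexp : Monoid.exponent ↥P = p)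
    (hconj : ∀ x y : ↥P, x ≠ 1 → y ≠ 1 → ∃ g : G, g * (x : G) * g⁻¹ = (y : G)) :
    p ≤ 7 := by
  classical
  have hpp : p.Prime := Fact.out
  obtain ⟨D⟩ := Cfsg.Agent.Helper8.Xp.exists_hdata hE hcard
  have hexp' : ∀ g : (P : Subgroup G), g ^ p = 1 := by
    intro g
    have h := Monoid.pow_exponent_eq_one g
    erw [hexp] at h
    exact h
  -- every noncentral element gives a good point
  have hgood : ∀ x : (P : Subgroup G), x ∉ Subgroup.center (P : Subgroup G) →
      Cfsg.Agent.Helper8.Xp.Good (Cfsg.Agent.Helper8.Xp.rho P D).range (D.cvec x) := by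
    intro x hx
    apply Cfsg.Agent.Helper8.Xp.good_of_lower P D hexp' x hx
    apply Cfsg.Agent.Helper8.Xp.lower_of_conj P D hexp' x hx
    apply hconj D.z₀ x D.z₀_ne
    rintro rfl
    exact hx (Subgroup.one_mem _)
  -- the points
  set pt : ZMod p → (P : Subgroup G) := fun k => D.x₀ * Cfsg.Agent.Helper8.Xp.zp D.y₀ k with hpt
  have hcv : ∀ k, D.cvec (pt k) = ![1, k] := by
    intro k
    rw [hpt]
    simp only
    rw [D.cvec_mul, D.cvec_zp, D.cvec_x₀, D.cvec_y₀]
    ext i
    fin_cases i <;> simp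
  have hnc : ∀ k, pt k ∉ Subgroup.center (P : Subgroup G) := by
    intro k hk
    have := D.cvec_center hk
    rw [hcv] at this
    have h0 := congrFun this 0
    simp at h0
  have hdet : ∀ i j : ZMod p, i ≠ j →
      D.cvec (pt i) 0 * D.cvec (pt j) 1 - D.cvec (pt i) 1 * D.cvec (pt j) 0 ≠ 0 := by
    intro i j hij
    rw [hcv, hcv]
    simp only [Matrix.cons_val_zero, Matrix.cons_val_one, Matrix.cons_val_fin_one]
    intro h
    apply hij
    have : j - i = 0 := by linear_combination h
    exact (sub_eq_zero.mp this).symm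
  have h2 : (2 : ZMod p) ≠ 0 := by
    intro h
    have h1 : ((2 : ℕ) : ZMod p) = 0 := by exact_mod_cast h
    rw [ZMod.natCast_eq_zero_iff] at h1
    have := (Nat.prime_dvd_prime_iff_eq hpp Nat.prime_two).mp h1
    exact hp this
  have h01 : (0 : ZMod p) ≠ 1 := zero_ne_one
  have h02 : (0 : ZMod p) ≠ 2 := h2.symm
  have h12 : (1 : ZMod p) ≠ 2 := by
    intro h
    have : (1 : ZMod p) = 0 := by linear_combination -h
    exact one_ne_zero this
  rcases Cfsg.Agent.Helper8.Xp.bound_three hp (Cfsg.Agent.Helper8.Xp.rho P D).range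
    (Cfsg.Agent.Helper8.Xp.coprime_range P D) (hdet 0 1 h01) (hdet 0 2 h02) (hdet 1 2 h12)
    (hgood _ (hnc 0)) (hgood _ (hnc 1)) (hgood _ (hnc 2)) with h | ⟨h13, ⟨e⟩⟩
  · exact h
  · exfalso
    haveI : NeZero p := ⟨hpp.ne_zero⟩
    apply Cfsg.Agent.Helper8.Xp.not_thirteen h13 (Cfsg.Agent.Helper8.Xp.rho P D).range e
      (ι := ZMod p) (by rw [ZMod.card, h13]) (fun k => D.cvec (pt k))
    · intro k h0
      exact hnc k (D.cvec_eq_zero_iff.mp h0)
    · exact hdet
    · intro k
      exact hgood _ (hnc k)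

end Cfsg.Agent.S3055
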