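import Mathlib
import Cfsg.Agent.Helper5.Basic
import Cfsg.Agent.Helper5.Cores
import Cfsg.Agent.Helper5.PGroupCenter
import Cfsg.Agent.Helper4.CyclicCentA
import Cfsg.Agent.S0016
import Cfsg.Agent.S0058
import Cfsg.Agent.S2777
import Cfsg.Agent.Helper1.Subnormal
import Cfsg.Statements.S3057
-- import your own Cfsg.Agent.* helpers here

set_option autoImplicit false
open Cfsg Cfsg.Agent.Helper5
open scoped Pointwise

namespace Cfsg.Agent.S3057

/-- adjacency of Sylow subgroups: distinct and meeting nontrivially. -/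
def SAdj {G : Type*} [Group G] {p : ℕ} (S T : Sylow p G) : Prop :=
  S ≠ T ∧ ∃ x : G, x ≠ 1 ∧ x ∈ S ∧ x ∈ T

theorem SAdj.symm {G : Type*} [Group G] {p : ℕ} {S T : Sylow p G} (h : SAdj S T) : SAdj T S :=
  ⟨h.1.symm, by obtain ⟨x, h1, h2, h3⟩ := h.2; exact ⟨x, h1, h3, h2⟩⟩

theorem SAdj.inf_ne_bot {G : Type*} [Group G] {p : ℕ} {S T : Sylow p G} (h : SAdj S T) :
    (S : Subgroup G) ⊓ (T : Subgroup G) ≠ ⊥ := by
  obtain ⟨x, h1, h2, h3⟩ := h.2
  intro h0
  have : x ∈ (S : Subgroup G) ⊓ (T : Subgroup G) := ⟨h2, h3⟩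
  rw [h0, Subgroup.mem_bot] at this
  exact h1 this

theorem sadj_of_inf_ne_bot {G : Type*} [Group G] {p : ℕ} {S T : Sylow p G} (hne : S ≠ T)
    (h : (S : Subgroup G) ⊓ (T : Subgroup G) ≠ ⊥) : SAdj S T := by
  refine ⟨hne, ?_⟩
  rw [Ne, Subgroup.eq_bot_iff_forall] at h
  push Not at h
  obtain ⟨x, hx, hx1⟩ := h
  exact ⟨x, hx1, hx.1, hx.2⟩

theorem mem_smul_sylow {G : Type*} [Group G] {p : ℕ} (g x : G) (S : Sylow p G) :
    x ∈ (g • S : Sylow p G) ↔ g⁻¹ * x * g ∈ S := by
  change x ∈ ((g • S : Sylow p G) : Subgroup G) ↔ _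
  rw [Sylow.coe_subgroup_smul, Subgroup.mem_pointwise_smul_iff_inv_smul_mem]
  simp [MulAut.smul_def]
  exact Iff.rfl

theorem SAdj.smul {G : Type*} [Group G] {p : ℕ} {S T : Sylow p G} (h : SAdj S T) (g : G) :
    SAdj (g • S) (g • T) := by
  refine ⟨fun h0 => h.1 (smul_left_cancel g h0), ?_⟩
  obtain ⟨x, h1, h2, h3⟩ := h.2
  refine ⟨g * x * g⁻¹, ?_, ?_, ?_⟩
  · intro h0
    apply h1
    have : x = g⁻¹ * (g * x * g⁻¹) * g := by group
    rw [this, h0]; group
  · rw [mem_smul_sylow]
    have : g⁻¹ * (g * x * g⁻¹) * g = x := by group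
    rw [this]; exact h2
  · rw [mem_smul_sylow]
    have : g⁻¹ * (g * x * g⁻¹) * g = x := by group
    rw [this]; exact h3

theorem chain_of_rel {G : Type*} [Group G] {p : ℕ} {S T : Sylow p G}
    (h : Relation.ReflTransGen SAdj S T) :
    ∃ (n : ℕ) (c : Fin (n + 1) → Sylow p G), c 0 = S ∧ c (Fin.last n) = T ∧
      ∀ i : Fin n, SAdj (c i.castSucc) (c i.succ) := by
  induction h with
  | refl => exact ⟨0, fun _ => S, rfl, rfl, fun i => i.elim0⟩
  | @tail b c' _ hbc ih =>
    obtain ⟨n, c, h0, hl, hc⟩ := ih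
    refine ⟨n + 1, Fin.snoc (α := fun _ => Sylow p G) c c', ?_, ?_, ?_⟩
    · rw [← Fin.castSucc_zero, Fin.snoc_castSucc]; exact h0
    · rw [Fin.snoc_last]
    · intro i
      refine Fin.lastCases ?_ (fun j => ?_) i
      · rw [Fin.snoc_castSucc, Fin.succ_last, Fin.snoc_last, hl]; exact hbc
      · rw [Fin.snoc_castSucc, Fin.succ_castSucc, Fin.snoc_castSucc]; exact hc j

theorem connected_of_rel {G : Type*} [Group G] {p : ℕ}
    (h : ∀ S T : Sylow p G, Relation.ReflTransGen SAdj S T) : Cfsg.IsSylowChainConnected p G := by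
  intro S T
  by_cases hST : S = T
  · subst hST
    exact ⟨0, fun _ => S, rfl, rfl, fun _ => inf_le_left, fun i => i.elim0⟩
  by_cases hb : (S : Subgroup G) ⊓ (T : Subgroup G) = ⊥
  · obtain ⟨n, c, h0, hl, hc⟩ := chain_of_rel (h S T)
    refine ⟨n, c, h0, hl, fun i => ?_, fun i => ⟨(hc i).1, (hc i).inf_ne_bot⟩⟩
    rw [hb]; exact bot_le
  · refine ⟨1, ![S, T], rfl, rfl, fun i => ?_, fun i => ?_⟩
    · fin_cases i
      · exact inf_le_left
      · exact inf_le_right
    · fin_cases i
      exact ⟨hST, hb⟩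

theorem const_of_connected {G : Type*} [Group G] {p : ℕ} {α : Type*} (f : Sylow p G → α)
    (hf : ∀ S T : Sylow p G, SAdj S T → f S = f T) (hc : Cfsg.IsSylowChainConnected p G)
    (S T : Sylow p G) : f S = f T := by
  obtain ⟨n, c, h0, hl, _, hadj⟩ := hc S T
  have key : ∀ i : Fin (n + 1), f (c i) = f (c 0) := by
    intro i
    induction i using Fin.induction with
    | zero => rfl
    | succ i ih =>
      rw [← ih]
      exact (hf _ _ (sadj_of_inf_ne_bot (hadj i).1 (hadj i).2)).symm
  rw [← h0, ← hl]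
  exact (key (Fin.last n)).symm

theorem not_connected {G : Type*} [Group G] [Finite G] (p : ℕ) [Fact p.Prime] (hdiv : p ∣ Nat.card G)
    (P : Sylow p G) (hO : Cfsg.pCore p G = ⊥)
    (hP : IsCyclic ↥P ∨ (p = 2 ∧ ∃ n : ℕ, Nonempty (↥P ≃* QuaternionGroup (2 ^ n)))) :
    ¬ Cfsg.IsSylowChainConnected p G := by
  intro hc
  have hp : p.Prime := Fact.out
  have hall : ∀ S : Sylow p G, IsCyclic ↥(S : Subgroup G) ∨
      ∃ n : ℕ, Nonempty (↥(S : Subgroup G) ≃* QuaternionGroup n) := by
    intro S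
    obtain ⟨g, rfl⟩ := MulAction.exists_smul_eq G P S
    have e : ↥(P : Subgroup G) ≃* ↥((g • P : Sylow p G) : Subgroup G) := P.equivSMul g
    rcases hP with h | ⟨_, n, ⟨e'⟩⟩
    · left; exact e.isCyclic.mp h
    · right; exact ⟨2 ^ n, ⟨e.symm.trans e'⟩⟩
  have hne : ∀ S : Sylow p G, (S : Subgroup G) ≠ ⊥ := fun S => S.ne_bot_of_dvd_card hdiv
  let f : Sylow p G → Set G := fun S => {x | x ∈ S ∧ x ^ p = 1}
  have hfz : ∀ S : Sylow p G, ∃ z ∈ S, orderOf z = p ∧ f S = (Subgroup.zpowers z : Set G) := by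
    intro S
    obtain ⟨z, hzS, hzo, hzu⟩ := Cfsg.Agent.S2777.exists_unique_order_p (S : Subgroup G)
      S.isPGroup' (hne S) (hall S)
    refine ⟨z, hzS, hzo, ?_⟩
    ext x
    constructor
    · rintro ⟨hxS, hxp⟩; exact hzu x hxS hxp
    · intro hx
      refine ⟨(Subgroup.zpowers_le.mpr hzS) hx, ?_⟩
      obtain ⟨i, rfl⟩ := Subgroup.mem_zpowers_iff.mp hx
      rw [← zpow_natCast, ← zpow_mul, mul_comm, zpow_mul, zpow_natCast, ← hzo,
        pow_orderOf_eq_one, one_zpow]
  have hadj : ∀ S T : Sylow p G, SAdj S T → f S = f T := by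
    intro S T h
    obtain ⟨y, hy1, hyS, hyT⟩ := h.2
    have hyp : IsPGroup p (Subgroup.zpowers y) := S.isPGroup'.to_le (Subgroup.zpowers_le.mpr hyS)
    obtain ⟨k, hk⟩ := IsPGroup.iff_card.mp hyp
    have hk0 : k ≠ 0 := by
      rintro rfl
      rw [pow_zero, Nat.card_zpowers, orderOf_eq_one_iff] at hk
      exact hy1 hk
    obtain ⟨y', hy'⟩ := exists_prime_orderOf_dvd_card' (G := Subgroup.zpowers y) p
      (by rw [hk]; exact dvd_pow_self p hk0)
    have hy'o : orderOf (y' : G) = p := by rw [Subgroup.orderOf_coe]; exact hy'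
    have hy'S : (y' : G) ∈ S := (Subgroup.zpowers_le.mpr hyS) y'.2
    have hy'T : (y' : G) ∈ T := (Subgroup.zpowers_le.mpr hyT) y'.2
    have hy'p : (y' : G) ^ p = 1 := by rw [← hy'o]; exact pow_orderOf_eq_one _
    have key : ∀ U : Sylow p G, (y' : G) ∈ U →
        f U = (Subgroup.zpowers (y' : G) : Set G) := by
      intro U hU
      obtain ⟨z, hzU, hzo, hfz'⟩ := hfz U
      rw [hfz']
      have hmem : (y' : G) ∈ Subgroup.zpowers z := by
        have : (y' : G) ∈ f U := ⟨hU, hy'p⟩
        rw [hfz'] at this; exact this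
      have : Subgroup.zpowers (y' : G) = Subgroup.zpowers z := by
        apply Subgroup.eq_of_le_of_card_ge (Subgroup.zpowers_le.mpr hmem)
        rw [Nat.card_zpowers, Nat.card_zpowers, hzo, hy'o]
      rw [this]
    rw [key S hy'S, key T hy'T]
  have hconst := const_of_connected f hadj hc
  obtain ⟨z, hzP, hzo, hfP⟩ := hfz P
  have hz1 : z ≠ 1 := by
    rintro rfl
    rw [orderOf_one] at hzo
    exact hp.one_lt.ne hzo
  have hZn : (Subgroup.zpowers z).Normal := by
    refine ⟨fun x hx g => ?_⟩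
    have h1 : g * x * g⁻¹ ∈ f (g • P) := by
      have hxf : x ∈ f P := by rw [hfP]; exact hx
      refine ⟨?_, ?_⟩
      · rw [mem_smul_sylow]
        have : g⁻¹ * (g * x * g⁻¹) * g = x := by group
        rw [this]; exact hxf.1
      · rw [conj_pow, hxf.2]; group
    rw [hconst (g • P) P, hfP] at h1
    exact h1
  have hZp : IsPGroup p (Subgroup.zpowers z) :=
    IsPGroup.of_card (n := 1) (by rw [Nat.card_zpowers, hzo, pow_one])
  have := le_pCore hZn hZp (Subgroup.mem_zpowers z)
  rw [hO, Subgroup.mem_bot] at this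
  exact hz1 this

theorem rel_smul {G : Type*} [Group G] {p : ℕ} {S T : Sylow p G}
    (h : Relation.ReflTransGen SAdj S T) (g : G) :
    Relation.ReflTransGen SAdj (g • S) (g • T) := by
  induction h with
  | refl => exact Relation.ReflTransGen.refl
  | tail _ hbc ih => exact ih.tail (hbc.smul g)

theorem rel_symm {G : Type*} [Group G] {p : ℕ} {S T : Sylow p G}
    (h : Relation.ReflTransGen SAdj S T) : Relation.ReflTransGen SAdj T S := by
  induction h with
  | refl => exact Relation.ReflTransGen.refl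
  | tail _ hbc ih => exact Relation.ReflTransGen.head hbc.symm ih

/-- the stabilizer of the connected component of `P`. -/
def connStab {G : Type*} [Group G] {p : ℕ} (P : Sylow p G) : Subgroup G where
  carrier := {g | Relation.ReflTransGen SAdj (g • P) P}
  one_mem' := by
    change Relation.ReflTransGen SAdj ((1 : G) • P) P
    rw [one_smul]
  mul_mem' := by
    intro a b ha hb
    change Relation.ReflTransGen SAdj ((a * b) • P) P
    rw [mul_smul]
    exact (rel_smul hb a).trans ha
  inv_mem' := by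
    intro a ha
    change Relation.ReflTransGen SAdj (a⁻¹ • P) P
    have h1 := rel_smul ha a⁻¹
    rw [inv_smul_smul] at h1
    exact rel_symm h1

theorem mem_connStab {G : Type*} [Group G] {p : ℕ} (P : Sylow p G) (g : G) :
    g ∈ connStab P ↔ Relation.ReflTransGen SAdj (g • P) P := Iff.rfl

theorem centralizer_le_connStab {G : Type*} [Group G] {p : ℕ} (P : Sylow p G) (x : G)
    (hx : x ∈ P) (hx1 : x ≠ 1) : Subgroup.centralizer {x} ≤ connStab P := by
  intro g hg
  rw [mem_connStab]
  have hc : x * g = g * x := Subgroup.mem_centralizer_iff.mp hg x rfl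
  by_cases h : g • P = P
  · rw [h]
  · refine Relation.ReflTransGen.single ⟨h, x, hx1, ?_, hx⟩
    rw [mem_smul_sylow, mul_assoc, hc, inv_mul_cancel_left]
    exact hx

theorem normalizer_le_connStab {G : Type*} [Group G] {p : ℕ} (P : Sylow p G) (P₀ : Subgroup G)
    (hP₀ : P₀ ≤ P) (hne : P₀ ≠ ⊥) : Subgroup.normalizer (P₀ : Set G) ≤ connStab P := by
  intro g hg
  rw [mem_connStab]
  rw [Ne, Subgroup.eq_bot_iff_forall] at hne
  push Not at hne
  obtain ⟨x, hx, hx1⟩ := hne
  have hy : g * x * g⁻¹ ∈ P₀ := (Subgroup.mem_normalizer_iff.mp hg x).mp hx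
  by_cases h : g • P = P
  · rw [h]
  · refine Relation.ReflTransGen.single ⟨h, g * x * g⁻¹, ?_, ?_, hP₀ hy⟩
    · intro h0
      apply hx1
      have : x = g⁻¹ * (g * x * g⁻¹) * g := by group
      rw [this, h0]; group
    · rw [mem_smul_sylow]
      have : g⁻¹ * (g * x * g⁻¹) * g = x := by group
      rw [this]; exact hP₀ hx

theorem exists_pprime_p_pair {G : Type*} [Group G] [Finite G] (p : ℕ) [Fact p.Prime]
    (hdiv : p ∣ Nat.card G) (hsol : Cfsg.IsPSolvable p G) :
    ∃ K L : Subgroup G, K.Normal ∧ L.Normal ∧ K ≤ L ∧ (Nat.card K).Coprime p ∧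
      ∃ m : ℕ, 1 ≤ m ∧ Nat.card L = Nat.card K * p ^ m := by
  have hp : p.Prime := Fact.out
  obtain ⟨n, H, h0, hl, hmono, hnorm, hfac⟩ := hsol
  by_contra hcon
  push Not at hcon
  have hcard : ∀ i : Fin n, Nat.card (H i.succ) =
      Nat.card (H i.castSucc) * (H i.castSucc).relIndex (H i.succ) := by
    intro i
    have hle : H i.castSucc ≤ H i.succ := hmono (Fin.castSucc_lt_succ).le
    have := Subgroup.relIndex_mul_relIndex ⊥ (H i.castSucc) (H i.succ) bot_le hle
    rw [Subgroup.relIndex_bot_left, Subgroup.relIndex_bot_left] at this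
    exact this.symm
  have key : ∀ i : Fin (n + 1), (Nat.card (H i)).Coprime p := by
    intro i
    induction i using Fin.induction with
    | zero => rw [h0, Subgroup.card_bot]; exact Nat.coprime_one_left p
    | succ i ih =>
      rw [hcard i]
      rcases hfac i with ⟨m, hm⟩ | hcop
      · rcases Nat.eq_zero_or_pos m with hm0 | hm0
        · rw [hm, hm0, pow_zero, mul_one]; exact ih
        · exfalso
          have := hcon (H i.castSucc) (H i.succ) (hnorm _) (hnorm _)
            (hmono (Fin.castSucc_lt_succ).le) ih m hm0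
          apply this
          rw [hcard i, hm]
      · exact Nat.Coprime.mul_left ih hcop
  have h1 := key (Fin.last n)
  rw [hl, Subgroup.card_top] at h1
  exact (Nat.Prime.coprime_iff_not_dvd hp).mp h1.symm hdiv

theorem connected_of_two {G : Type*} [Group G] [Finite G] (p : ℕ) [Fact p.Prime]
    (hdiv : p ∣ Nat.card G) (hsol : Cfsg.IsPSolvable p G) (P : Sylow p G)
    (hP : ¬ (IsCyclic ↥P ∨ (p = 2 ∧ ∃ n : ℕ, Nonempty (↥P ≃* QuaternionGroup (2 ^ n))))) :
    Cfsg.IsSylowChainConnected p G := by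
  classical
  have hp : p.Prime := Fact.out
  have hPne : (P : Subgroup G) ≠ ⊥ := P.ne_bot_of_dvd_card hdiv
  obtain ⟨z, hzP, hzo, hzc⟩ := exists_orderOf_eq_prime_central (P : Subgroup G) (P : Subgroup G)
    P.isPGroup' le_rfl hPne Subgroup.le_normalizer
  have hz1 : z ≠ 1 := by
    rintro rfl
    rw [orderOf_one] at hzo
    exact hp.one_lt.ne hzo
  have hzp : z ^ p = 1 := by rw [← hzo]; exact pow_orderOf_eq_one z
  have hx : ∃ x ∈ P, x ^ p = 1 ∧ x ∉ Subgroup.zpowers z := by
    by_contra hcon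
    push Not at hcon
    apply hP
    apply Cfsg.Agent.S0016.result p P.isPGroup'
    have key : ∀ C : Subgroup ↥(P : Subgroup G), Nat.card C = p →
        C.map (P : Subgroup G).subtype = Subgroup.zpowers z := by
      intro C hC
      apply Subgroup.eq_of_le_of_card_ge
      · rintro _ ⟨c, hc, rfl⟩
        apply hcon _ c.2
        have h1 : (⟨c, hc⟩ : C) ^ p = 1 := by
          have := pow_card_eq_one' (G := C) (x := ⟨c, hc⟩)
          rwa [hC] at this
        have h2 := congrArg (fun t : C => ((t : ↥(P : Subgroup G)) : G)) h1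
        simpa using h2
      · rw [Nat.card_zpowers, hzo, Subgroup.card_map_of_injective (Subgroup.subtype_injective _),
          hC]
    intro A B hA hB
    apply Subgroup.map_injective (Subgroup.subtype_injective (P : Subgroup G))
    rw [key A hA, key B hB]
  obtain ⟨x, hxP, hxp, hxz⟩ := hx
  have hEP : Subgroup.closure ({z, x} : Set G) ≤ P := by
    rw [Subgroup.closure_le]
    rintro y (rfl | rfl)
    · exact hzP
    · exact hxP
  have hEc : IsMulCommutative ↥(Subgroup.closure ({z, x} : Set G)) := by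
    apply Subgroup.isMulCommutative_closure
    rintro a (rfl | rfl) b (rfl | rfl)
    · rfl
    · exact (hzc b hxP).symm
    · exact hzc a hxP
    · rfl
  have hEnc : ¬ IsCyclic ↥(Subgroup.closure ({z, x} : Set G)) := by
    intro hcyc
    have hzE : z ∈ Subgroup.closure ({z, x} : Set G) := Subgroup.subset_closure (by simp)
    have hxE : x ∈ Subgroup.closure ({z, x} : Set G) := Subgroup.subset_closure (by simp)
    have hmem := Cfsg.Agent.Helper4.mem_zpowers_of_isCyclic_of_pow_prime hp
      (⟨x, hxE⟩ : Subgroup.closure ({z, x} : Set G)) ⟨z, hzE⟩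
      (Subtype.ext (by simpa using hxp)) (Subtype.ext (by simpa using hzp))
      (fun h1 => hz1 (congrArg Subtype.val h1))
    obtain ⟨i, hi⟩ := Subgroup.mem_zpowers_iff.1 hmem
    apply hxz
    rw [Subgroup.mem_zpowers_iff]
    refine ⟨i, ?_⟩
    have := congrArg Subtype.val hi
    simpa using this
  obtain ⟨K, L, hKn, hLn, hKL, hKcop, m, hm1, hLcard⟩ := exists_pprime_p_pair p hdiv hsol
  obtain ⟨Q, hQ⟩ := Cfsg.Agent.Helper1.sylow_inf_subnormal p L hLn.isSubnormal P
  have hP0 : (P : Subgroup G) ⊓ L = (Q : Subgroup L).map L.subtype := by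
    rw [hQ, Subgroup.subgroupOf_map_subtype]
  have hfrat : Subgroup.normalizer (((P : Subgroup G) ⊓ L : Subgroup G) : Set G) ⊔ L = ⊤ := by
    rw [hP0]; exact Sylow.normalizer_sup_eq_top Q
  have hpm : p ^ m ∣ Nat.card ((P : Subgroup G) ⊓ L : Subgroup G) := by
    rw [hP0, Subgroup.card_map_of_injective (Subgroup.subtype_injective _)]
    exact Q.pow_dvd_card_of_pow_dvd_card (by rw [hLcard]; exact dvd_mul_left _ _)
  have hP0ne : (P : Subgroup G) ⊓ L ≠ ⊥ := by
    intro h0
    rw [h0, Subgroup.card_bot, Nat.dvd_one] at hpm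
    exact (Nat.one_lt_pow (by omega) hp.one_lt).ne' hpm
  have hLle : L ≤ K ⊔ ((P : Subgroup G) ⊓ L) := by
    have hXL : K ⊔ ((P : Subgroup G) ⊓ L) ≤ L := sup_le hKL inf_le_right
    have hdvd : Nat.card L ∣ Nat.card (K ⊔ ((P : Subgroup G) ⊓ L) : Subgroup G) := by
      rw [hLcard]
      apply Nat.Coprime.mul_dvd_of_dvd_of_dvd (Nat.Coprime.pow_right m hKcop)
      · exact Subgroup.card_dvd_of_le le_sup_left
      · exact hpm.trans (Subgroup.card_dvd_of_le le_sup_right)
    exact (Subgroup.eq_of_le_of_card_ge hXL (Nat.le_of_dvd Nat.card_pos hdvd)).ge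
  have hKM : K ≤ connStab P := by
    have hcop : (Nat.card ↥(Subgroup.closure ({z, x} : Set G))).Coprime (Nat.card K) := by
      obtain ⟨k, hk⟩ := IsPGroup.iff_card.mp (P.isPGroup'.to_le hEP)
      rw [hk]
      exact Nat.Coprime.pow_left k hKcop.symm
    have hgen := Cfsg.Agent.S0058.result (Subgroup.closure ({z, x} : Set G)) K hEnc
      (by rw [Subgroup.normalizer_eq_top]; exact le_top) hcop
    rw [← hgen]
    apply iSup₂_le
    intro a ha
    exact inf_le_right.trans (centralizer_le_connStab P a (hEP ha.1) ha.2)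
  have hNM : Subgroup.normalizer (((P : Subgroup G) ⊓ L : Subgroup G) : Set G) ≤ connStab P :=
    normalizer_le_connStab P _ inf_le_left hP0ne
  have hM : connStab P = ⊤ := by
    rw [eq_top_iff, ← hfrat]
    apply sup_le hNM
    apply hLle.trans (sup_le hKM ?_)
    exact (Subgroup.le_normalizer).trans hNM
  apply connected_of_rel
  intro S T
  obtain ⟨g, rfl⟩ := MulAction.exists_smul_eq G P S
  obtain ⟨h, rfl⟩ := MulAction.exists_smul_eq G P T
  have hg : g ∈ connStab P := by rw [hM]; trivial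
  have hh : h ∈ connStab P := by rw [hM]; trivial
  exact ((mem_connStab P g).mp hg).trans (rel_symm ((mem_connStab P h).mp hh))

/-- Let p be a prime and G a finite p-solvable group of order divisible by p, with Sylow p-subgroup P. Then the Sylow p-subgroups of G fail to be chain-connected through nontrivial intersections (equivalently, G has a strongly p-embedded subgroup) if and only if O_p(G) = 1 and P is cyclic or, for p = 2, generalized quaternion. -/
theorem result {G : Type*} [Group G] [Finite G]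
    (p : ℕ) [Fact p.Prime] (hdiv : p ∣ Nat.card G) (hsol : Cfsg.IsPSolvable p G) (P : Sylow p G) :
    ¬ Cfsg.IsSylowChainConnected p G ↔
      Cfsg.pCore p G = ⊥ ∧ (IsCyclic ↥P ∨ (p = 2 ∧ ∃ n : ℕ, Nonempty (↥P ≃* QuaternionGroup (2 ^ n)))) := by
  constructor
  · intro hnc
    by_contra hcon
    apply hnc
    rw [not_and_or] at hcon
    rcases hcon with h1 | h2
    · apply connected_of_rel
      intro S T
      by_cases hST : S = T
      · rw [hST]
      · apply Relation.ReflTransGen.single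
        refine sadj_of_inf_ne_bot hST ?_
        intro h0
        apply h1
        rw [eq_bot_iff, ← h0]
        exact le_inf (pCore_le_sylow S) (pCore_le_sylow T)
    · exact connected_of_two p hdiv hsol P h2
  · rintro ⟨hO, hP⟩
    exact not_connected p hdiv P hO hP

end Cfsg.Agent.S3057
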