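import Mathlib
import Cfsg.Agent.Helper5.SPE
import Cfsg.Agent.Helper5.PResidual
import Cfsg.Statements.S3059
-- import your own Cfsg.Agent.* helpers here

set_option autoImplicit false
open Cfsg

namespace Cfsg.Agent.S3059

/-- Let p be a prime and H a strongly p-embedded subgroup of the finite group G in the classical sense: H is proper, p divides the order of H, and H ∩ gHg⁻¹ has order prime to p for every g outside H. Then for every normal subgroup N of G of order divisible by p, G = H · O^p(N), where O^p(N) is the subgroup generated by the elements of N of order prime to p. -/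
theorem result {G : Type*} [Group G] [Finite G]
    (p : ℕ) [Fact p.Prime] (H : Subgroup G) (hH : H ≠ ⊤) (hpH : p ∣ Nat.card H)
    (hse : ∀ g : G, g ∉ H → ¬ p ∣ Nat.card ↥(H ⊓ H.map (MulAut.conj g).toMonoidHom))
    (N : Subgroup G) [N.Normal] (hN : p ∣ Nat.card N) :
    H ⊔ Subgroup.closure {g : G | g ∈ N ∧ (orderOf g).Coprime p} = ⊤ := by
  open scoped Pointwise in
  classical
  obtain ⟨P, hP⟩ := Cfsg.Agent.Helper5.locCtrl_of_classical H hpH hse
  -- a Sylow p-subgroup of N whose image lies in P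
  obtain Q : Sylow p N := default
  have hQ'p : IsPGroup p ((Q : Subgroup N).map N.subtype) := Q.isPGroup'.map _
  obtain ⟨k, hk⟩ := Cfsg.Agent.Helper5.exists_conj_le_sylow P _ hQ'p
  set Q₂ : Sylow p N := (MulAut.conjNormal k : MulAut N) • Q with hQ₂
  have hQ₂P : (Q₂ : Subgroup N).map N.subtype ≤ (P : Subgroup G) := by
    rintro _ ⟨y, hy, rfl⟩
    rw [hQ₂, Sylow.pointwise_smul_def] at hy
    obtain ⟨q, hq, rfl⟩ := (Subgroup.mem_smul_pointwise_iff_exists _ _ _).mp hy
    have := hk (q : G) ⟨q, hq, rfl⟩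
    simpa using this
  have hQ₂1 : (Q₂ : Subgroup N).map N.subtype ≠ ⊥ := by
    intro h
    have h2 : (Q₂ : Subgroup N) ≠ ⊥ := Q₂.ne_bot_of_dvd_card hN
    apply h2
    rw [eq_bot_iff] at h ⊢
    intro y hy
    have := h ⟨y, hy, rfl⟩
    rw [Subgroup.mem_bot] at this ⊢
    exact Subtype.ext this
  have hNorm : Subgroup.normalizer (((Q₂ : Subgroup N).map N.subtype : Subgroup G) : Set G) ≤ H :=
    hP.normalizer_le _ (hQ₂P.trans hP.1) (Q₂.isPGroup'.map _) hQ₂1
  have hFr := Sylow.normalizer_sup_eq_top Q₂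
  have hNle : N ≤ H ⊔ Subgroup.closure {g : G | g ∈ N ∧ (orderOf g).Coprime p} := by
    have h1 := Cfsg.Agent.Helper5.pResidual_sup_sylow Q₂
    have h2 : N = (⊤ : Subgroup N).map N.subtype := by
      rw [← MonoidHom.range_eq_map, Subgroup.range_subtype]
    have h3 : (⊤ : Subgroup N).map N.subtype =
        Subgroup.closure {g : G | g ∈ N ∧ (orderOf g).Coprime p} ⊔ (Q₂ : Subgroup N).map N.subtype := by
      rw [← h1, Subgroup.map_sup, Cfsg.Agent.Helper5.map_subtype_pResidual]
    calc N = (⊤ : Subgroup N).map N.subtype := h2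
      _ = Subgroup.closure {g : G | g ∈ N ∧ (orderOf g).Coprime p} ⊔ (Q₂ : Subgroup N).map N.subtype := h3
      _ ≤ H ⊔ Subgroup.closure {g : G | g ∈ N ∧ (orderOf g).Coprime p} := by
        rw [sup_comm]
        exact sup_le_sup_right (hQ₂P.trans hP.1) _
  rw [eq_top_iff, ← hFr]
  exact sup_le (hNorm.trans le_sup_left) hNle

end Cfsg.Agent.S3059
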