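import Mathlib
import Cfsg.Agent.Helper5.DStar2
import Cfsg.Agent.Helper5.Cores
import Cfsg.Agent.Helper5.StrongEmb
import Cfsg.Agent.Helper2.Component
import Cfsg.Statements.S3060
-- import your own Cfsg.Agent.* helpers here

set_option autoImplicit false
open Cfsg Cfsg.Agent.Helper5
open scoped commutatorElement

namespace Cfsg.Agent.S3060

/-- If `x` acts quadratically on the normal `p`-subgroup `V` of the `p`-stable group `G`, then every
conjugate of `x` is a product of an element of `P` with the same action on `V` and an element of `C(V)`. -/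
theorem stable_decomp {G : Type*} [Group G] [Finite G] {p : ℕ} [Fact p.Prime]
    (hst : ∀ (P : Subgroup G) [P.Normal], IsPGroup p P → Cfsg.IsPStableOn p P) (S : Sylow p G)
    (V : Subgroup G) [hVn : V.Normal] (hVp : IsPGroup p V) (y : G)
    (hquad : ⁅⁅V, Subgroup.zpowers y⁆, Subgroup.zpowers y⁆ = ⊥) :
    ∃ t ∈ (S : Subgroup G), ∃ c ∈ Subgroup.centralizer (V : Set G), y = t * c := by
  have h2 := hst V hVp y hquad
  have hle : Cfsg.pCore p (G ⧸ Subgroup.centralizer (V : Set G)) ≤
      (S.mapSurjective (QuotientGroup.mk'_surjective (Subgroup.centralizer (V : Set G))) :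
        Sylow p (G ⧸ Subgroup.centralizer (V : Set G))) := pCore_le_sylow _
  have h3 := hle h2
  rw [← SetLike.mem_coe, Sylow.coe_mapSurjective] at h3
  obtain ⟨t, ht, hty⟩ := h3
  refine ⟨t, ht, t⁻¹ * y, ?_, by group⟩
  have : (QuotientGroup.mk t : G ⧸ Subgroup.centralizer (V : Set G)) = QuotientGroup.mk y := hty
  exact QuotientGroup.eq.mp this

/-- The D*-Theorem. For a finite p-group S let D*(S) be the subgroup generated by the abelian subgroups A of S such that every x ∈ S with ⟨A, x⟩ of nilpotency class at most two centralizes A. Let p be an odd prime and H a finite p-stable group with Sylow p-subgroup S. Here H is p-stable in the following sense: the largest normal p-subgroup O_p(H) contains its centralizer in H, and for every normal p-subgroup P of H, every element acting quadratically on P has image in O_p(H/C_H(P)). Then D*(S) is a normal subgroup of H. -/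
theorem result {G : Type*} [Group G] [Finite G] {p : ℕ} [Fact p.Prime] (hp : p ≠ 2)
    (hc : Subgroup.centralizer (Cfsg.pCore p G : Set G) ≤ Cfsg.pCore p G)
    (hst : ∀ (P : Subgroup G) [P.Normal], IsPGroup p P → Cfsg.IsPStableOn p P) (S : Sylow p G) :
    (Cfsg.dStarOf (S : Subgroup G)).Normal := by
  classical
  have hPp : IsPGroup p ↥(S : Subgroup G) := S.isPGroup'
  have hDP : Cfsg.dStarOf (S : Subgroup G) ≤ S := dStarOf_le _
  have hDc : IsMulCommutative ↥(Cfsg.dStarOf (S : Subgroup G)) := dStarOf_commutative hPp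
  have hPD : (S : Subgroup G) ≤ Subgroup.normalizer (Cfsg.dStarOf (S : Subgroup G) : Set G) :=
    dStarOf_normalized _
  have hQP : Cfsg.pCore p G ≤ S := pCore_le_sylow S
  have hQp : IsPGroup p ↥(Cfsg.pCore p G) := isPGroup_pCore p
  have hQn : (Cfsg.pCore p G).Normal := inferInstance
  -- (1) D ≤ Q
  have hDQ : Cfsg.dStarOf (S : Subgroup G) ≤ Cfsg.pCore p G := by
    intro d hd
    have hquad : ⁅⁅Cfsg.pCore p G, Subgroup.zpowers d⁆, Subgroup.zpowers d⁆ = ⊥ := by
      have hzd : Subgroup.zpowers d ≤ Cfsg.dStarOf (S : Subgroup G) := by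
        rw [Subgroup.zpowers_le]; exact hd
      have h1 : ⁅Cfsg.pCore p G, Subgroup.zpowers d⁆ ≤ Cfsg.dStarOf (S : Subgroup G) :=
        le_trans (Subgroup.commutator_mono hQP hzd)
          (Cfsg.Agent.Helper2.commutator_le_of_le_normalizer hPD)
      rw [eq_bot_iff]
      refine le_trans (Subgroup.commutator_mono h1 hzd) ?_
      rw [Subgroup.commutator_le]
      intro a ha b hb
      rw [Subgroup.mem_bot, commutatorElement_eq_one_iff_mul_comm]
      exact setLike_mul_comm ha hb
    have h2 := hst (Cfsg.pCore p G) hQp d hquad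
    have hKn : ((Cfsg.pCore p (G ⧸ Subgroup.centralizer (Cfsg.pCore p G : Set G))).comap
        (QuotientGroup.mk' (Subgroup.centralizer (Cfsg.pCore p G : Set G)))).Normal :=
      Subgroup.Normal.comap inferInstance _
    have hKp : IsPGroup p ↥((Cfsg.pCore p (G ⧸ Subgroup.centralizer (Cfsg.pCore p G : Set G))).comap
        (QuotientGroup.mk' (Subgroup.centralizer (Cfsg.pCore p G : Set G)))) := by
      apply IsPGroup.comap_of_ker_isPGroup (isPGroup_pCore p)
      rw [QuotientGroup.ker_mk']
      exact hQp.to_le hc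
    exact le_pCore hKn hKp h2
  -- (2) D centralizes its conjugates
  have hcomm : ∀ h : G, ∀ d ∈ Cfsg.dStarOf (S : Subgroup G), ∀ d' ∈ Cfsg.dStarOf (S : Subgroup G),
      d * (h * d' * h⁻¹) = (h * d' * h⁻¹) * d := by
    intro h d hd d' hd'
    have hBQ : (Cfsg.dStarOf (S : Subgroup G)).map (MulAut.conj h).toMonoidHom ≤ Cfsg.pCore p G := by
      rw [map_conj_le_iff]
      intro a ha
      exact hQn.conj_mem a (hDQ ha) h
    have hBc : IsMulCommutative ↥((Cfsg.dStarOf (S : Subgroup G)).map (MulAut.conj h).toMonoidHom) :=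
      inferInstance
    have hDN : Cfsg.dStarOf (S : Subgroup G) ≤ Subgroup.normalizer
        (((Cfsg.dStarOf (S : Subgroup G)).map (MulAut.conj h).toMonoidHom : Subgroup G) : Set G) := by
      intro a ha
      rw [normalizer_map_conj]
      have h1 : h⁻¹ * a * h⁻¹⁻¹ ∈ Cfsg.pCore p G := hQn.conj_mem a (hDQ ha) h⁻¹
      have h2 : h⁻¹ * a * h⁻¹⁻¹ ∈ Subgroup.normalizer (Cfsg.dStarOf (S : Subgroup G) : Set G) :=
        hPD (hQP h1)
      have h3 := conj_mem_map_conj _ h _ h2
      have e : h * (h⁻¹ * a * h⁻¹⁻¹) * h⁻¹ = a := by group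
      rwa [e] at h3
    exact dStarOf_centralizes hPp _ (le_trans hBQ hQP) hBc hDN d hd (h * d' * h⁻¹)
      (conj_mem_map_conj _ h d' hd')
  -- (3) the normal closure is abelian
  have hVc : IsMulCommutative ↥(Subgroup.normalClosure (Cfsg.dStarOf (S : Subgroup G) : Set G)) := by
    unfold Subgroup.normalClosure
    apply Subgroup.isMulCommutative_closure
    intro a ha b hb
    rw [Group.mem_conjugatesOfSet_iff] at ha hb
    obtain ⟨a', ha', hca⟩ := ha
    obtain ⟨b', hb', hcb⟩ := hb
    rw [isConj_iff] at hca hcb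
    obtain ⟨g, rfl⟩ := hca
    obtain ⟨g', rfl⟩ := hcb
    have h1 := hcomm (g⁻¹ * g') a' ha' b' hb'
    have e1 : g * a' * g⁻¹ * (g' * b' * g'⁻¹) = g * (a' * (g⁻¹ * g' * b' * (g⁻¹ * g')⁻¹)) * g⁻¹ := by group
    have e2 : g' * b' * g'⁻¹ * (g * a' * g⁻¹) = g * ((g⁻¹ * g' * b' * (g⁻¹ * g')⁻¹) * a') * g⁻¹ := by group
    rw [e1, e2, h1]
  have hVn : (Subgroup.normalClosure (Cfsg.dStarOf (S : Subgroup G) : Set G)).Normal :=
    Subgroup.normalClosure_normal
  have hVQ : Subgroup.normalClosure (Cfsg.dStarOf (S : Subgroup G) : Set G) ≤ Cfsg.pCore p G :=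
    Subgroup.normalClosure_le_normal hDQ
  have hVp : IsPGroup p ↥(Subgroup.normalClosure (Cfsg.dStarOf (S : Subgroup G) : Set G)) :=
    hQp.to_le hVQ
  have hDV : Cfsg.dStarOf (S : Subgroup G) ≤ Subgroup.normalClosure (Cfsg.dStarOf (S : Subgroup G) : Set G) :=
    Subgroup.le_normalClosure
  -- (4) the normal closure satisfies the defining property
  have hVD : Subgroup.normalClosure (Cfsg.dStarOf (S : Subgroup G) : Set G) ≤ Cfsg.dStarOf (S : Subgroup G) := by
    apply le_dStarOf _ (le_trans hVQ hQP) hVc
    intro x hxP hxcl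
    set V := Subgroup.normalClosure (Cfsg.dStarOf (S : Subgroup G) : Set G) with hV
    have hquadx : ⁅⁅V, Subgroup.zpowers x⁆, Subgroup.zpowers x⁆ = ⊥ := by
      rw [eq_bot_iff]
      unfold cl2 at hxcl
      rw [← hxcl]
      exact Subgroup.commutator_mono (Subgroup.commutator_mono le_sup_left le_sup_right) le_sup_right
    -- every conjugate of x centralizes D
    have hconjx : ∀ h : G, ∀ d ∈ Cfsg.dStarOf (S : Subgroup G), d * (h⁻¹ * x * h) = (h⁻¹ * x * h) * d := by
      intro h
      have hquady : ⁅⁅V, Subgroup.zpowers (h⁻¹ * x * h)⁆, Subgroup.zpowers (h⁻¹ * x * h)⁆ = ⊥ := by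
        have hVmap : V.map (MulAut.conj h⁻¹).toMonoidHom = V := by
          rw [← mem_normalizer_iff_map_conj, Subgroup.normalizer_eq_top]; exact Subgroup.mem_top _
        have hz : (Subgroup.zpowers x).map (MulAut.conj h⁻¹).toMonoidHom = Subgroup.zpowers (h⁻¹ * x * h) := by
          rw [MonoidHom.map_zpowers]
          simp
        have := congrArg (Subgroup.map (MulAut.conj h⁻¹).toMonoidHom) hquadx
        rw [Subgroup.map_commutator, Subgroup.map_commutator, hVmap, hz, Subgroup.map_bot] at this
        exact this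
      obtain ⟨t, htP, c, hcV, hy⟩ := stable_decomp hst S V hVp (h⁻¹ * x * h) hquady
      set y := h⁻¹ * x * h with hydef
      have ht : t = y * c⁻¹ := by rw [hy]; group
      have hNV : ⁅V, Subgroup.zpowers y⁆ ≤ V := Subgroup.commutator_le_left V _
      have hNy : ⁅V, Subgroup.zpowers y⁆ ≤ Subgroup.centralizer ((Subgroup.zpowers y : Subgroup G) : Set G) :=
        Subgroup.commutator_eq_bot_iff_le_centralizer.mp hquady
      have hcv : ∀ v ∈ V, c⁻¹ * v = v * c⁻¹ := by
        intro v hv
        have := (Subgroup.mem_centralizer_iff.mp (Subgroup.inv_mem _ hcV)) v hv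
        exact this.symm
      have hcl := commutator_closure_le_of_central ((V : Set G) ∪ {t}) ⁅V, Subgroup.zpowers y⁆
        (by
          intro n hn s hs
          rcases hs with hs | hs
          · exact setLike_mul_comm hs (hNV hn)
          · rw [Set.mem_singleton_iff] at hs
            have hyn : y * n = n * y :=
              (Subgroup.mem_centralizer_iff.mp (hNy hn)) y (Subgroup.mem_zpowers y)
            rw [hs, ht, mul_assoc, hcv n (hNV hn), ← mul_assoc, hyn, mul_assoc])
        (by
          have htv : ∀ v ∈ V, ⁅t, v⁆ ∈ ⁅V, Subgroup.zpowers y⁆ := by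
            intro v hv
            have e : ⁅t, v⁆ = ⁅y, v⁆ := by
              rw [commutatorElement_def, commutatorElement_def, ht]
              have : y * c⁻¹ * v * (y * c⁻¹)⁻¹ = y * (c⁻¹ * v) * c * y⁻¹ := by group
              rw [this, hcv v hv]; group
            rw [e, Subgroup.commutator_comm]
            exact Subgroup.commutator_mem_commutator (Subgroup.mem_zpowers y) hv
          intro s hs u hu
          rcases hs with hs | hs <;> rcases hu with hu | hu
          · have : ⁅s, u⁆ = 1 := by
              rw [commutatorElement_eq_one_iff_mul_comm]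
              exact setLike_mul_comm hs hu
            rw [this]; exact Subgroup.one_mem _
          · rw [Set.mem_singleton_iff] at hu
            rw [hu, ← commutatorElement_inv]
            exact Subgroup.inv_mem _ (htv s hs)
          · rw [Set.mem_singleton_iff] at hs
            rw [hs]
            exact htv u hu
          · rw [Set.mem_singleton_iff] at hs hu
            rw [hs, hu, commutatorElement_self]; exact Subgroup.one_mem _)
      have hclos : Subgroup.closure ((V : Set G) ∪ {t}) = V ⊔ Subgroup.zpowers t := by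
        rw [Subgroup.closure_union, Subgroup.closure_eq, Subgroup.zpowers_eq_closure]
      rw [hclos] at hcl
      have hclD : cl2 (Cfsg.dStarOf (S : Subgroup G)) t := cl2_mono hDV hcl.2
      have hDt := dStarOf_centralized hPp t htP hclD
      intro d hd
      have hdc : d * c = c * d := (Subgroup.mem_centralizer_iff.mp hcV) d (hDV hd)
      rw [hy, ← mul_assoc, hDt d hd, mul_assoc, hdc, ← mul_assoc]
    -- hence x centralizes V
    have hVx : V ≤ Subgroup.centralizer ({x} : Set G) := by
      rw [hV]
      unfold Subgroup.normalClosure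
      rw [Subgroup.closure_le]
      intro a ha
      rw [Group.mem_conjugatesOfSet_iff] at ha
      obtain ⟨d, hd, hca⟩ := ha
      rw [isConj_iff] at hca
      obtain ⟨g, rfl⟩ := hca
      rw [SetLike.mem_coe, Subgroup.mem_centralizer_iff]
      intro z hz
      rw [Set.mem_singleton_iff] at hz
      rw [hz]
      have h1 := hconjx g d hd
      have e1 : x * (g * d * g⁻¹) = g * ((g⁻¹ * x * g) * d) * g⁻¹ := by group
      have e2 : g * d * g⁻¹ * x = g * (d * (g⁻¹ * x * g)) * g⁻¹ := by group
      rw [e1, e2, h1]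
    intro v hv
    have := (Subgroup.mem_centralizer_iff.mp (hVx hv)) x rfl
    exact this.symm
  have heq : Cfsg.dStarOf (S : Subgroup G) = Subgroup.normalClosure (Cfsg.dStarOf (S : Subgroup G) : Set G) :=
    le_antisymm hDV hVD
  rw [heq]
  exact hVn

end Cfsg.Agent.S3060
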