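import Mathlib
import Cfsg.Agent.Helper5.DStar
import Cfsg.Statements.S3061
-- import your own Cfsg.Agent.* helpers here

set_option autoImplicit false
open Cfsg Cfsg.Agent.Helper5

namespace Cfsg.Agent.S3061

/-- Let S be a finite p-group. Then D*(S) itself belongs to the family that generates it: D*(S) is abelian, and every x ∈ S with ⟨D*(S), x⟩ of class at most two centralizes D*(S). Hence D*(S) is the unique maximal member of that family. -/
theorem result {S : Type*} [Group S] [Finite S] {p : ℕ} [Fact p.Prime] (hS : IsPGroup p S) :
    Cfsg.dStar S ∈ Cfsg.dStarFamily S := by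
  haveI : Group.IsNilpotent S := hS.isNilpotent
  have hbc : IsMulCommutative ↥(⊥ : Subgroup S) := inferInstance
  obtain ⟨C, hCn, hCc, -, -, hCC⟩ := exists_scn_ge hS (⊤ : Subgroup S) ⊥ bot_le hbc
  have hM : Subgroup.centralizer (C : Set S) ≤ C := by
    rw [top_inf_eq] at hCC
    exact le_of_eq hCC
  haveI := hCn
  have hle := dStar_le_of_self_centralizing C hCc hM
  haveI := hCc
  exact dStar_mem_family_of_commutative (isMulCommutative_of_le hle)

end Cfsg.Agent.S3061
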