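import Mathlib
import Cfsg.Agent.Helper5.Replace2
import Cfsg.Agent.Helper5.SCN
import Cfsg.Statements.S3062
-- import your own Cfsg.Agent.* helpers here

set_option autoImplicit false
open Cfsg Cfsg.Agent.Helper5

namespace Cfsg.Agent.S3062

/-- Let S be a finite p-group, J(S) the subgroup generated by the abelian subgroups of S of largest order and Z(J(S)) its centre. Then Z(S) ≤ D*(S) ≤ Z(J(S)), and every maximal normal abelian subgroup of S contains D*(S). -/
theorem result {S : Type*} [Group S] [Finite S] {p : ℕ} [Fact p.Prime]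
    (hS : IsPGroup p S) :
    Subgroup.center S ≤ Cfsg.dStar S ∧
    Cfsg.dStar S ≤ Cfsg.thompsonSubgroupA S ⊓ Subgroup.centralizer (Cfsg.thompsonSubgroupA S : Set S) ∧
    ∀ A : Subgroup S, A.Normal → IsMulCommutative A →
      (∀ B : Subgroup S, B.Normal → IsMulCommutative B → A ≤ B → B = A) → Cfsg.dStar S ≤ A := by
  haveI : Group.IsNilpotent S := hS.isNilpotent
  have hbc : IsMulCommutative ↥(⊥ : Subgroup S) := inferInstance
  obtain ⟨C, hCn, hCc, -, -, hCC⟩ := exists_scn_ge hS (⊤ : Subgroup S) ⊥ bot_le hbc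
  have hM : Subgroup.centralizer (C : Set S) ≤ C := by
    rw [top_inf_eq] at hCC
    exact le_of_eq hCC
  haveI := hCn
  refine ⟨?_, ?_, ?_⟩
  · apply le_sSup
    refine ⟨inferInstance, ?_⟩
    intro x _ a ha
    exact (Subgroup.mem_center_iff.mp ha x).symm
  · have key := dStarFamily_le_maxAbelian C hCc hM
    obtain ⟨B₀, hB₀⟩ := exists_mem_maxAbelianSubgroups S
    have hle : ∀ B ∈ Cfsg.maxAbelianSubgroups S, Cfsg.dStar S ≤ B :=
      fun B hB => sSup_le (fun A hA => key B hB A hA)
    refine le_inf ?_ ?_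
    · exact le_trans (hle B₀ hB₀) (le_sSup hB₀)
    · rw [Subgroup.le_centralizer_iff]
      unfold Cfsg.thompsonSubgroupA
      apply sSup_le
      intro B hB b hb
      rw [Subgroup.mem_centralizer_iff]
      intro d hd
      haveI := hB.1
      exact setLike_mul_comm (hle B hB hd) hb
  · intro A hAn hAc hAmax
    obtain ⟨C', hC'n, hC'c, hAC', -, hC'C⟩ := exists_scn_ge hS (⊤ : Subgroup S) A le_top hAc
    have hCA : C' = A := hAmax C' hC'n hC'c hAC'
    rw [hCA, top_inf_eq] at hC'C
    exact dStar_le_of_self_centralizing A hAc (le_of_eq hC'C)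

end Cfsg.Agent.S3062
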