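import Mathlib
import Cfsg.Agent.Helper5.Replace
import Cfsg.Statements.S3063
-- import your own Cfsg.Agent.* helpers here

set_option autoImplicit false
open Cfsg Cfsg.Agent.Helper5
open scoped commutatorElement

namespace Cfsg.Agent.S3063

/-- A weak replacement Theorem for metabelian p-groups: let S be a finite p-group whose derived subgroup is abelian and A an abelian subgroup of S of largest possible order. Then the normal closure of A in S contains an abelian subgroup B of the same order as A that is normal in S. -/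
theorem result {S : Type*} [Group S] [Finite S] {p : ℕ} [Fact p.Prime]
    (hS : IsPGroup p S) (hmeta : IsMulCommutative ↥(commutator S))
    (A : Subgroup S) (hA : A ∈ Cfsg.maxAbelianSubgroups S) :
    ∃ B ∈ Cfsg.maxAbelianSubgroups S, B.Normal ∧ B ≤ Subgroup.normalClosure (A : Set S) := by
  classical
  haveI : Group.IsNilpotent S := hS.isNilpotent
  have hnc : NormalizerCondition S := Group.normalizerCondition_of_isNilpotent
  have hfin : {B : Subgroup S | B ∈ Cfsg.maxAbelianSubgroups S ∧ B ≤ Subgroup.normalClosure (A : Set S)}.Finite :=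
    Set.toFinite _
  obtain ⟨B, ⟨hB, hBN⟩, hBmax⟩ := Set.exists_max_image _
    (fun B : Subgroup S => Nat.card ↥(B ⊓ commutator S)) hfin ⟨A, hA, Subgroup.le_normalClosure⟩
  refine ⟨B, hB, ?_, hBN⟩
  rw [← Subgroup.normalizer_eq_top_iff]
  by_contra hne
  have hlt : Subgroup.normalizer (B : Set S) < ⊤ := lt_of_le_of_ne le_top hne
  have hlt2 := hnc _ hlt
  obtain ⟨x, hxNN, hxN⟩ := SetLike.exists_of_lt hlt2
  have h1 : B.map (MulAut.conj x).toMonoidHom ≤ Subgroup.normalizer (B : Set S) := by
    rw [map_conj_le_iff]
    intro b hb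
    exact (Subgroup.mem_normalizer_iff.mp hxNN b).mp (Subgroup.le_normalizer hb)
  have h3 : B.map (MulAut.conj x).toMonoidHom ≤ B ⊔ commutator S := by
    rw [map_conj_le_iff]
    intro b hb
    have e : x * b * x⁻¹ = ⁅x, b⁆ * b := by rw [commutatorElement_def]; group
    rw [e]
    refine Subgroup.mul_mem _ (Subgroup.mem_sup_right ?_) (Subgroup.mem_sup_left hb)
    rw [commutator_def]
    exact Subgroup.commutator_mem_commutator (Subgroup.mem_top x) (Subgroup.mem_top b)
  obtain ⟨A', hA', hlt', hA'le⟩ := replace_step hB hmeta x hxN h1 h3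
  have hA'N : A' ≤ Subgroup.normalClosure (A : Set S) := by
    refine le_trans hA'le (sup_le hBN ?_)
    rw [map_conj_le_iff]
    intro b hb
    exact Subgroup.normalClosure_normal.conj_mem b (hBN hb) x
  have h5 := hBmax A' ⟨hA', hA'N⟩
  have h6 : Nat.card ↥(B ⊓ commutator S) < Nat.card ↥(A' ⊓ commutator S) :=
    Set.Finite.card_lt_card (Set.toFinite _) (SetLike.coe_ssubset_coe.mpr hlt')
  omega

end Cfsg.Agent.S3063
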