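import Mathlib
import Cfsg.Agent.Lead.KInfG
import Cfsg.Statements.S3069
-- import your own Cfsg.Agent.* helpers here

set_option autoImplicit false
open Cfsg

namespace Cfsg.Agent.S3069

/-- Let p ≥ 7 be a prime and S a nontrivial Sylow p-subgroup of the finite group G. If N_G(S)/C_G(S) is a p-group (every element of N_G(S) of order prime to p centralizes S), then O^p(G) < G, i.e. G has a nontrivial p-factor group. -/
theorem result {G : Type*} [Group G] [Finite G] {p : ℕ} [Fact p.Prime]
    (hp : 7 ≤ p) (S : Sylow p G) (hS : (S : Subgroup G) ≠ ⊥)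
    (hN : ∀ g ∈ Subgroup.normalizer ((S : Subgroup G) : Set G), (orderOf g).Coprime p →
      g ∈ Subgroup.centralizer ((S : Subgroup G) : Set G)) :
    Cfsg.pResidual p G ≠ ⊤ := by
  obtain ⟨N, hNn, hNi⟩ := Cfsg.Agent.Lead.KInf.exists_normal_index_p (by omega : 5 ≤ p)
    Cfsg.kInfLower (Cfsg.Agent.Lead.KInf.isCharPFunctor_kInfLower p)
    (Cfsg.Agent.Lead.KInf.subDetermined_kInfLower p) S hS hN
  intro htop
  have hpp : p.Prime := Fact.out
  have hle : Cfsg.pResidual p G ≤ N := by
    unfold Cfsg.pResidual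
    rw [Subgroup.closure_le]
    intro g hg
    have hg' : Nat.Coprime (orderOf g) p := hg
    have hq : (QuotientGroup.mk g : G ⧸ N) = 1 := by
      have h1 : (QuotientGroup.mk g : G ⧸ N) ^ orderOf g = 1 := by
        rw [← QuotientGroup.mk_pow, pow_orderOf_eq_one]
        rfl
      have h2 : (QuotientGroup.mk g : G ⧸ N) ^ p = 1 := by
        have hc : Nat.card (G ⧸ N) = p := by rw [← Subgroup.index_eq_card]; exact hNi
        rw [← hc]
        exact pow_card_eq_one'
      have h3 := pow_gcd_eq_one.mpr ⟨h1, h2⟩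
      rw [Nat.Coprime] at hg'
      rwa [hg', pow_one] at h3
    exact (QuotientGroup.eq_one_iff g).mp hq
  rw [htop] at hle
  have hN1 : N = ⊤ := top_le_iff.mp hle
  rw [hN1, Subgroup.index_top] at hNi
  exact hpp.one_lt.ne hNi

end Cfsg.Agent.S3069
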