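import Mathlib
import Cfsg.Agent.Helper5.SplitSL2
import Cfsg.Statements.S3075
-- import your own Cfsg.Agent.* helpers here

set_option autoImplicit false
open Cfsg Cfsg.Agent.Helper5

namespace Cfsg.Agent.S3075

/-- Let p be an odd prime and N a finite group with a normal elementary abelian subgroup A of order p² that is its own centralizer in N, such that N/A is isomorphic to SL₂(p) (over any field F with p elements). Then N splits over A: some subgroup U of N satisfies A ∩ U = 1 and AU = N. -/
theorem result {N : Type*} [Group N] [Finite N] {p : ℕ} [Fact p.Prime] (hp : p ≠ 2)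
    (A : Subgroup N) [A.Normal] (hAcomm : IsMulCommutative A) (hAcard : Nat.card A = p ^ 2) (hAexp : Monoid.exponent ↥A = p)
    (hAself : Subgroup.centralizer (A : Set N) = A)
    {F : Type*} [Field F] [Fintype F] (hF : Fintype.card F = p) (e : N ⧸ A ≃* Matrix.SpecialLinearGroup (Fin 2) F) :
    ∃ U : Subgroup N, A ⊓ U = ⊥ ∧ A ⊔ U = ⊤ := by
  have hpP : p.Prime := Fact.out
  have h2 : (2 : F) ≠ 0 := two_ne_zero_of_card F hpP hp hF
  have hab : ∀ a ∈ A, ∀ b ∈ A, a * b = b * a := by
    intro a ha b hb
    have := hAcomm.is_comm.comm ⟨a, ha⟩ ⟨b, hb⟩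
    exact congrArg Subtype.val this
  apply exists_complement_of_central_involution hpP hp A hab hAcard hAself (e.symm (sl2NegOne F))
  · intro y
    apply e.injective
    rw [map_mul, map_mul, MulEquiv.apply_symm_apply]
    exact (sl2NegOne_comm F (e y)).symm
  · apply e.injective
    rw [map_mul, MulEquiv.apply_symm_apply, map_one]
    exact sl2NegOne_sq F
  · intro h
    apply sl2NegOne_ne_one F h2
    have := congrArg e h
    rw [MulEquiv.apply_symm_apply, map_one] at this
    exact this
  · obtain ⟨X, Y, hXY⟩ := sl2_not_commutative F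
    refine ⟨e.symm X, e.symm Y, ?_⟩
    intro h
    apply hXY
    have := congrArg e h
    simpa using this

end Cfsg.Agent.S3075
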