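import Mathlib
import Cfsg.Agent.Helper5.CentricRadical
import Cfsg.Statements.S3076
-- import your own Cfsg.Agent.* helpers here

set_option autoImplicit false
open Cfsg Cfsg.Agent.Helper5

namespace Cfsg.Agent.S3076

theorem transport {G : Type*} [Group G] (N H C P0 : Subgroup G) (hHN : H ≤ N) (hCN : C ≤ N)
    (R W : Subgroup N) {p : ℕ} :
    ((H ≤ R.map N.subtype ∧ ¬ p ∣ H.relIndex (R.map N.subtype)) ↔
      (H.subgroupOf N ≤ R ∧ ¬ p ∣ (H.subgroupOf N).relIndex R)) ∧
    ((P0 ⊓ C ≤ H ∧ W.map N.subtype = H ⊔ C) ↔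
      ((P0 ⊓ N).subgroupOf N ⊓ C.subgroupOf N ≤ H.subgroupOf N ∧
        W = H.subgroupOf N ⊔ C.subgroupOf N)) := by
  have hinj := Subgroup.subtype_injective N
  have hmapH : (H.subgroupOf N).map N.subtype = H := Subgroup.map_subgroupOf_eq_of_le hHN
  have hmapC : (C.subgroupOf N).map N.subtype = C := Subgroup.map_subgroupOf_eq_of_le hCN
  refine ⟨?_, ?_⟩
  · have e1 : H ≤ R.map N.subtype ↔ H.subgroupOf N ≤ R := by
      constructor
      · intro h x hx
        obtain ⟨y, hy, hyx⟩ := h (Subgroup.mem_subgroupOf.mp hx)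
        have : y = x := Subtype.ext hyx
        rwa [← this]
      · intro h g hg
        exact ⟨⟨g, hHN hg⟩, h (Subgroup.mem_subgroupOf.mpr hg), rfl⟩
    have e2 : H.relIndex (R.map N.subtype) = (H.subgroupOf N).relIndex R := by
      rw [← Subgroup.relIndex_map_map_of_injective _ _ hinj, hmapH]
    rw [e1, e2]
  · have e1 : P0 ⊓ C ≤ H ↔ (P0 ⊓ N).subgroupOf N ⊓ C.subgroupOf N ≤ H.subgroupOf N := by
      constructor
      · intro h x hx
        obtain ⟨hx1, hx2⟩ := Subgroup.mem_inf.mp hx
        rw [Subgroup.mem_subgroupOf] at hx1 hx2 ⊢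
        exact h (Subgroup.mem_inf.mpr ⟨(Subgroup.mem_inf.mp hx1).1, hx2⟩)
      · intro h g hg
        obtain ⟨hg1, hg2⟩ := Subgroup.mem_inf.mp hg
        have : (⟨g, hCN hg2⟩ : N) ∈ H.subgroupOf N := by
          apply h
          refine Subgroup.mem_inf.mpr ⟨?_, ?_⟩
          · rw [Subgroup.mem_subgroupOf]
            exact Subgroup.mem_inf.mpr ⟨hg1, hCN hg2⟩
          · rw [Subgroup.mem_subgroupOf]
            exact hg2
        exact Subgroup.mem_subgroupOf.mp this
    have e2 : W.map N.subtype = H ⊔ C ↔ W = H.subgroupOf N ⊔ C.subgroupOf N := by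
      have : (H.subgroupOf N ⊔ C.subgroupOf N).map N.subtype = H ⊔ C := by
        rw [Subgroup.map_sup, hmapH, hmapC]
      rw [← this]
      exact (Subgroup.map_injective hinj).eq_iff
    rw [e1, e2]

theorem centralizer_subgroupOf_normalizer {G : Type*} [Group G] (H : Subgroup G) :
    (Subgroup.centralizer (H : Set G)).subgroupOf (Subgroup.normalizer (H : Set G)) =
      Subgroup.centralizer ((H.subgroupOf (Subgroup.normalizer (H : Set G)) : Subgroup _) : Set _) := by
  ext x
  rw [Subgroup.mem_subgroupOf, Subgroup.mem_centralizer_iff, Subgroup.mem_centralizer_iff]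
  constructor
  · intro h y hy
    apply Subtype.ext
    exact h (y : G) (Subgroup.mem_subgroupOf.mp hy)
  · intro h g hg
    have := h ⟨g, Subgroup.le_normalizer hg⟩ (Subgroup.mem_subgroupOf.mpr hg)
    exact congrArg Subtype.val this

/-- Let P be a Sylow p-subgroup of the finite group G and H ≤ P a subgroup with N_P(H) a Sylow p-subgroup of N_G(H). Let N be the preimage in N_G(H) of O_p(N_G(H)/C_G(H)). Then H is a Sylow p-subgroup of N if and only if C_P(H) ≤ H and O_{p',p}(N_G(H)) = H·C_G(H). -/
theorem result {G : Type*} [Group G] [Finite G] {p : ℕ} [Fact p.Prime]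
    (P : Sylow p G) (H : Subgroup G) (hHP : H ≤ (P : Subgroup G))
    (hSyl : ¬ p ∣ ((P : Subgroup G) ⊓ Subgroup.normalizer (H : Set G)).relIndex (Subgroup.normalizer (H : Set G)))
    [hC : ((Subgroup.centralizer (H : Set G)).subgroupOf (Subgroup.normalizer (H : Set G))).Normal] :
    (H ≤ ((Cfsg.pCore p (↥(Subgroup.normalizer (H : Set G)) ⧸
              (Subgroup.centralizer (H : Set G)).subgroupOf (Subgroup.normalizer (H : Set G)))).comap
            (QuotientGroup.mk' _)).map (Subgroup.normalizer (H : Set G)).subtype ∧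
      ¬ p ∣ H.relIndex (((Cfsg.pCore p (↥(Subgroup.normalizer (H : Set G)) ⧸
              (Subgroup.centralizer (H : Set G)).subgroupOf (Subgroup.normalizer (H : Set G)))).comap
            (QuotientGroup.mk' _)).map (Subgroup.normalizer (H : Set G)).subtype)) ↔
    ((P : Subgroup G) ⊓ Subgroup.centralizer (H : Set G) ≤ H ∧
      (Cfsg.pPrimePCore p ↥(Subgroup.normalizer (H : Set G))).map (Subgroup.normalizer (H : Set G)).subtype =
        H ⊔ Subgroup.centralizer (H : Set G)) := by
  have hHN : H ≤ Subgroup.normalizer (H : Set G) := Subgroup.le_normalizer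
  have hCN : Subgroup.centralizer (H : Set G) ≤ Subgroup.normalizer (H : Set G) :=
    Subgroup.centralizer_le_normalizer _
  haveI : (H.subgroupOf (Subgroup.normalizer (H : Set G))).Normal := Subgroup.normal_in_normalizer
  have hH'p : IsPGroup p ↥(H.subgroupOf (Subgroup.normalizer (H : Set G))) :=
    (P.isPGroup'.to_le hHP).comap_subtype
  have hP'p : IsPGroup p ↥(((P : Subgroup G) ⊓ Subgroup.normalizer (H : Set G)).subgroupOf
      (Subgroup.normalizer (H : Set G))) := (P.isPGroup'.to_le inf_le_left).comap_subtype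
  have hP'i : ¬ p ∣ (((P : Subgroup G) ⊓ Subgroup.normalizer (H : Set G)).subgroupOf
      (Subgroup.normalizer (H : Set G))).index := hSyl
  obtain ⟨t1, t2⟩ := transport (Subgroup.normalizer (H : Set G)) H (Subgroup.centralizer (H : Set G))
    (P : Subgroup G) hHN hCN
    ((Cfsg.pCore p (↥(Subgroup.normalizer (H : Set G)) ⧸
              (Subgroup.centralizer (H : Set G)).subgroupOf (Subgroup.normalizer (H : Set G)))).comap
            (QuotientGroup.mk' _))
    (Cfsg.pPrimePCore p ↥(Subgroup.normalizer (H : Set G))) (p := p)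
  rw [t1, t2]
  exact sylow_comap_pCore_iff (hP'p.toSylow hP'i) _ _ hH'p (centralizer_subgroupOf_normalizer H)

end Cfsg.Agent.S3076
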