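import Mathlib
import Cfsg.Agent.Lead.GlaubRepl2
import Cfsg.Statements.S3078
-- import your own Cfsg.Agent.* helpers here

set_option autoImplicit false
open Cfsg

namespace Cfsg.Agent.S3078

variable {S : Type*} [Group S]

/-- the `p`-torsion of an abelian subgroup -/
def pTors (X : Subgroup S) (hX : ∀ x ∈ X, ∀ y ∈ X, x * y = y * x) (q : ℕ) : Subgroup S where
  carrier := {x | x ∈ X ∧ x ^ q = 1}
  mul_mem' := by
    rintro a b ⟨ha, ha'⟩ ⟨hb, hb'⟩
    refine ⟨X.mul_mem ha hb, ?_⟩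
    have hc : Commute a b := hX a ha b hb
    show (a * b) ^ q = 1
    rw [hc.mul_pow, ha', hb', one_mul]
  one_mem' := ⟨X.one_mem, one_pow q⟩
  inv_mem' := by
    rintro a ⟨ha, ha'⟩
    exact ⟨X.inv_mem ha, by show a⁻¹ ^ q = 1; rw [inv_pow, ha', inv_one]⟩

theorem mem_pTors {X : Subgroup S} {hX : ∀ x ∈ X, ∀ y ∈ X, x * y = y * x} {q : ℕ} {x : S} :
    x ∈ pTors X hX q ↔ x ∈ X ∧ x ^ q = 1 := Iff.rfl

theorem omegaOne_eq_pTors (X : Subgroup S) (hX : ∀ x ∈ X, ∀ y ∈ X, x * y = y * x) (q : ℕ) :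
    Cfsg.omegaOne q X = pTors X hX q := by
  unfold Cfsg.omegaOne
  exact Subgroup.closure_eq (pTors X hX q)

theorem card_eq_card_mul_relIndex' {H K : Subgroup S} (h : H ≤ K) :
    Nat.card K = Nat.card H * H.relIndex K := by
  have h1 : Nat.card ↥(H.subgroupOf K) * (H.subgroupOf K).index = Nat.card ↥K :=
    Subgroup.card_mul_index _
  have h2 : Nat.card ↥(H.subgroupOf K) = Nat.card H :=
    Nat.card_congr (Subgroup.subgroupOfEquivOfLe h).toEquiv
  rw [← h1, h2]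
  rfl

/-- fibre counting between two subgroups sharing a common subgroup -/
theorem card_le_of_coset_map [Finite S] (F E K₀ : Subgroup S) (hKE : K₀ ≤ E) (φ : S → S)
    (hφ : ∀ a ∈ F, φ a ∈ E)
    (hinj : ∀ a ∈ F, ∀ a' ∈ F, (φ a)⁻¹ * φ a' ∈ K₀ → a⁻¹ * a' ∈ K₀) (hKF : K₀ ≤ F) :
    Nat.card F ≤ Nat.card E := by
  rw [card_eq_card_mul_relIndex' hKF, card_eq_card_mul_relIndex' hKE]
  apply Nat.mul_le_mul_left
  show Nat.card (↥F ⧸ K₀.subgroupOf F) ≤ Nat.card (↥E ⧸ K₀.subgroupOf E)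
  let f : (↥F ⧸ K₀.subgroupOf F) → (↥E ⧸ K₀.subgroupOf E) :=
    fun q => QuotientGroup.mk ⟨φ (q.out : S), hφ _ (q.out).2⟩
  apply Nat.card_le_card_of_injective f
  intro q q' hqq
  have h1 : (⟨φ (q.out : S), hφ _ (q.out).2⟩ : ↥E)⁻¹ * ⟨φ (q'.out : S), hφ _ (q'.out).2⟩ ∈
      K₀.subgroupOf E := QuotientGroup.eq.mp hqq
  rw [Subgroup.mem_subgroupOf] at h1
  have h2 : ((q.out : ↥F) : S)⁻¹ * ((q'.out : ↥F) : S) ∈ K₀ :=
    hinj _ (q.out).2 _ (q'.out).2 (by simpa using h1)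
  have h3 : (q.out)⁻¹ * q'.out ∈ K₀.subgroupOf F := by
    rw [Subgroup.mem_subgroupOf]; simpa using h2
  have h4 : (QuotientGroup.mk q.out : ↥F ⧸ K₀.subgroupOf F) = QuotientGroup.mk q'.out :=
    QuotientGroup.eq.mpr h3
  rw [QuotientGroup.out_eq', QuotientGroup.out_eq'] at h4
  exact h4

open Cfsg.Agent.Lead.GR Cfsg.Agent.Lead.Alp

section hyp
variable {A B : Subgroup S} {b : S} (h : Hyp A B b)
include h

theorem cc_pow_eq_one {e : ℕ} (he : Odd e) {a : S} (ha : a ∈ A) (hae : a ^ e = 1) :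
    (cc b a) ^ e = 1 := by
  have hv : b⁻¹ * a⁻¹ * b ∈ cj b A := h.conj_mem_cj (A.inv_mem ha)
  have hz := h.comm_mem_K' ha hv
  rw [cc_eq]
  apply pow_eq_one_of_class_two he hae
  · have e2 : b⁻¹ * a⁻¹ * b = b⁻¹ * a⁻¹ * b⁻¹⁻¹ := by rw [inv_inv]
    rw [e2, conj_pow, inv_pow, hae]
    group
  · exact h.K_comm_A hz ha
  · exact h.K_comm_cj hz hv

theorem mem_K_of_cc_mem_K {x : S} (hx : x ∈ A) (hc : cc b x ∈ A ⊓ cj b A) : x ∈ A ⊓ cj b A := by
  refine Subgroup.mem_inf.mpr ⟨hx, ?_⟩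
  have hv : b⁻¹ * x⁻¹ * b ∈ cj b A := h.conj_mem_cj (A.inv_mem hx)
  have h1 := (Subgroup.mem_inf.mp hc).2
  rw [cc_eq] at h1
  have h2 := mul_mem h1 (inv_mem hv)
  rwa [mul_inv_cancel_right] at h2

theorem cc_mem_K {x : S} (hx : x ∈ A ⊓ cj b A) : cc b x ∈ A ⊓ cj b A := by
  rw [cc_eq]
  exact mul_mem hx (h.K_conj (inv_mem hx))

theorem cc_inv_mul {a a' : S} (ha : a ∈ A) (ha' : a' ∈ A) :
    ∃ k ∈ A ⊓ cj b A, (cc b a)⁻¹ * cc b a' = k * cc b (a⁻¹ * a') := by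
  have h1 := h.cc_mul ha (A.inv_mem ha)
  rw [mul_inv_cancel, cc_one, mul_one] at h1
  have h2 := h.cc_mul (A.inv_mem ha) ha'
  have hz1 := h.zz_mem_K ha (A.inv_mem ha)
  have hz2 := h.zz_mem_K (A.inv_mem ha) ha'
  refine ⟨(zz b a a⁻¹)⁻¹ * zz b a⁻¹ a', mul_mem (inv_mem hz1) hz2, ?_⟩
  have h3 : (cc b a)⁻¹ = cc b a⁻¹ * (zz b a a⁻¹)⁻¹ := by
    rw [← h1]; group
  have h4 := h.K_comm_cc (inv_mem hz1) (A.inv_mem ha)
  rw [h3, ← h4, mul_assoc, h2, ← mul_assoc]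

end hyp

theorem card_pTors_le [Finite S] {A B : Subgroup S} {b : S} (h : Hyp A B b)
    (hc : ∀ a ∈ A, ∀ a' ∈ A, b * zz b a a' = zz b a a' * b) {q : ℕ} (hq : Odd q) :
    Nat.card (pTors A h.comm q) ≤
      Nat.card (pTors (repl A b) (fun x hx y hy => h.repl_comm hc hx hy) q) := by
  have hKc : ∀ x ∈ A ⊓ cj b A, ∀ y ∈ A ⊓ cj b A, x * y = y * x :=
    fun x hx y hy => h.comm x (Subgroup.mem_inf.mp hx).1 y (Subgroup.mem_inf.mp hy).1
  apply card_le_of_coset_map _ _ (pTors (A ⊓ cj b A) hKc q) ?_ (cc b) ?_ ?_ ?_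
  · rintro x ⟨hx, hxq⟩
    exact ⟨Hyp.K_le_repl hx, hxq⟩
  · rintro a ⟨ha, haq⟩
    exact ⟨Hyp.cc_mem_repl ha, cc_pow_eq_one h hq ha haq⟩
  · rintro a ⟨ha, haq⟩ a' ⟨ha', haq'⟩ ⟨hk, _⟩
    obtain ⟨k, hkK, hk2⟩ := cc_inv_mul h ha ha'
    rw [hk2] at hk
    have h1 : cc b (a⁻¹ * a') ∈ A ⊓ cj b A := by
      have := mul_mem (inv_mem hkK) hk
      rwa [inv_mul_cancel_left] at this
    refine ⟨mem_K_of_cc_mem_K h (mul_mem (A.inv_mem ha) ha') h1, ?_⟩
    have hcomm : Commute a⁻¹ a' := h.comm _ (A.inv_mem ha) _ ha'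
    rw [hcomm.mul_pow, inv_pow, haq, haq', inv_one, one_mul]
  · rintro x ⟨hx, hxq⟩
    exact ⟨(Subgroup.mem_inf.mp hx).1, hxq⟩

/-- the choice of `b`, as in `Lead.GR.exists_repl` -/
theorem exists_hyp {G : Type*} [Group G] [Finite G] {p : ℕ} [Fact p.Prime] (hp2 : p ≠ 2)
    {P B A : Subgroup G} (hP : IsPGroup p P) (hBP : B ≤ P)
    (hPB : P ≤ Subgroup.normalizer (B : Set G))
    (hAP : A ≤ P) (hA : ∀ x ∈ A, ∀ y ∈ A, x * y = y * x) (hBA : ⁅B, B⁆ ≤ A)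
    (hnot : ¬ B ≤ Subgroup.normalizer (A : Set G)) :
    ∃ b ∈ B, Hyp A B b ∧ b ∉ Subgroup.normalizer (A : Set G) ∧
      ∀ a ∈ A, ∀ a' ∈ A, b * zz b a a' = zz b a a' * b := by
  have hp : p.Prime := Fact.out
  obtain ⟨N₁, hN₁⟩ : ∃ N₁ : Subgroup G, N₁ = P ⊓ Subgroup.normalizer (A : Set G) := ⟨_, rfl⟩
  have hN₁P : N₁ ≤ P := hN₁ ▸ inf_le_left
  have hN₁A : N₁ ≤ Subgroup.normalizer (A : Set G) := hN₁ ▸ inf_le_right
  have hAN₁ : A ≤ N₁ := hN₁ ▸ le_inf hAP Subgroup.le_normalizer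
  have hN₁B : N₁ ≤ Subgroup.normalizer (B : Set G) := hN₁P.trans hPB
  have hMP : B ⊔ N₁ ≤ P := sup_le hBP hN₁P
  have hM : IsPGroup p (B ⊔ N₁ : Subgroup G) := hP.to_le hMP
  have hne : N₁ ≠ B ⊔ N₁ := by
    intro heq
    apply hnot
    have : B ≤ N₁ := by rw [heq]; exact le_sup_left
    exact this.trans hN₁A
  have hlt := Cfsg.Agent.Lead.Alp.card_lt_inf_normalizer hM (le_sup_right : N₁ ≤ B ⊔ N₁) hne
  obtain ⟨x, hx, hxN⟩ : ∃ x ∈ (B ⊔ N₁) ⊓ Subgroup.normalizer (N₁ : Set G), x ∉ N₁ := by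
    by_contra hcon
    push Not at hcon
    have hle : (B ⊔ N₁) ⊓ Subgroup.normalizer (N₁ : Set G) ≤ N₁ := hcon
    exact absurd (Subgroup.card_le_of_le hle) (not_le.mpr hlt)
  obtain ⟨hxM, hxN'⟩ := Subgroup.mem_inf.mp hx
  obtain ⟨b, hb, n, hn, rfl⟩ := Cfsg.Agent.Helper1.mem_sup_of_le_normalizer hN₁B hxM
  have hbN : b ∈ Subgroup.normalizer (N₁ : Set G) := by
    have := mul_mem hxN' (inv_mem (Subgroup.le_normalizer hn))
    rwa [mul_inv_cancel_right] at this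
  have hbN₁ : b ∉ N₁ := fun hcon => hxN (mul_mem hcon hn)
  have hbP : b ∈ P := hBP hb
  have hbA : b ∉ Subgroup.normalizer (A : Set G) := by
    intro hcon
    apply hbN₁
    rw [hN₁]
    exact Subgroup.mem_inf.mpr ⟨hbP, hcon⟩
  have h : Hyp A B b :=
    { comm := hA
      normal := hAP.trans hPB
      le := hBA
      mem := hb
      norm1 := by
        intro y hy
        rw [mem_cj] at hy
        exact hN₁A (((Subgroup.mem_normalizer_iff.mp hbN) y).mpr (hAN₁ hy))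
      norm2 := by
        intro a ha
        rw [normalizer_cj, mem_cj]
        exact hN₁A (((Subgroup.mem_normalizer_iff.mp hbN) a).mp (hAN₁ ha)) }
  refine ⟨b, hb, h, hbA, ?_⟩
  intro a ha a' ha'
  obtain ⟨k, hk⟩ := hP ⟨b, hbP⟩
  have hk' : b ^ p ^ k = 1 := by
    have := congrArg Subtype.val hk
    simpa using this
  exact h.comm_zz_of_odd (odd_of_dvd_prime_pow hp hp2 (orderOf_dvd_of_pow_eq_one hk')) ha ha'

/-- A replacement Theorem for abelian subgroups of p-groups, p odd. Let G be a finite p-group with p odd, A an abelian subgroup of G, and B a subgroup of nilpotency class at most 2 with [B, B] ≤ A, such that A normalizes B but B does not normalize A. Then there is an abelian subgroup A* of G of the same order as A with A ∩ B strictly contained in A* ∩ B, A* contained in N_G(A) and in the normal closure of A, the exponent of A* dividing the exponent of A, and with the subgroup generated by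 the elements of order dividing p in A of order at most that of the corresponding subgroup of A* (the rank of A is at most the rank of A*). -/
theorem result {G : Type*} [Group G] [Finite G] {p : ℕ} [Fact p.Prime] (hp : p ≠ 2) (hG : IsPGroup p G) (A B : Subgroup G) (hA : IsMulCommutative A) (hB2 : ⁅⁅B, B⁆, B⁆ = ⊥) (hBA : ⁅B, B⁆ ≤ A) (hAB : A ≤ Subgroup.normalizer (B : Set G)) (hBnA : ¬ B ≤ Subgroup.normalizer (A : Set G)) : ∃ Astar : Subgroup G, IsMulCommutative Astar ∧ Nat.card Astar = Nat.card A ∧ A ⊓ B < Astar ⊓ B ∧ Astar ≤ Subgroup.normalizer (A : Set G) ∧ Astar ≤ Subgroup.normalClosure (A : Set G) ∧ Monoid.exponent Astar ∣ Monoid.exponent A ∧ Nat.card (Cfsg.omegaOne p A) ≤ Nat.card (Cfsg.omegaOne p Astar) := by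
  have hpodd : Odd p := (Fact.out : p.Prime).eq_two_or_odd'.resolve_left hp
  have hAc : ∀ x ∈ A, ∀ y ∈ A, x * y = y * x := fun x hx y hy =>
    congrArg Subtype.val (hA.is_comm.comm ⟨x, hx⟩ ⟨y, hy⟩)
  have hP : IsPGroup p ↥(A ⊔ B) := hG.to_subgroup _
  obtain ⟨b, hb, h, hbA, hc⟩ := exists_hyp hp hP (le_sup_right : B ≤ A ⊔ B)
    (sup_le hAB Subgroup.le_normalizer) le_sup_left hAc hBA hBnA
  have hcomm : ∀ x ∈ repl A b, ∀ y ∈ repl A b, x * y = y * x :=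
    fun x hx y hy => h.repl_comm hc hx hy
  refine ⟨repl A b, ⟨⟨fun x y => Subtype.ext (hcomm x x.2 y y.2)⟩⟩, h.card_repl, h.inf_B_lt hbA,
    h.repl_le_normalizer, ?_, ?_, ?_⟩
  · have h1 : repl A b ≤ A ⊔ cj b A := by rw [← h.sup_repl]; exact le_sup_right
    refine h1.trans (sup_le Subgroup.le_normalClosure ?_)
    intro y hy
    rw [mem_cj] at hy
    have h2 : b * y * b⁻¹ ∈ Subgroup.normalClosure (A : Set G) := Subgroup.le_normalClosure hy
    have h3 := (Subgroup.normalClosure_normal (s := (A : Set G))).conj_mem _ h2 b⁻¹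
    have e : b⁻¹ * (b * y * b⁻¹) * b⁻¹⁻¹ = y := by group
    rwa [e] at h3
  · have hodd : Odd (Monoid.exponent A) := by
      obtain ⟨n, hn⟩ := (IsPGroup.iff_card.mp (hG.to_subgroup A))
      apply odd_of_dvd_prime_pow Fact.out hp (k := n)
      rw [← hn]
      exact Group.exponent_dvd_nat_card
    apply Monoid.exponent_dvd_of_forall_pow_eq_one
    intro g
    apply Subtype.ext
    rw [Subgroup.coe_pow, Subgroup.coe_one]
    apply h.pow_eq_one_of_mem_repl hodd _ g.2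
    intro a ha
    have := Monoid.pow_exponent_eq_one (⟨a, ha⟩ : A)
    have h2 := congrArg Subtype.val this
    simpa using h2
  · rw [omegaOne_eq_pTors A h.comm p, omegaOne_eq_pTors (repl A b) hcomm p]
    exact card_pTors_le h hc hpodd

end Cfsg.Agent.S3078
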