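import Cfsg.Statements.S3084
import Cfsg.Agent.Lead.ExtSpA
import Cfsg.Agent.Lead.ExtSpE

set_option autoImplicit false
open Cfsg

namespace Cfsg.Agent.S3084

open Cfsg.Agent.Lead.ExtSp Cfsg.Agent.Helper3

theorem heis_inClass (n : ℕ) : Extra.InClass 2 (Heis n 2) where
  card_center := Heis.card_center
  comm_mem x y := by
    rw [Heis.mem_center_iff, commutatorElement_def]
    constructor
    · simp
    · simp
  pow_mem x := by
    rw [pow_two, Heis.mem_center_iff]
    exact ⟨wn_add_self _, wn_add_self _⟩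

theorem heis_mul_self_eq_one_iff {n : ℕ} (x : Heis n 2) : x * x = 1 ↔ x.a ⬝ᵥ x.b = 0 := by
  constructor
  · intro h
    have := congrArg Heis.c h
    simp only [Heis.mul_c, Heis.one_c] at this
    rwa [CharTwo.add_self_eq_zero, zero_add] at this
  · intro h
    ext
    · simp only [Heis.mul_a, Heis.one_a]; exact congrFun (wn_add_self _) _
    · simp only [Heis.mul_b, Heis.one_b]; exact congrFun (wn_add_self _) _
    · simp only [Heis.mul_c, Heis.one_c]
      rw [CharTwo.add_self_eq_zero, zero_add, h]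

theorem mulEquiv_mem_center_iff {G H : Type*} [Group G] [Group H] (e : G ≃* H) (x : G) :
    e x ∈ Subgroup.center H ↔ x ∈ Subgroup.center G := by
  simp only [Subgroup.mem_center_iff]
  constructor
  · intro h g
    apply e.injective
    rw [map_mul, map_mul]
    exact h (e g)
  · intro h g
    obtain ⟨g', rfl⟩ := e.surjective g
    rw [← map_mul, ← map_mul, h g']

/-- Let K be a group acting faithfully and linearly on a finite-dimensional vector space U of dimension 2n ≥ 2 over the field with two elements, preserving a quadratic form q whose polar bilinear form is non-degenerate and which vanishes on some n-dimensional subspace (a non-singular form of plus type). Then there is a finite group R with a normal extraspecial 2-subgroup Q of order 2^(2n+1), an isomorphism of R/Q with K, and a surjective homomorphism χ from Q onto (the additive group of) U with kernel the centre of Q, such that χ carries conjugation by any r in R to the action of the image of r in K, and an element a of Q squares to the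 identity exactly when q vanishes at χ(a). -/
theorem result {K : Type*} [Group K] {U : Type*} [AddCommGroup U] [Module (ZMod 2) U] [Module.Finite (ZMod 2) U] (n : ℕ) (hn1 : 1 ≤ n) (hn : Module.finrank (ZMod 2) U = 2 * n) (ρ : Representation (ZMod 2) K U) (hρ : Function.Injective ρ) (q : QuadraticForm (ZMod 2) U) (hq : ∀ (k : K) (u : U), q (ρ k u) = q u) (hnd : (QuadraticMap.polarBilin q).Nondegenerate) (hplus : ∃ W : Submodule (ZMod 2) U, Module.finrank (ZMod 2) ↥W = n ∧ ∀ w ∈ W, q w = 0) : ∃ (R : Type) (_ : Group R) (_ : Finite R) (Q : Subgroup R) (hN : Q.Normal) (e : R ⧸ Q ≃* K) (χ : ↥Q →* Multiplicative U), Cfsg.IsExtraspecial 2 ↥Q ∧ Nat.card ↥Q = 2 ^ (2 * n + 1) ∧ Function.Surjective χ ∧ χ.ker = Subgroup.center ↥Q ∧ (∀ (r : R) (a : ↥Q), χ ⟨r * a * r⁻¹, hN.conj_mem (a : R) a.2 r⟩ = Multiplicative.ofAdd (ρ (e (r : R ⧸ Q)) (Multiplicative.toAdd (χ a)))) ∧ ∀ a : ↥Q, a * a = 1 ↔ q (Multiplicative.toAdd (χ a)) = 0 := by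
  classical
  obtain ⟨W, hW, hWq⟩ := hplus
  obtain ⟨ψ, hψ⟩ := exists_hyp_coords n hn q hnd W hW hWq
  have hq0 : ∀ (k : K) (u : Wn n × Wn n), q0 (actK ρ ψ k u) = q0 u := by
    intro k u
    rw [actK_apply]
    unfold q0
    rw [← hψ, hq, hψ, LinearEquiv.apply_symm_apply]
  have hsurj := phi_surjective ρ ψ hρ hq0
  have hfinGL : Finite (GLn n) := inferInstance
  let πU : Heis n 2 →* Multiplicative U :=
    { toFun := fun x => Multiplicative.ofAdd (ψ.symm (piH x))
      map_one' := by rw [piH_one, map_zero]; rfl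
      map_mul' := fun x y => by rw [piH_mul, map_add]; rfl }
  have hπU : ∀ x, πU x = Multiplicative.ofAdd (ψ.symm (piH x)) := fun x => rfl
  let ι := iotaEquiv ρ ψ hρ
  let χ : (phi ρ ψ hρ).ker →* Multiplicative U := πU.comp ι.symm.toMonoidHom
  have hχ : ∀ x : Heis n 2, χ (ι x) = Multiplicative.ofAdd (ψ.symm (piH x)) := by
    intro x
    change πU (ι.symm (ι x)) = _
    rw [MulEquiv.symm_apply_apply]
    exact hπU x
  have hfinQ : Finite (phi ρ ψ hρ).ker := inferInstance
  have hcardQ : Nat.card (phi ρ ψ hρ).ker = 2 ^ (2 * n + 1) := by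
    rw [← Nat.card_congr ι.toEquiv, Heis.card, add_comm]
  have : Fact (Nat.Prime 2) := ⟨Nat.prime_two⟩
  refine ⟨↥(RSub ρ ψ), inferInstance, inferInstance, (phi ρ ψ hρ).ker, inferInstance,
    QuotientGroup.quotientKerEquivOfSurjective (phi ρ ψ hρ) hsurj, χ, ?_, hcardQ, ?_, ?_, ?_, ?_⟩
  · -- extraspecial
    apply (Extra.InClass.of_mulEquiv ι (heis_inClass n)).isExtraspecial
    rw [hcardQ]
    calc 2 = 2 ^ 1 := (pow_one 2).symm
      _ < 2 ^ (2 * n + 1) := Nat.pow_lt_pow_right (by norm_num) (by omega)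
  · -- surjective
    intro m
    refine ⟨ι (lift0 (ψ (Multiplicative.toAdd m))), ?_⟩
    rw [hχ, piH_lift0, LinearEquiv.symm_apply_apply]
    rfl
  · -- kernel
    ext t
    obtain ⟨x, rfl⟩ := ι.surjective t
    rw [MonoidHom.mem_ker, hχ, mulEquiv_mem_center_iff, Heis.mem_center_iff]
    constructor
    · intro h
      have h1 : ψ.symm (piH x) = 0 := Multiplicative.ofAdd.injective h
      have h2 : piH x = 0 := by
        have := congrArg ψ h1
        rwa [LinearEquiv.apply_symm_apply, map_zero] at this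
      exact ⟨congrArg Prod.fst h2, congrArg Prod.snd h2⟩
    · rintro ⟨ha, hb⟩
      have : piH x = 0 := by rw [piH, ha, hb]; rfl
      rw [this, map_zero]; rfl
  · -- equivariance
    intro r a
    obtain ⟨x, rfl⟩ := ι.surjective a
    obtain ⟨x', hx', hp⟩ := phi_spec ρ ψ hρ r x
    have e1 : (⟨r * ((ι x : (phi ρ ψ hρ).ker) : RSub ρ ψ) * r⁻¹,
        (inferInstance : ((phi ρ ψ hρ).ker).Normal).conj_mem _ (ι x).2 r⟩ : (phi ρ ψ hρ).ker)
        = ι x' := by
      apply Subtype.ext; apply Subtype.ext
      change (r : GLn n) * rhoU x * (r : GLn n)⁻¹ = rhoU x'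
      exact hx'
    rw [e1, hχ, hχ, hp, actK_apply, LinearEquiv.symm_apply_apply]
    rfl
  · -- squares
    intro a
    obtain ⟨x, rfl⟩ := ι.surjective a
    rw [hχ, ← map_mul, ← map_one ι, ι.injective.eq_iff, heis_mul_self_eq_one_iff]
    change _ ↔ q (ψ.symm (piH x)) = 0
    rw [hψ, LinearEquiv.apply_symm_apply]
    rfl

end Cfsg.Agent.S3084
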