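import Cfsg.Statements.S3085
import Cfsg.Agent.Helper5.ExSp.Main

set_option autoImplicit false
open Cfsg

namespace Cfsg.Agent.S3085

open scoped commutatorElement in
theorem exists_ES {Q : Type*} [Group Q] (hQ : Cfsg.IsExtraspecial 2 Q) :
    ∃ z : Q, Cfsg.Agent.Helper5.ExSp.ES z := by
  obtain ⟨⟨-, -, hcomm⟩, hcard⟩ := hQ
  obtain ⟨ζ, hζ1, hζu⟩ := (Nat.card_eq_two_iff' (1 : Subgroup.center Q)).1 hcard
  have hcen : ∀ x : Q, (∀ g : Q, g * x = x * g) → x = 1 ∨ x = (ζ : Q) := by
    intro x hx
    have hxm : x ∈ Subgroup.center Q := Subgroup.mem_center_iff.2 hx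
    by_cases h1 : (⟨x, hxm⟩ : Subgroup.center Q) = 1
    · left
      exact congrArg Subtype.val h1
    · right
      exact congrArg Subtype.val (hζu ⟨x, hxm⟩ h1)
  have hz1 : (ζ : Q) ≠ 1 := fun hh => hζ1 (Subtype.ext hh)
  refine ⟨(ζ : Q), ?_, ?_, hz1, hcen, ?_, hcard⟩
  · exact Subgroup.mem_center_iff.1 ζ.2
  · have hm : (ζ : Q) * ζ ∈ Subgroup.center Q := (Subgroup.center Q).mul_mem ζ.2 ζ.2
    rcases hcen _ (Subgroup.mem_center_iff.1 hm) with h1 | h1
    · exact h1
    · exfalso
      exact hz1 (mul_eq_left.1 h1)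
  · intro x y
    have : ⁅x, y⁆ ∈ commutator Q := by
      rw [commutator_def]
      exact Subgroup.commutator_mem_commutator (Subgroup.mem_top x) (Subgroup.mem_top y)
    rw [hcomm] at this
    exact Subgroup.mem_center_iff.1 this

/-- Let Q be an extraspecial 2-group of order 2^(2n+1) with n ≥ 3 that is of plus type (it contains an elementary abelian subgroup of order 2^(n+1)). Then the group of inner automorphisms of Q has no complement in the full automorphism group of Q: the extension of the inner automorphism group (elementary abelian of order 2^(2n)) by the outer automorphism group (the orthogonal group of plus type) does not split. -/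
theorem result {Q : Type*} [Group Q] [Finite Q] (n : ℕ) (hn : 3 ≤ n) (hQ : Cfsg.IsExtraspecial 2 Q) (hcard : Nat.card Q = 2 ^ (2 * n + 1)) (hplus : ∃ E : Subgroup Q, Cfsg.IsElementaryAbelian 2 E ∧ Nat.card ↥E = 2 ^ (n + 1)) (L : Subgroup (MulAut Q)) : ¬ (Cfsg.Inn Q).IsComplement' L := by
  obtain ⟨z, hz⟩ := exists_ES hQ
  have h128 : 128 ≤ Nat.card Q := by
    rw [hcard]
    calc 128 = 2 ^ 7 := by norm_num
      _ ≤ 2 ^ (2 * n + 1) := Nat.pow_le_pow_right (by norm_num) (by omega)
  exact hz.no_complement h128 L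

end Cfsg.Agent.S3085
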