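import Mathlib
import Cfsg.Statements.S3103
import Cfsg.Agent.Helper2.FratActB
import Cfsg.Agent.Helper2.ElemAbGL
import Cfsg.Agent.Helper2.GL42A8

set_option autoImplicit false
open Cfsg

namespace Cfsg.Agent.S3103

open Cfsg.Agent.Helper2

open scoped commutatorElement

/-- Let X be a finite 2-constrained group with no nontrivial normal subgroup of odd order such that O₂(X) has sectional 2-rank at most 4. Then X/O₂(X) is isomorphic to a subgroup of the alternating group of degree 8. -/
theorem result {X : Type*} [Group X] [Finite X] (hc : Cfsg.IsPConstrained 2 X) (hO : Cfsg.oddCore X = ⊥)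
    (h4 : Cfsg.SectionalPRankLE 2 4 ↥(Cfsg.pCore 2 X)) :
    ∃ f : X ⧸ Cfsg.pCore 2 X →* ↥(alternatingGroup (Fin 8)), Function.Injective f := by
  have : Fact (Nat.Prime 2) := ⟨Nat.prime_two⟩
  have hchar := FratAct.hasCharP_of_isPConstrained hc hO
  obtain ⟨f1, hf1⟩ := FratAct.exists_injective hchar
  have hQ : IsPGroup 2 ↥(Cfsg.pCore 2 X) := Cfsg.Agent.Helper5.isPGroup_pCore 2
  have hidx := FratAct.index_frattini_le hQ h4
  have hcomm : ∀ a b : ↥(Cfsg.pCore 2 X) ⧸ frattini ↥(Cfsg.pCore 2 X), a * b = b * a := by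
    intro a b
    induction a using QuotientGroup.induction_on with
    | H x =>
    induction b using QuotientGroup.induction_on with
    | H y =>
    rw [← QuotientGroup.mk_mul, ← QuotientGroup.mk_mul, QuotientGroup.eq]
    apply Cfsg.Agent.Helper1.IsPGroup.commutator_le_frattini hQ
    have : (x * y)⁻¹ * (y * x) = ⁅y⁻¹, x⁻¹⁆ := by
      rw [commutatorElement_def]
      group
    rw [this, commutator_def]
    exact Subgroup.commutator_mem_commutator (Subgroup.mem_top _) (Subgroup.mem_top _)
  have hexp : ∀ a : ↥(Cfsg.pCore 2 X) ⧸ frattini ↥(Cfsg.pCore 2 X), a ^ 2 = 1 := by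
    intro a
    induction a using QuotientGroup.induction_on with
    | H x =>
    rw [← QuotientGroup.mk_pow, QuotientGroup.eq_one_iff]
    exact Cfsg.Agent.Helper1.IsPGroup.pow_mem_frattini hQ _
  obtain ⟨f2, hf2⟩ := ElemAbGL.exists_inj_of_card_le
    (↥(Cfsg.pCore 2 X) ⧸ frattini ↥(Cfsg.pCore 2 X)) hcomm hexp
    (by rw [← Subgroup.index_eq_card]; simpa using hidx)
  obtain ⟨f3, hf3⟩ := GL42A8.exists_inj
  exact ⟨f3.comp (f2.comp f1), hf3.comp (hf2.comp hf1)⟩

end Cfsg.Agent.S3103
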