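import Mathlib
import Cfsg.Statements.S3116
import Cfsg.Agent.Helper2.QD3

set_option autoImplicit false
open Cfsg

namespace Cfsg.Agent.S3116

open Cfsg.Agent.Helper2

/-- The automorphism group of a dihedral 2-group of order at least 8, or of a quasi-dihedral (semidihedral) 2-group of order at least 16, is a 2-group. -/
theorem result {X : Type*} [Group X] [Finite X] (h2 : IsPGroup 2 X)
    (h : (∃ n : ℕ, 4 ≤ n ∧ Nonempty (X ≃* DihedralGroup n)) ∨ Cfsg.IsQuasiDihedral X) : IsPGroup 2 (MulAut X) := by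
    rcases h with ⟨n, hn4, ⟨e⟩⟩ | hq
    · -- dihedral case
      obtain ⟨k, hk⟩ := IsPGroup.iff_card.mp h2
      have hcard : Nat.card X = 2 * n := by
        rw [Nat.card_congr e.toEquiv, DihedralGroup.nat_card]
      rw [hcard] at hk
      have hk1 : 1 ≤ k := by
        rcases Nat.eq_zero_or_pos k with h0 | h0
        · rw [h0] at hk; omega
        · exact h0
      obtain ⟨j, rfl⟩ : ∃ j, k = j + 1 := ⟨k - 1, by omega⟩
      have hnj : n = 2 ^ j := by
        rw [pow_succ] at hk; omega
      subst hnj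
      have hj2 : 2 ≤ j := by
        by_contra hlt
        push Not at hlt
        interval_cases j <;> omega
      haveI : NeZero (2 ^ j) := ⟨by positivity⟩
      have hD : IsPGroup 2 (MulAut (DihedralGroup (2 ^ j))) :=
        Cfsg.Agent.Lead.isPGroup_two_mulAut_of_odd_trivial
          (Cfsg.Agent.Lead.dihedral_aut_odd_trivial j hj2)
      exact hD.of_equiv (MulAut.congr e).symm
    · -- quasi-dihedral case
      obtain ⟨d⟩ := QD.exists_dat hq
      apply Cfsg.Agent.Lead.isPGroup_two_mulAut_of_odd_trivial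
      apply QD.aut_odd_trivial d.x d.y d.n d.hx d.hidx d.hy d.hyy
      intro α
      rcases d.nf (α d.x) with ⟨i, hi⟩ | ⟨i, hi⟩
      · rw [hi]; exact QD.X_mem d.x _ d.hx i
      · exfalso
        have ho : orderOf (α d.x) = 2 ^ d.n := by rw [MulEquiv.orderOf_eq, d.hx]
        have h4 : (α d.x) ^ 4 = 1 := by
          rw [hi]
          have e1 : (QD.X d.x (2 ^ d.n) i * d.y) ^ 4 =
              ((QD.X d.x (2 ^ d.n) i * d.y) * (QD.X d.x (2 ^ d.n) i * d.y)) *
              ((QD.X d.x (2 ^ d.n) i * d.y) * (QD.X d.x (2 ^ d.n) i * d.y)) := by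
            generalize QD.X d.x (2 ^ d.n) i * d.y = w
            rw [show (4 : ℕ) = 2 + 2 from rfl, pow_add, pow_two]
          rw [e1, QD.mul_Xy_Xy d.x d.y _ d.hx _ d.hrel d.hyy, ← QD.X_add d.x _ d.hx,
            QD.X_eq_one_iff d.x _ d.hx]
          have hE : ((2 ^ (d.n - 1) - 1 : ℕ) : ZMod (2 ^ d.n)) = d.E := rfl
          rw [hE]
          calc i + d.E * i + (i + d.E * i) = i * (2 * (1 + d.E)) := by ring
            _ = 0 := by rw [d.one_add_E, d.two_h, mul_zero]
        have hdvd := orderOf_dvd_of_pow_eq_one h4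
        rw [ho] at hdvd
        have hle := Nat.le_of_dvd (by norm_num) hdvd
        have hn := d.hn
        have h8 : 2 ^ 3 ≤ 2 ^ d.n := Nat.pow_le_pow_right (by norm_num) hn
        omega

end Cfsg.Agent.S3116
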