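import Mathlib
import Cfsg.Statements.S3155

set_option autoImplicit false
open Cfsg

namespace Cfsg.Agent.S3155

/-- Let B be the direct product of three cyclic groups of order 4. Then the automorphism of B inverting every element is not the square of any automorphism of B. -/
theorem result {B : Type*} [CommGroup B] [Finite B] (hB : Nonempty (B ≃* Multiplicative (ZMod 4 × ZMod 4 × ZMod 4)))
    (τ : B ≃* B) : τ.trans τ ≠ MulEquiv.inv B := by
  intro hτ
  obtain ⟨e⟩ := hB
  have hτ' : ∀ b : B, τ (τ b) = b⁻¹ := by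
    intro b
    have := congrArg (fun φ : B ≃* B => φ b) hτ
    simpa using this
  -- transport to `M = (ZMod 4)^3`
  let σ : Multiplicative (ZMod 4 × ZMod 4 × ZMod 4) ≃* Multiplicative (ZMod 4 × ZMod 4 × ZMod 4) :=
    e.symm.trans (τ.trans e)
  have hσ : ∀ y, σ (σ y) = y⁻¹ := by
    intro y
    change e (τ (e.symm (e (τ (e.symm y))))) = y⁻¹
    rw [MulEquiv.symm_apply_apply, hτ', map_inv, MulEquiv.apply_symm_apply]
  let f : (ZMod 4 × ZMod 4 × ZMod 4) →+ (ZMod 4 × ZMod 4 × ZMod 4) :=
    AddMonoidHom.toMultiplicative.symm σ.toMonoidHom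
  have hf : ∀ x, f (f x) = -x := by
    intro x
    have := hσ (Multiplicative.ofAdd x)
    exact congrArg Multiplicative.toAdd this
  let F : (ZMod 4 × ZMod 4 × ZMod 4) →ₗ[ZMod 4] (ZMod 4 × ZMod 4 × ZMod 4) :=
    AddMonoidHom.toZModLinearMap 4 f
  have hF : F ∘ₗ F = (-1 : ZMod 4) • LinearMap.id := by
    ext <;> simp [F, hf]
  have hnt : Fact (1 < 4) := ⟨by norm_num⟩
  have hrank : Module.finrank (ZMod 4) (ZMod 4 × ZMod 4 × ZMod 4) = 3 := by
    rw [Module.finrank_prod, Module.finrank_prod, Module.finrank_self]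
  have hdet := congrArg LinearMap.det hF
  rw [LinearMap.det_comp, LinearMap.det_smul, LinearMap.det_id, hrank] at hdet
  have hdec : ∀ d : ZMod 4, d * d ≠ (-1) ^ 3 * 1 := by decide
  exact hdec _ hdet

end Cfsg.Agent.S3155
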