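import Mathlib
import Cfsg.Statements.S3157
import Cfsg.Agent.Helper2.Ord64F

set_option autoImplicit false
open Cfsg

namespace Cfsg.Agent.S3157

open Cfsg.Agent.Helper2

/-- Let T be a non-abelian group of order 64 admitting automorphisms ρ of order 3 and x of order 2 with x ρ x⁻¹ = ρ⁻¹ (so they generate a symmetric group of degree 3), where ρ fixes only the identity. Then T is isomorphic to a Sylow 2-subgroup of the projective special linear group of dimension 3 over the field with 4 elements, and the subgroup of fixed points of x is dihedral of order 8 or quaternion of order 8. -/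
theorem result {T : Type*} [Group T] [Finite T] (hT : Nat.card T = 64) (hna : ¬ IsMulCommutative T) (ρ x : MulAut T) (hρ : orderOf ρ = 3) (hx : orderOf x = 2)
    (hxr : x * ρ * x⁻¹ = ρ⁻¹) (hfp : ∀ y : T, ρ y = y → y = 1) (C : Subgroup T) (hC : ∀ y : T, y ∈ C ↔ x y = y) :
    (∃ (F : Type) (_ : Field F) (_ : Fintype F), Fintype.card F = 4 ∧
        ∃ S : Sylow 2 (Matrix.ProjectiveSpecialLinearGroup (Fin 3) F), Nonempty (T ≃* ↥(S : Subgroup (Matrix.ProjectiveSpecialLinearGroup (Fin 3) F)))) ∧
      (Nonempty (↥C ≃* DihedralGroup 4) ∨ Nonempty (↥C ≃* QuaternionGroup 2)) := by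
    have hρ3 : ρ ^ 3 = 1 := by rw [← hρ]; exact pow_orderOf_eq_one ρ
    have hx2 : x ^ 2 = 1 := by rw [← hx]; exact pow_orderOf_eq_one x
    have hcube : ∀ y : T, ρ (ρ (ρ y)) = y := by
      intro y
      have := congrArg (fun f : MulAut T => f y) hρ3
      simpa [pow_succ, MulAut.mul_apply] using this
    have hfp' : Ord64.FP ρ := by
      refine ⟨hT, ?_, hcube, hfp⟩
      by_contra hc
      push Not at hc
      exact hna ⟨⟨hc⟩⟩
    have hxp : Ord64.XP ρ x := by
      constructor
      · intro y
        have := congrArg (fun f : MulAut T => f y) hx2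
        simpa [pow_succ, MulAut.mul_apply] using this
      · intro y
        have e1 : x * ρ = ρ⁻¹ * x := by
          calc x * ρ = (x * ρ * x⁻¹) * x := by group
            _ = ρ⁻¹ * x := by rw [hxr]
        have e2 : ρ⁻¹ = ρ * ρ := by
          have : ρ * ρ * ρ = 1 := by
            rw [← hρ3]; simp [pow_succ]
          exact inv_eq_of_mul_eq_one_left this
        have := congrArg (fun f : MulAut T => f y) e1
        simp only [MulAut.mul_apply] at this
        rw [this, e2]
        rfl
    obtain ⟨⟨S, hS⟩, h2⟩ := Ord64.main hfp' hxp hC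
    exact ⟨⟨Cfsg.Agent.Helper7.F4Mat.F4, inferInstance, inferInstance,
      Cfsg.Agent.Helper7.F4Mat.F4.card, S, hS⟩, h2⟩

end Cfsg.Agent.S3157
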