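import Mathlib
import Cfsg.Statements.S3158
import Cfsg.Agent.Helper5.PGroupCenter

set_option autoImplicit false
open Cfsg

namespace Cfsg.Agent.S3158

/-- Let U be a group of order q² with q = 2^n ≥ 2, and y an automorphism of U of order q − 1 all of whose nontrivial powers fix only the identity. Let V be a proper normal y-invariant subgroup of U such that V and U/V are elementary abelian 2-groups and there is an isomorphism from V to U/V commuting with the actions of y. Then U is abelian. -/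
theorem result {U : Type*} [Group U] [Finite U] (n : ℕ) (hn : 1 ≤ n) (hU : Nat.card U = (2 ^ n) ^ 2)
    (y : MulAut U) (hy : orderOf y = 2 ^ n - 1) (hfp : ∀ k : ℕ, y ^ k ≠ 1 → ∀ u : U, (y ^ k) u = u → u = 1)
    (V : Subgroup U) [V.Normal] (hV : V ≠ ⊤) (hyV : ∀ v ∈ V, y v ∈ V)
    (hVe : ∀ v ∈ V, v ^ 2 = 1) (hQe : ∀ u : U, u ^ 2 ∈ V) (hQc : ∀ u w : U, u * w * u⁻¹ * w⁻¹ ∈ V)
    (φ : ↥V ≃* U ⧸ V) (hφ : ∀ (v : ↥V) (u : U), (QuotientGroup.mk u : U ⧸ V) = φ v → φ ⟨y v, hyV v v.2⟩ = QuotientGroup.mk (y u)) :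
    IsMulCommutative U := by
  classical
  haveI : Fact (Nat.Prime 2) := ⟨Nat.prime_two⟩
  set q := 2 ^ n with hq
  have hq2 : 2 ≤ q := by
    rw [hq]
    calc 2 = 2 ^ 1 := by norm_num
      _ ≤ 2 ^ n := Nat.pow_le_pow_right (by norm_num) hn
  -- |V| = q
  have hcardV : Nat.card V = q := by
    have h1 : Nat.card V * Nat.card (U ⧸ V) = Nat.card U := by
      rw [mul_comm]; exact (Subgroup.card_eq_card_quotient_mul_card_subgroup V).symm
    have h2 : Nat.card (U ⧸ V) = Nat.card V := (Nat.card_congr φ.toEquiv).symm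
    rw [h2, hU, ← sq] at h1
    exact Nat.pow_left_injective (n := 2) (by norm_num) h1
  -- powers preserve V
  have hpowV : ∀ k : ℕ, ∀ v ∈ V, (y ^ k) v ∈ V := by
    intro k
    induction k with
    | zero => intro v hv; simpa using hv
    | succ k ih =>
      intro v hv
      rw [pow_succ', MulAut.mul_apply]
      exact hyV _ (ih v hv)
  have hcomm_pow : ∀ (k m : ℕ) (x : U), (y ^ k) ((y ^ m) x) = (y ^ m) ((y ^ k) x) := by
    intro k m x
    rw [← MulAut.mul_apply, ← MulAut.mul_apply, ← pow_add, ← pow_add, add_comm]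
  -- orbit lemma
  have horb : ∀ v₀ ∈ V, v₀ ≠ 1 → ∀ v ∈ V, v ≠ 1 → ∃ k : ℕ, (y ^ k) v₀ = v := by
    intro v₀ hv₀ hv₀1 v hv hv1
    have hinj0 : ∀ i j : ℕ, i ≤ j → j < q - 1 → (y ^ i) v₀ = (y ^ j) v₀ → i = j := by
      intro i j hij hj h
      by_contra hne
      have hlt : i < j := lt_of_le_of_ne hij hne
      have h1 : (y ^ j) v₀ = (y ^ i) ((y ^ (j - i)) v₀) := by
        rw [← MulAut.mul_apply, ← pow_add]
        congr 2
        omega
      rw [h1] at h
      have h2 : (y ^ (j - i)) v₀ = v₀ := ((y ^ i).injective h).symm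
      have h3 : y ^ (j - i) ≠ 1 := by
        intro h4
        have := orderOf_dvd_of_pow_eq_one h4
        rw [hy] at this
        have := Nat.le_of_dvd (by omega) this
        omega
      exact hv₀1 (hfp _ h3 v₀ h2)
    let f : Option (Fin (q - 1)) → V := fun o =>
      match o with
      | none => 1
      | some i => ⟨(y ^ (i : ℕ)) v₀, hpowV _ v₀ hv₀⟩
    have hf_inj : Function.Injective f := by
      intro a b hab
      rcases a with _ | i <;> rcases b with _ | j
      · rfl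
      · exfalso
        have : (1 : U) = (y ^ (j : ℕ)) v₀ := congrArg Subtype.val hab
        apply hv₀1
        have h5 : (y ^ (j : ℕ)) v₀ = (y ^ (j : ℕ)) 1 := by rw [← this, map_one]
        exact (y ^ (j : ℕ)).injective h5
      · exfalso
        have : (y ^ (i : ℕ)) v₀ = (1 : U) := congrArg Subtype.val hab
        apply hv₀1
        have h5 : (y ^ (i : ℕ)) v₀ = (y ^ (i : ℕ)) 1 := by rw [this, map_one]
        exact (y ^ (i : ℕ)).injective h5
      · have h : (y ^ (i : ℕ)) v₀ = (y ^ (j : ℕ)) v₀ := congrArg Subtype.val hab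
        congr 1
        apply Fin.ext
        rcases le_total (i : ℕ) (j : ℕ) with hij | hij
        · exact hinj0 _ _ hij j.2 h
        · exact (hinj0 _ _ hij i.2 h.symm).symm
    have hcard : Nat.card (Option (Fin (q - 1))) = Nat.card V := by
      rw [hcardV, Nat.card_eq_fintype_card, Fintype.card_option, Fintype.card_fin]
      omega
    have hf_bij : Function.Bijective f :=
      (Function.Injective.bijective_of_nat_card_le hf_inj (le_of_eq hcard.symm))
    obtain ⟨o, ho⟩ := hf_bij.2 ⟨v, hv⟩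
    rcases o with _ | i
    · exfalso
      apply hv1
      have : (1 : U) = v := congrArg Subtype.val ho
      exact this.symm
    · exact ⟨i, congrArg Subtype.val ho⟩
  -- V is central
  have hUp : IsPGroup 2 U := IsPGroup.of_card (n := n * 2) (by rw [hU, hq, ← pow_mul])
  have hVbot : V ≠ ⊥ := by
    intro h
    rw [h] at hcardV
    simp at hcardV
    omega
  obtain ⟨z, hzV, hz1, hzc⟩ := Cfsg.Agent.Helper5.exists_ne_one_mem_center_of_normal hUp V hVbot
  have hVc : ∀ v ∈ V, ∀ t : U, t * v = v * t := by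
    intro v hv t
    by_cases hv1 : v = 1
    · rw [hv1]; simp
    · obtain ⟨k, hk⟩ := horb z hzV hz1 v hv hv1
      have ht : t = (y ^ k) ((y ^ k).symm t) := by simp
      rw [← hk, ht, ← map_mul, ← map_mul, hzc]
  -- choose v₀, u₀
  obtain ⟨v₀, hv₀V, hv₀1⟩ : ∃ v₀ ∈ V, v₀ ≠ 1 := ⟨z, hzV, hz1⟩
  obtain ⟨u₀, hu₀⟩ := QuotientGroup.mk_surjective (φ ⟨v₀, hv₀V⟩)
  have hiter : ∀ k : ℕ, φ ⟨(y ^ k) v₀, hpowV k v₀ hv₀V⟩ = QuotientGroup.mk ((y ^ k) u₀) := by
    intro k
    induction k with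
    | zero => simpa using hu₀.symm
    | succ k ih =>
      have := hφ ⟨(y ^ k) v₀, hpowV k v₀ hv₀V⟩ ((y ^ k) u₀) ih.symm
      have e1 : (⟨(y ^ (k + 1)) v₀, hpowV (k + 1) v₀ hv₀V⟩ : V) =
          ⟨y ((y ^ k) v₀), hyV _ (hpowV k v₀ hv₀V)⟩ := by
        apply Subtype.ext
        simp only [pow_succ', MulAut.mul_apply]
      rw [e1, this, pow_succ', MulAut.mul_apply]
  -- description of elements outside V
  have hkey : ∀ u : U, u ∉ V → ∃ (k : ℕ) (c : U), c ∈ V ∧ u = (y ^ k) u₀ * c ∧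
      ((φ.symm (QuotientGroup.mk u) : V) : U) = (y ^ k) v₀ := by
    intro u hu
    set v := φ.symm (QuotientGroup.mk u) with hv
    have hv1 : (v : U) ≠ 1 := by
      intro h
      have h2 : v = 1 := Subtype.ext h
      have h3 : (QuotientGroup.mk u : U ⧸ V) = φ v := by rw [hv]; simp
      rw [h2, map_one] at h3
      exact hu ((QuotientGroup.eq_one_iff u).mp h3)
    obtain ⟨k, hk⟩ := horb v₀ hv₀V hv₀1 v v.2 hv1
    refine ⟨k, ((y ^ k) u₀)⁻¹ * u, ?_, by group, hk.symm⟩
    have h3 : (QuotientGroup.mk u : U ⧸ V) = φ v := by rw [hv]; simp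
    have h4 : v = ⟨(y ^ k) v₀, hpowV k v₀ hv₀V⟩ := Subtype.ext hk.symm
    rw [h4, hiter k] at h3
    exact QuotientGroup.eq.mp h3.symm
  have hsq : ∀ u : U, u ∉ V → ∀ k : ℕ, ∀ c ∈ V, u = (y ^ k) u₀ * c → u ^ 2 = (y ^ k) (u₀ ^ 2) := by
    intro u hu k c hc huc
    rw [huc, map_pow, sq, sq]
    have h1 := hVc c hc ((y ^ k) u₀)
    have h2 := hVe c hc
    calc (y ^ k) u₀ * c * ((y ^ k) u₀ * c) = (y ^ k) u₀ * (c * (y ^ k) u₀) * c := by simp only [mul_assoc]
      _ = (y ^ k) u₀ * ((y ^ k) u₀ * c) * c := by rw [h1]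
      _ = (y ^ k) u₀ * (y ^ k) u₀ * (c * c) := by simp only [mul_assoc]
      _ = (y ^ k) u₀ * (y ^ k) u₀ := by rw [← sq c, h2, mul_one]
  -- the homomorphism
  have hhom : ∃ ψ : V →* U, ∀ u : U, u ^ 2 = ψ (φ.symm (QuotientGroup.mk u)) := by
    by_cases hs : u₀ ^ 2 = 1
    · refine ⟨1, fun u => ?_⟩
      rw [MonoidHom.one_apply]
      by_cases hu : u ∈ V
      · exact hVe u hu
      · obtain ⟨k, c, hc, huc, -⟩ := hkey u hu
        rw [hsq u hu k c hc huc, hs, map_one]
    · obtain ⟨m, hm⟩ := horb v₀ hv₀V hv₀1 (u₀ ^ 2) (hQe u₀) hs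
      refine ⟨((y ^ m).toMonoidHom).comp V.subtype, fun u => ?_⟩
      rw [MonoidHom.comp_apply]
      by_cases hu : u ∈ V
      · have h1 : (QuotientGroup.mk u : U ⧸ V) = 1 := (QuotientGroup.eq_one_iff u).mpr hu
        rw [h1, map_one, map_one, map_one]
        exact hVe u hu
      · obtain ⟨k, c, hc, huc, hk⟩ := hkey u hu
        rw [hsq u hu k c hc huc, ← hm, hcomm_pow]
        simp only [Subgroup.coe_subtype, MulEquiv.coe_toMonoidHom]
        rw [hk]
  obtain ⟨ψ, hψ⟩ := hhom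
  have hmul : ∀ u w : U, (u * w) ^ 2 = u ^ 2 * w ^ 2 := by
    intro u w
    rw [hψ, hψ u, hψ w, QuotientGroup.mk_mul, map_mul, map_mul]
  refine ⟨⟨fun u w => ?_⟩⟩
  have h := hmul u w
  have h2 : u * (w * u) * w = u * (u * w) * w := by
    calc u * (w * u) * w = (u * w) ^ 2 := by rw [sq]; group
      _ = u ^ 2 * w ^ 2 := h
      _ = u * (u * w) * w := by rw [sq, sq]; group
  have h3 := mul_right_cancel h2
  exact (mul_left_cancel h3).symm

end Cfsg.Agent.S3158
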