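import Mathlib
import Cfsg.Statements.S3163

set_option autoImplicit false
open Cfsg

namespace Cfsg.Agent.S3163

/-- Let S be a non-abelian finite 2-group which is the product S = AB of two elementary abelian subgroups A and B, and suppose that the centralizer in S of every element of A outside B is exactly A. Then the centralizer of every element of B outside A is exactly B; A and B are maximal elementary abelian subgroups of S and the only ones; the centre of S is A ∩ B; and every element of S outside A ∪ B has centralizer of order at most min(|A|, |B|). -/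
theorem result {S : Type*} [Group S] [Finite S] (hS : IsPGroup 2 S) (hna : ¬ IsMulCommutative S) (A B : Subgroup S)
    (hA : Cfsg.IsElementaryAbelian 2 A) (hB : Cfsg.IsElementaryAbelian 2 B) (hAB : ∀ s : S, ∃ a ∈ A, ∃ b ∈ B, s = a * b)
    (hC : ∀ a ∈ A, a ∉ B → Subgroup.centralizer ({a} : Set S) = A) :
    (∀ b ∈ B, b ∉ A → Subgroup.centralizer ({b} : Set S) = B) ∧
      (∀ E : Subgroup S, Cfsg.IsElementaryAbelian 2 E → (∀ E' : Subgroup S, Cfsg.IsElementaryAbelian 2 E' → E ≤ E' → E' = E) → E = A ∨ E = B) ∧
      (∀ E' : Subgroup S, Cfsg.IsElementaryAbelian 2 E' → A ≤ E' → E' = A) ∧ (∀ E' : Subgroup S, Cfsg.IsElementaryAbelian 2 E' → B ≤ E' → E' = B) ∧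
      Subgroup.center S = A ⊓ B ∧
      (∀ x : S, x ∉ A → x ∉ B → Nat.card ↥(Subgroup.centralizer ({x} : Set S)) ≤ min (Nat.card ↥A) (Nat.card ↥B)) := by
    classical
    have commA : ∀ a ∈ A, ∀ a' ∈ A, a * a' = a' * a := by
      intro a ha a' ha'
      have := hA.1.is_comm.comm ⟨a, ha⟩ ⟨a', ha'⟩
      exact congrArg Subtype.val this
    have commB : ∀ b ∈ B, ∀ b' ∈ B, b * b' = b' * b := by
      intro b hb b' hb'
      have := hB.1.is_comm.comm ⟨b, hb⟩ ⟨b', hb'⟩
      exact congrArg Subtype.val this
    have sqA : ∀ a ∈ A, a * a = 1 := fun a ha => by rw [← pow_two]; exact hA.2 a ha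
    have sqB : ∀ b ∈ B, b * b = 1 := fun b hb => by rw [← pow_two]; exact hB.2 b hb
    have memC : ∀ x y : S, y ∈ Subgroup.centralizer ({x} : Set S) ↔ y * x = x * y :=
      fun x y => Subgroup.mem_centralizer_singleton_iff
    have hBA : ∀ s : S, ∃ b ∈ B, ∃ a ∈ A, s = b * a := by
      intro s
      obtain ⟨a, ha, b, hb, hs⟩ := hAB s⁻¹
      refine ⟨b⁻¹, inv_mem hb, a⁻¹, inv_mem ha, ?_⟩
      rw [← mul_inv_rev, ← hs, inv_inv]
    -- A ⊄ B and B ⊄ A
    have hAnB : ∃ a₀ ∈ A, a₀ ∉ B := by
      by_contra hcon
      push Not at hcon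
      apply hna
      refine ⟨⟨fun x y => ?_⟩⟩
      obtain ⟨a, ha, b, hb, rfl⟩ := hAB x
      obtain ⟨a', ha', b', hb', rfl⟩ := hAB y
      exact commB _ (mul_mem (hcon a ha) hb) _ (mul_mem (hcon a' ha') hb')
    have hBnA : ∃ b₀ ∈ B, b₀ ∉ A := by
      by_contra hcon
      push Not at hcon
      apply hna
      refine ⟨⟨fun x y => ?_⟩⟩
      obtain ⟨a, ha, b, hb, rfl⟩ := hAB x
      obtain ⟨a', ha', b', hb', rfl⟩ := hAB y
      exact commA _ (mul_mem ha (hcon b hb)) _ (mul_mem ha' (hcon b' hb'))
    obtain ⟨a₀, ha₀, ha₀B⟩ := hAnB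
    obtain ⟨b₀, hb₀, hb₀A⟩ := hBnA
    -- (1)
    have h1 : ∀ b ∈ B, b ∉ A → Subgroup.centralizer ({b} : Set S) = B := by
      intro b hb hbA
      ext s
      rw [memC]
      constructor
      · intro hs
        obtain ⟨a, ha, b', hb', rfl⟩ := hAB s
        have hab : a * b = b * a := by
          have e1 : a * b' * b = a * b * b' := by rw [mul_assoc, commB b' hb' b hb, ← mul_assoc]
          have e2 : a * b * b' = b * a * b' := by rw [← e1, hs, mul_assoc]
          exact mul_right_cancel e2
        by_cases haB : a ∈ B
        · exact mul_mem haB hb'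
        · exfalso
          apply hbA
          rw [← hC a ha haB, memC]
          exact hab.symm
      · intro hs
        exact commB s hs b hb
    -- every element of an EA subgroup lies in A or B
    have hEelem : ∀ E : Subgroup S, Cfsg.IsElementaryAbelian 2 E → ∀ e ∈ E, e ∈ A ∨ e ∈ B := by
      intro E hE e he
      obtain ⟨a, ha, b, hb, rfl⟩ := hAB e
      by_cases haB : a ∈ B
      · exact Or.inr (mul_mem haB hb)
      by_cases hbA : b ∈ A
      · exact Or.inl (mul_mem ha hbA)
      exfalso
      apply hbA
      rw [← hC a ha haB, memC]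
      have hsq : a * b * (a * b) = 1 := by rw [← pow_two]; exact hE.2 _ he
      -- b * a = a * b
      have e1 : b * a = a * (a * b * (a * b)) * b := by
        calc b * a = (a * a) * b * a * (b * b) := by rw [sqA a ha, sqB b hb, one_mul, mul_one]
          _ = a * (a * b * (a * b)) * b := by group
      rw [e1, hsq, mul_one]
    have hEle : ∀ E : Subgroup S, Cfsg.IsElementaryAbelian 2 E → E ≤ A ∨ E ≤ B := by
      intro E hE
      by_contra hcon
      push Not at hcon
      obtain ⟨hEA, hEB⟩ := hcon
      obtain ⟨e₁, he₁, he₁A⟩ := SetLike.not_le_iff_exists.mp hEA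
      obtain ⟨e₂, he₂, he₂B⟩ := SetLike.not_le_iff_exists.mp hEB
      have he₁B : e₁ ∈ B := (hEelem E hE e₁ he₁).resolve_left he₁A
      have he₂A : e₂ ∈ A := (hEelem E hE e₂ he₂).resolve_right he₂B
      rcases hEelem E hE (e₁ * e₂) (mul_mem he₁ he₂) with h | h
      · apply he₁A
        have : e₁ = e₁ * e₂ * e₂⁻¹ := by group
        rw [this]
        exact mul_mem h (inv_mem he₂A)
      · apply he₂B
        have : e₂ = e₁⁻¹ * (e₁ * e₂) := by group
        rw [this]
        exact mul_mem (inv_mem he₁B) h
    have hAnleB : ¬ A ≤ B := fun h => ha₀B (h ha₀)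
    have hBnleA : ¬ B ≤ A := fun h => hb₀A (h hb₀)
    -- (5) cardinalities
    have hF1 : Nat.card S * Nat.card ↥(A ⊓ B) ≤ Nat.card A * Nat.card B := by
      choose fa hfa fb hfb hfab using hAB
      let φ : S × ↥(A ⊓ B) → A × B := fun p =>
        (⟨fa p.1 * p.2.1, mul_mem (hfa p.1) p.2.2.1⟩, ⟨(p.2.1)⁻¹ * fb p.1, mul_mem (inv_mem p.2.2.2) (hfb p.1)⟩)
      have hφ : Function.Injective φ := by
        rintro ⟨s, z⟩ ⟨t, w⟩ h
        have h1' : fa s * z.1 = fa t * w.1 := congrArg (fun q : A × B => (q.1 : S)) h
        have h2' : (z.1)⁻¹ * fb s = (w.1)⁻¹ * fb t := congrArg (fun q : A × B => (q.2 : S)) h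
        have hst : s = t := by
          rw [hfab s, hfab t]
          calc fa s * fb s = (fa s * z.1) * ((z.1)⁻¹ * fb s) := by group
            _ = (fa t * w.1) * ((w.1)⁻¹ * fb t) := by rw [h1', h2']
            _ = fa t * fb t := by group
        subst hst
        have hzw : z.1 = w.1 := mul_left_cancel h1'
        rw [Subtype.ext hzw]
      have := Nat.card_le_card_of_injective φ hφ
      rwa [Nat.card_prod, Nat.card_prod] at this
    have hF2 : ∀ (X C : Subgroup S), Nat.card C * Nat.card X ≤ Nat.card ↥(X ⊓ C) * Nat.card S := by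
      intro X C
      have e1 := (X.subgroupOf C).card_mul_index
      have e2 : Nat.card (X.subgroupOf C) = Nat.card ↥(X ⊓ C) := by
        rw [← Subgroup.inf_subgroupOf_right]
        exact Nat.card_congr (Subgroup.subgroupOfEquivOfLe inf_le_right).toEquiv
      have e3 : X.relIndex C ≤ X.index := by
        rw [← Subgroup.relIndex_top_right]
        apply Subgroup.relIndex_le_of_le_right le_top
        rw [Subgroup.relIndex_top_right]
        exact Subgroup.index_ne_zero_of_finite
      have e4 := X.card_mul_index
      rw [← e1, ← e4, e2]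
      have e5 : (X.subgroupOf C).index = X.relIndex C := rfl
      rw [e5]
      calc Nat.card ↥(X ⊓ C) * X.relIndex C * Nat.card X
          ≤ Nat.card ↥(X ⊓ C) * X.index * Nat.card X :=
            Nat.mul_le_mul_right _ (Nat.mul_le_mul_left _ e3)
        _ = Nat.card ↥(X ⊓ C) * (Nat.card X * X.index) := by ring
    refine ⟨h1, ?_, ?_, ?_, ?_, ?_⟩
    · intro E hE hmax
      rcases hEle E hE with h | h
      · exact Or.inl (hmax A hA h).symm
      · exact Or.inr (hmax B hB h).symm
    · intro E' hE' hle
      rcases hEle E' hE' with h | h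
      · exact le_antisymm h hle
      · exact absurd (hle.trans h) hAnleB
    · intro E' hE' hle
      rcases hEle E' hE' with h | h
      · exact absurd (hle.trans h) hBnleA
      · exact le_antisymm h hle
    · ext z
      rw [Subgroup.mem_center_iff, Subgroup.mem_inf]
      constructor
      · intro hz
        constructor
        · rw [← hC a₀ ha₀ ha₀B, memC]
          exact (hz a₀).symm
        · rw [← h1 b₀ hb₀ hb₀A, memC]
          exact (hz b₀).symm
      · rintro ⟨hzA, hzB⟩ g
        obtain ⟨a, ha, b, hb, rfl⟩ := hAB g
        rw [mul_assoc, commB b hb z hzB, ← mul_assoc, commA a ha z hzA, mul_assoc]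
    · intro x hxA hxB
      obtain ⟨a, ha, b, hb, rfl⟩ := hAB x
      have haB : a ∉ B := fun h => hxB (mul_mem h hb)
      have hbA : b ∉ A := fun h => hxA (mul_mem ha h)
      set C := Subgroup.centralizer ({a * b} : Set S) with hCdef
      have hAC : A ⊓ C = A ⊓ B := by
        ext y
        rw [Subgroup.mem_inf, Subgroup.mem_inf, memC]
        constructor
        · rintro ⟨hyA, hy⟩
          refine ⟨hyA, ?_⟩
          rw [← h1 b hb hbA, memC]
          -- y commutes with a and with a*b, hence with b
          have hya := commA y hyA a ha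
          have e : a * (y * b) = a * (b * y) := by
            calc a * (y * b) = (a * y) * b := by group
              _ = (y * a) * b := by rw [hya]
              _ = y * (a * b) := by group
              _ = a * b * y := hy
              _ = a * (b * y) := by group
          exact mul_left_cancel e
        · rintro ⟨hyA, hyB⟩
          refine ⟨hyA, ?_⟩
          calc y * (a * b) = (y * a) * b := by group
            _ = (a * y) * b := by rw [commA y hyA a ha]
            _ = a * (y * b) := by group
            _ = a * (b * y) := by rw [commB y hyB b hb]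
            _ = a * b * y := by group
      have hBC : B ⊓ C = A ⊓ B := by
        ext y
        rw [Subgroup.mem_inf, Subgroup.mem_inf, memC]
        constructor
        · rintro ⟨hyB, hy⟩
          refine ⟨?_, hyB⟩
          rw [← hC a ha haB, memC]
          have hyb := commB y hyB b hb
          have e : (y * a) * b = (a * y) * b := by
            calc (y * a) * b = y * (a * b) := by group
              _ = a * b * y := hy
              _ = a * (b * y) := by group
              _ = a * (y * b) := by rw [hyb]
              _ = (a * y) * b := by group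
          exact mul_right_cancel e
        · rintro ⟨hyA, hyB⟩
          refine ⟨hyB, ?_⟩
          calc y * (a * b) = (y * a) * b := by group
            _ = (a * y) * b := by rw [commA y hyA a ha]
            _ = a * (y * b) := by group
            _ = a * (b * y) := by rw [commB y hyB b hb]
            _ = a * b * y := by group
      have hA2 := hF2 A C
      have hB2 := hF2 B C
      rw [hAC] at hA2
      rw [hBC] at hB2
      have hApos : 0 < Nat.card A := Nat.card_pos
      have hBpos : 0 < Nat.card B := Nat.card_pos
      have hZS : Nat.card ↥(A ⊓ B) * Nat.card S ≤ Nat.card A * Nat.card B := by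
        rw [mul_comm]; exact hF1
      apply le_min
      · have : Nat.card C * Nat.card B ≤ Nat.card A * Nat.card B := hB2.trans hZS
        exact Nat.le_of_mul_le_mul_right this hBpos
      · have : Nat.card C * Nat.card A ≤ Nat.card B * Nat.card A := by
          rw [mul_comm (Nat.card B)]
          exact hA2.trans hZS
        exact Nat.le_of_mul_le_mul_right this hApos

end Cfsg.Agent.S3163
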