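import Mathlib
import Cfsg.Statements.S3166
import Cfsg.Agent.Helper2.Phi10

set_option autoImplicit false
open Cfsg

namespace Cfsg.Agent.S3166

open Cfsg.Agent.Helper2

/-- Let q = 2^n with n ≥ 1. If q⁴ − q³ + q² − q + 1 is a power p^m of a prime p, then m = 1: the value is never a prime power with exponent greater than 1. -/
theorem result (n p m : ℕ) (hn : 1 ≤ n) (hp : p.Prime) (h : (2 ^ n) ^ 4 - (2 ^ n) ^ 3 + (2 ^ n) ^ 2 - 2 ^ n + 1 = p ^ m) : m = 1 := by
    obtain ⟨t, ht⟩ : ∃ t, 2 ^ n = 2 * t := ⟨2 ^ (n - 1), by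
      obtain ⟨k, rfl⟩ : ∃ k, n = k + 1 := ⟨n - 1, by omega⟩
      rw [pow_succ, Nat.add_sub_cancel, mul_comm]⟩
    have ht1 : 1 ≤ t := by
      rcases Nat.eq_zero_or_pos t with h0 | h0
      · rw [h0] at ht; simp at ht
      · exact h0
    have hcop : ∀ S : ℕ, Odd S → Nat.Coprime (2 ^ n) S := fun S hS =>
      Nat.Coprime.pow_left n (Nat.coprime_two_left.mpr hS)
    generalize hq : 2 ^ n = q at h ht hcop
    have hq2 : 2 ≤ q := by omega
    have h43 : 2 * q ^ 3 ≤ q ^ 4 := by
      have : q ^ 4 = q * q ^ 3 := by ring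
      rw [this]; exact Nat.mul_le_mul_right _ hq2
    have h32 : 2 * q ^ 2 ≤ q ^ 3 := by
      have : q ^ 3 = q * q ^ 2 := by ring
      rw [this]; exact Nat.mul_le_mul_right _ hq2
    have h21 : 2 * q ≤ q ^ 2 := by
      have : q ^ 2 = q * q := by ring
      rw [this]; exact Nat.mul_le_mul_right _ hq2
    have hΦ : q ^ 4 + q ^ 2 + 1 = p ^ m + q ^ 3 + q := by omega
    -- m ≠ 0
    have hm0 : m ≠ 0 := by
      rintro rfl
      rw [pow_zero] at hΦ
      omega
    rcases Nat.even_or_odd m with hev | hodd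
    · -- even case
      exfalso
      obtain ⟨k, hk⟩ := hev
      have hsq : p ^ m = (p ^ k) ^ 2 := by rw [hk, ← pow_mul]; congr 1; ring
      apply Phi10.not_sq t (p ^ k) ht1
      rw [← ht, ← hsq]; omega
    · -- odd case
      by_contra hm1
      have hm3 : 3 ≤ m := by
        obtain ⟨k, hk⟩ := hodd
        omega
      -- p^m is odd
      have e4 : q ^ 4 = 2 * (t * q ^ 3) := by rw [ht]; ring
      have e3 : q ^ 3 = 2 * (t * q ^ 2) := by rw [ht]; ring
      have e2 : q ^ 2 = 2 * (t * q) := by rw [ht]; ring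
      have hpm_odd : Odd (p ^ m) := by rw [Nat.odd_iff]; omega
      have hp_odd : Odd p := (Nat.odd_pow_iff hm0).mp hpm_odd
      obtain ⟨x, hx⟩ : ∃ x, p = x + 1 := ⟨p - 1, by have := hp.pos; omega⟩
      have hxe : Even x := by
        rw [hx] at hp_odd
        rcases Nat.even_or_odd x with h1 | h1
        · exact h1
        · exfalso
          have := h1.add_one
          rw [← Nat.not_even_iff_odd] at hp_odd
          exact hp_odd this
      have hS := geom_sum_mul_add x m
      have hSodd := Phi10.geom_sum_odd x m hxe hodd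
      set S := ∑ i ∈ Finset.range m, (x + 1) ^ i with hSdef
      rw [← hx] at hS
      -- q ∣ S * x
      have hqSx : q ∣ S * x := by
        have h1 : q ∣ q ^ 3 + q := ⟨q ^ 2 + 1, by ring⟩
        have h2 : q ∣ (q ^ 3 + q) + S * x := ⟨q ^ 3 + q, by
          have : q * (q ^ 3 + q) = q ^ 4 + q ^ 2 := by ring
          rw [this]; omega⟩
        exact (Nat.dvd_add_right h1).mp h2
      have hqx : q ∣ x := Nat.Coprime.dvd_of_dvd_mul_left (hcop S hSodd) hqSx
      obtain ⟨s, hs⟩ := hqx
      have hs1 : 1 ≤ s := by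
        rcases Nat.eq_zero_or_pos s with h0 | h0
        · rw [h0, mul_zero] at hs
          rw [hs] at hx
          exact absurd hx hp.one_lt.ne'
        · exact h0
      have hpq : q + 1 ≤ p := by
        rw [hx, hs]
        have : q * 1 ≤ q * s := Nat.mul_le_mul_left q hs1
        omega
      -- m = 3
      have hm4 : m < 4 := by
        by_contra hge
        push Not at hge
        have h1 : (q + 1) ^ 4 ≤ p ^ m :=
          (Nat.pow_le_pow_left hpq 4).trans (Nat.pow_le_pow_right hp.pos hge)
        have h2 : (q + 1) ^ 4 = q ^ 4 + 4 * q ^ 3 + 6 * q ^ 2 + 4 * q + 1 := by ring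
        omega
      have hm3' : m = 3 := by omega
      rw [hm3'] at hΦ
      -- expand
      have hp3 : p ^ 3 = 1 + 3 * (q * s) + 3 * (q ^ 2 * s ^ 2) + q ^ 3 * s ^ 3 := by
        rw [hx, hs]; ring
      -- s^3 < q
      have hs3 : s ^ 3 < q := by
        by_contra hge
        push Not at hge
        have : q ^ 3 * q ≤ q ^ 3 * s ^ 3 := Nat.mul_le_mul_left _ hge
        have e : q ^ 3 * q = q ^ 4 := by ring
        omega
      -- q ∣ 3 s + 1
      have hdvd : q ∣ 3 * s + 1 := by
        have hcancel : 3 * s + 1 + q * (3 * s ^ 2 + q * s ^ 3 + q) = q * (q ^ 2 + 1) := by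
          have hq0 : 0 < q := by omega
          apply Nat.eq_of_mul_eq_mul_left hq0
          have e1 : q * (3 * s + 1 + q * (3 * s ^ 2 + q * s ^ 3 + q)) =
              3 * (q * s) + q + 3 * (q ^ 2 * s ^ 2) + q ^ 3 * s ^ 3 + q ^ 3 := by ring
          have e2' : q * (q * (q ^ 2 + 1)) = q ^ 4 + q ^ 2 := by ring
          rw [e1, e2']
          omega
        have h1 : q ∣ q * (3 * s ^ 2 + q * s ^ 3 + q) := dvd_mul_right _ _
        have h2 : q ∣ q * (3 * s ^ 2 + q * s ^ 3 + q) + (3 * s + 1) := by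
          rw [add_comm, hcancel]; exact dvd_mul_right _ _
        exact (Nat.dvd_add_right h1).mp h2
      have hqle : q ≤ 3 * s + 1 := Nat.le_of_dvd (by omega) hdvd
      -- s = 1
      have hs_le : s ≤ 1 := by
        by_contra hgt
        push Not at hgt
        have h1 : 4 * s ≤ s ^ 3 := by
          have e : s ^ 3 = s * s * s := by ring
          rw [e]
          have : 2 * 2 ≤ s * s := Nat.mul_le_mul hgt hgt
          nlinarith
        omega
      have hs_eq : s = 1 := by omega
      rw [hs_eq] at hp3 hqle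
      have hq4 : q ≤ 4 := by omega
      interval_cases q <;> omega

end Cfsg.Agent.S3166
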