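import Cfsg.Statements.S3171
import Cfsg.Agent.Helper9.Golay.P2QAbs
import Cfsg.Agent.Helper9.Golay.M24Trans

set_option autoImplicit false
open Cfsg

namespace Cfsg.Agent.S3171

/-- Let P be a Sylow 2-subgroup of the Mathieu group of degree 24 and S the quotient of P by its centre. Then the centre of every maximal subgroup of S has order at most 8; S has an elementary abelian subgroup of order 64; and S has only one abelian subgroup of order 64. -/
theorem result (P : Sylow 2 ↥Cfsg.M24) :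
    (∀ M : Subgroup (↥(P : Subgroup ↥Cfsg.M24) ⧸ Subgroup.center ↥(P : Subgroup ↥Cfsg.M24)), IsCoatom M →
        Nat.card ↥(Subgroup.center ↥M) ≤ 8) ∧
      (∃ A : Subgroup (↥(P : Subgroup ↥Cfsg.M24) ⧸ Subgroup.center ↥(P : Subgroup ↥Cfsg.M24)),
        Cfsg.IsElementaryAbelian 2 A ∧ Nat.card ↥A = 64) ∧
      ∀ A B : Subgroup (↥(P : Subgroup ↥Cfsg.M24) ⧸ Subgroup.center ↥(P : Subgroup ↥Cfsg.M24)),
        IsMulCommutative ↥A → Nat.card ↥A = 64 → IsMulCommutative ↥B → Nat.card ↥B = 64 → A = B := by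
  classical
  have hp : Fact (Nat.Prime 2) := ⟨Nat.prime_two⟩
  have hG0 : Nat.card ↥Cfsg.M24 ≠ 0 := Nat.card_pos.ne'
  have hG : Nat.card ↥Cfsg.M24 = 244823040 := Cfsg.Agent.Helper9.Golay.card_M24
  have h1 : 10 ≤ (Nat.card ↥Cfsg.M24).factorization 2 := by
    apply (hp.out.pow_dvd_iff_le_factorization hG0).mp
    rw [hG]
    decide
  have h2 : ¬ 11 ≤ (Nat.card ↥Cfsg.M24).factorization 2 := by
    intro h
    have := (hp.out.pow_dvd_iff_le_factorization hG0).mpr h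
    rw [hG] at this
    revert this
    decide
  have hfac : (Nat.card ↥Cfsg.M24).factorization 2 = 10 := by omega
  let P2s : Sylow 2 ↥Cfsg.M24 := Sylow.ofCard Cfsg.Agent.Helper9.Golay.P2
    (by rw [Cfsg.Agent.Helper9.Golay.card_P2, hfac])
  obtain ⟨c, hc⟩ := MulAction.exists_smul_eq ↥Cfsg.M24 P2s P
  subst hc
  let e1 : ↥Cfsg.Agent.Helper9.Golay.P2 ≃* ↥(c • P2s : Sylow 2 ↥Cfsg.M24) := Sylow.equivSMul P2s c
  let e : (↥((c • P2s : Sylow 2 ↥Cfsg.M24) : Subgroup ↥Cfsg.M24) ⧸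
      Subgroup.center ↥((c • P2s : Sylow 2 ↥Cfsg.M24) : Subgroup ↥Cfsg.M24)) ≃*
      Cfsg.Agent.Helper9.P2Q.Q2 :=
    QuotientGroup.congr _ _ e1.symm (Cfsg.Agent.Helper9.P2Q.map_center_mulEquiv e1.symm)
  exact (Cfsg.Agent.Helper9.P2Q.Model.comp e).claims

end Cfsg.Agent.S3171
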