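import Cfsg.Statements.S3174
import Cfsg.Agent.Helper5.Ru.CenterB
import Cfsg.Agent.Helper5.Ru.Quot

set_option autoImplicit false
open Cfsg

namespace Cfsg.Agent.S3174

/-- Let T be a finite 2-group of order at least 2^14 in which the fourth term of the upper central series has order 16. Let W be the centralizer in T of the third term Z₃(T), and suppose the Frattini subgroup of W has order at most 8 and lies in every subgroup of W of index at most 16. Then T has order exactly 2^14; the derived subgroup of W and the Frattini subgroup of W both equal Z₃(T), which is elementary abelian of order 8; the centre of W has order 8; W is normal in T with quotient dihedral of order 8; and W modulo its derived subgroup is elementary abelian of order 2^8. -/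
theorem result {T : Type*} [Group T] [Finite T]
    (hT : IsPGroup 2 T) (ha : 2 ^ 14 ≤ Nat.card T) (hb : Nat.card ↥(Subgroup.upperCentralSeries T 4) = 16)
    (W : Subgroup T) (hW : W = Subgroup.centralizer ((Subgroup.upperCentralSeries T 3 : Subgroup T) : Set T))
    (hc : Nat.card ↥(frattini ↥W) ≤ 8) (hd : ∀ U : Subgroup ↥W, U.index ≤ 16 → frattini ↥W ≤ U) :
    Nat.card T = 2 ^ 14 ∧
      (commutator ↥W).map W.subtype = Subgroup.upperCentralSeries T 3 ∧
      (frattini ↥W).map W.subtype = Subgroup.upperCentralSeries T 3 ∧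
      Nat.card ↥(Subgroup.center ↥W) = 8 ∧
      Nat.card ↥(Subgroup.upperCentralSeries T 3) = 8 ∧ (∀ z ∈ Subgroup.upperCentralSeries T 3, z ^ 2 = 1) ∧
      (∃ (_ : W.Normal), Nonempty (T ⧸ W ≃* DihedralGroup 4)) ∧
      Nat.card (↥W ⧸ commutator ↥W) = 2 ^ 8 ∧ (∀ x : ↥W ⧸ commutator ↥W, x ^ 2 = 1) := by
  have hWn : W.Normal := by rw [hW]; infer_instance
  obtain ⟨hZ, hidx, hF, hcT, hcW⟩ := Cfsg.Agent.Helper5.Ru.struct_main hT ha hb W hW hc
  have hZ4 : Subgroup.upperCentralSeries T 4 ≠ ⊤ := by
    intro h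
    have : Nat.card ↥(Subgroup.upperCentralSeries T 4) = Nat.card T := by
      rw [h]; exact Subgroup.card_top
    omega
  have hD := Cfsg.Agent.Helper5.Ru.commutator_eq_ucs_three hT hZ hZ4 W hF hd
  have hexp := Cfsg.Agent.Helper5.Ru.ucs_three_exponent hT W hW hF hD
  have hexp' : ∀ z ∈ Subgroup.upperCentralSeries T 3, z * z = 1 := by
    intro z hz
    have := hexp z hz
    rwa [pow_two] at this
  obtain ⟨hab1, hab2⟩ := Cfsg.Agent.Helper5.Ru.card_abelianization hT W hcW
    (by rw [hZ 3 (by omega)]; norm_num) hF hD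
  have hcenter := Cfsg.Agent.Helper5.Ru.card_center_eq hT hZ hZ4 W hW hcT hcW hF hd hexp'
  have hquot := Cfsg.Agent.Helper5.Ru.Quot.quot_dihedral hT
    (by rw [hZ 1 (by omega)]; norm_num) (by rw [hZ 2 (by omega)]; norm_num)
    (by rw [hZ 3 (by omega)]; norm_num) hexp W hW hWn hidx
  refine ⟨hcT, ?_, hF, hcenter, ?_, hexp, ⟨hWn, hquot⟩, hab1, hab2⟩
  · rw [Subgroup.map_subtype_commutator, hD]
  · rw [hZ 3 (by omega)]; norm_num

end Cfsg.Agent.S3174
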