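import Cfsg.Statements.S3175
import Cfsg.Agent.Helper5.Ru.Weak
import Cfsg.Agent.Helper5.Ru.AutB
import Cfsg.Agent.Helper5.NormalPComplement

set_option autoImplicit false
open Cfsg

namespace Cfsg.Agent.S3175

/-- Let G be a finite group whose Sylow 2-subgroup T has order at least 2^14 and whose upper central series has fourth term of order 16; let W be the centralizer in T of the third term, and suppose the Frattini subgroup of W has order at most 8 and lies in every subgroup of W of index at most 16. Then the normalizer of T in G has a normal 2-complement, and W is weakly closed in T with respect to G. -/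
theorem result {G : Type*} [Group G] [Finite G]
    (T : Sylow 2 G) (ha : 2 ^ 14 ≤ Nat.card ↥(T : Subgroup G))
    (hb : Nat.card ↥(Subgroup.upperCentralSeries ↥(T : Subgroup G) 4) = 16)
    (W : Subgroup ↥(T : Subgroup G))
    (hW : W = Subgroup.centralizer ((Subgroup.upperCentralSeries ↥(T : Subgroup G) 3 : Subgroup ↥(T : Subgroup G)) : Set ↥(T : Subgroup G)))
    (hc : Nat.card ↥(frattini ↥W) ≤ 8)
    (hd : ∀ U : Subgroup ↥W, U.index ≤ 16 → frattini ↥W ≤ U) :
    Cfsg.HasNormalPComplement 2 ↥(Subgroup.normalizer ((T : Subgroup G) : Set G)) ∧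
      Cfsg.IsWeaklyClosed (W.map (T : Subgroup G).subtype) (T : Subgroup G) := by
  refine ⟨?_, Cfsg.Agent.Helper5.Ru.weakly_closed_main T ha hb W hW hc hd⟩
  have hfact : Fact (Nat.Prime 2) := ⟨Nat.prime_two⟩
  have hT : IsPGroup 2 ↥(T : Subgroup G) := T.isPGroup'
  obtain ⟨hZ, -, hF, -, -⟩ := Cfsg.Agent.Helper5.Ru.struct_main hT ha hb W hW hc
  have hle : (T : Subgroup G) ≤ Subgroup.normalizer ((T : Subgroup G) : Set G) :=
    Subgroup.le_normalizer
  have hTn : ((T : Subgroup G).subgroupOf (Subgroup.normalizer ((T : Subgroup G) : Set G))).Normal :=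
    Subgroup.normal_in_normalizer
  apply Cfsg.Agent.Helper5.hasNormalPComplement_of_centralizer
    ((T : Subgroup G).subgroupOf (Subgroup.normalizer ((T : Subgroup G) : Set G))) (T.subtype hle)
  · rw [Sylow.coe_subtype]
    exact inf_le_left
  · intro y hy
    have hm : Odd (orderOf y) := Nat.coprime_two_right.mp hy
    have hαm : ((T : Subgroup G).normalizerMonoidHom y) ^ (orderOf y) = 1 := by
      rw [← map_pow, pow_orderOf_eq_one, map_one]
    have key := Cfsg.Agent.Helper5.Ru.aut_trivial hT hZ W hW hF
      ((T : Subgroup G).normalizerMonoidHom y) (orderOf y) hm hαm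
    rw [Subgroup.mem_centralizer_iff]
    intro t ht
    have ht' : (t : G) ∈ (T : Subgroup G) := Subgroup.mem_subgroupOf.mp ht
    have h1 := congrArg Subtype.val (key ⟨(t : G), ht'⟩)
    have h2 : ((y : G) * (t : G) * (y : G)⁻¹) = (t : G) := h1
    apply Subtype.ext
    show (t : G) * (y : G) = (y : G) * (t : G)
    calc (t : G) * (y : G) = ((y : G) * (t : G) * (y : G)⁻¹) * (y : G) := by rw [h2]
      _ = (y : G) * (t : G) := by group

end Cfsg.Agent.S3175
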