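import Mathlib
import Cfsg.Statements.S3178
import Cfsg.Agent.Helper2.Modular1
import Cfsg.Agent.Helper2.ThompsonTransfer2
import Cfsg.Agent.Lead.SylowLemmas
import Cfsg.Agent.Helper1.FrobPCompl

set_option autoImplicit false
open Cfsg

namespace Cfsg.Agent.S3178

open Cfsg.Agent.Helper2

/-- Groups with a modular Sylow 2-subgroup have a normal 2-complement. Let S, of order 2^(n+1) with n ≥ 3, be a Sylow 2-subgroup of a finite group G, and suppose S contains an element a of order 2^n and an involution b with b a b⁻¹ = a^(2^(n-1) + 1); so S is the non-abelian 2-group with a cyclic subgroup of index 2 that is neither dihedral, semidihedral nor generalized quaternion. Then G has a normal 2-complement. -/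
theorem result {G : Type*} [Group G] [Finite G]
    (S : Sylow 2 G) (n : ℕ) (hn : 3 ≤ n) (hS : Nat.card ↥(S : Subgroup G) = 2 ^ (n + 1))
    (a b : G) (ha : a ∈ (S : Subgroup G)) (hb : b ∈ (S : Subgroup G))
    (hao : orderOf a = 2 ^ n) (hbo : orderOf b = 2) (hrel : b * a * b⁻¹ = a ^ (2 ^ (n - 1) + 1)) :
    Cfsg.HasNormalPComplement 2 G := by
  classical
  haveI : Fact (Nat.Prime 2) := ⟨Nat.prime_two⟩
  -- the modular data on the Sylow subgroup
  obtain ⟨d, hdn, hdx, hdy⟩ : ∃ d : Modular.MDat ↥(S : Subgroup G), d.n = n ∧ (d.x : G) = a ∧ (d.y : G) = b := by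
    refine ⟨⟨n, ⟨a, ha⟩, ⟨b, hb⟩, hn, hS, ?_, ?_, ?_⟩, rfl, rfl, rfl⟩
    · exact (Subgroup.orderOf_mk a ha).trans hao
    · exact (Subgroup.orderOf_mk b hb).trans hbo
    · apply Subtype.ext
      simp only [Subgroup.coe_mul, Subgroup.coe_inv, Subgroup.coe_pow]
      exact hrel
  subst hdn
  set z : G := a ^ (2 ^ (d.n - 1)) with hz
  have hn3 := d.hn
  have hzd : ((d.z : ↥(S : Subgroup G)) : G) = z := by
    rw [d.z_eq, Subgroup.coe_pow, hdx]
  have hzS : z ∈ (S : Subgroup G) := by rw [← hzd]; exact (d.z).2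
  have hz1 : z ≠ 1 := by
    intro h
    apply d.z_ne_one
    apply Subtype.ext
    rw [hzd, h]; rfl
  have hzz : z * z = 1 := by
    have := congrArg Subtype.val d.z_sq
    rw [Subgroup.coe_mul, hzd] at this
    exact this
  have hzc : ∀ s ∈ (S : Subgroup G), z * s = s * z := by
    intro s hs
    have := congrArg Subtype.val (d.z_central ⟨s, hs⟩)
    rw [Subgroup.coe_mul, Subgroup.coe_mul, hzd] at this
    exact this
  have hbb : b * b = 1 := by
    have := pow_orderOf_eq_one b
    rw [hbo, pow_two] at this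
    exact this
  have hzb : z ≠ b := by
    intro h
    apply d.hy
    have : d.y = d.x ^ (2 ^ (d.n - 1)) := by
      apply Subtype.ext
      rw [Subgroup.coe_pow, hdx, hdy, ← h]
    rw [this]
    exact Subgroup.pow_mem _ (Subgroup.mem_zpowers _) _
  -- a ^ 2 commutes with b
  have ha2 : b * a ^ 2 * b⁻¹ = a ^ 2 := by
    rw [← conj_pow, hrel, ← pow_mul]
    have e1 : (2 ^ (d.n - 1) + 1) * 2 = 2 ^ d.n + 2 := by
      have : 2 ^ (d.n - 1) * 2 = 2 ^ d.n := by rw [← pow_succ]; congr 1; omega
      omega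
    rw [e1, pow_add, ← hao, pow_orderOf_eq_one, one_mul]
  set u : G := a ^ (2 ^ (d.n - 2)) with hu
  have huS : u ∈ (S : Subgroup G) := Subgroup.pow_mem _ ha _
  have hub : b * u = u * b := by
    have e1 : 2 ^ (d.n - 2) = 2 * 2 ^ (d.n - 3) := by rw [← pow_succ']; congr 1; omega
    have h1 : b * u * b⁻¹ = u := by
      rw [hu, e1, pow_mul, ← conj_pow, ha2]
    calc b * u = b * u * b⁻¹ * b := by group
      _ = u * b := by rw [h1]
  have huu : u * u = z := by
    rw [hu, hz, ← pow_add]
    congr 1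
    have : 2 ^ (d.n - 1) = 2 * 2 ^ (d.n - 2) := by rw [← pow_succ']; congr 1; omega
    omega
  -- no fusion of z and b
  have nofus : ∀ h : G, h * z * h⁻¹ ≠ b := by
    intro h hzh
    set A := (S : Subgroup G).map (MulAut.conj h).toMonoidHom with hA
    set M := Subgroup.centralizer ({b} : Set G) with hM
    have hAM : A ≤ M := by
      rintro _ ⟨s, hs, rfl⟩
      rw [hM, Subgroup.mem_centralizer_iff]
      intro c hc
      rw [Set.mem_singleton_iff] at hc
      rw [hc, ← hzh]
      change h * z * h⁻¹ * (h * s * h⁻¹) = h * s * h⁻¹ * (h * z * h⁻¹)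
      have := hzc s hs
      calc h * z * h⁻¹ * (h * s * h⁻¹) = h * (z * s) * h⁻¹ := by group
        _ = h * (s * z) * h⁻¹ := by rw [this]
        _ = h * s * h⁻¹ * (h * z * h⁻¹) := by group
    have hAp : IsPGroup 2 A := S.isPGroup'.map _
    have hAcard : Nat.card A = 2 ^ (Nat.card G).factorization 2 := by
      rw [hA, Cfsg.Agent.Lead.card_map_conj]
      exact S.card_eq_multiplicity
    have hAcard' : Nat.card A = 2 ^ (Nat.card M).factorization 2 := by
      apply Cfsg.Agent.Lead.card_eq_ppart_of_le hAM (le_top : M ≤ ⊤) hAp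
      rw [Subgroup.card_top]; exact hAcard
    set T := (S : Subgroup G) ⊓ M with hT
    have hTp : IsPGroup 2 T := S.isPGroup'.to_le inf_le_left
    obtain ⟨m, hmM, hm⟩ := Cfsg.Agent.Lead.exists_conj_le_of_card_eq_ppart hAM hAcard'
      (inf_le_right : T ≤ M) hTp
    have hk : ∀ t ∈ T, (h⁻¹ * m) * t * (h⁻¹ * m)⁻¹ ∈ (S : Subgroup G) := by
      intro t ht
      have h1 : m * t * m⁻¹ ∈ A := hm ⟨t, ht, rfl⟩
      obtain ⟨s, hs, hs2⟩ := h1
      change h * s * h⁻¹ = m * t * m⁻¹ at hs2
      have : (h⁻¹ * m) * t * (h⁻¹ * m)⁻¹ = s := by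
        calc (h⁻¹ * m) * t * (h⁻¹ * m)⁻¹ = h⁻¹ * (m * t * m⁻¹) * h := by group
          _ = h⁻¹ * (h * s * h⁻¹) * h := by rw [hs2]
          _ = s := by group
      rw [this]; exact hs
    set k := h⁻¹ * m with hkdef
    have hbM : b ∈ M := by
      rw [hM, Subgroup.mem_centralizer_iff]
      intro c hc
      rw [Set.mem_singleton_iff] at hc
      rw [hc]
    have huT : u ∈ T := by
      refine Subgroup.mem_inf.mpr ⟨huS, ?_⟩
      rw [hM, Subgroup.mem_centralizer_iff]
      intro c hc
      rw [Set.mem_singleton_iff] at hc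
      rw [hc]; exact hub
    have hbT : b ∈ T := Subgroup.mem_inf.mpr ⟨hb, hbM⟩
    -- k z k⁻¹ = z
    have h1 : k * z * k⁻¹ = z := by
      set σ : ↥(S : Subgroup G) := ⟨k * u * k⁻¹, hk u huT⟩ with hσ
      have hσσ : ((σ * σ : ↥(S : Subgroup G)) : G) = k * z * k⁻¹ := by
        rw [Subgroup.coe_mul, hσ]
        change k * u * k⁻¹ * (k * u * k⁻¹) = k * z * k⁻¹
        rw [← huu]; group
      have h2 : (σ * σ) * (σ * σ) = 1 := by
        apply Subtype.ext
        rw [Subgroup.coe_mul, hσσ, Subgroup.coe_one]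
        calc k * z * k⁻¹ * (k * z * k⁻¹) = k * (z * z) * k⁻¹ := by group
          _ = 1 := by rw [hzz]; group
      have h3 : σ * σ ≠ 1 := by
        intro h3
        have := congrArg Subtype.val h3
        rw [hσσ, Subgroup.coe_one] at this
        apply hz1
        calc z = k⁻¹ * (k * z * k⁻¹) * k := by group
          _ = 1 := by rw [this]; group
      have h4 := d.sq_invol σ h2 h3
      have := congrArg Subtype.val h4
      rw [hσσ, hzd] at this
      exact this
    -- k b k⁻¹ = z
    have h2 : k * b * k⁻¹ = z := by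
      have hmb : m * b * m⁻¹ = b := by
        rw [hM, Subgroup.mem_centralizer_iff] at hmM
        have := hmM b (Set.mem_singleton b)
        calc m * b * m⁻¹ = (m * b) * m⁻¹ := by group
          _ = (b * m) * m⁻¹ := by rw [this]
          _ = b := by group
      calc k * b * k⁻¹ = h⁻¹ * (m * b * m⁻¹) * h := by rw [hkdef]; group
        _ = h⁻¹ * (h * z * h⁻¹) * h := by rw [hmb, hzh]
        _ = z := by group
    apply hzb
    have h3 : k * z * k⁻¹ = k * b * k⁻¹ := by rw [h1, h2]
    exact mul_left_cancel (mul_right_cancel h3)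
  -- Thompson transfer
  have hle : Subgroup.zpowers a ≤ (S : Subgroup G) := by
    rw [Subgroup.zpowers_le]; exact ha
  have hrelIdx : (Subgroup.zpowers a).relIndex (S : Subgroup G) = 2 := by
    have h1 := ((Subgroup.zpowers a).subgroupOf (S : Subgroup G)).card_mul_index
    rw [Cfsg.Agent.Lead.card_subgroupOf_of_le hle, Nat.card_zpowers, hao, hS, pow_succ] at h1
    exact Nat.eq_of_mul_eq_mul_left (by positivity) h1
  rcases Cfsg.Agent.Helper2.thompson_transfer_classical S (Subgroup.zpowers a) hrelIdx b hbo with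
    ⟨M, hMn, hMidx, hbM⟩ | ⟨g, hg⟩
  · -- a normal subgroup of index two avoiding b
    haveI := hMn
    set Q : Subgroup ↥(S : Subgroup G) := M.subgroupOf (S : Subgroup G) with hQ
    have hQidx : Q.index = 2 := by
      have h1 : M.relIndex (S : Subgroup G) ∣ M.index := Subgroup.relIndex_dvd_index_of_normal M _
      rw [hMidx] at h1
      have h2 : M.relIndex (S : Subgroup G) ≠ 1 := by
        intro h2
        rw [Subgroup.relIndex_eq_one] at h2
        exact hbM (h2 hb)
      rcases (Nat.dvd_prime Nat.prime_two).mp h1 with h3 | h3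
      · exact absurd h3 h2
      · exact h3
    have hyQ : d.y ∉ Q := by
      rw [hQ, Subgroup.mem_subgroupOf, hdy]; exact hbM
    obtain ⟨g₀, hg₀Q, hg₀⟩ := d.cyclic_of_index_two Q hQidx hyQ
    have hg₀M : (g₀ : G) ∈ M := by
      rw [hQ, Subgroup.mem_subgroupOf] at hg₀Q; exact hg₀Q
    set S₁ := (S : Subgroup G) ⊓ M with hS₁
    have hS₁M : S₁ ≤ M := inf_le_right
    have hS₁card : Nat.card S₁ = 2 ^ (Nat.card M).factorization 2 := by
      rw [hS₁]
      apply Cfsg.Agent.Lead.card_inf_eq_ppart_of_normal (N := ⊤) le_top le_top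
      · rw [Subgroup.normalizer_eq_top]
      · exact S.isPGroup'
      · rw [Subgroup.card_top]; exact S.card_eq_multiplicity
    have hcard' : Nat.card (S₁.subgroupOf M) = 2 ^ (Nat.card M).factorization 2 := by
      rw [Cfsg.Agent.Lead.card_subgroupOf_of_le hS₁M]; exact hS₁card
    let P : Sylow 2 M := Sylow.ofCard (S₁.subgroupOf M) hcard'
    have hPcoe : (P : Subgroup M) = S₁.subgroupOf M := rfl
    have hPcyc : IsCyclic P := by
      have hgen : (⟨(g₀ : G), hg₀M⟩ : M) ∈ (P : Subgroup M) := by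
        rw [hPcoe, Subgroup.mem_subgroupOf]
        exact ⟨g₀.2, hg₀M⟩
      refine ⟨⟨⟨⟨(g₀ : G), hg₀M⟩, hgen⟩, ?_⟩⟩
      intro p
      have hp : ((p : M) : G) ∈ S₁ := by
        have h0 : (p : M) ∈ S₁.subgroupOf M := p.2
        rw [Subgroup.mem_subgroupOf] at h0
        exact h0
      have hpQ : (⟨((p : M) : G), hp.1⟩ : ↥(S : Subgroup G)) ∈ Q := by
        rw [hQ, Subgroup.mem_subgroupOf]; exact hp.2
      obtain ⟨j, hj⟩ := Subgroup.mem_zpowers_iff.mp (hg₀ _ hpQ)
      refine ⟨j, ?_⟩
      apply Subtype.ext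
      apply Subtype.ext
      have := congrArg Subtype.val hj
      simp only [Subgroup.coe_zpow] at this ⊢
      exact this
    have hmin : (Nat.card M).minFac = 2 := by
      rw [Nat.minFac_eq_two_iff]
      have h1 : Nat.card (S : Subgroup G) ∣ Nat.card G := Subgroup.card_subgroup_dvd_card _
      have h2 := M.card_mul_index
      rw [hMidx] at h2
      rw [hS, ← h2, pow_succ] at h1
      have h3 : 2 ^ d.n ∣ Nat.card M := (Nat.mul_dvd_mul_iff_right (by norm_num)).mp h1
      exact (dvd_pow_self 2 (by omega)).trans h3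
    have hcompl := IsCyclic.isComplement' hmin hPcyc
    have hMc : Cfsg.HasNormalPComplement 2 M := ⟨P, _, MonoidHom.normal_ker _, hcompl⟩
    exact Cfsg.Agent.Helper1.hasNormalPComplement_of_normal_ppow_index M (k := 1)
      (by rw [hMidx, pow_one]) hMc
  · -- b conjugate into ⟨a⟩: impossible
    exfalso
    have hgS : g * b * g⁻¹ ∈ (S : Subgroup G) := hle hg
    have hmem : (⟨g * b * g⁻¹, hgS⟩ : ↥(S : Subgroup G)) ∈ Subgroup.zpowers d.x := by
      obtain ⟨j, hj⟩ := Subgroup.mem_zpowers_iff.mp hg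
      rw [Subgroup.mem_zpowers_iff]
      refine ⟨j, ?_⟩
      apply Subtype.ext
      rw [Subgroup.coe_zpow, hdx]
      exact hj
    have h1 : (⟨g * b * g⁻¹, hgS⟩ : ↥(S : Subgroup G)) * ⟨g * b * g⁻¹, hgS⟩ = 1 := by
      apply Subtype.ext
      rw [Subgroup.coe_mul, Subgroup.coe_one]
      change g * b * g⁻¹ * (g * b * g⁻¹) = 1
      calc g * b * g⁻¹ * (g * b * g⁻¹) = g * (b * b) * g⁻¹ := by group
        _ = 1 := by rw [hbb]; group
    have h2 : (⟨g * b * g⁻¹, hgS⟩ : ↥(S : Subgroup G)) ≠ 1 := by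
      intro h2
      have := congrArg Subtype.val h2
      rw [Subgroup.coe_one] at this
      change g * b * g⁻¹ = 1 at this
      have hb1 : b = 1 := by
        calc b = g⁻¹ * (g * b * g⁻¹) * g := by group
          _ = 1 := by rw [this]; group
      rw [hb1, orderOf_one] at hbo
      omega
    have h3 := d.invol_of_mem_zpowers _ hmem h1 h2
    have h4 := congrArg Subtype.val h3
    rw [hzd] at h4
    change g * b * g⁻¹ = z at h4
    apply nofus g⁻¹
    rw [← h4]; group

end Cfsg.Agent.S3178
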