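import Mathlib
import Cfsg.Statements.S3179
import Cfsg.Agent.Helper2.GL52
import Cfsg.Agent.Helper2.PSL28
import Cfsg.Agent.S0243
import Cfsg.Agent.S1163
import Cfsg.Agent.S0280

set_option autoImplicit false
open Cfsg

namespace Cfsg.Agent.S3179

open Cfsg.Agent.Helper2

/-- Let X be a section of the general linear group GL(5, 2), that is, a quotient of a subgroup of it. If X is isomorphic to PSL(2, 2^n) for some n ≥ 2, to a Suzuki group over the field with 2^(2m+1) elements for some m ≥ 1, or to PSU(3, 2^n) for some n ≥ 2, then X is isomorphic to PSL(2, 4). -/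
theorem result {H : Subgroup (GL (Fin 5) (ZMod 2))}
    {K : Subgroup ↥H} [K.Normal]
    (hX : (∃ (n : ℕ) (F : Type) (_ : Field F) (_ : Fintype F), 2 ≤ n ∧ Fintype.card F = 2 ^ n ∧
        Nonempty (↥H ⧸ K ≃* Matrix.ProjectiveSpecialLinearGroup (Fin 2) F)) ∨
      (∃ (m : ℕ) (F : Type) (_ : Field F) (_ : Fintype F), 1 ≤ m ∧ Fintype.card F = 2 ^ (2 * m + 1) ∧
        Nonempty (↥H ⧸ K ≃* ↥(Cfsg.Lie.Sz F (2 ^ (m + 1))))) ∨
      (∃ (n : ℕ) (F : Type) (_ : Field F) (_ : Fintype F), 2 ≤ n ∧ Fintype.card F = 4 ^ n ∧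
        Nonempty (↥H ⧸ K ≃* Cfsg.PSU 3 F (2 ^ n)))) :
    ∃ (F : Type) (_ : Field F) (_ : Fintype F), Fintype.card F = 4 ∧
      Nonempty (↥H ⧸ K ≃* Matrix.ProjectiveSpecialLinearGroup (Fin 2) F) := by
    classical
    have hdvd : Nat.card (↥H ⧸ K) ∣ 9999360 := by
      have h1 : Nat.card (↥H ⧸ K) ∣ Nat.card H := by
        rw [Subgroup.card_eq_card_quotient_mul_card_subgroup K]; exact dvd_mul_right _ _
      have h2 : Nat.card H ∣ Nat.card (GL (Fin 5) (ZMod 2)) := Subgroup.card_subgroup_dvd_card H
      rw [GL52.card_G5] at h2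
      exact h1.trans h2
    have hno9 : ∀ y : ↥H ⧸ K, y ^ 9 = 1 → y ^ 3 = 1 := by
      intro y hy9
      by_contra hy3
      have : Fact (Nat.Prime 3) := ⟨by norm_num⟩
      have hord : orderOf y = 3 ^ (1 + 1) :=
        orderOf_eq_prime_pow (by simpa using hy3) (by simpa using hy9)
      obtain ⟨h, rfl⟩ := QuotientGroup.mk_surjective y
      have hd : orderOf (QuotientGroup.mk h : ↥H ⧸ K) ∣ orderOf h :=
        orderOf_map_dvd (QuotientGroup.mk' K) h
      rw [hord] at hd
      obtain ⟨k, hk⟩ := hd
      have hpos : 0 < orderOf h := orderOf_pos h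
      have h9' : (h ^ k) ^ 9 = 1 := by
        rw [← pow_mul, mul_comm, show 9 * k = orderOf h by rw [hk]; norm_num, pow_orderOf_eq_one]
      have h3' : (h ^ k) ^ 3 = 1 := by
        have := GL52.no_order9 ((h ^ k : H) : GL (Fin 5) (ZMod 2))
          (by rw [← Subgroup.coe_pow, h9']; rfl)
        apply Subtype.ext
        rw [Subgroup.coe_pow]; exact this
      rw [← pow_mul] at h3'
      have h4 := orderOf_dvd_of_pow_eq_one h3'
      rw [hk] at h4
      have hk0 : 0 < k := by
        rcases Nat.eq_zero_or_pos k with h0 | h0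
        · rw [h0, mul_zero] at hk; omega
        · exact h0
      have := Nat.le_of_dvd (by omega) h4
      omega
    rcases hX with ⟨n, F, _, _, hn, hF, ⟨e⟩⟩ | ⟨m, F, _, _, hm, hF, ⟨e⟩⟩ | ⟨n, F, _, _, hn, hF, ⟨e⟩⟩
    · -- PSL(2, 2^n)
      have hcard := Cfsg.Agent.S0243.result hF 2 (le_refl 2)
      rw [← Nat.card_congr e.toEquiv, Fin.prod_univ_two] at hcard
      simp only [Fin.val_zero, Fin.val_one, pow_zero, pow_one] at hcard
      obtain ⟨r, hr⟩ : ∃ r, 2 ^ n = r + 1 := ⟨2 ^ n - 1, by have := Nat.one_le_two_pow (n := n); omega⟩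
      have hodd : Odd r := by
        have : Even (r + 1) := by
          rw [← hr]; exact (Nat.even_pow.mpr ⟨even_two, by omega⟩)
        rcases Nat.even_or_odd r with h | h
        · exact absurd this (by simpa [Nat.even_add_one] using h)
        · exact h
      have hg : Nat.gcd 2 r = 1 := Nat.coprime_two_left.mpr hodd
      have e1 : (r + 1) ^ 2 - 1 = r * (r + 2) := by
        have : (r + 1) ^ 2 = r * (r + 2) + 1 := by ring
        omega
      have e2 : (r + 1) ^ 2 - (r + 1) = (r + 1) * r := by
        have : (r + 1) ^ 2 = (r + 1) * r + (r + 1) := by ring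
        omega
      rw [hr, Nat.add_sub_cancel, hg, e1, e2, one_mul] at hcard
      have hr0 : 0 < r := hodd.pos
      have hc : Nat.card (↥H ⧸ K) = (r + 2) * (r + 1) * r := by
        apply Nat.eq_of_mul_eq_mul_left hr0
        rw [hcard]; ring
      have h2n : 2 ^ n ∣ 9999360 := by
        refine dvd_trans ?_ hdvd
        rw [hc, hr]
        exact ⟨(r + 2) * r, by ring⟩
      have hn10 : n ≤ 10 := by
        by_contra hcon
        push Not at hcon
        have : 2 ^ 11 ∣ 9999360 := (pow_dvd_pow 2 hcon).trans h2n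
        norm_num at this
      have hr' : r = 2 ^ n - 1 := by omega
      rw [hc, hr'] at hdvd
      clear hc hcard e1 e2 hg hodd hr0
      interval_cases n
      · exact ⟨F, _, _, by rw [hF]; norm_num, ⟨e⟩⟩
      · exfalso
        obtain ⟨g, hg9, hg3⟩ := PSL28.exists_order9 (F := F) (by rw [hF]; norm_num)
        apply hg3
        have := hno9 (e.symm g) (by rw [← map_pow, hg9, map_one])
        rw [← map_pow] at this
        have h5 := congrArg e this
        rw [MulEquiv.apply_symm_apply, map_one] at h5
        exact h5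
      all_goals
        exfalso
        norm_num at hdvd
    · -- Sz
      have hcard := (Cfsg.Agent.S1163.result hm hF).1
      rw [← Nat.card_congr e.toEquiv] at hcard
      have h2m : (2 ^ (2 * m + 1)) ^ 2 ∣ 9999360 := by
        refine dvd_trans ?_ hdvd
        rw [hcard, mul_assoc]
        exact dvd_mul_right _ _
      have hm2 : m ≤ 2 := by
        by_contra hcon
        push Not at hcon
        have h11 : 11 ≤ (2 * m + 1) * 2 := by omega
        have : 2 ^ 11 ∣ 9999360 := by
          rw [← pow_mul] at h2m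
          exact (pow_dvd_pow 2 h11).trans h2m
        norm_num at this
      rw [hcard] at hdvd
      exfalso
      interval_cases m
      all_goals norm_num at hdvd
    · -- PSU(3, 2^n)
      have hF' : Fintype.card F = (2 ^ n) ^ 2 := by
        rw [hF, ← pow_mul, mul_comm, pow_mul]; norm_num
      have hcard := Cfsg.Agent.S0280.result hF' 3 (by norm_num)
      rw [← Nat.card_congr e.toEquiv] at hcard
      have hq3 : (2 ^ n) ^ 3 ∣ Nat.gcd 3 (2 ^ n + 1) * (2 ^ n + 1) * Nat.card (↥H ⧸ K) := by
        rw [mul_assoc, hcard]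
        norm_num
      have hoddq : Odd (2 ^ n + 1) := by
        apply Even.add_one
        exact (Nat.even_pow.mpr ⟨even_two, by omega⟩)
      have hoddg : Odd (Nat.gcd 3 (2 ^ n + 1)) := Odd.of_dvd_nat hoddq (Nat.gcd_dvd_right _ _)
      have hcop : Nat.Coprime ((2 ^ n) ^ 3) (Nat.gcd 3 (2 ^ n + 1) * (2 ^ n + 1)) := by
        apply Nat.Coprime.pow_left
        apply Nat.Coprime.pow_left
        exact Nat.coprime_two_left.mpr (hoddg.mul hoddq)
      have h2n : (2 ^ n) ^ 3 ∣ 9999360 := (hcop.dvd_of_dvd_mul_left hq3).trans hdvd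
      have hn3 : n ≤ 3 := by
        by_contra hcon
        push Not at hcon
        have h11 : 11 ≤ n * 3 := by omega
        have : 2 ^ 11 ∣ 9999360 := by
          rw [← pow_mul] at h2n
          exact (pow_dvd_pow 2 h11).trans h2n
        norm_num at this
      exfalso
      clear hq3 hcop hoddg hoddq h2n hno9
      generalize Nat.card (↥H ⧸ K) = c at hcard hdvd
      interval_cases n
      · norm_num [Finset.prod_range_succ, Nat.even_add_one] at hcard
        have : c = 62400 := by omega
        rw [this] at hdvd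
        norm_num at hdvd
      · norm_num [Finset.prod_range_succ, Nat.even_add_one] at hcard
        have : c = 5515776 := by omega
        rw [this] at hdvd
        norm_num at hdvd

end Cfsg.Agent.S3179
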