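import Mathlib
import Cfsg.Statements.S3180
import Cfsg.Agent.Helper2.Conj

set_option autoImplicit false
open Cfsg

namespace Cfsg.Agent.S3180

open Cfsg.Agent.Helper2

/-- Let P be a Sylow p-subgroup of a finite group J and P₁ a subgroup of P that is weakly closed in P with respect to J. If J acts on a set and two points, each fixed by every element of P₁, lie in one J-orbit, then they lie in one orbit of the normalizer of P₁ in J. -/
theorem result {J : Type*} [Group J] [Finite J]
    {p : ℕ} [Fact p.Prime] (P : Sylow p J) (P₁ : Subgroup J) (hW : Cfsg.IsWeaklyClosed P₁ (P : Subgroup J))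
    {Ω : Type*} [MulAction J Ω] (x y : Ω) (hx : ∀ g ∈ P₁, g • x = x) (hy : ∀ g ∈ P₁, g • y = y)
    (hc : ∃ g : J, g • x = y) :
    ∃ g ∈ Subgroup.normalizer (P₁ : Set J), g • x = y := by
  obtain ⟨g, hg⟩ := hc
  -- C = stabilizer of y
  have hWC : P₁ ≤ MulAction.stabilizer J y := fun w hw => MulAction.mem_stabilizer_iff.mpr (hy w hw)
  have hgC : cj g P₁ ≤ MulAction.stabilizer J y := by
    rw [cj_le_iff]
    intro w hw
    rw [MulAction.mem_stabilizer_iff, ← hg, mul_smul, mul_smul, inv_smul_smul, hx w hw]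
  obtain ⟨c, hcC, hcg⟩ := weaklyClosed_fusion P P₁ hW _ hWC g hgC
  refine ⟨c * g, (mem_normalizer_iff_cj P₁ (c * g)).mpr hcg, ?_⟩
  rw [mul_smul, hg]
  exact MulAction.mem_stabilizer_iff.mp hcC

end Cfsg.Agent.S3180
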