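import Mathlib
import Cfsg.Statements.S3183
import Cfsg.Agent.Helper2.WeakClosedAB
import Cfsg.Agent.Helper2.SylowInt

set_option autoImplicit false
open Cfsg

namespace Cfsg.Agent.S3183

open Cfsg.Agent.Helper2

/-- Let G be a finite group in which the intersection of any two distinct Sylow 2-subgroups is contained in the centre of some Sylow 2-subgroup, and let S be a Sylow 2-subgroup. Then for every x in S the centralizer of x in S is a Sylow 2-subgroup of the centralizer of x in G (no 2-subgroup centralizing x is larger), and for every other Sylow 2-subgroup T the intersection S ∩ T lies in both the centre of S and the centre of T. -/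
theorem result {G : Type*} [Group G] [Finite G]
    (hCI : ∀ S T : Sylow 2 G, S ≠ T → ∃ U : Sylow 2 G,
      (S : Subgroup G) ⊓ (T : Subgroup G) ≤ (Subgroup.center ↥(U : Subgroup G)).map (U : Subgroup G).subtype)
    (S : Sylow 2 G) :
    (∀ x ∈ (S : Subgroup G), ∀ P : Subgroup G, IsPGroup 2 ↥P → P ≤ Subgroup.centralizer ({x} : Set G) →
        Nat.card ↥P ≤ Nat.card ↥((S : Subgroup G) ⊓ Subgroup.centralizer ({x} : Set G))) ∧
    (∀ T : Sylow 2 G, T ≠ S →
        (S : Subgroup G) ⊓ (T : Subgroup G) ≤
          (Subgroup.center ↥(S : Subgroup G)).map (S : Subgroup G).subtype ⊓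
            (Subgroup.center ↥(T : Subgroup G)).map (T : Subgroup G).subtype) := by
    classical
    have hfp : Fact (Nat.Prime 2) := ⟨Nat.prime_two⟩
    have hZmem : ∀ (U : Sylow 2 G) (x : G),
        x ∈ (Subgroup.center ↥(U : Subgroup G)).map (U : Subgroup G).subtype ↔
          x ∈ (U : Subgroup G) ∧ ∀ u ∈ (U : Subgroup G), u * x = x * u := by
      intro U x
      constructor
      · rintro ⟨z, hz, rfl⟩
        refine ⟨z.2, fun u hu => ?_⟩
        have := Subgroup.mem_center_iff.mp hz ⟨u, hu⟩
        exact congrArg Subtype.val this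
      · rintro ⟨hxU, hx⟩
        refine ⟨⟨x, hxU⟩, ?_, rfl⟩
        apply Subgroup.mem_center_iff.mpr
        intro u
        exact Subtype.ext (hx u.1 u.2)
    -- Key lemma
    have hK : ∀ (S : Sylow 2 G) (x : G), x ∈ (S : Subgroup G) →
        (∃ U : Sylow 2 G, x ∈ (Subgroup.center ↥(U : Subgroup G)).map (U : Subgroup G).subtype) →
        x ∈ (Subgroup.center ↥(S : Subgroup G)).map (S : Subgroup G).subtype := by
      intro S x hxS ⟨U, hxU⟩
      rw [hZmem] at hxU ⊢
      refine ⟨hxS, ?_⟩
      by_contra hcon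
      push Not at hcon
      obtain ⟨s, hsS, hsx⟩ := hcon
      set C := Subgroup.centralizer ({x} : Set G) with hC
      have hmemC : ∀ y : G, y ∈ C ↔ y * x = x * y := fun y => Subgroup.mem_centralizer_singleton_iff
      have hUC : (U : Subgroup G) ≤ C := fun u hu => (hmemC u).mpr (hxU.2 u hu)
      have hxC : x ∈ C := (hmemC x).mpr rfl
      have hsC : s ∉ C := fun h => hsx ((hmemC s).mp h)
      -- a Sylow subgroup of G inside C containing S ⊓ C
      have hSCp : IsPGroup 2 ((S : Subgroup G) ⊓ C : Subgroup G) := S.isPGroup'.to_le inf_le_left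
      obtain ⟨R₀, hR₀⟩ := SylowInt.exists_sylow_ge C _ hSCp
      have hR₀card : Nat.card (R₀ : Subgroup C) = Nat.card (S : Subgroup G) := by
        rw [SylowInt.card_sylow_eq R₀ (U.subtype hUC), Sylow.coe_subtype,
          Nat.card_congr (Subgroup.subgroupOfEquivOfLe hUC).toEquiv]
        exact SylowInt.card_sylow_eq U S
      have hRp : IsPGroup 2 ((R₀ : Subgroup C).map C.subtype) := R₀.isPGroup'.map _
      obtain ⟨R', hR'⟩ := hRp.exists_le_sylow
      have hReq : (R₀ : Subgroup C).map C.subtype = (R' : Subgroup G) := by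
        apply Subgroup.eq_of_le_of_card_ge hR'
        rw [Subgroup.card_map_of_injective C.subtype_injective, hR₀card]
        exact (SylowInt.card_sylow_eq R' S).le
      have hR'C : (R' : Subgroup G) ≤ C := by
        rw [← hReq]
        exact Subgroup.map_subtype_le _
      have hSCR' : (S : Subgroup G) ⊓ C ≤ (R' : Subgroup G) := by
        intro y hy
        rw [← hReq]
        exact ⟨⟨y, hy.2⟩, hR₀ (Subgroup.mem_subgroupOf.mpr hy), rfl⟩
      have hR'S : S ≠ R' := by
        rintro rfl
        exact hsC (hR'C hsS)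
      obtain ⟨U', hU'⟩ := hCI S R' hR'S
      have hDeq : (S : Subgroup G) ⊓ (R' : Subgroup G) = (S : Subgroup G) ⊓ C :=
        le_antisymm (inf_le_inf_left _ hR'C) (le_inf inf_le_left hSCR')
      rw [hDeq] at hU'
      set D' := (S : Subgroup G) ⊓ C with hD'
      have hD'S : D' ≤ (S : Subgroup G) := inf_le_left
      have hD'ne : D' ≠ (S : Subgroup G) := by
        intro h
        apply hsC
        have : s ∈ D' := h ▸ hsS
        exact this.2
      -- `U'` centralizes `D'`
      have hU'cent : ∀ u ∈ (U' : Subgroup G), ∀ d ∈ D', u * d = d * u := by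
        intro u hu d hd
        exact ((hZmem U' d).mp (hU' hd)).2 u hu
      -- `S ⊓ N(D')` centralizes `D'`
      have hU'M : (U' : Subgroup G) ≤ Subgroup.normalizer (D' : Set G) := by
        intro u hu
        apply Subgroup.centralizer_le_normalizer
        rw [Subgroup.mem_centralizer_iff]
        intro d hd
        exact (hU'cent u hu d hd).symm
      have hT₀p : IsPGroup 2 ((S : Subgroup G) ⊓ Subgroup.normalizer (D' : Set G) : Subgroup G) :=
        S.isPGroup'.to_le inf_le_left
      obtain ⟨m, hm, hmU'⟩ := WeakClosedAB.exists_cj_le_sylow_in U' _ hU'M _ hT₀p inf_le_right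
      have hmD' : cj m D' = D' := (mem_normalizer_iff_cj D' m).mp hm
      obtain ⟨y, hyS, hyN, hyD⟩ := SylowInt.exists_mem_normalizer_not_mem (S : Subgroup G)
        S.isPGroup' D' hD'S hD'ne
      apply hyD
      refine ⟨hyS, ?_⟩
      apply (hmemC y).mpr
      -- `m y m⁻¹ ∈ U'` commutes with `m x m⁻¹ ∈ D'`
      have h1 : m * y * m⁻¹ ∈ (U' : Subgroup G) := hmU' (conj_mem_cj _ m y ⟨hyS, hyN⟩)
      have hxD' : x ∈ D' := ⟨hxS, hxC⟩
      have h2 : m * x * m⁻¹ ∈ D' := by
        rw [← hmD']
        exact conj_mem_cj _ m x hxD'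
      have h3 := hU'cent _ h1 _ h2
      have h4 : m * (y * x) * m⁻¹ = m * (x * y) * m⁻¹ := by
        calc m * (y * x) * m⁻¹ = m * y * m⁻¹ * (m * x * m⁻¹) := by group
          _ = m * x * m⁻¹ * (m * y * m⁻¹) := h3
          _ = _ := by group
      exact mul_left_cancel (mul_right_cancel h4)
    have hpart2 : ∀ S T : Sylow 2 G, T ≠ S → (S : Subgroup G) ⊓ (T : Subgroup G) ≤
        (Subgroup.center ↥(S : Subgroup G)).map (S : Subgroup G).subtype ⊓
          (Subgroup.center ↥(T : Subgroup G)).map (T : Subgroup G).subtype := by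
      intro S T hTS x hx
      obtain ⟨U, hU⟩ := hCI S T (Ne.symm hTS)
      exact ⟨hK S x hx.1 ⟨U, hU hx⟩, hK T x hx.2 ⟨U, hU hx⟩⟩
    refine ⟨?_, fun T hT => hpart2 S T hT⟩
    intro x hxS P hP hPC
    have hmemC : ∀ y : G, y ∈ Subgroup.centralizer ({x} : Set G) ↔ y * x = x * y :=
      fun y => Subgroup.mem_centralizer_singleton_iff
    have hxp : IsPGroup 2 (Subgroup.zpowers x) := S.isPGroup'.to_le (Subgroup.zpowers_le.mpr hxS)
    have hPN : P ≤ Subgroup.normalizer ((Subgroup.zpowers x : Subgroup G) : Set G) := by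
      intro y hy
      apply Subgroup.centralizer_le_normalizer
      rw [Subgroup.mem_centralizer_iff]
      intro z hz
      obtain ⟨k, rfl⟩ := Subgroup.mem_zpowers_iff.mp hz
      have hc : Commute y x := (hmemC y).mp (hPC hy)
      exact ((hc.zpow_right k).eq).symm
    have hQ : IsPGroup 2 (P ⊔ Subgroup.zpowers x : Subgroup G) := hP.to_sup_of_normal_right' hxp hPN
    obtain ⟨T, hT⟩ := hQ.exists_le_sylow
    have hPT : P ≤ (T : Subgroup G) := le_sup_left.trans hT
    have hxT : x ∈ (T : Subgroup G) := hT (Subgroup.mem_sup_right (Subgroup.mem_zpowers x))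
    by_cases hTS : T = S
    · subst hTS
      exact Subgroup.card_le_of_le (le_inf hPT hPC)
    · have hx2' : x ∈ (Subgroup.center ↥(S : Subgroup G)).map (S : Subgroup G).subtype :=
        (hpart2 S T hTS ⟨hxS, hxT⟩).1
      have hx2 := (hZmem S x).mp hx2'
      have hSC : (S : Subgroup G) ≤ Subgroup.centralizer ({x} : Set G) :=
        fun s hs => (hmemC s).mpr (hx2.2 s hs)
      rw [inf_of_le_left hSC, SylowInt.card_sylow_eq S T]
      exact Subgroup.card_le_of_le hPT

end Cfsg.Agent.S3183
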