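import Mathlib
import Cfsg.Statements.S3184
import Cfsg.Agent.Helper2.ZStarJ
import Cfsg.Agent.Helper2.Invol

set_option autoImplicit false
open Cfsg

namespace Cfsg.Agent.S3184

open Cfsg.Agent.Helper2

/-- Let G be a finite group in which the intersection of any two distinct Sylow 2-subgroups is contained in the centre of some Sylow 2-subgroup, and let S be a Sylow 2-subgroup. If C is a nontrivial cyclic characteristic subgroup of S, then the involution of C is central modulo the largest normal subgroup of odd order of G: each of its conjugates has the same image in G/O(G). -/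
theorem result {G : Type*} [Group G] [Finite G]
    (hCI : ∀ S T : Sylow 2 G, S ≠ T → ∃ U : Sylow 2 G,
      (S : Subgroup G) ⊓ (T : Subgroup G) ≤ (Subgroup.center ↥(U : Subgroup G)).map (U : Subgroup G).subtype)
    (S : Sylow 2 G) (C : Subgroup ↥(S : Subgroup G)) (hC : C ≠ ⊥) (hCc : IsCyclic ↥C) (hCh : C.Characteristic)
    (c : ↥(S : Subgroup G)) (hc : c ∈ C) (hc2 : orderOf c = 2) :
    ∀ g : G, (QuotientGroup.mk (s := Cfsg.oddCore G) (g * (c : G) * g⁻¹)) =
      QuotientGroup.mk (s := Cfsg.oddCore G) (c : G) := by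
  haveI : Fact (Nat.Prime 2) := ⟨Nat.prime_two⟩
  have hN : ∀ n ∈ Subgroup.normalizer ((S : Subgroup G) : Set G), n * (c : G) * n⁻¹ = c :=
    fun n hn => ZStar.char_invol_fixed C hCc hCh c hc hc2 n hn
  have hwc : ∀ g : G, g * (c : G) * g⁻¹ ∈ S → g * (c : G) * g⁻¹ = c :=
    fun g hg => ZStar.wc_of_central_inter' S hCI (c : G) c.2 hN g hg
  have hc2' : orderOf (c : G) = 2 := by rw [Subgroup.orderOf_coe]; exact hc2
  have hcc : (c : G) * (c : G) = 1 := mul_self_of_orderOf_two hc2'
  have hci : (c : G)⁻¹ = c := inv_eq_of_mul_eq_one_left hcc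
  intro g
  have h1 := ZStar.glauberman_zstar_two S (c : G) c.2 hwc g
  symm
  rw [QuotientGroup.eq]
  have : (c : G)⁻¹ * (g * (c : G) * g⁻¹) = (c : G) * g * (c : G)⁻¹ * g⁻¹ := by
    rw [hci]; group
  rw [this]; exact h1

end Cfsg.Agent.S3184
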