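import Mathlib
import Cfsg.Statements.S3190
import Cfsg.Agent.Helper2.CIT3
import Cfsg.Agent.Helper5.PGroupCenter

set_option autoImplicit false
open Cfsg

namespace Cfsg.Agent.S3190

open Cfsg.Agent.Helper2

/-- Let p be an odd prime and, inside a finite group, let P be a p-subgroup normalized by a Klein four-group T. Let R be a subgroup of P, normal in P and normalized by T, such that P is the product of R with the centralizer of T in P. If T centralizes the centre of P, then T centralizes the centre of R. -/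
theorem result {X : Type*} [Group X] [Finite X]
    {p : ℕ} (hp : p.Prime) (hodd : Odd p) (P T R : Subgroup X) (hP : IsPGroup p ↥P) (hT : IsKleinFour ↥T)
    (hTP : T ≤ Subgroup.normalizer (P : Set X)) (hRP : R ≤ P) (hRn : (R.subgroupOf P).Normal)
    (hTR : T ≤ Subgroup.normalizer (R : Set X)) (hfac : R ⊔ (P ⊓ Subgroup.centralizer (T : Set X)) = P)
    (hZ : T ≤ Subgroup.centralizer (((Subgroup.center ↥P).map P.subtype : Subgroup X) : Set X)) :
    T ≤ Subgroup.centralizer (((Subgroup.center ↥R).map R.subtype : Subgroup X) : Set X) := by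
    haveI : Fact p.Prime := ⟨hp⟩
    -- basic conjugation facts
    have hPR : ∀ g ∈ P, ∀ r ∈ R, g * r * g⁻¹ ∈ R := by
      intro g hg r hr
      have := hRn.conj_mem ⟨r, hRP hr⟩ (by rw [Subgroup.mem_subgroupOf]; exact hr) ⟨g, hg⟩
      rw [Subgroup.mem_subgroupOf] at this
      simpa using this
    have hPR' : ∀ g ∈ P, ∀ r ∈ R, g⁻¹ * r * g ∈ R := by
      intro g hg r hr
      have := hPR g⁻¹ (P.inv_mem hg) r hr
      simpa using this
    have hTRc : ∀ s ∈ T, ∀ r ∈ R, s * r * s⁻¹ ∈ R := by
      intro s hs r hr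
      exact (Subgroup.mem_normalizer_iff.mp (hTR hs) r).mp hr
    have hTRc' : ∀ s ∈ T, ∀ r ∈ R, s⁻¹ * r * s ∈ R := by
      intro s hs r hr
      have := hTRc s⁻¹ (T.inv_mem hs) r hr
      simpa using this
    have conjC : ∀ g : X, (∀ r ∈ R, g⁻¹ * r * g ∈ R) → ∀ z : X, (∀ r ∈ R, r * z = z * r) →
        ∀ r ∈ R, r * (g * z * g⁻¹) = g * z * g⁻¹ * r := by
      intro g hg z hz r hr
      have h := hz (g⁻¹ * r * g) (hg r hr)
      calc r * (g * z * g⁻¹) = g * ((g⁻¹ * r * g) * z) * g⁻¹ := by group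
        _ = g * (z * (g⁻¹ * r * g)) * g⁻¹ := by rw [h]
        _ = g * z * g⁻¹ * r := by group
    intro t ht
    have htt : t * t = 1 := by
      have h2 := hT.exponent_two
      have h3 : (⟨t, ht⟩ : ↥T) ^ 2 = 1 := by
        rw [← h2]; exact Monoid.pow_exponent_eq_one _
      have h4 := congrArg Subtype.val h3
      simpa [pow_two] using h4
    have htinv : t⁻¹ = t := inv_eq_of_mul_eq_one_right htt
    -- the subgroup of elements of Z(R) inverted by t
    let I : Subgroup X :=
      { carrier := {z | z ∈ R ∧ (∀ r ∈ R, r * z = z * r) ∧ t * z * t⁻¹ = z⁻¹}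
        one_mem' := ⟨R.one_mem, by simp, by simp⟩
        mul_mem' := by
          rintro a b ⟨haR, hac, hat⟩ ⟨hbR, hbc, hbt⟩
          refine ⟨R.mul_mem haR hbR, ?_, ?_⟩
          · intro r hr
            rw [← mul_assoc, hac r hr, mul_assoc, hbc r hr, mul_assoc]
          · have h1 : t * (a * b) * t⁻¹ = (t * a * t⁻¹) * (t * b * t⁻¹) := by group
            have h2 := hac b hbR
            rw [h1, hat, hbt, ← mul_inv_rev, h2]
        inv_mem' := by
          rintro a ⟨haR, hac, hat⟩
          refine ⟨R.inv_mem haR, ?_, ?_⟩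
          · intro r hr
            have := hac r hr
            calc r * a⁻¹ = a⁻¹ * (a * r) * a⁻¹ := by group
              _ = a⁻¹ * (r * a) * a⁻¹ := by rw [this]
              _ = a⁻¹ * r := by group
          · have h1 : t * a⁻¹ * t⁻¹ = (t * a * t⁻¹)⁻¹ := by group
            rw [h1, hat] }
    have hImem : ∀ z, z ∈ I ↔ z ∈ R ∧ (∀ r ∈ R, r * z = z * r) ∧ t * z * t⁻¹ = z⁻¹ := fun z => Iff.rfl
    have hIP : I ≤ P := fun z hz => hRP ((hImem z).mp hz).1
    have hPN : P ≤ Subgroup.normalizer (I : Set X) := by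
      rw [← hfac]
      apply sup_le
      · intro r hr
        apply CIT.mem_normalizer_of_forall_conj_mem
        intro z hz
        obtain ⟨hzR, hzc, hzt⟩ := (hImem z).mp hz
        have : r * z * r⁻¹ = z := by rw [hzc r hr]; group
        rw [this]; exact hz
      · intro k hk
        obtain ⟨hkP, hkC⟩ := Subgroup.mem_inf.mp hk
        apply CIT.mem_normalizer_of_forall_conj_mem
        intro z hz
        obtain ⟨hzR, hzc, hzt⟩ := (hImem z).mp hz
        refine (hImem _).mpr ⟨hPR k hkP z hzR, conjC k (hPR' k hkP) z hzc, ?_⟩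
        have hkt : t * k = k * t := (Subgroup.mem_centralizer_iff.mp hkC t ht)
        calc t * (k * z * k⁻¹) * t⁻¹ = (t * k) * z * k⁻¹ * t⁻¹ := by group
          _ = k * t * z * k⁻¹ * t⁻¹ := by rw [hkt]
          _ = k * (t * z * t⁻¹) * (t * k⁻¹ * t⁻¹) := by group
          _ = k * z⁻¹ * (t * k * t⁻¹)⁻¹ := by rw [hzt]; group
          _ = k * z⁻¹ * (k * t * t⁻¹)⁻¹ := by rw [hkt]
          _ = (k * z * k⁻¹)⁻¹ := by group
    have hI1 : I = ⊥ := by
      by_contra hne
      obtain ⟨x, hxI, hxo, hxc⟩ := Cfsg.Agent.Helper5.exists_orderOf_eq_prime_central P I hP hIP hne hPN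
      obtain ⟨hxR, hxcR, hxt⟩ := (hImem x).mp hxI
      have hxZP : x ∈ (Subgroup.center ↥P).map P.subtype := by
        refine ⟨⟨x, hRP hxR⟩, ?_, rfl⟩
        rw [SetLike.mem_coe, Subgroup.mem_center_iff]
        intro g
        apply Subtype.ext
        exact hxc g.1 g.2
      have hcomm := Subgroup.mem_centralizer_iff.mp (hZ ht) x hxZP
      -- hcomm : x * t = t * x
      have hx2 : x ^ 2 = 1 := by
        have h1 : t * x * t⁻¹ = x := by rw [← hcomm]; group
        rw [h1] at hxt
        rw [pow_two]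
        calc x * x = x * x⁻¹ := by rw [← hxt]
          _ = 1 := mul_inv_cancel x
      have hd : p ∣ 2 := by rw [← hxo]; exact orderOf_dvd_of_pow_eq_one hx2
      have hp2 : p = 2 := (Nat.prime_dvd_prime_iff_eq hp Nat.prime_two).mp hd
      rw [hp2] at hodd
      exact absurd hodd (by decide)
    rw [Subgroup.mem_centralizer_iff]
    intro z hz
    obtain ⟨z', hz'c, rfl⟩ := hz
    rw [SetLike.mem_coe, Subgroup.mem_center_iff] at hz'c
    have hzR : (R.subtype z') ∈ R := z'.2
    have hzc : ∀ r ∈ R, r * (R.subtype z') = (R.subtype z') * r := by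
      intro r hr
      exact congrArg Subtype.val (hz'c ⟨r, hr⟩)
    set z : X := R.subtype z' with hzdef
    have huI : z⁻¹ * (t * z * t⁻¹) ∈ I := by
      have hc2 := conjC t (hTRc' t ht) z hzc
      refine (hImem _).mpr ⟨R.mul_mem (R.inv_mem hzR) (hTRc t ht z hzR), ?_, ?_⟩
      · intro r hr
        have h1 := hzc r hr
        have h2 := hc2 r hr
        calc r * (z⁻¹ * (t * z * t⁻¹)) = z⁻¹ * (z * r) * z⁻¹ * (t * z * t⁻¹) := by group
          _ = z⁻¹ * (r * z) * z⁻¹ * (t * z * t⁻¹) := by rw [h1]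
          _ = z⁻¹ * (r * (t * z * t⁻¹)) := by group
          _ = z⁻¹ * (t * z * t⁻¹ * r) := by rw [h2]
          _ = z⁻¹ * (t * z * t⁻¹) * r := by group
      · calc t * (z⁻¹ * (t * z * t⁻¹)) * t⁻¹ = (t * z⁻¹ * t⁻¹) * ((t * t) * z * (t * t)⁻¹) := by group
          _ = (t * z⁻¹ * t⁻¹) * z := by rw [htt]; group
          _ = (z⁻¹ * (t * z * t⁻¹))⁻¹ := by group
    rw [hI1, Subgroup.mem_bot] at huI
    have : t * z * t⁻¹ = z := by
      have := congrArg (fun w => z * w) huI
      simpa using this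
    calc z * t = (t * z * t⁻¹) * t := by rw [this]
      _ = t * z := by group

end Cfsg.Agent.S3190
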