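import Mathlib
import Cfsg.Statements.S3202
import Cfsg.Agent.Helper2.QuatGen
import Cfsg.Agent.S0016

set_option autoImplicit false
open Cfsg

namespace Cfsg.Agent.S3202

open Cfsg.Agent.Helper2

open scoped commutatorElement

/-- Let S be a finite 2-group of 2-rank exactly 2 and D a maximal subgroup of the centre of S such that S/D is a non-abelian group with exactly one involution (a generalized quaternion group). Then S has a nontrivial cyclic characteristic subgroup. -/
theorem result {S : Type*} [Group S]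
    [Finite S] (hS : IsPGroup 2 S) (hr2 : Cfsg.PRankLE 2 2 S) (hr1 : ¬ Cfsg.PRankLE 2 1 S)
    (D : Subgroup ↥(Subgroup.center S)) (hD : IsCoatom D)
    (hq : ∃ (_ : (D.map (Subgroup.center S).subtype).Normal),
      ¬ IsMulCommutative (S ⧸ D.map (Subgroup.center S).subtype) ∧
      ∃! x : S ⧸ D.map (Subgroup.center S).subtype, orderOf x = 2) :
    ∃ C : Subgroup S, C ≠ ⊥ ∧ IsCyclic ↥C ∧ C.Characteristic := by
  classical
  haveI : Fact (Nat.Prime 2) := ⟨Nat.prime_two⟩
  set D' := D.map (Subgroup.center S).subtype with hD'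
  obtain ⟨hN, hna, x₀, hx₀, hx₀u⟩ := hq
  have hD'c : D' ≤ Subgroup.center S := by rw [hD']; exact Subgroup.map_subtype_le D
  have hQ2 : IsPGroup 2 (S ⧸ D') := hS.to_quotient D'
  -- unique subgroup of order two
  have huniq : ∀ H K : Subgroup (S ⧸ D'), Nat.card H = 2 → Nat.card K = 2 → H = K := by
    have key : ∀ H : Subgroup (S ⧸ D'), Nat.card H = 2 → H = Subgroup.zpowers x₀ := by
      intro H hH
      have hnt : H ≠ ⊥ := by
        intro h
        rw [h, Subgroup.card_bot] at hH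
        omega
      obtain ⟨h, hhH, hh1⟩ := (Subgroup.bot_or_exists_ne_one H).resolve_left hnt
      have hord : orderOf h = 2 := by
        have h1 : orderOf h ∣ 2 := by
          have := orderOf_dvd_natCard (⟨h, hhH⟩ : H)
          rwa [Subgroup.orderOf_mk, hH] at this
        rcases (Nat.dvd_prime Nat.prime_two).mp h1 with h2 | h2
        · exact absurd (orderOf_eq_one_iff.mp h2) hh1
        · exact h2
      have hx : h = x₀ := hx₀u h hord
      symm
      apply Subgroup.eq_of_le_of_card_ge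
      · rw [Subgroup.zpowers_le, ← hx]; exact hhH
      · rw [hH, Nat.card_zpowers, hx₀]
    intro H K hH hK
    rw [key H hH, key K hK]
  rcases Cfsg.Agent.S0016.result 2 hQ2 huniq with hcyc | ⟨-, n, ⟨e⟩⟩
  · exfalso
    apply hna
    exact ⟨⟨fun a b => by
      obtain ⟨g, hg⟩ := IsCyclic.exists_generator (α := S ⧸ D')
      obtain ⟨m, rfl⟩ := Subgroup.mem_zpowers_iff.mp (hg a)
      obtain ⟨n, rfl⟩ := Subgroup.mem_zpowers_iff.mp (hg b)
      rw [← zpow_add, ← zpow_add, add_comm]⟩⟩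
  haveI : NeZero (2 ^ n) := ⟨by positivity⟩
  -- lifts of the generators
  obtain ⟨a, ha⟩ := QuotientGroup.mk_surjective (e.symm (QuaternionGroup.a 1))
  obtain ⟨b, hb⟩ := QuotientGroup.mk_surjective (e.symm (QuaternionGroup.xa 0))
  have hcentral : ∀ d ∈ D', ∀ s : S, Commute d s := by
    intro d hd s
    exact (Subgroup.mem_center_iff.mp (hD'c hd) s).symm
  -- normal form
  have hnf : ∀ s : S, ∃ i : ℕ, ∃ d ∈ D', s = a ^ i * d ∨ s = b * a ^ i * d := by
    intro s
    obtain ⟨i, hi⟩ := QuatGen.elts (2 ^ n) (e (QuotientGroup.mk s))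
    refine ⟨i, ?_⟩
    rcases hi with hi | hi
    · have h1 : (QuotientGroup.mk s : S ⧸ D') = QuotientGroup.mk (a ^ i) := by
        rw [QuotientGroup.mk_pow, ha, ← map_pow, ← hi, e.symm_apply_apply]
      have h2 : (a ^ i)⁻¹ * s ∈ D' := QuotientGroup.eq.mp h1.symm
      exact ⟨(a ^ i)⁻¹ * s, h2, Or.inl (by group)⟩
    · have h1 : (QuotientGroup.mk s : S ⧸ D') = QuotientGroup.mk (b * a ^ i) := by
        rw [QuotientGroup.mk_mul, QuotientGroup.mk_pow, ha, hb, ← map_pow, ← map_mul, ← hi,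
          e.symm_apply_apply]
      have h2 : (b * a ^ i)⁻¹ * s ∈ D' := QuotientGroup.eq.mp h1.symm
      exact ⟨(b * a ^ i)⁻¹ * s, h2, Or.inr (by group)⟩
  -- the relation
  obtain ⟨d₀, hd₀⟩ : ∃ d₀, d₀ = a * (b * a * b⁻¹) := ⟨_, rfl⟩
  have hd₀D : d₀ ∈ D' := by
    have h1 : (QuotientGroup.mk (b * a * b⁻¹) : S ⧸ D') = QuotientGroup.mk a⁻¹ := by
      rw [QuotientGroup.mk_mul, QuotientGroup.mk_mul, QuotientGroup.mk_inv, QuotientGroup.mk_inv,
        ha, hb, ← map_inv, ← map_mul, ← map_mul, QuatGen.conj_rel, map_inv]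
    have h2 : (a⁻¹)⁻¹ * (b * a * b⁻¹) ∈ D' := QuotientGroup.eq.mp h1.symm
    rw [inv_inv] at h2
    rw [hd₀]; exact h2
  have hbab : b * a * b⁻¹ = a⁻¹ * d₀ := by rw [hd₀]; group
  obtain ⟨c, hc⟩ : ∃ c, c = b * a * b⁻¹ * a⁻¹ := ⟨_, rfl⟩
  have hc' : c = a⁻¹ * d₀ * a⁻¹ := by rw [hc, hbab]
  have hd₀a : Commute d₀ a := hcentral d₀ hd₀D a
  have hd₀b : Commute d₀ b := hcentral d₀ hd₀D b
  have hca : Commute a c := by
    rw [hc']
    exact ((Commute.refl a).inv_right.mul_right hd₀a.symm).mul_right (Commute.refl a).inv_right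
  have hbc : b * c * b⁻¹ = c⁻¹ := by
    have h1 : b * c * b⁻¹ = (b * a * b⁻¹)⁻¹ * (b * d₀ * b⁻¹) * (b * a * b⁻¹)⁻¹ := by
      rw [hc']; group
    have h2 : b * d₀ * b⁻¹ = d₀ := by
      rw [← hd₀b.eq]; group
    rw [h1, h2, hbab, hc']
    have h3 : Commute d₀ a⁻¹ := hd₀a.inv_right
    calc (a⁻¹ * d₀)⁻¹ * d₀ * (a⁻¹ * d₀)⁻¹ = d₀⁻¹ * a * d₀ * (d₀⁻¹ * a) := by group
      _ = a * (d₀⁻¹ * d₀) * (d₀⁻¹ * a) := by rw [hd₀a.inv_left.eq]; group
      _ = a * d₀⁻¹ * a := by group
      _ = (a⁻¹ * d₀ * a⁻¹)⁻¹ := by group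
  -- the cyclic subgroup generated by c is normal
  obtain ⟨N, hNdef⟩ : ∃ N : Subgroup S, N = Subgroup.zpowers c := ⟨_, rfl⟩
  have hcN : c ∈ N := hNdef ▸ Subgroup.mem_zpowers c
  have hconj : ∀ s : S, s * c * s⁻¹ ∈ N := by
    intro s
    obtain ⟨i, d, hd, hs | hs⟩ := hnf s
    · have h1 : Commute s c := by
        rw [hs]
        exact (hca.pow_left i).mul_left (hcentral d hd c)
      have h2 : s * c * s⁻¹ = c := by rw [h1.eq]; group
      rw [h2]; exact hcN
    · have h1 : Commute (a ^ i * d) c := (hca.pow_left i).mul_left (hcentral d hd c)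
      have h2 : s * c * s⁻¹ = b * ((a ^ i * d) * c * (a ^ i * d)⁻¹) * b⁻¹ := by rw [hs]; group
      have h3 : (a ^ i * d) * c * (a ^ i * d)⁻¹ = c := by rw [h1.eq]; group
      rw [h2, h3, hbc]
      exact N.inv_mem hcN
  haveI hNn : N.Normal := by
    constructor
    intro x hx s
    rw [hNdef] at hx
    obtain ⟨j, rfl⟩ := Subgroup.mem_zpowers_iff.mp hx
    have h1 : s * c ^ j * s⁻¹ = (s * c * s⁻¹) ^ j := by
      have := map_zpow (MulAut.conj s) c j
      simpa [MulAut.conj_apply] using this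
    rw [h1]
    exact N.zpow_mem (hconj s) j
  -- the quotient by N is commutative
  have hquot : IsMulCommutative (S ⧸ N) := by
    obtain ⟨α, hα⟩ : ∃ α : S ⧸ N, α = QuotientGroup.mk a := ⟨_, rfl⟩
    obtain ⟨β, hβ⟩ : ∃ β : S ⧸ N, β = QuotientGroup.mk b := ⟨_, rfl⟩
    have hαβ : Commute β α := by
      have h1 : (QuotientGroup.mk c : S ⧸ N) = 1 := (QuotientGroup.eq_one_iff c).mpr hcN
      rw [hc, QuotientGroup.mk_mul, QuotientGroup.mk_mul, QuotientGroup.mk_mul, QuotientGroup.mk_inv,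
        QuotientGroup.mk_inv, ← hα, ← hβ] at h1
      have h2 : β * α = α * β := by
        have := mul_inv_eq_one.mp h1
        exact mul_inv_eq_iff_eq_mul.mp this
      exact h2
    have hδ : ∀ d ∈ D', ∀ g : S ⧸ N, Commute (QuotientGroup.mk d : S ⧸ N) g := by
      intro d hd g
      obtain ⟨s, rfl⟩ := QuotientGroup.mk_surjective g
      have := hcentral d hd s
      change (QuotientGroup.mk d : S ⧸ N) * QuotientGroup.mk s = QuotientGroup.mk s * QuotientGroup.mk d
      rw [← QuotientGroup.mk_mul, ← QuotientGroup.mk_mul, this.eq]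
    have hform : ∀ g : S ⧸ N, ∃ i : ℕ, ∃ d ∈ D', g = α ^ i * QuotientGroup.mk d ∨
        g = β * α ^ i * QuotientGroup.mk d := by
      intro g
      obtain ⟨s, rfl⟩ := QuotientGroup.mk_surjective g
      obtain ⟨i, d, hd, hs | hs⟩ := hnf s
      · exact ⟨i, d, hd, Or.inl (by rw [hs, QuotientGroup.mk_mul, QuotientGroup.mk_pow, hα])⟩
      · exact ⟨i, d, hd, Or.inr (by
          rw [hs, QuotientGroup.mk_mul, QuotientGroup.mk_mul, QuotientGroup.mk_pow, hα, hβ])⟩
    have hαc : ∀ g : S ⧸ N, Commute g α := by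
      intro g
      obtain ⟨i, d, hd, hg | hg⟩ := hform g
      · rw [hg]
        exact ((Commute.refl α).pow_left i).mul_left (hδ d hd α)
      · rw [hg]
        exact (hαβ.mul_left ((Commute.refl α).pow_left i)).mul_left (hδ d hd α)
    have hβc : ∀ g : S ⧸ N, Commute g β := by
      intro g
      obtain ⟨i, d, hd, hg | hg⟩ := hform g
      · rw [hg]
        exact (hαβ.symm.pow_left i).mul_left (hδ d hd β)
      · rw [hg]
        exact ((Commute.refl β).mul_left (hαβ.symm.pow_left i)).mul_left (hδ d hd β)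
    refine ⟨⟨fun g k => ?_⟩⟩
    obtain ⟨i, d, hd, hk | hk⟩ := hform k
    · rw [hk]
      exact (((hαc g).pow_right i).mul_right (hδ d hd g).symm).eq
    · rw [hk]
      exact (((hβc g).mul_right ((hαc g).pow_right i)).mul_right (hδ d hd g).symm).eq
  have hle : commutator S ≤ N := Subgroup.Normal.quotient_commutative_iff_commutator_le.mp hquot
  refine ⟨commutator S, ?_, ?_, ?_⟩
  · intro hbot
    apply hna
    have h1 : IsMulCommutative S := by
      refine ⟨⟨fun x y => ?_⟩⟩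
      have h2 : ⁅x, y⁆ ∈ commutator S := Subgroup.commutator_mem_commutator (Subgroup.mem_top x) (Subgroup.mem_top y)
      rw [hbot, Subgroup.mem_bot, commutatorElement_eq_one_iff_mul_comm] at h2
      exact h2
    refine ⟨⟨fun x y => ?_⟩⟩
    obtain ⟨s, rfl⟩ := QuotientGroup.mk_surjective x
    obtain ⟨t, rfl⟩ := QuotientGroup.mk_surjective y
    rw [← QuotientGroup.mk_mul, ← QuotientGroup.mk_mul, h1.is_comm.comm s t]
  · haveI : IsCyclic N := by rw [hNdef]; infer_instance
    exact isCyclic_of_injective (Subgroup.inclusion hle) (Subgroup.inclusion_injective hle)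
  · rw [commutator_def]
    infer_instance

end Cfsg.Agent.S3202
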