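import Mathlib
import Cfsg.Statements.S3203
import Cfsg.Agent.Helper2.WeakClosedAB

set_option autoImplicit false
open Cfsg

namespace Cfsg.Agent.S3203

open Cfsg.Agent.Helper2

/-- Let S be a Sylow 2-subgroup of a finite group G having exactly two subgroups A ≠ B that are maximal among its elementary abelian subgroups, with S = AB. Then A and B are each weakly closed in S with respect to G, and the normalizer of S normalizes both A and B. -/
theorem result {G : Type*} [Group G] [Finite G] (S : Sylow 2 G)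
    (A B : Subgroup ↥(S : Subgroup G)) (hAB : A ≠ B)
    (hA : Cfsg.IsElementaryAbelian 2 A ∧ ∀ C : Subgroup ↥(S : Subgroup G), Cfsg.IsElementaryAbelian 2 C → A ≤ C → C = A)
    (hB : Cfsg.IsElementaryAbelian 2 B ∧ ∀ C : Subgroup ↥(S : Subgroup G), Cfsg.IsElementaryAbelian 2 C → B ≤ C → C = B)
    (honly : ∀ C : Subgroup ↥(S : Subgroup G), Cfsg.IsElementaryAbelian 2 C →
      (∀ D : Subgroup ↥(S : Subgroup G), Cfsg.IsElementaryAbelian 2 D → C ≤ D → D = C) → C = A ∨ C = B)
    (hprod : ∀ s : ↥(S : Subgroup G), ∃ a ∈ A, ∃ b ∈ B, a * b = s)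
    (A' B' : Subgroup G) (hA' : A' = A.map (S : Subgroup G).subtype) (hB' : B' = B.map (S : Subgroup G).subtype) :
    Cfsg.IsWeaklyClosed A' (S : Subgroup G) ∧ Cfsg.IsWeaklyClosed B' (S : Subgroup G) ∧
      Subgroup.normalizer ((S : Subgroup G) : Set G) ≤ Subgroup.normalizer (A' : Set G) ⊓ Subgroup.normalizer (B' : Set G) := by
    classical
    -- translation lemmas
    have hEA_map : ∀ C : Subgroup ↥(S : Subgroup G), Cfsg.IsElementaryAbelian 2 C →
        WeakClosedAB.EA (C.map (S : Subgroup G).subtype) := by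
      intro C hC
      constructor
      · rintro _ ⟨a, ha, rfl⟩ _ ⟨b, hb, rfl⟩
        have := hC.1.is_comm.comm ⟨a, ha⟩ ⟨b, hb⟩
        have h2 : a * b = b * a := congrArg Subtype.val this
        exact congrArg Subtype.val h2
      · rintro _ ⟨a, ha, rfl⟩
        have := hC.2 a ha
        have h2 := congrArg Subtype.val this
        rwa [Subgroup.coe_pow] at h2
    have hEA_sub : ∀ X : Subgroup G, WeakClosedAB.EA X →
        Cfsg.IsElementaryAbelian 2 (X.subgroupOf (S : Subgroup G)) := by
      intro X hX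
      refine ⟨⟨⟨fun a b => ?_⟩⟩, ?_⟩
      · apply Subtype.ext
        apply Subtype.ext
        exact hX.1 _ (Subgroup.mem_subgroupOf.mp a.2) _ (Subgroup.mem_subgroupOf.mp b.2)
      · intro a ha
        apply Subtype.ext
        rw [Subgroup.coe_pow]
        exact hX.2 _ (Subgroup.mem_subgroupOf.mp ha)
    have hmapsub : ∀ X : Subgroup G, X ≤ (S : Subgroup G) →
        (X.subgroupOf (S : Subgroup G)).map (S : Subgroup G).subtype = X :=
      fun X hX => Subgroup.map_subgroupOf_eq_of_le hX
    have hsubmap : ∀ C : Subgroup ↥(S : Subgroup G),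
        (C.map (S : Subgroup G).subtype).subgroupOf (S : Subgroup G) = C :=
      fun C => Subgroup.comap_map_eq_self_of_injective (S : Subgroup G).subtype_injective C
    have hAS : A' ≤ (S : Subgroup G) := by rw [hA']; exact Subgroup.map_subtype_le _
    have hBS : B' ≤ (S : Subgroup G) := by rw [hB']; exact Subgroup.map_subtype_le _
    have hAB' : A' ≠ B' := by
      rw [hA', hB']
      exact fun h => hAB (Subgroup.map_injective (S : Subgroup G).subtype_injective h)
    have hAEA : WeakClosedAB.EA A' := hA' ▸ hEA_map A hA.1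
    have hBEA : WeakClosedAB.EA B' := hB' ▸ hEA_map B hB.1
    have hmax_tr : ∀ (A₀ : Subgroup ↥(S : Subgroup G)),
        (∀ C : Subgroup ↥(S : Subgroup G), Cfsg.IsElementaryAbelian 2 C → A₀ ≤ C → C = A₀) →
        ∀ C : Subgroup G, C ≤ (S : Subgroup G) → WeakClosedAB.EA C →
          A₀.map (S : Subgroup G).subtype ≤ C → C = A₀.map (S : Subgroup G).subtype := by
      intro A₀ hA₀ C hCS hC hle
      have h1 : A₀ ≤ C.subgroupOf (S : Subgroup G) := by
        intro a ha
        rw [Subgroup.mem_subgroupOf]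
        exact hle ⟨a, ha, rfl⟩
      have h2 := hA₀ _ (hEA_sub C hC) h1
      rw [← h2, hmapsub C hCS]
    have hAmax := hA' ▸ hmax_tr A hA.2
    have hBmax := hB' ▸ hmax_tr B hB.2
    have honly' : ∀ C : Subgroup G, C ≤ (S : Subgroup G) → WeakClosedAB.EA C →
        (∀ D : Subgroup G, D ≤ (S : Subgroup G) → WeakClosedAB.EA D → C ≤ D → D = C) →
        C = A' ∨ C = B' := by
      intro C hCS hC hCmax
      have h1 := honly (C.subgroupOf (S : Subgroup G)) (hEA_sub C hC) (by
        intro D hD hle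
        have h2 := hCmax (D.map (S : Subgroup G).subtype) (Subgroup.map_subtype_le _) (hEA_map D hD) (by
          intro c hc
          exact ⟨⟨c, hCS hc⟩, hle (Subgroup.mem_subgroupOf.mpr hc), rfl⟩)
        rw [← h2, hsubmap])
      rcases h1 with h | h
      · left; rw [hA', ← h, hmapsub C hCS]
      · right; rw [hB', ← h, hmapsub C hCS]
    have hcover := WeakClosedAB.cover_of_only (S : Subgroup G) A' B' honly'
    have hcover' : ∀ C : Subgroup G, C ≤ (S : Subgroup G) → WeakClosedAB.EA C → C ≤ B' ∨ C ≤ A' :=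
      fun C hCS hC => (hcover C hCS hC).symm
    have hprod' : ∀ s ∈ (S : Subgroup G), ∃ a ∈ A', ∃ b ∈ B', a * b = s := by
      intro s hs
      obtain ⟨a, ha, b, hb, hab⟩ := hprod ⟨s, hs⟩
      refine ⟨a, hA' ▸ ⟨a, ha, rfl⟩, b, hB' ▸ ⟨b, hb, rfl⟩, ?_⟩
      exact congrArg Subtype.val hab
    have hprod'' : ∀ s ∈ (S : Subgroup G), ∃ b ∈ B', ∃ a ∈ A', b * a = s := by
      intro s hs
      obtain ⟨a, ha, b, hb, hab⟩ := hprod' s⁻¹ (inv_mem hs)
      refine ⟨b⁻¹, inv_mem hb, a⁻¹, inv_mem ha, ?_⟩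
      rw [← mul_inv_rev, hab, inv_inv]
    have hwA := WeakClosedAB.weakly_closed S A' B' hAS hBS hAB' hAEA hBEA hAmax hBmax hcover hprod'
    have hwB := WeakClosedAB.weakly_closed S B' A' hBS hAS hAB'.symm hBEA hAEA hBmax hAmax hcover' hprod''
    refine ⟨⟨hAS, hwA⟩, ⟨hBS, hwB⟩, ?_⟩
    intro h hh
    have hhS : cj h (S : Subgroup G) = S := (mem_normalizer_iff_cj _ h).mp hh
    refine Subgroup.mem_inf.mpr ⟨?_, ?_⟩
    · rw [mem_normalizer_iff_cj]
      apply hwA
      rw [← hhS]
      exact cj_mono hAS h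
    · rw [mem_normalizer_iff_cj]
      apply hwB
      rw [← hhS]
      exact cj_mono hBS h

end Cfsg.Agent.S3203
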