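import Mathlib
import Cfsg.Statements.S3208
import Cfsg.Agent.Helper2.BaerSuzuki

set_option autoImplicit false
open Cfsg

namespace Cfsg.Agent.S3208

open Cfsg.Agent.Helper2

/-- Let j be an involution of a finite group G, H a subgroup of G, and T a Sylow 2-subgroup of H ∩ C_G(j) containing j such that ⟨j⟩ is a characteristic subgroup of T. Then T is a Sylow 2-subgroup of H. -/
theorem result {G : Type*} [Group G] [Finite G]
    (j : G) (hj : orderOf j = 2) (H T : Subgroup G) (hT : T ≤ H ⊓ Subgroup.centralizer ({j} : Set G)) (h2 : IsPGroup 2 ↥T)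
    (hSyl : ¬ 2 ∣ T.relIndex (H ⊓ Subgroup.centralizer ({j} : Set G))) (hjT : j ∈ T)
    (hchar : ((Subgroup.zpowers j).subgroupOf T).Characteristic) :
    ¬ 2 ∣ T.relIndex H := by
  have hp : Fact (Nat.Prime 2) := ⟨Nat.prime_two⟩
  set K := H ⊓ Subgroup.centralizer ({j} : Set G) with hK
  have hTH : T ≤ H := hT.trans inf_le_left
  intro hdvd
  -- `T` is not Sylow in `H`
  have hT' : IsPGroup 2 (T.subgroupOf H) := h2.comap_subtype
  obtain ⟨P, hP⟩ := hT'.exists_le_sylow
  have hne : T.subgroupOf H ≠ (P : Subgroup ↥H) := by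
    intro heq
    apply P.not_dvd_index
    rw [← heq]
    exact hdvd
  set R := (P : Subgroup ↥H).map H.subtype with hR
  have hRp : IsPGroup 2 R := P.isPGroup'.map _
  have hRH : R ≤ H := by rintro _ ⟨x, -, rfl⟩; exact x.2
  have hTR : T ≤ R := by
    intro x hx
    exact ⟨⟨x, hTH hx⟩, hP (Subgroup.mem_subgroupOf.mpr hx), rfl⟩
  have hlt : T < R := by
    apply lt_of_le_of_ne hTR
    intro heq
    apply hne
    rw [heq, hR]
    exact Subgroup.comap_map_eq_self_of_injective H.subtype_injective _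
  obtain ⟨r, hrR, hrT, hrN⟩ := Cfsg.Agent.Helper2.exists_mem_normalizer_notMem_of_lt hRp hlt
  -- conjugation by `r` is an automorphism of `T`, so fixes `⟨j⟩`
  have hmap : T.map (MulAut.conj r).toMonoidHom = T := (Cfsg.Agent.Helper2.mem_normalizer_iff_cj T r).mp hrN
  let e : ↥T ≃* ↥T :=
    (T.equivMapOfInjective (MulAut.conj r).toMonoidHom (MulAut.conj r).injective).trans
      (MulEquiv.subgroupCongr hmap)
  have he : ∀ t : ↥T, ((e t : ↥T) : G) = r * t * r⁻¹ := fun t => rfl
  have hfix := hchar.fixed e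
  have hjmem : (⟨j, hjT⟩ : ↥T) ∈ (Subgroup.zpowers j).subgroupOf T := by
    rw [Subgroup.mem_subgroupOf]; exact Subgroup.mem_zpowers j
  rw [← hfix, Subgroup.mem_comap, Subgroup.mem_subgroupOf] at hjmem
  have hconj : r * j * r⁻¹ ∈ Subgroup.zpowers j := hjmem
  have hjj : j * j = 1 := by
    have := pow_orderOf_eq_one j
    rwa [hj, pow_two] at this
  have hj1 : j ≠ 1 := by
    intro h; rw [h, orderOf_one] at hj; omega
  have hzp : ∀ x ∈ Subgroup.zpowers j, x = 1 ∨ x = j := by
    intro x hx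
    obtain ⟨k, rfl⟩ := Subgroup.mem_zpowers_iff.mp hx
    rcases Int.even_or_odd k with ⟨m, hm⟩ | ⟨m, hm⟩
    · left
      rw [hm, ← two_mul, zpow_mul, zpow_two, hjj, one_zpow]
    · right
      rw [hm, zpow_add, zpow_mul, zpow_two, hjj, one_zpow, one_mul, zpow_one]
  have hrj : r * j * r⁻¹ = j := by
    rcases hzp _ hconj with h | h
    · exfalso; apply hj1
      calc j = r⁻¹ * (r * j * r⁻¹) * r := by group
        _ = 1 := by rw [h]; group
    · exact h
  have hrK : r ∈ K := by
    apply Subgroup.mem_inf.mpr ⟨hRH hrR, ?_⟩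
    rw [Subgroup.mem_centralizer_singleton_iff]
    calc r * j = (r * j * r⁻¹) * r := by group
      _ = j * r := by rw [hrj]
  -- `T ⊔ ⟨r⟩` is a bigger `2`-subgroup of `K`
  set T1 := T ⊔ Subgroup.zpowers r with hT1
  have hT1R : T1 ≤ R := sup_le hTR (by rw [Subgroup.zpowers_le]; exact hrR)
  have hT1p : IsPGroup 2 T1 := hRp.to_le hT1R
  have hT1K : T1 ≤ K := sup_le hT (by rw [Subgroup.zpowers_le]; exact hrK)
  have hTT1 : T ≤ T1 := le_sup_left
  have hrel : T.relIndex K = T.relIndex T1 * T1.relIndex K :=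
    (Subgroup.relIndex_mul_relIndex T T1 K hTT1 hT1K).symm
  have hpow : ∃ k, T.relIndex T1 = 2 ^ k := by
    have h1 : IsPGroup 2 ↥T1 := hT1p
    have := h1.index (T.subgroupOf T1)
    exact this
  obtain ⟨k, hk⟩ := hpow
  have hk0 : k ≠ 0 := by
    rintro rfl
    rw [pow_zero, Subgroup.relIndex_eq_one] at hk
    exact hrT (hk (le_sup_right (a := T) (Subgroup.mem_zpowers r)))
  apply hSyl
  rw [hrel, hk]
  exact Dvd.dvd.mul_right (dvd_pow_self 2 hk0) _

end Cfsg.Agent.S3208
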