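import Cfsg.Statements.S3213
import Mathlib
import Cfsg.Agent.Lead.Sp43A
import Cfsg.Agent.Lead.Sp43C

set_option autoImplicit false
open Cfsg

namespace Cfsg.Agent.S3213

/-- Let F be the field with 3 elements and K the field with 5 elements. For every injective homomorphism φ from SL₂(K) into the symplectic group Sp₄(F) (4 × 4 matrices g with g J gᵀ = J for the standard alternating matrix J) and every element x of order 3 of SL₂(K), the vectors of F⁴ fixed by φ(x) form a 2-dimensional subspace that is totally isotropic for the alternating form defined by J. -/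
theorem result {F : Type*} [Field F] [Fintype F] (hF : Fintype.card F = 3)
    {K : Type*} [Field K] [Fintype K] (hK : Fintype.card K = 5)
    (φ : Matrix.SpecialLinearGroup (Fin 2) K →* ↥(Matrix.symplecticGroup (Fin 2) F)) (hφ : Function.Injective φ)
    (x : Matrix.SpecialLinearGroup (Fin 2) K) (hx : orderOf x = 3) :
    Module.finrank F ↥(LinearMap.ker (Matrix.toLin' ((φ x : Matrix (Fin 2 ⊕ Fin 2) (Fin 2 ⊕ Fin 2) F)) - LinearMap.id)) = 2 ∧
      ∀ v w : Fin 2 ⊕ Fin 2 → F, (φ x : Matrix (Fin 2 ⊕ Fin 2) (Fin 2 ⊕ Fin 2) F).mulVec v = v →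
        (φ x : Matrix (Fin 2 ⊕ Fin 2) (Fin 2 ⊕ Fin 2) F).mulVec w = w →
          dotProduct v ((Matrix.J (Fin 2) F).mulVec w) = 0 := by
  obtain ⟨c, hc⟩ := Cfsg.Agent.Lead.Sp43.conj_inv_of_order_three hK hx
  have hA := SymplecticGroup.mem_iff'.mp (φ x).2
  have hG := SymplecticGroup.mem_iff'.mp (φ c).2
  have h3 : x * x * x = 1 := by
    have := pow_orderOf_eq_one x
    rw [hx] at this
    rw [← this, pow_succ, pow_two]
  have hA3 : (φ x : Matrix (Fin 2 ⊕ Fin 2) (Fin 2 ⊕ Fin 2) F) * (φ x : Matrix (Fin 2 ⊕ Fin 2) (Fin 2 ⊕ Fin 2) F) *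
      (φ x : Matrix (Fin 2 ⊕ Fin 2) (Fin 2 ⊕ Fin 2) F) = 1 := by
    have : φ x * φ x * φ x = 1 := by rw [← map_mul, ← map_mul, h3, map_one]
    have := congrArg (fun y : ↥(Matrix.symplecticGroup (Fin 2) F) => (y : Matrix (Fin 2 ⊕ Fin 2) (Fin 2 ⊕ Fin 2) F)) this
    simpa using this
  have hA1 : (φ x : Matrix (Fin 2 ⊕ Fin 2) (Fin 2 ⊕ Fin 2) F) ≠ 1 := by
    intro h
    have h1 : φ x = 1 := Subtype.ext h
    have h2 : x = 1 := hφ (by rw [h1, map_one])
    rw [h2, orderOf_one] at hx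
    omega
  have hxcx : x * c * x = c := by
    have : x * c * x = x * (c * x * c⁻¹) * c := by group
    rw [this, hc]; group
  have hAGA : (φ x : Matrix (Fin 2 ⊕ Fin 2) (Fin 2 ⊕ Fin 2) F) * (φ c : Matrix (Fin 2 ⊕ Fin 2) (Fin 2 ⊕ Fin 2) F) *
      (φ x : Matrix (Fin 2 ⊕ Fin 2) (Fin 2 ⊕ Fin 2) F) = (φ c : Matrix (Fin 2 ⊕ Fin 2) (Fin 2 ⊕ Fin 2) F) := by
    have : φ x * φ c * φ x = φ c := by rw [← map_mul, ← map_mul, hxcx]
    have := congrArg (fun y : ↥(Matrix.symplecticGroup (Fin 2) F) => (y : Matrix (Fin 2 ⊕ Fin 2) (Fin 2 ⊕ Fin 2) F)) this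
    simpa using this
  exact Cfsg.Agent.Lead.Sp43.main_linear hF hA hG hA3 hA1 hAGA

end Cfsg.Agent.S3213
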