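import Mathlib
import Cfsg.Statements.S3222
import Cfsg.Agent.S3035
import Cfsg.Agent.Helper8.CZSH
import Cfsg.Agent.Helper8.CZSJ

set_option autoImplicit false
open Cfsg

namespace Cfsg.Agent.S3222

open Cfsg.Agent.Helper8.CZS

/-- Let G be a finite group of even order such that (1) some involution t lying in the centre of a Sylow 2-subgroup of G has C_G(t) ≅ Z₂ × S₄, and (2) every Sylow 2-subgroup S of G satisfies C_G(S′) = S, where S′ is the derived subgroup of S. Then G = C_G(t) if G is solvable, and G ≅ S₆ otherwise. -/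
theorem result {G : Type*} [Group G] [Finite G] (hev : Even (Nat.card G))
    (t : G) (ht : orderOf t = 2) (T : Sylow 2 G) (htT : t ∈ (T : Subgroup G)) (htc : ∀ s ∈ (T : Subgroup G), s * t = t * s)
    (e : ↥(Subgroup.centralizer ({t} : Set G)) ≃* (Multiplicative (ZMod 2) × Equiv.Perm (Fin 4)))
    (h2 : ∀ S : Sylow 2 G, Subgroup.centralizer ((⁅(S : Subgroup G), (S : Subgroup G)⁆ : Subgroup G) : Set G) = (S : Subgroup G)) :
    (Group.IsSolvable G → Subgroup.centralizer ({t} : Set G) = ⊤) ∧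
      (¬ Group.IsSolvable G → Nonempty (G ≃* Equiv.Perm (Fin 6))) := by
  classical
  obtain ⟨e', hTe⟩ := exists_equiv_T t T htc e
  have h2T := h2 T
  obtain ⟨M0, hMn, hM2, htM⟩ := exists_index_two t ht T htc e' hTe h2T
  have hz0 : orderOf (⟨el t e' zM, z_mem_M0 M0 hM2 t e'⟩ : ↥M0) = 2 := by
    rw [← Subgroup.orderOf_coe]
    exact orderOf_z t e'
  have hdih := cent_dihedral M0 hM2 t ht T htc e' hTe h2T htM
  rcases Cfsg.Agent.S3035.result (G := ↥M0) _ hz0 hdih with hA | hB | hC | hD | hE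
  · exact (case_nilpotent t ht T htc e' hTe h2T M0 hM2 htM hA).elim
  · obtain ⟨h1, h2'⟩ := case_S4 t e' M0 hM2 hB
    exact ⟨fun _ => h1, fun h => absurd h2' h⟩
  · exact (case_S5 t ht e' M0 hM2 hC).elim
  · exact (case_SL32 t ht e' M0 hM2 hD).elim
  · obtain ⟨φ⟩ := case_A6 t ht e' M0 hM2 htM hE
    refine ⟨fun hsol => ?_, fun _ => ⟨φ⟩⟩
    exfalso
    have hsol' : Group.IsSolvable (Equiv.Perm (Fin 6)) :=
      Group.isSolvable_of_surjective (f := φ.toMonoidHom) φ.surjective
    exact Equiv.Perm.not_isSolvable (Fin 6) (by rw [Cardinal.mk_fin]; norm_num) hsol'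

end Cfsg.Agent.S3222
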