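import Mathlib
import Cfsg.Statements.S3224
import Cfsg.Agent.Helper2.CentFour
import Cfsg.Agent.S4399

set_option autoImplicit false
open Cfsg

namespace Cfsg.Agent.S3224

open Cfsg.Agent.Helper2

/-- A finite 2-group containing an involution whose centralizer has order 4 is dihedral, quasi-dihedral (semidihedral), or of order 4. -/
theorem result {S : Type*} [Group S] [Finite S] (hS : IsPGroup 2 S)
    (x : S) (hx : orderOf x = 2) (hC : Nat.card ↥(Subgroup.centralizer ({x} : Set S)) = 4) :
    (∃ n : ℕ, Nonempty (S ≃* DihedralGroup n)) ∨ Cfsg.IsQuasiDihedral S ∨ Nat.card S = 4 := by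
  classical
  haveI : Fact (Nat.Prime 2) := ⟨Nat.prime_two⟩
  obtain ⟨n, hn⟩ := IsPGroup.iff_card.1 hS
  have h4 : 4 ∣ 2 ^ n := by
    rw [← hn, ← hC]; exact Subgroup.card_subgroup_dvd_card _
  have hn2 : 2 ≤ n := by
    by_contra hlt
    have h3 : n = 0 ∨ n = 1 := by omega
    rcases h3 with rfl | rfl <;> omega
  by_cases hn2' : n = 2
  · right; right
    rw [hn, hn2']; norm_num
  have hn3 : 3 ≤ n := by omega
  have hclass := CentFour.maxClass_of_centralizer_le_four n hn3 S hn ⟨x, hC.le⟩
  have hK := Cfsg.Agent.Helper1.maxClass_kleinFour n hn3 hn hclass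
  rw [Cfsg.Agent.Helper1.isKleinFour_abelianization_iff] at hK
  have hab : Nat.card (Abelianization S) = 4 := by
    rw [← hK.1, Subgroup.index_eq_card]; rfl
  have hexp : ∀ y : Abelianization S, y ^ 2 = 1 := by
    intro y
    obtain ⟨s, rfl⟩ := QuotientGroup.mk_surjective y
    have h1 : (Abelianization.of s) ^ 2 = 1 := by
      rw [← map_pow]
      exact (QuotientGroup.eq_one_iff (s ^ 2)).2 (hK.2 s)
    exact h1
  have h8 : 8 ≤ Nat.card S := by
    rw [hn]
    calc 8 = 2 ^ 3 := by norm_num
      _ ≤ 2 ^ n := Nat.pow_le_pow_right (by norm_num) hn3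
  rcases Cfsg.Agent.S4399.result hS hab hexp with h | ⟨k, ⟨e⟩⟩ | ⟨k, hk, a, b, ha, hb, hrel⟩ | ⟨k, ⟨e⟩⟩
  · right; right; exact h
  · left; exact ⟨_, ⟨e⟩⟩
  · right; left
    exact ⟨k + 3, by omega, hk, a, b, ha, hb, hrel⟩
  · exfalso
    -- quaternion: the involution is central
    haveI : NeZero (2 ^ (k + 1)) := ⟨by positivity⟩
    have hy : orderOf (e x) = 2 := by rw [MulEquiv.orderOf_eq]; exact hx
    have hcentral : ∀ q : QuaternionGroup (2 ^ (k + 1)), q * e x = e x * q := by
      rcases hex : e x with i | i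
      · have h2i : i + i = 0 := by
          have h0 : (e x) ^ 2 = 1 := orderOf_dvd_iff_pow_eq_one.mp (by rw [hy])
          have h1 : (QuaternionGroup.a i : QuaternionGroup (2 ^ (k + 1))) ^ 2 = 1 := by
            rw [← hex]; exact h0
          rw [pow_two, QuaternionGroup.a_mul_a] at h1
          have h2 : (QuaternionGroup.a (i + i) : QuaternionGroup (2 ^ (k + 1))) =
              QuaternionGroup.a 0 := h1
          exact QuaternionGroup.a.inj h2
        intro q
        rcases q with j | j
        · rw [QuaternionGroup.a_mul_a, QuaternionGroup.a_mul_a, add_comm j i]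
        · rw [QuaternionGroup.xa_mul_a, QuaternionGroup.a_mul_xa]
          congr 1
          have : i = -i := eq_neg_of_add_eq_zero_left h2i
          rw [sub_eq_add_neg, ← this]
      · exfalso
        rw [hex, QuaternionGroup.orderOf_xa] at hy
        omega
    have htop : Subgroup.centralizer ({x} : Set S) = ⊤ := by
      rw [eq_top_iff]
      intro s _
      rw [Subgroup.mem_centralizer_iff]
      intro z hz
      rw [Set.mem_singleton_iff] at hz
      subst hz
      apply e.injective
      rw [map_mul, map_mul]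
      exact (hcentral (e s)).symm
    rw [htop, Subgroup.card_top] at hC
    omega

end Cfsg.Agent.S3224
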