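import Mathlib
import Cfsg.Statements.S3246
import Cfsg.Agent.Helper1.TwoLocC

set_option autoImplicit false
open Cfsg

namespace Cfsg.Agent.S3246

open Cfsg.Agent.Helper1.TwoLoc Cfsg.Agent.Helper2 Cfsg.Agent.Helper5

/-- every 2-local subgroup lies in a maximal 2-local subgroup -/
theorem exists_maximal_two_local {G : Type*} [Group G] [Finite G] (N : Subgroup G)
    (hN : Cfsg.IsTwoLocal N) : ∃ M : Subgroup G, Cfsg.IsMaximalTwoLocal M ∧ N ≤ M := by
  set 𝓜 : Set (Subgroup G) := {M | Cfsg.IsTwoLocal M} with h𝓜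
  have hfin : 𝓜.Finite := Set.toFinite _
  obtain ⟨M, hNM, ⟨hM1, hmax⟩⟩ := hfin.exists_le_maximal (show N ∈ 𝓜 from hN)
  refine ⟨M, ⟨hM1, ?_⟩, hNM⟩
  intro N' hN' hle
  exact le_antisymm (hmax hN' hle) hle

/-- Let G be a finite group whose Sylow 2-subgroup S has a self-centralizing normal subgroup of rank at least 3. Suppose that either every maximal 2-local subgroup of G is 2-constrained with no nontrivial normal subgroup of odd order, or the centralizer of every involution of G is 2-constrained with no nontrivial normal subgroup of odd order. Then S normalizes no nontrivial subgroup of G of odd order and every 2-local subgroup of G is 2-constrained. -/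
theorem result {G : Type*} [Group G] [Finite G]
    (S : Sylow 2 G) (A : Subgroup G) (hA : Cfsg.IsSCN (S : Subgroup G) A) (hA3 : ¬ Cfsg.PRankLE 2 2 ↥A)
    (h : (∀ M : Subgroup G, Cfsg.IsMaximalTwoLocal M → Cfsg.IsPConstrained 2 ↥M ∧ Cfsg.oddCore ↥M = ⊥) ∨
      (∀ t : G, orderOf t = 2 → Cfsg.IsPConstrained 2 ↥(Subgroup.centralizer ({t} : Set G)) ∧
        Cfsg.oddCore ↥(Subgroup.centralizer ({t} : Set G)) = ⊥)) :
    (∀ X : Subgroup G, Odd (Nat.card ↥X) → (S : Subgroup G) ≤ Subgroup.normalizer (X : Set G) → X = ⊥) ∧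
      (∀ T : Subgroup G, IsPGroup 2 ↥T → T ≠ ⊥ → Cfsg.IsPConstrained 2 ↥(Subgroup.normalizer (T : Set G))) := by
  haveI : Fact (Nat.Prime 2) := ⟨Nat.prime_two⟩
  -- for every involution `f` there is a subgroup of characteristic 2 containing `C(f)`
  have key : ∀ f : G, f ≠ 1 → f ^ 2 = 1 →
      ∃ M : Subgroup G, HasCharP 2 ↥M ∧ Subgroup.centralizer ({f} : Set G) ≤ M := by
    intro f hf1 hf2
    have hord : orderOf f = 2 := orderOf_eq_prime hf2 hf1
    rcases h with h | h
    · have hT : IsPGroup 2 ↥(Subgroup.zpowers f) :=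
        IsPGroup.of_card (n := 1) (by rw [Nat.card_zpowers, hord, pow_one])
      have hT1 : Subgroup.zpowers f ≠ ⊥ := by
        rw [Ne, Subgroup.zpowers_eq_bot]; exact hf1
      obtain ⟨M, hM, hNM⟩ := exists_maximal_two_local
        (Subgroup.normalizer ((Subgroup.zpowers f : Subgroup G) : Set G))
        ⟨Subgroup.zpowers f, hT, hT1, rfl⟩
      refine ⟨M, hasCharP_of_constrained 2 (h M hM).1 (h M hM).2, le_trans ?_ hNM⟩
      refine le_trans ?_ (Subgroup.centralizer_le_normalizer _)
      intro x hx
      rw [Subgroup.mem_centralizer_iff]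
      intro g hg
      rw [Subgroup.mem_centralizer_singleton_iff] at hx
      obtain ⟨k, rfl⟩ := Subgroup.mem_zpowers_iff.1 hg
      have hc : Commute x f := hx
      exact (hc.zpow_right k).eq.symm
    · exact ⟨Subgroup.centralizer ({f} : Set G),
        hasCharP_of_constrained 2 (h f hord).1 (h f hord).2, le_rfl⟩
  constructor
  · intro X hX hSX
    obtain ⟨z, e, R, hzS, heS, hz1, he1, hez, hz2, he2, hc, hRS, hcard, hRz, hRe⟩ :=
      exists_pair S A hA hA3
    apply eq_bot_of_four z e X (S : Subgroup G) S.2 hzS heS hz1 he1 hez hz2 he2 hc hX hSX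
    intro f hfE hf1 hf2
    have hRf := le_centralizer_of_mem_closure z e f R hRz hRe hfE
    obtain ⟨M, hM, hfM⟩ := key f hf1 hf2
    exact inf_centralizer_eq_bot S f R M X hM hfM hRS hcard hRf hX hSX
  · intro T hT hT1
    rw [isPConstrained_iff]
    set N := Subgroup.normalizer (T : Set G) with hN
    have hTN : T ≤ N := Subgroup.le_normalizer
    rcases h with h | h
    · obtain ⟨M, hM, hNM⟩ := exists_maximal_two_local N ⟨T, hT, hT1, rfl⟩
      have hMc : Cfsg.IsPConstrained 2 ↥M := (h M hM).1
      rw [isPConstrained_iff] at hMc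
      have h1 := pLayer_inf_normalizer_eq_bot 2 M T (hTN.trans hNM) hT hMc
      have h2 : M ⊓ Subgroup.normalizer (T : Set G) = N := inf_eq_right.mpr hNM
      rw [h2] at h1
      exact h1
    · obtain ⟨x, hxT, hxp, hxc⟩ := exists_central_orderOf_eq_prime T hT hT1
      set C := Subgroup.centralizer ({x} : Set G) with hC
      have hTC : T ≤ C := by
        intro y hy
        rw [hC, Subgroup.mem_centralizer_singleton_iff]
        exact hxc y hy
      have hCc := (h x hxp).1
      rw [isPConstrained_iff] at hCc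
      have h1 := pLayer_inf_normalizer_eq_bot 2 C T hTC hT hCc
      haveI hRn : (T.subgroupOf N).Normal := Subgroup.normal_in_normalizer
      have hRp : IsPGroup 2 ↥(T.subgroupOf N) := hT.comap_subtype
      have hxN : x ∈ N := hTN hxT
      apply pLayer_eq_bot_of_centralizer 2 (T.subgroupOf N) hRp ⟨x, hxN⟩
        (by rw [Subgroup.mem_subgroupOf]; exact hxT)
      have heq : Subgroup.centralizer ({(⟨x, hxN⟩ : ↥N)} : Set ↥N) = (C ⊓ N).subgroupOf N := by
        ext y
        rw [Subgroup.mem_centralizer_singleton_iff, Subgroup.mem_subgroupOf, Subgroup.mem_inf,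
          hC, Subgroup.mem_centralizer_singleton_iff]
        constructor
        · intro hy
          exact ⟨congrArg Subtype.val hy, y.2⟩
        · rintro ⟨hy, -⟩
          exact Subtype.ext hy
      rw [heq]
      exact pLayer_eq_bot_of_equiv 2 (Subgroup.subgroupOfEquivOfLe inf_le_right).symm h1

end Cfsg.Agent.S3246
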