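import Mathlib
import Cfsg.Statements.S3247
import Cfsg.Agent.Helper2.PConstrained4

set_option autoImplicit false
open Cfsg

namespace Cfsg.Agent.S3247

open Cfsg.Agent.Helper2

/-- Let G be a finite group and p a prime; here a p-local subgroup means the normalizer of a nontrivial p-subgroup, other than G itself. If every p-local subgroup of G that is maximal among p-local subgroups is p-constrained, or if the centralizer of every element of order p of G is p-constrained, then every p-local subgroup of G is p-constrained. -/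
theorem result {G : Type*} [Group G] [Finite G] (p : ℕ) [hp : Fact p.Prime]
    (h : (∀ M : Subgroup G, (∃ T : Subgroup G, IsPGroup p ↥T ∧ T ≠ ⊥ ∧ M = Subgroup.normalizer (T : Set G)) → M ≠ ⊤ →
        (∀ M' : Subgroup G, (∃ T' : Subgroup G, IsPGroup p ↥T' ∧ T' ≠ ⊥ ∧ M' = Subgroup.normalizer (T' : Set G)) → M' ≠ ⊤ → M ≤ M' → M = M') →
        Cfsg.IsPConstrained p ↥M) ∨
      (∀ x : G, orderOf x = p → Cfsg.IsPConstrained p ↥(Subgroup.centralizer ({x} : Set G))))
    (T : Subgroup G) (hT : IsPGroup p ↥T) (hT1 : T ≠ ⊥) (hTG : Subgroup.normalizer (T : Set G) ≠ ⊤) :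
    Cfsg.IsPConstrained p ↥(Subgroup.normalizer (T : Set G)) := by
  rw [isPConstrained_iff]
  set N := Subgroup.normalizer (T : Set G) with hN
  have hTN : T ≤ N := Subgroup.le_normalizer
  rcases h with h | h
  · -- maximal `p`-locals
    set 𝓜 : Set (Subgroup G) := {M | (∃ T' : Subgroup G, IsPGroup p ↥T' ∧ T' ≠ ⊥ ∧
      M = Subgroup.normalizer (T' : Set G)) ∧ M ≠ ⊤} with h𝓜
    have hfin : 𝓜.Finite := Set.toFinite _
    have hNmem : N ∈ 𝓜 := ⟨⟨T, hT, hT1, rfl⟩, hTG⟩
    obtain ⟨M, hNM, ⟨⟨hM1, hM2⟩, hmax⟩⟩ := hfin.exists_le_maximal hNmem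
    have hMc : Cfsg.IsPConstrained p ↥M := by
      apply h M hM1 hM2
      intro M' hM' hM'top hle
      exact le_antisymm hle (hmax ⟨hM', hM'top⟩ hle)
    rw [isPConstrained_iff] at hMc
    have h1 := pLayer_inf_normalizer_eq_bot p M T (hTN.trans hNM) hT hMc
    have h2 : M ⊓ Subgroup.normalizer (T : Set G) = N := inf_eq_right.mpr hNM
    rw [h2] at h1
    exact h1
  · -- centralizers of elements of order `p`
    obtain ⟨x, hxT, hxp, hxc⟩ := exists_central_orderOf_eq_prime T hT hT1
    set C := Subgroup.centralizer ({x} : Set G) with hC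
    have hTC : T ≤ C := by
      intro y hy
      rw [hC, Subgroup.mem_centralizer_singleton_iff]
      exact hxc y hy
    have hCc := h x hxp
    rw [isPConstrained_iff] at hCc
    have h1 := pLayer_inf_normalizer_eq_bot p C T hTC hT hCc
    have hRn : (T.subgroupOf N).Normal := Subgroup.normal_in_normalizer
    have hRp : IsPGroup p ↥(T.subgroupOf N) := hT.comap_subtype
    have hxN : x ∈ N := hTN hxT
    apply pLayer_eq_bot_of_centralizer p (T.subgroupOf N) hRp ⟨x, hxN⟩
      (by rw [Subgroup.mem_subgroupOf]; exact hxT)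
    have heq : Subgroup.centralizer ({(⟨x, hxN⟩ : ↥N)} : Set ↥N) = (C ⊓ N).subgroupOf N := by
      ext y
      rw [Subgroup.mem_centralizer_singleton_iff, Subgroup.mem_subgroupOf, Subgroup.mem_inf,
        hC, Subgroup.mem_centralizer_singleton_iff]
      constructor
      · intro hy
        exact ⟨congrArg Subtype.val hy, y.2⟩
      · rintro ⟨hy, -⟩
        exact Subtype.ext hy
    rw [heq]
    exact pLayer_eq_bot_of_equiv p (Subgroup.subgroupOfEquivOfLe inf_le_right).symm h1

end Cfsg.Agent.S3247
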