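import Cfsg.Statements.S3264
import Cfsg.Agent.Helper9.GenZipper.InvGraph

set_option autoImplicit false
open Cfsg

namespace Cfsg.Agent.S3264

/-- Let G be a non-abelian finite simple group and X a conjugacy class of involutions of G. Form the graph on X in which two distinct involutions are joined when their product has odd order. Then this graph is connected. (By the Baer–Suzuki Theorem the graph has at least one edge; connectedness is the stronger statement.) -/
theorem result {G : Type*} [Group G] [Finite G] [IsSimpleGroup G]
    (hG : ¬ IsMulCommutative G) (t : G) (ht : orderOf t = 2) :
    (SimpleGraph.fromRel fun x y : {x : G // IsConj t x} => Odd (orderOf (x.1 * y.1))).Connected := by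
  have hn : Subgroup.normalClosure {t} = ⊤ := by
    rcases (Subgroup.normalClosure_normal (s := {t})).eq_bot_or_eq_top with h | h
    · exfalso
      have ht1 : t ∈ Subgroup.normalClosure {t} := Subgroup.subset_normalClosure rfl
      rw [h, Subgroup.mem_bot] at ht1
      rw [ht1, orderOf_one] at ht
      omega
    · exact h
  exact Cfsg.Agent.Helper9.GenZipper.invGraph_connected t ht hn

end Cfsg.Agent.S3264
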