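import Mathlib
import Cfsg.Statements.S3265
import Cfsg.Agent.Helper2.InvGraphL

set_option autoImplicit false
open Cfsg

namespace Cfsg.Agent.S3265

open Cfsg.Agent.Helper2

/-- Let n ≥ 5 and let X be a conjugacy class of involutions of the symmetric group of degree n. The graph on X joining two distinct involutions whose product has odd order is connected and has diameter exactly 2. -/
theorem result (n : ℕ) (hn : 5 ≤ n) (t : Equiv.Perm (Fin n)) (ht : orderOf t = 2) :
    (SimpleGraph.fromRel fun x y : {x : Equiv.Perm (Fin n) // IsConj t x} =>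
        Odd (orderOf (x.1 * y.1))).Connected ∧
      (SimpleGraph.fromRel fun x y : {x : Equiv.Perm (Fin n) // IsConj t x} =>
        Odd (orderOf (x.1 * y.1))).diam = 2 := by
    classical
    have h5 : 5 ≤ Fintype.card (Fin n) := by rw [Fintype.card_fin]; exact hn
    have htt : t * t = 1 := Cfsg.Agent.Helper2.InvGraph.sq_eq_one_of_orderOf_two ht
    haveI : Nonempty {x : Equiv.Perm (Fin n) // IsConj t x} := ⟨⟨t, IsConj.refl t⟩⟩
    apply Cfsg.Agent.Helper2.GraphDiam2.connected_and_diam_eq_two
    · intro u v huv
      have hx : u.1 * u.1 = 1 := Cfsg.Agent.Helper2.InvGraph.sq_eq_one_of_isConj htt u.2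
      have hxy : IsConj u.1 v.1 := u.2.symm.trans v.2
      obtain ⟨z, hz, h1, h2⟩ := Cfsg.Agent.Helper2.InvGraph.exists_common h5 hx hxy
      by_cases hzu : z = u.1
      · left
        rw [SimpleGraph.fromRel_adj]
        refine ⟨huv, Or.inl ?_⟩
        rw [hzu] at h2
        exact h2
      by_cases hzv : z = v.1
      · left
        rw [SimpleGraph.fromRel_adj]
        refine ⟨huv, Or.inl ?_⟩
        rw [hzv] at h1
        exact h1
      right
      refine ⟨⟨z, u.2.trans hz⟩, ?_, ?_⟩
      · rw [SimpleGraph.fromRel_adj]
        refine ⟨?_, Or.inl h1⟩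
        intro h
        apply hzu
        rw [h]
      · rw [SimpleGraph.fromRel_adj]
        refine ⟨?_, Or.inl h2⟩
        intro h
        apply hzv
        rw [← h]
    · obtain ⟨y, hy, hty⟩ := Cfsg.Agent.Helper2.InvGraph.exists_nonadjacent h5 ht
      refine ⟨⟨t, IsConj.refl t⟩, ⟨y, hy⟩, ?_, ?_⟩
      · intro h
        have hyt : t = y := congrArg Subtype.val h
        rw [← hyt, htt, orderOf_one] at hty
        omega
      · rw [SimpleGraph.fromRel_adj]
        rintro ⟨-, h | h⟩
        · simp only at h
          rw [hty] at h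
          exact absurd h (by decide)
        · simp only at h
          rw [Cfsg.Agent.Helper2.InvGraph.orderOf_mul_comm', hty] at h
          exact absurd h (by decide)

end Cfsg.Agent.S3265
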