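import Mathlib
import Cfsg.Statements.S3266
import Cfsg.Agent.Helper2.GraphDiam2
import Cfsg.Agent.Helper2.PSL2InvF

set_option autoImplicit false
open Cfsg

namespace Cfsg.Agent.S3266

open Cfsg.Agent.Helper2

/-- Let F be a finite field with at least 4 elements and let X be a conjugacy class of involutions of PSL(2, F). The graph on X joining two distinct involutions whose product has odd order is connected and has diameter exactly 2. -/
theorem result {F : Type*} [Field F] [Fintype F] (hF : 4 ≤ Fintype.card F)
    (t : Matrix.ProjectiveSpecialLinearGroup (Fin 2) F) (ht : orderOf t = 2) :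
    (SimpleGraph.fromRel fun x y : {x : Matrix.ProjectiveSpecialLinearGroup (Fin 2) F // IsConj t x} =>
        Odd (orderOf (x.1 * y.1))).Connected ∧
      (SimpleGraph.fromRel fun x y : {x : Matrix.ProjectiveSpecialLinearGroup (Fin 2) F // IsConj t x} =>
        Odd (orderOf (x.1 * y.1))).diam = 2 := by
    classical
    have hconj_ord : ∀ x : Matrix.ProjectiveSpecialLinearGroup (Fin 2) F, IsConj t x →
        orderOf x = 2 := by
      intro x hx
      obtain ⟨c, hc⟩ := isConj_iff.mp hx
      rw [← hc]
      have := (MulAut.conj c).orderOf_eq t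
      rw [MulAut.conj_apply] at this
      rw [this]; exact ht
    haveI : Nonempty {x : Matrix.ProjectiveSpecialLinearGroup (Fin 2) F // IsConj t x} :=
      ⟨⟨t, IsConj.refl t⟩⟩
    refine Cfsg.Agent.Helper2.GraphDiam2.connected_and_diam_eq_two _ ?_ ?_
    · intro u v huv
      by_cases hodd : Odd (orderOf (u.1 * v.1))
      · left
        rw [SimpleGraph.fromRel_adj]
        exact ⟨huv, Or.inl hodd⟩
      · right
        have hu := hconj_ord u.1 u.2
        have hv := hconj_ord v.1 v.2
        obtain ⟨z, hz, hzu, hzv, h1, h2⟩ :=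
          Cfsg.Agent.Helper2.PSL2Inv.exists_common hF u.1 v.1 hu hv hodd
        have c1 := Cfsg.Agent.Helper2.PSL2Inv.isConj_of_odd_orderOf_mul u.1 z
          (Cfsg.Agent.Helper2.PSL2Inv.mul_self_of_orderOf_two u.1 hu)
          (Cfsg.Agent.Helper2.PSL2Inv.mul_self_of_orderOf_two z hz) h1
        refine ⟨⟨z, u.2.trans c1⟩, ?_, ?_⟩
        · rw [SimpleGraph.fromRel_adj]
          refine ⟨?_, Or.inl h1⟩
          intro h
          exact hzu (congrArg Subtype.val h).symm
        · rw [SimpleGraph.fromRel_adj]
          refine ⟨?_, Or.inr h2⟩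
          intro h
          exact hzv (congrArg Subtype.val h)
    · obtain ⟨x, y, hx, hy, hxy, hyx⟩ := Cfsg.Agent.Helper2.PSL2Inv.exists_witness (F := F) hF
      have cx := Cfsg.Agent.Helper2.PSL2Inv.isConj_of_involutions hF t x ht hx
      have cy := Cfsg.Agent.Helper2.PSL2Inv.isConj_of_involutions hF t y ht hy
      refine ⟨⟨x, cx⟩, ⟨y, cy⟩, ?_, ?_⟩
      · intro h
        have hxy' : x = y := congrArg Subtype.val h
        rw [hxy', Cfsg.Agent.Helper2.PSL2Inv.mul_self_of_orderOf_two y hy, orderOf_one] at hxy
        omega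
      · rw [SimpleGraph.fromRel_adj]
        rintro ⟨-, h | h⟩
        · simp only [hxy] at h
          exact absurd h (by decide)
        · simp only [hyx] at h
          exact absurd h (by decide)

end Cfsg.Agent.S3266
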