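import Cfsg.Statements.S3269
import Cfsg.Agent.Helper4.QuatProdD

set_option autoImplicit false
open Cfsg

namespace Cfsg.Agent.S3269

/-- Let G be a finite group whose Sylow 2-subgroup S is an internal direct product Q × R with Q generalized quaternion (of order at least 8) and R a subgroup all of whose involutions are central in R. Then G is not simple. In particular no finite simple group has a Sylow 2-subgroup that is a direct product of one or more generalized quaternion groups. -/
theorem result {G : Type*} [Group G] [Finite G]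
    (S : Sylow 2 G) (Q R : Subgroup G) (hQR : Cfsg.IsInternalDirectProduct Q R (S : Subgroup G))
    (n : ℕ) (hn : 1 ≤ n) (eQ : ↥Q ≃* QuaternionGroup (2 ^ n))
    (hR : ∀ r ∈ R, orderOf r = 2 → ∀ s ∈ R, r * s = s * r) :
    ¬ IsSimpleGroup G := by
  intro hsimple
  have hk : 2 ≤ 2 ^ n := by
    calc 2 = 2 ^ 1 := by norm_num
      _ ≤ 2 ^ n := Nat.pow_le_pow_right (by norm_num) hn
  obtain ⟨p, hpS, hp2, hiso⟩ :=
    Cfsg.Agent.Helper4.QuatProd.exists_isolated S Q R hQR (2 ^ n) hk eQ hR
  obtain ⟨N, hNn, hNodd, hNc⟩ :=
    Cfsg.Agent.Helper2.ZStar.glauberman_zstar_sylow S p hp2 hpS hiso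
  have hp1 : p ≠ 1 := by
    intro h
    rw [h, orderOf_one] at hp2
    omega
  rcases hsimple.eq_bot_or_eq_top_of_normal N hNn with hN | hN
  · -- `p` is central, so `G` is commutative, but `Q` is not
    have hpc : p ∈ Subgroup.center G := by
      rw [Subgroup.mem_center_iff]
      intro g
      have h1 := hNc g
      rw [hN, Subgroup.mem_bot] at h1
      calc g * p = (p * g * p⁻¹ * g⁻¹)⁻¹ * (p * g) := by group
        _ = p * g := by rw [h1]; group
    have hcen : Subgroup.center G = ⊤ := by
      rcases hsimple.eq_bot_or_eq_top_of_normal (Subgroup.center G) inferInstance with h | h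
      · rw [h, Subgroup.mem_bot] at hpc
        exact absurd hpc hp1
      · exact h
    have hcomm : ∀ x y : G, x * y = y * x := by
      intro x y
      have : y ∈ Subgroup.center G := by rw [hcen]; trivial
      exact (Subgroup.mem_center_iff.mp this x)
    have h1 := hcomm ((eQ.symm (QuaternionGroup.a 1) : Q) : G) ((eQ.symm (QuaternionGroup.xa 0) : Q) : G)
    have h2 : eQ.symm (QuaternionGroup.a 1) * eQ.symm (QuaternionGroup.xa 0) =
        eQ.symm (QuaternionGroup.xa 0) * eQ.symm (QuaternionGroup.a 1) := Subtype.ext h1
    rw [← map_mul, ← map_mul] at h2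
    exact Cfsg.Agent.Helper4.QuatProd.a_one_xa_ne (2 ^ n) hk (eQ.symm.injective h2)
  · -- `G` has odd order but contains an involution
    have h1 : Nat.card N = Nat.card G := by
      rw [hN]; exact Subgroup.card_top
    rw [h1] at hNodd
    have h2 : orderOf p ∣ Nat.card G := orderOf_dvd_natCard p
    rw [hp2] at h2
    exact (Nat.not_even_iff_odd.mpr hNodd) (even_iff_two_dvd.mpr h2)

end Cfsg.Agent.S3269
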