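import Cfsg.Statements.S3279
import Cfsg.Agent.Helper4.ThreeInvolC

set_option autoImplicit false
open Cfsg

namespace Cfsg.Agent.S3279

/-- Let G be a finite simple group and x an involution of G whose centralizer contains at most three involutions. Then C_G(x) contains a Sylow 2-subgroup of G, and all involutions of G are conjugate. -/
theorem result {G : Type*} [Group G] [Finite G] [IsSimpleGroup G] (x : G) (hx : orderOf x = 2)
    (h3 : Nat.card {u : ↥(Subgroup.centralizer ({x} : Set G)) // orderOf u = 2} ≤ 3) :
    (∃ S : Sylow 2 G, (S : Subgroup G) ≤ Subgroup.centralizer ({x} : Set G)) ∧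
      ∀ u v : G, orderOf u = 2 → orderOf v = 2 → IsConj u v := by
  classical
  by_cases hcomm : ∀ a b : G, a * b = b * a
  · constructor
    · haveI : Fact (Nat.Prime 2) := ⟨Nat.prime_two⟩
      exact ⟨default, fun s _ => Subgroup.mem_centralizer_singleton_iff.mpr (hcomm s x)⟩
    · intro u v hu hv
      have hu1 : u ≠ 1 := Cfsg.Agent.Helper4.ThreeInvol.ne_one_of_two hu
      have hv1 : v ≠ 1 := Cfsg.Agent.Helper4.ThreeInvol.ne_one_of_two hv
      have hn : (Subgroup.zpowers u).Normal := by
        refine ⟨fun n hn g => ?_⟩
        rw [hcomm g n, mul_inv_cancel_right]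
        exact hn
      have htop : Subgroup.zpowers u = ⊤ := by
        rcases IsSimpleGroup.eq_bot_or_eq_top_of_normal (Subgroup.zpowers u) hn with h | h
        · exfalso
          apply hu1
          have : u ∈ Subgroup.zpowers u := Subgroup.mem_zpowers u
          rwa [h, Subgroup.mem_bot] at this
        · exact h
      have hv' : v ∈ Subgroup.zpowers u := by rw [htop]; trivial
      obtain ⟨k, hk⟩ := Subgroup.mem_zpowers_iff.mp hv'
      have h1 : u ^ (k % 2) = v := by
        have := zpow_mod_orderOf u k
        rw [hu] at this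
        rw [← hk]
        exact_mod_cast this
      rcases Int.emod_two_eq_zero_or_one k with h | h
      · rw [h, zpow_zero] at h1
        exact absurd h1.symm hv1
      · rw [h, zpow_one] at h1
        rw [h1]
  · push Not at hcomm
    obtain ⟨S, hxS, hSC⟩ := Cfsg.Agent.Helper4.ThreeInvol.exists_sylow_le x hx h3
    refine ⟨⟨S, hSC⟩, fun u v hu hv => ?_⟩
    exact (Cfsg.Agent.Helper4.ThreeInvol.isConj_of_invol hcomm x hx h3 S hxS hSC u hu).symm.trans
      (Cfsg.Agent.Helper4.ThreeInvol.isConj_of_invol hcomm x hx h3 S hxS hSC v hv)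

end Cfsg.Agent.S3279
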