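import Mathlib
import Cfsg.Statements.S3294
import Cfsg.Agent.Helper2.QuatNormal
import Cfsg.Agent.Helper1.Fitting2
import Cfsg.Agent.Helper1.MinNonPNilp
import Cfsg.Agent.Helper4.PNilpSectionD

set_option autoImplicit false
open Cfsg

namespace Cfsg.Agent.S3294

open Cfsg.Agent.Helper2

/-- A finite solvable group whose Sylow 2-subgroups are generalized quaternion of order at least 32 has a normal 2-complement. -/
theorem result {G : Type*} [Group G] [Finite G] (hsol : Group.IsSolvable G) (T : Sylow 2 G) (n : ℕ) (hn : 3 ≤ n) (hT : Nonempty ((T : Subgroup G) ≃* QuaternionGroup (2 ^ n))) : Cfsg.HasNormalPComplement 2 G := by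
  classical
  obtain ⟨e⟩ := hT
  haveI : Fact (Nat.Prime 2) := ⟨Nat.prime_two⟩
  haveI : NeZero (2 ^ n) := ⟨by positivity⟩
  set K := Cfsg.pPrimeCore 2 G with hK
  have hKc : (Nat.card K).Coprime 2 := Cfsg.Agent.Helper1.card_pPrimeCore_coprime 2
  apply Cfsg.Agent.Helper4.hasNormalPComplement_of_quotient_coprime K hKc
  set π := QuotientGroup.mk' K with hπ
  have hπs : Function.Surjective π := QuotientGroup.mk'_surjective _
  haveI hsolv : Group.IsSolvable (G ⧸ K) := Group.isSolvable_of_surjective hπs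
  have hcent := Cfsg.Agent.Helper1.centralizer_pCore_le (G := G ⧸ K) 2
    (Cfsg.Agent.Helper1.pPrimeCore_quotient_pPrimeCore 2)
  set R := Cfsg.pCore 2 (G ⧸ K) with hR
  have hR2 : IsPGroup 2 R := Cfsg.Agent.Helper1.pCore_isPGroup 2
  set Tb : Sylow 2 (G ⧸ K) := T.mapSurjective hπs with hTb
  have hRT : R ≤ Tb := Cfsg.Agent.Helper1.pCore_le_sylow Tb
  have hTbmem : ∀ r ∈ R, ∃ x ∈ (T : Subgroup G), π x = r := by
    intro r hr
    have h1 : r ∈ (Tb : Subgroup (G ⧸ K)) := hRT hr
    rw [hTb, Sylow.coe_mapSurjective, Subgroup.mem_map] at h1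
    exact h1
  let φ : ↥(T : Subgroup G) →* G ⧸ K := π.comp (T : Subgroup G).subtype
  have hφinj : Function.Injective φ := by
    rw [injective_iff_map_eq_one]
    intro x hx
    have hxK : (x : G) ∈ K := by
      have : π (x : G) = 1 := hx
      rwa [hπ, QuotientGroup.mk'_apply, QuotientGroup.eq_one_iff] at this
    obtain ⟨j, hj⟩ := T.2 x
    have h1 : orderOf (x : G) ∣ 2 ^ j := by
      apply orderOf_dvd_of_pow_eq_one
      have := congrArg Subtype.val hj
      simpa using this
    have h2 : orderOf (x : G) ∣ Nat.card K := by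
      have := orderOf_dvd_natCard (⟨(x : G), hxK⟩ : K)
      rwa [Subgroup.orderOf_mk] at this
    have hcop : Nat.Coprime (2 ^ j) (Nat.card K) := Nat.Coprime.pow_left _ hKc.symm
    have h3 : orderOf (x : G) = 1 := Nat.eq_one_of_dvd_coprimes hcop h1 h2
    rw [orderOf_eq_one_iff] at h3
    exact Subtype.ext h3
  set R₀ : Subgroup ↥(T : Subgroup G) := R.comap φ with hR₀
  haveI hR₀n : R₀.Normal := Subgroup.Normal.comap inferInstance φ
  set N : Subgroup (QuaternionGroup (2 ^ n)) := R₀.map e.toMonoidHom with hN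
  haveI hNn : N.Normal := Subgroup.Normal.map hR₀n e.toMonoidHom e.surjective
  -- the isomorphism R₀ ≃* R
  let ψ : R₀ →* R :=
    { toFun := fun x => ⟨φ x.1, x.2⟩
      map_one' := by ext; simp
      map_mul' := fun x y => by ext; simp }
  have hψbij : Function.Bijective ψ := by
    constructor
    · intro x y hxy
      have h1 : φ x.1 = φ y.1 := congrArg Subtype.val hxy
      exact Subtype.ext (hφinj h1)
    · intro r
      obtain ⟨x, hxT, hx⟩ := hTbmem r.1 r.2
      have hmem : (⟨x, hxT⟩ : ↥(T : Subgroup G)) ∈ R₀ := by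
        rw [hR₀, Subgroup.mem_comap]
        change π x ∈ R
        rw [hx]; exact r.2
      exact ⟨⟨⟨x, hxT⟩, hmem⟩, Subtype.ext hx⟩
  let eR : R ≃* N := (MulEquiv.ofBijective ψ hψbij).symm.trans (e.subgroupMap R₀)
  have hRaut : ∀ (β : MulAut R) (t : ℕ), Odd t → β ^ t = 1 → β = 1 :=
    QuatNormal.aut_odd_trivial_of_mulEquiv eR
      (fun β t ht hβ => QuatNormal.normal_quat_aut_odd_trivial n hn N β t ht hβ)
  -- G ⧸ K is a 2-group
  have hP : IsPGroup 2 (G ⧸ K) := by
    intro gb
    obtain ⟨k, t, ht, hkt⟩ := Nat.exists_eq_two_pow_mul_odd (orderOf_pos gb).ne'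
    refine ⟨k, ?_⟩
    set h := gb ^ 2 ^ k with hh
    have hht : h ^ t = 1 := by rw [hh, ← pow_mul, ← hkt, pow_orderOf_eq_one]
    have hβ : (MulAut.conjNormal h : MulAut R) ^ t = 1 := by rw [← map_pow, hht, map_one]
    have hβ1 := hRaut _ t ht hβ
    have hhC : h ∈ Subgroup.centralizer (R : Set (G ⧸ K)) := by
      rw [Subgroup.mem_centralizer_iff]
      intro r hr
      have h1 : ((MulAut.conjNormal h : MulAut R) ⟨r, hr⟩ : G ⧸ K) = r := by
        rw [hβ1]; rfl
      rw [MulAut.conjNormal_apply] at h1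
      have h1' : h * r * h⁻¹ = r := h1
      exact (mul_inv_eq_iff_eq_mul.mp h1').symm
    have hhR : h ∈ R := hcent hhC
    obtain ⟨j, hj⟩ := hR2 ⟨h, hhR⟩
    have h1 : orderOf h ∣ 2 ^ j := by
      apply orderOf_dvd_of_pow_eq_one
      have := congrArg Subtype.val hj
      simpa using this
    have h2 : orderOf h ∣ t := orderOf_dvd_of_pow_eq_one hht
    have hcop : Nat.Coprime (2 ^ j) t := by
      apply Nat.Coprime.pow_left
      rw [Nat.coprime_two_left]
      exact ht
    have h3 : orderOf h = 1 := Nat.eq_one_of_dvd_coprimes hcop h1 h2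
    exact orderOf_eq_one_iff.mp h3
  exact Cfsg.Agent.Helper1.hasNormalPComplement_of_isNilpotent hP.isNilpotent 2

end Cfsg.Agent.S3294
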