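import Mathlib
import Cfsg.Statements.S3299
import Cfsg.Agent.Helper3.LargeXT
import Cfsg.Agent.Helper3.LargeXU
import Cfsg.Agent.Helper3.LargeXV
-- import your own Cfsg.Agent.* helpers here

set_option autoImplicit false
open Cfsg

namespace Cfsg.Agent.S3299

open Cfsg.Agent.Helper3.LargeX

/-- A group generated by elements of odd order has no nontrivial homomorphism to `ℤˣ`. -/
theorem hom_trivial {G : Type*} [Group G] [Finite G] (hres : Cfsg.pResidual 2 G = ⊤) (f : G →* ℤˣ) (g : G) :
    f g = 1 := by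
  have hle : Cfsg.pResidual 2 G ≤ f.ker := by
    unfold Cfsg.pResidual
    rw [Subgroup.closure_le]
    intro x hx
    have hx' : Nat.Coprime (orderOf x) 2 := hx
    rw [SetLike.mem_coe, MonoidHom.mem_ker]
    have hodd : Odd (orderOf x) := Nat.Coprime.odd_of_right hx'
    have h1 : (f x) ^ (orderOf x) = 1 := by
      rw [← map_pow, pow_orderOf_eq_one, map_one]
    rcases Int.units_eq_one_or (f x) with h | h
    · exact h
    · rw [h, hodd.neg_one_pow] at h1
      exact absurd h1 (by decide)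
  have : g ∈ f.ker := hle (by rw [hres]; exact Subgroup.mem_top g)
  exact MonoidHom.mem_ker.mp this

theorem main {G : Type*} [Group G] [Finite G] (hres : Cfsg.pResidual 2 G = ⊤) (z : G) (hz : orderOf z = 2)
    (E : Subgroup G) (hE : E = (Cfsg.pCore 2 ↥(Subgroup.centralizer ({z} : Set G))).map (Subgroup.centralizer ({z} : Set G)).subtype)
    (hext : Cfsg.IsExtraspecial 2 ↥E) (hcent : Subgroup.centralizer (E : Set G) ≤ E) (n : ℕ) (hn : 2 ≤ n) (hcard : Nat.card ↥E = 2 ^ (2 * n + 1))
    (K : Subgroup G) (_hKH : K ≤ Subgroup.centralizer ({z} : Set G))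
    (hKi : K.relIndex (Subgroup.centralizer ({z} : Set G)) = 2) : E ≤ K := by
  classical
  let Qf : G → Subgroup G := fun x =>
    (Cfsg.pCore 2 ↥(Subgroup.centralizer ({x} : Set G))).map (Subgroup.centralizer ({x} : Set G)).subtype
  have hQf : ∀ x : G, Qf x = (Cfsg.pCore 2 ↥(Subgroup.centralizer ({x} : Set G))).map
    (Subgroup.centralizer ({x} : Set G)).subtype := fun x => rfl
  have hEQ : E = Qf z := hE
  subst hEQ
  have hLX : LX (Qf z) z := lx_of_setting Qf hQf z hz hext hcent
  set H := Subgroup.centralizer ({z} : Set G) with hH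
  have hEH : Qf z ≤ H := Q_le_centralizer Qf hQf z
  have hZ : ∀ y, y ∈ (Subgroup.center ↥(Qf z)).map (Qf z).subtype ↔ y = 1 ∨ y = z := by
    intro y
    constructor
    · rintro ⟨c, hc, rfl⟩
      apply hLX.cent _ c.2
      intro b hb
      have := Subgroup.mem_center_iff.mp hc ⟨b, hb⟩
      have h2 := congrArg Subtype.val this
      simpa using h2.symm
    · rintro (h | h)
      · rw [h]; exact Subgroup.one_mem _
      · refine ⟨⟨z, hLX.z_mem⟩, ?_, h.symm⟩
        rw [SetLike.mem_coe, Subgroup.mem_center_iff]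
        intro b
        apply Subtype.ext
        exact hLX.z_comm b b.2
  have hsq := sq_of_extraspecial (Qf z) hext z hZ
  have hc8 : 8 < Nat.card ↥(Qf z) := by
    rw [hcard]
    calc 8 < 2 ^ 5 := by norm_num
      _ ≤ 2 ^ (2 * n + 1) := Nat.pow_le_pow_right (by norm_num) (by omega)
  -- the sign homomorphism
  have hidx : (K.subgroupOf H).index = 2 := hKi
  let ϕ : ↥H →* ℤˣ := MonoidHom.mk' (fun h => if (h : G) ∈ K then 1 else -1) (by
    intro a b
    have := Subgroup.mul_mem_iff_of_index_two hidx (a := a) (b := b)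
    simp only [Subgroup.mem_subgroupOf] at this
    have hab : ((a * b : ↥H) : G) = (a : G) * (b : G) := rfl
    by_cases ha : (a : G) ∈ K <;> by_cases hb : (b : G) ∈ K
    · have : (a : G) * (b : G) ∈ K := K.mul_mem ha hb
      simp [ha, hb, hab, this]
    · have h1 : ¬ ((a : G) * (b : G) ∈ K) := by
        intro h
        exact hb ((this.mp h).mp ha)
      simp [ha, hb, hab, h1]
    · have h1 : ¬ ((a : G) * (b : G) ∈ K) := by
        intro h
        exact ha ((this.mp h).mpr hb)
      simp [ha, hb, hab, h1]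
    · have h1 : (a : G) * (b : G) ∈ K := this.mpr (by tauto)
      simp [ha, hb, hab, h1])
  have hϕ1 : ∀ h : ↥H, ϕ h = 1 ↔ (h : G) ∈ K := by
    intro h
    show (if (h : G) ∈ K then (1 : ℤˣ) else -1) = 1 ↔ _
    by_cases hh : (h : G) ∈ K
    · simp [hh]
    · simp [hh]
  have hϕneg : ∀ h : ↥H, ϕ h = -1 ↔ (h : G) ∉ K := by
    intro h
    show (if (h : G) ∈ K then (1 : ℤˣ) else -1) = -1 ↔ _
    by_cases hh : (h : G) ∈ K
    · simp [hh]
    · simp [hh]
  have hcommK : ∀ p q : G, p ∈ H → q ∈ H → p * q * p⁻¹ * q⁻¹ ∈ K := by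
    intro p q hp hq
    have h1 : ϕ (⟨p, hp⟩ * ⟨q, hq⟩ * ⟨p, hp⟩⁻¹ * ⟨q, hq⟩⁻¹) = 1 := by
      rw [map_mul, map_mul, map_mul, map_inv, map_inv]
      rw [mul_comm (ϕ ⟨p, hp⟩) (ϕ ⟨q, hq⟩), mul_assoc (ϕ ⟨q, hq⟩), mul_inv_cancel, mul_one, mul_inv_cancel]
    exact (hϕ1 _).mp h1
  -- the transfer is trivial
  have htr : ∀ g : G, MonoidHom.transfer ϕ g = 1 := fun g => hom_trivial hres _ g
  by_contra hEK
  obtain ⟨x, hxE, hxK⟩ := SetLike.not_le_iff_exists.mp hEK
  -- z ∈ K
  have hzK : z ∈ K := by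
    have hx1 : x ≠ 1 := by
      intro h; apply hxK; rw [h]; exact K.one_mem
    by_cases hxz : x = z
    · -- find another element
      exfalso
      have hsub : ((Qf z : Subgroup G) : Set G) ⊆ (({1, z} : Finset G) : Set G) := by
        intro q hq
        by_contra hq'
        simp only [Finset.coe_insert, Finset.coe_singleton, Set.mem_insert_iff, Set.mem_singleton_iff, not_or] at hq'
        obtain ⟨y, hy, hyq⟩ := hLX.exists_noncomm hq hq'.1 hq'.2
        have h1 : y * q * y⁻¹ * q⁻¹ = z := by rw [hyq]; group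
        have := hcommK y q (hEH hy) (hEH hq)
        rw [h1] at this
        exact hxK (hxz ▸ this)
      have h1 : Nat.card ↥(Qf z) ≤ 2 := by
        have : Nat.card ↥(Qf z) = ((Qf z : Subgroup G) : Set G).ncard := by
          rw [← Nat.card_coe_set_eq]; rfl
        rw [this]
        calc ((Qf z : Subgroup G) : Set G).ncard ≤ (({1, z} : Finset G) : Set G).ncard :=
              Set.ncard_le_ncard hsub (Finset.finite_toSet _)
          _ = ({1, z} : Finset G).card := Set.ncard_coe_finset _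
          _ ≤ 2 := Finset.card_le_two
      omega
    · obtain ⟨y, hy, hyx⟩ := hLX.exists_noncomm hxE hx1 hxz
      have h1 : y * x * y⁻¹ * x⁻¹ = z := by rw [hyx]; group
      have := hcommK y x (hEH hy) (hEH hxE)
      rw [h1] at this
      exact this
  obtain ⟨e, heE, hee, heK, a, haE, b, hbE, hae, hbe, hab⟩ :=
    hLX.exists_good_involution hsq hc8 K hzK hxE hxK
  have he1 : e ≠ 1 := by
    intro h; apply heK; rw [h]; exact K.one_mem
  have hez : e ≠ z := by
    intro h; apply heK; rw [h]; exact hzK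
  have he2 : e ^ 2 = 1 := by rw [pow_two]; exact hee
  have heH : e ∈ H := hEH heE
  have hϕe : ϕ ⟨e, heH⟩ = -1 := (hϕneg _).mpr heK
  let C : Subgroup G := Qf z ⊓ Subgroup.centralizer ({e} : Set G)
  have hCp : IsPGroup 2 C := hLX.pgrp.to_le inf_le_left
  have hCH : C ≤ H := le_trans inf_le_left hEH
  have hCe : ∀ c ∈ C, c * e = e * c := fun c hc => Subgroup.mem_centralizer_singleton_iff.mp hc.2
  obtain ⟨g, hgH, ⟨hmem, hval⟩, hCg⟩ :=
    exists_fixed_coset_of_transfer H ϕ e he2 heH hϕe (htr e) C hCp hCH hCe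
  have hgK : g⁻¹ * e * g ∉ K := (hϕneg ⟨_, hmem⟩).mp hval
  -- w = g z g⁻¹ centralizes C
  have hwC : ∀ r ∈ Qf z, r * e = e * r → (g * z * g⁻¹) * r = r * (g * z * g⁻¹) := by
    intro r hr hre
    have h1 : g⁻¹ * r * g ∈ H := hCg r ⟨hr, Subgroup.mem_centralizer_singleton_iff.mpr hre⟩
    have h2 : (g⁻¹ * r * g) * z = z * (g⁻¹ * r * g) := Subgroup.mem_centralizer_singleton_iff.mp h1
    calc (g * z * g⁻¹) * r = g * (z * (g⁻¹ * r * g)) * g⁻¹ := by group
      _ = g * ((g⁻¹ * r * g) * z) * g⁻¹ := by rw [h2]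
      _ = r * (g * z * g⁻¹) := by group
  have hwz : (g * z * g⁻¹) * z = z * (g * z * g⁻¹) :=
    hwC z hLX.z_mem (hLX.z_comm e heE).symm
  rcases hLX.mem_four_of_centralizes' heE hee he1 hez hwz hwC with h | h | h | h
  · apply hLX.z_ne
    have : z = g⁻¹ * (g * z * g⁻¹) * g := by group
    rw [this, h]; group
  · apply hgH
    rw [hH, Subgroup.mem_centralizer_singleton_iff]
    calc g * z = (g * z * g⁻¹) * g := by group
      _ = z * g := by rw [h]
  · apply hgK
    have : g⁻¹ * e * g = z := by rw [← h]; group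
    rw [this]; exact hzK
  · apply hgK
    have hea : g⁻¹ * a * g ∈ H := hCg a ⟨haE, Subgroup.mem_centralizer_singleton_iff.mpr hae⟩
    have heb : g⁻¹ * b * g ∈ H := hCg b ⟨hbE, Subgroup.mem_centralizer_singleton_iff.mpr hbe⟩
    have hu := hcommK _ _ hea heb
    have hu' : (g⁻¹ * a * g) * (g⁻¹ * b * g) * (g⁻¹ * a * g)⁻¹ * (g⁻¹ * b * g)⁻¹ = g⁻¹ * z * g := by
      rw [← hab]; group
    rw [hu'] at hu
    have hew : e = z * (g * z * g⁻¹) := by
      rw [h, ← mul_assoc, hLX.z_sq, one_mul]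
    have : g⁻¹ * e * g = (g⁻¹ * z * g) * z := by
      rw [hew]; group
    rw [this]
    exact K.mul_mem hu hzK

/-- Let G be a finite group with no nontrivial 2-group quotient (O^2(G) = G), z an involution of G with H = C_G(z), and suppose E = O_2(H) is extraspecial with C_G(E) ≤ E and of order 2^(2n+1) with n ≥ 2. Then E is contained in every normal subgroup of H of index 2. -/
theorem result {G : Type*} [Group G] [Finite G] (hres : Cfsg.pResidual 2 G = ⊤) (z : G) (hz : orderOf z = 2)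
    (E : Subgroup G) (hE : E = (Cfsg.pCore 2 ↥(Subgroup.centralizer ({z} : Set G))).map (Subgroup.centralizer ({z} : Set G)).subtype)
    (hext : Cfsg.IsExtraspecial 2 ↥E) (hcent : Subgroup.centralizer (E : Set G) ≤ E) (n : ℕ) (hn : 2 ≤ n) (hcard : Nat.card ↥E = 2 ^ (2 * n + 1))
    (K : Subgroup G) (hKH : K ≤ Subgroup.centralizer ({z} : Set G))
    (hKn : ∀ h ∈ Subgroup.centralizer ({z} : Set G), K.map (MulAut.conj h).toMonoidHom = K)
    (hKi : K.relIndex (Subgroup.centralizer ({z} : Set G)) = 2) : E ≤ K := by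
  exact main hres z hz E hE hext hcent n hn hcard K hKH hKi


end Cfsg.Agent.S3299
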