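import Mathlib
import Cfsg.Statements.S3313
import Cfsg.Agent.Lead.J2Count
import Cfsg.Agent.Helper9.Co2C.AbsA
import Cfsg.Agent.Helper4.FittingChar
import Cfsg.Agent.Helper2.Layer

set_option autoImplicit false
open Cfsg

namespace Cfsg.Agent.S3313

/-- The order of a simple group with the involution pattern of the Hall–Janko group. Let G be a non-abelian finite simple group with exactly two conjugacy classes of involutions, represented by z and t, such that: F*(C_G(z)) is an extraspecial 2-group; Q = O₂(C_G(z)) has order 32 and C_G(z) is the semidirect product of Q by a subgroup isomorphic to A₅; every involution of Q is conjugate to z and every other involution of C_G(z) is conjugate to t; C_G(t) is an internal direct product V × B with V a four-group containing t and B ≅ A₅; every involution of B is conjugate to z and every other involution of C_G(t) is conjugate to t. Then |G| = 604800. -/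
theorem result {G : Type*} [Group G] [Finite G]
    [IsSimpleGroup G] (hna : ¬ IsMulCommutative G) (z t : G) (hz : orderOf z = 2) (ht : orderOf t = 2)
    (hzt : ¬ IsConj z t) (hcl : ∀ x : G, orderOf x = 2 → IsConj x z ∨ IsConj x t)
    (hex : Cfsg.IsExtraspecial 2 ↥(Cfsg.generalizedFittingSubgroup ↥(Subgroup.centralizer ({z} : Set G))))
    (hQ : Nat.card ↥(Cfsg.pCore 2 ↥(Subgroup.centralizer ({z} : Set G))) = 32)
    (K : Subgroup G) (hK : Nonempty (↥K ≃* alternatingGroup (Fin 5)))
    (hKC : K ⊔ (Cfsg.pCore 2 ↥(Subgroup.centralizer ({z} : Set G))).map (Subgroup.centralizer ({z} : Set G)).subtype = Subgroup.centralizer ({z} : Set G))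
    (hKQ : K ⊓ (Cfsg.pCore 2 ↥(Subgroup.centralizer ({z} : Set G))).map (Subgroup.centralizer ({z} : Set G)).subtype = ⊥)
    (hQz : ∀ x ∈ (Cfsg.pCore 2 ↥(Subgroup.centralizer ({z} : Set G))).map (Subgroup.centralizer ({z} : Set G)).subtype, orderOf x = 2 → IsConj x z)
    (hCz : ∀ x ∈ Subgroup.centralizer ({z} : Set G), orderOf x = 2 →
      x ∉ (Cfsg.pCore 2 ↥(Subgroup.centralizer ({z} : Set G))).map (Subgroup.centralizer ({z} : Set G)).subtype → IsConj x t)
    (V B : Subgroup G) (hVB : Cfsg.IsInternalDirectProduct V B (Subgroup.centralizer ({t} : Set G)))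
    (hV : Nat.card ↥V = 4) (hV2 : ∀ v ∈ V, v ^ 2 = 1) (htV : t ∈ V) (hB : Nonempty (↥B ≃* alternatingGroup (Fin 5)))
    (hBz : ∀ x ∈ B, orderOf x = 2 → IsConj x z)
    (hCt : ∀ x ∈ Subgroup.centralizer ({t} : Set G), orderOf x = 2 → x ∉ B → IsConj x t) :
    Nat.card G = 604800 := by
  classical
  have hp2 : Fact (Nat.Prime 2) := ⟨Nat.prime_two⟩
  -- the generalized Fitting subgroup of the centralizer is its largest normal 2-subgroup
  have hFQ : Cfsg.generalizedFittingSubgroup ↥(Subgroup.centralizer ({z} : Set G)) =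
      Cfsg.pCore 2 ↥(Subgroup.centralizer ({z} : Set G)) := by
    apply le_antisymm
    · exact Cfsg.Agent.Helper9.le_pCore _ inferInstance hex.1.1
    · exact le_trans (Cfsg.Agent.Helper4.pCore_le_fittingSubgroup 2)
        Cfsg.Agent.Helper2.fittingSubgroup_le_generalizedFittingSubgroup
  set C : Subgroup G := Subgroup.centralizer ({z} : Set G) with hC
  set Q : Subgroup G := (Cfsg.pCore 2 ↥C).map C.subtype with hQdef
  have hF : (Cfsg.generalizedFittingSubgroup ↥C).map C.subtype = Q := by rw [hFQ]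
  have hQC : Q ≤ C := Subgroup.map_subtype_le _
  rw [hFQ] at hex
  have hexQ : Cfsg.IsExtraspecial 2 ↥Q :=
    Cfsg.Agent.Helper9.Co2C.isExtraspecial_congr
      ((Cfsg.pCore 2 ↥C).equivMapOfInjective C.subtype C.subtype_injective) hex
  have hQ32 : Nat.card ↥Q = 32 := by
    rw [← hQ]
    exact Nat.card_congr
      ((Cfsg.pCore 2 ↥C).equivMapOfInjective C.subtype C.subtype_injective).toEquiv.symm
  obtain ⟨hz1, hz2⟩ := Cfsg.Agent.Lead.LargeQuot.sq_of_orderOf_two hz
  have hzc : ∀ q ∈ Q, q * z = z * q := fun q hq =>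
    Subgroup.mem_centralizer_singleton_iff.mp (hQC hq)
  have hzQ : z ∈ Q :=
    Cfsg.Agent.Lead.LargeQuot.fstar_selfC z Q hF z rfl (fun q hq => (hzc q hq).symm)
  have hsC : Subgroup.centralizer (Q : Set G) ≤ Q := by
    intro c hc
    rw [Subgroup.mem_centralizer_iff] at hc
    exact Cfsg.Agent.Lead.LargeQuot.fstar_selfC z Q hF c (hc z hzQ).symm
      (fun q hq => (hc q hq).symm)
  obtain ⟨hLX, -, hsq⟩ := Cfsg.Agent.Lead.LargeQuot.lx_of_fstar z hz Q hQC hF hexQ hzQ hsC
  obtain ⟨eK⟩ := hK
  obtain ⟨eB⟩ := hB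
  -- the order of the centralizer of `z`
  have hKC' : K ≤ C := by
    rw [← hKC]
    exact le_sup_left
  have hKz : ∀ k ∈ K, k * z = z * k := fun k hk =>
    Subgroup.mem_centralizer_singleton_iff.mp (hKC' hk)
  have hKN : K ≤ Subgroup.normalizer (Q : Set G) := by
    intro k hk
    rw [Subgroup.mem_normalizer_iff]
    intro q
    constructor
    · intro hq
      exact hLX.norm k (hKz k hk) q hq
    · intro hq
      have hk' : k⁻¹ * z = z * k⁻¹ := hKz _ (K.inv_mem hk)
      have := hLX.norm k⁻¹ hk' _ hq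
      have e : k⁻¹ * (k * q * k⁻¹) * k⁻¹⁻¹ = q := by group
      rwa [e] at this
  have hCcard : Nat.card ↥C = 1920 := by
    have h := Cfsg.Agent.Helper1.card_sup_of_le_normalizer hKN hKQ
    rw [sup_comm, hKC, hQ32, Nat.card_congr eK.toEquiv, Cfsg.Agent.Lead.J2.a5_card] at h
    exact h
  -- an element of order five
  obtain ⟨a, ha5, ha1⟩ := Cfsg.Agent.Lead.J2.a5_five
  set g : G := ((eK.symm a : ↥K) : G) with hg
  have hgK : g ∈ K := (eK.symm a).2
  have hg5 : g ^ 5 = 1 := by
    rw [hg, ← Subgroup.coe_pow, ← map_pow, ha5, map_one, Subgroup.coe_one]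
  have hg1 : g ≠ 1 := by
    intro h
    apply ha1
    have h' : (eK.symm a : ↥K) = 1 := Subtype.ext h
    have := congrArg eK h'
    rwa [MulEquiv.apply_symm_apply, map_one] at this
  have hgQ : ¬ ∀ q ∈ Q, g * q = q * g := by
    intro hcen
    apply hg1
    have hgcen : g ∈ Subgroup.centralizer (Q : Set G) := by
      rw [Subgroup.mem_centralizer_iff]
      intro q hq
      exact (hcen q hq).symm
    have : g ∈ K ⊓ Q := ⟨hgK, hsC hgcen⟩
    rw [hKQ] at this
    exact Subgroup.mem_bot.mp this
  have hpat : Cfsg.Agent.Lead.J2.Pat z t Q V B :=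
    { hz := hz
      ht := ht
      hzt := hzt
      lx := hLX
      hsq := hsq
      hQz := hQz
      hCz := fun x hxz hx2 hxQ =>
        hCz x (Subgroup.mem_centralizer_singleton_iff.mpr hxz) hx2 hxQ
      hVB := hVB
      hV2 := fun v hv => by rw [← pow_two]; exact hV2 v hv
      htV := htV
      hBz := hBz
      hCt := hCt }
  exact hpat.order_eq eB hcl hQ32 hV hCcard g hg5 (hKz g hgK) hgQ

end Cfsg.Agent.S3313
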