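import Cfsg.Statements.S3349
import Mathlib

set_option autoImplicit false
open Cfsg

namespace Cfsg.Agent.S3349

/-- A maximal abelian subgroup contains its centralizer. -/
theorem centralizer_le_of_maximal {Q : Type*} [Group Q] (A : Subgroup Q) (hA : IsMulCommutative A)
    (hmax : ∀ B : Subgroup Q, A ≤ B → IsMulCommutative B → B = A) :
    Subgroup.centralizer (A : Set Q) ≤ A := by
  intro x hx
  have hcomm : ∀ u ∈ ((A : Set Q) ∪ {x}), ∀ v ∈ ((A : Set Q) ∪ {x}), u * v = v * u := by
    intro u hu v hv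
    rcases hu with hu | hu <;> rcases hv with hv | hv
    · exact setLike_mul_comm hu hv
    · rw [Set.mem_singleton_iff] at hv; subst hv
      exact (hx u hu)
    · rw [Set.mem_singleton_iff] at hu; subst hu
      exact (hx v hv).symm
    · rw [Set.mem_singleton_iff] at hu hv; subst hu; subst hv; rfl
  have hB := Subgroup.isMulCommutative_closure hcomm
  have hle : A ≤ Subgroup.closure ((A : Set Q) ∪ {x}) := fun a ha =>
    Subgroup.subset_closure (Or.inl ha)
  have := hmax _ hle hB
  rw [← this]
  exact Subgroup.subset_closure (Or.inr rfl)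

/-- Let Q be a finite extraspecial p-group and α an automorphism of Q fixing every element of some maximal abelian subgroup of Q. Then the order of α is a power of p. -/
theorem result {Q : Type*} [Group Q] [Finite Q]
    (p : ℕ) [Fact p.Prime] (hQ : Cfsg.IsExtraspecial p Q) (α : MulAut Q)
    (A : Subgroup Q) (hA : IsMulCommutative A) (hmax : ∀ B : Subgroup Q, A ≤ B → IsMulCommutative B → B = A)
    (hfix : ∀ a ∈ A, α a = a) :
    ∃ k : ℕ, orderOf α = p ^ k := by
  obtain ⟨⟨hp, _hfrat, hcomm⟩, _hcard⟩ := hQ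
  have hCA := centralizer_le_of_maximal A hA hmax
  have hZA : Subgroup.center Q ≤ A :=
    (Subgroup.center_le_centralizer (A : Set Q)).trans hCA
  -- `q⁻¹ * α q ∈ A` for every `q`
  have hc : ∀ q : Q, q⁻¹ * α q ∈ A := by
    intro q
    apply hCA
    intro a ha
    -- z = a q a⁻¹ q⁻¹ is central
    have hz : a * q * a⁻¹ * q⁻¹ ∈ Subgroup.center Q := by
      rw [← hcomm, commutator_def]
      have := Subgroup.commutator_mem_commutator (Subgroup.mem_top a) (Subgroup.mem_top q)
      simpa [commutatorElement_def] using this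
    set z := a * q * a⁻¹ * q⁻¹ with hzdef
    have hzfix : α z = z := hfix z (hZA hz)
    have hαz : α z = a * α q * a⁻¹ * (α q)⁻¹ := by
      rw [hzdef]
      simp [map_mul, map_inv, hfix a ha]
    have h1 : a * q * a⁻¹ = z * q := by rw [hzdef]; group
    have h2 : a * α q * a⁻¹ = z * α q := by
      rw [← hzfix, hαz]; group
    have hzc : ∀ y : Q, z * y = y * z := fun y => ((Subgroup.mem_center_iff.mp hz) y).symm
    -- now compute
    have h3 : a * (q⁻¹ * α q) * a⁻¹ = q⁻¹ * α q := by
      have : a * (q⁻¹ * α q) * a⁻¹ = (a * q * a⁻¹)⁻¹ * (a * α q * a⁻¹) := by group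
      rw [this, h1, h2, mul_inv_rev, mul_assoc, inv_mul_cancel_left]
    calc a * (q⁻¹ * α q) = a * (q⁻¹ * α q) * a⁻¹ * a := by group
      _ = q⁻¹ * α q * a := by rw [h3]
  -- `α^n q = q * (q⁻¹ α q)^n`
  have hpow : ∀ (n : ℕ) (q : Q), (α ^ n) q = q * (q⁻¹ * α q) ^ n := by
    intro n
    induction n with
    | zero => intro q; simp
    | succ n ih =>
      intro q
      rw [pow_succ', MulAut.mul_apply, ih q, map_mul, map_pow, hfix _ (hc q), pow_succ']
      simp only [← mul_assoc, mul_inv_cancel]
      rw [one_mul]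
  have hone : α ^ (Nat.card Q) = 1 := by
    ext q
    rw [hpow, pow_card_eq_one', mul_one]
    rfl
  obtain ⟨m, hm⟩ := IsPGroup.iff_card.mp hp
  have hdvd : orderOf α ∣ p ^ m := by
    rw [← hm]
    exact orderOf_dvd_of_pow_eq_one hone
  obtain ⟨k, _, hk⟩ := (Nat.dvd_prime_pow (Fact.out : p.Prime)).mp hdvd
  exact ⟨k, hk⟩

end Cfsg.Agent.S3349
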