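import Cfsg.Statements.S3357
import Cfsg.Agent.Helper1.FCRd
import Cfsg.Agent.Helper1.FCRe

set_option autoImplicit false
open Cfsg

namespace Cfsg.Agent.S3357

/-- Let G be a finite group that occurs as a Frobenius complement. Then G has a faithful irreducible representation over an algebraic closure of the rationals in which no non-identity element of G has 1 as an eigenvalue: there are n ≥ 1 and an injective homomorphism ρ from G to GL(n) over that field, with no invariant subspace other than 0 and the whole space, such that for g ≠ 1 the only vector fixed by ρ(g) is 0. -/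
theorem result {G : Type*} [Group G] [Finite G]
    (hFC : ∃ (L : Type) (_ : Group L) (_ : Finite L) (H : Subgroup L), Cfsg.IsFrobeniusComplement H ∧ Nonempty (G ≃* H)) :
    ∃ (n : ℕ) (ρ : G →* GL (Fin n) (AlgebraicClosure ℚ)), 0 < n ∧ Function.Injective ρ ∧
      (∀ W : Submodule (AlgebraicClosure ℚ) (Fin n → AlgebraicClosure ℚ),
        (∀ g : G, ∀ w ∈ W, ((ρ g : GL (Fin n) (AlgebraicClosure ℚ)) : Matrix (Fin n) (Fin n) (AlgebraicClosure ℚ)).mulVec w ∈ W) → W = ⊥ ∨ W = ⊤) ∧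
      ∀ g : G, g ≠ 1 → ∀ v : Fin n → AlgebraicClosure ℚ,
        ((ρ g : GL (Fin n) (AlgebraicClosure ℚ)) : Matrix (Fin n) (Fin n) (AlgebraicClosure ℚ)).mulVec v = v → v = 0 := by
  classical
  obtain ⟨L, iG, iF, H, hF, ⟨e⟩⟩ := hFC
  obtain ⟨m, τ, hm, hτ⟩ := Cfsg.Agent.Helper1.FCR.exists_int_rep_of_frobenius H hF e
  set τK := Cfsg.Agent.Helper1.FCR.mapRep (Int.castRingHom (AlgebraicClosure ℚ)) τ with hτKdef
  have hτK := Cfsg.Agent.Helper1.FCR.isFpfRep_mapRep (Int.castRingHom (AlgebraicClosure ℚ)) τ hτ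
  have hfpf0 : Cfsg.Agent.Helper1.FCR.IsFpf τK.toHomUnits := by
    intro g hg v hv
    rw [MonoidHom.coe_toHomUnits] at hv
    exact Cfsg.Agent.Helper1.FCR.fpf_of_isFpfRep τK hτK g hg
      (Nat.cast_ne_zero.2 (orderOf_pos g).ne') v hv
  obtain ⟨n, ρ, hn, hirr, hfpf⟩ :=
    Cfsg.Agent.Helper1.FCR.exists_irreducible_fpf m τK.toHomUnits hm hfpf0
  refine ⟨n, ρ, hn, ?_, hirr, hfpf⟩
  rw [injective_iff_map_eq_one]
  intro g hg
  by_contra hg1
  have h1 := hfpf g hg1 (Pi.single ⟨0, hn⟩ 1) (by rw [hg, Units.val_one, Matrix.one_mulVec])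
  have h2 := congrFun h1 ⟨0, hn⟩
  rw [Pi.single_eq_same, Pi.zero_apply] at h2
  exact one_ne_zero h2

end Cfsg.Agent.S3357
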