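import Cfsg.Statements.S3358
import Cfsg.Agent.S0035
import Cfsg.Agent.Helper1.Frobenius2
import Cfsg.Agent.Helper1.ZFCf
-- import your own Cfsg.Agent.* helpers here

set_option autoImplicit false
open Cfsg

namespace Cfsg.Agent.S3358

/-- Structure of solvable Frobenius complements. Let G be a finite solvable group that occurs as a Frobenius complement. Then G has a normal subgroup G₀ such that G/G₀ is isomorphic to a subgroup of Sym(4) (G₀ is the kernel of a homomorphism to Sym(4)), all Sylow subgroups of G₀ are cyclic, and G₀ has a presentation ⟨x, y | x^n = 1, y^m = 1, x⁻¹ y x = y^r⟩ with n, m ≥ 1, gcd(r − 1, m) = gcd(n, m) = 1 and r^(n/n′) ≡ 1 (mod m), where n′ is the product of the distinct primes dividing n. -/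
theorem result {G : Type*} [Group G] [Finite G] (hsol : Group.IsSolvable G)
    (hFC : ∃ (L : Type) (_ : Group L) (_ : Finite L) (H : Subgroup L), Cfsg.IsFrobeniusComplement H ∧ Nonempty (G ≃* H)) :
    ∃ G₀ : Subgroup G, G₀.Normal ∧
      (∃ f : G →* Equiv.Perm (Fin 4), f.ker = G₀) ∧
      (∀ (p : ℕ) [Fact p.Prime] (P : Sylow p G₀), IsCyclic P) ∧
      ∃ n m r : ℕ, 0 < n ∧ 0 < m ∧ Nat.Coprime (r - 1) m ∧ Nat.Coprime n m ∧ 1 ≤ r ∧
        r ^ (n / ∏ p ∈ n.primeFactors, p) % m = 1 % m ∧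
        Nonempty (G₀ ≃* PresentedGroup
          ({FreeGroup.of (0 : Fin 2) ^ n, FreeGroup.of (1 : Fin 2) ^ m,
            (FreeGroup.of (0 : Fin 2))⁻¹ * FreeGroup.of 1 * FreeGroup.of 0 * (FreeGroup.of (1 : Fin 2) ^ r)⁻¹} :
            Set (FreeGroup (Fin 2)))) := by
  obtain ⟨L, hLg, hLf, H, hH, ⟨e⟩⟩ := hFC
  obtain ⟨N, -, hNn, hc⟩ := Cfsg.Agent.S0035.result H hH
  have hN : N ≠ ⊥ := by
    rintro rfl
    exact hH.2.1 (Subgroup.isComplement'_bot_left.1 hc)
  have hfpf := (Cfsg.Agent.Helper1.frobenius_iff_fpf N H hc hN hH.1).1 hH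
  -- Sylow subgroups
  have hsylH : Cfsg.Agent.Helper1.ZFC.SylCQ ↥H := fun p _ P =>
    Cfsg.Agent.Helper1.frobenius_complement_sylow N H hN hfpf p P
  have hsyl : Cfsg.Agent.Helper1.ZFC.SylCQ G :=
    Cfsg.Agent.Helper1.ZFC.sylCQ_of_mulEquiv e hsylH
  -- subgroups of order `pq`
  set ι : G →* L := H.subtype.comp e.toMonoidHom with hι
  have hιinj : Function.Injective ι := H.subtype_injective.comp e.injective
  have hpq : ∀ D : Subgroup G, ∀ p q : ℕ, p.Prime → q.Prime → Nat.card D = p * q → IsCyclic D := by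
    intro D p q hp hq hcard
    have hD'H : D.map ι ≤ H := by
      rintro _ ⟨d, _, rfl⟩
      exact (e d).2
    have hcard' : Nat.card (D.map ι) = p * q := by
      rw [Subgroup.card_map_of_injective hιinj]; exact hcard
    have hsolD : Group.IsSolvable ↥(D.map ι) :=
      Group.isSolvable_of_surjective (ι.subgroupMap_surjective D)
    haveI := Cfsg.Agent.Helper1.ZFC.frobenius_complement_pq N H hN hfpf (D.map ι) hD'H hsolD hp hq
      hcard'
    exact isCyclic_of_injective (ι.subgroupMap D)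
      (by
        rw [← MonoidHom.ker_eq_bot_iff, Subgroup.ker_subgroupMap,
          (MonoidHom.ker_eq_bot_iff ι).2 hιinj, Subgroup.bot_subgroupOf])
  exact Cfsg.Agent.Helper1.ZFC.main_structure hsol hsyl hpq

end Cfsg.Agent.S3358
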