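import Mathlib
import Cfsg.Statements.S3362
import Cfsg.Statements.S3362
import Cfsg.Agent.Helper3.SchreierStep
-- import your own Cfsg.Agent.* helpers here

set_option autoImplicit false
open Cfsg

namespace Cfsg.Agent.S3362
open Cfsg

open Cfsg.Agent.Helper3

/-- permutations of twelve points -/
abbrev P12 := Equiv.Perm (Fin 12)

/-- The eight generators, ordered `u, v, w, s, t, x₁, x₂, x₃`. -/
def gen : Fin 8 → P12 :=
  ![Equiv.swap (4 : Fin 12) 9 * Equiv.swap (4 : Fin 12) 5 * Equiv.swap (4 : Fin 12) 6 * Equiv.swap (7 : Fin 12) 10 * Equiv.swap (7 : Fin 12) 11 * Equiv.swap (7 : Fin 12) 8,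
    Equiv.swap (4 : Fin 12) 11 * Equiv.swap (4 : Fin 12) 5 * Equiv.swap (4 : Fin 12) 7 * Equiv.swap (6 : Fin 12) 8 * Equiv.swap (6 : Fin 12) 9 * Equiv.swap (6 : Fin 12) 10,
    Equiv.swap (4 : Fin 12) 8 * Equiv.swap (4 : Fin 12) 5 * Equiv.swap (4 : Fin 12) 10 * Equiv.swap (6 : Fin 12) 7 * Equiv.swap (6 : Fin 12) 9 * Equiv.swap (6 : Fin 12) 11,
    Equiv.swap (3 : Fin 12) 5 * Equiv.swap (3 : Fin 12) 4 * Equiv.swap (6 : Fin 12) 8 * Equiv.swap (6 : Fin 12) 7 * Equiv.swap (9 : Fin 12) 11 * Equiv.swap (9 : Fin 12) 10,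
    Equiv.swap (3 : Fin 12) 9 * Equiv.swap (3 : Fin 12) 6 * Equiv.swap (4 : Fin 12) 10 * Equiv.swap (4 : Fin 12) 7 * Equiv.swap (5 : Fin 12) 11 * Equiv.swap (5 : Fin 12) 8,
    Equiv.swap (0 : Fin 12) 3 * Equiv.swap (6 : Fin 12) 7 * Equiv.swap (8 : Fin 12) 10 * Equiv.swap (9 : Fin 12) 11,
    Equiv.swap (0 : Fin 12) 1 * Equiv.swap (6 : Fin 12) 9 * Equiv.swap (7 : Fin 12) 10 * Equiv.swap (8 : Fin 12) 11,
    Equiv.swap (1 : Fin 12) 2 * Equiv.swap (6 : Fin 12) 11 * Equiv.swap (7 : Fin 12) 9 * Equiv.swap (8 : Fin 12) 10]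

/-- number of generators at each level -/
def m : ℕ → ℕ
  | 0 => 0
  | 1 => 3
  | 2 => 5
  | 3 => 6
  | 4 => 7
  | _ => 8

/-- base points -/
def bp : ℕ → Fin 12
  | 0 => 5
  | 1 => 4
  | 2 => 3
  | 3 => 0
  | 4 => 1
  | _ => 2

/-- basic orbits -/
def Δ : ℕ → Finset (Fin 12)
  | 0 => {5, 6, 7, 8, 9, 10, 11}
  | 1 => {4, 5, 6, 7, 8, 9, 10, 11}
  | 2 => {3, 4, 5, 6, 7, 8, 9, 10, 11}
  | 3 => {0, 3, 4, 5, 6, 7, 8, 9, 10, 11}
  | 4 => {0, 1, 3, 4, 5, 6, 7, 8, 9, 10, 11}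
  | _ => Finset.univ

def repTab : List (List (List (Fin 8))) :=
  [[],
   [[], [], [], [], [], [0, 0], [0], [1], [0, 1], [1, 2], [2], [2, 0]],
   [[], [], [], [], [3], [3, 3], [4], [1, 3], [0, 1, 3], [4, 4], [2, 3], [2, 4]],
   [[], [], [], [5], [3, 5], [3, 3, 5], [4, 5], [1, 3, 5], [0, 1, 3, 5], [4, 4, 5], [2, 3, 5], [2, 4, 5]],
   [[6], [], [], [5, 6], [3, 5, 6], [3, 3, 5, 6], [4, 5, 6], [1, 3, 5, 6], [0, 1, 3, 5, 6], [4, 4, 5, 6], [2, 3, 5, 6], [2, 4, 5, 6]],
   [[6, 7], [7], [], [5, 6, 7], [3, 5, 6, 7], [3, 3, 5, 6, 7], [4, 5, 6, 7], [1, 3, 5, 6, 7], [0, 1, 3, 5, 6, 7], [4, 4, 5, 6, 7], [2, 3, 5, 6, 7], [2, 4, 5, 6, 7]]]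

/-- transversal words -/
def repWord (i : ℕ) (δ : Fin 12) : List (Fin 8) := ((repTab.getD i []).getD δ.val [])

/-- transversal elements -/
def rep (i : ℕ) (δ : Fin 12) : P12 := ((repWord i δ).map gen).prod

/-- sifting -/
def mem : ℕ → P12 → Bool
  | 0, g => decide (g = 1)
  | i + 1, g => decide (g (bp (i + 1)) ∈ Δ (i + 1)) &&
      mem i ((rep (i + 1) (g (bp (i + 1))))⁻¹ * g)

set_option maxRecDepth 100000 in
theorem D1 : ∀ i : Fin 5, ∀ j : Fin 8, j.val < m (i.val + 1) → ∀ δ ∈ Δ (i.val + 1),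
    gen j δ ∈ Δ (i.val + 1) := by
  decide +kernel

set_option maxRecDepth 100000 in
theorem D2 : ∀ i : Fin 5, ∀ j : Fin 8, j.val < m (i.val + 1) → ∀ δ ∈ Δ (i.val + 1),
    mem i.val ((rep (i.val + 1) (gen j δ))⁻¹ * gen j * rep (i.val + 1) δ) = true := by
  decide +kernel

set_option maxRecDepth 100000 in
theorem D3 : ∀ i : Fin 5, ∀ δ ∈ Δ (i.val + 1),
    rep (i.val + 1) δ (bp (i.val + 1)) = δ ∧ ∀ j ∈ repWord (i.val + 1) δ, j.val < m (i.val + 1) := by
  decide +kernel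

set_option maxRecDepth 100000 in
theorem D3' : ∀ i : Fin 5, repWord (i.val + 1) (bp (i.val + 1)) = [] ∧ bp (i.val + 1) ∈ Δ (i.val + 1) ∧
    Δ i.val = (Δ (i.val + 1)).erase (bp (i.val + 1)) := by
  decide +kernel

set_option maxRecDepth 100000 in
/-- generators of level `i` fix every point outside `Δ i` -/
theorem D4 : ∀ i : Fin 6, ∀ j : Fin 8, j.val < m i.val → ∀ δ : Fin 12, δ ∉ Δ i.val → gen j δ = δ := by
  decide +kernel

/-- the chain of subgroups -/
def G (i : ℕ) : Subgroup P12 := Subgroup.closure (gen '' {j | j.val < m i})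

theorem m_mono (i : ℕ) : m i ≤ m (i + 1) := by
  rcases i with _ | _ | _ | _ | _ | i <;> simp [m]

theorem G_mono (i : ℕ) : G i ≤ G (i + 1) := by
  apply Subgroup.closure_mono
  apply Set.image_mono
  intro j hj
  exact lt_of_lt_of_le hj (m_mono i)

theorem gen_mem (i : ℕ) (j : Fin 8) (hj : j.val < m i) : gen j ∈ G i :=
  Subgroup.subset_closure ⟨j, hj, rfl⟩

theorem rep_mem (i : Fin 5) (δ : Fin 12) (hδ : δ ∈ Δ (i.val + 1)) :
    rep (i.val + 1) δ ∈ G (i.val + 1) := by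
  unfold rep
  apply Subgroup.list_prod_mem
  intro x hx
  rw [List.mem_map] at hx
  obtain ⟨j, hj, rfl⟩ := hx
  exact gen_mem _ j ((D3 i δ hδ).2 j hj)

theorem rep_bp (i : Fin 5) : rep (i.val + 1) (bp (i.val + 1)) = 1 := by
  unfold rep
  rw [(D3' i).1]
  rfl

/-- elements of `G i` fix the points outside `Δ i` -/
theorem G_fix (i : Fin 6) : ∀ g ∈ G i.val, ∀ δ : Fin 12, δ ∉ Δ i.val → g δ = δ := by
  intro g hg
  induction hg using Subgroup.closure_induction with
  | mem x hx =>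
    obtain ⟨j, hj, rfl⟩ := hx
    exact D4 i j hj
  | one => intro δ _; rfl
  | mul x y _ _ hx hy =>
    intro δ hδ
    rw [Equiv.Perm.mul_apply, hy δ hδ, hx δ hδ]
  | inv x _ ih =>
    intro δ hδ
    rw [Equiv.Perm.inv_eq_iff_eq, ih δ hδ]

theorem G_zero : G 0 = ⊥ := by
  unfold G
  have : {j : Fin 8 | j.val < m 0} = ∅ := by
    ext j; simp [m]
  rw [this, Set.image_empty, Subgroup.closure_empty]

/-- The sifting test decides membership in the chain. -/
theorem mem_iff : ∀ i : ℕ, i ≤ 5 → ∀ g : P12, g ∈ G i ↔ mem i g = true := by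
  intro i
  induction i with
  | zero =>
    intro _ g
    rw [G_zero, Subgroup.mem_bot]
    simp [mem]
  | succ i ih =>
    intro hi g
    have ih' := ih (by omega)
    let i' : Fin 5 := ⟨i, by omega⟩
    have hstep := SchreierStep.step (G i) (G (i + 1)) (gen '' {j | j.val < m (i + 1)}) rfl
      (bp (i + 1)) (Δ (i + 1)) (rep (i + 1)) (D3' i').2.1 (rep_bp i')
      (by
        rintro _ ⟨j, hj, rfl⟩ δ hδ
        exact D1 i' j hj δ hδ)
      (by
        rintro _ ⟨j, hj, rfl⟩ δ hδ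
        exact (ih' _).2 (D2 i' j hj δ hδ))
    constructor
    · intro hg
      obtain ⟨h1, h2⟩ := hstep g hg
      simp only [mem, Bool.and_eq_true, decide_eq_true_eq]
      exact ⟨h1, (ih' _).1 h2⟩
    · intro hm
      simp only [mem, Bool.and_eq_true, decide_eq_true_eq] at hm
      obtain ⟨h1, h2⟩ := hm
      have h3 := (ih' _).2 h2
      have : g = rep (i + 1) (g (bp (i + 1))) * ((rep (i + 1) (g (bp (i + 1))))⁻¹ * g) := by group
      rw [this]
      exact Subgroup.mul_mem _ (rep_mem i' _ h1) (G_mono i h3)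

theorem chain_step (i : Fin 5) : ∀ g ∈ G (i.val + 1),
    g (bp (i.val + 1)) ∈ Δ (i.val + 1) ∧
      (rep (i.val + 1) (g (bp (i.val + 1))))⁻¹ * g ∈ G i.val := by
  intro g hg
  have := (mem_iff (i.val + 1) (by omega) g).1 hg
  simp only [mem, Bool.and_eq_true, decide_eq_true_eq] at this
  exact ⟨this.1, (mem_iff i.val (by omega) _).2 this.2⟩

theorem chain_stab (i : Fin 5) : ∀ g ∈ G (i.val + 1), g (bp (i.val + 1)) = bp (i.val + 1) →
    g ∈ G i.val :=
  SchreierStep.stab (G i.val) (G (i.val + 1)) (bp (i.val + 1)) (Δ (i.val + 1)) (rep (i.val + 1))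
    (rep_bp i) (chain_step i)

theorem bp_notMem (i : Fin 5) : bp (i.val + 1) ∉ Δ i.val := by
  rw [(D3' i).2.2]
  simp

theorem chain_card (i : Fin 5) :
    Nat.card (G (i.val + 1)) = (Δ (i.val + 1)).card * Nat.card (G i.val) :=
  SchreierStep.card (G i.val) (G (i.val + 1)) (G_mono i.val) (bp (i.val + 1)) (Δ (i.val + 1))
    (rep (i.val + 1)) (fun δ hδ => (D3 i δ hδ).1) (rep_mem i)
    (fun h hh => G_fix ⟨i.val, by omega⟩ h hh _ (bp_notMem i)) (chain_step i)

theorem card_G4 : Nat.card (G 4) = 7920 := by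
  have h0 : Nat.card (G 0) = 1 := by rw [G_zero, Subgroup.card_bot]
  have h1 := chain_card 0
  have h2 := chain_card 1
  have h3 := chain_card 2
  have h4 := chain_card 3
  simp only [Fin.val_zero, Fin.val_one, zero_add] at h1 h2 h3 h4
  have e2 : ((2 : Fin 5) : ℕ) = 2 := rfl
  have e3 : ((3 : Fin 5) : ℕ) = 3 := rfl
  rw [e2] at h3
  rw [e3] at h4
  rw [h4, h3, h2, h1, h0]
  decide

theorem card_G5 : Nat.card (G 5) = 95040 := by
  have h5 := chain_card 4
  have e4 : ((4 : Fin 5) : ℕ) = 4 := rfl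
  rw [e4] at h5
  rw [h5, card_G4]
  decide

theorem perm_apply_inv (u : P12) (q : Fin 12) : u (u⁻¹ q) = q := by
  rw [← Equiv.Perm.mul_apply, mul_inv_cancel, Equiv.Perm.one_apply]

/-- Sharpness: an element of `G i` fixing `i` points of `Δ i` is trivial. -/
theorem sharp : ∀ i : ℕ, i ≤ 5 → ∀ g ∈ G i, ∀ A : Finset (Fin 12), A ⊆ Δ i → i ≤ A.card →
    (∀ a ∈ A, g a = a) → g = 1 := by
  intro i
  induction i with
  | zero =>
    intro _ g hg _ _ _ _
    rw [G_zero, Subgroup.mem_bot] at hg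
    exact hg
  | succ i ih =>
    intro hi g hg A hA hcard hfix
    let i' : Fin 5 := ⟨i, by omega⟩
    have hne : A.Nonempty := by
      rw [← Finset.card_pos]; omega
    obtain ⟨p, hp⟩ := hne
    set u := rep (i + 1) p with hu
    have huG : u ∈ G (i + 1) := rep_mem i' p (hA hp)
    have hub : u (bp (i + 1)) = p := (D3 i' p (hA hp)).1
    set g' := u⁻¹ * g * u with hg'
    have hg'G : g' ∈ G (i + 1) :=
      Subgroup.mul_mem _ (Subgroup.mul_mem _ (Subgroup.inv_mem _ huG) hg) huG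
    have hg'b : g' (bp (i + 1)) = bp (i + 1) := by
      rw [hg', Equiv.Perm.mul_apply, Equiv.Perm.mul_apply, hub, hfix p hp, ← hub]
      simp
    have hg'H : g' ∈ G i := chain_stab i' g' hg'G hg'b
    let A' : Finset (Fin 12) := (A.erase p).image (fun q => u⁻¹ q)
    have hA'card : i ≤ A'.card := by
      rw [Finset.card_image_of_injective _ (u⁻¹).injective, Finset.card_erase_of_mem hp]
      omega
    have hA'sub : A' ⊆ Δ i := by
      intro q hq
      rw [Finset.mem_image] at hq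
      obtain ⟨r, hr, rfl⟩ := hq
      rw [Finset.mem_erase] at hr
      rw [(D3' i').2.2, Finset.mem_erase]
      constructor
      · intro h
        apply hr.1
        rw [← hub, ← h]
        simp
      · by_contra hnot
        have := G_fix ⟨i + 1, by omega⟩ u huG _ hnot
        rw [perm_apply_inv] at this
        rw [← this] at hnot
        exact hnot (hA hr.2)
    have hfix' : ∀ a ∈ A', g' a = a := by
      intro q hq
      rw [Finset.mem_image] at hq
      obtain ⟨r, hr, rfl⟩ := hq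
      rw [Finset.mem_erase] at hr
      rw [hg', Equiv.Perm.mul_apply, Equiv.Perm.mul_apply, perm_apply_inv,
        hfix r hr.2]
    have h1 := ih (by omega) g' hg'H A' hA'sub hA'card hfix'
    have : g = u * g' * u⁻¹ := by rw [hg']; group
    rw [this, h1]
    group

theorem closure_eq5 :
    Subgroup.closure {gen 3, gen 4, gen 0, gen 1, gen 2, gen 5, gen 6, gen 7} = G 5 := by
  apply le_antisymm
  · rw [Subgroup.closure_le]
    intro x hx
    simp only [Set.mem_insert_iff, Set.mem_singleton_iff] at hx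
    rcases hx with rfl | rfl | rfl | rfl | rfl | rfl | rfl | rfl
    · exact gen_mem 5 3 (by decide)
    · exact gen_mem 5 4 (by decide)
    · exact gen_mem 5 0 (by decide)
    · exact gen_mem 5 1 (by decide)
    · exact gen_mem 5 2 (by decide)
    · exact gen_mem 5 5 (by decide)
    · exact gen_mem 5 6 (by decide)
    · exact gen_mem 5 7 (by decide)
  · unfold G
    rw [Subgroup.closure_le]
    rintro _ ⟨j, hj, rfl⟩
    apply Subgroup.subset_closure
    simp only [Set.mem_insert_iff, Set.mem_singleton_iff]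
    fin_cases j
    · exact Or.inr (Or.inr (Or.inl rfl))
    · exact Or.inr (Or.inr (Or.inr (Or.inl rfl)))
    · exact Or.inr (Or.inr (Or.inr (Or.inr (Or.inl rfl))))
    · exact Or.inl rfl
    · exact Or.inr (Or.inl rfl)
    · exact Or.inr (Or.inr (Or.inr (Or.inr (Or.inr (Or.inl rfl)))))
    · exact Or.inr (Or.inr (Or.inr (Or.inr (Or.inr (Or.inr (Or.inl rfl))))))
    · exact Or.inr (Or.inr (Or.inr (Or.inr (Or.inr (Or.inr (Or.inr rfl))))))

theorem closure_eq4 :
    Subgroup.closure {gen 3, gen 4, gen 0, gen 1, gen 2, gen 5, gen 6} = G 4 := by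
  apply le_antisymm
  · rw [Subgroup.closure_le]
    intro x hx
    simp only [Set.mem_insert_iff, Set.mem_singleton_iff] at hx
    rcases hx with rfl | rfl | rfl | rfl | rfl | rfl | rfl
    · exact gen_mem 4 3 (by decide)
    · exact gen_mem 4 4 (by decide)
    · exact gen_mem 4 0 (by decide)
    · exact gen_mem 4 1 (by decide)
    · exact gen_mem 4 2 (by decide)
    · exact gen_mem 4 5 (by decide)
    · exact gen_mem 4 6 (by decide)
  · unfold G
    rw [Subgroup.closure_le]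
    rintro _ ⟨j, hj, rfl⟩
    apply Subgroup.subset_closure
    simp only [Set.mem_insert_iff, Set.mem_singleton_iff]
    fin_cases j
    · exact Or.inr (Or.inr (Or.inl rfl))
    · exact Or.inr (Or.inr (Or.inr (Or.inl rfl)))
    · exact Or.inr (Or.inr (Or.inr (Or.inr (Or.inl rfl))))
    · exact Or.inl rfl
    · exact Or.inr (Or.inl rfl)
    · exact Or.inr (Or.inr (Or.inr (Or.inr (Or.inr (Or.inl rfl)))))
    · exact Or.inr (Or.inr (Or.inr (Or.inr (Or.inr (Or.inr rfl)))))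
    · exact absurd hj (by decide)

theorem stab_bot (y : Fin 5 ↪ Fin 12) : MulAction.stabilizer (G 5) y = ⊥ := by
  rw [eq_bot_iff]
  intro g hg
  rw [MulAction.mem_stabilizer_iff] at hg
  have hfix : ∀ a : Fin 5, (g : P12) (y a) = y a := by
    intro a
    have := DFunLike.congr_fun hg a
    simpa [Function.Embedding.smul_apply, Subgroup.smul_def, Equiv.Perm.smul_def] using this
  have h1 : (g : P12) = 1 := by
    apply sharp 5 le_rfl g.1 g.2 (Finset.univ.map y) (Finset.subset_univ _)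
    · rw [Finset.card_map, Finset.card_univ, Fintype.card_fin]
    · intro a ha
      rw [Finset.mem_map] at ha
      obtain ⟨b, _, rfl⟩ := ha
      exact hfix b
  rw [Subgroup.mem_bot]
  exact Subtype.ext h1

theorem card_emb : Nat.card (Fin 5 ↪ Fin 12) = 95040 := by
  rw [Nat.card_eq_fintype_card, Fintype.card_embedding_eq, Fintype.card_fin, Fintype.card_fin]
  decide

theorem orbit_univ (y : Fin 5 ↪ Fin 12) : MulAction.orbit (G 5) y = Set.univ := by
  have h1 : (MulAction.stabilizer (G 5) y).index = (MulAction.orbit (G 5) y).ncard :=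
    MulAction.index_stabilizer (G 5) y
  rw [stab_bot, Subgroup.index_bot, card_G5] at h1
  apply Set.eq_of_subset_of_ncard_le (Set.subset_univ _) _ Set.finite_univ
  rw [Set.ncard_univ, card_emb, ← h1]

theorem trans5 : MulAction.IsMultiplyPretransitive (G 5) (Fin 12) 5 := by
  constructor
  intro x y
  have : y ∈ MulAction.orbit (G 5) x := by rw [orbit_univ]; trivial
  obtain ⟨g, hg⟩ := this
  exact ⟨g, hg⟩

theorem stab2 : G 4 = G 5 ⊓ MulAction.stabilizer P12 (2 : Fin 12) := by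
  ext g
  rw [Subgroup.mem_inf, MulAction.mem_stabilizer_iff, Equiv.Perm.smul_def]
  constructor
  · intro hg
    exact ⟨G_mono 4 hg, G_fix ⟨4, by omega⟩ g hg 2 (by decide)⟩
  · rintro ⟨h1, h2⟩
    exact chain_stab 4 g h1 h2

/-- An explicit construction of the Mathieu groups of degrees 11 and 12. On the points 0, …, 11 let s = (3 4 5)(6 7 8)(9 10 11), t = (3 6 9)(4 7 10)(5 8 11), u = (4 6 5 9)(7 8 11 10), v = (4 7 5 11)(6 10 9 8), w = (4 10 5 8)(6 11 9 7), x₁ = (0 3)(6 7)(8 10)(9 11), x₂ = (0 1)(6 9)(7 10)(8 11), x₃ = (1 2)(6 11)(7 9)(8 10) (each written as a product of transpositions). Then the group M₁₂ generated by all eight permutations is sharply 5-transitive on the 12 points and has order 95040, and the group M₁₁ generated by the first seven has order 7920 and is the stabilizer of the point 2 in M₁₂. -/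
theorem result
    (s t u v w x₁ x₂ x₃ : Equiv.Perm (Fin 12))
    (hs : s = Equiv.swap (3 : Fin 12) 5 * Equiv.swap (3 : Fin 12) 4 * Equiv.swap (6 : Fin 12) 8 * Equiv.swap (6 : Fin 12) 7 * Equiv.swap (9 : Fin 12) 11 * Equiv.swap (9 : Fin 12) 10) (ht : t = Equiv.swap (3 : Fin 12) 9 * Equiv.swap (3 : Fin 12) 6 * Equiv.swap (4 : Fin 12) 10 * Equiv.swap (4 : Fin 12) 7 * Equiv.swap (5 : Fin 12) 11 * Equiv.swap (5 : Fin 12) 8)
    (hu : u = Equiv.swap (4 : Fin 12) 9 * Equiv.swap (4 : Fin 12) 5 * Equiv.swap (4 : Fin 12) 6 * Equiv.swap (7 : Fin 12) 10 * Equiv.swap (7 : Fin 12) 11 * Equiv.swap (7 : Fin 12) 8) (hv : v = Equiv.swap (4 : Fin 12) 11 * Equiv.swap (4 : Fin 12) 5 * Equiv.swap (4 : Fin 12) 7 * Equiv.swap (6 : Fin 12) 8 * Equiv.swap (6 : Fin 12) 9 * Equiv.swap (6 : Fin 12) 10) (hw : w = Equiv.swap (4 : Fin 12) 8 * Equiv.swap (4 : Fin 12) 5 * Equiv.swap (4 : Fin 12) 10 * Equiv.swap (6 : Fin 12) 7 * Equiv.swap (6 : Fin 12) 9 * Equiv.swap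 (6 : Fin 12) 11)
    (hx₁ : x₁ = Equiv.swap (0 : Fin 12) 3 * Equiv.swap (6 : Fin 12) 7 * Equiv.swap (8 : Fin 12) 10 * Equiv.swap (9 : Fin 12) 11) (hx₂ : x₂ = Equiv.swap (0 : Fin 12) 1 * Equiv.swap (6 : Fin 12) 9 * Equiv.swap (7 : Fin 12) 10 * Equiv.swap (8 : Fin 12) 11)
    (hx₃ : x₃ = Equiv.swap (1 : Fin 12) 2 * Equiv.swap (6 : Fin 12) 11 * Equiv.swap (7 : Fin 12) 9 * Equiv.swap (8 : Fin 12) 10)
    (M₁₂ M₁₁ : Subgroup (Equiv.Perm (Fin 12))) (hM₁₂ : M₁₂ = Subgroup.closure {s, t, u, v, w, x₁, x₂, x₃})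
    (hM₁₁ : M₁₁ = Subgroup.closure {s, t, u, v, w, x₁, x₂}) :
    MulAction.IsMultiplyPretransitive M₁₂ (Fin 12) 5 ∧ (∀ y : Fin 5 ↪ Fin 12, MulAction.stabilizer M₁₂ y = ⊥) ∧
    Nat.card M₁₂ = 95040 ∧ Nat.card M₁₁ = 7920 ∧
    M₁₁ = M₁₂ ⊓ MulAction.stabilizer (Equiv.Perm (Fin 12)) (2 : Fin 12) := by
  have e5 : M₁₂ = G 5 := by
    rw [hM₁₂, ← closure_eq5, hs, ht, hu, hv, hw, hx₁, hx₂, hx₃]
    rfl
  have e4 : M₁₁ = G 4 := by
    rw [hM₁₁, ← closure_eq4, hs, ht, hu, hv, hw, hx₁, hx₂]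
    rfl
  subst e5 e4
  exact ⟨trans5, stab_bot, card_G5, card_G4, stab2⟩


end Cfsg.Agent.S3362
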