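import Cfsg.Statements.S3366
import Cfsg.Agent.Sp43C.XSideF
import Cfsg.Agent.Sp43C.StSideC

set_option autoImplicit false
open Cfsg

namespace Cfsg.Agent.S3366

open Cfsg.Agent.Sp43C

/-- Let X be a finite group with O₃(X) extraspecial of order 27 and exponent 3, X/O₃(X) isomorphic to SL(2,3), O₂(X) = 1, and a Sylow 3-subgroup of X containing an elementary abelian subgroup of order 27. Then X is isomorphic to the centralizer in PSp(4,3) of a 3-central element of order 3 (an element of order 3 in the centre of a Sylow 3-subgroup). -/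
theorem result {X : Type*} [Group X] [Finite X]
    (hR : Cfsg.IsExtraspecial 3 (Cfsg.pCore 3 X)) (hRcard : Nat.card (Cfsg.pCore 3 X) = 27)
    (hRexp : ∀ r ∈ Cfsg.pCore 3 X, r ^ 3 = 1)
    (e : X ⧸ Cfsg.pCore 3 X ≃* Matrix.SpecialLinearGroup (Fin 2) (ZMod 3))
    (hO2 : Cfsg.pCore 2 X = ⊥)
    (hE : ∃ E : Subgroup X, IsMulCommutative E ∧ (∀ a ∈ E, a ^ 3 = 1) ∧ Nat.card E = 27)
    (F : Type*) [Field F] [Fintype F] (hF : Fintype.card F = 3) :
    ∃ (c : Cfsg.PSp 2 F) (S : Sylow 3 (Cfsg.PSp 2 F)), orderOf c = 3 ∧ c ∈ (S : Subgroup (Cfsg.PSp 2 F)) ∧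
      c ∈ Subgroup.centralizer ((S : Subgroup (Cfsg.PSp 2 F)) : Set (Cfsg.PSp 2 F)) ∧
      Nonempty (X ≃* Subgroup.centralizer ({c} : Set (Cfsg.PSp 2 F))) := by
  classical
  obtain ⟨a, b, i, d, hrel, hgen, hcard, hmin⟩ := c648_abstract hR hRcard hRexp e hO2 hE
  obtain ⟨iso1⟩ := c648_iso a b i d (tA hF) (tB hF) (tI hF) (tD hF) hrel (c648_rel_St hF) hgen
    hcard (c648_card_St hF) hmin (c648_comm_St_ne hF)
  have iso2 := c648_psiEquiv hF
  set c : Cfsg.PSp 2 F := c648_pr F (c648_zeta hF) with hc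
  set C : Subgroup (Cfsg.PSp 2 F) := Subgroup.centralizer ({c} : Set (Cfsg.PSp 2 F)) with hC
  have iso : X ≃* C := iso1.trans iso2
  have : Fact (Nat.Prime 3) := ⟨Nat.prime_three⟩
  have : Finite (SpF F) := inferInstance
  have : Finite (Cfsg.PSp 2 F) := inferInstance
  -- the order of c
  have hz3 : c648_zeta hF ^ 3 = 1 := by
    rw [← c648_zeta_eq hF, ← SubgroupClass.coe_pow, (c648_rel_St hF).z_pow]
    rfl
  have hc3 : c ^ 3 = 1 := by rw [hc, ← map_pow, hz3, map_one]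
  have hc1 : c ≠ 1 := by
    intro h
    apply c648_comm_St_ne hF
    apply c648_psi_injective hF
    apply Subtype.ext
    rw [map_one]
    show c648_pr F (((tA hF) * (tB hF) * (tA hF)⁻¹ * (tB hF)⁻¹ : c648_St F) : SpF F) = 1
    rw [c648_zeta_eq]
    exact h
  -- Sylow subgroups
  have hCcard : Nat.card C = 648 := by
    rw [← Nat.card_congr iso2.toEquiv]; exact c648_card_St hF
  have hcC : c ∈ C := by
    rw [hC, Subgroup.mem_centralizer_iff]
    intro h hh
    rw [Set.mem_singleton_iff] at hh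
    rw [hh]
  let c' : C := ⟨c, hcC⟩
  have hc'3 : c' ^ 3 = 1 := Subtype.ext (by
    rw [SubgroupClass.coe_pow]; exact hc3)
  have hpz : IsPGroup 3 (Subgroup.zpowers c') := by
    rintro ⟨y, hy⟩
    obtain ⟨k, rfl⟩ := Subgroup.mem_zpowers_iff.mp hy
    refine ⟨1, Subtype.ext ?_⟩
    show (c' ^ k) ^ 3 ^ 1 = 1
    rw [pow_one, ← zpow_natCast, ← zpow_mul, mul_comm, zpow_mul, zpow_natCast, hc'3, one_zpow]
  obtain ⟨P0, hP0⟩ := hpz.exists_le_sylow
  have hP0card : 81 ≤ Nat.card P0 := by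
    rw [Sylow.card_eq_multiplicity, hCcard]
    have h4 : 4 ≤ (648).factorization 3 :=
      (Nat.Prime.pow_dvd_iff_le_factorization Nat.prime_three (by norm_num)).mp (by norm_num)
    exact le_trans (by norm_num : 81 ≤ 3 ^ 4) (Nat.pow_le_pow_right (by norm_num) h4)
  set P0' : Subgroup (Cfsg.PSp 2 F) := (P0 : Subgroup C).map C.subtype with hP0'
  have hP0'card : Nat.card P0' = Nat.card P0 := Subgroup.card_subtype C P0
  have hP0'p : IsPGroup 3 P0' := P0.isPGroup'.map C.subtype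
  obtain ⟨S, hS⟩ := hP0'p.exists_le_sylow
  have hScard : Nat.card S ≤ 81 := by
    obtain ⟨k, hk⟩ := IsPGroup.iff_card.mp S.isPGroup'
    have hdvd : 3 ^ k ∣ 51840 := by
      rw [← hk, ← c648_card_SpF hF]
      exact (Subgroup.card_subgroup_dvd_card _).trans (Subgroup.card_quotient_dvd_card _)
    have hk4 : k ≤ 4 := by
      by_contra h
      push Not at h
      have : 3 ^ 5 ∣ 51840 := (pow_dvd_pow 3 h).trans hdvd
      norm_num at this
    rw [hk]
    calc 3 ^ k ≤ 3 ^ 4 := Nat.pow_le_pow_right (by norm_num) hk4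
      _ = 81 := by norm_num
  have hSeq : P0' = S := Subgroup.eq_of_le_of_card_ge hS (by rw [hP0'card]; omega)
  refine ⟨c, S, orderOf_eq_prime hc3 hc1, ?_, ?_, ⟨iso⟩⟩
  · apply hS
    exact ⟨c', hP0 (Subgroup.mem_zpowers c'), rfl⟩
  · rw [Subgroup.mem_centralizer_iff]
    intro s hs
    rw [SetLike.mem_coe, ← hSeq] at hs
    obtain ⟨s0, _, rfl⟩ := hs
    have := Subgroup.mem_centralizer_iff.mp s0.2 c (Set.mem_singleton c)
    exact this.symm

end Cfsg.Agent.S3366
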