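import Mathlib
import Cfsg.Statements.S3380
import Cfsg.Agent.S0016
import Cfsg.Agent.Lead.NacFinal
import Cfsg.Agent.Helper1.PRankTwo
import Cfsg.Agent.Helper1.MetacyclicOmega
import Cfsg.Agent.Helper6.FaithfulIrr
import Cfsg.Agent.S4054
import Cfsg.Agent.Helper4.Camina
-- import your own Cfsg.Agent.* helpers here

set_option autoImplicit false
open Cfsg

namespace Cfsg.Agent.S3380
open Cfsg

universe u v

theorem quat_not_comm (m : ℕ) (hm : 2 ≤ m) :
    ¬ ∀ a b : QuaternionGroup m, a * b = b * a := by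
  intro h
  have h1 := h (QuaternionGroup.a 1) (QuaternionGroup.xa 0)
  simp only [QuaternionGroup.a_mul_xa, QuaternionGroup.xa_mul_a, QuaternionGroup.xa.injEq] at h1
  have h2 : ((2 : ℕ) : ZMod (2 * m)) = 0 := by
    have : (1 : ZMod (2 * m)) + 1 = 0 := by
      have h3 : (0 : ZMod (2 * m)) + 1 = 0 - 1 := h1.symm
      have h4 : (1 : ZMod (2 * m)) = -1 := by simpa using h3
      calc (1 : ZMod (2 * m)) + 1 = -1 + 1 := by rw [← h4]
        _ = 0 := by ring
    push_cast
    rw [← this]; ring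
  rw [ZMod.natCast_eq_zero_iff] at h2
  have := Nat.le_of_dvd (by norm_num) h2
  omega

/-- A noncyclic abelian subgroup exists when there are two subgroups of order `p`. -/
theorem exists_abelian_noncyclic {G : Type u} [Group G] [Finite G] (p : ℕ) [Fact p.Prime]
    (hG : IsPGroup p G)
    (h1 : ¬ (∀ H K : Subgroup G, Nat.card H = p → Nat.card K = p → H = K)) :
    ∃ B : Subgroup G, IsMulCommutative B ∧ ¬ IsCyclic B := by
  have hp : p.Prime := Fact.out
  push Not at h1
  obtain ⟨H, K, hH, hK, hHK⟩ := h1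
  obtain ⟨z₀, -, hz₀c, hz₀1⟩ :=
    Cfsg.Agent.Helper6.exists_mem_center_of_normal_ne_bot p hG ⊤ (by
      intro h
      have hHb : H = ⊥ := by rw [eq_bot_iff, ← h]; exact le_top
      have hKb : K = ⊥ := by rw [eq_bot_iff, ← h]; exact le_top
      exact hHK (hHb.trans hKb.symm))
  -- an element of order p in the centre
  obtain ⟨k, hk⟩ := (IsPGroup.iff_orderOf.mp hG) z₀
  have hk0 : k ≠ 0 := by
    rintro rfl
    rw [pow_zero, orderOf_eq_one_iff] at hk
    exact hz₀1 hk
  obtain ⟨k', rfl⟩ := Nat.exists_eq_succ_of_ne_zero hk0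
  set z := z₀ ^ (p ^ k') with hzdef
  have hzc : z ∈ Subgroup.center G := Subgroup.pow_mem _ hz₀c _
  have hzo : orderOf z = p := by
    rw [hzdef, orderOf_pow, hk, Nat.gcd_eq_right (pow_dvd_pow p (Nat.le_succ k')), pow_succ,
      Nat.mul_div_cancel_left _ (pow_pos hp.pos k')]
  have hZcard : Nat.card (Subgroup.zpowers z) = p := by rw [Nat.card_zpowers, hzo]
  -- X: a subgroup of order p other than zpowers z
  obtain ⟨X, hX, hXZ⟩ : ∃ X : Subgroup G, Nat.card X = p ∧ X ≠ Subgroup.zpowers z := by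
    by_cases h : H = Subgroup.zpowers z
    · exact ⟨K, hK, fun h' => hHK (h.trans h'.symm)⟩
    · exact ⟨H, hH, h⟩
  have hXcomm : ∀ t ∈ X, ∀ t' ∈ X, t * t' = t' * t := by
    intro t ht t' ht'
    haveI : Fact (Nat.card X).Prime := ⟨by rw [hX]; exact hp⟩
    haveI : IsCyclic X := isCyclic_of_prime_card (α := X) rfl
    have := (IsCyclic.isMulCommutative (α := X)).is_comm.comm ⟨t, ht⟩ ⟨t', ht'⟩
    exact congrArg (fun s : X => (s : G)) this
  have hZc : Subgroup.zpowers z ≤ Subgroup.center G := Subgroup.zpowers_le.mpr hzc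
  have hXcent : X ≤ Subgroup.centralizer (Subgroup.zpowers z : Set G) := by
    intro t _
    rw [Subgroup.mem_centralizer_iff]
    intro s hs
    exact ((Subgroup.mem_center_iff.mp (hZc hs)) t).symm
  refine ⟨Subgroup.zpowers z ⊔ X, ⟨⟨?_⟩⟩, ?_⟩
  · rintro ⟨g, hg⟩ ⟨g', hg'⟩
    apply Subtype.ext
    obtain ⟨s, hs, t, ht, rfl⟩ := Cfsg.Agent.S4054.mem_sup_of_le_centralizer hXcent hg
    obtain ⟨s', hs', t', ht', rfl⟩ := Cfsg.Agent.S4054.mem_sup_of_le_centralizer hXcent hg'
    have e1 : ∀ y, y * s = s * y := Subgroup.mem_center_iff.mp (hZc hs)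
    have e2 : ∀ y, y * s' = s' * y := Subgroup.mem_center_iff.mp (hZc hs')
    have e3 := hXcomm t ht t' ht'
    change s * t * (s' * t') = s' * t' * (s * t)
    calc s * t * (s' * t') = s * (t * s') * t' := by group
      _ = s * (s' * t) * t' := by rw [e2 t]
      _ = (s * s') * (t * t') := by group
      _ = (s' * s) * (t' * t) := by rw [e2 s, e3]
      _ = s' * (s * t') * t := by group
      _ = s' * (t' * s) * t := by rw [e1 t']
      _ = s' * t' * (s * t) := by group
  · intro hcyc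
    apply hXZ
    apply Subgroup.eq_of_le_of_card_ge
    · intro t ht
      have htB : t ∈ Subgroup.zpowers z ⊔ X := (le_sup_right : X ≤ _) ht
      have hcardZ' : Nat.card ((Subgroup.zpowers z).subgroupOf (Subgroup.zpowers z ⊔ X)) = p := by
        rw [Nat.card_congr (Subgroup.subgroupOfEquivOfLe (le_sup_left : _ ≤ Subgroup.zpowers z ⊔ X)).toEquiv,
          hZcard]
      have htp : (⟨t, htB⟩ : ↥(Subgroup.zpowers z ⊔ X)) ^ p = 1 := by
        apply Subtype.ext
        have : (⟨t, ht⟩ : X) ^ p = 1 := by rw [← hX]; exact pow_card_eq_one'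
        have h2 := congrArg (fun s : X => (s : G)) this
        simpa using h2
      have := Cfsg.Agent.Helper1.mem_of_pow_eq_one_of_card_eq_cyclic
        ((Subgroup.zpowers z).subgroupOf (Subgroup.zpowers z ⊔ X)) p hp.pos hcardZ' ⟨t, htB⟩ htp
      exact Subgroup.mem_subgroupOf.mp this
    · rw [hX, hZcard]

/-- A commutative `p`-group with at most `p` elements of order dividing `p` is cyclic. -/
theorem cyclic_of_omega_small {A : Type u} [Group A] [Finite A] (p : ℕ) [Fact p.Prime]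
    (hA : IsPGroup p A) (hc : ∀ a b : A, a * b = b * a)
    (huniq : ∀ H K : Subgroup A, Nat.card H = p → Nat.card K = p → H = K) : IsCyclic A := by
  rcases Cfsg.Agent.S0016.result p hA huniq with h | ⟨_, n, ⟨e⟩⟩
  · exact h
  · rcases Nat.eq_zero_or_pos n with rfl | hn
    · have : IsCyclic (QuaternionGroup (2 ^ 0)) := QuaternionGroup.quaternionGroup_one_isCyclic
      exact isCyclic_of_surjective e.symm e.symm.surjective
    · exfalso
      have h2 : 2 ≤ 2 ^ n := by
        calc 2 = 2 ^ 1 := by norm_num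
          _ ≤ 2 ^ n := Nat.pow_le_pow_right (by norm_num) hn
      apply quat_not_comm (2 ^ n) h2
      intro a b
      apply e.symm.injective
      rw [map_mul, map_mul]
      exact hc _ _

theorem exists_normal_sq {G : Type u} [Group G] [Finite G] (p : ℕ) [Fact p.Prime]
    (hG : IsPGroup p G) (hnc : ¬ IsCyclic G) (hnq : ∀ n : ℕ, ¬ Nonempty (G ≃* QuaternionGroup n))
    (hnd : ∀ n : ℕ, ¬ Nonempty (G ≃* DihedralGroup n)) (hnsd : ¬ Cfsg.IsQuasiDihedral G) :
    ∃ A : Subgroup G, A.Normal ∧ Nat.card A = p ^ 2 ∧ (∀ a ∈ A, a ^ p = 1) ∧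
      (∀ a ∈ A, ∀ b ∈ A, a * b = b * a) := by
  have hp : p.Prime := Fact.out
  have h1 : ¬ (∀ H K : Subgroup G, Nat.card H = p → Nat.card K = p → H = K) := by
    intro huniq
    rcases Cfsg.Agent.S0016.result p hG huniq with h | ⟨_, n, hn⟩
    · exact hnc h
    · exact hnq _ hn
  obtain ⟨B, hBc, hBnc⟩ := exists_abelian_noncyclic p hG h1
  have h2 : ¬ (∀ A : Subgroup G, A.Normal → IsMulCommutative A → IsCyclic A) := by
    intro hn
    obtain ⟨_, h | h | h⟩ := Cfsg.Agent.Lead.NAC.main p hG hn ⟨B, hBc, hBnc⟩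
    · obtain ⟨n, hn⟩ := h; exact hnq n hn
    · obtain ⟨n, _, hn⟩ := h; exact hnd n hn
    · exact hnsd h
  push Not at h2
  obtain ⟨A₀, hA₀n, hA₀c, hA₀nc⟩ := h2
  have hcomm : ∀ a ∈ A₀, ∀ b ∈ A₀, a * b = b * a := by
    intro a ha b hb
    have := hA₀c.is_comm.comm ⟨a, ha⟩ ⟨b, hb⟩
    exact congrArg (fun s : A₀ => (s : G)) this
  let Ω : Subgroup G :=
    { carrier := {a | a ∈ A₀ ∧ a ^ p = 1}
      mul_mem' := by
        rintro a b ⟨ha, hap⟩ ⟨hb, hbp⟩
        refine ⟨A₀.mul_mem ha hb, ?_⟩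
        have hc : Commute a b := hcomm a ha b hb
        rw [hc.mul_pow, hap, hbp, one_mul]
      one_mem' := ⟨A₀.one_mem, one_pow _⟩
      inv_mem' := by
        rintro a ⟨ha, hap⟩
        exact ⟨A₀.inv_mem ha, by rw [inv_pow, hap, inv_one]⟩ }
  have hΩmem : ∀ a, a ∈ Ω ↔ a ∈ A₀ ∧ a ^ p = 1 := fun a => Iff.rfl
  have hΩn : Ω.Normal := by
    constructor
    intro a ha g
    rw [hΩmem] at ha ⊢
    refine ⟨hA₀n.conj_mem a ha.1 g, ?_⟩
    rw [conj_pow, ha.2, mul_one, mul_inv_cancel]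
  obtain ⟨k, hk⟩ := (IsPGroup.iff_card.mp (hG.to_subgroup Ω))
  have hk2 : 2 ≤ k := by
    by_contra hlt
    push Not at hlt
    apply hA₀nc
    apply cyclic_of_omega_small p (hG.to_subgroup A₀)
    · rintro ⟨a, ha⟩ ⟨b, hb⟩
      exact Subtype.ext (hcomm a ha b hb)
    · -- any subgroup of order p maps into Ω
      have key : ∀ H : Subgroup A₀, Nat.card H = p → H.map A₀.subtype = Ω := by
        intro H hH
        apply Subgroup.eq_of_le_of_card_ge
        · rintro _ ⟨h, hh, rfl⟩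
          rw [hΩmem]
          refine ⟨h.2, ?_⟩
          have : (⟨h, hh⟩ : H) ^ p = 1 := by rw [← hH]; exact pow_card_eq_one'
          have h2 := congrArg (fun s : H => ((s : A₀) : G)) this
          simpa using h2
        · rw [Nat.card_congr (Subgroup.equivMapOfInjective H A₀.subtype A₀.subtype_injective).symm.toEquiv, hH, hk]
          calc p ^ k ≤ p ^ 1 := Nat.pow_le_pow_right hp.pos (by omega)
            _ = p := pow_one p
      intro H K hH hK
      apply Subgroup.map_injective A₀.subtype_injective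
      rw [key H hH, key K hK]
  obtain ⟨d, rfl⟩ := Nat.exists_eq_add_of_le hk2
  obtain ⟨A, hAn, hAle, hAcard⟩ := Cfsg.Agent.Helper1.exists_normal_le_card hG d 2 Ω hΩn hk
  refine ⟨A, hAn, hAcard, ?_, ?_⟩
  · intro a ha
    exact ((hΩmem a).mp (hAle ha)).2
  · intro a ha b hb
    exact hcomm a ((hΩmem a).mp (hAle ha)).1 b ((hΩmem b).mp (hAle hb)).1

theorem central_series {G : Type u} [Group G] [Finite G] (p : ℕ) [Fact p.Prime]
    (hG : IsPGroup p G) (A : Subgroup G) (hAn : A.Normal) (hAcard : Nat.card A = p ^ 2)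
    (hAexp : ∀ a ∈ A, a ^ p = 1) :
    ∃ z ∈ A, z ∈ Subgroup.center G ∧ orderOf z = p ∧
      (∀ a ∈ A, ∀ g : G, g * a * g⁻¹ * a⁻¹ ∈ Subgroup.zpowers z) ∧
      ∃ a ∈ A, a ∉ Subgroup.zpowers z := by
  have hp : p.Prime := Fact.out
  haveI := hAn
  have hAne : A ≠ ⊥ := by
    intro h; rw [h, Subgroup.card_bot] at hAcard
    have : 1 < p ^ 2 := Nat.one_lt_pow (by norm_num) hp.one_lt
    omega
  obtain ⟨z, hzA, hzc, hz1⟩ := Cfsg.Agent.Helper6.exists_mem_center_of_normal_ne_bot p hG A hAne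
  have hzo : orderOf z = p := orderOf_eq_prime (hAexp z hzA) hz1
  have hZcard : Nat.card (Subgroup.zpowers z) = p := by rw [Nat.card_zpowers, hzo]
  have hZA : Subgroup.zpowers z ≤ A := Subgroup.zpowers_le.mpr hzA
  refine ⟨z, hzA, hzc, hzo, ?_, ?_⟩
  · -- quotient argument
    haveI hZn : (Subgroup.zpowers z).Normal := by
      constructor
      intro n hn g
      have : n ∈ Subgroup.center G := (Subgroup.zpowers_le.mpr hzc) hn
      rw [Subgroup.mem_center_iff] at this
      rw [this g, mul_inv_cancel_right]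
      exact hn
    set Z := Subgroup.zpowers z with hZdef
    set Abar : Subgroup (G ⧸ Z) := A.map (QuotientGroup.mk' Z) with hAbar
    haveI hAbarn : Abar.Normal := Subgroup.Normal.map hAn _ (QuotientGroup.mk'_surjective Z)
    have hcomap : Abar.comap (QuotientGroup.mk' Z) = A := by
      rw [hAbar, QuotientGroup.comap_map_mk']; exact sup_eq_right.mpr hZA
    have hAbarcard : Nat.card Abar = p := by
      have := Cfsg.Agent.Helper4.card_comap_mk' Z Abar
      rw [hcomap, hAcard, hZcard, pow_two] at this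
      exact (Nat.eq_of_mul_eq_mul_left hp.pos this).symm
    have hGbar : IsPGroup p (G ⧸ Z) := hG.to_quotient Z
    have hAbarne : Abar ≠ ⊥ := by
      intro h; rw [h, Subgroup.card_bot] at hAbarcard; exact hp.one_lt.ne' hAbarcard.symm
    obtain ⟨b, hbA, hbc, hb1⟩ :=
      Cfsg.Agent.Helper6.exists_mem_center_of_normal_ne_bot p hGbar Abar hAbarne
    have hAbarle : Abar ≤ Subgroup.center (G ⧸ Z) := by
      have : Subgroup.zpowers b = Abar := by
        apply Subgroup.eq_of_le_of_card_ge (Subgroup.zpowers_le.mpr hbA)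
        rw [hAbarcard, Nat.card_zpowers]
        have : orderOf b ∣ p := by
          rw [← hAbarcard]
          have := orderOf_dvd_natCard (⟨b, hbA⟩ : Abar)
          rwa [Subgroup.orderOf_mk] at this
        rcases (Nat.dvd_prime hp).mp this with h | h
        · exact absurd (orderOf_eq_one_iff.mp h) hb1
        · exact h.ge
      rw [← this]; exact Subgroup.zpowers_le.mpr hbc
    intro a ha g
    have hmem : (QuotientGroup.mk' Z a) ∈ Subgroup.center (G ⧸ Z) :=
      hAbarle (Subgroup.mem_map_of_mem _ ha)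
    rw [Subgroup.mem_center_iff] at hmem
    have h1 := hmem (QuotientGroup.mk' Z g)
    rw [← QuotientGroup.eq_one_iff]
    change QuotientGroup.mk' Z (g * a * g⁻¹ * a⁻¹) = 1
    rw [map_mul, map_mul, map_mul, map_inv, map_inv, h1, mul_inv_cancel_right, mul_inv_cancel]
  · by_contra h
    push Not at h
    have hle : A ≤ Subgroup.zpowers z := fun a ha => h a ha
    have := Nat.card_le_card_of_injective (Subgroup.inclusion hle) (Subgroup.inclusion_injective hle)
    rw [hAcard, hZcard] at this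
    nlinarith [hp.one_lt]

section Lin

variable {q : ℕ} [Fact q.Prime] {V : Type v} [AddCommGroup V] [Module (ZMod q) V]
  {G : Type u} [Group G] (ρ : G →* (V ≃ₗ[ZMod q] V))

/-- The fixed space of `x`. -/
def fixSub (x : G) : Submodule (ZMod q) V :=
  LinearMap.eqLocus (ρ x : V →ₗ[ZMod q] V) LinearMap.id

theorem mem_fixSub {x : G} {v : V} : v ∈ fixSub ρ x ↔ ρ x v = v := by
  simp [fixSub, LinearMap.mem_eqLocus]

theorem rho_mul (x y : G) (v : V) : ρ (x * y) v = ρ x (ρ y v) := by rw [map_mul]; rfl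

theorem rho_one (v : V) : ρ 1 v = v := by rw [map_one]; rfl

theorem rho_inv_apply (x : G) (v : V) : ρ x⁻¹ (ρ x v) = v := by
  rw [← rho_mul, inv_mul_cancel, rho_one]

theorem rho_apply_inv (x : G) (v : V) : ρ x (ρ x⁻¹ v) = v := by
  rw [← rho_mul, mul_inv_cancel, rho_one]

theorem map_fixSub (g x : G) :
    (fixSub ρ x).map (ρ g : V →ₗ[ZMod q] V) = fixSub ρ (g * x * g⁻¹) := by
  ext v
  rw [Submodule.mem_map, mem_fixSub]
  constructor
  · rintro ⟨w, hw, rfl⟩
    rw [mem_fixSub] at hw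
    change ρ (g * x * g⁻¹) (ρ g w) = ρ g w
    rw [← rho_mul, inv_mul_cancel_right, rho_mul, hw]
  · intro hv
    refine ⟨ρ g⁻¹ v, ?_, rho_apply_inv ρ g v⟩
    rw [mem_fixSub]
    have : ρ g⁻¹ (ρ (g * x * g⁻¹) v) = ρ g⁻¹ v := by rw [hv]
    rw [← rho_mul] at this ⊢
    rw [show g⁻¹ * (g * x * g⁻¹) = x * g⁻¹ by group] at this
    exact this

/-- The norm map of `x`. -/
noncomputable def Nm (p : ℕ) (x : G) : V →ₗ[ZMod q] V :=
  ∑ k ∈ Finset.range p, (ρ (x ^ k) : V →ₗ[ZMod q] V)

theorem Nm_apply (p : ℕ) (x : G) (v : V) :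
    Nm ρ p x v = ∑ k ∈ Finset.range p, ρ (x ^ k) v := by
  simp [Nm, LinearMap.sum_apply]

theorem Nm_mem_fixSub (p : ℕ) (x : G) (hx : x ^ p = 1) (v : V) : Nm ρ p x v ∈ fixSub ρ x := by
  rw [mem_fixSub, Nm_apply, map_sum]
  have h1 : ∀ k, ρ x (ρ (x ^ k) v) = ρ (x ^ (k + 1)) v := fun k => by rw [← rho_mul, ← pow_succ']
  simp_rw [h1]
  have h3 := Finset.sum_range_succ' (fun k => ρ (x ^ k) v) p
  have h2 := Finset.sum_range_succ (fun k => ρ (x ^ k) v) p
  rw [h2, hx, pow_zero] at h3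
  exact (add_right_cancel h3).symm

theorem Nm_of_mem_fixSub (p : ℕ) (x : G) (v : V) (hv : v ∈ fixSub ρ x) : Nm ρ p x v = p • v := by
  rw [Nm_apply]
  have : ∀ k, ρ (x ^ k) v = v := by
    intro k
    induction k with
    | zero => rw [pow_zero, rho_one]
    | succ k ih => rw [pow_succ, rho_mul, (mem_fixSub ρ).mp hv, ih]
  simp only [this, Finset.sum_const, Finset.card_range]

theorem sum_Nm (p : ℕ) (hp : 0 < p) (a z : G) (hc : Commute a z)
    (hzero : ∀ k, 0 < k → k < p → ∀ v, Nm ρ p (z ^ k) v = 0) (v : V) :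
    ∑ i ∈ Finset.range p, Nm ρ p (a * z ^ i) v = p • v := by
  simp_rw [Nm_apply]
  rw [Finset.sum_comm]
  have h1 : ∀ k i, ρ ((a * z ^ i) ^ k) v = ρ (a ^ k) (ρ ((z ^ k) ^ i) v) := by
    intro k i
    rw [← rho_mul, (hc.pow_right i).mul_pow, ← pow_mul, ← pow_mul, mul_comm i k]
  simp_rw [h1, ← map_sum, ← Nm_apply]
  rw [Finset.sum_eq_single 0]
  · rw [pow_zero, pow_zero, Nm_of_mem_fixSub ρ p 1 v (by rw [mem_fixSub, rho_one]), rho_one]
  · intro k hk hk0
    rw [hzero k (Nat.pos_of_ne_zero hk0) (Finset.mem_range.mp hk), map_zero]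
  · intro h; exact absurd (Finset.mem_range.mpr hp) h

theorem fixSub_central_eq_bot (hρ : Function.Injective ρ)
    (hirr : ∀ W : Submodule (ZMod q) V, (∀ g : G, ∀ w ∈ W, ρ g w ∈ W) → W = ⊥ ∨ W = ⊤)
    (w : G) (hw : w ∈ Subgroup.center G) (hw1 : w ≠ 1) : fixSub ρ w = ⊥ := by
  have hinv : ∀ g : G, ∀ v ∈ fixSub ρ w, ρ g v ∈ fixSub ρ w := by
    intro g v hv
    rw [mem_fixSub] at hv ⊢
    rw [← rho_mul, ← (Subgroup.mem_center_iff.mp hw g), rho_mul, hv]
  rcases hirr (fixSub ρ w) hinv with h | h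
  · exact h
  · exfalso
    apply hw1
    apply hρ
    rw [map_one]
    ext v
    have : v ∈ fixSub ρ w := by rw [h]; trivial
    exact (mem_fixSub ρ).mp this

end Lin

section Lin2

variable {q : ℕ} [Fact q.Prime] {V : Type v} [AddCommGroup V] [Module (ZMod q) V]
  {G : Type u} [Group G] (ρ : G →* (V ≃ₗ[ZMod q] V))

theorem q_ne_p [Finite V] [Nontrivial V] [Finite G] [Nontrivial G] (p : ℕ) [Fact p.Prime]
    (hG : IsPGroup p G) (hρ : Function.Injective ρ)
    (hirr : ∀ W : Submodule (ZMod q) V, (∀ g : G, ∀ w ∈ W, ρ g w ∈ W) → W = ⊥ ∨ W = ⊤) :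
    q ≠ p := by
  intro hqp
  have hq : q.Prime := Fact.out
  letI : MulAction G V := MulAction.compHom V ρ
  have hsmul : ∀ (g : G) (v : V), g • v = ρ g v := fun g v => rfl
  have hdvd : p ∣ Nat.card V := by
    obtain ⟨v, hv⟩ := exists_ne (0 : V)
    have h0 : q • v = 0 := by
      rw [← Nat.cast_smul_eq_nsmul (ZMod q), ZMod.natCast_self, zero_smul]
    have := addOrderOf_eq_prime h0 hv
    rw [← hqp, ← this]
    exact addOrderOf_dvd_natCard v
  have h0fix : (0 : V) ∈ MulAction.fixedPoints G V := by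
    intro g
    rw [hsmul, map_zero]
  obtain ⟨b, hb, hb0⟩ := hG.exists_fixed_point_of_prime_dvd_card_of_fixed_point V hdvd h0fix
  let F : Submodule (ZMod q) V := ⨅ g : G, fixSub ρ g
  have hFmem : ∀ v, v ∈ F ↔ ∀ g, ρ g v = v := by
    intro v
    simp only [F, Submodule.mem_iInf, mem_fixSub]
  have hbF : b ∈ F := by
    rw [hFmem]
    intro g
    have := hb g
    rwa [hsmul] at this
  have hFinv : ∀ g : G, ∀ w ∈ F, ρ g w ∈ F := by
    intro g w hw
    rw [hFmem] at hw ⊢
    intro h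
    rw [hw g, hw h]
  rcases hirr F hFinv with h | h
  · rw [h, Submodule.mem_bot] at hbF
    exact hb0 hbF.symm
  · obtain ⟨g, hg⟩ := exists_ne (1 : G)
    apply hg
    apply hρ
    rw [map_one]
    ext v
    have : v ∈ F := by rw [h]; trivial
    exact (hFmem v).mp this g

end Lin2

section Lin3

variable {q : ℕ} [Fact q.Prime] {V : Type v} [AddCommGroup V] [Module (ZMod q) V]
  {G : Type u} [Group G] (ρ : G →* (V ≃ₗ[ZMod q] V))

theorem Nm_comm (p : ℕ) (x y : G) (hxy : Commute x y) (v : V) :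
    ρ y (Nm ρ p x v) = Nm ρ p x (ρ y v) := by
  rw [Nm_apply, Nm_apply, map_sum]
  apply Finset.sum_congr rfl
  intro k _
  rw [← rho_mul, ← rho_mul, (hxy.pow_left k).eq]

end Lin3

/-- Let a finite p-group G act faithfully and irreducibly on a non-trivial finite vector space V over the field with q elements (q prime), and suppose G is not cyclic, generalized quaternion, dihedral or semidihedral. Then G has a subgroup H of index p and V is the direct sum of p subspaces, each invariant under H, on none of which H acts faithfully, and which every element of G outside H permutes in a single p-cycle. -/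
theorem result
    (q : ℕ) [Fact q.Prime] {V : Type*} [AddCommGroup V] [Module (ZMod q) V] [Finite V] [Nontrivial V]
    {G : Type*} [Group G] [Finite G] (p : ℕ) [Fact p.Prime] (hG : IsPGroup p G)
    (ρ : G →* (V ≃ₗ[ZMod q] V)) (hρ : Function.Injective ρ)
    (hirr : ∀ W : Submodule (ZMod q) V, (∀ g : G, ∀ w ∈ W, ρ g w ∈ W) → W = ⊥ ∨ W = ⊤)
    (hnc : ¬ IsCyclic G) (hnq : ∀ n : ℕ, ¬ Nonempty (G ≃* QuaternionGroup n))
    (hnd : ∀ n : ℕ, ¬ Nonempty (G ≃* DihedralGroup n)) (hnsd : ¬ Cfsg.IsQuasiDihedral G) :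
    ∃ (H : Subgroup G) (W : Fin p → Submodule (ZMod q) V), H.index = p ∧
      iSup W = ⊤ ∧ iSupIndep W ∧
      (∀ h ∈ H, ∀ i, ∀ w ∈ W i, ρ h w ∈ W i) ∧
      (∀ i, ∃ h ∈ H, h ≠ 1 ∧ ∀ w ∈ W i, ρ h w = w) ∧
      ∀ g : G, g ∉ H → ∃ σ : Equiv.Perm (Fin p), orderOf σ = p ∧ ∀ i, (W i).map (ρ g : V →ₗ[ZMod q] V) = W (σ i) := by
  have hp : p.Prime := Fact.out
  have hq : q.Prime := Fact.out
  haveI : NeZero p := ⟨hp.ne_zero⟩
  haveI : Nontrivial G := by
    by_contra h
    rw [not_nontrivial_iff_subsingleton] at h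
    exact hnc isCyclic_of_subsingleton
  have hqp : q ≠ p := q_ne_p ρ p hG hρ hirr
  obtain ⟨A, hAn, hAcard, hAexp, hAcomm⟩ := exists_normal_sq p hG hnc hnq hnd hnsd
  obtain ⟨z, hzA, hzc, hzo, hcomm, a, haA, haZ⟩ := central_series p hG A hAn hAcard hAexp
  have hzp : z ^ p = 1 := by rw [← hzo]; exact pow_orderOf_eq_one z
  have hap : a ^ p = 1 := hAexp a haA
  have hzcomm : ∀ g, g * z = z * g := Subgroup.mem_center_iff.mp hzc
  have hzmod : ∀ n, z ^ (n % p) = z ^ n := by
    intro n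
    have := pow_mod_orderOf z n
    rwa [hzo] at this
  have hzk : ∀ k, 0 < k → k < p → z ^ k ≠ 1 := by
    intro k hk0 hkp h
    have := orderOf_dvd_of_pow_eq_one h
    rw [hzo] at this
    exact absurd (Nat.le_of_dvd hk0 this) (not_le.mpr hkp)
  have hfixz : ∀ k, 0 < k → k < p → fixSub ρ (z ^ k) = ⊥ := fun k hk0 hkp =>
    fixSub_central_eq_bot ρ hρ hirr (z ^ k) (Subgroup.pow_mem _ hzc k) (hzk k hk0 hkp)
  have hzero : ∀ k, 0 < k → k < p → ∀ v, Nm ρ p (z ^ k) v = 0 := by
    intro k hk0 hkp v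
    have := Nm_mem_fixSub ρ p (z ^ k) (by rw [← pow_mul, mul_comm, pow_mul, hzp, one_pow]) v
    rw [hfixz k hk0 hkp, Submodule.mem_bot] at this
    exact this
  have hcaz : Commute a z := hzcomm a
  have hsum : ∀ v, ∑ i ∈ Finset.range p, Nm ρ p (a * z ^ i) v = p • v :=
    sum_Nm ρ p hp.pos a z hcaz hzero
  have hpq : (p : ZMod q) ≠ 0 := by
    rw [Ne, ZMod.natCast_eq_zero_iff]
    intro h
    exact hqp ((Nat.prime_dvd_prime_iff_eq hq hp).mp h)
  have hpsmul : ∀ v : V, p • v = 0 → v = 0 := by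
    intro v hv
    rw [← Nat.cast_smul_eq_nsmul (ZMod q)] at hv
    exact (smul_eq_zero.mp hv).resolve_left hpq
  have hazp : ∀ i : ℕ, (a * z ^ i) ^ p = 1 := by
    intro i
    rw [(hcaz.pow_right i).mul_pow, hap, one_mul, ← pow_mul, mul_comm, pow_mul, hzp, one_pow]
  have haz1 : ∀ i : ℕ, a * z ^ i ≠ 1 := by
    intro i h
    apply haZ
    rw [mul_eq_one_iff_eq_inv] at h
    rw [h]
    exact Subgroup.inv_mem _ (Subgroup.pow_mem _ (Subgroup.mem_zpowers z) i)
  have hanc : a ∉ Subgroup.center G := by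
    intro hac
    obtain ⟨v, hv⟩ := exists_ne (0 : V)
    apply hv
    apply hpsmul
    rw [← hsum v]
    apply Finset.sum_eq_zero
    intro i _
    have h1 := Nm_mem_fixSub ρ p (a * z ^ i) (hazp i) v
    rw [fixSub_central_eq_bot ρ hρ hirr (a * z ^ i)
      (Subgroup.mul_mem _ hac (Subgroup.pow_mem _ hzc i)) (haz1 i), Submodule.mem_bot] at h1
    exact h1
  -- the homomorphism g ↦ [g, a]
  have hcz : ∀ g, g * a * g⁻¹ * a⁻¹ ∈ Subgroup.center G :=
    fun g => (Subgroup.zpowers_le.mpr hzc) (hcomm a haA g)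
  let φ : G →* ↥(Subgroup.zpowers z) :=
    MonoidHom.mk' (fun g => ⟨g * a * g⁻¹ * a⁻¹, hcomm a haA g⟩) (by
      intro g h
      apply Subtype.ext
      change g * h * a * (g * h)⁻¹ * a⁻¹ = (g * a * g⁻¹ * a⁻¹) * (h * a * h⁻¹ * a⁻¹)
      have hc := Subgroup.mem_center_iff.mp (hcz h)
      calc g * h * a * (g * h)⁻¹ * a⁻¹
          = (g * (h * a * h⁻¹ * a⁻¹)) * a * g⁻¹ * a⁻¹ := by group
        _ = ((h * a * h⁻¹ * a⁻¹) * g) * a * g⁻¹ * a⁻¹ := by rw [hc g]
        _ = (h * a * h⁻¹ * a⁻¹) * (g * a * g⁻¹ * a⁻¹) := by group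
        _ = (g * a * g⁻¹ * a⁻¹) * (h * a * h⁻¹ * a⁻¹) := (hc _).symm)
  have hφ : ∀ g, ((φ g : ↥(Subgroup.zpowers z)) : G) = g * a * g⁻¹ * a⁻¹ := fun g => rfl
  have hker : φ.ker = Subgroup.centralizer {a} := by
    ext g
    rw [MonoidHom.mem_ker, Subgroup.mem_centralizer_singleton_iff, ← Subtype.coe_inj, hφ,
      Subgroup.coe_one, mul_inv_eq_one, mul_inv_eq_iff_eq_mul]
  have hindex : (Subgroup.centralizer {a} : Subgroup G).index = p := by
    rw [← hker, Subgroup.index_ker]
    have hdvd : Nat.card φ.range ∣ p := by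
      have := Subgroup.card_subgroup_dvd_card φ.range
      rwa [Nat.card_zpowers, hzo] at this
    rcases (Nat.dvd_prime hp).mp hdvd with h | h
    · exfalso
      apply hanc
      rw [← Subgroup.index_ker, Subgroup.index_eq_one, hker] at h
      rw [Subgroup.mem_center_iff]
      intro g
      have : g ∈ Subgroup.centralizer {a} := by rw [h]; trivial
      exact Subgroup.mem_centralizer_singleton_iff.mp this
    · exact h
  -- fixed vectors of two distinct `a z^m`, `a z^n` vanish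
  have hinter : ∀ m n : ℕ, m < n → n < p → ∀ u : V, u ∈ fixSub ρ (a * z ^ m) →
      u ∈ fixSub ρ (a * z ^ n) → u = 0 := by
    intro m n hmn hnp u hum hun
    rw [mem_fixSub] at hum hun
    have h1 : a * z ^ n = (a * z ^ m) * z ^ (n - m) := by
      rw [mul_assoc, ← pow_add, Nat.add_sub_cancel' hmn.le]
    rw [h1, rho_mul] at hun
    have h2 : ρ (z ^ (n - m)) u = u := by
      apply (ρ (a * z ^ m)).injective
      rw [hun, hum]
    have h3 : u ∈ fixSub ρ (z ^ (n - m)) := (mem_fixSub ρ).mpr h2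
    rw [hfixz (n - m) (by omega) (by omega), Submodule.mem_bot] at h3
    exact h3
  have hinter' : ∀ m n : ℕ, m ≠ n → m < p → n < p → ∀ u : V, u ∈ fixSub ρ (a * z ^ m) →
      u ∈ fixSub ρ (a * z ^ n) → u = 0 := by
    intro m n hmn hmp hnp u hum hun
    rcases Nat.lt_or_gt_of_ne hmn with h | h
    · exact hinter m n h hnp u hum hun
    · exact hinter n m h hmp u hun hum
  refine ⟨Subgroup.centralizer {a}, fun i => fixSub ρ (a * z ^ (i : ℕ)), hindex, ?_, ?_, ?_, ?_, ?_⟩
  · -- spanning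
    rw [eq_top_iff]
    intro v _
    have h1 : p • v ∈ ⨆ i : Fin p, fixSub ρ (a * z ^ (i : ℕ)) := by
      rw [← hsum v]
      apply Submodule.sum_mem
      intro i hi
      have h2 := Nm_mem_fixSub ρ p (a * z ^ i) (hazp i) v
      exact (le_iSup (fun i : Fin p => fixSub ρ (a * z ^ (i : ℕ))) ⟨i, Finset.mem_range.mp hi⟩) h2
    have h2 : v = (p : ZMod q)⁻¹ • (p • v) := by
      rw [← Nat.cast_smul_eq_nsmul (ZMod q), smul_smul, inv_mul_cancel₀ hpq, one_smul]
    rw [h2]
    exact Submodule.smul_mem _ _ h1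
  · -- independence
    rw [iSupIndep_def]
    intro i
    rw [Submodule.disjoint_def]
    intro v hv1 hv2
    apply hpsmul
    rw [← Nm_of_mem_fixSub ρ p (a * z ^ (i : ℕ)) v hv1]
    have hle : (⨆ j : Fin p, ⨆ (_ : j ≠ i), fixSub ρ (a * z ^ (j : ℕ))) ≤
        LinearMap.ker (Nm ρ p (a * z ^ (i : ℕ))) := by
      apply iSup_le
      intro j
      apply iSup_le
      intro hj w hw
      rw [LinearMap.mem_ker]
      apply hinter' (i : ℕ) (j : ℕ) (fun h => hj (Fin.ext h.symm)) i.2 j.2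
      · exact Nm_mem_fixSub ρ p (a * z ^ (i : ℕ)) (hazp i) w
      · rw [mem_fixSub]
        have hcomm2 : Commute (a * z ^ (i : ℕ)) (a * z ^ (j : ℕ)) :=
          ((Commute.refl a).mul_right (hcaz.pow_right _)).mul_left
            ((hcaz.pow_right _).symm.mul_right ((Commute.refl z).pow_pow _ _))
        rw [Nm_comm ρ p _ _ hcomm2, (mem_fixSub ρ).mp hw]
    exact LinearMap.mem_ker.mp (hle hv2)
  · -- invariance under H
    intro h hh i w hw
    rw [Subgroup.mem_centralizer_singleton_iff] at hh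
    rw [mem_fixSub] at hw ⊢
    have hcomm2 : Commute h (a * z ^ (i : ℕ)) :=
      (show Commute h a from hh).mul_right ((show Commute h z from hzcomm h).pow_right _)
    rw [← rho_mul, ← hcomm2.eq, rho_mul, hw]
  · -- not faithful
    intro i
    refine ⟨a * z ^ (i : ℕ), ?_, haz1 i, ?_⟩
    · rw [Subgroup.mem_centralizer_singleton_iff]
      exact ((Commute.refl a).mul_left (hcaz.pow_right _).symm).eq
    · intro w hw
      exact (mem_fixSub ρ).mp hw
  · -- permutation
    intro g hg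
    obtain ⟨n, hn⟩ := (Submonoid.mem_powers_iff _ _).mp
      (mem_powers_iff_mem_zpowers.mpr (hcomm a haA g))
    have hcp : n % p < p := Nat.mod_lt _ hp.pos
    have hzc' : z ^ (n % p) = g * a * g⁻¹ * a⁻¹ := by rw [hzmod, hn]
    have hc0 : n % p ≠ 0 := by
      intro h0
      apply hg
      rw [Subgroup.mem_centralizer_singleton_iff]
      rw [h0, pow_zero] at hzc'
      have := hzc'.symm
      rwa [mul_inv_eq_one, mul_inv_eq_iff_eq_mul] at this
    let c' : Fin p := ⟨n % p, hcp⟩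
    refine ⟨Equiv.addRight c', ?_, ?_⟩
    · apply orderOf_eq_prime
      · rw [Equiv.nsmul_addRight]
        have : p • c' = 0 := by
          have := card_nsmul_eq_zero' (G := Fin p) (x := c')
          rwa [Nat.card_eq_fintype_card, Fintype.card_fin] at this
        rw [this, Equiv.addRight_zero]
      · intro h
        have h1 := congrArg (fun σ : Equiv.Perm (Fin p) => σ 0) h
        simp only [Equiv.coe_addRight, zero_add, Equiv.Perm.coe_one, id_eq] at h1
        apply hc0
        have := congrArg Fin.val h1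
        simpa [c'] using this
    · intro i
      rw [map_fixSub]
      congr 1
      have hgag : g * a * g⁻¹ = z ^ (n % p) * a := by rw [hzc', inv_mul_cancel_right]
      have hgzg : ∀ k : ℕ, g * z ^ k * g⁻¹ = z ^ k := by
        intro k
        have : Commute g (z ^ k) := (show Commute g z from hzcomm g).pow_right k
        rw [this.eq, mul_inv_cancel_right]
      calc g * (a * z ^ (i : ℕ)) * g⁻¹ = (g * a * g⁻¹) * (g * z ^ (i : ℕ) * g⁻¹) := by group
        _ = z ^ (n % p) * a * z ^ (i : ℕ) := by rw [hgag, hgzg]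
        _ = a * z ^ ((i : ℕ) + n % p) := by
            rw [← (hcaz.pow_right (n % p)).eq, mul_assoc, ← pow_add, add_comm]
        _ = a * z ^ (((Equiv.addRight c') i : Fin p) : ℕ) := by
            rw [Equiv.coe_addRight, Fin.val_add, hzmod]


end Cfsg.Agent.S3380
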