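import Mathlib
import Cfsg.Statements.S3370
import Cfsg.Agent.Helper3.TransVec
import Cfsg.Agent.S3380
-- import your own Cfsg.Agent.* helpers here

set_option autoImplicit false
open Cfsg

namespace Cfsg.Agent.S3370
open Cfsg Cfsg.Agent.Helper3.TransVec
universe u v

theorem mem_iff_of_card_two {G : Type v} [Group G] {H : Subgroup G} (hH : Nat.card H = 2) {a : G}
    (ha : a ∈ H) (ha1 : a ≠ 1) (x : G) : x ∈ H ↔ x = 1 ∨ x = a := by
  constructor
  · intro hx
    by_cases hx1 : x = 1
    · exact Or.inl hx1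
    · exact Or.inr (eq_of_card_two hH hx ha hx1 ha1)
  · rintro (rfl | rfl)
    · exact H.one_mem
    · exact ha

section nine
variable {V : Type u} [AddCommGroup V] [Module (ZMod 3) V] [Finite V]
  {G : Type v} [Group G] [Finite G] (ρ : G →* (V ≃ₗ[ZMod 3] V))

theorem two_tor {v : V} (h : v + v = 0) : v = 0 := by
  have h2 : (2 : ZMod 3) • v = 0 := by rw [two_smul]; exact h
  rcases smul_eq_zero.1 h2 with h3 | h3
  · exact absurd h3 (by decide)
  · exact h3

theorem unique_neg (hρ : Function.Injective ρ) {a b : G} (ha : ∀ w : V, ρ a w = -w)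
    (hb : ∀ w : V, ρ b w = -w) : a = b := by
  apply hρ
  apply LinearEquiv.ext
  intro w
  rw [ha, hb]

theorem case_eight (hG : IsPGroup 2 G) (hρ : Function.Injective ρ)
    (hst : ∀ v : V, v ≠ 0 → stab ρ v = ⊥) (hcard : Nat.card G = 8) :
    IsCyclic G ∨ Nonempty (G ≃* QuaternionGroup 2) := by
  have hneg : ∀ a : G, a ≠ 1 → a ^ 2 = 1 → ∀ w : V, ρ a w = -w := by
    intro a ha1 ha2
    apply neg_of_no_fixed ρ ha2
    intro w hw
    by_contra hw0
    have : a ∈ stab ρ w := hw
    rw [hst w hw0, Subgroup.mem_bot] at this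
    exact ha1 this
  have huniq : ∀ H K : Subgroup G, Nat.card H = 2 → Nat.card K = 2 → H = K := by
    intro H K hH hK
    obtain ⟨a, ha, ha1, ha2⟩ := exists_ne_one_of_card_two hH
    obtain ⟨b, hb, hb1, hb2⟩ := exists_ne_one_of_card_two hK
    have hab : a = b := unique_neg ρ hρ (hneg a ha1 ha2) (hneg b hb1 hb2)
    ext x
    rw [mem_iff_of_card_two hH ha ha1, mem_iff_of_card_two hK hb hb1, hab]
  rcases Cfsg.Agent.S0016.result 2 hG huniq with h | ⟨_, n, ⟨e⟩⟩
  · exact Or.inl h
  · right
    have h1 : Nat.card (QuaternionGroup (2 ^ n)) = 8 := by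
      rw [← Nat.card_congr e.toEquiv, hcard]
    have : NeZero (2 ^ n) := ⟨by positivity⟩
    rw [Nat.card_eq_fintype_card, QuaternionGroup.card] at h1
    have h2 : 2 ^ n = 2 := by omega
    rw [h2] at e
    exact ⟨e⟩

theorem rho_sq {t : G} (ht : t ^ 2 = 1) (w : V) : ρ t (ρ t w) = w := by
  have h2 : ρ t * ρ t = 1 := by rw [← map_mul, ← pow_two, ht, map_one]
  have := congrArg (fun f : V ≃ₗ[ZMod 3] V => f w) h2
  simpa using this

theorem conj_fix {g s : G} {v w : V} (hg : ρ g v = w) (hs : ρ s v = v) :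
    ρ (g * s * g⁻¹) w = w := by
  rw [map_mul, map_mul, LinearEquiv.mul_apply, LinearEquiv.mul_apply]
  have h1 : ρ g⁻¹ w = v := by
    rw [← hg, map_inv]
    exact (ρ g).symm_apply_apply v
  rw [h1, hs, hg]

open DihedralGroup in
theorem case_sixteen [Nontrivial V] (hG : IsPGroup 2 G) (hρ : Function.Injective ρ)
    (htrans : ∀ v w : V, v ≠ 0 → w ≠ 0 → ∃ g : G, ρ g v = w)
    (hst : ∀ v : V, v ≠ 0 → Nat.card (stab ρ v) = 2) (hcard : Nat.card G = 16) :
    Cfsg.IsQuasiDihedral G := by
  by_contra hnsd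
  obtain ⟨v₀, hv₀⟩ := exists_ne (0 : V)
  have hfixes : ∀ t : G, t ^ 2 = 1 → (∃ g, t * g ≠ g * t) → ∃ v : V, v ≠ 0 ∧ ρ t v = v := by
    rintro t ht2 ⟨g, hg⟩
    by_contra hno
    push Not at hno
    exact hg (central_of_neg ρ hρ (neg_of_no_fixed ρ ht2 (fun w hw => by
      by_contra h0; exact hno w h0 hw)) g)
  have hnc : ¬ IsCyclic G := by
    intro hc
    obtain ⟨t, ht, ht1, ht2⟩ := exists_ne_one_of_card_two (hst v₀ hv₀)
    have hcomm : ∀ g, t * g = g * t := fun g =>
      (IsCyclic.isMulCommutative (α := G)).is_comm.comm t g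
    exact ht1 (eq_one_of_central_of_fixed ρ hρ htrans hcomm hv₀ ht)
  have hnq : ∀ n : ℕ, ¬ Nonempty (G ≃* QuaternionGroup n) := by
    rintro n ⟨e⟩
    rcases Nat.eq_zero_or_pos n with rfl | hn
    · have := quat_zero_infinite
      have : Infinite G := Infinite.of_injective e.symm e.symm.injective
      exact not_finite G
    · have : NeZero n := ⟨by omega⟩
      have h1 : Nat.card (QuaternionGroup n) = 16 := by rw [← Nat.card_congr e.toEquiv, hcard]
      rw [Nat.card_eq_fintype_card, QuaternionGroup.card] at h1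
      have : n = 4 := by omega
      subst this
      obtain ⟨t, ht, ht1, ht2⟩ := exists_ne_one_of_card_two (hst v₀ hv₀)
      have hq : ∀ x : QuaternionGroup 4, x ^ 2 = 1 → ∀ y, x * y = y * x := by decide
      have hc : ∀ g, t * g = g * t := by
        intro g
        apply e.injective
        rw [map_mul, map_mul]
        exact hq (e t) (by rw [← map_pow, ht2, map_one]) (e g)
      exact ht1 (eq_one_of_central_of_fixed ρ hρ htrans hc hv₀ ht)
  have hnd : ∀ n : ℕ, ¬ Nonempty (G ≃* DihedralGroup n) := by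
    rintro n ⟨e⟩
    have h1 : Nat.card (DihedralGroup n) = 16 := by rw [← Nat.card_congr e.toEquiv, hcard]
    rw [DihedralGroup.nat_card] at h1
    have : n = 8 := by omega
    subst this
    have hs₀2 : (e.symm (sr 0)) ^ 2 = 1 := by
      rw [← map_pow]
      have : (sr 0 : DihedralGroup 8) ^ 2 = 1 := by decide
      rw [this, map_one]
    have hs₁2 : (e.symm (sr 1)) ^ 2 = 1 := by
      rw [← map_pow]
      have : (sr 1 : DihedralGroup 8) ^ 2 = 1 := by decide
      rw [this, map_one]
    have hs₀nc : ∃ g, e.symm (sr 0) * g ≠ g * e.symm (sr 0) := by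
      refine ⟨e.symm (r 1), ?_⟩
      rw [← map_mul, ← map_mul]
      intro h
      have := e.symm.injective h
      revert this
      decide
    have hs₁nc : ∃ g, e.symm (sr 1) * g ≠ g * e.symm (sr 1) := by
      refine ⟨e.symm (r 1), ?_⟩
      rw [← map_mul, ← map_mul]
      intro h
      have := e.symm.injective h
      revert this
      decide
    obtain ⟨v, hv, hsv⟩ := hfixes _ hs₀2 hs₀nc
    obtain ⟨w, hw, hsw⟩ := hfixes _ hs₁2 hs₁nc
    obtain ⟨g, hg⟩ := htrans v w hv hw
    have hconj : g * e.symm (sr 0) * g⁻¹ ∈ stab ρ w := conj_fix ρ hg hsv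
    have hne1 : g * e.symm (sr 0) * g⁻¹ ≠ 1 := by
      intro h
      rw [conj_eq_one_iff] at h
      have h2 : e.symm (sr 0) = e.symm 1 := by rw [h, map_one]
      have := e.symm.injective h2
      revert this
      decide
    have hne2 : e.symm (sr 1) ≠ 1 := by
      intro h
      have h2 : e.symm (sr 1) = e.symm 1 := by rw [h, map_one]
      have := e.symm.injective h2
      revert this
      decide
    have heq : g * e.symm (sr 0) * g⁻¹ = e.symm (sr 1) :=
      eq_of_card_two (hst w hw) hconj hsw hne1 hne2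
    have h3 : e g * sr 0 * (e g)⁻¹ = sr 1 := by
      have := congrArg e heq
      simpa using this
    exact (by decide : ∀ x : DihedralGroup 8, x * sr 0 * x⁻¹ ≠ sr 1) (e g) h3
  obtain ⟨A, hAn, hAcard, hAexp, hAcomm⟩ :=
    Cfsg.Agent.S3380.exists_normal_sq 2 hG hnc hnq hnd hnsd
  have hAne : A ≠ ⊥ := by
    intro h
    rw [h, Subgroup.card_bot] at hAcard
    norm_num at hAcard
  haveI := hAn
  obtain ⟨z, hzA, hzc, hz1⟩ := Cfsg.Agent.Helper6.exists_mem_center_of_normal_ne_bot 2 hG A hAne
  have hzc' : ∀ g, z * g = g * z := fun g => ((Subgroup.mem_center_iff.1 hzc) g).symm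
  have hz2 : z ^ 2 = 1 := hAexp z hzA
  have hzneg : ∀ w, ρ z w = -w := neg_of_no_fixed ρ hz2 (fun w hw => by
    by_contra h0
    exact hz1 (eq_one_of_central_of_fixed ρ hρ htrans hzc' h0 hw))
  obtain ⟨s, hsA, hs1, hsz⟩ : ∃ s ∈ A, s ≠ 1 ∧ s ≠ z := by
    by_contra hno
    push Not at hno
    have hsub : (A : Set G) ⊆ {1, z} := by
      intro x hx
      by_cases h : x = 1
      · simp [h]
      · simp [hno x hx h]
    have h1 := Set.ncard_le_ncard hsub (Set.toFinite _)
    have h2 : ({1, z} : Set G).ncard ≤ 2 :=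
      (Set.ncard_insert_le 1 {z}).trans (by rw [Set.ncard_singleton])
    have h3 : (A : Set G).ncard = 4 := by
      rw [← Nat.card_coe_set_eq]
      exact hAcard
    omega
  have hs2 : s ^ 2 = 1 := hAexp s hsA
  obtain ⟨v, hv, hsv⟩ : ∃ v : V, v ≠ 0 ∧ ρ s v = v := by
    by_contra hno
    push Not at hno
    exact hsz (unique_neg ρ hρ (neg_of_no_fixed ρ hs2 (fun w hw => by
      by_contra h0; exact hno w h0 hw)) hzneg)
  obtain ⟨u, hu⟩ : ∃ u : V, ρ s u ≠ u := by
    by_contra hno
    push Not at hno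
    apply hs1
    apply hρ
    rw [map_one]
    apply LinearEquiv.ext
    intro w
    exact hno w
  obtain ⟨v', hv'def⟩ : ∃ v' : V, v' = u - ρ s u := ⟨_, rfl⟩
  have hv'0 : v' ≠ 0 := by rw [hv'def]; exact sub_ne_zero.2 (Ne.symm hu)
  have hsv' : ρ s v' = -v' := by
    rw [hv'def, map_sub, rho_sq ρ hs2]
    abel
  have hw0 : v + v' ≠ 0 := by
    intro h
    have h1 : v' = -v := (eq_neg_of_add_eq_zero_right h)
    have h2 : ρ s v' = v' := by rw [h1, map_neg, hsv]
    rw [hsv'] at h2
    apply hv'0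
    apply two_tor
    nth_rewrite 1 [← h2]
    simp
  obtain ⟨g, hg⟩ := htrans v (v + v') hv hw0
  have htfix : ρ (g * s * g⁻¹) (v + v') = v + v' := conj_fix ρ hg hsv
  have htA : g * s * g⁻¹ ∈ A := hAn.conj_mem s hsA g
  have hzinv : z⁻¹ = z := by
    rw [inv_eq_iff_mul_eq_one, ← pow_two, hz2]
  have hmem : ∀ x ∈ A, x = 1 ∨ x = z ∨ x = s ∨ x = s * z := by
    classical
    have hT : ({1, z, s, s * z} : Finset G).card = 4 := by
      rw [Finset.card_insert_of_notMem, Finset.card_insert_of_notMem,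
        Finset.card_insert_of_notMem, Finset.card_singleton]
      · simp only [Finset.mem_singleton]
        intro h
        apply hz1
        have := mul_left_cancel (a := s) (b := 1) (c := z) (by rw [mul_one]; exact h)
        exact this.symm
      · simp only [Finset.mem_insert, Finset.mem_singleton, not_or]
        refine ⟨fun h => hsz h.symm, ?_⟩
        intro h
        apply hs1
        have := mul_right_cancel (a := 1) (b := z) (c := s) (by rw [one_mul]; exact h)
        exact this.symm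
      · simp only [Finset.mem_insert, Finset.mem_singleton, not_or]
        refine ⟨fun h => hz1 h.symm, fun h => hs1 h.symm, ?_⟩
        intro h
        apply hsz
        rw [← hzinv]
        exact eq_inv_of_mul_eq_one_left h.symm
    have hsub : ((({1, z, s, s * z} : Finset G)) : Set G) ⊆ (A : Set G) := by
      intro x hx
      simp only [Finset.coe_insert, Finset.coe_singleton, Set.mem_insert_iff,
        Set.mem_singleton_iff] at hx
      rcases hx with rfl | rfl | rfl | rfl
      · exact A.one_mem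
      · exact hzA
      · exact hsA
      · exact A.mul_mem hsA hzA
    have h3 : (A : Set G).ncard = 4 := by
      rw [← Nat.card_coe_set_eq]
      exact hAcard
    have heq := Set.eq_of_subset_of_ncard_le hsub (by
      rw [Set.ncard_coe_finset, hT, h3]) (Set.toFinite _)
    intro x hx
    have hx' : x ∈ (A : Set G) := hx
    rw [← heq] at hx'
    simpa using hx'
  rcases hmem _ htA with h | h | h | h
  · apply hs1
    rwa [conj_eq_one_iff] at h
  · apply hsz
    have h4 : s = g⁻¹ * (g * s * g⁻¹) * g := by group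
    rw [h4, h, mul_assoc, hzc' g, ← mul_assoc, inv_mul_cancel, one_mul]
  · rw [h, map_add, hsv, hsv'] at htfix
    apply hv'0
    apply two_tor
    have h5 : v' + v' = (v + v') - (v + -v') := by abel
    rw [h5, htfix, sub_self]
  · rw [h, map_mul, LinearEquiv.mul_apply, hzneg, map_neg, map_add, hsv, hsv'] at htfix
    apply hv
    apply two_tor
    have h5 : v + v = (v + v') - (-(v + -v')) := by abel
    rw [h5, htfix, sub_self]

end nine

theorem case_nine {q : ℕ} [Fact q.Prime] {V : Type u} [AddCommGroup V] [Module (ZMod q) V]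
    [Finite V] [Nontrivial V] {G : Type v} [Group G] [Finite G] (hq3 : q = 3)
    (ρ : G →* (V ≃ₗ[ZMod q] V)) (hG : IsPGroup 2 G) (hρ : Function.Injective ρ)
    (htrans : ∀ v w : V, v ≠ 0 → w ≠ 0 → ∃ g : G, ρ g v = w) (hN : Nat.card V = 9) :
    (IsCyclic G ∧ Nat.card G = 8) ∨ Nonempty (G ≃* QuaternionGroup 2) ∨
      (Cfsg.IsQuasiDihedral G ∧ Nat.card G = 16) := by
  subst hq3
  obtain ⟨v₀, hv₀⟩ := exists_ne (0 : V)
  have hdvd : Nat.card G ∣ 48 := by
    rw [← card_aut_nine hN]
    exact Subgroup.card_dvd_of_injective ρ hρ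
  obtain ⟨a, ha⟩ := IsPGroup.iff_card.mp hG
  have hce : ∀ v : V, v ≠ 0 → Nat.card G = 8 * Nat.card (stab ρ v) := by
    intro v hv
    have := card_eq ρ htrans hv
    rw [hN] at this
    exact this
  have hk6 : Nat.card (stab ρ v₀) ∣ 6 := by
    have h1 := hce v₀ hv₀
    rw [h1] at hdvd
    exact Nat.dvd_of_mul_dvd_mul_left (by norm_num : 0 < 8) (by simpa using hdvd)
  have hk2 : Nat.card (stab ρ v₀) ∣ 2 ^ a := by
    rw [← ha]
    exact Subgroup.card_subgroup_dvd_card _
  have h3 : ¬ (3 ∣ 2 ^ a) := by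
    intro h
    have := Nat.Prime.dvd_of_dvd_pow Nat.prime_three h
    omega
  have hk : Nat.card (stab ρ v₀) = 1 ∨ Nat.card (stab ρ v₀) = 2 := by
    have hle := Nat.le_of_dvd (by norm_num) hk6
    generalize Nat.card (stab ρ v₀) = k at *
    interval_cases k
    · omega
    · left; rfl
    · right; rfl
    · exact absurd hk2 h3
    · omega
    · omega
    · exact absurd (dvd_trans (by norm_num : 3 ∣ 6) hk2) h3
  rcases hk with hk | hk
  · have hc8 : Nat.card G = 8 := by rw [hce v₀ hv₀, hk]
    have hst : ∀ v : V, v ≠ 0 → stab ρ v = ⊥ := by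
      intro v hv
      rw [← Subgroup.card_eq_one]
      have := hce v hv
      omega
    rcases case_eight ρ hG hρ hst hc8 with h | h
    · exact Or.inl ⟨h, hc8⟩
    · exact Or.inr (Or.inl h)
  · have hc16 : Nat.card G = 16 := by rw [hce v₀ hv₀, hk]
    have hst : ∀ v : V, v ≠ 0 → Nat.card (stab ρ v) = 2 := by
      intro v hv
      have := hce v hv
      omega
    exact Or.inr (Or.inr ⟨case_sixteen ρ hG hρ htrans hst hc16, hc16⟩)

/-- Let q be a prime, V a non-trivial finite vector space over the field with q elements, and G a non-trivial finite p-group (p prime) acting faithfully and linearly on V and transitively on the non-zero vectors. Then either q = 2 and G has prime order p = |V| − 1; or p = 2, V has q elements with q = 2^m + 1 and G is cyclic of order 2^m; or p = 2, q = 3, V has 9 elements and G is cyclic of order 8, quaternion of order 8, or semidihedral of order 16. -/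
theorem result (q : ℕ) [Fact q.Prime] {V : Type*} [AddCommGroup V] [Module (ZMod q) V] [Finite V] [Nontrivial V]
    {G : Type*} [Group G] [Finite G] [Nontrivial G] (p : ℕ) [Fact p.Prime] (hG : IsPGroup p G)
    (ρ : G →* (V ≃ₗ[ZMod q] V)) (hρ : Function.Injective ρ)
    (htrans : ∀ v w : V, v ≠ 0 → w ≠ 0 → ∃ g : G, ρ g v = w) :
    (q = 2 ∧ p = Nat.card V - 1 ∧ Nat.card G = p) ∨
    (p = 2 ∧ Nat.card V = q ∧ (∃ m : ℕ, q = 2 ^ m + 1 ∧ Nat.card G = 2 ^ m) ∧ IsCyclic G) ∨
    (p = 2 ∧ q = 3 ∧ Nat.card V = 9 ∧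
      ((IsCyclic G ∧ Nat.card G = 8) ∨ Nonempty (G ≃* QuaternionGroup 2) ∨ (Cfsg.IsQuasiDihedral G ∧ Nat.card G = 16))) := by
  have hq : q.Prime := Fact.out
  have hp : p.Prime := Fact.out
  have : Fintype V := Fintype.ofFinite V
  have hN2 : 1 < Nat.card V := Finite.one_lt_card
  obtain ⟨n, hn1, hNq⟩ : ∃ n, 1 ≤ n ∧ Nat.card V = q ^ n := by
    have hc : Nat.card V = q ^ Module.finrank (ZMod q) V := by
      rw [Nat.card_eq_fintype_card, Module.card_eq_pow_finrank (K := ZMod q), ZMod.card]
    refine ⟨Module.finrank (ZMod q) V, ?_, hc⟩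
    by_contra hcon
    have h0 : Module.finrank (ZMod q) V = 0 := by omega
    rw [h0, pow_zero] at hc
    omega
  obtain ⟨v₀, hv₀⟩ := exists_ne (0 : V)
  obtain ⟨a, ha⟩ := IsPGroup.iff_card.mp hG
  have hce := card_eq ρ htrans hv₀
  obtain ⟨b, hba, hb⟩ : ∃ b ≤ a, Nat.card V - 1 = p ^ b :=
    (Nat.dvd_prime_pow hp).1 (by rw [← ha, hce]; exact dvd_mul_right _ _)
  have hb1 : 1 ≤ b := by
    by_contra hcon
    have hb0 : b = 0 := by omega
    rw [hb0, pow_zero] at hb
    have hN : Nat.card V = 2 := by omega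
    have hall : ∀ g : G, g = 1 := by
      intro g
      apply hρ
      rw [map_one]
      apply LinearEquiv.ext
      intro w
      by_cases hw : w = 0
      · rw [hw]; simp
      · obtain ⟨y, -, hy⟩ := (Nat.card_eq_two_iff' (0 : V)).1 hN
        have h1 : ρ g w = y := hy _ (by simpa using hw)
        have h2 : w = y := hy _ hw
        rw [h1, ← h2]
        rfl
    obtain ⟨g, hg⟩ := exists_ne (1 : G)
    exact hg (hall g)
  by_cases hq2 : q = 2
  · left
    have h1 : 2 ^ n = p ^ b + 1 := by
      have := hNq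
      rw [hq2] at this
      omega
    have hb' := nt_two hp hb1 h1
    rw [hb', pow_one] at hb
    have hN : Nat.card V = p + 1 := by omega
    have hst := stab_eq_bot_of_card_succ ρ hG hρ hN hv₀
    refine ⟨hq2, hb.symm, ?_⟩
    rw [hce, hst, Subgroup.card_bot, mul_one, hb]
  · right
    have hp2 : p = 2 := by
      have hqodd : Odd q := hq.odd_of_ne_two hq2
      have hNodd : Odd (Nat.card V) := by rw [hNq]; exact hqodd.pow
      have heven : Even (p ^ b) := by
        rw [← hb]
        obtain ⟨k, hk⟩ := hNodd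
        exact ⟨k, by omega⟩
      have : Even p := (Nat.even_pow.1 heven).1
      exact (hp.even_iff.1 this)
    have hnt := nt_odd hq hq2 hn1 (by rw [← hNq, hb, hp2] : q ^ n - 1 = 2 ^ b)
    rcases hnt with hn | ⟨hq3, hn⟩
    · left
      have hN : Nat.card V = q := by rw [hNq, hn, pow_one]
      obtain ⟨hcyc, hcard⟩ := dim_one ρ hN hρ htrans
      have hq1 : q - 1 = 2 ^ b := by rw [← hN, hb, hp2]
      have hq2' := hq.two_le
      refine ⟨hp2, hN, ⟨b, by omega, ?_⟩, hcyc⟩
      rw [hcard, hq1]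
    · right
      have hN : Nat.card V = 9 := by rw [hNq, hq3, hn]; norm_num
      refine ⟨hp2, hq3, hN, ?_⟩
      have hG2 : IsPGroup 2 G := hp2 ▸ hG
      exact case_nine hq3 ρ hG2 hρ htrans hN


end Cfsg.Agent.S3370
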