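import Mathlib
import Cfsg.Statements.S3491
import Cfsg.Statements.S3491
-- import your own Cfsg.Agent.* helpers here

set_option autoImplicit false
open Cfsg

namespace Cfsg.Agent.S3491
open Cfsg

universe u

/-! ### Element orders of `A₆` -/

set_option maxRecDepth 1000000 in
theorem a6_pow : ∀ σ : Equiv.Perm (Fin 6), Equiv.Perm.sign σ = 1 →
    σ ^ 4 = 1 ∨ σ ^ 3 = 1 ∨ σ ^ 5 = 1 := by
  decide +kernel

/-- If `x ^ 4 = 1 ∨ x ^ 3 = 1 ∨ x ^ 5 = 1` then the order of `x` is in `{1, 2, 3, 4, 5}`. -/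
theorem orderOf_mem_of_pow {G : Type*} [Group G] (x : G)
    (h : x ^ 4 = 1 ∨ x ^ 3 = 1 ∨ x ^ 5 = 1) : orderOf x ∈ ({1, 2, 3, 4, 5} : Set ℕ) := by
  simp only [Set.mem_insert_iff, Set.mem_singleton_iff]
  rcases h with h | h | h
  · have hd := orderOf_dvd_of_pow_eq_one h
    have : orderOf x ∣ 2 ^ 2 := by simpa using hd
    obtain ⟨j, hj, hj'⟩ := (Nat.dvd_prime_pow Nat.prime_two).1 this
    interval_cases j <;> simp [hj']
  · have hd := orderOf_dvd_of_pow_eq_one h
    rcases (Nat.dvd_prime Nat.prime_three).1 hd with h' | h' <;> simp [h']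
  · have hd := orderOf_dvd_of_pow_eq_one h
    rcases (Nat.dvd_prime Nat.prime_five).1 hd with h' | h' <;> simp [h']

theorem a6_range : Set.range (orderOf : alternatingGroup (Fin 6) → ℕ) = {1, 2, 3, 4, 5} := by
  apply Set.Subset.antisymm
  · rintro _ ⟨g, rfl⟩
    have hs : Equiv.Perm.sign (g : Equiv.Perm (Fin 6)) = 1 := Equiv.Perm.mem_alternatingGroup.1 g.2
    have := a6_pow g hs
    rw [← Subgroup.orderOf_coe]
    exact orderOf_mem_of_pow _ this
  · intro n hn
    simp only [Set.mem_insert_iff, Set.mem_singleton_iff] at hn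
    have key : ∀ (σ : Equiv.Perm (Fin 6)) (hσ : σ ∈ alternatingGroup (Fin 6)) (m : ℕ),
        orderOf σ = m → m ∈ Set.range (orderOf : alternatingGroup (Fin 6) → ℕ) := by
      intro σ hσ m hm
      refine ⟨⟨σ, hσ⟩, ?_⟩
      rw [← Subgroup.orderOf_coe]
      exact hm
    rcases hn with rfl | rfl | rfl | rfl | rfl
    · exact ⟨1, orderOf_one⟩
    · refine key (Equiv.swap 0 1 * Equiv.swap 2 3) (Equiv.Perm.mem_alternatingGroup.2 (by decide)) 2 ?_
      exact orderOf_eq_prime (by decide) (by decide)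
    · refine key (Equiv.swap 0 1 * Equiv.swap 1 2) (Equiv.Perm.mem_alternatingGroup.2 (by decide)) 3 ?_
      exact orderOf_eq_prime (by decide) (by decide)
    · refine key (Equiv.swap 0 1 * Equiv.swap 1 2 * Equiv.swap 2 3 * Equiv.swap 4 5)
        (Equiv.Perm.mem_alternatingGroup.2 (by decide)) 4 ?_
      exact orderOf_eq_prime_pow (p := 2) (n := 1) (by decide) (by decide)
    · refine key (Equiv.swap 0 1 * Equiv.swap 1 2 * Equiv.swap 2 3 * Equiv.swap 3 4)
        (Equiv.Perm.mem_alternatingGroup.2 (by decide)) 5 ?_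
      have : Fact (Nat.Prime 5) := ⟨Nat.prime_five⟩
      exact orderOf_eq_prime (by decide) (by decide)

/-! ### `2 × 2` matrices of determinant one in characteristic two -/

section Mat

variable {F : Type u} [Field F] [CharP F 2]

theorem two_eq_zero' : (2 : F) = 0 := CharTwo.two_eq_zero

theorem cayley (A : Matrix (Fin 2) (Fin 2) F) (hA : A.det = 1) :
    A * A = (A 0 0 + A 1 1) • A + 1 := by
  have h2 : (2 : F) = 0 := two_eq_zero'
  rw [Matrix.det_fin_two] at hA
  ext i j
  fin_cases i <;> fin_cases j <;>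
    simp [Matrix.mul_apply, Fin.sum_univ_two]
  · linear_combination (-1 : F) * hA - h2
  · ring
  · ring
  · linear_combination (-1 : F) * hA - h2

omit [CharP F 2] in
theorem step (A : Matrix (Fin 2) (Fin 2) F) (t : F) (h : A * A = t • A + 1) (n : ℕ) (x y x' y' : F)
    (hn : A ^ n = x • A + y • 1) (hx : x' = x * t + y) (hy : y' = x) :
    A ^ (n + 1) = x' • A + y' • 1 := by
  rw [pow_succ, hn, add_mul, smul_mul_assoc, smul_mul_assoc, h, one_mul, hx, hy]
  module

theorem mat_tr0 (A : Matrix (Fin 2) (Fin 2) F) (hA : A.det = 1) (h : A 0 0 + A 1 1 = 0) :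
    A ^ 2 = 1 ∧ A ^ 4 = 1 ∧ ∑ i ∈ Finset.range 4, A ^ i = 0 := by
  have h2 : (2 : F) = 0 := two_eq_zero'
  have hc := cayley A hA
  set t := A 0 0 + A 1 1 with ht
  have q0 : A ^ 0 = (0 : F) • A + (1 : F) • 1 := by simp
  have q1 : A ^ 1 = (1 : F) • A + (0 : F) • 1 := step A t hc 0 0 1 1 0 q0 (by ring) rfl
  have q2 : A ^ 2 = (0 : F) • A + (1 : F) • 1 := step A t hc 1 _ _ _ _ q1 (by rw [h]; ring) rfl
  have q3 : A ^ 3 = (1 : F) • A + (0 : F) • 1 := step A t hc 2 _ _ _ _ q2 (by rw [h]; ring) rfl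
  have q4 : A ^ 4 = (0 : F) • A + (1 : F) • 1 := step A t hc 3 _ _ _ _ q3 (by rw [h]; ring) rfl
  refine ⟨?_, ?_, ?_⟩
  · rw [q2]; simp
  · rw [q4]; simp
  · have : ∑ i ∈ Finset.range 4, A ^ i = (2 : F) • A + (2 : F) • 1 := by
      simp only [Finset.sum_range_succ, Finset.sum_range_zero, zero_add]
      rw [q3, q2, q1, q0]
      module
    rw [this, h2]; simp

theorem mat_tr1 (A : Matrix (Fin 2) (Fin 2) F) (hA : A.det = 1) (h : A 0 0 + A 1 1 = 1) :
    A ^ 3 = 1 ∧ ∑ i ∈ Finset.range 3, A ^ i = 0 := by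
  have h2 : (2 : F) = 0 := two_eq_zero'
  have hc := cayley A hA
  set t := A 0 0 + A 1 1 with ht
  have q0 : A ^ 0 = (0 : F) • A + (1 : F) • 1 := by simp
  have q1 : A ^ 1 = (1 : F) • A + (0 : F) • 1 := step A t hc 0 0 1 1 0 q0 (by ring) rfl
  have q2 : A ^ 2 = (1 : F) • A + (1 : F) • 1 := step A t hc 1 _ _ _ _ q1 (by rw [h]; ring) rfl
  have q3 : A ^ 3 = (0 : F) • A + (1 : F) • 1 :=
    step A t hc 2 _ _ _ _ q2 (by rw [h]; linear_combination (-1 : F) * h2) rfl
  refine ⟨?_, ?_⟩
  · rw [q3]; simp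
  · have : ∑ i ∈ Finset.range 3, A ^ i = (2 : F) • A + (2 : F) • 1 := by
      simp only [Finset.sum_range_succ, Finset.sum_range_zero, zero_add]
      rw [q2, q1, q0]
      module
    rw [this, h2]; simp

theorem mat_trw (A : Matrix (Fin 2) (Fin 2) F) (hA : A.det = 1)
    (h : (A 0 0 + A 1 1) * (A 0 0 + A 1 1) + (A 0 0 + A 1 1) + 1 = 0) :
    A ^ 5 = 1 ∧ ∑ i ∈ Finset.range 5, A ^ i = 0 := by
  have h2 : (2 : F) = 0 := two_eq_zero'
  have hc := cayley A hA
  set t := A 0 0 + A 1 1 with ht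
  have q0 : A ^ 0 = (0 : F) • A + (1 : F) • 1 := by simp
  have q1 : A ^ 1 = (1 : F) • A + (0 : F) • 1 := step A t hc 0 0 1 1 0 q0 (by ring) rfl
  have e1 : t * t = t + 1 := by linear_combination h - (t + 1) * h2
  have q2 : A ^ 2 = t • A + (1 : F) • 1 := step A t hc 1 _ _ _ _ q1 (by ring) rfl
  have q3 : A ^ 3 = t • A + t • 1 :=
    step A t hc 2 _ _ _ _ q2 (by linear_combination (-1 : F) * e1 - h2) rfl
  have q4 : A ^ 4 = (1 : F) • A + t • 1 :=
    step A t hc 3 _ _ _ _ q3 (by linear_combination (-1 : F) * e1 - t * h2) rfl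
  have q5 : A ^ 5 = (0 : F) • A + (1 : F) • 1 :=
    step A t hc 4 _ _ _ _ q4 (by linear_combination (-t) * h2) rfl
  refine ⟨?_, ?_⟩
  · rw [q5]; simp
  · have : ∑ i ∈ Finset.range 5, A ^ i = ((2 : F) + 2 * t) • A + ((2 : F) + 2 * t) • 1 := by
      simp only [Finset.sum_range_succ, Finset.sum_range_zero, zero_add]
      rw [q4, q3, q2, q1, q0]
      module
    rw [this, h2]; simp

/-- The key computation: for `A` of determinant one there is `j ∈ {3, 4, 5}` with `A ^ j = 1`
and `1 + A + ⋯ + A ^ (j - 1) = 0`. -/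
theorem key_mat (hF4 : ∀ t : F, t = 0 ∨ t = 1 ∨ t * t + t + 1 = 0)
    (A : Matrix (Fin 2) (Fin 2) F) (hA : A.det = 1) :
    ∃ j : ℕ, (j = 4 ∨ j = 3 ∨ j = 5) ∧ A ^ j = 1 ∧ ∑ i ∈ Finset.range j, A ^ i = 0 := by
  rcases hF4 (A 0 0 + A 1 1) with h | h | h
  · exact ⟨4, Or.inl rfl, (mat_tr0 A hA h).2⟩
  · exact ⟨3, Or.inr (Or.inl rfl), mat_tr1 A hA h⟩
  · exact ⟨5, Or.inr (Or.inr rfl), mat_trw A hA h⟩

/-- The matrix `[[0, 1], [1, t]]` of determinant one and trace `t`. -/
def U (t : F) : Matrix.SpecialLinearGroup (Fin 2) F :=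
  ⟨!![0, 1; 1, t], by
    rw [Matrix.det_fin_two_of]
    have h2 : (2 : F) = 0 := two_eq_zero'
    linear_combination (-1 : F) * h2⟩

theorem U_ne_one (t : F) : U t ≠ 1 := by
  intro h
  have := congrArg (fun g : Matrix.SpecialLinearGroup (Fin 2) F => g.1 0 0) h
  simp [U] at this

theorem U_pow (t : F) (j : ℕ) (h : (U t).1 ^ j = 1) : U t ^ j = 1 := by
  apply Subtype.ext
  rw [Matrix.SpecialLinearGroup.coe_pow, h]
  rfl

theorem orderOf_U0 : orderOf (U (0 : F)) = 2 :=
  orderOf_eq_prime (U_pow 0 2 (mat_tr0 _ (U 0).2 (by simp [U])).1) (U_ne_one 0)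

theorem orderOf_U1 : orderOf (U (1 : F)) = 3 :=
  orderOf_eq_prime (U_pow 1 3 (mat_tr1 _ (U 1).2 (by simp [U])).1) (U_ne_one 1)

theorem orderOf_Uw (t : F) (ht : t * t + t + 1 = 0) : orderOf (U t) = 5 := by
  have : Fact (Nat.Prime 5) := ⟨Nat.prime_five⟩
  exact orderOf_eq_prime (U_pow t 5 (mat_trw _ (U t).2 (by simpa [U] using ht)).1) (U_ne_one t)

end Mat

/-! ### The groups `(F²)ᵏ ⋊ SL₂(F)` -/

section Semi

variable {F : Type u} [Field F]

/-- The module `(F²)ᵏ`. -/
abbrev M (F : Type u) (k : ℕ) := Fin k → Fin 2 → F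

/-- Diagonal action of a matrix on `(F²)ᵏ`. -/
def mact (k : ℕ) (A : Matrix (Fin 2) (Fin 2) F) (m : M F k) : M F k := fun i => A.mulVec (m i)

theorem mact_one (k : ℕ) (m : M F k) : mact k 1 m = m := by
  funext i; simp [mact]

theorem mact_zero (k : ℕ) (m : M F k) : mact k 0 m = 0 := by
  funext i; simp [mact]

theorem mact_mul (k : ℕ) (A B : Matrix (Fin 2) (Fin 2) F) (m : M F k) :
    mact k (A * B) m = mact k A (mact k B m) := by
  funext i; simp only [mact, Matrix.mulVec_mulVec]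

theorem mact_add_left (k : ℕ) (A B : Matrix (Fin 2) (Fin 2) F) (m : M F k) :
    mact k (A + B) m = mact k A m + mact k B m := by
  funext i; simp [mact, Matrix.add_mulVec]

theorem mact_add_right (k : ℕ) (A : Matrix (Fin 2) (Fin 2) F) (m n : M F k) :
    mact k A (m + n) = mact k A m + mact k A n := by
  funext i; simp [mact, Matrix.mulVec_add]

/-- The action of `SL₂(F)` on `(F²)ᵏ` as automorphisms. -/
def autOf (k : ℕ) (g : Matrix.SpecialLinearGroup (Fin 2) F) : M F k ≃+ M F k where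
  toFun := mact k g.1
  invFun := mact k (g⁻¹).1
  left_inv m := by
    rw [← mact_mul, ← Matrix.SpecialLinearGroup.coe_mul, inv_mul_cancel,
      Matrix.SpecialLinearGroup.coe_one, mact_one]
  right_inv m := by
    rw [← mact_mul, ← Matrix.SpecialLinearGroup.coe_mul, mul_inv_cancel,
      Matrix.SpecialLinearGroup.coe_one, mact_one]
  map_add' := mact_add_right k g.1

/-- The homomorphism defining the semidirect product. -/
def phi (F : Type u) [Field F] (k : ℕ) :
    Matrix.SpecialLinearGroup (Fin 2) F →* MulAut (Multiplicative (M F k)) where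
  toFun g := AddEquiv.toMultiplicative (autOf k g)
  map_one' := by
    refine MulEquiv.ext fun m => ?_
    change Multiplicative.ofAdd (mact k (1 : Matrix.SpecialLinearGroup (Fin 2) F).1 _) = _
    rw [Matrix.SpecialLinearGroup.coe_one, mact_one]
    rfl
  map_mul' g h := by
    refine MulEquiv.ext fun m => ?_
    change Multiplicative.ofAdd (mact k (g * h).1 _) = Multiplicative.ofAdd (mact k g.1 (mact k h.1 _))
    rw [Matrix.SpecialLinearGroup.coe_mul, mact_mul]

/-- The group `(F²)ᵏ ⋊ SL₂(F)`. -/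
abbrev H (F : Type u) [Field F] (k : ℕ) :=
  Multiplicative (M F k) ⋊[phi F k] Matrix.SpecialLinearGroup (Fin 2) F

theorem phi_apply (k : ℕ) (g : Matrix.SpecialLinearGroup (Fin 2) F) (m : Multiplicative (M F k)) :
    phi F k g m = Multiplicative.ofAdd (mact k g.1 (Multiplicative.toAdd m)) := rfl

theorem pow_eq (k : ℕ) (x : H F k) (j : ℕ) :
    (x ^ j).right = x.right ^ j ∧
    (x ^ j).left = Multiplicative.ofAdd
      (mact k (∑ i ∈ Finset.range j, (x.right.1) ^ i) (Multiplicative.toAdd x.left)) := by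
  induction j with
  | zero =>
    refine ⟨by simp, ?_⟩
    simp only [pow_zero, SemidirectProduct.one_left, Finset.range_zero, Finset.sum_empty, mact_zero]
    rfl
  | succ j ih =>
    obtain ⟨ih1, ih2⟩ := ih
    refine ⟨by rw [pow_succ, SemidirectProduct.mul_right, ih1, pow_succ], ?_⟩
    rw [pow_succ, SemidirectProduct.mul_left, ih1, ih2, phi_apply, Finset.sum_range_succ,
      mact_add_left, Matrix.SpecialLinearGroup.coe_pow]
    rfl

theorem pow_eq_one (k : ℕ) (x : H F k) (j : ℕ) (h1 : (x.right.1) ^ j = 1)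
    (h2 : ∑ i ∈ Finset.range j, (x.right.1) ^ i = 0) : x ^ j = 1 := by
  obtain ⟨e1, e2⟩ := pow_eq k x j
  apply SemidirectProduct.ext
  · rw [e2, h2, mact_zero]; rfl
  · rw [e1, SemidirectProduct.one_right]
    apply Subtype.ext
    rw [Matrix.SpecialLinearGroup.coe_pow, h1]
    rfl

variable [CharP F 2]

theorem spectrum_sub (hF4 : ∀ t : F, t = 0 ∨ t = 1 ∨ t * t + t + 1 = 0) (k : ℕ) (x : H F k) :
    orderOf x ∈ ({1, 2, 3, 4, 5} : Set ℕ) := by
  obtain ⟨j, hj, h1, h2⟩ := key_mat hF4 x.right.1 x.right.2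
  have := pow_eq_one k x j h1 h2
  apply orderOf_mem_of_pow
  rcases hj with rfl | rfl | rfl
  · exact Or.inl this
  · exact Or.inr (Or.inl this)
  · exact Or.inr (Or.inr this)

theorem spectrum_sup (t : F) (ht : t * t + t + 1 = 0) (k : ℕ) (hk : 0 < k) :
    ({1, 2, 3, 4, 5} : Set ℕ) ⊆ Set.range (orderOf : H F k → ℕ) := by
  intro n hn
  simp only [Set.mem_insert_iff, Set.mem_singleton_iff] at hn
  rcases hn with rfl | rfl | rfl | rfl | rfl
  · exact ⟨1, orderOf_one⟩
  · exact ⟨SemidirectProduct.inr (U 0), by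
      rw [orderOf_injective _ SemidirectProduct.inr_injective, orderOf_U0]⟩
  · exact ⟨SemidirectProduct.inr (U 1), by
      rw [orderOf_injective _ SemidirectProduct.inr_injective, orderOf_U1]⟩
  · let x : H F k := ⟨Multiplicative.ofAdd (fun _ => ![1, 0]), U 0⟩
    refine ⟨x, ?_⟩
    have h0 := mat_tr0 (U (0 : F)).1 (U 0).2 (by simp [U])
    have h4 : x ^ 4 = 1 := pow_eq_one k x 4 h0.2.1 h0.2.2
    have h2 : ¬ x ^ 2 = 1 := by
      intro h
      have e := (pow_eq k x 2).2
      rw [h, SemidirectProduct.one_left] at e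
      have e' : mact k (∑ i ∈ Finset.range 2, (x.right.1) ^ i) (Multiplicative.toAdd x.left) = 0 :=
        Multiplicative.ofAdd.injective e.symm
      have e'' := congrFun (congrFun e' ⟨0, hk⟩) 0
      simp [mact, x, U, Finset.sum_range_succ, Matrix.mulVec, dotProduct, Fin.sum_univ_two] at e''
    exact orderOf_eq_prime_pow (p := 2) (n := 1) (by simpa using h2) (by simpa using h4)
  · exact ⟨SemidirectProduct.inr (U t), by
      rw [orderOf_injective _ SemidirectProduct.inr_injective, orderOf_Uw t ht]⟩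

theorem spectrum_eq (hF4 : ∀ t : F, t = 0 ∨ t = 1 ∨ t * t + t + 1 = 0)
    (t : F) (ht : t * t + t + 1 = 0) (k : ℕ) (hk : 0 < k) :
    Set.range (orderOf : H F k → ℕ) = {1, 2, 3, 4, 5} := by
  apply Set.Subset.antisymm
  · rintro _ ⟨x, rfl⟩
    exact spectrum_sub hF4 k x
  · exact spectrum_sup t ht k hk

omit [CharP F 2] in
theorem card_lt [Finite F] (k : ℕ) : k < Nat.card (H F k) := by
  rw [SemidirectProduct.card]
  have h1 : Nat.card (Multiplicative (M F k)) = Nat.card (Fin 2 → F) ^ k := by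
    change Nat.card (Fin k → Fin 2 → F) = _
    rw [Nat.card_fun, Nat.card_fin]
  have h2 : 2 ≤ Nat.card (Fin 2 → F) := Finite.one_lt_card
  have h3 : 0 < Nat.card (Matrix.SpecialLinearGroup (Fin 2) F) := Nat.card_pos
  calc k < 2 ^ k := Nat.lt_two_pow_self
    _ ≤ Nat.card (Fin 2 → F) ^ k := Nat.pow_le_pow_left h2 k
    _ = Nat.card (Multiplicative (M F k)) := h1.symm
    _ ≤ Nat.card (Multiplicative (M F k)) * Nat.card (Matrix.SpecialLinearGroup (Fin 2) F) :=
      Nat.le_mul_of_pos_right _ h3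

end Semi

/-! ### Fields with four elements -/

theorem card4_cases {F : Type u} [Field F] [Fintype F] [CharP F 2] (hc : Fintype.card F = 4)
    (t : F) : t = 0 ∨ t = 1 ∨ t * t + t + 1 = 0 := by
  have h2 : (2 : F) = 0 := two_eq_zero'
  have h4 : t ^ 4 = t := by
    have := FiniteField.pow_card t
    rwa [hc] at this
  have : t * ((t + 1) * (t * t + t + 1)) = 0 := by
    linear_combination h4 + (t ^ 3 + t ^ 2 + t) * h2
  rcases mul_eq_zero.1 this with h | h
  · exact Or.inl h
  · rcases mul_eq_zero.1 h with h | h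
    · right; left
      linear_combination h - h2
    · exact Or.inr (Or.inr h)

theorem card4_exists {F : Type u} [Field F] [Fintype F] [CharP F 2] (hc : Fintype.card F = 4) :
    ∃ t : F, t * t + t + 1 = 0 := by
  classical
  by_contra hcon
  push Not at hcon
  have h01 : ∀ t : F, t = 0 ∨ t = 1 := by
    intro t
    rcases card4_cases hc t with h | h | h
    · exact Or.inl h
    · exact Or.inr h
    · exact absurd h (hcon t)
  have hsub : (Finset.univ : Finset F) ⊆ {0, 1} := by
    intro t _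
    rcases h01 t with h | h <;> simp [h]
  have := Finset.card_le_card hsub
  rw [Finset.card_univ, hc] at this
  have h2 : ({0, 1} : Finset F).card ≤ 2 := Finset.card_le_two
  omega

theorem F4_card : ∀ inst : Fintype (GaloisField 2 2), @Fintype.card (GaloisField 2 2) inst = 4 := by
  intro inst
  rw [← Nat.card_eq_fintype_card, GaloisField.card 2 2 (by norm_num)]
  norm_num

theorem F4_cases (t : GaloisField 2 2) : t = 0 ∨ t = 1 ∨ t * t + t + 1 = 0 := by
  let _ : Fintype (GaloisField 2 2) := Fintype.ofFinite _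
  exact card4_cases (F4_card _) t

theorem F4_exists : ∃ t : GaloisField 2 2, t * t + t + 1 = 0 := by
  let _ : Fintype (GaloisField 2 2) := Fintype.ofFinite _
  exact card4_exists (F4_card _)

/-- The alternating group of degree 6 is not determined by its set of element orders, not even up to finitely many groups: for every bound N there is a finite group of order greater than N with exactly the same set of element orders as the alternating group of degree 6. -/
theorem result (N : ℕ) : ∃ (H : Type) (_ : Group H) (_ : Fintype H), N < Fintype.card H ∧ Set.range (orderOf : H → ℕ) = Set.range (orderOf : alternatingGroup (Fin 6) → ℕ) := by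
  obtain ⟨t, ht⟩ := F4_exists
  have hfin : Finite (H (GaloisField 2 2) (N + 1)) :=
    Finite.of_equiv _ SemidirectProduct.equivProd.symm
  refine ⟨H (GaloisField 2 2) (N + 1), inferInstance, Fintype.ofFinite _, ?_, ?_⟩
  · rw [Fintype.card_eq_nat_card]
    exact lt_trans (Nat.lt_succ_self N) (card_lt (N + 1))
  · rw [a6_range, spectrum_eq F4_cases t ht (N + 1) (Nat.succ_pos N)]


end Cfsg.Agent.S3491
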