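import Mathlib
import Cfsg.Statements.S3374
import Cfsg.Statements.S3374
import Cfsg.Agent.Helper3.SL25Pres
import Cfsg.Agent.S3491
-- import your own Cfsg.Agent.* helpers here

set_option autoImplicit false
open Cfsg

namespace Cfsg.Agent.S3374
open Cfsg

open Cfsg.Agent.Helper3 Cfsg.Agent.Helper3.CosetCert

universe u v

/-! ### Semidirect products with fixed-point-free action -/

section Semi

variable {N : Type u} {K : Type v} [Group N] [Group K] (φ : K →* MulAut N)

open scoped Pointwise

theorem mem_range_inr (g : N ⋊[φ] K) : g ∈ (SemidirectProduct.inr : K →* N ⋊[φ] K).range ↔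
    g.left = 1 := by
  constructor
  · rintro ⟨k, rfl⟩
    rfl
  · intro h
    refine ⟨g.right, ?_⟩
    apply SemidirectProduct.ext
    · rw [h]; rfl
    · rfl

theorem frobenius_of_fpf [Nontrivial N] [Nontrivial K]
    (hfpf : ∀ k : K, k ≠ 1 → ∀ n : N, φ k n = n → n = 1) :
    Cfsg.IsFrobeniusComplement (SemidirectProduct.inr : K →* N ⋊[φ] K).range := by
  refine ⟨?_, ?_, ?_⟩
  · obtain ⟨k, hk⟩ := exists_ne (1 : K)
    intro h
    have : (SemidirectProduct.inr k : N ⋊[φ] K) ∈
        (SemidirectProduct.inr : K →* N ⋊[φ] K).range := ⟨k, rfl⟩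
    rw [h, Subgroup.mem_bot] at this
    exact hk (SemidirectProduct.inr_injective (this.trans (map_one _).symm))
  · obtain ⟨n, hn⟩ := exists_ne (1 : N)
    intro h
    have : (SemidirectProduct.inl n : N ⋊[φ] K) ∈
        (SemidirectProduct.inr : K →* N ⋊[φ] K).range := by rw [h]; trivial
    rw [mem_range_inr] at this
    exact hn this
  · intro g hg
    rw [mem_range_inr] at hg
    rw [eq_bot_iff]
    intro h hh
    rw [Subgroup.mem_inf] at hh
    obtain ⟨h1, h2⟩ := hh
    rw [mem_range_inr] at h1
    rw [Subgroup.mem_pointwise_smul_iff_inv_smul_mem, mem_range_inr] at h2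
    -- h2 : (g⁻¹ * h * g).left = 1
    have h2' : (g⁻¹ * h * g).left = 1 := by
      simpa [MulAut.smul_def] using h2
    rw [Subgroup.mem_bot]
    -- compute
    have e1 : (g⁻¹ * h * g).left = (φ g.right⁻¹ g.left⁻¹) * φ (g.right⁻¹ * h.right) g.left := by
      simp [SemidirectProduct.mul_left, SemidirectProduct.inv_left, SemidirectProduct.mul_right,
        SemidirectProduct.inv_right, h1]
    rw [e1] at h2'
    -- apply φ g.right to both sides
    have e2 : φ h.right g.left = g.left := by
      have := congrArg (φ g.right) h2'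
      rw [map_mul, map_one, ← MulAut.mul_apply, ← map_mul, mul_inv_cancel, map_one,
        MulAut.one_apply, ← MulAut.mul_apply, ← map_mul, ← mul_assoc, mul_inv_cancel, one_mul,
        inv_mul_eq_one] at this
      exact this.symm
    by_contra hne
    have hr : h.right ≠ 1 := by
      intro hr
      apply hne
      apply SemidirectProduct.ext
      · rw [h1]; rfl
      · rw [hr]; rfl
    exact hg (hfpf _ hr _ e2)

end Semi

/-! ### The action of `SL₂(5)` on `F₁₁²` -/

/-- `11` is prime. -/
instance fact_prime_eleven : Fact (Nat.Prime 11) := ⟨by norm_num⟩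

/-- images of the generators in `SL₂(11)` -/
def g11 : Fin 3 → Matrix.SpecialLinearGroup (Fin 2) (ZMod 11) := fun i =>
  if i = 0 then ⟨!![0, 5; 2, 10], by decide⟩
  else if i = 1 then ⟨!![0, 10; 1, 3], by decide⟩
  else ⟨!![10, 0; 0, 10], by decide⟩

theorem g11_rels : ∀ r ∈ SL25Pres.rels, FreeGroup.lift g11 r = 1 := by
  intro r hr
  simp only [SL25Pres.rels, Set.mem_insert_iff, Set.mem_singleton_iff] at hr
  rcases hr with rfl | rfl | rfl | rfl | rfl | rfl
  · rw [map_pow, FreeGroup.lift_apply_of]; decide
  · rw [map_pow, FreeGroup.lift_apply_of]; decide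
  · rw [map_pow, FreeGroup.lift_apply_of]; decide
  · simp only [map_mul, map_inv, FreeGroup.lift_apply_of]; decide
  · simp only [map_mul, map_inv, FreeGroup.lift_apply_of]; decide
  · simp only [map_mul, map_pow, map_inv, FreeGroup.lift_apply_of]; decide

/-- the representation on the presented group -/
def rho : SL25Pres.P →* Matrix.SpecialLinearGroup (Fin 2) (ZMod 11) :=
  PresentedGroup.toGroup g11_rels

theorem rho_prodL (l : List (Fin 3)) : rho (prodL SL25Pres.gens l) = prodL g11 l := by
  induction l with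
  | nil => simp [prodL]
  | cons s l ih =>
    rw [prodL_cons, prodL_cons, map_mul, ih]
    congr 1
    exact PresentedGroup.toGroup.of g11_rels

set_option maxRecDepth 100000 in
theorem fpf11 : ∀ ω : Fin 120, ω ≠ 0 → ∀ v : Fin 2 → ZMod 11,
    (prodL g11 (SL25Pres.word ω)).1.mulVec v = v → v = 0 := by
  decide +kernel

/-- The acting homomorphism. -/
def psi : SL25Pres.P →* MulAut (Multiplicative (S3491.M (ZMod 11) 1)) :=
  (S3491.phi (ZMod 11) 1).comp rho

theorem psi_fpf : ∀ k : SL25Pres.P, k ≠ 1 →
    ∀ n : Multiplicative (S3491.M (ZMod 11) 1), psi k n = n → n = 1 := by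
  intro k hk n hn
  obtain ⟨ω, rfl⟩ := SL25Pres.surj k
  have hω : ω ≠ 0 := by
    rintro rfl
    exact hk rfl
  simp only at hn
  have h1 : S3491.mact 1 (rho (prodL SL25Pres.gens (SL25Pres.word ω))).1 (Multiplicative.toAdd n) =
      Multiplicative.toAdd n := congrArg Multiplicative.toAdd hn
  rw [rho_prodL] at h1
  have h2 := congrFun h1 0
  have h3 := fpf11 ω hω _ h2
  have : Multiplicative.toAdd n = 0 := by
    funext i
    have hi : i = 0 := Subsingleton.elim _ _
    rw [hi]; exact h3
  exact Multiplicative.toAdd.injective this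

/-- SL(2,5) occurs as a Frobenius complement: there is a finite group L with a subgroup H isomorphic to SL(2,5) which is a non-trivial proper subgroup meeting each conjugate gHg⁻¹ with g outside H trivially. -/
theorem result :
    ∃ (L : Type) (_ : Group L) (_ : Finite L) (H : Subgroup L),
      Cfsg.IsFrobeniusComplement H ∧ Nonempty (H ≃* Matrix.SpecialLinearGroup (Fin 2) (ZMod 5)) := by
  have hfinP : Finite SL25Pres.P := Finite.of_surjective _ SL25Pres.surj
  have hntP : Nontrivial SL25Pres.P := by
    have : Nontrivial (Matrix.SpecialLinearGroup (Fin 2) (ZMod 5)) :=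
      ⟨⟨SL25Pres.gS 1, 1, by decide⟩⟩
    exact SL25Pres.equiv.toEquiv.nontrivial
  have hntN : Nontrivial (Multiplicative (S3491.M (ZMod 11) 1)) := by
    refine ⟨⟨Multiplicative.ofAdd (fun _ => ![1, 0]), 1, ?_⟩⟩
    intro h
    have := congrFun (congrFun (congrArg Multiplicative.toAdd h) 0) 0
    revert this
    decide
  refine ⟨Multiplicative (S3491.M (ZMod 11) 1) ⋊[psi] SL25Pres.P, inferInstance,
    Finite.of_equiv _ SemidirectProduct.equivProd.symm,
    (SemidirectProduct.inr : SL25Pres.P →* _).range, frobenius_of_fpf psi psi_fpf, ?_⟩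
  exact ⟨(MonoidHom.ofInjective SemidirectProduct.inr_injective).symm.trans SL25Pres.equiv⟩


end Cfsg.Agent.S3374
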