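import Mathlib
import Cfsg.Statements.S3375
-- import your own Cfsg.Agent.* helpers here

set_option autoImplicit false
open Cfsg

namespace Cfsg.Agent.S3375

theorem part_one {H : Type*} [Group H] [Finite H] (γ : MulAut H) (hγ2 : ∀ h : H, γ (γ h) = h)
    (hfix : ∀ h : H, γ h = h → h = 1) : (∀ a b : H, a * b = b * a) ∧ ∀ h : H, γ h = h⁻¹ := by
  have hinj : Function.Injective (fun h : H => h⁻¹ * γ h) := by
    intro h k hhk
    have hhk' : h⁻¹ * γ h = k⁻¹ * γ k := hhk
    have h1 : γ (k * h⁻¹) = k * h⁻¹ := by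
      rw [map_mul, map_inv]
      have : γ k = k * (h⁻¹ * γ h) := by rw [hhk']; group
      rw [this]; group
    have h2 := hfix _ h1
    exact (mul_inv_eq_one.mp h2).symm
  have hsurj : Function.Surjective (fun h : H => h⁻¹ * γ h) :=
    Finite.injective_iff_surjective.mp hinj
  have hinvt : ∀ x : H, γ x = x⁻¹ := by
    intro x
    obtain ⟨h, rfl⟩ := hsurj x
    change γ (h⁻¹ * γ h) = (h⁻¹ * γ h)⁻¹
    rw [map_mul, map_inv, hγ2, mul_inv_rev, inv_inv]
  refine ⟨fun a b => ?_, hinvt⟩
  have h1 := hinvt (a * b)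
  rw [map_mul, hinvt a, hinvt b, mul_inv_rev] at h1
  have h2 := congrArg (fun t => t⁻¹) h1
  simp only [mul_inv_rev, inv_inv] at h2
  exact h2.symm

theorem part_two {H : Type*} [Group H] [Finite H] (γ : MulAut H) (hγ2 : ∀ h : H, γ (γ h) = h)
    (hcard : Nat.card {h : H // γ h = h} = 2) (M : Subgroup H) (hM : M.index = 2) :
    ∃ A : Subgroup H, A.index = 2 ∧ IsMulCommutative A ∧ (∀ a ∈ A, γ a ∈ A) ∧ ∀ a ∈ A, γ a = a⁻¹ := by
  classical
  -- Step 1: a γ-invariant subgroup of index 2
  obtain ⟨M1, hM1, hM1inv⟩ : ∃ M1 : Subgroup H, M1.index = 2 ∧ ∀ h ∈ M1, γ h ∈ M1 := by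
    by_cases hinv : ∀ h : H, h ∈ M ↔ γ h ∈ M
    · exact ⟨M, hM, fun h hh => (hinv h).mp hh⟩
    · push Not at hinv
      obtain ⟨a0, ha0⟩ := hinv
      have hδmul : ∀ a b : H, ((a * b ∈ M ↔ γ (a * b) ∈ M) ↔ ((a ∈ M ↔ γ a ∈ M) ↔ (b ∈ M ↔ γ b ∈ M))) := by
        intro a b
        rw [map_mul, Subgroup.mul_mem_iff_of_index_two hM, Subgroup.mul_mem_iff_of_index_two hM]
        tauto
      let M0 : Subgroup H :=
        { carrier := {h | h ∈ M ↔ γ h ∈ M}
          mul_mem' := by
            intro a b ha hb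
            simp only [Set.mem_ofPred_eq] at ha hb ⊢
            exact (hδmul a b).mpr ⟨fun _ => hb, fun _ => ha⟩
          one_mem' := by simp [Subgroup.one_mem]
          inv_mem' := by
            intro a ha
            simp only [Set.mem_ofPred_eq] at ha ⊢
            rw [map_inv, Subgroup.inv_mem_iff, Subgroup.inv_mem_iff]; exact ha }
      have hmem : ∀ h : H, h ∈ M0 ↔ (h ∈ M ↔ γ h ∈ M) := fun h => Iff.rfl
      refine ⟨M0, ?_, ?_⟩
      · rw [Subgroup.index_eq_two_iff]
        refine ⟨a0, fun b => ?_⟩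
        have ha0' : ¬ (a0 ∈ M ↔ γ a0 ∈ M) := by
          intro h
          rcases ha0 with ⟨h1, h2⟩ | ⟨h1, h2⟩
          · exact h2 (h.mp h1)
          · exact h1 (h.mpr h2)
        rw [hmem, hmem, hδmul]
        by_cases hb : (b ∈ M ↔ γ b ∈ M)
        · right
          exact ⟨hb, fun h => ha0' (h.mp hb)⟩
        · left
          exact ⟨⟨fun h => absurd h hb, fun h => absurd h ha0'⟩, hb⟩
      · intro h hh
        rw [hmem] at hh ⊢
        rw [hγ2]
        exact hh.symm
  -- Step 2
  have hI : ∀ h : H, h⁻¹ * γ h ∈ M1 := by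
    intro h
    rw [Subgroup.mul_mem_iff_of_index_two hM1, Subgroup.inv_mem_iff]
    constructor
    · exact hM1inv h
    · intro hh
      have := hM1inv _ hh
      rwa [hγ2] at this
  -- Step 3: counting
  have : Fintype H := Fintype.ofFinite _
  set φ : H → H := fun h => h⁻¹ * γ h with hφ
  have hfib : ∀ b ∈ (Finset.univ : Finset H).image φ,
      ((Finset.univ : Finset H).filter (fun a => φ a = b)).card ≤ 2 := by
    intro b hb
    obtain ⟨h0, -, rfl⟩ := Finset.mem_image.mp hb
    rw [← hcard, Nat.card_eq_fintype_card, Fintype.card_subtype]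
    apply Finset.card_le_card_of_injOn (fun x => x * h0⁻¹)
    · intro x hx
      simp only [Finset.coe_filter, Finset.mem_univ, true_and, Set.mem_ofPred_eq] at hx ⊢
      have hx' : x⁻¹ * γ x = h0⁻¹ * γ h0 := hx
      rw [map_mul, map_inv]
      have : γ x = x * (h0⁻¹ * γ h0) := by rw [← hx']; group
      rw [this]; group
    · intro x _ y _ hxy
      exact mul_right_cancel hxy
  have hle := Finset.card_le_mul_card_image (Finset.univ : Finset H) 2 hfib
  have hsub : (Finset.univ : Finset H).image φ ⊆ Finset.univ.filter (fun x => x ∈ M1) := by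
    intro x hx
    obtain ⟨h, -, rfl⟩ := Finset.mem_image.mp hx
    simp only [Finset.mem_filter, Finset.mem_univ, true_and]
    exact hI h
  have hM1card : 2 * (Finset.univ.filter (fun x : H => x ∈ M1)).card = (Finset.univ : Finset H).card := by
    have h1 := M1.index_mul_card
    rw [hM1, Nat.card_eq_fintype_card, Nat.card_eq_fintype_card, Fintype.card_subtype] at h1
    rw [Finset.card_univ]
    exact h1
  have heq : (Finset.univ : Finset H).image φ = Finset.univ.filter (fun x => x ∈ M1) := by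
    apply Finset.eq_of_subset_of_card_le hsub
    omega
  have hinvt : ∀ a ∈ M1, γ a = a⁻¹ := by
    intro a ha
    have : a ∈ (Finset.univ : Finset H).image φ := by
      rw [heq]; simp [ha]
    obtain ⟨h, -, rfl⟩ := Finset.mem_image.mp this
    change γ (h⁻¹ * γ h) = (h⁻¹ * γ h)⁻¹
    rw [map_mul, map_inv, hγ2, mul_inv_rev, inv_inv]
  refine ⟨M1, hM1, ⟨⟨fun a b => Subtype.ext ?_⟩⟩, hM1inv, hinvt⟩
  have h1 := hinvt (a * b) (M1.mul_mem a.2 b.2)
  rw [map_mul, hinvt a a.2, hinvt b b.2, mul_inv_rev] at h1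
  have h2 := congrArg (fun t => t⁻¹) h1
  simp only [mul_inv_rev, inv_inv] at h2
  change (a : H) * b = b * a
  exact h2.symm


/-- Let γ be an automorphism of order 2 of a finite group H. (i) If γ fixes only the identity, then H is abelian and γ inverts every element. (ii) If γ has exactly two fixed points and H has a subgroup of index 2, then H has a γ-invariant abelian subgroup of index 2 on which γ acts by inversion. -/
theorem result {H : Type*} [Group H] [Finite H] (γ : MulAut H) (hγ : orderOf γ = 2) :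
    ((∀ h : H, γ h = h → h = 1) → (∀ a b : H, a * b = b * a) ∧ ∀ h : H, γ h = h⁻¹) ∧
    ((Nat.card {h : H // γ h = h} = 2 ∧ ∃ M : Subgroup H, M.index = 2) →
      ∃ A : Subgroup H, A.index = 2 ∧ IsMulCommutative A ∧ (∀ a ∈ A, γ a ∈ A) ∧ ∀ a ∈ A, γ a = a⁻¹) := by
  have hγ2 : ∀ h : H, γ (γ h) = h := by
    intro h
    have h1 : γ ^ 2 = 1 := by rw [← hγ]; exact pow_orderOf_eq_one γ
    have h2 : (γ ^ 2) h = h := by rw [h1]; rfl
    rw [pow_two] at h2
    exact h2
  refine ⟨fun hfix => part_one γ hγ2 hfix, ?_⟩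
  rintro ⟨hcard, M, hM⟩
  exact part_two γ hγ2 hcard M hM

end Cfsg.Agent.S3375
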