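import Mathlib
import Cfsg.Statements.S3379
import Cfsg.Agent.Helper3.AbIndexP
import Cfsg.Statements.S3379
-- import your own Cfsg.Agent.* helpers here

set_option autoImplicit false
open Cfsg

namespace Cfsg.Agent.S3379
open Cfsg
universe u
open Cfsg.Agent.Helper3.AbIndexP

theorem conj_pow_eq {G : Type u} [Group G] (x y : G) (r : ℕ) (h : x⁻¹ * y * x = y ^ r) (k : ℕ) :
    (x ^ k)⁻¹ * y * x ^ k = y ^ (r ^ k) := by
  induction k with
  | zero => simp
  | succ k ih =>
    have h1 : (x ^ (k + 1))⁻¹ * y * x ^ (k + 1) = x⁻¹ * ((x ^ k)⁻¹ * y * x ^ k) * x := by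
      rw [pow_succ]; group
    have h2 : x⁻¹ * y ^ (r ^ k) * x = (x⁻¹ * y * x) ^ (r ^ k) := by
      have := conj_pow (a := x⁻¹) (b := y) (i := r ^ k)
      rw [inv_inv] at this
      exact this.symm
    rw [h1, ih, h2, h, ← pow_mul, pow_succ, mul_comm]

theorem zpowers_coe_of_generator {G : Type u} [Group G] (N : Subgroup G) (y0 : N)
    (hy0 : ∀ z : N, z ∈ Subgroup.zpowers y0) : Subgroup.zpowers (y0 : G) = N := by
  have h1 : Subgroup.zpowers y0 = ⊤ := (Subgroup.eq_top_iff' _).2 hy0
  have h2 := MonoidHom.map_zpowers N.subtype y0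
  rw [h1, ← MonoidHom.range_eq_map, Subgroup.range_subtype] at h2
  exact h2.symm

/-- Let G be a finite group all of whose Sylow subgroups are cyclic. Then G is generated by two elements x and y of coprime orders n and m with x⁻¹yx = y^r, where gcd(r − 1, m) = 1 and r^n ≡ 1 (mod m). -/
theorem result {G : Type*} [Group G] [Finite G]
    (hZ : ∀ (p : ℕ) [Fact p.Prime] (P : Sylow p G), IsCyclic (P : Subgroup G)) :
    ∃ (x y : G) (n m r : ℕ), Subgroup.closure {x, y} = ⊤ ∧ orderOf x = n ∧ orderOf y = m ∧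
      x⁻¹ * y * x = y ^ r ∧ Nat.Coprime (r - 1) m ∧ Nat.Coprime n m ∧ 1 ≤ r ∧ r ^ n % m = 1 % m := by
  have hZG : IsZGroup G := ⟨fun p hp P => by
    have := Fact.mk hp
    exact hZ p P⟩
  have hcyc : IsCyclic (commutator G) := IsZGroup.isCyclic_commutator G
  have hcop := IsZGroup.coprime_commutator_index G
  obtain ⟨H, hH⟩ := Subgroup.exists_right_complement'_of_coprime hcop
  obtain ⟨y0, hy0⟩ := hcyc.exists_generator
  have hyN : Subgroup.zpowers (y0 : G) = commutator G := zpowers_coe_of_generator _ y0 hy0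
  have hHcyc : IsCyclic H := by
    let f : H →* G ⧸ commutator G := (QuotientGroup.mk' (commutator G)).comp H.subtype
    have hf : Function.Injective f := by
      rw [← MonoidHom.ker_eq_bot_iff, eq_bot_iff]
      intro h hh
      rw [MonoidHom.mem_ker] at hh
      have h1 : (h : G) ∈ commutator G := (QuotientGroup.eq_one_iff _).1 hh
      have h2 : (h : G) ∈ commutator G ⊓ H := ⟨h1, h.2⟩
      rw [hH.disjoint.eq_bot] at h2
      exact Subtype.ext (Subgroup.mem_bot.1 h2)
    have : IsCyclic (G ⧸ commutator G) := IsZGroup.isCyclic_abelianization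
    exact isCyclic_of_injective f hf
  obtain ⟨x0, hx0⟩ := hHcyc.exists_generator
  have hxH : Subgroup.zpowers (x0 : G) = H := zpowers_coe_of_generator _ x0 hx0
  set x : G := (x0 : G) with hx
  set y : G := (y0 : G) with hy
  have hm : orderOf y = Nat.card (commutator G) := by
    rw [← Nat.card_zpowers, hyN]
  have hn : orderOf x = (commutator G).index := by
    rw [← Nat.card_zpowers, hxH]
    exact hH.symm.index_eq_card.symm
  have hmpos : 0 < orderOf y := orderOf_pos y
  -- conjugate of y
  have hconj : x⁻¹ * y * x ∈ Subgroup.zpowers y := by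
    rw [hyN]
    have hN : (commutator G).Normal := inferInstance
    have := hN.conj_mem y (hyN ▸ Subgroup.mem_zpowers y) x⁻¹
    rwa [inv_inv] at this
  rw [← mem_powers_iff_mem_zpowers, Submonoid.mem_powers_iff] at hconj
  obtain ⟨r0, hr0⟩ := hconj
  have hr : x⁻¹ * y * x = y ^ (r0 + orderOf y) := by
    rw [pow_add, pow_orderOf_eq_one, mul_one, hr0]
  refine ⟨x, y, orderOf x, orderOf y, r0 + orderOf y, ?_, rfl, rfl, hr, ?_, ?_, by omega, ?_⟩
  · -- generation
    have : ({x, y} : Set G) = {x} ∪ {y} := Set.insert_eq x {y}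
    rw [this, Subgroup.closure_union, ← Subgroup.zpowers_eq_closure, ← Subgroup.zpowers_eq_closure,
      hxH, hyN, sup_comm]
    exact hH.sup_eq_top
  · -- gcd(r - 1, m) = 1
    set r := r0 + orderOf y with hrdef
    have hDn : (Subgroup.zpowers (y ^ (r - 1))).Normal := by
      refine ⟨fun d hd g => ?_⟩
      obtain ⟨k, rfl⟩ := hd
      have hN : (commutator G).Normal := inferInstance
      have h1 : g * y * g⁻¹ ∈ Subgroup.zpowers y := by
        rw [hyN]; exact hN.conj_mem y (hyN ▸ Subgroup.mem_zpowers y) g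
      obtain ⟨j, hj⟩ := h1
      refine ⟨j * k, ?_⟩
      have h2 : g * (y ^ (r - 1)) ^ k * g⁻¹ = ((g * y * g⁻¹) ^ (r - 1)) ^ k := by
        rw [conj_pow, conj_zpow]
      rw [h2, ← hj]
      simp only [← zpow_natCast, ← zpow_mul]
      congr 1; ring
    have hcomm : IsMulCommutative (G ⧸ Subgroup.zpowers (y ^ (r - 1))) := by
      apply comm_of_sup_zpowers
        (A := Subgroup.zpowers (QuotientGroup.mk' (Subgroup.zpowers (y ^ (r - 1))) y))
        inferInstance (z := QuotientGroup.mk' (Subgroup.zpowers (y ^ (r - 1))) x)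
      · rintro _ ⟨k, rfl⟩
        have h1 : QuotientGroup.mk' (Subgroup.zpowers (y ^ (r - 1))) y *
            QuotientGroup.mk' (Subgroup.zpowers (y ^ (r - 1))) x =
            QuotientGroup.mk' (Subgroup.zpowers (y ^ (r - 1))) x *
            QuotientGroup.mk' (Subgroup.zpowers (y ^ (r - 1))) y := by
          rw [← map_mul, ← map_mul, QuotientGroup.mk'_apply, QuotientGroup.mk'_apply,
            QuotientGroup.eq]
          -- (y * x)⁻¹ * (x * y) = x⁻¹ y⁻¹ x y
          have h2 : (y * x)⁻¹ * (x * y) = ((x⁻¹ * y * x)⁻¹ * y) := by group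
          rw [h2, hr]
          have h3 : (y ^ r)⁻¹ * y = ((y ^ (r - 1)))⁻¹ := by
            have : r = (r - 1) + 1 := by omega
            conv_lhs => rw [this, pow_succ]
            group
          rw [h3]
          exact Subgroup.inv_mem _ (Subgroup.mem_zpowers _)
        exact ((Commute.zpow_left (show Commute _ _ from h1) k).eq)
      · rw [← MonoidHom.map_zpowers, ← MonoidHom.map_zpowers, ← Subgroup.map_sup, hxH, hyN,
          hH.sup_eq_top, Subgroup.map_top_of_surjective _ (QuotientGroup.mk'_surjective _)]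
    have hle : commutator G ≤ Subgroup.zpowers (y ^ (r - 1)) :=
      Subgroup.Normal.quotient_commutative_iff_commutator_le.1 hcomm
    have hy' : y ∈ Subgroup.zpowers (y ^ (r - 1)) := hle (hyN ▸ Subgroup.mem_zpowers y)
    have heq : Subgroup.zpowers (y ^ (r - 1)) = Subgroup.zpowers y :=
      le_antisymm ((Subgroup.zpowers_le).2 (Subgroup.pow_mem _ (Subgroup.mem_zpowers y) _))
        ((Subgroup.zpowers_le).2 hy')
    have ho : orderOf (y ^ (r - 1)) = orderOf y := by
      rw [← Nat.card_zpowers, heq, Nat.card_zpowers]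
    rw [orderOf_pow] at ho
    -- orderOf y / gcd (orderOf y) (r-1) = orderOf y
    have hg : Nat.gcd (orderOf y) (r - 1) = 1 := by
      have hd : Nat.gcd (orderOf y) (r - 1) ∣ orderOf y := Nat.gcd_dvd_left _ _
      have h1 := Nat.div_mul_cancel hd
      rw [ho] at h1
      have : orderOf y * Nat.gcd (orderOf y) (r - 1) = orderOf y * 1 := by rw [h1, mul_one]
      exact Nat.eq_of_mul_eq_mul_left hmpos this
    rw [Nat.coprime_comm]
    exact hg
  · rw [hn, hm, Nat.coprime_comm]; exact hcop
  · -- r^n ≡ 1 mod m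
    have h1 := conj_pow_eq x y _ hr (orderOf x)
    rw [pow_orderOf_eq_one, inv_one, one_mul, mul_one] at h1
    have h2 : y ^ ((r0 + orderOf y) ^ orderOf x) = y ^ 1 := by rw [← h1, pow_one]
    exact pow_eq_pow_iff_modEq.1 h2


end Cfsg.Agent.S3379
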