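import Mathlib
import Cfsg.Statements.S3381
import Cfsg.Statements.S3381
-- import your own Cfsg.Agent.* helpers here

set_option autoImplicit false
open Cfsg

namespace Cfsg.Agent.S3381
open Cfsg

universe u v

section Basics

variable {q : ℕ} [Fact q.Prime] {V : Type u} [AddCommGroup V] [Module (ZMod q) V]
  {G : Type v} [Group G] (ρ : G →* (V ≃ₗ[ZMod q] V))

/-- The fixed space of `g`. -/
def Vp (g : G) : Submodule (ZMod q) V :=
  LinearMap.ker (((ρ g : V ≃ₗ[ZMod q] V) : V →ₗ[ZMod q] V) - LinearMap.id)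

theorem mem_Vp {g : G} {v : V} : v ∈ Vp ρ g ↔ ρ g v = v := by
  simp [Vp, sub_eq_zero]

theorem rho_mul (g h : G) (v : V) : ρ (g * h) v = ρ g (ρ h v) := by
  rw [map_mul]; rfl

theorem rho_one (v : V) : ρ 1 v = v := by
  rw [map_one]; rfl

/-- In odd characteristic, `x + x = 0` forces `x = 0`. -/
theorem eq_zero_of_add_self (hq : q ≠ 2) {x : V} (h : x + x = 0) : x = 0 := by
  have h2 : (2 : ZMod q) ≠ 0 := by
    intro h0
    have : ((2 : ℕ) : ZMod q) = 0 := by exact_mod_cast h0
    rw [ZMod.natCast_eq_zero_iff] at this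
    exact hq ((Nat.prime_dvd_prime_iff_eq Fact.out Nat.prime_two).1 this)
  have : (2 : ZMod q) • x = 0 := by rw [two_smul]; exact h
  rcases smul_eq_zero.1 this with h' | h'
  · exact absurd h' h2
  · exact h'

variable (hstab : ∀ v : V, v ≠ 0 → Nat.card {g : G // ρ g v = v} = 2)
include hstab

theorem stab_cases {v : V} (hv : v ≠ 0) :
    ∃ t : G, t ≠ 1 ∧ ρ t v = v ∧ ∀ g : G, ρ g v = v → g = 1 ∨ g = t := by
  have h := hstab v hv
  rw [Nat.card_eq_two_iff' (⟨1, rho_one ρ v⟩ : {g : G // ρ g v = v})] at h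
  obtain ⟨y, hy, huniq⟩ := h
  refine ⟨y.1, ?_, y.2, ?_⟩
  · intro h1
    exact hy (Subtype.ext h1)
  · intro g hg
    by_cases h1 : g = 1
    · exact Or.inl h1
    · right
      have := huniq ⟨g, hg⟩ (fun h' => h1 (congrArg Subtype.val h'))
      exact congrArg Subtype.val this

/-- Two non-identity elements fixing the same non-zero vector coincide. -/
theorem eq_of_fix {v : V} (hv : v ≠ 0) {g h : G} (hg1 : g ≠ 1) (hh1 : h ≠ 1)
    (hg : ρ g v = v) (hh : ρ h v = v) : g = h := by
  obtain ⟨t, _, _, ht⟩ := stab_cases ρ hstab hv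
  rcases ht g hg with h1 | h1
  · exact absurd h1 hg1
  · rcases ht h hh with h2 | h2
    · exact absurd h2 hh1
    · rw [h1, h2]

/-- A non-identity element fixing a non-zero vector is an involution. -/
theorem sq_eq_one_of_fix {v : V} (hv : v ≠ 0) {g : G} (hg1 : g ≠ 1) (hg : ρ g v = v) :
    g * g = 1 := by
  by_contra hne
  have h2 : ρ (g * g) v = v := by rw [rho_mul, hg, hg]
  have := eq_of_fix ρ hstab hv hne hg1 h2 hg
  exact hg1 (by simpa using this)

theorem orderOf_of_fix {v : V} (hv : v ≠ 0) {g : G} (hg1 : g ≠ 1) (hg : ρ g v = v) :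
    orderOf g = 2 := by
  have := sq_eq_one_of_fix ρ hstab hv hg1 hg
  exact orderOf_eq_prime (by rw [pow_two]; exact this) hg1

variable (hρ : Function.Injective ρ)
include hρ

/-- The characteristic is odd. -/
theorem q_ne_two (z : G) (hz : orderOf z = 2) (hzc : z ∈ Subgroup.center G) : q ≠ 2 := by
  intro hq
  subst hq
  have hchar : ∀ x : V, x + x = 0 := by
    intro x
    have : (2 : ZMod 2) • x = 0 := by
      have h0 : ((2 : ℕ) : ZMod 2) = 0 := ZMod.natCast_self 2
      have h0' : (2 : ZMod 2) = 0 := by exact_mod_cast h0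
      rw [h0', zero_smul]
    rwa [two_smul] at this
  have hz1 : z ≠ 1 := by
    intro h; rw [h, orderOf_one] at hz; omega
  have hzz : z * z = 1 := by
    have := pow_orderOf_eq_one z
    rwa [hz, pow_two] at this
  have hρz : ρ z ≠ 1 := by
    intro h
    exact hz1 (hρ (by rw [h, map_one]))
  obtain ⟨w, hw⟩ : ∃ w : V, ρ z w ≠ w := by
    by_contra hcon
    push Not at hcon
    exact hρz (LinearEquiv.ext hcon)
  have hw0 : w ≠ 0 := by
    intro h; rw [h, map_zero] at hw; exact hw rfl
  set u := ρ z w + w with hu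
  have hu0 : u ≠ 0 := by
    intro h
    apply hw
    have : ρ z w = -w := eq_neg_of_add_eq_zero_left h
    rw [this]
    exact neg_eq_of_add_eq_zero_left (hchar w)
  have hzu : ρ z u = u := by
    rw [hu, map_add, ← rho_mul, hzz, rho_one, add_comm]
  obtain ⟨t, ht1, htw, _⟩ := stab_cases ρ hstab hw0
  have htu : ρ t u = u := by
    rw [hu, map_add, ← rho_mul, (Subgroup.mem_center_iff.1 hzc t), rho_mul, htw]
  have := eq_of_fix ρ hstab hu0 ht1 hz1 htu hzu
  rw [this] at htw
  exact hw htw

/-- A central involution acts as `-1`. -/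
theorem central_neg (hq : q ≠ 2) (z : G) (hz : orderOf z = 2) (hzc : z ∈ Subgroup.center G)
    (v : V) : ρ z v = -v := by
  have hz1 : z ≠ 1 := by
    intro h; rw [h, orderOf_one] at hz; omega
  have hzz : z * z = 1 := by
    have := pow_orderOf_eq_one z
    rwa [hz, pow_two] at this
  by_contra hv1
  have hρz : ρ z ≠ 1 := by
    intro h
    exact hz1 (hρ (by rw [h, map_one]))
  obtain ⟨w, hw⟩ : ∃ w : V, ρ z w ≠ w := by
    by_contra hcon
    push Not at hcon
    exact hρz (LinearEquiv.ext hcon)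
  set a := v + ρ z v with ha
  set b := w - ρ z w with hb
  have ha0 : a ≠ 0 := by
    intro h
    exact hv1 (eq_neg_of_add_eq_zero_right h)
  have hb0 : b ≠ 0 := by
    intro h
    exact hw (sub_eq_zero.1 h).symm
  have hza : ρ z a = a := by
    rw [ha, map_add, ← rho_mul, hzz, rho_one, add_comm]
  have hzb : ρ z b = -b := by
    rw [hb, map_sub, ← rho_mul, hzz, rho_one, neg_sub]
  have hab0 : a + b ≠ 0 := by
    intro h
    have hba : b = -a := eq_neg_of_add_eq_zero_right h
    have : ρ z b = b := by rw [hba, map_neg, hza]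
    rw [hzb] at this
    exact hb0 (eq_zero_of_add_self hq (by
      calc b + b = b + -b := by rw [this]
        _ = 0 := add_neg_cancel b))
  obtain ⟨s, hs1, hs, _⟩ := stab_cases ρ hstab hab0
  have hzab : ρ z (a + b) = a - b := by rw [map_add, hza, hzb, sub_eq_add_neg]
  have hs2 : ρ s (a - b) = a - b := by
    rw [← hzab, ← rho_mul, (Subgroup.mem_center_iff.1 hzc s), rho_mul, hs]
  have hsaa : ρ s (a + a) = a + a := by
    have : a + a = (a + b) + (a - b) := by abel
    rw [this, map_add, hs, hs2]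
  have haa0 : a + a ≠ 0 := fun h => ha0 (eq_zero_of_add_self hq h)
  have hzaa : ρ z (a + a) = a + a := by rw [map_add, hza]
  have hsz := eq_of_fix ρ hstab haa0 hs1 hz1 hsaa hzaa
  rw [hsz, hzab] at hs
  have : b + b = 0 := by
    have h1 : a - b = a + b := hs
    have h2 : (a + b) - (a - b) = 0 := by rw [h1, sub_self]
    have h3 : (a + b) - (a - b) = b + b := by abel
    rw [h3] at h2
    exact h2
  exact hb0 (eq_zero_of_add_self hq this)

end Basics

section Main

variable {q : ℕ} [Fact q.Prime] {V : Type u} [AddCommGroup V] [Module (ZMod q) V]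
  {G : Type v} [Group G] (ρ : G →* (V ≃ₗ[ZMod q] V))
  (hstab : ∀ v : V, v ≠ 0 → Nat.card {g : G // ρ g v = v} = 2)
  (hρ : Function.Injective ρ) (hq : q ≠ 2)
  (z : G) (hz : orderOf z = 2) (hzc : z ∈ Subgroup.center G)

/-- Non-central involutions. -/
def IsInv (t : G) : Prop := orderOf t = 2 ∧ t ∉ Subgroup.center G

include hstab hρ hq in
theorem isInv_of_fix {v : V} (hv : v ≠ 0) {t : G} (ht1 : t ≠ 1) (ht : ρ t v = v) : IsInv t := by
  refine ⟨orderOf_of_fix ρ hstab hv ht1 ht, ?_⟩
  intro hc
  have := central_neg ρ hstab hρ hq t (orderOf_of_fix ρ hstab hv ht1 ht) hc v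
  rw [ht] at this
  apply hv
  apply eq_zero_of_add_self hq
  calc v + v = v + -v := by rw [← this]
    _ = 0 := add_neg_cancel v

theorem IsInv.ne_one {t : G} (ht : IsInv t) : t ≠ 1 := by
  intro h; rw [h] at ht; exact ht.2 (Subgroup.one_mem _)

theorem IsInv.mul_self {t : G} (ht : IsInv t) : t * t = 1 := by
  have := pow_orderOf_eq_one t
  rwa [ht.1, pow_two] at this

include hstab hρ hq hz hzc in
theorem exists_fix_of_isInv {t : G} (ht : IsInv t) : ∃ v : V, v ≠ 0 ∧ ρ t v = v := by
  by_contra hcon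
  push Not at hcon
  apply ht.2
  have : t = z := by
    apply hρ
    apply LinearEquiv.ext
    intro v
    rw [central_neg ρ hstab hρ hq z hz hzc v]
    have hfix : ρ t (v + ρ t v) = v + ρ t v := by
      rw [map_add, ← rho_mul, ht.mul_self, rho_one, add_comm]
    have h0 : v + ρ t v = 0 := by
      by_contra hne
      exact hcon _ hne hfix
    exact eq_neg_of_add_eq_zero_right h0
  rw [this]; exact hzc

include hz hzc in
theorem isInv_mul_z {t : G} (ht : IsInv t) : IsInv (t * z) := by
  have hzz : z * z = 1 := by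
    have := pow_orderOf_eq_one z
    rwa [hz, pow_two] at this
  have hcomm : t * z = z * t := Subgroup.mem_center_iff.1 hzc t
  have hne : t * z ≠ 1 := by
    intro h
    apply ht.2
    have : t = z := by
      calc t = t * (z * z) := by rw [hzz, mul_one]
        _ = (t * z) * z := by rw [mul_assoc]
        _ = z := by rw [h, one_mul]
    rw [this]; exact hzc
  refine ⟨orderOf_eq_prime ?_ hne, ?_⟩
  · rw [pow_two]
    calc t * z * (t * z) = t * z * (z * t) := by rw [hcomm]
      _ = t * (z * z) * t := by simp only [mul_assoc]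
      _ = 1 := by rw [hzz, mul_one, ht.mul_self]
  · intro hc
    apply ht.2
    have : t = (t * z) * z := by rw [mul_assoc, hzz, mul_one]
    rw [this]
    exact Subgroup.mul_mem _ hc hzc

include hstab hρ hq hz hzc in
theorem mem_Vp_mul_z {t : G} {v : V} : v ∈ Vp ρ (t * z) ↔ ρ t v = -v := by
  rw [mem_Vp, rho_mul, central_neg ρ hstab hρ hq z hz hzc v, map_neg, neg_eq_iff_eq_neg]

include hstab hρ hq hz hzc in
theorem isCompl_Vp {t : G} (htt : t * t = 1) : IsCompl (Vp ρ t) (Vp ρ (t * z)) := by
  have h2 : (2 : ZMod q) ≠ 0 := by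
    intro h0
    have : ((2 : ℕ) : ZMod q) = 0 := by exact_mod_cast h0
    rw [ZMod.natCast_eq_zero_iff] at this
    exact hq ((Nat.prime_dvd_prime_iff_eq Fact.out Nat.prime_two).1 this)
  constructor
  · rw [Submodule.disjoint_def]
    intro v h1 h2'
    rw [mem_Vp] at h1
    rw [mem_Vp_mul_z ρ hstab hρ hq z hz hzc, h1] at h2'
    apply eq_zero_of_add_self hq
    calc v + v = v + -v := by rw [← h2']
      _ = 0 := add_neg_cancel v
  · rw [codisjoint_iff, eq_top_iff]
    intro v _
    have e : v = (2 : ZMod q)⁻¹ • (v + ρ t v) + (2 : ZMod q)⁻¹ • (v - ρ t v) := by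
      rw [← smul_add]
      have : v + ρ t v + (v - ρ t v) = (2 : ZMod q) • v := by rw [two_smul]; abel
      rw [this, smul_smul, inv_mul_cancel₀ h2, one_smul]
    rw [e]
    apply Submodule.add_mem_sup
    · apply Submodule.smul_mem
      rw [mem_Vp, map_add, ← rho_mul, htt, rho_one, add_comm]
    · apply Submodule.smul_mem
      rw [mem_Vp_mul_z ρ hstab hρ hq z hz hzc, map_sub, ← rho_mul, htt, rho_one, neg_sub]

include hstab in
theorem disjoint_Vp {s t : G} (hs : s ≠ 1) (ht : t ≠ 1) (hst : s ≠ t) :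
    Disjoint (Vp ρ s) (Vp ρ t) := by
  rw [Submodule.disjoint_def]
  intro v h1 h2
  by_contra hv
  rw [mem_Vp] at h1 h2
  exact hst (eq_of_fix ρ hstab hv hs ht h1 h2)

variable [Finite V]

include hstab hρ hq hz hzc in
theorem finrank_eq {t : G} (ht : IsInv t) :
    2 * Module.finrank (ZMod q) (Vp ρ t) = Module.finrank (ZMod q) V := by
  have hzz : z * z = 1 := by
    have := pow_orderOf_eq_one z
    rwa [hz, pow_two] at this
  have htz := isInv_mul_z z hz hzc ht
  obtain ⟨a, ha0, ha⟩ := exists_fix_of_isInv ρ hstab hρ hq z hz hzc ht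
  obtain ⟨b, hb0, hb⟩ := exists_fix_of_isInv ρ hstab hρ hq z hz hzc htz
  have hc1 := isCompl_Vp ρ hstab hρ hq z hz hzc ht.mul_self
  have hdis := hc1.disjoint
  rw [Submodule.disjoint_def] at hdis
  have hab0 : a + b ≠ 0 := by
    intro h
    have : a = -b := eq_neg_of_add_eq_zero_left h
    apply ha0
    apply hdis a ((mem_Vp ρ).2 ha)
    rw [this]
    exact Submodule.neg_mem _ ((mem_Vp ρ).2 hb)
  obtain ⟨s, hs1, hs, _⟩ := stab_cases ρ hstab hab0
  have hsI : IsInv s := isInv_of_fix ρ hstab hρ hq hab0 hs1 hs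
  have hst : s ≠ t := by
    intro h
    rw [h, map_add, ha] at hs
    have : ρ t b = b := add_left_cancel hs
    exact hb0 (hdis b ((mem_Vp ρ).2 this) ((mem_Vp ρ).2 hb))
  have hstz : s ≠ t * z := by
    intro h
    rw [h, map_add, hb] at hs
    have : ρ (t * z) a = a := add_right_cancel hs
    exact ha0 (hdis a ((mem_Vp ρ).2 ha) ((mem_Vp ρ).2 this))
  have hszI := isInv_mul_z z hz hzc hsI
  have hszt : s * z ≠ t := by
    intro h
    apply hstz
    calc s = s * (z * z) := by rw [hzz, mul_one]
      _ = (s * z) * z := by rw [mul_assoc]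
      _ = t * z := by rw [h]
  have hsztz : s * z ≠ t * z := fun h => hst (mul_right_cancel h)
  have hc2 := isCompl_Vp ρ hstab hρ hq z hz hzc hsI.mul_self
  have e1 := Submodule.finrank_add_eq_of_isCompl hc1
  have e2 := Submodule.finrank_add_eq_of_isCompl hc2
  have d1 := Submodule.finrank_add_finrank_le_of_disjoint
    (disjoint_Vp ρ hstab hsI.ne_one ht.ne_one hst)
  have d2 := Submodule.finrank_add_finrank_le_of_disjoint
    (disjoint_Vp ρ hstab hsI.ne_one htz.ne_one hstz)
  have d3 := Submodule.finrank_add_finrank_le_of_disjoint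
    (disjoint_Vp ρ hstab hszI.ne_one ht.ne_one hszt)
  have d4 := Submodule.finrank_add_finrank_le_of_disjoint
    (disjoint_Vp ρ hstab hszI.ne_one htz.ne_one hsztz)
  omega

include hstab hρ hq hz hzc in
theorem main_count [Finite G] [Nontrivial V] :
    ∃ r : ℕ, Nat.card V = q ^ (2 * r) ∧ Nat.card {g : G // IsInv g} = q ^ r + 1 := by
  classical
  let _ : Fintype V := Fintype.ofFinite V
  let _ : Fintype G := Fintype.ofFinite G
  obtain ⟨v₀, hv₀⟩ := exists_ne (0 : V)
  obtain ⟨t₀, ht₀1, ht₀, _⟩ := stab_cases ρ hstab hv₀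
  have ht₀I : IsInv t₀ := isInv_of_fix ρ hstab hρ hq hv₀ ht₀1 ht₀
  set r := Module.finrank (ZMod q) (Vp ρ t₀) with hr
  have hd : Module.finrank (ZMod q) V = 2 * r :=
    (finrank_eq ρ hstab hρ hq z hz hzc ht₀I).symm
  have hcardV : Nat.card V = q ^ (2 * r) := by
    rw [Module.natCard_eq_pow_finrank (K := ZMod q), Nat.card_zmod, hd]
  have hcardVp : ∀ t, IsInv t → Nat.card (Vp ρ t) = q ^ r := by
    intro t ht
    have h1 := finrank_eq ρ hstab hρ hq z hz hzc ht
    rw [Module.natCard_eq_pow_finrank (K := ZMod q), Nat.card_zmod]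
    congr 1; omega
  have hr1 : 1 ≤ r := by
    rw [hr, Nat.one_le_iff_ne_zero, Ne, Submodule.finrank_eq_zero]
    intro hbot
    have : v₀ ∈ Vp ρ t₀ := (mem_Vp ρ).2 ht₀
    rw [hbot, Submodule.mem_bot] at this
    exact hv₀ this
  refine ⟨r, hcardV, ?_⟩
  let f : V → G := fun v => if h : v ≠ 0 then Classical.choose (stab_cases ρ hstab h) else 1
  have hf : ∀ v (h : v ≠ 0), f v ≠ 1 ∧ ρ (f v) v = v := by
    intro v h
    have := Classical.choose_spec (stab_cases ρ hstab h)
    simp only [f, dif_pos h]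
    exact ⟨this.1, this.2.1⟩
  have hfI : ∀ v ∈ (Finset.univ.filter (fun v : V => v ≠ 0)),
      f v ∈ Finset.univ.filter (fun t : G => IsInv t) := by
    intro v hv
    rw [Finset.mem_filter] at hv ⊢
    exact ⟨Finset.mem_univ _, isInv_of_fix ρ hstab hρ hq hv.2 (hf v hv.2).1 (hf v hv.2).2⟩
  have hsum := Finset.card_eq_sum_card_fiberwise hfI
  have hfib : ∀ t ∈ Finset.univ.filter (fun t : G => IsInv t),
      ((Finset.univ.filter (fun v : V => v ≠ 0)).filter (fun v => f v = t)).card = q ^ r - 1 := by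
    intro t ht
    rw [Finset.mem_filter] at ht
    have htI := ht.2
    have e : ((Finset.univ.filter (fun v : V => v ≠ 0)).filter (fun v => f v = t)) =
        (Finset.univ.filter (fun v : V => v ∈ Vp ρ t)).erase 0 := by
      ext v
      simp only [Finset.mem_filter, Finset.mem_univ, true_and, Finset.mem_erase]
      constructor
      · rintro ⟨hv, hfv⟩
        refine ⟨hv, (mem_Vp ρ).2 ?_⟩
        rw [← hfv]; exact (hf v hv).2
      · rintro ⟨hv, hmem⟩
        refine ⟨hv, ?_⟩
        exact eq_of_fix ρ hstab hv (hf v hv).1 htI.ne_one (hf v hv).2 ((mem_Vp ρ).1 hmem)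
    rw [e, Finset.card_erase_of_mem (by simp), ← Fintype.card_subtype,
      ← Nat.card_eq_fintype_card]
    exact congrArg (· - 1) (hcardVp t htI)
  rw [Finset.sum_congr rfl hfib, Finset.sum_const, smul_eq_mul] at hsum
  have hleft : (Finset.univ.filter (fun v : V => v ≠ 0)).card = q ^ (2 * r) - 1 := by
    rw [Finset.filter_ne', Finset.card_erase_of_mem (Finset.mem_univ _), Finset.card_univ,
      ← Nat.card_eq_fintype_card, hcardV]
  rw [hleft] at hsum
  have hN : Nat.card {g : G // IsInv g} = (Finset.univ.filter (fun t : G => IsInv t)).card := by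
    rw [Nat.card_eq_fintype_card, Fintype.card_subtype]
  rw [hN]
  have hqr : 2 ≤ q ^ r := by
    calc 2 ≤ q := (Fact.out : q.Prime).two_le
      _ = q ^ 1 := (pow_one q).symm
      _ ≤ q ^ r := Nat.pow_le_pow_right (Fact.out : q.Prime).pos hr1
  have : q ^ (2 * r) - 1 = (q ^ r + 1) * (q ^ r - 1) := by
    rw [two_mul, pow_add]
    obtain ⟨m, hm⟩ : ∃ m, q ^ r = m + 1 := ⟨q ^ r - 1, by omega⟩
    rw [hm]
    simp only [Nat.add_sub_cancel]
    have : (m + 1) * (m + 1) = (m + 1 + 1) * m + 1 := by ring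
    rw [this, Nat.add_sub_cancel]
  rw [this] at hsum
  exact (Nat.eq_of_mul_eq_mul_right (by omega) hsum).symm

end Main

/-- Let G be a finite group acting faithfully and linearly on a non-trivial finite vector space V over the field with q elements (q prime) so that every non-zero vector has a stabilizer of order 2, and suppose G has a central involution. Then V has q^(2r) elements for some r and G contains exactly q^r + 1 non-central involutions. -/
theorem result
    (q : ℕ) [Fact q.Prime] {V : Type*} [AddCommGroup V] [Module (ZMod q) V] [Finite V] [Nontrivial V]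
    {G : Type*} [Group G] [Finite G] (ρ : G →* (V ≃ₗ[ZMod q] V)) (hρ : Function.Injective ρ)
    (hstab : ∀ v : V, v ≠ 0 → Nat.card {g : G // ρ g v = v} = 2)
    (z : G) (hz : orderOf z = 2) (hzc : z ∈ Subgroup.center G) :
    ∃ r : ℕ, Nat.card V = q ^ (2 * r) ∧
      Nat.card {g : G // orderOf g = 2 ∧ g ∉ Subgroup.center G} = q ^ r + 1 := by
  have hq := q_ne_two ρ hstab hρ z hz hzc
  exact main_count ρ hstab hρ hq z hz hzc




end Cfsg.Agent.S3381
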