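import Mathlib
import Cfsg.Statements.S3382
-- import your own Cfsg.Agent.* helpers here

set_option autoImplicit false
open Cfsg

namespace Cfsg.Agent.S3382

variable {q : ℕ} [Fact q.Prime]

/-- `f` is the diagonal map `(x, y) ↦ (a x, b y)` -/
def IsD (f : (Fin 2 → ZMod q) ≃ₗ[ZMod q] (Fin 2 → ZMod q)) (a b : ZMod q) : Prop :=
  ∀ v, f v = ![a * v 0, b * v 1]

/-- `f` is the antidiagonal map `(x, y) ↦ (b y, a x)` -/
def IsA (f : (Fin 2 → ZMod q) ≃ₗ[ZMod q] (Fin 2 → ZMod q)) (a b : ZMod q) : Prop :=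
  ∀ v, f v = ![b * v 1, a * v 0]

variable {f g : (Fin 2 → ZMod q) ≃ₗ[ZMod q] (Fin 2 → ZMod q)} {a b a' b' : ZMod q}

theorem IsD.mul (hf : IsD f a b) (hg : IsD g a' b') : IsD (f * g) (a * a') (b * b') := by
  intro v
  rw [LinearEquiv.mul_apply, hg v, hf]
  simp [mul_assoc]

theorem IsD.mulA (hf : IsD f a b) (hg : IsA g a' b') : IsA (f * g) (b * a') (a * b') := by
  intro v
  rw [LinearEquiv.mul_apply, hg v, hf]
  simp [mul_assoc]

theorem IsA.mulD (hf : IsA f a b) (hg : IsD g a' b') : IsA (f * g) (a * a') (b * b') := by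
  intro v
  rw [LinearEquiv.mul_apply, hg v, hf]
  simp [mul_assoc]

theorem IsA.mul (hf : IsA f a b) (hg : IsA g a' b') : IsD (f * g) (b * a') (a * b') := by
  intro v
  rw [LinearEquiv.mul_apply, hg v, hf]
  simp [mul_assoc]

theorem IsD.one : IsD (1 : (Fin 2 → ZMod q) ≃ₗ[ZMod q] (Fin 2 → ZMod q)) 1 1 := by
  intro v
  ext i
  fin_cases i <;> simp

theorem IsD.unique (h1 : IsD f a b) (h2 : IsD f a' b') : a = a' ∧ b = b' := by
  have e := (h1 ![1, 1]).symm.trans (h2 ![1, 1])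
  have e0 := congrFun e 0
  have e1 := congrFun e 1
  simp at e0 e1
  exact ⟨e0, e1⟩

theorem IsA.unique (h1 : IsA f a b) (h2 : IsA f a' b') : a = a' ∧ b = b' := by
  have e := (h1 ![1, 1]).symm.trans (h2 ![1, 1])
  have e0 := congrFun e 0
  have e1 := congrFun e 1
  simp at e0 e1
  exact ⟨e1, e0⟩

theorem IsD.notA (h1 : IsD f a b) (h2 : IsA f a' b') : a = 0 := by
  have e := (h1 ![1, 0]).symm.trans (h2 ![1, 0])
  have e0 := congrFun e 0
  simp at e0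
  exact e0

theorem IsD.ext (h1 : IsD f a b) (h2 : IsD g a b) : f = g := by
  apply LinearEquiv.ext
  intro v
  rw [h1 v, h2 v]

theorem IsA.ext (h1 : IsA f a b) (h2 : IsA g a b) : f = g := by
  apply LinearEquiv.ext
  intro v
  rw [h1 v, h2 v]

theorem IsD.eq_one (h1 : IsD f 1 1) : f = 1 := h1.ext IsD.one

theorem IsD.inv (ha : a ≠ 0) (hb : b ≠ 0) (hf : IsD f a b) : IsD f⁻¹ a⁻¹ b⁻¹ := by
  intro v
  have h1 : f (![a⁻¹ * v 0, b⁻¹ * v 1]) = v := by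
    rw [hf]
    ext i
    fin_cases i <;> simp [ha, hb]
  have h2 : f⁻¹ v = f⁻¹ (f (![a⁻¹ * v 0, b⁻¹ * v 1])) := by rw [h1]
  rw [h2]
  exact f.symm_apply_apply _

theorem IsA.inv (ha : a ≠ 0) (hb : b ≠ 0) (hf : IsA f a b) : IsA f⁻¹ b⁻¹ a⁻¹ := by
  intro v
  have h1 : f (![a⁻¹ * v 1, b⁻¹ * v 0]) = v := by
    rw [hf]
    ext i
    fin_cases i <;> simp [ha, hb]
  have h2 : f⁻¹ v = f⁻¹ (f (![a⁻¹ * v 1, b⁻¹ * v 0])) := by rw [h1]
  rw [h2]
  exact f.symm_apply_apply _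

theorem IsD.pow (hf : IsD f a b) (n : ℕ) : IsD (f ^ n) (a ^ n) (b ^ n) := by
  induction n with
  | zero => simpa using IsD.one
  | succ n ih =>
    rw [pow_succ, pow_succ, pow_succ]
    exact ih.mul hf

/-- constructor of a diagonal map -/
def dg (a b : ZMod q) (ha : a ≠ 0) (hb : b ≠ 0) :
    (Fin 2 → ZMod q) ≃ₗ[ZMod q] (Fin 2 → ZMod q) where
  toFun v := ![a * v 0, b * v 1]
  map_add' v w := by ext i; fin_cases i <;> simp [mul_add]
  map_smul' c v := by ext i; fin_cases i <;> simp [mul_left_comm]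
  invFun v := ![a⁻¹ * v 0, b⁻¹ * v 1]
  left_inv v := by ext i; fin_cases i <;> simp [ha, hb]
  right_inv v := by ext i; fin_cases i <;> simp [ha, hb]

theorem isD_dg (ha : a ≠ 0) (hb : b ≠ 0) : IsD (dg a b ha hb) a b := fun _ => rfl

/-- constructor of an antidiagonal map -/
def ag (a b : ZMod q) (ha : a ≠ 0) (hb : b ≠ 0) :
    (Fin 2 → ZMod q) ≃ₗ[ZMod q] (Fin 2 → ZMod q) where
  toFun v := ![b * v 1, a * v 0]
  map_add' v w := by ext i; fin_cases i <;> simp [mul_add]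
  map_smul' c v := by ext i; fin_cases i <;> simp [mul_left_comm]
  invFun v := ![a⁻¹ * v 1, b⁻¹ * v 0]
  left_inv v := by ext i; fin_cases i <;> simp [ha, hb]
  right_inv v := by ext i; fin_cases i <;> simp [ha, hb]

theorem isA_ag (ha : a ≠ 0) (hb : b ≠ 0) : IsA (ag a b ha hb) a b := fun _ => rfl

theorem step {R : Type*} [Group R] (ψ : MulAut R) {r : ℕ} (hr : ψ ^ r = 1) (hodd : Odd r)
    (h2 : ∀ x : R, ∃ k : ℕ, x ^ (2 ^ k) = 1)
    (N M : Set R) (hMinv : ∀ x ∈ M, ψ x ∈ M) (hN : ∀ x ∈ N, ψ x = x)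
    (hidx : ∀ x ∈ M, ∀ y ∈ M, x ∉ N → y ∉ N → y⁻¹ * x ∈ N) :
    ∀ x ∈ M, ψ x = x := by
  intro x hx
  by_cases hxN : x ∈ N
  · exact hN x hxN
  have hψx : ψ x ∉ N := by
    intro h
    have h1 := hN _ h
    have h3 := ψ.injective h1
    rw [h3] at h
    exact hxN h
  have hn : x⁻¹ * ψ x ∈ N := hidx (ψ x) (hMinv x hx) x hx hψx hxN
  set n := x⁻¹ * ψ x with hn_def
  have hψn : ψ n = n := hN n hn
  have hψx' : ψ x = x * n := by rw [hn_def]; group
  have hpow : ∀ k : ℕ, (ψ ^ k) x = x * n ^ k := by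
    intro k
    induction k with
    | zero => simp
    | succ k ih =>
      rw [pow_succ', MulAut.mul_apply, ih, map_mul, map_pow, hψn, hψx', mul_assoc, ← pow_succ']
  have h1 : n ^ r = 1 := by
    have h3 := hpow r
    rw [hr, MulAut.one_apply] at h3
    exact mul_eq_left.1 h3.symm
  obtain ⟨k, hk⟩ := h2 n
  have hcop : Nat.Coprime r (2 ^ k) :=
    Nat.Coprime.pow_right k (Nat.coprime_two_right.2 hodd)
  have hn1 : n = 1 := by
    have h3 := pow_gcd_eq_one.2 ⟨h1, hk⟩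
    rw [hcop.gcd_eq_one, pow_one] at h3
    exact h3
  rw [hψx', hn1, mul_one]


section main

/-- the defining property of `T` -/
def HT (T : Subgroup ((Fin 2 → ZMod q) ≃ₗ[ZMod q] (Fin 2 → ZMod q))) : Prop :=
  ∀ f, f ∈ T ↔ ∃ a s : ZMod q, a ≠ 0 ∧ (s = 1 ∨ s = -1) ∧
      ((∀ v, f v = ![a * v 0, s * a⁻¹ * v 1]) ∨ (∀ v, f v = ![s * a⁻¹ * v 1, a * v 0]))

def PP (a b : ZMod q) : Prop := a ≠ 0 ∧ b ≠ 0 ∧ (a * b = 1 ∨ a * b = -1)

variable {T : Subgroup ((Fin 2 → ZMod q) ≃ₗ[ZMod q] (Fin 2 → ZMod q))}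

theorem mem_cases (hT : HT T) {f : (Fin 2 → ZMod q) ≃ₗ[ZMod q] (Fin 2 → ZMod q)} (hf : f ∈ T) :
    (∃ a b, PP a b ∧ IsD f a b) ∨ (∃ a b, PP a b ∧ IsA f a b) := by
  obtain ⟨a, s, ha, hs, h⟩ := (hT f).1 hf
  have hs0 : s ≠ 0 := by
    rcases hs with rfl | rfl
    · exact one_ne_zero
    · exact neg_ne_zero.2 one_ne_zero
  have hb : s * a⁻¹ ≠ 0 := mul_ne_zero hs0 (inv_ne_zero ha)
  have hab : a * (s * a⁻¹) = s := by field_simp
  have hP : PP a (s * a⁻¹) := ⟨ha, hb, by rw [hab]; exact hs⟩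
  rcases h with h | h
  · exact Or.inl ⟨a, s * a⁻¹, hP, h⟩
  · exact Or.inr ⟨a, s * a⁻¹, hP, h⟩

theorem mem_of_isD (hT : HT T) {f : (Fin 2 → ZMod q) ≃ₗ[ZMod q] (Fin 2 → ZMod q)} {a b : ZMod q}
    (hP : PP a b) (h : IsD f a b) : f ∈ T := by
  obtain ⟨ha, hb, hab⟩ := hP
  have e : a * b * a⁻¹ = b := by field_simp
  refine (hT f).2 ⟨a, a * b, ha, hab, Or.inl ?_⟩
  intro v
  rw [e]
  exact h v

theorem mem_of_isA (hT : HT T) {f : (Fin 2 → ZMod q) ≃ₗ[ZMod q] (Fin 2 → ZMod q)} {a b : ZMod q}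
    (hP : PP a b) (h : IsA f a b) : f ∈ T := by
  obtain ⟨ha, hb, hab⟩ := hP
  have e : a * b * a⁻¹ = b := by field_simp
  refine (hT f).2 ⟨a, a * b, ha, hab, Or.inr ?_⟩
  intro v
  rw [e]
  exact h v

theorem sq_isD (hT : HT T) (x : T) : ∃ e e', IsD ((x : (Fin 2 → ZMod q) ≃ₗ[ZMod q] (Fin 2 → ZMod q)) ^ 2) e e' := by
  rcases mem_cases hT x.2 with ⟨c, d, -, h⟩ | ⟨c, d, -, h⟩
  · exact ⟨_, _, h.pow 2⟩
  · exact ⟨_, _, by rw [pow_two]; exact h.mul h⟩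

/-- the centraliser of the squares -/
def Dc (T : Subgroup ((Fin 2 → ZMod q) ≃ₗ[ZMod q] (Fin 2 → ZMod q))) : Set T :=
  {t | ∀ x : T, t * x ^ 2 = x ^ 2 * t}

theorem mem_Dc_of_isD (hT : HT T) (t : T) {a b : ZMod q}
    (h : IsD (t : (Fin 2 → ZMod q) ≃ₗ[ZMod q] (Fin 2 → ZMod q)) a b) : t ∈ Dc T := by
  intro x
  obtain ⟨e, e', hx⟩ := sq_isD hT x
  apply Subtype.ext
  rw [Subgroup.coe_mul, Subgroup.coe_mul, Subgroup.coe_pow]
  have h1 := h.mul hx
  have h2 := hx.mul h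
  rw [mul_comm e a, mul_comm e' b] at h2
  exact h1.ext h2

theorem exists_g (hq6 : 6 ≤ q) : ∃ g : ZMod q, g ≠ 0 ∧ g ^ 4 ≠ 1 := by
  obtain ⟨g, hg⟩ := IsCyclic.exists_generator (α := (ZMod q)ˣ)
  have ho : orderOf g = q - 1 := by
    rw [orderOf_eq_card_of_forall_mem_zpowers hg, Nat.card_eq_fintype_card, ZMod.card_units]
  refine ⟨(g : ZMod q), g.ne_zero, ?_⟩
  intro h4
  have h5 : g ^ 4 = 1 := Units.ext (by push_cast; exact h4)
  have h6 := orderOf_dvd_of_pow_eq_one h5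
  rw [ho] at h6
  have := Nat.le_of_dvd (by norm_num) h6
  omega

theorem isD_of_mem_Dc (hT : HT T) (hq6 : 6 ≤ q) (t : T) (ht : t ∈ Dc T) :
    ∃ a b, PP a b ∧ IsD (t : (Fin 2 → ZMod q) ≃ₗ[ZMod q] (Fin 2 → ZMod q)) a b := by
  rcases mem_cases hT t.2 with h | ⟨a, b, hP, h⟩
  · exact h
  exfalso
  obtain ⟨g, hg0, hg4⟩ := exists_g hq6
  have hPg : PP g g⁻¹ := ⟨hg0, inv_ne_zero hg0, Or.inl (mul_inv_cancel₀ hg0)⟩
  have hxd := isD_dg (q := q) hg0 (inv_ne_zero hg0)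
  set x : T := ⟨dg g g⁻¹ hg0 (inv_ne_zero hg0), mem_of_isD hT hPg hxd⟩ with hx
  have hc := ht x
  have hc' := congrArg (fun s : T => (s : (Fin 2 → ZMod q) ≃ₗ[ZMod q] (Fin 2 → ZMod q))) hc
  simp only [Subgroup.coe_mul, Subgroup.coe_pow] at hc'
  have hx2 : IsD ((x : (Fin 2 → ZMod q) ≃ₗ[ZMod q] (Fin 2 → ZMod q)) ^ 2) (g ^ 2) (g⁻¹ ^ 2) :=
    hxd.pow 2
  have h1 := h.mulD hx2
  have h2 := hx2.mulA h
  rw [hc'] at h1
  have h3 := (h1.unique h2).1
  apply hg4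
  have ha := hP.1
  have : a * g ^ 2 * g ^ 2 = a := by
    rw [h3]; field_simp
  have h4 : a * (g ^ 4 - 1) = 0 := by linear_combination this
  rcases mul_eq_zero.1 h4 with h5 | h5
  · exact absurd h5 ha
  · exact sub_eq_zero.1 h5

theorem mem_center_of_scalar (hT : HT T) (t : T) {a : ZMod q}
    (h : IsD (t : (Fin 2 → ZMod q) ≃ₗ[ZMod q] (Fin 2 → ZMod q)) a a) : t ∈ Subgroup.center T := by
  rw [Subgroup.mem_center_iff]
  intro x
  apply Subtype.ext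
  rw [Subgroup.coe_mul, Subgroup.coe_mul]
  rcases mem_cases hT x.2 with ⟨c, d, -, hx⟩ | ⟨c, d, -, hx⟩
  · have h1 := hx.mul h
    have h2 := h.mul hx
    rw [mul_comm a c, mul_comm a d] at h2
    exact h1.ext h2
  · have h1 := hx.mulD h
    have h2 := h.mulA hx
    rw [mul_comm a c, mul_comm a d] at h2
    exact h1.ext h2

theorem scalar_of_mem_center (hT : HT T) (hq6 : 6 ≤ q) (t : T) (ht : t ∈ Subgroup.center T) :
    ∃ a, PP a a ∧ IsD (t : (Fin 2 → ZMod q) ≃ₗ[ZMod q] (Fin 2 → ZMod q)) a a := by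
  rw [Subgroup.mem_center_iff] at ht
  have hD : t ∈ Dc T := fun x => (ht (x ^ 2)).symm
  obtain ⟨a, b, hP, h⟩ := isD_of_mem_Dc hT hq6 t hD
  have hP1 : PP (1 : ZMod q) 1 := ⟨one_ne_zero, one_ne_zero, Or.inl (one_mul 1)⟩
  have hwa := isA_ag (q := q) (a := 1) (b := 1) one_ne_zero one_ne_zero
  set w : T := ⟨ag 1 1 one_ne_zero one_ne_zero, mem_of_isA hT hP1 hwa⟩ with hw
  have hc := ht w
  have hc' := congrArg (fun s : T => (s : (Fin 2 → ZMod q) ≃ₗ[ZMod q] (Fin 2 → ZMod q))) hc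
  simp only [Subgroup.coe_mul] at hc'
  have h1 := hwa.mulD h
  have h2 := h.mulA hwa
  rw [hc'] at h1
  have h3 := (h1.unique h2).1
  rw [one_mul, mul_one] at h3
  subst h3
  exact ⟨a, hP, h⟩


theorem aut_center {R : Type*} [Group R] (ψ : MulAut R) {t : R} (ht : t ∈ Subgroup.center R) :
    ψ t ∈ Subgroup.center R := by
  rw [Subgroup.mem_center_iff] at ht ⊢
  intro g
  have := congrArg ψ (ht (ψ.symm g))
  simpa using this

theorem pow_two_pow_eq_one {m : ℕ} (hq : q = 2 ^ m + 1) {a : ZMod q} (ha : a ≠ 0) :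
    a ^ (2 ^ m) = 1 := by
  have h := ZMod.pow_card_sub_one_eq_one ha
  have e : q - 1 = 2 ^ m := by rw [hq]; simp
  rwa [e] at h

theorem two_power_order {m : ℕ} (hT : HT T) (hq : q = 2 ^ m + 1) (x : T) :
    ∃ k : ℕ, x ^ (2 ^ k) = 1 := by
  rcases mem_cases hT x.2 with ⟨a, b, hP, h⟩ | ⟨a, b, hP, h⟩
  · refine ⟨m, Subtype.ext ?_⟩
    rw [Subgroup.coe_pow, Subgroup.coe_one]
    have h1 := h.pow (2 ^ m)
    rw [pow_two_pow_eq_one hq hP.1, pow_two_pow_eq_one hq hP.2.1] at h1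
    exact h1.eq_one
  · refine ⟨2, Subtype.ext ?_⟩
    rw [Subgroup.coe_pow, Subgroup.coe_one]
    have h1 := (h.mul h).pow 2
    have e1 : (b * a) ^ 2 = 1 := by
      rw [mul_comm b a]
      rcases hP.2.2 with h3 | h3 <;> rw [h3] <;> ring
    have e2 : (a * b) ^ 2 = 1 := by
      rcases hP.2.2 with h3 | h3 <;> rw [h3] <;> ring
    rw [e1, e2] at h1
    have e3 : (x : (Fin 2 → ZMod q) ≃ₗ[ZMod q] (Fin 2 → ZMod q)) ^ 2 ^ 2 =
        ((x : (Fin 2 → ZMod q) ≃ₗ[ZMod q] (Fin 2 → ZMod q)) * x) ^ 2 := by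
      rw [← pow_two, ← pow_mul]; norm_num
    rw [e3]
    exact h1.eq_one

/-- central elements of order at most two -/
def Zc (T : Subgroup ((Fin 2 → ZMod q) ≃ₗ[ZMod q] (Fin 2 → ZMod q))) : Set T :=
  {t | t ∈ Subgroup.center T ∧ t ^ 2 = 1}

def Dj (T : Subgroup ((Fin 2 → ZMod q) ≃ₗ[ZMod q] (Fin 2 → ZMod q))) (j : ℕ) : Set T :=
  {t | t ∈ Dc T ∧ t ^ (2 ^ j) = 1}

theorem pow_eq_one_isD {t : T} {a b : ZMod q} {n : ℕ}
    (h : IsD (t : (Fin 2 → ZMod q) ≃ₗ[ZMod q] (Fin 2 → ZMod q)) a b) (hn : t ^ n = 1) :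
    a ^ n = 1 ∧ b ^ n = 1 := by
  have h1 := h.pow n
  have h2 : (t : (Fin 2 → ZMod q) ≃ₗ[ZMod q] (Fin 2 → ZMod q)) ^ n = 1 := by
    rw [← Subgroup.coe_pow, hn, Subgroup.coe_one]
  rw [h2] at h1
  exact IsD.unique h1 IsD.one

theorem pow_eq_one_of_isD {t : T} {a b : ZMod q} {n : ℕ}
    (h : IsD (t : (Fin 2 → ZMod q) ≃ₗ[ZMod q] (Fin 2 → ZMod q)) a b) (ha : a ^ n = 1)
    (hb : b ^ n = 1) : t ^ n = 1 := by
  apply Subtype.ext
  rw [Subgroup.coe_pow, Subgroup.coe_one]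
  have h1 := h.pow n
  rw [ha, hb] at h1
  exact h1.eq_one

theorem Zc_cases (hT : HT T) (hq6 : 6 ≤ q) (x : T) (hx : x ∈ Zc T) :
    x = 1 ∨ IsD (x : (Fin 2 → ZMod q) ≃ₗ[ZMod q] (Fin 2 → ZMod q)) (-1) (-1) := by
  obtain ⟨a, hP, h⟩ := scalar_of_mem_center hT hq6 x hx.1
  have h1 := (pow_eq_one_isD h hx.2).1
  rcases sq_eq_one_iff.1 h1 with rfl | rfl
  · left
    exact Subtype.ext h.eq_one
  · right
    exact h

theorem mem_Zc_of_scalar (hT : HT T) (x : T) {a : ZMod q}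
    (h : IsD (x : (Fin 2 → ZMod q) ≃ₗ[ZMod q] (Fin 2 → ZMod q)) a a) (ha : a ^ 2 = 1) :
    x ∈ Zc T :=
  ⟨mem_center_of_scalar hT x h, pow_eq_one_of_isD h ha ha⟩

theorem D1_cases (hT : HT T) (hq6 : 6 ≤ q) (x : T) (hx : x ∈ Dj T 1) (hxZ : x ∉ Zc T) :
    ∃ a : ZMod q, (a = 1 ∨ a = -1) ∧
      IsD (x : (Fin 2 → ZMod q) ≃ₗ[ZMod q] (Fin 2 → ZMod q)) a (-a) := by
  obtain ⟨a, b, hP, h⟩ := isD_of_mem_Dc hT hq6 x hx.1
  have h2 : x ^ 2 = 1 := by have := hx.2; rwa [pow_one] at this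
  obtain ⟨ha, hb⟩ := pow_eq_one_isD h h2
  have hne : a ≠ b := by
    rintro rfl
    exact hxZ (mem_Zc_of_scalar hT x h ha)
  rcases sq_eq_one_iff.1 ha with rfl | rfl <;> rcases sq_eq_one_iff.1 hb with rfl | rfl
  · exact absurd rfl hne
  · exact ⟨1, Or.inl rfl, h⟩
  · exact ⟨-1, Or.inr rfl, by rw [neg_neg]; exact h⟩
  · exact absurd rfl hne

theorem Dj_cases (hT : HT T) (hq6 : 6 ≤ q) {j : ℕ} (hj : 1 ≤ j) (x : T) (hx : x ∈ Dj T (j + 1))
    (hxj : x ∉ Dj T j) :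
    ∃ a b : ZMod q, PP a b ∧ IsD (x : (Fin 2 → ZMod q) ≃ₗ[ZMod q] (Fin 2 → ZMod q)) a b ∧
      a ^ (2 ^ j) = -1 ∧ b ^ (2 ^ j) = -1 := by
  obtain ⟨a, b, hP, h⟩ := isD_of_mem_Dc hT hq6 x hx.1
  obtain ⟨ha, hb⟩ := pow_eq_one_isD h hx.2
  rw [pow_succ, pow_mul] at ha hb
  have hab : a ^ (2 ^ j) * b ^ (2 ^ j) = 1 := by
    rw [← mul_pow]
    obtain ⟨i, rfl⟩ : ∃ i, j = i + 1 := ⟨j - 1, by omega⟩
    rw [pow_succ, pow_mul']
    rcases hP.2.2 with h3 | h3 <;> rw [h3] <;> simp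
  have : Fact (2 < q) := ⟨by omega⟩
  have hne : (-1 : ZMod q) ≠ 1 := ZMod.neg_one_ne_one
  rcases sq_eq_one_iff.1 ha with ha1 | ha1 <;> rcases sq_eq_one_iff.1 hb with hb1 | hb1
  · exact absurd ⟨hx.1, pow_eq_one_of_isD h ha1 hb1⟩ hxj
  · rw [ha1, hb1, one_mul] at hab; exact absurd hab hne
  · rw [ha1, hb1, mul_one] at hab; exact absurd hab hne
  · exact ⟨a, b, hP, h, ha1, hb1⟩

theorem key_main {m : ℕ} (hq : q = 2 ^ m + 1) (hm : 3 ≤ m) (hT : HT T) (ψ : MulAut T) {r : ℕ}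
    (hodd : Odd r) (hr : ψ ^ r = 1) : ψ = 1 := by
  have hq6 : 6 ≤ q := by
    have : 2 ^ 3 ≤ 2 ^ m := Nat.pow_le_pow_right (by norm_num) hm
    omega
  have h2 := two_power_order hT hq
  have hinvD : ∀ x ∈ Dc T, ψ x ∈ Dc T := by
    intro t ht x
    have h3 := congrArg ψ (ht (ψ.symm x))
    simpa [map_mul, map_pow] using h3
  have hinvZ : ∀ x ∈ Zc T, ψ x ∈ Zc T := by
    intro t ht
    exact ⟨aut_center ψ ht.1, by rw [← map_pow, ht.2, map_one]⟩
  have hinvDj : ∀ j, ∀ x ∈ Dj T j, ψ x ∈ Dj T j := by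
    intro j t ht
    exact ⟨hinvD t ht.1, by rw [← map_pow, ht.2, map_one]⟩
  -- step 1
  have s1 : ∀ x ∈ Zc T, ψ x = x := by
    apply step ψ hr hodd h2 ({1} : Set T) (Zc T) hinvZ
    · intro x hx
      rw [Set.mem_singleton_iff] at hx
      rw [hx, map_one]
    · intro x hx y hy hx1 hy1
      rw [Set.mem_singleton_iff] at hx1 hy1 ⊢
      have h3 := (Zc_cases hT hq6 x hx).resolve_left hx1
      have h4 := (Zc_cases hT hq6 y hy).resolve_left hy1
      have : x = y := Subtype.ext (h3.ext h4)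
      rw [this, inv_mul_cancel]
  -- step 2
  have s2 : ∀ x ∈ Dj T 1, ψ x = x := by
    apply step ψ hr hodd h2 (Zc T) (Dj T 1) (hinvDj 1) s1
    intro x hx y hy hxZ hyZ
    obtain ⟨a, ha, hxa⟩ := D1_cases hT hq6 x hx hxZ
    obtain ⟨a', ha', hya⟩ := D1_cases hT hq6 y hy hyZ
    have ha0 : a ≠ 0 := by rcases ha with rfl | rfl <;> simp
    have ha'0 : a' ≠ 0 := by rcases ha' with rfl | rfl <;> simp
    have h3 := (hya.inv ha'0 (neg_ne_zero.2 ha'0)).mul hxa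
    have e : (-a')⁻¹ * -a = a'⁻¹ * a := by
      rw [inv_neg]; ring
    rw [e] at h3
    have h4 : ((y⁻¹ * x : T) : (Fin 2 → ZMod q) ≃ₗ[ZMod q] (Fin 2 → ZMod q)) =
        (y : (Fin 2 → ZMod q) ≃ₗ[ZMod q] (Fin 2 → ZMod q))⁻¹ * x := by
      rw [Subgroup.coe_mul, Subgroup.coe_inv]
    rw [← h4] at h3
    apply mem_Zc_of_scalar hT _ h3
    rcases ha with rfl | rfl <;> rcases ha' with rfl | rfl <;> simp
  -- step 3
  have s3 : ∀ j, 1 ≤ j → ∀ x ∈ Dj T j, ψ x = x := by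
    intro j hj
    induction j, hj using Nat.le_induction with
    | base => exact s2
    | succ j hj ih =>
      apply step ψ hr hodd h2 (Dj T j) (Dj T (j + 1)) (hinvDj (j + 1)) ih
      intro x hx y hy hxj hyj
      obtain ⟨a, b, hP, hxa, ha, hb⟩ := Dj_cases hT hq6 hj x hx hxj
      obtain ⟨a', b', hP', hya, ha', hb'⟩ := Dj_cases hT hq6 hj y hy hyj
      have h3 := (hya.inv hP'.1 hP'.2.1).mul hxa
      have h4 : ((y⁻¹ * x : T) : (Fin 2 → ZMod q) ≃ₗ[ZMod q] (Fin 2 → ZMod q)) =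
          (y : (Fin 2 → ZMod q) ≃ₗ[ZMod q] (Fin 2 → ZMod q))⁻¹ * x := by
        rw [Subgroup.coe_mul, Subgroup.coe_inv]
      rw [← h4] at h3
      refine ⟨mem_Dc_of_isD hT _ h3, pow_eq_one_of_isD h3 ?_ ?_⟩
      · rw [mul_pow, inv_pow, ha, ha']; simp
      · rw [mul_pow, inv_pow, hb, hb']; simp
  -- step 4
  have s4 : ∀ x ∈ Dc T, ψ x = x := by
    intro x hx
    apply s3 m (by omega) x
    obtain ⟨a, b, hP, h⟩ := isD_of_mem_Dc hT hq6 x hx
    exact ⟨hx, pow_eq_one_of_isD h (pow_two_pow_eq_one hq hP.1) (pow_two_pow_eq_one hq hP.2.1)⟩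
  -- step 5
  have s5 : ∀ x ∈ (Set.univ : Set T), ψ x = x := by
    apply step ψ hr hodd h2 (Dc T) Set.univ (fun _ _ => Set.mem_univ _) s4
    intro x _ y _ hxD hyD
    have hxA : ∃ a b, PP a b ∧ IsA (x : (Fin 2 → ZMod q) ≃ₗ[ZMod q] (Fin 2 → ZMod q)) a b := by
      rcases mem_cases hT x.2 with ⟨a, b, hP, h⟩ | h
      · exact absurd (mem_Dc_of_isD hT x h) hxD
      · exact h
    have hyA : ∃ a b, PP a b ∧ IsA (y : (Fin 2 → ZMod q) ≃ₗ[ZMod q] (Fin 2 → ZMod q)) a b := by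
      rcases mem_cases hT y.2 with ⟨a, b, hP, h⟩ | h
      · exact absurd (mem_Dc_of_isD hT y h) hyD
      · exact h
    obtain ⟨a, b, hP, hxa⟩ := hxA
    obtain ⟨a', b', hP', hya⟩ := hyA
    have h3 := (hya.inv hP'.1 hP'.2.1).mul hxa
    have h4 : ((y⁻¹ * x : T) : (Fin 2 → ZMod q) ≃ₗ[ZMod q] (Fin 2 → ZMod q)) =
        (y : (Fin 2 → ZMod q) ≃ₗ[ZMod q] (Fin 2 → ZMod q))⁻¹ * x := by
      rw [Subgroup.coe_mul, Subgroup.coe_inv]
    rw [← h4] at h3
    exact mem_Dc_of_isD hT _ h3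
  exact MulEquiv.ext fun x => s5 x (Set.mem_univ x)


end main

section small

theorem key_two {T : Subgroup ((Fin 2 → ZMod 2) ≃ₗ[ZMod 2] (Fin 2 → ZMod 2))}
    (hT : HT T) (ψ : MulAut T) : ψ = 1 := by
  have h01 : ∀ a : ZMod 2, a ≠ 0 → a = 1 := by decide
  have hform : ∀ t : T, t = 1 ∨ IsA (t : (Fin 2 → ZMod 2) ≃ₗ[ZMod 2] (Fin 2 → ZMod 2)) 1 1 := by
    intro t
    rcases mem_cases hT t.2 with ⟨a, b, hP, h⟩ | ⟨a, b, hP, h⟩
    · left
      rw [h01 a hP.1, h01 b hP.2.1] at h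
      exact Subtype.ext h.eq_one
    · right
      rw [h01 a hP.1, h01 b hP.2.1] at h
      exact h
  apply MulEquiv.ext
  intro t
  rcases hform t with rfl | ht
  · simp
  · rcases hform (ψ t) with h1 | h1
    · have : t = 1 := ψ.injective (by rw [h1, map_one])
      rw [this]; simp
    · exact Subtype.ext (h1.ext ht)

/-- elements commuting with all elements of order four -/
def Cc {q : ℕ} (T : Subgroup ((Fin 2 → ZMod q) ≃ₗ[ZMod q] (Fin 2 → ZMod q))) : Set T :=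
  {t | ∀ x : T, x ^ 2 ≠ 1 → t * x = x * t}

theorem key_three {T : Subgroup ((Fin 2 → ZMod 3) ≃ₗ[ZMod 3] (Fin 2 → ZMod 3))}
    (hT : HT T) (ψ : MulAut T) {r : ℕ} (hodd : Odd r) (hr : ψ ^ r = 1) : ψ = 1 := by
  have h01 : ∀ a : ZMod 3, a ≠ 0 → a = 1 ∨ a = -1 := by decide
  have hne : (-1 : ZMod 3) ≠ 1 := by decide
  have h2 := two_power_order (m := 1) hT (by norm_num)
  -- explicit elements
  have hP1 : PP (1 : ZMod 3) 1 := ⟨one_ne_zero, one_ne_zero, Or.inl (one_mul 1)⟩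
  have hP2 : PP (1 : ZMod 3) (-1) := ⟨one_ne_zero, by decide, Or.inr (one_mul _)⟩
  have hwa := isA_ag (q := 3) (a := 1) (b := 1) one_ne_zero one_ne_zero
  have hxa := isA_ag (q := 3) (a := 1) (b := -1) one_ne_zero (by decide)
  have hea := isD_dg (q := 3) (a := 1) (b := -1) one_ne_zero (by decide)
  set w : T := ⟨ag 1 1 one_ne_zero one_ne_zero, mem_of_isA hT hP1 hwa⟩ with hw
  set x0 : T := ⟨ag 1 (-1) one_ne_zero (by decide), mem_of_isA hT hP2 hxa⟩ with hx0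
  set e0 : T := ⟨dg 1 (-1) one_ne_zero (by decide), mem_of_isD hT hP2 hea⟩ with he0
  have hx0sq : x0 ^ 2 ≠ 1 := by
    intro h
    have h3 := congrArg (fun s : T => (s : (Fin 2 → ZMod 3) ≃ₗ[ZMod 3] (Fin 2 → ZMod 3))) h
    simp only [Subgroup.coe_pow, Subgroup.coe_one] at h3
    have h4 := hxa.mul hxa
    rw [← pow_two, h3] at h4
    have := (IsD.unique h4 IsD.one).1
    revert this
    decide
  -- central elements are scalar
  have hscal : ∀ t : T, t ∈ Subgroup.center T →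
      ∃ a, a ≠ 0 ∧ IsD (t : (Fin 2 → ZMod 3) ≃ₗ[ZMod 3] (Fin 2 → ZMod 3)) a a := by
    intro t ht
    rw [Subgroup.mem_center_iff] at ht
    rcases mem_cases hT t.2 with ⟨a, b, hP, h⟩ | ⟨a, b, hP, h⟩
    · have hc := ht w
      have hc' := congrArg (fun s : T => (s : (Fin 2 → ZMod 3) ≃ₗ[ZMod 3] (Fin 2 → ZMod 3))) hc
      simp only [Subgroup.coe_mul] at hc'
      have h1 := hwa.mulD h
      have h3 := h.mulA hwa
      rw [hc'] at h1
      have h4 := (h1.unique h3).1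
      rw [one_mul, mul_one] at h4
      subst h4
      exact ⟨a, hP.1, h⟩
    · exfalso
      have hc := ht e0
      have hc' := congrArg (fun s : T => (s : (Fin 2 → ZMod 3) ≃ₗ[ZMod 3] (Fin 2 → ZMod 3))) hc
      simp only [Subgroup.coe_mul] at hc'
      have h1 := hea.mulA h
      have h3 := h.mulD hea
      rw [hc'] at h1
      have h4 := (h1.unique h3).1
      have ha := hP.1
      rcases h01 a ha with rfl | rfl <;> revert h4 <;> decide
  have hZc : ∀ x : T, x ∈ Zc T →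
      x = 1 ∨ IsD (x : (Fin 2 → ZMod 3) ≃ₗ[ZMod 3] (Fin 2 → ZMod 3)) (-1) (-1) := by
    intro x hx
    obtain ⟨a, ha, h⟩ := hscal x hx.1
    rcases h01 a ha with rfl | rfl
    · left; exact Subtype.ext h.eq_one
    · right; exact h
  -- description of Cc
  have hCform : ∀ t : T, t ∈ Cc T → t ∈ Zc T ∨
      ∃ a, a ≠ 0 ∧ IsA (t : (Fin 2 → ZMod 3) ≃ₗ[ZMod 3] (Fin 2 → ZMod 3)) a (-a) := by
    intro t ht
    have hc := ht x0 hx0sq
    have hc' := congrArg (fun s : T => (s : (Fin 2 → ZMod 3) ≃ₗ[ZMod 3] (Fin 2 → ZMod 3))) hc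
    simp only [Subgroup.coe_mul] at hc'
    rcases mem_cases hT t.2 with ⟨a, b, hP, h⟩ | ⟨a, b, hP, h⟩
    · left
      have h1 := h.mulA hxa
      have h3 := hxa.mulD h
      rw [hc'] at h1
      have h4 := (h1.unique h3).1
      rw [one_mul, mul_one] at h4
      subst h4
      apply mem_Zc_of_scalar hT t h
      rcases h01 b hP.1 with rfl | rfl <;> decide
    · right
      have h1 := h.mul hxa
      have h3 := hxa.mul h
      rw [hc'] at h1
      have h4 := (h1.unique h3).1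
      rw [mul_one] at h4
      refine ⟨a, hP.1, ?_⟩
      have : b = -a := by rw [h4]; ring
      rw [← this]; exact h
  have hsq_form : ∀ x : T, x ^ 2 ≠ 1 →
      ∃ c, c ≠ 0 ∧ IsA (x : (Fin 2 → ZMod 3) ≃ₗ[ZMod 3] (Fin 2 → ZMod 3)) c (-c) := by
    intro x hx
    rcases mem_cases hT x.2 with ⟨c, d, hP, h⟩ | ⟨c, d, hP, h⟩
    · exfalso
      apply hx
      apply pow_eq_one_of_isD h
      · rcases h01 c hP.1 with rfl | rfl <;> decide
      · rcases h01 d hP.2.1 with rfl | rfl <;> decide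
    · refine ⟨c, hP.1, ?_⟩
      rcases h01 c hP.1 with rfl | rfl <;> rcases h01 d hP.2.1 with rfl | rfl
      · exfalso
        apply hx
        apply Subtype.ext
        rw [Subgroup.coe_pow, Subgroup.coe_one, pow_two]
        have := h.mul h
        simp only [mul_one] at this
        exact this.eq_one
      · exact h
      · simpa using h
      · exfalso
        apply hx
        apply Subtype.ext
        rw [Subgroup.coe_pow, Subgroup.coe_one, pow_two]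
        have := h.mul h
        simp only [neg_mul_neg, mul_one] at this
        exact this.eq_one
  have hC_of_anti : ∀ t : T, ∀ a : ZMod 3, a ≠ 0 →
      IsA (t : (Fin 2 → ZMod 3) ≃ₗ[ZMod 3] (Fin 2 → ZMod 3)) a (-a) → t ∈ Cc T := by
    intro t a ha h x hx
    obtain ⟨c, hc, hxc⟩ := hsq_form x hx
    apply Subtype.ext
    rw [Subgroup.coe_mul, Subgroup.coe_mul]
    have h1 := h.mul hxc
    have h3 := hxc.mul h
    have e1 : -c * a = -a * c := by ring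
    have e2 : c * -a = a * -c := by ring
    rw [e1, e2] at h3
    exact h1.ext h3
  have hC_of_scalar : ∀ t : T, ∀ a : ZMod 3,
      IsD (t : (Fin 2 → ZMod 3) ≃ₗ[ZMod 3] (Fin 2 → ZMod 3)) a a → t ∈ Cc T := by
    intro t a h x _
    have := mem_center_of_scalar hT t h
    rw [Subgroup.mem_center_iff] at this
    exact (this x).symm
  -- invariance
  have hinvZ : ∀ x ∈ Zc T, ψ x ∈ Zc T := by
    intro t ht
    exact ⟨aut_center ψ ht.1, by rw [← map_pow, ht.2, map_one]⟩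
  have hinvC : ∀ x ∈ Cc T, ψ x ∈ Cc T := by
    intro t ht x hx
    have hx' : (ψ.symm x) ^ 2 ≠ 1 := by
      intro h
      apply hx
      have := congrArg ψ h
      simpa [map_pow] using this
    have h3 := congrArg ψ (ht (ψ.symm x) hx')
    simpa [map_mul] using h3
  have s1 : ∀ x ∈ Zc T, ψ x = x := by
    apply step ψ hr hodd h2 ({1} : Set T) (Zc T) hinvZ
    · intro x hx
      rw [Set.mem_singleton_iff] at hx
      rw [hx, map_one]
    · intro x hx y hy hx1 hy1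
      rw [Set.mem_singleton_iff] at hx1 hy1 ⊢
      have h3 := (hZc x hx).resolve_left hx1
      have h4 := (hZc y hy).resolve_left hy1
      have : x = y := Subtype.ext (h3.ext h4)
      rw [this, inv_mul_cancel]
  have s2 : ∀ x ∈ Cc T, ψ x = x := by
    apply step ψ hr hodd h2 (Zc T) (Cc T) hinvC s1
    intro x hx y hy hxZ hyZ
    obtain ⟨a, ha, hxa⟩ := (hCform x hx).resolve_left hxZ
    obtain ⟨a', ha', hya⟩ := (hCform y hy).resolve_left hyZ
    have h3 := (hya.inv ha' (neg_ne_zero.2 ha')).mul hxa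
    have h4 : ((y⁻¹ * x : T) : (Fin 2 → ZMod 3) ≃ₗ[ZMod 3] (Fin 2 → ZMod 3)) =
        (y : (Fin 2 → ZMod 3) ≃ₗ[ZMod 3] (Fin 2 → ZMod 3))⁻¹ * x := by
      rw [Subgroup.coe_mul, Subgroup.coe_inv]
    rw [← h4] at h3
    have e : (-a')⁻¹ * -a = a'⁻¹ * a := by rw [inv_neg]; ring
    rw [e] at h3
    apply mem_Zc_of_scalar hT _ h3
    rcases h01 a ha with rfl | rfl <;> rcases h01 a' ha' with rfl | rfl <;> simp [inv_neg]
  have s3 : ∀ x ∈ (Set.univ : Set T), ψ x = x := by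
    apply step ψ hr hodd h2 (Cc T) Set.univ (fun _ _ => Set.mem_univ _) s2
    intro x _ y _ hxC hyC
    -- forms of elements outside Cc
    have hout : ∀ t : T, t ∉ Cc T →
        (∃ a, a ≠ 0 ∧ IsD (t : (Fin 2 → ZMod 3) ≃ₗ[ZMod 3] (Fin 2 → ZMod 3)) a (-a)) ∨
        (∃ a, a ≠ 0 ∧ IsA (t : (Fin 2 → ZMod 3) ≃ₗ[ZMod 3] (Fin 2 → ZMod 3)) a a) := by
      intro t ht
      rcases mem_cases hT t.2 with ⟨a, b, hP, h⟩ | ⟨a, b, hP, h⟩
      · left
        refine ⟨a, hP.1, ?_⟩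
        rcases h01 a hP.1 with rfl | rfl <;> rcases h01 b hP.2.1 with rfl | rfl
        · exact absurd (hC_of_scalar t _ h) ht
        · exact h
        · simpa using h
        · exact absurd (hC_of_scalar t _ h) ht
      · right
        refine ⟨a, hP.1, ?_⟩
        rcases h01 a hP.1 with rfl | rfl <;> rcases h01 b hP.2.1 with rfl | rfl
        · exact h
        · exact absurd (hC_of_anti t 1 one_ne_zero h) ht
        · exact absurd (hC_of_anti t (-1) (by decide) (by simpa using h)) ht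
        · exact h
    have h4 : ((y⁻¹ * x : T) : (Fin 2 → ZMod 3) ≃ₗ[ZMod 3] (Fin 2 → ZMod 3)) =
        (y : (Fin 2 → ZMod 3) ≃ₗ[ZMod 3] (Fin 2 → ZMod 3))⁻¹ * x := by
      rw [Subgroup.coe_mul, Subgroup.coe_inv]
    rcases hout x hxC with ⟨a, ha, hxa⟩ | ⟨a, ha, hxa⟩ <;>
      rcases hout y hyC with ⟨a', ha', hya⟩ | ⟨a', ha', hya⟩
    · have h3 := (hya.inv ha' (neg_ne_zero.2 ha')).mul hxa
      rw [← h4] at h3
      have e : (-a')⁻¹ * -a = a'⁻¹ * a := by rw [inv_neg]; ring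
      rw [e] at h3
      exact hC_of_scalar _ _ h3
    · have h3 := (hya.inv ha' ha').mulD hxa
      rw [← h4] at h3
      have e : a'⁻¹ * -a = -(a'⁻¹ * a) := by ring
      rw [e] at h3
      exact hC_of_anti _ _ (mul_ne_zero (inv_ne_zero ha') ha) h3
    · have h3 := (hya.inv ha' (neg_ne_zero.2 ha')).mulA hxa
      rw [← h4] at h3
      have e : a'⁻¹ * a = -((-a')⁻¹ * a) := by rw [inv_neg]; ring
      rw [e] at h3
      exact hC_of_anti _ _ (mul_ne_zero (inv_ne_zero (neg_ne_zero.2 ha')) ha) h3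
    · have h3 := (hya.inv ha' ha').mul hxa
      rw [← h4] at h3
      exact hC_of_scalar _ _ h3
  exact MulEquiv.ext fun x => s3 x (Set.mem_univ x)

end small


theorem finL (q : ℕ) [Fact q.Prime] : Finite ((Fin 2 → ZMod q) ≃ₗ[ZMod q] (Fin 2 → ZMod q)) :=
  Finite.of_injective (fun f => (f : (Fin 2 → ZMod q) → (Fin 2 → ZMod q))) DFunLike.coe_injective

theorem finAut {R : Type*} [Group R] [Finite R] : Finite (MulAut R) :=
  Finite.of_injective (fun f : MulAut R => (f : R → R)) DFunLike.coe_injective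

/-- Let q = 2^m + 1 be a prime other than 5. Then the automorphism group of the group of linear maps of F_q² of the forms (x, y) ↦ (a x, ± a⁻¹ y) and (x, y) ↦ (± a⁻¹ y, a x) with a ≠ 0 is itself a 2-group. -/
theorem result (q m : ℕ) [Fact q.Prime] (hq : q = 2 ^ m + 1) (hq5 : q ≠ 5)
    (T : Subgroup ((Fin 2 → ZMod q) ≃ₗ[ZMod q] (Fin 2 → ZMod q)))
    (hT : ∀ f, f ∈ T ↔ ∃ a s : ZMod q, a ≠ 0 ∧ (s = 1 ∨ s = -1) ∧
      ((∀ v, f v = ![a * v 0, s * a⁻¹ * v 1]) ∨ (∀ v, f v = ![s * a⁻¹ * v 1, a * v 0]))) :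
    IsPGroup 2 (MulAut T) := by
  have hT' : HT T := hT
  have key : ∀ (ψ : MulAut T) (r : ℕ), Odd r → ψ ^ r = 1 → ψ = 1 := by
    intro ψ r hodd hr
    rcases Nat.lt_or_ge m 3 with hm | hm
    · interval_cases m
      · have h2 : q = 2 := by simpa using hq
        subst h2
        exact key_two hT' ψ
      · have h3 : q = 3 := by simpa using hq
        subst h3
        exact key_three hT' ψ hodd hr
      · exact absurd (by simpa using hq) hq5
    · exact key_main hq hm hT' ψ hodd hr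
  have := finL q
  have : Finite (MulAut T) := finAut
  intro φ
  obtain ⟨k, r, hodd, hkr⟩ := Nat.exists_eq_two_pow_mul_odd (orderOf_pos φ).ne'
  refine ⟨k, ?_⟩
  have h1 : (φ ^ (2 ^ k)) ^ r = 1 := by rw [← pow_mul, ← hkr, pow_orderOf_eq_one]
  exact key (φ ^ (2 ^ k)) r hodd h1


end Cfsg.Agent.S3382
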