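import Mathlib
import Cfsg.Statements.S3383
import Cfsg.Agent.Helper1.Frobenius
import Cfsg.Agent.Helper4.Frobenius

set_option autoImplicit false
open Cfsg
open scoped Pointwise

namespace Cfsg.Agent.S3383

/-- Let H be a Frobenius complement in a finite group L and K the Frobenius kernel (as a subgroup). Then K is characteristic in L, and every normal subgroup of L either contains K or is contained in K. -/
theorem result {L : Type*} [Group L] [Finite L]
    (H : Subgroup L) (hH : Cfsg.IsFrobeniusComplement H)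
    (K : Subgroup L) (hK : (K : Set L) = Cfsg.frobeniusKernel H) :
    K.Characteristic ∧ ∀ N : Subgroup L, N.Normal → K ≤ N ∨ N ≤ K := by
  have hmemK : ∀ x : L, x ∈ K ↔ (x = 1 ∨ ∀ g : L, x ∉ MulAut.conj g • H) := by
    intro x
    rw [← SetLike.mem_coe, hK]; rfl
  obtain ⟨hcount, hmod⟩ := Cfsg.Agent.Helper1.frobenius_count H hH
  have hKcard : Nat.card K = H.index := by
    rw [← hcount]
    exact Nat.card_congr (Equiv.setCongr hK)
  have hcop : Nat.Coprime (Nat.card K) (Nat.card H) := by
    rw [hKcard]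
    have : H.index ≡ 1 [MOD Nat.card H] := hmod
    rw [Nat.Coprime, this.gcd_eq, Nat.gcd_one_left]
  -- not in `K` means a nontrivial conjugate into `H`
  have hnotK : ∀ x : L, x ∉ K → ∃ t : L, t⁻¹ * x * t ∈ H ∧ t⁻¹ * x * t ≠ 1 := by
    intro x hx
    rw [hmemK] at hx
    push Not at hx
    obtain ⟨hx1, t, ht⟩ := hx
    rw [Cfsg.Agent.Helper4.mem_conj_smul_iff] at ht
    refine ⟨t, ht, ?_⟩
    intro h
    apply hx1
    have : x = t * (t⁻¹ * x * t) * t⁻¹ := by group
    rw [this, h]; group
  -- `H ∩ K = 1`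
  have hHK : ∀ x : L, x ∈ H → x ∈ K → x = 1 := by
    intro x hxH hxK
    rcases (hmemK x).mp hxK with h | h
    · exact h
    · exfalso
      apply h 1
      rw [Cfsg.Agent.Helper4.mem_conj_smul_iff]
      simpa using hxH
  -- characterization by powers
  have hpowK : ∀ x : L, x ∈ K ↔ x ^ Nat.card K = 1 := by
    intro x
    constructor
    · intro hx
      have := pow_card_eq_one' (G := K) (x := ⟨x, hx⟩)
      exact congrArg Subtype.val this
    · intro hx
      by_contra hxK
      obtain ⟨t, htH, ht1⟩ := hnotK x hxK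
      have h1 : (t⁻¹ * x * t) ^ Nat.card K = 1 := by
        have : t⁻¹ * x * t = t⁻¹ * x * t⁻¹⁻¹ := by rw [inv_inv]
        rw [this, conj_pow, hx]; group
      have h2 : (t⁻¹ * x * t) ^ Nat.card H = 1 := by
        have := pow_card_eq_one' (G := H) (x := ⟨_, htH⟩)
        exact congrArg Subtype.val this
      have h3 : orderOf (t⁻¹ * x * t) = 1 :=
        Nat.eq_one_of_dvd_coprimes hcop (orderOf_dvd_of_pow_eq_one h1) (orderOf_dvd_of_pow_eq_one h2)
      exact ht1 (orderOf_eq_one_iff.mp h3)
  have hKn : K.Normal := by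
    constructor
    intro x hx g
    rw [hpowK] at hx ⊢
    rw [conj_pow, hx]; group
  refine ⟨?_, ?_⟩
  · rw [Subgroup.characteristic_iff_le_comap]
    intro ϕ x hx
    rw [Subgroup.mem_comap, hpowK]
    rw [hpowK] at hx
    change (ϕ x) ^ Nat.card K = 1
    rw [← map_pow, hx, map_one]
  · intro N hN
    by_cases hNK : N ≤ K
    · right; exact hNK
    left
    obtain ⟨n, hnN, hnK⟩ := SetLike.not_le_iff_exists.mp hNK
    obtain ⟨t, htH, ht1⟩ := hnotK n hnK
    set h := t⁻¹ * n * t with hh
    have hhN : h ∈ N := by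
      have := hN.conj_mem n hnN t⁻¹
      rwa [inv_inv] at this
    -- injection `K → K ⊓ N`
    let ψ : K → (K ⊓ N : Subgroup L) := fun v =>
      ⟨(v : L)⁻¹ * (h⁻¹ * v * h), by
        refine ⟨?_, ?_⟩
        · apply K.mul_mem (K.inv_mem v.2)
          have := hKn.conj_mem v v.2 h⁻¹
          rwa [inv_inv] at this
        · have h1 : (v : L)⁻¹ * h⁻¹ * v ∈ N := by
            have := hN.conj_mem h⁻¹ (N.inv_mem hhN) (v : L)⁻¹
            rwa [inv_inv] at this
          have : (v : L)⁻¹ * (h⁻¹ * v * h) = ((v : L)⁻¹ * h⁻¹ * v) * h := by group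
          rw [this]
          exact N.mul_mem h1 hhN⟩
    have hψ : Function.Injective ψ := by
      intro v w hvw
      have h1 : (v : L)⁻¹ * (h⁻¹ * v * h) = (w : L)⁻¹ * (h⁻¹ * w * h) := congrArg Subtype.val hvw
      -- `c = w v⁻¹` commutes with `h`
      set c := (w : L) * (v : L)⁻¹ with hc
      have h2 : c * h⁻¹ * c⁻¹ = h⁻¹ := by
        have e1 : (v : L)⁻¹ * h⁻¹ * v = (w : L)⁻¹ * h⁻¹ * w := by
          have := congrArg (fun z => z * h⁻¹) h1
          calc (v : L)⁻¹ * h⁻¹ * v = (v : L)⁻¹ * (h⁻¹ * v * h) * h⁻¹ := by group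
            _ = (w : L)⁻¹ * (h⁻¹ * w * h) * h⁻¹ := this
            _ = (w : L)⁻¹ * h⁻¹ * w := by group
        calc c * h⁻¹ * c⁻¹ = w * ((v : L)⁻¹ * h⁻¹ * v) * (w : L)⁻¹ := by rw [hc]; group
          _ = w * ((w : L)⁻¹ * h⁻¹ * w) * (w : L)⁻¹ := by rw [e1]
          _ = h⁻¹ := by group
      have h3 : c⁻¹ * h * c = h := by
        have : c * h * c⁻¹ = h := by
          have := congrArg (fun z => z⁻¹) h2
          simp only [mul_inv_rev, inv_inv] at this
          rw [← mul_assoc] at this
          exact this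
        calc c⁻¹ * h * c = c⁻¹ * (c * h * c⁻¹) * c := by rw [this]
          _ = h := by group
      have hcH : c ∈ H := by
        apply Cfsg.Agent.Helper1.mem_of_frobenius hH ht1 htH
        rw [Cfsg.Agent.Helper4.mem_conj_smul_iff, h3]
        exact htH
      have hcK : c ∈ K := K.mul_mem w.2 (K.inv_mem v.2)
      have hc1 := hHK c hcH hcK
      apply Subtype.ext
      have : (w : L) = c * v := by rw [hc]; group
      rw [this, hc1, one_mul]
    have hle : Nat.card K ≤ Nat.card (K ⊓ N : Subgroup L) := Nat.card_le_card_of_injective ψ hψ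
    have heq : K ⊓ N = K := Subgroup.eq_of_le_of_card_ge inf_le_left hle
    exact inf_eq_left.mp heq

end Cfsg.Agent.S3383
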