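import Cfsg.Statements.S3385
import Cfsg.Agent.S2858
import Cfsg.Agent.Helper1.Sims3F

set_option autoImplicit false
open Cfsg

namespace Cfsg.Agent.S3385

/-- Sims' Theorem on primitive groups with a suborbit of length 3. Let G be a finite group acting faithfully and primitively on a set Ω, and suppose the stabilizer of a point a has an orbit of length 3 on Ω. Then the stabilizer of a has order 2^k · 3 for some k ≤ 4. -/
theorem result {G : Type*} [Group G] [Finite G] {Ω : Type*} [MulAction G Ω] [FaithfulSMul G Ω]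
    (hprim : MulAction.IsPreprimitive G Ω) (a b : Ω)
    (h3 : Nat.card (MulAction.orbit (MulAction.stabilizer G a) b) = 3) :
    ∃ k : ℕ, k ≤ 4 ∧ Nat.card ↥(MulAction.stabilizer G a) = 2 ^ k * 3 := by
  have hgold : Cfsg.Agent.Helper1.Sims3.GoldHyp G := by
    intro P₁ P₂ _ _ hgen T hT h₁ h₂ h₃ h₄ h₅
    exact Cfsg.Agent.S2858.result P₁ P₂ hgen T hT h₁ h₂ h₃ h₄ h₅
  have hcard : ∀ {H : Type} [Group H] [Fintype H],
      Nonempty (MulAction.stabilizer G a ≃* H) →
      Nat.card ↥(MulAction.stabilizer G a) = Fintype.card H := by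
    intro H _ _ ⟨e⟩
    rw [Nat.card_congr e.toEquiv, Nat.card_eq_fintype_card]
  rcases Cfsg.Agent.Helper1.Sims3.sims_of_gold hprim a b h3 hgold with h | h | h | h | h
  · exact ⟨0, by norm_num, by rw [hcard h]; simp⟩
  · exact ⟨1, by norm_num, by rw [hcard h, Fintype.card_perm, Fintype.card_fin]; rfl⟩
  · exact ⟨2, by norm_num, by rw [hcard h, DihedralGroup.card]; rfl⟩
  · exact ⟨3, by norm_num, by rw [hcard h, Fintype.card_perm, Fintype.card_fin]; rfl⟩
  · exact ⟨4, by norm_num, by
      rw [hcard h, Fintype.card_prod, Fintype.card_perm, Fintype.card_fin]; simp; rfl⟩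

end Cfsg.Agent.S3385
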