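import Mathlib
import Cfsg.Statements.S3389
import Cfsg.Statements.S3389
-- import your own Cfsg.Agent.* helpers here

set_option autoImplicit false
open Cfsg

namespace Cfsg.Agent.S3389
open Cfsg

universe u v

open MulAction

variable {G : Type u} [Group G] {Ω : Type v} [MulAction G Ω]

/-- The centre acts on the fixed points of any element. -/
@[reducible] def centerAction (g : G) : MulAction (Subgroup.center G) (fixedBy Ω g) where
  smul z ω := ⟨(z : G) • (ω : Ω), by
    rw [mem_fixedBy, smul_smul, Subgroup.mem_center_iff.1 z.2 g, ← smul_smul]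
    congr 1
    exact ω.2⟩
  one_smul ω := Subtype.ext (one_smul G (ω : Ω))
  mul_smul z w ω := Subtype.ext (mul_smul (z : G) (w : G) (ω : Ω))

theorem part1 [FaithfulSMul G Ω] (htr : IsPretransitive G Ω) (g : G) :
    Nat.card (Subgroup.center G) ∣ Nat.card (fixedBy Ω g) := by
  let _ := centerAction (Ω := Ω) g
  have hfree : ∀ ω : fixedBy Ω g, stabilizer (Subgroup.center G) ω = ⊥ := by
    intro ω
    rw [eq_bot_iff]
    intro z hz
    rw [mem_stabilizer_iff] at hz
    have hz' : (z : G) • (ω : Ω) = ω := congrArg Subtype.val hz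
    rw [Subgroup.mem_bot]
    apply Subtype.ext
    apply FaithfulSMul.eq_of_smul_eq_smul (α := Ω)
    intro ω'
    obtain ⟨x, hx⟩ := exists_smul_eq G (ω : Ω) ω'
    rw [← hx, smul_smul, ← Subgroup.mem_center_iff.1 z.2 x, ← smul_smul, hz']
    simp
  have e := selfEquivOrbitsQuotientProd hfree
  rw [Nat.card_congr e, Nat.card_prod]
  exact dvd_mul_left _ _

theorem part3 [Finite G] [Finite Ω] (htr : IsPretransitive G Ω) (k : ℕ)
    (hfix : ∀ g : G, g ≠ 1 → Nat.card (fixedBy Ω g) ≤ k) (p : ℕ) (hp : p.Prime) (hkp : k < p)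
    (α : Ω) (hdiv : p ∣ Nat.card (stabilizer G α)) : ¬ p ∣ (stabilizer G α).index := by
  have := Fact.mk hp
  obtain ⟨x, hx⟩ := exists_prime_orderOf_dvd_card' p hdiv
  set P := Subgroup.zpowers (x : G) with hPdef
  have hP : IsPGroup p P := IsPGroup.of_card (n := 1) (by
    rw [Nat.card_zpowers, Subgroup.orderOf_coe, hx, pow_one])
  have hmod := hP.card_modEq_card_fixedPoints Ω
  have hx1 : (x : G) ≠ 1 := by
    intro h
    have : orderOf (x : G) = 1 := by rw [h, orderOf_one]
    rw [Subgroup.orderOf_coe, hx] at this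
    exact hp.one_lt.ne' this
  have hsub : (fixedPoints P Ω) ⊆ fixedBy Ω (x : G) := by
    intro ω hω
    exact hω ⟨x, Subgroup.mem_zpowers _⟩
  have hle : Nat.card (fixedPoints P Ω) ≤ k :=
    (Nat.card_mono (Set.toFinite _) hsub).trans (hfix _ hx1)
  have hα : α ∈ fixedPoints P Ω := by
    rintro ⟨u, hu⟩
    obtain ⟨n, rfl⟩ := Subgroup.mem_zpowers_iff.1 hu
    have : (x : G) ^ n ∈ stabilizer G α := Subgroup.zpow_mem _ x.2 n
    exact this
  have hpos : 0 < Nat.card (fixedPoints P Ω) := by
    have : Nonempty (fixedPoints P Ω) := ⟨⟨α, hα⟩⟩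
    exact Nat.card_pos
  rw [index_stabilizer_of_transitive]
  intro hdvd
  have h0 : Nat.card Ω ≡ 0 [MOD p] := Nat.modEq_zero_iff_dvd.2 hdvd
  have h1 : Nat.card (fixedPoints P Ω) ≡ 0 [MOD p] := hmod.symm.trans h0
  have h2 := Nat.modEq_zero_iff_dvd.1 h1
  have := Nat.le_of_dvd hpos h2
  omega

/-- An element swapping two distinct points has even order. -/
theorem even_order_of_swap {s : G} {α β : Ω} (hαβ : α ≠ β) (h1 : s • α = β) (h2 : s • β = α) :
    2 ∣ orderOf s := by
  have key : ∀ m : ℕ, s ^ (2 * m) • α = α ∧ s ^ (2 * m + 1) • α = β := by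
    intro m
    induction m with
    | zero => simp [h1]
    | succ m ih =>
      have e1 : s ^ (2 * (m + 1)) • α = α := by
        have : 2 * (m + 1) = (2 * m + 1) + 1 := by ring
        rw [this, pow_succ', mul_smul, ih.2, h2]
      refine ⟨e1, ?_⟩
      rw [pow_succ', mul_smul, e1, h1]
  by_contra hodd
  have hodd' : orderOf s % 2 = 1 := by omega
  have : orderOf s = 2 * (orderOf s / 2) + 1 := by omega
  have h := (key (orderOf s / 2)).2
  rw [← this, pow_orderOf_eq_one, one_smul] at h
  exact hαβ h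

/-- If no element has even order, an element stabilising a two-point set fixes both points. -/
theorem fix_of_perm_pair (hno : ∀ s : G, ¬ 2 ∣ orderOf s) {u : G} {α β : Ω} (hαβ : α ≠ β)
    (h1 : u • α = α ∨ u • α = β) (h2 : u • β = α ∨ u • β = β) : u • α = α ∧ u • β = β := by
  rcases h1 with h1 | h1
  · refine ⟨h1, ?_⟩
    rcases h2 with h2 | h2
    · exfalso
      have : u • β = u • α := by rw [h1, h2]
      exact hαβ (smul_left_cancel u this).symm
    · exact h2
  · exfalso
    rcases h2 with h2 | h2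
    · exact hno u (even_order_of_swap hαβ h1 h2)
    · have : u • β = u • α := by rw [h1, h2]
      exact hαβ (smul_left_cancel u this).symm

/-- an element commuting with `w` permutes the fixed points of `w` -/
theorem smul_mem_fixedBy_of_commute {u w : G} (h : Commute u w) {ω : Ω} (hω : ω ∈ fixedBy Ω w) :
    u • ω ∈ fixedBy Ω w := by
  rw [mem_fixedBy, smul_smul, ← h.eq, ← smul_smul]
  congr 1

theorem part2 [Finite G] [Finite Ω] (htr : IsPretransitive G Ω)
    (hfix : ∀ g : G, g ≠ 1 → Nat.card (fixedBy Ω g) ≤ 2) (g : G) (hg1 : g ≠ 1)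
    (hg : Nat.card (fixedBy Ω g) = 2) : 2 ∣ Nat.card G := by
  by_contra hodd
  have hno : ∀ s : G, ¬ 2 ∣ orderOf s := fun s h => hodd (h.trans (orderOf_dvd_natCard s))
  rw [Nat.card_coe_set_eq, Set.ncard_eq_two] at hg
  obtain ⟨α, β, hαβ, hFix⟩ := hg
  -- a general fact: a non-identity element fixing α and β has fixed point set {α, β}
  have hfixset : ∀ w : G, w ≠ 1 → w • α = α → w • β = β → fixedBy Ω w = {α, β} := by
    intro w hw1 hwα hwβ
    symm
    apply Set.eq_of_subset_of_ncard_le
    · intro ω hω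
      rcases hω with rfl | rfl
      · exact hwα
      · exact hwβ
    · rw [Set.ncard_pair hαβ, ← Nat.card_coe_set_eq]
      exact hfix w hw1
    · exact Set.toFinite _
  have hmemT : ∀ (w : G) (ω : Ω), fixedBy Ω w = {α, β} → ω ∈ fixedBy Ω w → ω = α ∨ ω = β := by
    intro w ω hw hω
    rw [hw] at hω
    exact hω
  -- a prime order element
  have hord : orderOf g ≠ 1 := by rwa [Ne, orderOf_eq_one_iff]
  obtain ⟨p, hp, hpdvd⟩ := Nat.exists_prime_and_dvd hord
  have := Fact.mk hp
  set g₁ := g ^ (orderOf g / p) with hg₁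
  have hg₁ord : orderOf g₁ = p := orderOf_pow_orderOf_div (orderOf_pos g).ne' hpdvd
  have hg₁1 : g₁ ≠ 1 := by
    intro h
    rw [h, orderOf_one] at hg₁ord
    exact hp.one_lt.ne hg₁ord
  have hgα : g • α = α := by
    have : α ∈ fixedBy Ω g := by rw [hFix]; simp
    exact this
  have hgβ : g • β = β := by
    have : β ∈ fixedBy Ω g := by rw [hFix]; simp
    exact this
  have hg₁α : g₁ • α = α :=
    mem_stabilizer_iff.1 (Subgroup.pow_mem _ (mem_stabilizer_iff.2 hgα) _)
  have hg₁β : g₁ • β = β :=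
    mem_stabilizer_iff.1 (Subgroup.pow_mem _ (mem_stabilizer_iff.2 hgβ) _)
  have hFix₁ := hfixset g₁ hg₁1 hg₁α hg₁β
  -- Sylow subgroup
  have hzp : IsPGroup p (Subgroup.zpowers g₁) := IsPGroup.of_card (n := 1) (by
    rw [Nat.card_zpowers, hg₁ord, pow_one])
  obtain ⟨P, hP⟩ := hzp.exists_le_sylow
  have hg₁P : g₁ ∈ (P : Subgroup G) := hP (Subgroup.mem_zpowers g₁)
  have : Nontrivial (P : Subgroup G) := ⟨⟨⟨g₁, hg₁P⟩, 1, fun h => hg₁1 (congrArg Subtype.val h)⟩⟩
  have hcn := P.isPGroup'.center_nontrivial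
  obtain ⟨⟨z, hzc⟩, hz1⟩ := exists_ne (1 : Subgroup.center (P : Subgroup G))
  have hz1' : (z : G) ≠ 1 := by
    intro h
    apply hz1
    apply Subtype.ext
    apply Subtype.ext
    exact h
  have hzcomm : ∀ u ∈ (P : Subgroup G), Commute u (z : G) := by
    intro u hu
    have := Subgroup.mem_center_iff.1 hzc ⟨u, hu⟩
    exact congrArg Subtype.val this
  -- z fixes α and β
  have hzfix : (z : G) • α = α ∧ (z : G) • β = β := by
    have hc : Commute (z : G) g₁ := (hzcomm g₁ hg₁P).symm
    apply fix_of_perm_pair hno hαβ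
    · exact hmemT g₁ _ hFix₁ (smul_mem_fixedBy_of_commute hc hg₁α)
    · exact hmemT g₁ _ hFix₁ (smul_mem_fixedBy_of_commute hc hg₁β)
  have hFixz := hfixset (z : G) hz1' hzfix.1 hzfix.2
  -- all of P fixes α and β
  have hPfix : ∀ u ∈ (P : Subgroup G), u • α = α ∧ u • β = β := by
    intro u hu
    have hc := hzcomm u hu
    apply fix_of_perm_pair hno hαβ
    · exact hmemT (z : G) _ hFixz (smul_mem_fixedBy_of_commute hc hzfix.1)
    · exact hmemT (z : G) _ hFixz (smul_mem_fixedBy_of_commute hc hzfix.2)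
  -- the normalizer of P fixes α and β
  have hNfix : ∀ n ∈ Subgroup.normalizer ((P : Subgroup G) : Set G), n • α = α := by
    intro n hn
    have hn' : n⁻¹ ∈ Subgroup.normalizer ((P : Subgroup G) : Set G) := Subgroup.inv_mem _ hn
    have hz' : n⁻¹ * (z : G) * n⁻¹⁻¹ ∈ (P : Subgroup G) :=
      (Subgroup.mem_normalizer_iff.1 hn' (z : G)).1 z.2
    rw [inv_inv] at hz'
    have key : ∀ ω : Ω, ω = α ∨ ω = β → n • ω = α ∨ n • ω = β := by
      intro ω hω
      apply hmemT (z : G) _ hFixz
      rw [mem_fixedBy]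
      have h1 : (n⁻¹ * (z : G) * n) • ω = ω := by
        rcases hω with rfl | rfl
        · exact (hPfix _ hz').1
        · exact (hPfix _ hz').2
      calc (z : G) • n • ω = n • (n⁻¹ * (z : G) * n) • ω := by
            simp only [smul_smul]; congr 1; group
        _ = n • ω := by rw [h1]
    exact (fix_of_perm_pair hno hαβ (key α (Or.inl rfl)) (key β (Or.inr rfl))).1
  -- conjugate
  obtain ⟨x, hx⟩ := exists_smul_eq G α β
  have hPle : (P : Subgroup G) ≤ stabilizer G β := fun u hu => (hPfix u hu).2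
  have hQle : ((x • P : Sylow p G) : Subgroup G) ≤ stabilizer G β := by
    intro u hu
    rw [Sylow.coe_subgroup_smul, Subgroup.mem_pointwise_smul_iff_inv_smul_mem] at hu
    have hu' : x⁻¹ * u * x ∈ (P : Subgroup G) := by
      simpa [MulAut.smul_def] using hu
    have h1 := (hPfix _ hu').1
    rw [mem_stabilizer_iff, ← hx]
    calc u • x • α = x • (x⁻¹ * u * x) • α := by
          simp only [smul_smul]; congr 1; group
      _ = x • α := by rw [h1]
  obtain ⟨y, hy⟩ := exists_smul_eq (stabilizer G β) ((x • P : Sylow p G).subtype hQle)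
    (P.subtype hPle)
  rw [Sylow.smul_subtype] at hy
  have hy' : y • (x • P : Sylow p G) = P := Sylow.subtype_injective hy
  have hyx : ((y : G) * x) • P = P := by
    rw [mul_smul]
    exact hy'
  have hmem : (y : G) * x ∈ Subgroup.normalizer ((P : Subgroup G) : Set G) :=
    Sylow.smul_eq_iff_mem_normalizer.1 hyx
  have h1 := hNfix _ hmem
  rw [mul_smul, hx] at h1
  have h2 : (y : G) • β = β := y.2
  rw [h2] at h1
  exact hαβ h1.symm

/-- Let G be a finite group acting faithfully and transitively on a finite set Ω with fixity k ≥ 1: every non-identity element fixes at most k points and some non-identity element fixes exactly k points. Then |Z(G)| divides k; if k = 2 then |G| is even; and for every prime p > k dividing |G| and every point α, either p does not divide |G_α| or G_α contains a Sylow p-subgroup of G. -/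
theorem result {G : Type*} [Group G] [Finite G] {Ω : Type*} [Fintype Ω] [MulAction G Ω] [FaithfulSMul G Ω]
    (htr : MulAction.IsPretransitive G Ω) (k : ℕ) (hk : 1 ≤ k)
    (hfix : ∀ g : G, g ≠ 1 → Nat.card (MulAction.fixedBy Ω g) ≤ k) (hex : ∃ g : G, g ≠ 1 ∧ Nat.card (MulAction.fixedBy Ω g) = k) :
    Nat.card (Subgroup.center G) ∣ k ∧ (k = 2 → 2 ∣ Nat.card G) ∧
      ∀ (p : ℕ), p.Prime → k < p → p ∣ Nat.card G → ∀ α : Ω,
        ¬ p ∣ Nat.card (MulAction.stabilizer G α) ∨ ¬ p ∣ (MulAction.stabilizer G α).index := by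
  obtain ⟨g, hg1, hg⟩ := hex
  refine ⟨?_, ?_, ?_⟩
  · rw [← hg]
    exact part1 htr g
  · intro hk2
    subst hk2
    exact part2 htr hfix g hg1 hg
  · intro p hp hkp _ α
    by_cases hdiv : p ∣ Nat.card (stabilizer G α)
    · exact Or.inr (part3 htr k hfix p hp hkp α hdiv)
    · exact Or.inl hdiv


end Cfsg.Agent.S3389
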