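import Mathlib
import Cfsg.Statements.S3391
import Cfsg.Agent.Helper8.SzFixC

set_option autoImplicit false
open Cfsg

namespace Cfsg.Agent.S3391

/-- Let q = 2^{2m+1} ≥ 8 and let G be isomorphic to the Suzuki group Sz(q). If G acts faithfully and transitively on a finite set Ω with fixity 2 (every non-identity element fixes at most two points, and some fixes exactly two), then either |Ω| = q² + 1 and the action is 2-transitive, or |Ω| = q²(q² + 1) and the point stabilizers have order q − 1. -/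
theorem result {G : Type*} [Group G] [Finite G] (F : Type) [Field F] [Fintype F] (m : ℕ) (hm : 1 ≤ m) (hF : Fintype.card F = 2 ^ (2 * m + 1))
    (e : G ≃* ↥(Cfsg.Lie.Sz F (2 ^ (m + 1)))) {Ω : Type*} [Fintype Ω] [MulAction G Ω] [FaithfulSMul G Ω] (htr : MulAction.IsPretransitive G Ω)
    (hfix : ∀ g : G, g ≠ 1 → Nat.card (MulAction.fixedBy Ω g) ≤ 2) (hex : ∃ g : G, g ≠ 1 ∧ Nat.card (MulAction.fixedBy Ω g) = 2) :
    (Fintype.card Ω = Fintype.card F ^ 2 + 1 ∧ MulAction.IsMultiplyPretransitive G Ω 2) ∨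
    (Fintype.card Ω = Fintype.card F ^ 2 * (Fintype.card F ^ 2 + 1) ∧ ∀ α : Ω, Nat.card (MulAction.stabilizer G α) = Fintype.card F - 1) := by
  classical
  have h : Cfsg.Agent.Helper7.Sz.FH F m := ⟨hm, hF⟩
  let ψ : Cfsg.Sz F m ≃* G := (Cfsg.Agent.Helper7.SzLie.lieEquiv h).trans e.symm
  let _ : MulAction (Cfsg.Sz F m) Ω := MulAction.compHom Ω (ψ : Cfsg.Sz F m →* G)
  have hsmul : ∀ (s : Cfsg.Sz F m) (ω : Ω), s • ω = ψ s • ω := fun _ _ => rfl
  have htr' : MulAction.IsPretransitive (Cfsg.Sz F m) Ω := by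
    constructor
    intro x y
    obtain ⟨g, hg⟩ := htr.exists_smul_eq x y
    refine ⟨ψ.symm g, ?_⟩
    rw [hsmul, ψ.apply_symm_apply]
    exact hg
  have hfb : ∀ s : Cfsg.Sz F m, MulAction.fixedBy Ω s = MulAction.fixedBy Ω (ψ s) := fun s => rfl
  have hfix' : ∀ s : Cfsg.Sz F m, s ≠ 1 → (MulAction.fixedBy Ω s).ncard ≤ 2 := by
    intro s hs
    rw [hfb, ← Nat.card_coe_set_eq]
    exact hfix (ψ s) (fun e => hs ((map_eq_one_iff ψ ψ.injective).1 e))
  have hex' : ∃ s : Cfsg.Sz F m, s ≠ 1 ∧ (MulAction.fixedBy Ω s).ncard = 2 := by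
    obtain ⟨g, hg1, hg2⟩ := hex
    refine ⟨ψ.symm g, ?_, ?_⟩
    · intro e
      apply hg1
      have := congrArg ψ e
      rwa [ψ.apply_symm_apply, map_one] at this
    · rw [hfb, ψ.apply_symm_apply, ← Nat.card_coe_set_eq]
      exact hg2
  have main := Cfsg.Agent.Helper8.SzFix.fixity_two h hfix' hex'
  rw [hF]
  rcases main with ⟨h1, h2⟩ | ⟨h1, h2⟩
  · left
    refine ⟨?_, ?_⟩
    · rw [← Nat.card_eq_fintype_card]
      exact h1
    · rw [MulAction.is_two_pretransitive_iff] at h2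
      rw [MulAction.is_two_pretransitive_iff]
      intro a b c d hab hcd
      obtain ⟨s, hs1, hs2⟩ := h2 hab hcd
      exact ⟨ψ s, hs1, hs2⟩
  · right
    refine ⟨?_, ?_⟩
    · rw [← Nat.card_eq_fintype_card]
      exact h1
    · intro α
      rw [← h2 α]
      apply Nat.card_congr
      refine ⟨fun g => ⟨ψ.symm g.1, ?_⟩, fun s => ⟨ψ s.1, ?_⟩, ?_, ?_⟩
      · rw [MulAction.mem_stabilizer_iff, hsmul, ψ.apply_symm_apply]
        exact MulAction.mem_stabilizer_iff.1 g.2
      · rw [MulAction.mem_stabilizer_iff, ← hsmul]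
        exact MulAction.mem_stabilizer_iff.1 s.2
      · intro g
        apply Subtype.ext
        exact ψ.apply_symm_apply _
      · intro s
        apply Subtype.ext
        exact ψ.symm_apply_apply _

end Cfsg.Agent.S3391
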