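-- Statement S3413: a finite group with the commuting graph of M11 is isomorphic to M11
-- (corollary of S0420 = uniqueness of the simple group of order 7920, and of S2490).
import Cfsg.Statements.S3413
import Cfsg.Agent.S0420
import Cfsg.Agent.Helper8.M11Recog
import Cfsg.Agent.Helper8.M11Commute

set_option autoImplicit false
set_option linter.style.haveILetI false
open Cfsg

namespace Cfsg.Agent.S3413

open Cfsg.Agent.Helper8.M11Recog

/-- Let H be a finite group whose commuting graph (vertices the non-identity elements, two joined when they commute) is isomorphic to that of the Mathieu group M_11: there is a bijection between the non-identity elements of H and of M_11 under which two elements commute exactly when their images do. Then H ≅ M_11. -/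
theorem result {H : Type*} [Group H] [Finite H]
    (f : {h : H // h ≠ 1} ≃ {g : ↥Cfsg.Spor.M11 // g ≠ 1})
    (hf : ∀ x y : {h : H // h ≠ 1}, (x : H) * y = y * x ↔ ((f x) : ↥Cfsg.Spor.M11) * (f y) = (f y) * (f x)) :
    Nonempty (H ≃* ↥Cfsg.Spor.M11) := by
  have hM : IsM11 ↥Cfsg.Spor.M11 := h8_isM11_sporM11
  haveI : Finite ↥Cfsg.Spor.M11 := Nat.finite_of_card_ne_zero (by rw [hM.2]; norm_num)
  have hcard : Nat.card H = 7920 := by
    rw [h8_card_eq_of_commuting_equiv f, hM.2]
  have hcent : ∀ z : H, z ≠ 1 → 11 ∣ Nat.card (Subgroup.centralizer ({z} : Set H)) →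
      Nat.card (Subgroup.centralizer ({z} : Set H)) = 11 := by
    intro z hz h11
    have he := h8_card_centralizer_of_commuting_equiv f hf ⟨z, hz⟩
    rw [he] at h11 ⊢
    exact h8_card_centralizer_of_eleven_dvd hM _ (f ⟨z, hz⟩).2 h11
  have hH : IsM11 H := h8_isM11_of_cent hcard hcent
  obtain ⟨e1⟩ := Cfsg.Agent.S0420.result hH Spor.squareDodecad
    Cfsg.Agent.Helper9.Golay.sqDod_mem (some 0) Cfsg.Agent.Helper9.Golay.zero_mem_sqDod
  exact ⟨e1.trans h8_sporM11Equiv.symm⟩

end Cfsg.Agent.S3413
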