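import Mathlib
import Cfsg.Statements.S3419
import Cfsg.Agent.Helper1.Hall
import Cfsg.Agent.Helper3.TwoPrimes
import Cfsg.Agent.Helper3.AltSpecA
import Cfsg.Agent.Helper3.AltSpecB
-- import your own Cfsg.Agent.* helpers here

set_option autoImplicit false
open Cfsg

namespace Cfsg.Agent.S3419
open Cfsg

open Cfsg.Agent.Helper3.AltSpec

theorem core {G : Type*} [Group G] [Finite G] [Group.IsSolvable G] (n p r b k : ℕ)
    (hp : p.Prime) (hr : r.Prime) (hne : p ≠ r) (hsum : n < p + r) (hb : 1 ≤ b)
    (hcard : Nat.card G = p * r ^ b * k) (hcop : (p * r ^ b).Coprime k)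
    (h1 : ∀ c, 1 ≤ c → c ≤ b → ¬ p ∣ r ^ c - 1) (h2 : ¬ r ∣ p - 1)
    (hspec : Set.range (orderOf : G → ℕ) =
      Set.range (orderOf : ↥(alternatingGroup (Fin n)) → ℕ)) : False := by
  obtain ⟨-, hD⟩ := Cfsg.Agent.Helper1.hallProp_of_solvable (Nat.card G) G rfl (p * r ^ b) k
    hcard hcop
  obtain ⟨H, hH, -⟩ := hD ⊥ (by simp)
  obtain ⟨h, hh⟩ := exists_orderOf_mul (H := H) p r b hp hr hne hb hH h1 h2
  have hmem : p * r ∈ Set.range (orderOf : G → ℕ) := ⟨(h : G), by rw [Subgroup.orderOf_coe, hh]⟩
  rw [hspec] at hmem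
  obtain ⟨σ, hσ⟩ := hmem
  exact orderOf_ne_mul n p r hp hr hne hsum (σ : Equiv.Perm (Fin n))
    (by rw [Subgroup.orderOf_coe, hσ])

theorem arith (n p r : ℕ) (hn : 5 ≤ n) (hp : p.Prime) (hr : r.Prime) (hrp : r < p) (hpn : p ≤ n)
    (hnr : n < 2 * r) :
    ∃ k, n.factorial / 2 = p * r ^ 1 * k ∧ (p * r ^ 1).Coprime k := by
  have h2 : 2 ∣ n.factorial := Nat.dvd_factorial (by norm_num) (by omega)
  have hpd : p ∣ n.factorial := (Nat.Prime.dvd_factorial hp).2 hpn
  have hrd : r ∣ n.factorial := (Nat.Prime.dvd_factorial hr).2 (by omega)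
  have c1 : Nat.Coprime p r := (Nat.coprime_primes hp hr).2 (by omega)
  have c2 : Nat.Coprime 2 p := (Nat.coprime_primes Nat.prime_two hp).2 (by omega)
  have c3 : Nat.Coprime 2 r := (Nat.coprime_primes Nat.prime_two hr).2 (by omega)
  have hprd : p * r ∣ n.factorial := Nat.Coprime.mul_dvd_of_dvd_of_dvd c1 hpd hrd
  have h2pr : 2 * (p * r) ∣ n.factorial :=
    Nat.Coprime.mul_dvd_of_dvd_of_dvd (Nat.Coprime.mul_right c2 c3) h2 hprd
  obtain ⟨k, hk⟩ := h2pr
  refine ⟨k, ?_, ?_⟩
  · rw [hk, pow_one, mul_assoc 2, Nat.mul_div_cancel_left _ (by norm_num)]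
  · rw [pow_one]
    apply Nat.Coprime.mul_left
    · rw [Nat.Prime.coprime_iff_not_dvd hp]
      intro hpk
      obtain ⟨t, rfl⟩ := hpk
      exact not_sq_dvd_factorial n p hp hpn (by omega) ⟨2 * r * t, by rw [hk]; ring⟩
    · rw [Nat.Prime.coprime_iff_not_dvd hr]
      intro hrk
      obtain ⟨t, rfl⟩ := hrk
      exact not_sq_dvd_factorial n r hr (by omega) hnr ⟨2 * p * t, by rw [hk]; ring⟩

theorem general {G : Type*} [Group G] [Finite G] [Group.IsSolvable G] (n p r : ℕ) (hn : 5 ≤ n)
    (hp : p.Prime) (hr : r.Prime) (hrp : r < p) (hpn : p ≤ n) (hnr : n < 2 * r)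
    (hcard : Nat.card G = n.factorial / 2)
    (hspec : Set.range (orderOf : G → ℕ) =
      Set.range (orderOf : ↥(alternatingGroup (Fin n)) → ℕ)) : False := by
  obtain ⟨k, hk1, hk2⟩ := arith n p r hn hp hr hrp hpn hnr
  refine core n p r 1 k hp hr (by omega) (by omega) le_rfl (hcard.trans hk1) hk2 ?_ ?_ hspec
  · intro c hc1 hc2 hdvd
    have hc : c = 1 := by omega
    subst hc
    rw [pow_one] at hdvd
    have h3 := hr.two_le
    have := Nat.le_of_dvd (by omega) hdvd
    omega
  · intro hdvd
    obtain ⟨t, ht⟩ := hdvd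
    have h3 := hr.two_le
    rcases Nat.lt_or_ge t 2 with h | h
    · interval_cases t
      · have := hp.two_le
        omega
      · have hp1 : p = r + 1 := by omega
        rcases hr.eq_two_or_odd with h4 | h4
        · omega
        · have h5 : 2 ∣ p := by omega
          rcases (Nat.dvd_prime hp).1 h5 with h6 | h6
          · omega
          · omega
    · have : r * 2 ≤ r * t := Nat.mul_le_mul_left r h
      omega

/-- Let n ≥ 5 and let G be a finite group with the same order and the same set of element orders as the alternating group of degree n. Then G is not solvable. -/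
theorem result {G : Type*} [Group G] [Finite G] (n : ℕ) (hn : 5 ≤ n)
    (hcard : Nat.card G = Nat.card ↥(alternatingGroup (Fin n)))
    (hspec : Set.range (orderOf : G → ℕ) = Set.range (orderOf : ↥(alternatingGroup (Fin n)) → ℕ)) :
    ¬ Group.IsSolvable G := by
  intro hsolv
  have hN : Nat.card (alternatingGroup (Fin n)) = n.factorial / 2 := by
    have : Nontrivial (Fin n) := Fin.nontrivial_iff_two_le.2 (by omega)
    rw [nat_card_alternatingGroup]
    simp
  rw [hN] at hcard
  by_cases h11 : 11 ≤ n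
  · obtain ⟨p, r, hp, hr, hrp, hpn, hnr⟩ := Cfsg.Agent.Helper3.TwoPrimes.exists_two_primes n h11
    exact general n p r hn hp hr hrp hpn hnr hcard hspec
  push Not at h11
  interval_cases n
  · exact general 5 5 3 hn (by norm_num) (by norm_num) (by norm_num) (by norm_num) (by norm_num)
      hcard hspec
  · refine core 6 5 3 2 8 (by norm_num) (by norm_num) (by norm_num) (by norm_num) (by norm_num)
      (hcard.trans (by decide)) (by norm_num) ?_ (by norm_num) hspec
    intro c hc1 hc2
    interval_cases c <;> norm_num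
  · exact general 7 7 5 hn (by norm_num) (by norm_num) (by norm_num) (by norm_num) (by norm_num)
      hcard hspec
  · exact general 8 7 5 hn (by norm_num) (by norm_num) (by norm_num) (by norm_num) (by norm_num)
      hcard hspec
  · exact general 9 7 5 hn (by norm_num) (by norm_num) (by norm_num) (by norm_num) (by norm_num)
      hcard hspec
  · refine core 10 7 5 2 10368 (by norm_num) (by norm_num) (by norm_num) (by norm_num)
      (by norm_num) (hcard.trans (by decide)) (by norm_num) ?_ (by norm_num) hspec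
    intro c hc1 hc2
    interval_cases c <;> norm_num


end Cfsg.Agent.S3419
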