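import Mathlib
import Cfsg.Statements.S3420
import Cfsg.Agent.Helper4.MinNormalPower
import Cfsg.Agent.Helper3.TwoPrimes
import Cfsg.Agent.Helper3.AltSpecA
import Cfsg.Agent.Helper3.AltSpecB
import Cfsg.Agent.Helper3.AltSpecC
-- import your own Cfsg.Agent.* helpers here

set_option autoImplicit false
open Cfsg

namespace Cfsg.Agent.S3420
open Cfsg

open Cfsg.Agent.Helper3.AltSpec

theorem key1 (n q : ℕ) (hn : 11 ≤ n) (hq : q.Prime) (h1 : n < 2 * q) (h2 : q ≤ n) :
    q ∣ n.factorial / 2 ∧ ¬ q ^ 2 ∣ n.factorial / 2 := by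
  have h2d : 2 ∣ n.factorial := Nat.dvd_factorial (by norm_num) (by omega)
  have hqd : q ∣ n.factorial := (Nat.Prime.dvd_factorial hq).2 h2
  have c2 : Nat.Coprime q 2 := (Nat.coprime_primes hq Nat.prime_two).2 (by omega)
  have hmul : 2 * (n.factorial / 2) = n.factorial := Nat.mul_div_cancel' h2d
  constructor
  · apply c2.dvd_of_dvd_mul_left
    rw [hmul]
    exact hqd
  · intro h
    exact not_sq_dvd_factorial n q hq h2 h1 (h.trans ⟨2, by rw [mul_comm, hmul]⟩)

theorem key2 (n p q : ℕ) (hn : 11 ≤ n) (hp : p.Prime) (hq : q.Prime) (hp2 : p ≤ n)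
    (hq1 : n < 2 * q) (hne : p ≠ q) : ¬ q ∣ p - 1 := by
  intro hdvd
  obtain ⟨t, ht⟩ := hdvd
  rcases Nat.lt_or_ge t 2 with h | h
  · interval_cases t
    · have := hp.two_le
      omega
    · have hp1 : p = q + 1 := by
        have := hp.two_le
        omega
      rcases hq.eq_two_or_odd with h4 | h4
      · omega
      · have h5 : 2 ∣ p := by omega
        rcases (Nat.dvd_prime hp).1 h5 with h6 | h6
        · omega
        · omega
  · have : q * 2 ≤ q * t := Nat.mul_le_mul_left q h
    omega

/-- Let n ≥ 11 and let G be a finite group with the same order and the same set of element orders as the alternating group of degree n. Then G has normal subgroups N < H such that H/N is a non-abelian simple group whose order is divisible by every prime p with n/2 < p ≤ n. -/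
theorem result {G : Type*} [Group G] [Finite G] (n : ℕ) (hn : 11 ≤ n)
    (hcard : Nat.card G = Nat.card ↥(alternatingGroup (Fin n)))
    (hspec : Set.range (orderOf : G → ℕ) = Set.range (orderOf : ↥(alternatingGroup (Fin n)) → ℕ)) :
    ∃ (N H : Subgroup G) (_ : N.Normal), H.Normal ∧ N < H ∧
      IsSimpleGroup (↥H ⧸ N.subgroupOf H) ∧ ¬ IsMulCommutative (↥H ⧸ N.subgroupOf H) ∧
      ∀ p : ℕ, p.Prime → n < 2 * p → p ≤ n → p ∣ Nat.card (↥H ⧸ N.subgroupOf H) := by
  classical
  have hN : Nat.card (alternatingGroup (Fin n)) = n.factorial / 2 := by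
    have : Nontrivial (Fin n) := Fin.nontrivial_iff_two_le.2 (by omega)
    rw [nat_card_alternatingGroup]
    simp
  rw [hN] at hcard
  have key3 : ∀ p q : ℕ, p.Prime → q.Prime → n < 2 * p → n < 2 * q → p ≠ q →
      ∀ g : G, orderOf g ≠ p * q := by
    intro p q hp hq hp1 hq1 hne g hg
    have hmem : p * q ∈ Set.range (orderOf : G → ℕ) := ⟨g, hg⟩
    rw [hspec] at hmem
    obtain ⟨σ, hσ⟩ := hmem
    exact orderOf_ne_mul n p q hp hq hne (by omega) (σ : Equiv.Perm (Fin n))
      (by rw [Subgroup.orderOf_coe, hσ])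
  obtain ⟨p, r, hp, hr, hrp, hpn, hnr⟩ := Cfsg.Agent.Helper3.TwoPrimes.exists_two_primes n hn
  have hp1 := key1 n p hn hp (by omega) hpn
  rw [← hcard] at hp1
  -- choose `N`
  have hne : Nonempty {N : Subgroup G // N.Normal ∧ p ∣ N.index} :=
    ⟨⟨⊥, inferInstance, by rw [Subgroup.index_bot]; exact hp1.1⟩⟩
  obtain ⟨⟨N, hNn, hNp⟩, hNmax⟩ :=
    Finite.exists_max (fun N : {N : Subgroup G // N.Normal ∧ p ∣ N.index} => Nat.card (N.1))
  have hmax : ∀ H : Subgroup G, H.Normal → N ≤ H → p ∣ H.index → H = N := by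
    intro H hH hNH hpH
    have := hNmax ⟨H, hH, hpH⟩
    exact (Subgroup.eq_of_le_of_card_ge hNH this).symm
  have hQcard : Nat.card (G ⧸ N) = N.index := (Subgroup.index_eq_card N).symm
  have hnt : Nontrivial (G ⧸ N) := by
    rw [← Finite.one_lt_card_iff_nontrivial, hQcard]
    have h1 := Nat.le_of_dvd (Nat.pos_of_ne_zero N.index_ne_zero_of_finite) hNp
    have := hp.two_le
    omega
  obtain ⟨M, hMn, hMne, hMmin⟩ := Cfsg.Agent.Helper4.exists_isMinNormal (G ⧸ N)
  set H := M.comap (QuotientGroup.mk' N) with hH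
  have hHn : H.Normal := hMn.comap _
  have hNH : N ≤ H := by
    intro x hx
    rw [hH, Subgroup.mem_comap]
    have e1 : QuotientGroup.mk' N x = 1 := (QuotientGroup.eq_one_iff _).2 hx
    rw [e1]
    exact M.one_mem
  have hNltH : N < H := by
    refine lt_of_le_of_ne hNH (fun h => hMne ?_)
    rw [eq_bot_iff]
    intro y hy
    obtain ⟨g, rfl⟩ := QuotientGroup.mk'_surjective N y
    have hg : g ∈ H := hy
    rw [← h] at hg
    rw [Subgroup.mem_bot]
    exact (QuotientGroup.eq_one_iff _).2 hg
  have hHidx : H.index = M.index :=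
    Subgroup.index_comap_of_surjective M (QuotientGroup.mk'_surjective N)
  have hpM : p ∣ Nat.card M := by
    have h1 : ¬ p ∣ H.index := fun h => hNltH.ne (hmax H hHn hNH h).symm
    have h2 : Nat.card M * M.index = Nat.card (G ⧸ N) := M.card_mul_index
    rw [hQcard] at h2
    rw [hHidx] at h1
    have : p ∣ Nat.card M * M.index := h2 ▸ hNp
    exact ((Nat.Prime.dvd_mul hp).1 this).resolve_right h1
  have hMG : Nat.card M ∣ Nat.card G :=
    (Subgroup.card_subgroup_dvd_card M).trans (by rw [hQcard]; exact N.index_dvd_card)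
  -- `M` is simple
  obtain ⟨T, hT, m, hTs, hm, ⟨e⟩⟩ := Cfsg.Agent.Helper4.minNormal_mulEquiv_pi_simple M hMne hMmin
  have hcardM : Nat.card M = Nat.card T ^ m := by
    rw [Nat.card_congr e.toEquiv, Nat.card_fun]
    simp
  have hpT : p ∣ Nat.card T := hp.dvd_of_dvd_pow (hcardM ▸ hpM)
  have hm1 : m = 1 := by
    by_contra hne
    have hm2 : 2 ≤ m := by omega
    apply hp1.2
    calc p ^ 2 ∣ (Nat.card T) ^ 2 := pow_dvd_pow_of_dvd hpT 2
      _ ∣ (Nat.card T) ^ m := pow_dvd_pow _ hm2
      _ = Nat.card M := hcardM.symm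
      _ ∣ Nat.card G := hMG
  subst hm1
  have hMs : IsSimpleGroup M := (e.trans (MulEquiv.funUnique (Fin 1) T)).isSimpleGroup
  -- all the primes divide `|M|`
  have hb : ∀ q : ℕ, q.Prime → n < 2 * q → q ≤ n → q ∣ Nat.card M := by
    intro q hq hq1 hq2
    by_cases hqp : q = p
    · subst hqp; exact hpM
    by_contra hqM
    have hq1' := key1 n q hn hq hq1 hq2
    rw [← hcard] at hq1'
    have hG : Nat.card G = Nat.card N * (Nat.card M * M.index) := by
      rw [M.card_mul_index, hQcard, N.card_mul_index]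
    have hor : q ∣ Nat.card N ∨ q ∣ M.index := by
      have := hq1'.1
      rw [hG] at this
      rcases (Nat.Prime.dvd_mul hq).1 this with h | h
      · left; exact h
      · rcases (Nat.Prime.dvd_mul hq).1 h with h | h
        · exact absurd h hqM
        · right; exact h
    rcases hor with h | h
    · obtain ⟨x, hx⟩ := exists_orderOf_mul_of_normal N q p hq hp hqp h
        (fun h2 => hq1'.2 (h2.trans (Subgroup.card_subgroup_dvd_card N))) hNp
        (key2 n q p hn hq hp hq2 (by omega) hqp)
      exact key3 q p hq hp hq1 (by omega) hqp x hx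
    · obtain ⟨x, hx⟩ := exists_orderOf_mul_of_normal M p q hp hq (Ne.symm hqp) hpM
        (fun h2 => hp1.2 (h2.trans hMG)) h (key2 n p q hn hp hq hpn hq1 (Ne.symm hqp))
      obtain ⟨g, hg⟩ := exists_orderOf_eq_of_surjective (QuotientGroup.mk' N)
        (QuotientGroup.mk'_surjective N) x
      exact key3 p q hp hq (by omega) hq1 (Ne.symm hqp) g (hg.trans hx)
  have hnonab : ¬ IsMulCommutative M := by
    intro hc
    let _ : CommGroup M := { (inferInstance : Group M) with mul_comm := hc.is_comm.comm }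
    have hprime : (Nat.card M).Prime := IsSimpleGroup.prime_card
    have h1 := (Nat.prime_dvd_prime_iff_eq hp hprime).1 (hb p hp (by omega) hpn)
    have h2 := (Nat.prime_dvd_prime_iff_eq hr hprime).1 (hb r hr hnr (by omega))
    omega
  -- transport
  let φ : H →* M := ((QuotientGroup.mk' N).comp H.subtype).codRestrict M (fun x => x.2)
  have hφs : Function.Surjective φ := by
    rintro ⟨y, hy⟩
    obtain ⟨g, rfl⟩ := QuotientGroup.mk'_surjective N y
    exact ⟨⟨g, hy⟩, rfl⟩
  have hφk : φ.ker = N.subgroupOf H := by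
    ext x
    rw [MonoidHom.mem_ker, Subgroup.mem_subgroupOf, Subtype.ext_iff]
    exact QuotientGroup.eq_one_iff _
  let e2 : H ⧸ N.subgroupOf H ≃* M :=
    (QuotientGroup.quotientMulEquivOfEq hφk.symm).trans
      (QuotientGroup.quotientKerEquivOfSurjective φ hφs)
  refine ⟨N, H, hNn, hHn, hNltH, e2.isSimpleGroup, ?_, ?_⟩
  · intro hc
    apply hnonab
    refine ⟨⟨fun a b => ?_⟩⟩
    have := hc.is_comm.comm (e2.symm a) (e2.symm b)
    simpa using congrArg e2 this
  · intro q hq h1 h2
    rw [Nat.card_congr e2.toEquiv]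
    exact hb q hq h1 h2


end Cfsg.Agent.S3420
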