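import Mathlib
import Cfsg.Statements.S3430
import Cfsg.Agent.Helper3.FeitData
-- import your own Cfsg.Agent.* helpers here

set_option autoImplicit false
open Cfsg

namespace Cfsg.Agent.S3430
open Cfsg Cfsg.Agent.Helper3.CycBound Cfsg.Agent.Helper5.Zsig

theorem sq_sub_one (q : ℕ) (hq : 2 ≤ q) : q ^ 2 - 1 = (q + 1) * (q - 1) := by
  obtain ⟨k, rfl⟩ : ∃ k, q = k + 1 := ⟨q - 1, by omega⟩
  have : (k + 1) ^ 2 = (k + 1 + 1) * (k + 1 - 1) + 1 := by
    simp only [Nat.add_sub_cancel]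
    ring
  omega

theorem case_two (q : ℕ) (hq : 2 ≤ q)
    (h1 : ¬ ∃ s t : ℕ, t ≤ 1 ∧ q + 1 = 2 ^ s * 3 ^ t) :
    ∃ p : ℕ, p.Prime ∧ p ∣ q ^ 2 - 1 ∧ (∀ i : ℕ, 1 ≤ i → i < 2 → ¬ p ∣ q ^ i - 1) ∧
      (2 + 1 < p ∨ p ^ 2 ∣ q ^ 2 - 1) := by
  have hdvd : q + 1 ∣ q ^ 2 - 1 := by rw [sq_sub_one q hq]; exact dvd_mul_right _ _
  -- a prime dividing q+1 other than 2 does not divide q - 1
  have hnd : ∀ p : ℕ, p ∣ q + 1 → 3 ≤ p → ∀ i : ℕ, 1 ≤ i → i < 2 → ¬ p ∣ q ^ i - 1 := by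
    intro p hp hp3 i hi1 hi2 hpi
    have hi : i = 1 := by omega
    subst hi
    rw [pow_one] at hpi
    have h2 : p ∣ (q + 1) - (q - 1) := Nat.dvd_sub hp hpi
    have h3 : (q + 1) - (q - 1) = 2 := by omega
    rw [h3] at h2
    have := Nat.le_of_dvd (by norm_num) h2
    omega
  obtain ⟨s, u, hu2, hsu⟩ := Nat.exists_eq_pow_mul_and_not_dvd (n := q + 1) (by omega) 2 (by norm_num)
  have hupos : 0 < u := by
    rcases Nat.eq_zero_or_pos u with h | h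
    · rw [h, mul_zero] at hsu; omega
    · exact h
  obtain ⟨t, w, hw3, htw⟩ := Nat.exists_eq_pow_mul_and_not_dvd (n := u) (by omega) 3 (by norm_num)
  have hwpos : 0 < w := by
    rcases Nat.eq_zero_or_pos w with h | h
    · rw [h, mul_zero] at htw; omega
    · exact h
  have hw2 : ¬ 2 ∣ w := fun h => hu2 (by rw [htw]; exact h.mul_left _)
  have hwq : w ∣ q + 1 := by
    rw [hsu, htw]
    exact (dvd_mul_left w _).trans (dvd_mul_left _ _)
  by_cases hw1 : w = 1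
  · -- q + 1 = 2^s 3^t
    rw [hw1, mul_one] at htw
    have ht2 : 2 ≤ t := by
      by_contra hlt
      exact h1 ⟨s, t, by omega, by rw [hsu, htw]⟩
    have h9 : 3 ^ 2 ∣ q + 1 := by
      rw [hsu, htw]
      exact (pow_dvd_pow 3 ht2).mul_left _
    have h3 : 3 ∣ q + 1 := (dvd_pow_self 3 (by norm_num)).trans h9
    exact ⟨3, Nat.prime_three, h3.trans hdvd, hnd 3 h3 le_rfl, Or.inr (h9.trans hdvd)⟩
  · obtain ⟨p, hp, hpw⟩ := Nat.exists_prime_and_dvd hw1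
    have hp2 : p ≠ 2 := by rintro rfl; exact hw2 hpw
    have hp3 : p ≠ 3 := by rintro rfl; exact hw3 hpw
    have hp5 : 5 ≤ p := by
      have := hp.two_le
      by_contra hlt
      have : p = 4 := by omega
      subst this
      norm_num at hp
    have hpq : p ∣ q + 1 := hpw.trans hwq
    exact ⟨p, hp, hpq.trans hdvd, hnd p hpq (by omega), Or.inl (by omega)⟩

/-- Let q, n ≥ 2 be integers. Unless (n = 2 and q + 1 = 2^s·3^t for some s ≥ 0 and t ≤ 1), or (q = 2 and n ∈ {4, 6, 10, 12, 18}), or (q = 3 and n ∈ {4, 6}), or (q, n) = (5, 6), there is a prime p dividing q^n − 1 but no q^i − 1 with 1 ≤ i < n (a primitive prime divisor), such that p > n + 1 or p² divides q^n − 1. -/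
theorem result (q n : ℕ) (hq : 2 ≤ q) (hn : 2 ≤ n)
    (h1 : ¬ (n = 2 ∧ ∃ s t : ℕ, t ≤ 1 ∧ q + 1 = 2 ^ s * 3 ^ t))
    (h2 : ¬ (q = 2 ∧ (n = 4 ∨ n = 6 ∨ n = 10 ∨ n = 12 ∨ n = 18)))
    (h3 : ¬ (q = 3 ∧ (n = 4 ∨ n = 6))) (h4 : ¬ (q = 5 ∧ n = 6)) :
    ∃ p : ℕ, p.Prime ∧ p ∣ q ^ n - 1 ∧ (∀ i : ℕ, 1 ≤ i → i < n → ¬ p ∣ q ^ i - 1) ∧ (n + 1 < p ∨ p ^ 2 ∣ q ^ n - 1) := by
  rcases Nat.lt_or_ge 2 n with hn3 | hn2
  · by_contra hno
    have H : ∀ p : ℕ, p.Prime → p ∣ q ^ n - 1 → (∀ i : ℕ, 1 ≤ i → i < n → ¬ p ∣ q ^ i - 1) →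
        ¬ (n + 1 < p ∨ p ^ 2 ∣ q ^ n - 1) := fun p hp ha hb hc => hno ⟨p, hp, ha, hb, hc⟩
    have hdvd := feit_struct n q hn3 hq H
    have hle : phi n q ≤ 3 * n ^ 2 := by
      have := Nat.le_of_dvd (by positivity) hdvd
      nlinarith
    obtain ⟨hnS, hcase⟩ := candidates n q hn3 hq hle
    rcases hcase with rfl | hL
    · rcases feit_table_two n hnS with h | h
      · exact h2 ⟨rfl, h⟩
      · exact hno h
    · rcases feit_table_three (q, n) hL with h | h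
      · rcases h with h | h | h
        · have e1 : q = 3 := congrArg Prod.fst h
          have e2 : n = 4 := congrArg Prod.snd h
          exact h3 ⟨e1, Or.inl e2⟩
        · have e1 : q = 3 := congrArg Prod.fst h
          have e2 : n = 6 := congrArg Prod.snd h
          exact h3 ⟨e1, Or.inr e2⟩
        · have e1 : q = 5 := congrArg Prod.fst h
          have e2 : n = 6 := congrArg Prod.snd h
          exact h4 ⟨e1, e2⟩
      · exact hno h
  · have hn' : n = 2 := by omega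
    subst hn'
    exact case_two q hq (fun h => h1 ⟨rfl, h⟩)


end Cfsg.Agent.S3430
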