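import Cfsg.Statements.S3431
import Cfsg.Agent.S0228
import Cfsg.Agent.S0494
import Cfsg.Agent.S0497
import Cfsg.Agent.Helper3.NseE
import Cfsg.Agent.Helper3.NseG

set_option autoImplicit false
open Cfsg

namespace Cfsg.Agent.S3431

open Cfsg.Agent.Helper3.Nse
open Cfsg.Agent.S3995 (s)

universe u

theorem hyp_of_eq {G : Type u} [Group G] (T : Set ℕ) (ev : List ℕ) (s2 mx : ℕ)
    (h : ((fun m : ℕ => Nat.card {g : G // orderOf g = m}) '' Set.range (orderOf : G → ℕ)) = T)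
    (hT : ∀ v, v ∈ T ↔ v = 1 ∨ v = s2 ∨ v ∈ ev)
    (odd2 : s2 % 2 = 1) (ne1 : s2 ≠ 1) (even : ∀ v ∈ ev, v % 2 = 0)
    (hmx : 1 ≤ mx ∧ s2 ≤ mx ∧ ∀ v ∈ ev, v ≤ mx) : NseHyp G ev s2 mx where
  hmem := by
    intro g
    have : s G (orderOf g) ∈
        ((fun m : ℕ => Nat.card {g : G // orderOf g = m}) '' Set.range (orderOf : G → ℕ)) :=
      ⟨orderOf g, ⟨g, rfl⟩, rfl⟩
    rw [h] at this
    exact (hT _).1 this
  hs2 := by
    have : s2 ∈ T := (hT _).2 (Or.inr (Or.inl rfl))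
    rw [← h] at this
    obtain ⟨m, ⟨g, rfl⟩, hm⟩ := this
    exact ⟨g, hm⟩
  hev := by
    intro v hv
    have : v ∈ T := (hT _).2 (Or.inr (Or.inr hv))
    rw [← h] at this
    obtain ⟨m, ⟨g, rfl⟩, hm⟩ := this
    exact ⟨g, hm⟩
  odd2 := odd2
  ne1 := ne1
  even := even
  hmx := hmx

theorem hpr4 : ∀ p < 8 + 2, 2 ≤ p → ∀ v ∈ 1 :: 3 :: [8], (p - 1) ∣ v → p ∣ 1 + v →
    (p = 2 ∨ p = 3 ∨ p = 5 ∨ p = 7) ∨ ∃ k < p, 2 ≤ k ∧ k ∣ p := by decide

theorem hpr5 : ∀ p < 24 + 2, 2 ≤ p → ∀ v ∈ 1 :: 15 :: [20, 24], (p - 1) ∣ v → p ∣ 1 + v →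
    (p = 2 ∨ p = 3 ∨ p = 5 ∨ p = 7) ∨ ∃ k < p, 2 ≤ k ∧ k ∣ p := by decide

theorem hpr6 : ∀ p < 144 + 2, 2 ≤ p → ∀ v ∈ 1 :: 45 :: [80, 90, 144], (p - 1) ∣ v → p ∣ 1 + v →
    (p = 2 ∨ p = 3 ∨ p = 5 ∨ p = 7) ∨ ∃ k < p, 2 ≤ k ∧ k ∣ p := by decide +kernel

theorem ord4 : ∀ d ∈ Nat.divisors 12, target [(1, 1), (2, 3), (3, 8)] d ≠ 0 → d ≤ 3 := by decide

theorem ord5 : ∀ d ∈ Nat.divisors 60, target [(1, 1), (2, 15), (3, 20), (5, 24)] d ≠ 0 → d ≤ 5 := by
  decide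

theorem ord6 : ∀ d ∈ Nat.divisors 360,
    target [(1, 1), (2, 45), (3, 80), (4, 90), (5, 144)] d ≠ 0 → d ≤ 5 := by decide +kernel

theorem orderOf_le {G : Type u} [Group G] [Finite G] (n0 B : ℕ) (tv : List (ℕ × ℕ))
    (hn0 : n0 ≠ 0)
    (hc : Nat.card G = n0) (hs : ∀ d, d ∣ n0 → s G d = target tv d)
    (hord : ∀ d ∈ Nat.divisors n0, target tv d ≠ 0 → d ≤ B) (g : G) : orderOf g ≤ B := by
  have hd : orderOf g ∣ n0 := hc ▸ orderOf_dvd_natCard g
  apply hord _ (Nat.mem_divisors.2 ⟨hd, hn0⟩)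
  rw [← hs _ hd]
  exact (Cfsg.Agent.S3995.s_pos g).ne'

/-- Let n be 4, 5 or 6 and let G be a finite group whose set of sizes of same-order classes (the set of numbers #{g : o(g) = m} over the element orders m of G) equals that of the alternating group of degree n. Then G is isomorphic to that alternating group. -/
theorem result {G : Type*} [Group G] [Finite G] (n : ℕ) (hn : n = 4 ∨ n = 5 ∨ n = 6)
    (h : ((fun m : ℕ => Nat.card {g : G // orderOf g = m}) '' Set.range (orderOf : G → ℕ)) = ((fun m : ℕ => Nat.card {g : ↥(alternatingGroup (Fin n)) // orderOf g = m}) '' Set.range (orderOf : ↥(alternatingGroup (Fin n)) → ℕ))) :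
    Nonempty (G ≃* ↥(alternatingGroup (Fin n))) := by
  rcases hn with rfl | rfl | rfl
  · rw [nse_alt4] at h
    have H : NseHyp G [8] 3 8 := hyp_of_eq _ _ _ _ h (by intro v; simp) (by norm_num)
      (by norm_num) (by decide) (by decide)
    obtain ⟨hc, hs⟩ := main_arith H 12 [(1, 1), (2, 3), (3, 8)] chain4 hpr4 all4
    have hord := orderOf_le 12 3 _ (by norm_num) hc hs ord4
    have h3 : s G 3 = 8 := hs 3 (by norm_num)
    refine Cfsg.Agent.S0228.result hc ?_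
    intro z hz hzc
    obtain ⟨g, hg⟩ : ∃ g : G, orderOf g = 3 := by
      by_contra hcon
      have := Cfsg.Agent.S3995.s_eq_zero (G := G) (k := 3) (fun g hg => hcon ⟨g, hg⟩)
      omega
    have hcomm : Commute z g := (Subgroup.mem_center_iff.1 hzc g).symm
    have := hcomm.orderOf_mul_eq_mul_orderOf_of_coprime (by rw [hz, hg]; norm_num)
    have h6 := hord (z * g)
    rw [this, hz, hg] at h6
    omega
  · rw [nse_alt5] at h
    have H : NseHyp G [20, 24] 15 24 := hyp_of_eq _ _ _ _ h (by intro v; simp) (by norm_num)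
      (by norm_num) (by decide) (by decide)
    obtain ⟨hc, hs⟩ := main_arith H 60 [(1, 1), (2, 15), (3, 20), (5, 24)] chain5 hpr5 all5
    have hord := orderOf_le 60 5 _ (by norm_num) hc hs ord5
    haveI := simple60 hc hord (hs 3 (by norm_num)) (hs 5 (by norm_num))
    exact Cfsg.Agent.S0494.result hc
  · rw [nse_alt6] at h
    have H : NseHyp G [80, 90, 144] 45 144 := hyp_of_eq _ _ _ _ h (by intro v; simp)
      (by norm_num) (by norm_num) (by decide) (by decide)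
    obtain ⟨hc, hs⟩ := main_arith H 360 [(1, 1), (2, 45), (3, 80), (4, 90), (5, 144)]
      chain6 hpr6 all6
    have hord := orderOf_le 360 5 _ (by norm_num) hc hs ord6
    haveI := simple360 hc hord (hs 3 (by norm_num)) (hs 5 (by norm_num))
    exact Cfsg.Agent.S0497.result hc

end Cfsg.Agent.S3431
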