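import Mathlib
import Cfsg.Statements.S3437
import Cfsg.Statements.S3437
import Cfsg.Agent.Helper3.SL33Spectrum
import Cfsg.Agent.Helper3.FpfSemidirect
import Cfsg.Agent.S3378
-- import your own Cfsg.Agent.* helpers here

set_option autoImplicit false
open Cfsg

namespace Cfsg.Agent.S3437
open Cfsg

universe u

/-- the field with 169 elements, as `ZMod 13` with a square root of 2 adjoined -/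
abbrev K13 := QuadraticAlgebra (ZMod 13) 2 0

/-- the quaternions over `K13` -/
abbrev R := QuaternionAlgebra K13 (-1) 0 (-1)

instance : DecidableEq R := (QuaternionAlgebra.equivProd (-1 : K13) 0 (-1)).decidableEq

instance : Finite K13 := Finite.of_equiv _ (QuadraticAlgebra.equivProd (2 : ZMod 13) 0).symm

instance : Finite R := Finite.of_equiv _ (QuaternionAlgebra.equivProd (-1 : K13) 0 (-1)).symm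

def Slist : List R :=
  [⟨⟨1, 0⟩, ⟨0, 0⟩, ⟨0, 0⟩, ⟨0, 0⟩⟩,
   ⟨⟨0, 7⟩, ⟨0, 7⟩, ⟨0, 0⟩, ⟨0, 0⟩⟩,
   ⟨⟨7, 0⟩, ⟨7, 0⟩, ⟨7, 0⟩, ⟨7, 0⟩⟩,
   ⟨⟨0, 0⟩, ⟨1, 0⟩, ⟨0, 0⟩, ⟨0, 0⟩⟩,
   ⟨⟨0, 0⟩, ⟨0, 7⟩, ⟨0, 0⟩, ⟨0, 7⟩⟩,
   ⟨⟨0, 0⟩, ⟨0, 7⟩, ⟨0, 7⟩, ⟨0, 0⟩⟩,
   ⟨⟨6, 0⟩, ⟨7, 0⟩, ⟨7, 0⟩, ⟨7, 0⟩⟩,
   ⟨⟨0, 6⟩, ⟨0, 7⟩, ⟨0, 0⟩, ⟨0, 0⟩⟩,
   ⟨⟨6, 0⟩, ⟨7, 0⟩, ⟨6, 0⟩, ⟨7, 0⟩⟩,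
   ⟨⟨0, 6⟩, ⟨0, 0⟩, ⟨0, 0⟩, ⟨0, 7⟩⟩,
   ⟨⟨6, 0⟩, ⟨7, 0⟩, ⟨7, 0⟩, ⟨6, 0⟩⟩,
   ⟨⟨0, 6⟩, ⟨0, 0⟩, ⟨0, 7⟩, ⟨0, 0⟩⟩,
   ⟨⟨12, 0⟩, ⟨0, 0⟩, ⟨0, 0⟩, ⟨0, 0⟩⟩,
   ⟨⟨0, 6⟩, ⟨0, 0⟩, ⟨0, 6⟩, ⟨0, 0⟩⟩,
   ⟨⟨6, 0⟩, ⟨6, 0⟩, ⟨6, 0⟩, ⟨7, 0⟩⟩,
   ⟨⟨6, 0⟩, ⟨6, 0⟩, ⟨7, 0⟩, ⟨7, 0⟩⟩,
   ⟨⟨0, 6⟩, ⟨0, 6⟩, ⟨0, 0⟩, ⟨0, 0⟩⟩,
   ⟨⟨0, 6⟩, ⟨0, 0⟩, ⟨0, 0⟩, ⟨0, 6⟩⟩,
   ⟨⟨6, 0⟩, ⟨7, 0⟩, ⟨6, 0⟩, ⟨6, 0⟩⟩,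
   ⟨⟨6, 0⟩, ⟨6, 0⟩, ⟨7, 0⟩, ⟨6, 0⟩⟩,
   ⟨⟨6, 0⟩, ⟨6, 0⟩, ⟨6, 0⟩, ⟨6, 0⟩⟩,
   ⟨⟨0, 0⟩, ⟨0, 6⟩, ⟨0, 6⟩, ⟨0, 0⟩⟩,
   ⟨⟨0, 0⟩, ⟨0, 6⟩, ⟨0, 0⟩, ⟨0, 7⟩⟩,
   ⟨⟨0, 0⟩, ⟨12, 0⟩, ⟨0, 0⟩, ⟨0, 0⟩⟩,
   ⟨⟨0, 0⟩, ⟨0, 6⟩, ⟨0, 7⟩, ⟨0, 0⟩⟩,
   ⟨⟨0, 0⟩, ⟨0, 6⟩, ⟨0, 0⟩, ⟨0, 6⟩⟩,
   ⟨⟨0, 0⟩, ⟨0, 0⟩, ⟨0, 6⟩, ⟨0, 6⟩⟩,
   ⟨⟨0, 0⟩, ⟨0, 0⟩, ⟨12, 0⟩, ⟨0, 0⟩⟩,
   ⟨⟨0, 0⟩, ⟨0, 0⟩, ⟨0, 0⟩, ⟨12, 0⟩⟩,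
   ⟨⟨7, 0⟩, ⟨6, 0⟩, ⟨6, 0⟩, ⟨6, 0⟩⟩,
   ⟨⟨7, 0⟩, ⟨6, 0⟩, ⟨6, 0⟩, ⟨7, 0⟩⟩,
   ⟨⟨0, 7⟩, ⟨0, 6⟩, ⟨0, 0⟩, ⟨0, 0⟩⟩,
   ⟨⟨7, 0⟩, ⟨6, 0⟩, ⟨7, 0⟩, ⟨7, 0⟩⟩,
   ⟨⟨7, 0⟩, ⟨6, 0⟩, ⟨7, 0⟩, ⟨6, 0⟩⟩,
   ⟨⟨0, 0⟩, ⟨0, 0⟩, ⟨0, 7⟩, ⟨0, 6⟩⟩,
   ⟨⟨0, 7⟩, ⟨0, 0⟩, ⟨0, 0⟩, ⟨0, 6⟩⟩,
   ⟨⟨0, 7⟩, ⟨0, 0⟩, ⟨0, 6⟩, ⟨0, 0⟩⟩,
   ⟨⟨0, 0⟩, ⟨0, 0⟩, ⟨0, 6⟩, ⟨0, 7⟩⟩,
   ⟨⟨7, 0⟩, ⟨7, 0⟩, ⟨6, 0⟩, ⟨6, 0⟩⟩,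
   ⟨⟨0, 7⟩, ⟨0, 0⟩, ⟨0, 0⟩, ⟨0, 7⟩⟩,
   ⟨⟨0, 7⟩, ⟨0, 0⟩, ⟨0, 7⟩, ⟨0, 0⟩⟩,
   ⟨⟨0, 0⟩, ⟨0, 0⟩, ⟨1, 0⟩, ⟨0, 0⟩⟩,
   ⟨⟨7, 0⟩, ⟨7, 0⟩, ⟨7, 0⟩, ⟨6, 0⟩⟩,
   ⟨⟨0, 0⟩, ⟨0, 7⟩, ⟨0, 0⟩, ⟨0, 6⟩⟩,
   ⟨⟨7, 0⟩, ⟨7, 0⟩, ⟨6, 0⟩, ⟨7, 0⟩⟩,
   ⟨⟨0, 0⟩, ⟨0, 0⟩, ⟨0, 0⟩, ⟨1, 0⟩⟩,
   ⟨⟨0, 0⟩, ⟨0, 7⟩, ⟨0, 6⟩, ⟨0, 0⟩⟩,
   ⟨⟨0, 0⟩, ⟨0, 0⟩, ⟨0, 7⟩, ⟨0, 7⟩⟩]

def Dlist : List R :=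
  [⟨⟨6, 0⟩, ⟨6, 6⟩, ⟨0, 0⟩, ⟨0, 0⟩⟩,
   ⟨⟨6, 0⟩, ⟨6, 0⟩, ⟨6, 0⟩, ⟨6, 0⟩⟩,
   ⟨⟨6, 0⟩, ⟨6, 0⟩, ⟨0, 0⟩, ⟨0, 0⟩⟩,
   ⟨⟨6, 0⟩, ⟨0, 3⟩, ⟨0, 0⟩, ⟨0, 3⟩⟩,
   ⟨⟨6, 0⟩, ⟨0, 3⟩, ⟨0, 3⟩, ⟨0, 0⟩⟩,
   ⟨⟨6, 0⟩, ⟨2, 0⟩, ⟨2, 0⟩, ⟨2, 0⟩⟩,
   ⟨⟨6, 0⟩, ⟨7, 6⟩, ⟨0, 0⟩, ⟨0, 0⟩⟩,
   ⟨⟨6, 0⟩, ⟨2, 0⟩, ⟨11, 0⟩, ⟨2, 0⟩⟩,
   ⟨⟨6, 0⟩, ⟨0, 0⟩, ⟨0, 0⟩, ⟨7, 6⟩⟩,
   ⟨⟨6, 0⟩, ⟨2, 0⟩, ⟨2, 0⟩, ⟨11, 0⟩⟩,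
   ⟨⟨6, 0⟩, ⟨0, 0⟩, ⟨7, 6⟩, ⟨0, 0⟩⟩,
   ⟨⟨6, 0⟩, ⟨0, 0⟩, ⟨0, 0⟩, ⟨0, 0⟩⟩,
   ⟨⟨6, 0⟩, ⟨0, 0⟩, ⟨6, 7⟩, ⟨0, 0⟩⟩,
   ⟨⟨6, 0⟩, ⟨11, 0⟩, ⟨11, 0⟩, ⟨2, 0⟩⟩,
   ⟨⟨6, 0⟩, ⟨11, 0⟩, ⟨2, 0⟩, ⟨2, 0⟩⟩,
   ⟨⟨6, 0⟩, ⟨6, 7⟩, ⟨0, 0⟩, ⟨0, 0⟩⟩,
   ⟨⟨6, 0⟩, ⟨0, 0⟩, ⟨0, 0⟩, ⟨6, 7⟩⟩,
   ⟨⟨6, 0⟩, ⟨2, 0⟩, ⟨11, 0⟩, ⟨11, 0⟩⟩,
   ⟨⟨6, 0⟩, ⟨11, 0⟩, ⟨2, 0⟩, ⟨11, 0⟩⟩,
   ⟨⟨6, 0⟩, ⟨11, 0⟩, ⟨11, 0⟩, ⟨11, 0⟩⟩,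
   ⟨⟨6, 0⟩, ⟨0, 10⟩, ⟨0, 10⟩, ⟨0, 0⟩⟩,
   ⟨⟨6, 0⟩, ⟨0, 10⟩, ⟨0, 0⟩, ⟨0, 3⟩⟩,
   ⟨⟨6, 0⟩, ⟨7, 0⟩, ⟨0, 0⟩, ⟨0, 0⟩⟩,
   ⟨⟨6, 0⟩, ⟨0, 10⟩, ⟨0, 3⟩, ⟨0, 0⟩⟩,
   ⟨⟨6, 0⟩, ⟨0, 10⟩, ⟨0, 0⟩, ⟨0, 10⟩⟩,
   ⟨⟨6, 0⟩, ⟨0, 0⟩, ⟨0, 10⟩, ⟨0, 10⟩⟩,
   ⟨⟨6, 0⟩, ⟨0, 0⟩, ⟨7, 0⟩, ⟨0, 0⟩⟩,
   ⟨⟨6, 0⟩, ⟨0, 0⟩, ⟨0, 0⟩, ⟨7, 0⟩⟩,
   ⟨⟨6, 0⟩, ⟨7, 0⟩, ⟨7, 0⟩, ⟨7, 0⟩⟩,
   ⟨⟨6, 0⟩, ⟨7, 0⟩, ⟨7, 0⟩, ⟨6, 0⟩⟩,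
   ⟨⟨6, 0⟩, ⟨7, 7⟩, ⟨0, 0⟩, ⟨0, 0⟩⟩,
   ⟨⟨6, 0⟩, ⟨7, 0⟩, ⟨6, 0⟩, ⟨6, 0⟩⟩,
   ⟨⟨6, 0⟩, ⟨7, 0⟩, ⟨6, 0⟩, ⟨7, 0⟩⟩,
   ⟨⟨6, 0⟩, ⟨0, 0⟩, ⟨0, 3⟩, ⟨0, 10⟩⟩,
   ⟨⟨6, 0⟩, ⟨0, 0⟩, ⟨0, 0⟩, ⟨7, 7⟩⟩,
   ⟨⟨6, 0⟩, ⟨0, 0⟩, ⟨7, 7⟩, ⟨0, 0⟩⟩,
   ⟨⟨6, 0⟩, ⟨0, 0⟩, ⟨0, 10⟩, ⟨0, 3⟩⟩,
   ⟨⟨6, 0⟩, ⟨6, 0⟩, ⟨7, 0⟩, ⟨7, 0⟩⟩,
   ⟨⟨6, 0⟩, ⟨0, 0⟩, ⟨0, 0⟩, ⟨6, 6⟩⟩,
   ⟨⟨6, 0⟩, ⟨0, 0⟩, ⟨6, 6⟩, ⟨0, 0⟩⟩,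
   ⟨⟨6, 0⟩, ⟨0, 0⟩, ⟨6, 0⟩, ⟨0, 0⟩⟩,
   ⟨⟨6, 0⟩, ⟨6, 0⟩, ⟨6, 0⟩, ⟨7, 0⟩⟩,
   ⟨⟨6, 0⟩, ⟨0, 3⟩, ⟨0, 0⟩, ⟨0, 10⟩⟩,
   ⟨⟨6, 0⟩, ⟨6, 0⟩, ⟨7, 0⟩, ⟨6, 0⟩⟩,
   ⟨⟨6, 0⟩, ⟨0, 0⟩, ⟨0, 0⟩, ⟨6, 0⟩⟩,
   ⟨⟨6, 0⟩, ⟨0, 3⟩, ⟨0, 10⟩, ⟨0, 0⟩⟩,
   ⟨⟨6, 0⟩, ⟨0, 0⟩, ⟨0, 3⟩, ⟨0, 3⟩⟩]


/-- `(1 + i) / √2` -/
def a : R := ⟨⟨0, 7⟩, ⟨0, 7⟩, ⟨0, 0⟩, ⟨0, 0⟩⟩
/-- its inverse -/
def a' : R := ⟨⟨0, 7⟩, ⟨0, 6⟩, ⟨0, 0⟩, ⟨0, 0⟩⟩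
/-- `(1 + i + j + k) / 2` -/
def b : R := ⟨⟨7, 0⟩, ⟨7, 0⟩, ⟨7, 0⟩, ⟨7, 0⟩⟩
/-- its inverse -/
def b' : R := ⟨⟨7, 0⟩, ⟨6, 0⟩, ⟨6, 0⟩, ⟨6, 0⟩⟩

set_option maxRecDepth 100000 in
theorem D_mul : ∀ x ∈ Slist, ∀ y ∈ Slist, x * y ∈ Slist := by
  decide +kernel

set_option maxRecDepth 100000 in
theorem D_inv : ∀ x ∈ Slist, ∃ y ∈ Slist, x * y = 1 := by
  decide +kernel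

set_option maxRecDepth 100000 in
theorem D_fpf : ∀ x ∈ Slist, x ≠ 1 → ∃ d ∈ Dlist, d * (x - 1) = 1 := by
  decide +kernel

set_option maxRecDepth 100000 in
theorem D_pow : ∀ x ∈ Slist, x ^ 8 = 1 ∨ x ^ 6 = 1 := by
  decide +kernel

set_option maxRecDepth 100000 in
theorem D_misc : a * a' = 1 ∧ a' * a = 1 ∧ b * b' = 1 ∧ b' * b = 1 ∧ a ∈ Slist ∧ b ∈ Slist ∧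
    (1 : R) ∈ Slist ∧ a ^ 8 = 1 ∧ a ^ 4 ≠ 1 ∧ b ^ 6 = 1 ∧ b ^ 2 ≠ 1 ∧ b ^ 3 ≠ 1 ∧
    (13 : R) = 0 ∧ Slist.length = 48 := by
  decide +kernel

theorem a_mul_a' : a * a' = 1 := D_misc.1
theorem a'_mul_a : a' * a = 1 := D_misc.2.1
theorem b_mul_b' : b * b' = 1 := D_misc.2.2.1
theorem b'_mul_b : b' * b = 1 := D_misc.2.2.2.1
theorem a_mem : a ∈ Slist := D_misc.2.2.2.2.1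
theorem b_mem : b ∈ Slist := D_misc.2.2.2.2.2.1
theorem one_mem : (1 : R) ∈ Slist := D_misc.2.2.2.2.2.2.1
theorem a_pow8 : a ^ 8 = 1 := D_misc.2.2.2.2.2.2.2.1
theorem a_pow4 : a ^ 4 ≠ 1 := D_misc.2.2.2.2.2.2.2.2.1
theorem b_pow6 : b ^ 6 = 1 := D_misc.2.2.2.2.2.2.2.2.2.1
theorem b_pow2 : b ^ 2 ≠ 1 := D_misc.2.2.2.2.2.2.2.2.2.2.1
theorem b_pow3 : b ^ 3 ≠ 1 := D_misc.2.2.2.2.2.2.2.2.2.2.2.1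
theorem thirteen : (13 : R) = 0 := D_misc.2.2.2.2.2.2.2.2.2.2.2.2.1
theorem S_length : Slist.length = 48 := D_misc.2.2.2.2.2.2.2.2.2.2.2.2.2

theorem one_ne_zero_R : (1 : R) ≠ 0 := by decide

open Cfsg.Agent.Helper3

/-- the generator `a` as a unit -/
def ua : Rˣ := ⟨a, a', a_mul_a', a'_mul_a⟩
/-- the generator `b` as a unit -/
def ub : Rˣ := ⟨b, b', b_mul_b', b'_mul_b⟩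

/-- the binary octahedral group -/
def C : Subgroup Rˣ := Subgroup.closure {ua, ub}

theorem val_mem (c : Rˣ) (hc : c ∈ C) : (c : R) ∈ Slist := by
  unfold C at hc
  induction hc using Subgroup.closure_induction with
  | mem x hx =>
    rcases hx with rfl | rfl
    · exact a_mem
    · exact b_mem
  | one => exact one_mem
  | mul x y _ _ hx hy =>
    rw [Units.val_mul]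
    exact D_mul _ hx _ hy
  | inv x _ hx =>
    obtain ⟨y, hy, hxy⟩ := D_inv _ hx
    rw [Units.inv_eq_of_mul_eq_one_right hxy]
    exact hy

theorem fpf (c : Rˣ) (hc : c ∈ C) (hc1 : c ≠ 1) (v : R) (hv : (c : R) * v = v) : v = 0 := by
  have hx := val_mem c hc
  have hne : (c : R) ≠ 1 := by
    intro h
    apply hc1
    exact Units.ext h
  obtain ⟨d, _, hd⟩ := D_fpf _ hx hne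
  have h0 : ((c : R) - 1) * v = 0 := by rw [sub_mul, one_mul, hv, sub_self]
  calc v = (d * ((c : R) - 1)) * v := by rw [hd, one_mul]
    _ = d * (((c : R) - 1) * v) := mul_assoc _ _ _
    _ = 0 := by rw [h0, mul_zero]

/-- the action of `C` on the additive group of `R` -/
def phi : C →* MulAut (Multiplicative R) := (FpfSemidirect.unitsAct R).comp C.subtype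

theorem phi_fpf : ∀ k : C, k ≠ 1 → ∀ n : Multiplicative R, phi k n = n → n = 1 := by
  intro k hk n hn
  have h1 : (k : Rˣ) ≠ 1 := by
    intro h
    apply hk
    exact Subtype.ext h
  have h2 : ((k : Rˣ) : R) * n.toAdd = n.toAdd := by
    have := congrArg Multiplicative.toAdd hn
    exact this
  have h3 := fpf k.1 k.2 h1 _ h2
  exact Multiplicative.toAdd.injective h3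

theorem card_C_le : Nat.card C ≤ 48 := by
  let f : C → Slist.toFinset := fun c => ⟨(c : Rˣ), List.mem_toFinset.2 (val_mem c.1 c.2)⟩
  have hf : Function.Injective f := by
    intro c d h
    have h1 : ((c : Rˣ) : R) = ((d : Rˣ) : R) := congrArg Subtype.val h
    exact Subtype.ext (Units.ext h1)
  calc Nat.card C ≤ Nat.card Slist.toFinset := Nat.card_le_card_of_injective f hf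
    _ = Slist.toFinset.card := by rw [Nat.card_eq_fintype_card, Fintype.card_coe]
    _ ≤ Slist.length := List.toFinset_card_le _
    _ = 48 := S_length

instance : Group.IsSolvable C :=
  Cfsg.Agent.S3378.solvable_of_card_lt (Nat.card C) (lt_of_le_of_lt card_C_le (by norm_num)) C rfl

theorem orderOf_a : orderOf a = 8 := by
  have h := orderOf_eq_prime_pow (x := a) (p := 2) (n := 2) ?_ ?_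
  · simpa using h
  · rw [show (2 : ℕ) ^ 2 = 4 by norm_num]
    exact a_pow4
  · rw [show (2 : ℕ) ^ (2 + 1) = 8 by norm_num]
    exact a_pow8

theorem orderOf_b : orderOf b = 6 := by
  have h6 : b ^ 6 = 1 := b_pow6
  have h2 : b ^ 2 ≠ 1 := b_pow2
  have h3 : b ^ 3 ≠ 1 := b_pow3
  have hd : orderOf b ∈ Nat.divisors 6 :=
    Nat.mem_divisors.2 ⟨orderOf_dvd_of_pow_eq_one h6, by norm_num⟩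
  rw [show Nat.divisors 6 = {1, 2, 3, 6} by decide] at hd
  simp only [Finset.mem_insert, Finset.mem_singleton] at hd
  rcases hd with h | h | h | h
  · exfalso
    rw [orderOf_eq_one_iff] at h
    apply h2
    rw [h, one_pow]
  · exfalso
    apply h2
    have := pow_orderOf_eq_one b
    rwa [h] at this
  · exfalso
    apply h3
    have := pow_orderOf_eq_one b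
    rwa [h] at this
  · exact h

/-- `a` as an element of `C` -/
def ca : C := ⟨ua, Subgroup.subset_closure (by simp)⟩
/-- `b` as an element of `C` -/
def cb : C := ⟨ub, Subgroup.subset_closure (by simp)⟩

theorem orderOf_ca : orderOf ca = 8 := by
  rw [← Subgroup.orderOf_coe, ← orderOf_units]
  exact orderOf_a

theorem orderOf_cb : orderOf cb = 6 := by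
  rw [← Subgroup.orderOf_coe, ← orderOf_units]
  exact orderOf_b

theorem range_C : Set.range (orderOf : C → ℕ) = {1, 2, 3, 4, 6, 8} := by
  apply Set.Subset.antisymm
  · rintro _ ⟨c, rfl⟩
    have hx := val_mem c.1 c.2
    rcases D_pow _ hx with h | h
    · have h1 : c ^ 8 = 1 := by
        apply Subtype.ext
        apply Units.ext
        rw [Subgroup.coe_pow, Units.val_pow_eq_pow_val, h]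
        rfl
      have h2 : orderOf c ∈ Nat.divisors 8 :=
        Nat.mem_divisors.2 ⟨orderOf_dvd_of_pow_eq_one h1, by norm_num⟩
      rw [show Nat.divisors 8 = {1, 2, 4, 8} by decide] at h2
      simp only [Finset.mem_insert, Finset.mem_singleton] at h2
      rcases h2 with h2 | h2 | h2 | h2 <;> simp [h2]
    · have h1 : c ^ 6 = 1 := by
        apply Subtype.ext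
        apply Units.ext
        rw [Subgroup.coe_pow, Units.val_pow_eq_pow_val, h]
        rfl
      have h2 : orderOf c ∈ Nat.divisors 6 :=
        Nat.mem_divisors.2 ⟨orderOf_dvd_of_pow_eq_one h1, by norm_num⟩
      rw [show Nat.divisors 6 = {1, 2, 3, 6} by decide] at h2
      simp only [Finset.mem_insert, Finset.mem_singleton] at h2
      rcases h2 with h2 | h2 | h2 | h2 <;> simp [h2]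
  · intro n hn
    simp only [Set.mem_insert_iff, Set.mem_singleton_iff] at hn
    rcases hn with rfl | rfl | rfl | rfl | rfl | rfl
    · exact ⟨1, orderOf_one⟩
    · refine ⟨ca ^ 4, ?_⟩
      rw [orderOf_pow_of_dvd (by norm_num) (by rw [orderOf_ca]; norm_num), orderOf_ca]
    · refine ⟨cb ^ 2, ?_⟩
      rw [orderOf_pow_of_dvd (by norm_num) (by rw [orderOf_cb]; norm_num), orderOf_cb]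
    · refine ⟨ca ^ 2, ?_⟩
      rw [orderOf_pow_of_dvd (by norm_num) (by rw [orderOf_ca]; norm_num), orderOf_ca]
    · exact ⟨cb, orderOf_cb⟩
    · exact ⟨ca, orderOf_ca⟩

theorem range_N : Set.range (orderOf : Multiplicative R → ℕ) = {1, 13} := by
  have h13 : (13 : R) = 0 := thirteen
  have hp : Nat.Prime 13 := by norm_num
  apply Set.Subset.antisymm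
  · rintro _ ⟨n, rfl⟩
    have h1 : n ^ 13 = 1 := by
      apply Multiplicative.toAdd.injective
      rw [toAdd_pow, toAdd_one, nsmul_eq_mul]
      push_cast
      rw [h13, zero_mul]
    have h2 := orderOf_dvd_of_pow_eq_one h1
    rcases (Nat.dvd_prime hp).1 h2 with h | h <;> simp [h]
  · intro n hn
    simp only [Set.mem_insert_iff, Set.mem_singleton_iff] at hn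
    rcases hn with rfl | rfl
    · exact ⟨1, orderOf_one⟩
    · refine ⟨Multiplicative.ofAdd (1 : R), ?_⟩
      have : Fact (Nat.Prime 13) := ⟨hp⟩
      apply orderOf_eq_prime
      · apply Multiplicative.toAdd.injective
        rw [toAdd_pow, toAdd_one, nsmul_eq_mul]
        push_cast
        rw [h13, zero_mul]
      · intro h
        have h0 : (1 : R) = 0 := congrArg Multiplicative.toAdd h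
        exact one_ne_zero_R h0

/-- the solvable group `13^8 : 2.O` -/
abbrev H := Multiplicative R ⋊[phi] C

instance : Finite H := Finite.of_equiv _ (SemidirectProduct.equivProd (φ := phi)).symm

theorem range_H : Set.range (orderOf : H → ℕ) = {1, 2, 3, 4, 6, 8, 13} := by
  rw [FpfSemidirect.range_orderOf phi phi_fpf, range_N, range_C]
  ext n
  simp only [Set.mem_union, Set.mem_insert_iff, Set.mem_singleton_iff]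
  tauto

/-- There is a finite solvable group with exactly the same set of element orders as the simple group PSL(3,3). -/
theorem result {F : Type*} [Field F] [Fintype F] (hF : Fintype.card F = 3) :
    ∃ (H : Type) (_ : Group H) (_ : Fintype H), Group.IsSolvable H ∧
      Set.range (orderOf : H → ℕ) = Set.range (orderOf : Matrix.ProjectiveSpecialLinearGroup (Fin 3) F → ℕ) := by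
  refine ⟨H, inferInstance, Fintype.ofFinite H, FpfSemidirect.isSolvable phi, ?_⟩
  rw [range_H, SL33.range_PSL3 hF]


end Cfsg.Agent.S3437
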