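import Cfsg.Statements.S3438
import Cfsg.Agent.Helper4.U33Spec

set_option autoImplicit false
open Cfsg

namespace Cfsg.Agent.S3438

/-- There is a finite solvable group with exactly the same set of element orders as the simple group PSU(3,3) (realised over the field with 9 elements). -/
theorem result {F : Type*} [Field F] [Fintype F] (hF : Fintype.card F = 9) :
    ∃ (H : Type) (_ : Group H) (_ : Fintype H), Group.IsSolvable H ∧ Set.range (orderOf : H → ℕ) = Set.range (orderOf : Cfsg.PSU 3 F 3 → ℕ) := by
  refine ⟨Cfsg.Agent.Helper4.SolvSpec.Hs, inferInstance, Fintype.ofFinite _, inferInstance, ?_⟩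
  rw [Cfsg.Agent.Helper4.SolvSpec.range_orderOf_Hs, Cfsg.Agent.Helper4.U33S.range_orderOf_PSU hF]

end Cfsg.Agent.S3438
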