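import Cfsg.Statements.S3443
import Mathlib

set_option autoImplicit false
open Cfsg

namespace Cfsg.Agent.S3443

/-- In a finite group, if `π g` has order `k` in `G ⧸ V` and `V` has exponent `p`, then `orderOf g ∈ {k, k*p}`. -/
theorem order_cases {G : Type*} [Group G] [Finite G] (V : Subgroup G) [V.Normal] (p : ℕ) (hp : p.Prime)
    (hexp : ∀ x : V, x ^ p = 1) (g : G) :
    orderOf g = orderOf (QuotientGroup.mk g : G ⧸ V) ∨
      orderOf g = orderOf (QuotientGroup.mk g : G ⧸ V) * p := by
  set k := orderOf (QuotientGroup.mk g : G ⧸ V) with hk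
  have hkpos : 0 < k := orderOf_pos _
  have h1 : k ∣ orderOf g := by
    rw [hk, orderOf_dvd_iff_pow_eq_one, ← QuotientGroup.mk_pow, pow_orderOf_eq_one]
    rfl
  have h2 : g ^ k ∈ V := by
    have : (QuotientGroup.mk g : G ⧸ V) ^ k = 1 := pow_orderOf_eq_one _
    rw [← QuotientGroup.mk_pow, QuotientGroup.eq_one_iff] at this
    exact this
  have h3 : g ^ (k * p) = 1 := by
    have := hexp ⟨g ^ k, h2⟩
    rw [pow_mul]
    exact congrArg Subtype.val this
  have h4 : orderOf g ∣ k * p := orderOf_dvd_of_pow_eq_one h3
  obtain ⟨j, hj⟩ := h1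
  rw [hj] at h4
  have h5 : j ∣ p := (Nat.mul_dvd_mul_iff_left hkpos).mp h4
  rcases (Nat.dvd_prime hp).mp h5 with rfl | rfl
  · left; rw [hj, mul_one]
  · right; exact hj

/-- Let G be a finite group and V a normal elementary abelian subgroup of G (abelian of prime exponent p, possibly trivial). Then the semidirect product V ⋊ G, with G acting on V by conjugation, has exactly the same set of element orders as G. -/
theorem result {G : Type*} [Group G] [Finite G] (V : Subgroup G) [V.Normal] (p : ℕ) (hp : p.Prime)
    (hcomm : ∀ x y : V, x * y = y * x) (hexp : ∀ x : V, x ^ p = 1) :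
    Set.range (orderOf : V ⋊[MulAut.conjNormal] G → ℕ) = Set.range (orderOf : G → ℕ) := by
  -- the multiplication homomorphism (v, g) ↦ v * g
  let φ : V ⋊[MulAut.conjNormal] G →* G :=
    SemidirectProduct.lift V.subtype (MonoidHom.id G) (by
      intro g
      ext v
      simp [MulAut.conjNormal_apply])
  let F : V ⋊[MulAut.conjNormal] G →* G × G := φ.prod SemidirectProduct.rightHom
  have hφ : ∀ x : V ⋊[MulAut.conjNormal] G, φ x = (x.left : G) * x.right := by
    intro x
    rfl
  have hF : Function.Injective F := by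
    intro x y hxy
    have h1 : φ x = φ y := congrArg Prod.fst hxy
    have h2 : x.right = y.right := congrArg Prod.snd hxy
    rw [hφ, hφ, h2] at h1
    have h3 : (x.left : G) = y.left := mul_right_cancel h1
    exact SemidirectProduct.ext (Subtype.ext h3) h2
  have hord : ∀ x : V ⋊[MulAut.conjNormal] G,
      orderOf x = Nat.lcm (orderOf (φ x)) (orderOf x.right) := by
    intro x
    rw [← orderOf_injective F hF x, Prod.orderOf]
    rfl
  ext n
  constructor
  · rintro ⟨x, rfl⟩
    rw [hord]
    -- both `φ x` and `x.right` have the same image in `G ⧸ V`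
    have hsame : (QuotientGroup.mk (φ x) : G ⧸ V) = QuotientGroup.mk x.right := by
      rw [hφ, QuotientGroup.mk_mul]
      have : (QuotientGroup.mk (x.left : G) : G ⧸ V) = 1 :=
        (QuotientGroup.eq_one_iff _).mpr x.left.2
      rw [this, one_mul]
    have ha := order_cases V p hp hexp (φ x)
    have hb := order_cases V p hp hexp x.right
    rw [hsame] at ha
    set k := orderOf (QuotientGroup.mk x.right : G ⧸ V)
    rcases ha with ha | ha <;> rcases hb with hb | hb
    · exact ⟨x.right, by rw [ha, hb, Nat.lcm_self]⟩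
    · refine ⟨x.right, ?_⟩
      rw [ha, hb]
      exact (Nat.lcm_eq_right (Dvd.intro _ rfl)).symm
    · refine ⟨φ x, ?_⟩
      rw [ha, hb]
      exact (Nat.lcm_eq_left (Dvd.intro _ rfl)).symm
    · exact ⟨x.right, by rw [ha, hb, Nat.lcm_self]⟩
  · rintro ⟨g, rfl⟩
    exact ⟨SemidirectProduct.inr g,
      orderOf_injective SemidirectProduct.inr SemidirectProduct.inr_injective g⟩

end Cfsg.Agent.S3443
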