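import Mathlib
import Cfsg.Statements.S3444
import Cfsg.Agent.S3443

set_option autoImplicit false
open Cfsg

namespace Cfsg.Agent.S3444

universe u

/-- `G` has a nontrivial normal elementary abelian subgroup. -/
def Good (G : Type u) [Group G] : Prop :=
  ∃ (V : Subgroup G) (p : ℕ), V.Normal ∧ V ≠ ⊥ ∧ p.Prime ∧ (∀ x y : V, x * y = y * x) ∧
    (∀ x : V, x ^ p = 1)

/-- A nontrivial abelian normal subgroup yields a nontrivial normal elementary abelian subgroup. -/
theorem good_of_abelian_normal {G : Type u} [Group G] [Finite G] (A : Subgroup G) [hAn : A.Normal]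
    (hA : A ≠ ⊥) (hcomm : ∀ a ∈ A, ∀ b ∈ A, a * b = b * a) : Good G := by
  have hcard : Nat.card A ≠ 1 := fun h => hA (Subgroup.card_eq_one.1 h)
  set p := (Nat.card A).minFac with hp
  have hpp : p.Prime := Nat.minFac_prime hcard
  haveI : Fact p.Prime := ⟨hpp⟩
  obtain ⟨x, hx⟩ := exists_prime_orderOf_dvd_card' (G := A) p (Nat.minFac_dvd _)
  let V : Subgroup G :=
    { carrier := {a | a ∈ A ∧ a ^ p = 1}
      mul_mem' := by
        rintro a b ⟨ha, ha'⟩ ⟨hb, hb'⟩
        refine ⟨A.mul_mem ha hb, ?_⟩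
        have : Commute a b := hcomm a ha b hb
        rw [this.mul_pow, ha', hb', one_mul]
      one_mem' := ⟨A.one_mem, one_pow _⟩
      inv_mem' := by
        rintro a ⟨ha, ha'⟩
        exact ⟨A.inv_mem ha, by rw [inv_pow, ha', inv_one]⟩ }
  refine ⟨V, p, ⟨?_⟩, ?_, hpp, ?_, ?_⟩
  · rintro a ⟨ha, ha'⟩ g
    refine ⟨hAn.conj_mem a ha g, ?_⟩
    rw [conj_pow, ha', mul_one, mul_inv_cancel]
  · intro hV
    have hxV : (x : G) ∈ V := by
      refine ⟨x.2, ?_⟩
      have := pow_orderOf_eq_one x
      rw [hx] at this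
      exact_mod_cast congrArg Subtype.val this
    rw [hV, Subgroup.mem_bot] at hxV
    have hx1 : x = 1 := Subtype.ext hxV
    rw [hx1, orderOf_one] at hx
    exact hpp.one_lt.ne hx
  · rintro ⟨a, ha, -⟩ ⟨b, hb, -⟩
    exact Subtype.ext (hcomm a ha b hb)
  · rintro ⟨a, -, ha'⟩
    exact Subtype.ext ha'

/-- A nontrivial solvable normal subgroup yields a nontrivial normal elementary abelian subgroup. -/
theorem good_of_solvable_normal {G : Type u} [Group G] [Finite G] (K : Subgroup G) [K.Normal]
    (hK : K ≠ ⊥) (hs : Group.IsSolvable K) : Good G := by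
  classical
  obtain ⟨n, hn⟩ := hs.solvable
  have hex : ∃ n, derivedSeries K n = ⊥ := ⟨n, hn⟩
  set m := Nat.find hex with hm
  have hm0 : m ≠ 0 := by
    intro h0
    have := Nat.find_spec hex
    rw [← hm, h0, derivedSeries_zero] at this
    have hnt : Nontrivial K := (Subgroup.nontrivial_iff_ne_bot K).2 hK
    exact top_ne_bot this
  obtain ⟨k, hk⟩ := Nat.exists_eq_succ_of_ne_zero hm0
  have hDk : derivedSeries K k ≠ ⊥ := by
    have := Nat.find_min hex (m := k) (by rw [← hm, hk]; exact Nat.lt_succ_self k)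
    exact this
  have hDk1 : ⁅derivedSeries K k, derivedSeries K k⁆ = ⊥ := by
    have := Nat.find_spec hex
    rw [← hm, hk, derivedSeries_succ] at this
    exact this
  set A : Subgroup G := (derivedSeries K k).map K.subtype with hA
  haveI : A.Normal := ConjAct.normal_of_characteristic_of_normal
  apply good_of_abelian_normal A
  · rw [hA, Ne, Subgroup.map_eq_bot_iff_of_injective _ K.subtype_injective]
    exact hDk
  · rintro _ ⟨a, ha, rfl⟩ _ ⟨b, hb, rfl⟩
    have hle := Subgroup.commutator_eq_bot_iff_le_centralizer.1 hDk1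
    have := hle ha
    rw [Subgroup.mem_centralizer_iff] at this
    have h2 := this b hb
    show (a : G) * b = b * a
    exact_mod_cast (congrArg Subtype.val h2).symm

/-- one step: the semidirect product. -/
theorem good_step {G : Type u} [Group G] [Finite G] (hG : Good G) :
    ∃ (G' : Type u) (_ : Group G') (_ : Finite G'), Good G' ∧
      Set.range (orderOf : G' → ℕ) = Set.range (orderOf : G → ℕ) ∧ 2 * Nat.card G ≤ Nat.card G' := by
  obtain ⟨V, p, hVn, hV, hp, hcomm, hexp⟩ := hG
  haveI := hVn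
  haveI : Finite (V ⋊[MulAut.conjNormal] G) := Finite.of_equiv _ SemidirectProduct.equivProd.symm
  refine ⟨V ⋊[MulAut.conjNormal] G, inferInstance, inferInstance, ?_,
    Cfsg.Agent.S3443.result V p hp hcomm hexp, ?_⟩
  · refine ⟨(SemidirectProduct.inl : V →* V ⋊[MulAut.conjNormal] G).range, p, ?_, ?_, hp, ?_, ?_⟩
    · rw [SemidirectProduct.range_inl_eq_ker_rightHom]
      infer_instance
    · intro h
      apply hV
      rw [MonoidHom.range_eq_bot_iff] at h
      rw [Subgroup.eq_bot_iff_forall]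
      intro v hv
      have h1 : (SemidirectProduct.inl : V →* V ⋊[MulAut.conjNormal] G) ⟨v, hv⟩ = 1 := by
        rw [h]; rfl
      have h2 : (⟨v, hv⟩ : V) = 1 := SemidirectProduct.inl_injective (by rw [h1, map_one])
      exact congrArg Subtype.val h2
    · rintro ⟨_, ⟨a, rfl⟩⟩ ⟨_, ⟨b, rfl⟩⟩
      apply Subtype.ext
      show SemidirectProduct.inl a * SemidirectProduct.inl b =
        SemidirectProduct.inl b * SemidirectProduct.inl a
      rw [← map_mul, ← map_mul, hcomm a b]
    · rintro ⟨_, ⟨a, rfl⟩⟩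
      apply Subtype.ext
      show (SemidirectProduct.inl a) ^ p = 1
      rw [← map_pow, hexp a, map_one]
  · rw [SemidirectProduct.card]
    have h2 : 2 ≤ Nat.card V := by
      have h1 : Nat.card V ≠ 1 := fun h => hV (Subgroup.card_eq_one.1 h)
      have h0 : 0 < Nat.card V := Nat.card_pos
      omega
    exact Nat.mul_le_mul_right _ h2

theorem good_iter (n : ℕ) : ∀ (G : Type u) [Group G] [Finite G], Good G →
    ∃ (G' : Type u) (_ : Group G') (_ : Finite G'), Good G' ∧
      Set.range (orderOf : G' → ℕ) = Set.range (orderOf : G → ℕ) ∧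
      2 ^ n * Nat.card G ≤ Nat.card G' := by
  induction n with
  | zero =>
    intro G _ _ hG
    exact ⟨G, inferInstance, inferInstance, hG, rfl, by simp⟩
  | succ n ih =>
    intro G _ _ hG
    obtain ⟨G₁, i1, i2, hG₁, hr₁, hc₁⟩ := ih G hG
    obtain ⟨G₂, j1, j2, hG₂, hr₂, hc₂⟩ := @good_step G₁ i1 i2 hG₁
    refine ⟨G₂, j1, j2, hG₂, hr₂.trans hr₁, ?_⟩
    calc 2 ^ (n + 1) * Nat.card G = 2 * (2 ^ n * Nat.card G) := by ring
      _ ≤ 2 * Nat.card G₁ := Nat.mul_le_mul_left _ hc₁
      _ ≤ Nat.card G₂ := hc₂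

/-- A finite group with a non-trivial solvable normal subgroup is not determined by its set of element orders, not even up to finitely many possibilities: for every bound N there is a finite group of order greater than N with exactly the same set of element orders. -/
theorem result {G : Type*} [Group G] [Finite G] (K : Subgroup G) [K.Normal] (hK : K ≠ ⊥)
    (hs : Group.IsSolvable K) (N : ℕ) :
    ∃ (H : Type) (_ : Group H) (_ : Fintype H), N < Fintype.card H ∧ Set.range (orderOf : H → ℕ) = Set.range (orderOf : G → ℕ) := by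
  obtain ⟨G', i1, i2, -, hr, hc⟩ := good_iter N G (good_of_solvable_normal K hK hs)
  haveI : Fintype (Shrink.{0} G') := Fintype.ofFinite _
  let e : Shrink.{0} G' ≃* G' := Shrink.mulEquiv
  refine ⟨Shrink.{0} G', inferInstance, inferInstance, ?_, ?_⟩
  · rw [← Nat.card_eq_fintype_card, Nat.card_congr e.toEquiv]
    have h1 : 0 < Nat.card G := Nat.card_pos
    have h2 : N < 2 ^ N := Nat.lt_two_pow_self
    calc N < 2 ^ N := h2
      _ ≤ 2 ^ N * Nat.card G := Nat.le_mul_of_pos_right _ h1
      _ ≤ Nat.card G' := hc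
  · rw [← hr]
    ext k
    constructor
    · rintro ⟨x, rfl⟩
      exact ⟨e x, e.orderOf_eq x⟩
    · rintro ⟨y, rfl⟩
      exact ⟨e.symm y, by rw [← e.orderOf_eq, e.apply_symm_apply]⟩

end Cfsg.Agent.S3444
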