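import Mathlib
import Cfsg.Statements.S3449
import Cfsg.Agent.S3448

set_option autoImplicit false
open Cfsg

namespace Cfsg.Agent.S3449

open Cfsg.Agent.S3448

theorem lhs : Set.range (orderOf : alternatingGroup (Fin 5) × alternatingGroup (Fin 5) × alternatingGroup (Fin 5) → ℕ) =
    {1, 2, 3, 5, 6, 10, 15, 30} := by
  ext n
  simp only [Set.mem_range, Set.mem_insert_iff, Set.mem_singleton_iff]
  constructor
  · rintro ⟨⟨a, b, c⟩, rfl⟩
    rw [Prod.orderOf, Prod.orderOf]
    rcases a5_order a with h | h | h | h <;> rcases a5_order b with h' | h' | h' | h' <;>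
      rcases a5_order c with h'' | h'' | h'' | h'' <;>
      simp only [h, h', h''] <;> decide
  · rintro (rfl | rfl | rfl | rfl | rfl | rfl | rfl | rfl)
    · exact ⟨(1, 1, 1), by rw [Prod.orderOf, Prod.orderOf]; simp⟩
    · exact ⟨(c2, 1, 1), by rw [Prod.orderOf, Prod.orderOf]; simp [order_c2]⟩
    · exact ⟨(c3, 1, 1), by rw [Prod.orderOf, Prod.orderOf]; simp [order_c3]⟩
    · exact ⟨(c5, 1, 1), by rw [Prod.orderOf, Prod.orderOf]; simp [order_c5]⟩
    · exact ⟨(c2, c3, 1), by rw [Prod.orderOf, Prod.orderOf, order_c2, order_c3, orderOf_one]; decide⟩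
    · exact ⟨(c2, c5, 1), by rw [Prod.orderOf, Prod.orderOf, order_c2, order_c5, orderOf_one]; decide⟩
    · exact ⟨(c3, c5, 1), by rw [Prod.orderOf, Prod.orderOf, order_c3, order_c5, orderOf_one]; decide⟩
    · exact ⟨(c2, c3, c5), by rw [Prod.orderOf, Prod.orderOf, order_c2, order_c3, order_c5]; decide⟩

theorem order_ofAdd (k : ℕ) :
    orderOf (Multiplicative.ofAdd ((k : ℕ) : ZMod 30)) = 30 / Nat.gcd 30 k := by
  rw [orderOf_ofAdd_eq_addOrderOf, ZMod.addOrderOf_coe k (by norm_num)]

theorem rhs : Set.range (orderOf : Multiplicative (ZMod 30) → ℕ) = {1, 2, 3, 5, 6, 10, 15, 30} := by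
  ext n
  simp only [Set.mem_range, Set.mem_insert_iff, Set.mem_singleton_iff]
  constructor
  · rintro ⟨x, rfl⟩
    have h : orderOf x ∣ 30 := by
      have := orderOf_dvd_natCard x
      rwa [Nat.card_congr Multiplicative.toAdd, Nat.card_zmod] at this
    have h2 : orderOf x ∈ Nat.divisors 30 := Nat.mem_divisors.2 ⟨h, by norm_num⟩
    have h3 : Nat.divisors 30 = {1, 2, 3, 5, 6, 10, 15, 30} := by decide
    rw [h3] at h2
    simpa using h2
  · rintro (rfl | rfl | rfl | rfl | rfl | rfl | rfl | rfl)
    · exact ⟨_, (order_ofAdd 30).trans (by decide)⟩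
    · exact ⟨_, (order_ofAdd 15).trans (by decide)⟩
    · exact ⟨_, (order_ofAdd 10).trans (by decide)⟩
    · exact ⟨_, (order_ofAdd 6).trans (by decide)⟩
    · exact ⟨_, (order_ofAdd 5).trans (by decide)⟩
    · exact ⟨_, (order_ofAdd 3).trans (by decide)⟩
    · exact ⟨_, (order_ofAdd 2).trans (by decide)⟩
    · exact ⟨_, (order_ofAdd 1).trans (by decide)⟩

/-- The direct product of three copies of the alternating group of degree 5 has exactly the same set of element orders as the cyclic group of order 30, namely the divisors of 30; in particular a direct power of a non-abelian simple group need not be determined by its element orders. -/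
theorem result : Set.range (orderOf : alternatingGroup (Fin 5) × alternatingGroup (Fin 5) × alternatingGroup (Fin 5) → ℕ) =
      Set.range (orderOf : Multiplicative (ZMod 30) → ℕ) := by
  rw [lhs, rhs]

end Cfsg.Agent.S3449
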