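import Mathlib
import Cfsg.Statements.S3488
import Cfsg.Statements.S3488
import Cfsg.Agent.S3491
-- import your own Cfsg.Agent.* helpers here

set_option autoImplicit false
open Cfsg

namespace Cfsg.Agent.S3488
open Cfsg

universe u

open Cfsg.Agent.S3491

variable {F : Type u} [Field F]

/-- The subgroup of `SL₃(F)` of matrices with last row `(0, 0, 1)`. -/
def T (F : Type u) [Field F] : Subgroup (Matrix.SpecialLinearGroup (Fin 3) F) where
  carrier := {M | (M : Matrix (Fin 3) (Fin 3) F) 2 0 = 0 ∧ (M : Matrix (Fin 3) (Fin 3) F) 2 1 = 0 ∧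
    (M : Matrix (Fin 3) (Fin 3) F) 2 2 = 1}
  one_mem' := by simp
  mul_mem' := by
    rintro M N ⟨h1, h2, h3⟩ ⟨h1', h2', h3'⟩
    simp only [Set.mem_ofPred_eq, Matrix.SpecialLinearGroup.coe_mul, Matrix.mul_apply,
      Fin.sum_univ_three, h1, h2, h3, h1', h2', h3']
    simp
  inv_mem' := by
    rintro M ⟨h1, h2, h3⟩
    have hdet := M.2
    rw [Matrix.det_fin_three] at hdet
    simp only [h1, h2, h3] at hdet
    simp only [Set.mem_ofPred_eq, Matrix.SpecialLinearGroup.coe_inv, Matrix.adjugate_fin_three,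
      Matrix.of_apply, Matrix.cons_val', Matrix.cons_val_zero, Matrix.cons_val_one,
      Matrix.cons_val_two, Matrix.empty_val', Matrix.cons_val_fin_one, h1, h2, h3]
    refine ⟨by simp, by simp, ?_⟩
    simp
    linear_combination hdet

theorem T_mem (M : T F) : (M.1 : Matrix (Fin 3) (Fin 3) F) 2 0 = 0 ∧
    (M.1 : Matrix (Fin 3) (Fin 3) F) 2 1 = 0 ∧ (M.1 : Matrix (Fin 3) (Fin 3) F) 2 2 = 1 := M.2

/-- The top-left block. -/
def blockA (M : T F) : Matrix.SpecialLinearGroup (Fin 2) F :=
  ⟨!![(M.1 : Matrix (Fin 3) (Fin 3) F) 0 0, (M.1 : Matrix (Fin 3) (Fin 3) F) 0 1;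
      (M.1 : Matrix (Fin 3) (Fin 3) F) 1 0, (M.1 : Matrix (Fin 3) (Fin 3) F) 1 1], by
    have hdet := M.1.2
    rw [Matrix.det_fin_three] at hdet
    obtain ⟨h1, h2, h3⟩ := T_mem M
    simp only [h1, h2, h3] at hdet
    rw [Matrix.det_fin_two_of]
    linear_combination hdet⟩

/-- The translation part. -/
def vecV (M : T F) : S3491.M F 1 :=
  fun _ => ![(M.1 : Matrix (Fin 3) (Fin 3) F) 0 2, (M.1 : Matrix (Fin 3) (Fin 3) F) 1 2]

/-- The isomorphism onto the semidirect product, as a homomorphism. -/
def toH : T F →* H F 1 where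
  toFun M := ⟨Multiplicative.ofAdd (vecV M), blockA M⟩
  map_one' := by
    apply SemidirectProduct.ext
    · change Multiplicative.ofAdd (vecV (1 : T F)) = Multiplicative.ofAdd 0
      congr 1
      funext i
      ext j
      fin_cases j <;> simp [vecV]
    · change blockA (1 : T F) = 1
      apply Subtype.ext
      ext i j
      fin_cases i <;> fin_cases j <;> simp [blockA]
  map_mul' M N := by
    obtain ⟨h1, h2, h3⟩ := T_mem N
    apply SemidirectProduct.ext
    · change Multiplicative.ofAdd (vecV (M * N)) =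
        Multiplicative.ofAdd (vecV M + mact 1 (blockA M).1 (vecV N))
      congr 1
      funext i
      ext j
      fin_cases j <;>
        simp [vecV, blockA, mact, Matrix.mul_apply, Fin.sum_univ_three, h3] <;> ring
    · change blockA (M * N) = blockA M * blockA N
      apply Subtype.ext
      rw [Matrix.SpecialLinearGroup.coe_mul]
      ext i j
      fin_cases i <;> fin_cases j <;>
        simp [blockA, Matrix.mul_apply, Fin.sum_univ_three, Fin.sum_univ_two, h1, h2]

theorem toH_injective : Function.Injective (toH (F := F)) := by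
  intro M N h
  have hl : vecV M = vecV N := by
    have := congrArg (fun x : H F 1 => Multiplicative.toAdd x.left) h
    exact this
  have hr : blockA M = blockA N := congrArg (fun x : H F 1 => x.right) h
  obtain ⟨h1, h2, h3⟩ := T_mem M
  obtain ⟨h1', h2', h3'⟩ := T_mem N
  apply Subtype.ext
  apply Subtype.ext
  have hv := congrFun hl 0
  have hA := congrArg Subtype.val hr
  ext i j
  fin_cases i <;> fin_cases j
  · exact congrFun (congrFun hA 0) 0
  · exact congrFun (congrFun hA 0) 1
  · exact congrFun hv 0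
  · exact congrFun (congrFun hA 1) 0
  · exact congrFun (congrFun hA 1) 1
  · exact congrFun hv 1
  · exact h1.trans h1'.symm
  · exact h2.trans h2'.symm
  · exact h3.trans h3'.symm

theorem toH_surjective : Function.Surjective (toH (F := F)) := by
  rintro ⟨v, A⟩
  have hA := A.2
  rw [Matrix.det_fin_two] at hA
  let M₀ : Matrix (Fin 3) (Fin 3) F :=
    !![A.1 0 0, A.1 0 1, Multiplicative.toAdd v 0 0; A.1 1 0, A.1 1 1, Multiplicative.toAdd v 0 1;
      0, 0, 1]
  have hdet : M₀.det = 1 := by
    rw [Matrix.det_fin_three]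
    simp [M₀]
    linear_combination hA
  refine ⟨⟨⟨M₀, hdet⟩, by
    change (M₀ 2 0 = 0 ∧ M₀ 2 1 = 0 ∧ M₀ 2 2 = 1)
    simp [M₀]⟩, ?_⟩
  apply SemidirectProduct.ext
  · change Multiplicative.ofAdd (vecV _) = v
    rw [← ofAdd_toAdd v]
    congr 1
    funext i
    ext j
    have hi : i = 0 := Subsingleton.elim _ _
    subst hi
    fin_cases j <;> simp [vecV, M₀]
  · change blockA _ = A
    apply Subtype.ext
    ext i j
    fin_cases i <;> fin_cases j <;> simp [blockA, M₀]

/-- The isomorphism. -/
noncomputable def equivH : T F ≃* H F 1 :=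
  MulEquiv.ofBijective toH ⟨toH_injective, toH_surjective⟩

theorem range_orderOf_eq {A B : Type*} [Group A] [Group B] (e : A ≃* B) :
    Set.range (orderOf : A → ℕ) = Set.range (orderOf : B → ℕ) := by
  ext n
  constructor
  · rintro ⟨x, rfl⟩
    exact ⟨e x, e.orderOf_eq x⟩
  · rintro ⟨y, rfl⟩
    exact ⟨e.symm y, e.symm.orderOf_eq y⟩

theorem range_orderOf_subgroup {G : Type*} [Group G] (K K' : Subgroup G) (h : K = K') :
    Set.range (orderOf : K → ℕ) = Set.range (orderOf : K' → ℕ) := by
  subst h; rfl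

theorem charP_two [Fintype F] (hF : Fintype.card F = 4) : CharP F 2 := by
  obtain ⟨n, hp, hn⟩ := FiniteField.card F (ringChar F)
  have h2 : ringChar F = 2 := by
    have hdvd : ringChar F ∣ 4 := by
      rw [← hF, hn]
      exact dvd_pow_self _ n.ne_zero
    have : ringChar F ∣ 2 ^ 2 := by simpa using hdvd
    exact (Nat.prime_dvd_prime_iff_eq hp Nat.prime_two).1 (hp.dvd_of_dvd_pow this)
  rw [← h2]
  exact ringChar.charP F

/-- Let F be the field with four elements. The affine group F² ⋊ SL(2,F), realised as the subgroup of SL(3,F) of matrices with last row (0, 0, 1), has exactly the same set of element orders as the alternating group of degree 6 (namely {1, 2, 3, 4, 5}); so the alternating group of degree 6 is not determined by its element orders. -/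
theorem result {F : Type*} [Field F] [Fintype F] (hF : Fintype.card F = 4) :
    Set.range (orderOf : Subgroup.closure {M : Matrix.SpecialLinearGroup (Fin 3) F |
        (M : Matrix (Fin 3) (Fin 3) F) 2 0 = 0 ∧ (M : Matrix (Fin 3) (Fin 3) F) 2 1 = 0 ∧ (M : Matrix (Fin 3) (Fin 3) F) 2 2 = 1} → ℕ) =
      Set.range (orderOf : alternatingGroup (Fin 6) → ℕ) := by
  have : CharP F 2 := charP_two hF
  have hcl : Subgroup.closure {M : Matrix.SpecialLinearGroup (Fin 3) F |
      (M : Matrix (Fin 3) (Fin 3) F) 2 0 = 0 ∧ (M : Matrix (Fin 3) (Fin 3) F) 2 1 = 0 ∧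
      (M : Matrix (Fin 3) (Fin 3) F) 2 2 = 1} = T F := Subgroup.closure_eq (T F)
  obtain ⟨t, ht⟩ := card4_exists hF
  rw [range_orderOf_subgroup _ _ hcl, range_orderOf_eq equivH, a6_range,
    spectrum_eq (card4_cases hF) t ht 1 Nat.one_pos]


end Cfsg.Agent.S3488
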