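import Mathlib
import Cfsg.Statements.S3495
import Cfsg.Agent.Helper1.Card
import Cfsg.Agent.Helper5.CharP2
import Cfsg.Statements.S3495
-- import your own Cfsg.Agent.* helpers here

set_option autoImplicit false
open Cfsg

namespace Cfsg.Agent.S3495
open Cfsg
universe u v

section aux

variable {G : Type u} [Group G] [Finite G] {Ω : Type v} [Fintype Ω] [MulAction G Ω]

omit [Finite G] [Fintype Ω] in
/-- regularity: elements of `N` are determined by the image of `α`. -/
theorem reg_eq (N : Subgroup G) (α : Ω) (hNreg : MulAction.stabilizer N α = ⊥) {a b : G}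
    (ha : a ∈ N) (hb : b ∈ N) (h : a • α = b • α) : a = b := by
  have h1 : (⟨b⁻¹ * a, N.mul_mem (N.inv_mem hb) ha⟩ : N) ∈ MulAction.stabilizer N α := by
    rw [MulAction.mem_stabilizer_iff, Subgroup.smul_def]
    show (b⁻¹ * a) • α = α
    rw [mul_smul, h, inv_smul_smul]
  rw [hNreg, Subgroup.mem_bot] at h1
  have h2 : b⁻¹ * a = 1 := congrArg Subtype.val h1
  calc a = b * (b⁻¹ * a) := by group
    _ = b := by rw [h2, mul_one]

omit [Finite G] [Fintype Ω] in
theorem inf_stab_eq_bot (N : Subgroup G) (α : Ω) (hNreg : MulAction.stabilizer N α = ⊥) :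
    N ⊓ MulAction.stabilizer G α = ⊥ := by
  rw [eq_bot_iff]
  intro x hx
  rw [Subgroup.mem_bot]
  apply reg_eq N α hNreg hx.1 N.one_mem
  rw [one_smul]
  exact MulAction.mem_stabilizer_iff.1 hx.2

omit [Fintype Ω] in
/-- `H = G_α` acts irreducibly on the regular normal subgroup `N`. -/
theorem irred (hHco : ∀ α : Ω, IsCoatom (MulAction.stabilizer G α))
    (N : Subgroup G) (hNtr : MulAction.IsPretransitive N Ω)
    (hNreg : ∀ ω : Ω, MulAction.stabilizer N ω = ⊥) (α : Ω) (L : Subgroup G) (hLN : L ≤ N)
    (hLn : MulAction.stabilizer G α ≤ Subgroup.normalizer (L : Set G)) : L = ⊥ ∨ L = N := by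
  have hLH : L ⊓ MulAction.stabilizer G α = ⊥ := by
    rw [eq_bot_iff, ← inf_stab_eq_bot N α (hNreg α)]
    exact inf_le_inf_right _ hLN
  have hle : MulAction.stabilizer G α ≤ L ⊔ MulAction.stabilizer G α := le_sup_right
  rcases (hHco α).le_iff.1 hle with h | h
  · right
    have h1 := Cfsg.Agent.Helper1.card_sup_mul_card_inf hLn
    rw [hLH, h, Subgroup.card_bot, mul_one, Subgroup.card_top] at h1
    have h2 : Nat.card N = Nat.card Ω := by
      have := MulAction.index_stabilizer_of_transitive N α
      rw [hNreg α, Subgroup.index_bot] at this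
      exact this
    have htr : MulAction.IsPretransitive G Ω := by
      refine ⟨fun a b => ?_⟩
      obtain ⟨n, hn⟩ := MulAction.exists_smul_eq N a b
      exact ⟨n, hn⟩
    have h3 : (MulAction.stabilizer G α).index = Nat.card Ω :=
      MulAction.index_stabilizer_of_transitive G α
    have h4 := Subgroup.card_mul_index (MulAction.stabilizer G α)
    rw [h3, ← h2, h1] at h4
    have hpos : 0 < Nat.card (MulAction.stabilizer G α) := Nat.card_pos
    have h5 : Nat.card N = Nat.card L := by
      have : Nat.card (MulAction.stabilizer G α) * Nat.card N =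
          Nat.card (MulAction.stabilizer G α) * Nat.card L := by rw [h4, mul_comm]
      exact Nat.eq_of_mul_eq_mul_left hpos this
    exact Subgroup.eq_of_le_of_card_ge hLN h5.le
  · left
    rw [← hLH]
    exact (inf_eq_left.2 (sup_eq_right.1 h)).symm

end aux

/-- Let a finite group G act faithfully and primitively on a finite set Ω with non-trivial point stabilizers, each acting primitively on every one of its orbits (an extremely primitive group), and suppose G has an elementary abelian normal p-subgroup N acting regularly on Ω (affine type). Then every non-trivial subgroup M of a point stabilizer G_α that is normal in G_α has the same orbits on Ω as G_α, and normalizes no subgroup of N other than 1 and N. -/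
theorem result {G : Type*} [Group G] [Finite G] {Ω : Type*} [Fintype Ω] [MulAction G Ω] [FaithfulSMul G Ω] (hprim : MulAction.IsPreprimitive G Ω) (hH : ∀ α : Ω, MulAction.stabilizer G α ≠ ⊥) (hep : ∀ (α : Ω) (ω : Ω), MulAction.IsPreprimitive (MulAction.stabilizer G α) (MulAction.orbit (MulAction.stabilizer G α) ω))
    (N : Subgroup G) [N.Normal] (hNc : IsMulCommutative N) (p : ℕ) (hp : p.Prime) (hNp : ∀ n ∈ N, n ^ p = 1)
    (hNtr : MulAction.IsPretransitive N Ω) (hNreg : ∀ ω : Ω, MulAction.stabilizer N ω = ⊥) (α : Ω) (M : Subgroup G) (hM : M ≠ ⊥) (hMle : M ≤ MulAction.stabilizer G α)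
    (hMn : MulAction.stabilizer G α ≤ Subgroup.normalizer (M : Set G)) :
    (∀ ω : Ω, MulAction.orbit M ω = MulAction.orbit (MulAction.stabilizer G α) ω) ∧
    (∀ L : Subgroup G, L ≤ N → M ≤ Subgroup.normalizer (L : Set G) → L = ⊥ ∨ L = N) := by
  have hNn : N.Normal := inferInstance
  -- Ω is nontrivial
  have hnt : Nontrivial Ω := by
    by_contra hnt
    rw [not_nontrivial_iff_subsingleton] at hnt
    apply hH α
    rw [eq_bot_iff]
    intro g _
    rw [Subgroup.mem_bot]
    apply FaithfulSMul.eq_of_smul_eq_smul (α := Ω)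
    intro a
    exact Subsingleton.elim _ _
  have hHco : ∀ β : Ω, IsCoatom (MulAction.stabilizer G β) := fun β =>
    MulAction.IsPreprimitive.isCoatom_stabilizer_of_isPreprimitive G β
  have hirr := irred hHco N hNtr hNreg α
  -- the centralizer of M in N is trivial
  have hC : Subgroup.centralizer (M : Set G) ⊓ N = ⊥ := by
    have hCn : MulAction.stabilizer G α ≤
        Subgroup.normalizer ((Subgroup.centralizer (M : Set G) ⊓ N : Subgroup G) : Set G) := by
      intro h hh
      have h1 := Cfsg.Agent.Helper5.normalizer_le_normalizer_centralizer M (hMn hh)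
      rw [Subgroup.mem_normalizer_iff] at h1 ⊢
      intro x
      constructor
      · rintro ⟨hx1, hx2⟩
        exact ⟨(h1 x).1 hx1, hNn.conj_mem x hx2 h⟩
      · rintro ⟨hx1, hx2⟩
        refine ⟨(h1 x).2 hx1, ?_⟩
        have := hNn.conj_mem _ hx2 h⁻¹
        have e : h⁻¹ * (h * x * h⁻¹) * h⁻¹⁻¹ = x := by group
        rwa [e] at this
    rcases hirr _ inf_le_right hCn with h | h
    · exact h
    · exfalso
      apply hM
      rw [eq_bot_iff]
      intro m hm
      rw [Subgroup.mem_bot]
      apply FaithfulSMul.eq_of_smul_eq_smul (α := Ω)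
      intro ω
      obtain ⟨n, hn⟩ := MulAction.exists_smul_eq N α ω
      have hnC : (n : G) ∈ Subgroup.centralizer (M : Set G) := by
        have : (n : G) ∈ Subgroup.centralizer (M : Set G) ⊓ N := by rw [h]; exact n.2
        exact this.1
      have hcomm : m * (n : G) = (n : G) * m := Subgroup.mem_centralizer_iff.1 hnC m hm
      have hmα : m • α = α := MulAction.mem_stabilizer_iff.1 (hMle hm)
      rw [← hn, Subgroup.smul_def, ← mul_smul, hcomm, mul_smul, hmα, one_smul]
  have hfix : ∀ ω : Ω, (∀ m ∈ M, m • ω = ω) → ω = α := by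
    intro ω hω
    obtain ⟨n, hn⟩ := MulAction.exists_smul_eq N α ω
    have hnC : (n : G) ∈ Subgroup.centralizer (M : Set G) ⊓ N := by
      refine Subgroup.mem_inf.2 ⟨?_, n.2⟩
      rw [Subgroup.mem_centralizer_iff]
      intro m hm
      have hmα : m • α = α := MulAction.mem_stabilizer_iff.1 (hMle hm)
      have h1 : (m * (n : G) * m⁻¹) • α = (n : G) • α := by
        have hmα' : m⁻¹ • α = α := by
          rw [inv_smul_eq_iff, hmα]
        rw [mul_smul, mul_smul, hmα']
        have : (n : G) • α = ω := hn
        rw [this, hω m hm]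
      have h2 := reg_eq N α (hNreg α) (hNn.conj_mem _ n.2 m) n.2 h1
      calc m * (n : G) = (m * (n : G) * m⁻¹) * m := by group
        _ = (n : G) * m := by rw [h2]
    rw [hC, Subgroup.mem_bot] at hnC
    rw [← hn, Subgroup.smul_def, hnC, one_smul]
  have hpart1 : ∀ ω : Ω, MulAction.orbit M ω = MulAction.orbit (MulAction.stabilizer G α) ω := by
    intro ω
    apply Set.Subset.antisymm
    · rintro _ ⟨m, rfl⟩
      exact ⟨⟨m.1, hMle m.2⟩, rfl⟩
    · rintro δ hδ
      have hMn' : (M.subgroupOf (MulAction.stabilizer G α)).Normal :=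
        Subgroup.normal_subgroupOf_of_le_normalizer hMn
      have hprimΔ := hep α ω
      by_cases hfp : MulAction.fixedPoints (M.subgroupOf (MulAction.stabilizer G α))
          (MulAction.orbit (MulAction.stabilizer G α) ω) = Set.univ
      · -- M fixes ω, so ω = α
        have hω : ∀ m ∈ M, m • ω = ω := by
          intro m hm
          have h1 : (⟨ω, MulAction.mem_orbit_self ω⟩ :
              MulAction.orbit (MulAction.stabilizer G α) ω) ∈
              MulAction.fixedPoints (M.subgroupOf (MulAction.stabilizer G α))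
                (MulAction.orbit (MulAction.stabilizer G α) ω) := by rw [hfp]; trivial
          have h2 := h1 ⟨⟨m, hMle hm⟩, Subgroup.mem_subgroupOf.2 hm⟩
          exact congrArg Subtype.val h2
        have hωα := hfix ω hω
        obtain ⟨h, rfl⟩ := hδ
        refine ⟨1, ?_⟩
        show (1 : M) • ω = h • ω
        rw [one_smul, hωα]
        exact (MulAction.mem_stabilizer_iff.1 h.2).symm
      · have htr := MulAction.IsQuasiPreprimitive.isPretransitive_of_normal
          (G := MulAction.stabilizer G α)
          (X := MulAction.orbit (MulAction.stabilizer G α) ω)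
          (N := M.subgroupOf (MulAction.stabilizer G α)) hfp
        obtain ⟨m', hm'⟩ := MulAction.exists_smul_eq
          (M.subgroupOf (MulAction.stabilizer G α))
          (⟨ω, MulAction.mem_orbit_self ω⟩ : MulAction.orbit (MulAction.stabilizer G α) ω)
          ⟨δ, hδ⟩
        refine ⟨⟨(m' : MulAction.stabilizer G α), Subgroup.mem_subgroupOf.1 m'.2⟩, ?_⟩
        exact congrArg Subtype.val hm'
  refine ⟨hpart1, ?_⟩
  intro L hLN hLM
  apply hirr L hLN
  -- H normalizes L
  have hconj : ∀ h ∈ MulAction.stabilizer G α, ∀ l ∈ L, h * l * h⁻¹ ∈ L := by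
    intro h hh l hl
    have hhα : h • α = α := MulAction.mem_stabilizer_iff.1 hh
    have hhα' : h⁻¹ • α = α := by rw [inv_smul_eq_iff, hhα]
    have h1 : h • (l • α) ∈ MulAction.orbit (MulAction.stabilizer G α) (l • α) :=
      ⟨⟨h, hh⟩, rfl⟩
    rw [← hpart1] at h1
    obtain ⟨m, hm⟩ := h1
    have hmα : (m : G) • α = α := MulAction.mem_stabilizer_iff.1 (hMle m.2)
    have hmα' : (m : G)⁻¹ • α = α := by rw [inv_smul_eq_iff, hmα]
    have h2 : (h * l * h⁻¹) • α = ((m : G) * l * (m : G)⁻¹) • α := by
      rw [mul_smul, mul_smul, hhα', mul_smul, mul_smul, hmα']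
      exact hm.symm
    have h3 := reg_eq N α (hNreg α) (hNn.conj_mem l (hLN hl) h)
      (hNn.conj_mem l (hLN hl) (m : G)) h2
    rw [h3]
    exact ((Subgroup.mem_normalizer_iff.1 (hLM m.2)) l).1 hl
  intro h hh
  rw [Subgroup.mem_normalizer_iff]
  intro x
  constructor
  · exact hconj h hh x
  · intro hx
    have := hconj h⁻¹ (Subgroup.inv_mem _ hh) _ hx
    have e : h⁻¹ * (h * x * h⁻¹) * h⁻¹⁻¹ = x := by group
    rwa [e] at this


end Cfsg.Agent.S3495
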