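import Mathlib
import Cfsg.Statements.S3498
import Cfsg.Agent.Helper1.Basic
import Cfsg.Agent.Helper1.Coprime
import Cfsg.Agent.Helper1.SylowInt

set_option autoImplicit false
open Cfsg

namespace Cfsg.Agent.S3498

/-- A simple group that is a `q`-group is commutative. -/
theorem comm_of_simple_pgroup {T : Type*} [Group T] [Finite T] (hT : IsSimpleGroup T) (q : ℕ) (hq : q.Prime)
    (hTq : IsPGroup q T) : IsMulCommutative T := by
  have : Fact q.Prime := ⟨hq⟩
  have : Group.IsNilpotent T := hTq.isNilpotent
  have hs : Group.IsSolvable T := inferInstance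
  exact ⟨⟨IsSimpleGroup.comm_iff_isSolvable.mpr hs⟩⟩

/-- A maximal subgroup of a finite almost simple group does not have prime order. Here G is almost simple in the sense that it has a non-abelian simple normal subgroup T with trivial centralizer. -/
theorem result {G : Type*} [Group G] [Finite G] (T : Subgroup G) [T.Normal] (hT : IsSimpleGroup T) (hTc : ¬ IsMulCommutative T)
    (hC : Subgroup.centralizer (T : Set G) = ⊥) (H : Subgroup G) (hmax : IsCoatom H) : ¬ (Nat.card H).Prime := by
  intro hprime
  have hpF : Fact (Nat.card H).Prime := ⟨hprime⟩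
  obtain ⟨p, hpdef⟩ : ∃ p, p = Nat.card H := ⟨_, rfl⟩
  rw [← hpdef] at hprime hpF
  have hTnotp : ∀ q : ℕ, q.Prime → ¬ IsPGroup q T :=
    fun q hq hTq => hTc (comm_of_simple_pgroup hT q hq hTq)
  have hHp : IsPGroup p H := IsPGroup.of_card (n := 1) (by rw [pow_one, hpdef])
  -- `H` is not normal
  have hHnn : ¬ H.Normal := by
    intro hHn
    have hn : ((H ⊓ T).subgroupOf T).Normal := by
      have : (H ⊓ T).Normal := Subgroup.normal_inf_normal H T
      infer_instance
    rcases hn.eq_bot_or_eq_top with h | h
    · rw [Subgroup.subgroupOf_eq_bot, disjoint_iff, inf_assoc, inf_idem] at h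
      have h1 : ⁅H, T⁆ = ⊥ := le_bot_iff.mp (h ▸ Subgroup.commutator_le_inf H T)
      rw [Subgroup.commutator_eq_bot_iff_le_centralizer, hC, le_bot_iff] at h1
      rw [h1, Subgroup.card_bot] at hpdef
      rw [hpdef] at hprime
      exact Nat.not_prime_one hprime
    · rw [Subgroup.subgroupOf_eq_top] at h
      have : T ≤ H := h.trans inf_le_left
      exact hTnotp p hprime (hHp.to_le this)
  -- `H` is a Sylow subgroup
  obtain ⟨P, hHP⟩ := hHp.exists_le_sylow
  have hPH : (P : Subgroup G) = H := by
    rcases hmax.le_iff.mp hHP with h | h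
    · exfalso
      have hGp : IsPGroup p G := by
        have := P.2
        rw [h] at this
        exact this.of_surjective (Subgroup.topEquiv (G := G)).toMonoidHom
          (fun g => ⟨⟨g, Subgroup.mem_top g⟩, rfl⟩)
      exact hTnotp p hprime (hGp.to_subgroup T)
    · exact h
  -- Burnside
  have hNC : Subgroup.normalizer ((P : Subgroup G) : Set G) ≤ Subgroup.centralizer ((P : Subgroup G) : Set G) := by
    rw [hPH]
    have h1 : H ≤ Subgroup.normalizer (H : Set G) := Subgroup.le_normalizer
    rcases hmax.le_iff.mp h1 with h | h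
    · exact absurd (Subgroup.normalizer_eq_top_iff.mp h) hHnn
    · rw [h]
      have hcyc : IsCyclic H := isCyclic_of_prime_card hpdef.symm
      have : IsMulCommutative H := IsCyclic.isMulCommutative
      exact Subgroup.le_centralizer_iff_isMulCommutative.mpr this
  have hcompl := MonoidHom.ker_transferSylow_isComplement' P hNC
  set K : Subgroup G := (MonoidHom.transferSylow P hNC).ker with hKdef
  have hKn : K.Normal := MonoidHom.normal_ker _
  have hKcard : Nat.card K * p = Nat.card G := by
    have := hcompl.card_mul_card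
    rw [hPH, ← hpdef] at this
    exact this
  have hKidx : K.index = p := by
    have h1 := K.card_mul_index
    rw [← hKcard] at h1
    exact Nat.eq_of_mul_eq_mul_left Nat.card_pos h1
  have hpK : ¬ p ∣ Nat.card K := by
    have h1 : ¬ p ∣ H.index := hPH ▸ P.not_dvd_index
    have h2 := H.card_mul_index
    rw [← hpdef, ← hKcard, mul_comm] at h2
    have h3 : H.index = Nat.card K := Nat.eq_of_mul_eq_mul_right hprime.pos h2
    rwa [h3] at h1
  -- `T ≤ K`
  have hTK : T ≤ K := by
    have hn : ((K ⊓ T).subgroupOf T).Normal := by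
      have : (K ⊓ T).Normal := Subgroup.normal_inf_normal K T
      infer_instance
    rcases hn.eq_bot_or_eq_top with h | h
    · exfalso
      rw [Subgroup.subgroupOf_eq_bot, disjoint_iff, inf_assoc, inf_idem] at h
      have h1 : K.relIndex T ∣ K.index := Subgroup.relIndex_dvd_index_of_normal K T
      rw [← Subgroup.inf_relIndex_right, h, Subgroup.relIndex_bot_left, hKidx] at h1
      rcases (Nat.dvd_prime hprime).mp h1 with h2 | h2
      · exact hTnotp p hprime (IsPGroup.of_card (n := 0) (by rw [h2, pow_zero]))
      · exact hTnotp p hprime (IsPGroup.of_card (n := 1) (by rw [h2, pow_one]))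
    · rw [Subgroup.subgroupOf_eq_top] at h
      exact h.trans inf_le_left
  -- a prime `r` dividing `|T|`
  have hTnt : Nat.card T ≠ 1 := by
    intro h
    exact hTnotp p hprime (IsPGroup.of_card (n := 0) (by rw [h, pow_zero]))
  obtain ⟨r, hr, hrT⟩ := Nat.exists_prime_and_dvd hTnt
  have hrF : Fact r.Prime := ⟨hr⟩
  have hrK : r ∣ Nat.card K := hrT.trans (Subgroup.card_dvd_of_le hTK)
  have hrp : r ≠ p := fun h => hpK (h ▸ hrK)
  -- invariant Sylow `r`-subgroup
  have hcop : (Nat.card H).Coprime (Nat.card K) := by
    rw [← hpdef]; exact (Nat.Prime.coprime_iff_not_dvd hprime).mpr hpK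
  have hHsolv : Group.IsSolvable H := by
    have hcyc : IsCyclic H := isCyclic_of_prime_card hpdef.symm
    have hc : IsMulCommutative H := IsCyclic.isMulCommutative
    exact Group.isSolvable_of_comm (fun a b => hc.is_comm.comm a b)
  obtain ⟨R, hR⟩ := Cfsg.Agent.Helper1.exists_invariant_sylow (p := r) H K
    (by rw [Subgroup.normalizer_eq_top_iff.mpr hKn]; exact le_top) hcop (Or.inl hHsolv)
  set R₀ : Subgroup G := (R : Subgroup K).map K.subtype with hR₀
  have hR₀card : Nat.card R₀ = Nat.card R := Subgroup.card_map_of_injective K.subtype_injective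
  obtain ⟨a, ha⟩ := R.2.exists_card_eq
  have ha0 : a ≠ 0 := by
    intro h0
    rw [h0, pow_zero] at ha
    have := R.card_eq_multiplicity
    rw [ha] at this
    have hpos : 0 < (Nat.card K).factorization r :=
      hr.factorization_pos_of_dvd Nat.card_pos.ne' hrK
    have : r ^ (Nat.card K).factorization r = 1 := this.symm
    rw [Nat.pow_eq_one] at this
    rcases this with h | h
    · exact hr.one_lt.ne' h
    · omega
  have hdisj : H ⊓ R₀ = ⊥ := by
    apply Cfsg.Agent.Helper1.inf_eq_bot_of_coprime_card
    rw [← hpdef, hR₀card, ha]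
    exact Nat.Coprime.pow_right a ((Nat.coprime_primes hprime hr).mpr (Ne.symm hrp))
  have hsup := Cfsg.Agent.Helper1.card_sup_of_le_normalizer hR hdisj
  rw [← hpdef, hR₀card, ha] at hsup
  have hle : H ≤ R₀ ⊔ H := le_sup_right
  rcases hmax.le_iff.mp hle with h | h
  · -- `R₀ ⊔ H = ⊤`
    rw [h, Subgroup.card_top, ← hKcard, mul_comm] at hsup
    have hKr : Nat.card K = r ^ a := Nat.eq_of_mul_eq_mul_left hprime.pos hsup
    have hKrg : IsPGroup r K := IsPGroup.of_card hKr
    exact hTnotp r hr (hKrg.to_le hTK)
  · rw [h, ← hpdef] at hsup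
    have h1 : r ^ a = 1 := by
      have : p * 1 = p * r ^ a := by rw [mul_one]; exact hsup
      exact (Nat.eq_of_mul_eq_mul_left hprime.pos this).symm
    rw [Nat.pow_eq_one] at h1
    rcases h1 with h1 | h1
    · exact hr.one_lt.ne' h1
    · exact ha0 h1

end Cfsg.Agent.S3498
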