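import Mathlib
import Cfsg.Statements.S3504

set_option autoImplicit false
open Cfsg

namespace Cfsg.Agent.S3504

theorem cycleType_of_fpf_prime (n : ℕ) (g : Equiv.Perm (Fin n)) (hp : (orderOf g).Prime)
    (hfpf : ∀ i : Fin n, g i ≠ i) :
    orderOf g ∣ n ∧ g.cycleType = Multiset.replicate (n / orderOf g) (orderOf g) := by
  obtain ⟨k, hk⟩ := Equiv.Perm.cycleType_prime_order hp
  have hsupp : g.support = Finset.univ := by
    ext i
    simp [Equiv.Perm.mem_support, hfpf i]
  have hsum : g.cycleType.sum = n := by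
    rw [Equiv.Perm.sum_cycleType, hsupp, Finset.card_univ, Fintype.card_fin]
  rw [hk, Multiset.sum_replicate, smul_eq_mul] at hsum
  have hdiv : n / orderOf g = k + 1 := by
    have h := Nat.mul_div_cancel (k + 1) hp.pos
    rw [hsum] at h
    exact h
  refine ⟨⟨k + 1, by rw [mul_comm]; exact hsum.symm⟩, ?_⟩
  rw [hk, hdiv]

theorem exists_fpf_prime (n p : ℕ) (hn : 0 < n) (hp : p.Prime) (hpn : p ∣ n) :
    ∃ g : Equiv.Perm (Fin n), g.cycleType = Multiset.replicate (n / p) p ∧ orderOf g = p ∧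
      ∀ i : Fin n, g i ≠ i := by
  have hsum : (Multiset.replicate (n / p) p).sum = n := by
    rw [Multiset.sum_replicate, smul_eq_mul, Nat.div_mul_cancel hpn]
  obtain ⟨g, hg⟩ := (Equiv.Perm.exists_with_cycleType_iff (α := Fin n)
    (m := Multiset.replicate (n / p) p)).mpr
    ⟨by rw [hsum, Fintype.card_fin], fun a ha => by
      rw [Multiset.eq_of_mem_replicate ha]; exact hp.two_le⟩
  have hpos : 0 < n / p := Nat.div_pos (Nat.le_of_dvd hn hpn) hp.pos
  have hmem : p ∈ Multiset.replicate (n / p) p := by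
    rw [Multiset.mem_replicate]; exact ⟨hpos.ne', rfl⟩
  refine ⟨g, hg, ?_, ?_⟩
  · rw [← Equiv.Perm.lcm_cycleType, hg]
    apply Nat.dvd_antisymm
    · rw [Multiset.lcm_dvd]
      intro b hb
      rw [Multiset.eq_of_mem_replicate hb]
    · exact Multiset.dvd_lcm hmem
  · have hcard : g.support.card = Fintype.card (Fin n) := by
      rw [← Equiv.Perm.sum_cycleType, hg, hsum, Fintype.card_fin]
    have hsupp : g.support = Finset.univ := Finset.eq_univ_of_card _ hcard
    intro i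
    have : i ∈ g.support := by rw [hsupp]; exact Finset.mem_univ i
    exact Equiv.Perm.mem_support.mp this

/-- For n ≥ 5, the fixed-point-free permutations of prime order in the symmetric group of degree n form a single conjugacy class if and only if n is a prime power. -/
theorem result (n : ℕ) (hn : 5 ≤ n) :
    Nat.card {c : ConjClasses (Equiv.Perm (Fin n)) // ∃ g : Equiv.Perm (Fin n), ConjClasses.mk g = c ∧ (orderOf g).Prime ∧ ∀ i : Fin n, g i ≠ i} = 1 ↔ IsPrimePow n := by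
  have hn0 : 0 < n := by omega
  rw [isPrimePow_iff_unique_prime_dvd, Nat.card_eq_one_iff_unique]
  constructor
  · rintro ⟨hsub, ⟨⟨c, g, hgc, hgp, hgf⟩⟩⟩
    obtain ⟨hdvd, hct⟩ := cycleType_of_fpf_prime n g hgp hgf
    refine ⟨orderOf g, ⟨hgp, hdvd⟩, ?_⟩
    rintro q ⟨hq, hqn⟩
    obtain ⟨g', hct', hord', hfpf'⟩ := exists_fpf_prime n q hn0 hq hqn
    have h1 : (⟨ConjClasses.mk g', g', rfl, by rw [hord']; exact hq, hfpf'⟩ :
        {c : ConjClasses (Equiv.Perm (Fin n)) // ∃ g : Equiv.Perm (Fin n), ConjClasses.mk g = c ∧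
          (orderOf g).Prime ∧ ∀ i : Fin n, g i ≠ i}) = ⟨c, g, hgc, hgp, hgf⟩ := Subsingleton.elim _ _
    have h2 : ConjClasses.mk g' = ConjClasses.mk g := by
      have := congrArg Subtype.val h1
      simp only at this
      rw [this, hgc]
    rw [ConjClasses.mk_eq_mk_iff_isConj, Equiv.Perm.isConj_iff_cycleType_eq, hct', hct] at h2
    have hpos : 0 < n / q := Nat.div_pos (Nat.le_of_dvd hn0 hqn) hq.pos
    have hmem : q ∈ Multiset.replicate (n / q) q := by
      rw [Multiset.mem_replicate]; exact ⟨hpos.ne', rfl⟩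
    rw [h2] at hmem
    exact Multiset.eq_of_mem_replicate hmem
  · rintro ⟨p, ⟨hp, hpn⟩, huniq⟩
    obtain ⟨g₀, hct₀, hord₀, hfpf₀⟩ := exists_fpf_prime n p hn0 hp hpn
    refine ⟨⟨?_⟩, ⟨⟨ConjClasses.mk g₀, g₀, rfl, by rw [hord₀]; exact hp, hfpf₀⟩⟩⟩
    rintro ⟨c, g, hgc, hgp, hgf⟩ ⟨c', g', hgc', hgp', hgf'⟩
    apply Subtype.ext
    change c = c'
    obtain ⟨hdvd, hct⟩ := cycleType_of_fpf_prime n g hgp hgf
    obtain ⟨hdvd', hct'⟩ := cycleType_of_fpf_prime n g' hgp' hgf'
    have e1 := huniq _ ⟨hgp, hdvd⟩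
    have e2 := huniq _ ⟨hgp', hdvd'⟩
    rw [← hgc, ← hgc', ConjClasses.mk_eq_mk_iff_isConj, Equiv.Perm.isConj_iff_cycleType_eq, hct, hct', e1, e2]

end Cfsg.Agent.S3504
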