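import Mathlib
import Cfsg.Agent.Helper5.AffOrder
import Cfsg.Statements.S3508
-- import your own Cfsg.Agent.* helpers here

set_option autoImplicit false
open Cfsg

namespace Cfsg.Agent.S3508

/-- Let a finite group G act faithfully on a set Ω with p ^ m points (p prime) and have an elementary abelian normal p-subgroup N acting regularly on Ω (so G is a group of affine transformations of an m-dimensional space over the field with p elements). If G contains an element of order p ^ r with r ≥ 1, then p ^ (r − 1) ≤ m. In particular an element of order p ^ m forces m ≤ 2, and m ≤ 1 when p is odd. -/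
theorem result {G : Type*} [Group G] [Finite G] {Ω : Type*} [Fintype Ω] [MulAction G Ω] [FaithfulSMul G Ω] (p m : ℕ) (hp : p.Prime) (hcard : Fintype.card Ω = p ^ m)
    (N : Subgroup G) [N.Normal] (hNc : IsMulCommutative N) (hNp : ∀ n ∈ N, n ^ p = 1)
    (hNtr : MulAction.IsPretransitive N Ω) (hNreg : ∀ ω : Ω, MulAction.stabilizer N ω = ⊥)
    (g : G) (r : ℕ) (hr : 1 ≤ r) (hg : orderOf g = p ^ r) :
    p ^ (r - 1) ≤ m ∧ (r = m → m ≤ 2 ∧ (2 < p → m ≤ 1)) := by
  haveI : Fact p.Prime := ⟨hp⟩
  haveI := hNc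
  have key : p ^ (r - 1) ≤ m := by
    by_contra h
    have hlt : m < p ^ (r - 1) := lt_of_not_ge h
    have h1 := Cfsg.Agent.Helper5.AffOrder.pow_eq_one_of_lt p m
      (by rw [Nat.card_eq_fintype_card]; exact hcard) N hNp hNtr hNreg g r
      (by rw [← hg]; exact pow_orderOf_eq_one g) (r - 1) hlt
    have h2 : orderOf g ∣ p ^ (r - 1) := orderOf_dvd_of_pow_eq_one h1
    rw [hg] at h2
    have h3 := (Nat.pow_dvd_pow_iff_le_right hp.one_lt).mp h2
    omega
  refine ⟨key, ?_⟩
  intro hrm
  subst hrm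
  have h2 : 2 ≤ p := hp.two_le
  constructor
  · by_contra hm
    have hm3 : 3 ≤ r := by omega
    obtain ⟨j, rfl⟩ : ∃ j, r = j + 3 := ⟨r - 3, by omega⟩
    have e : j + 3 - 1 = j + 2 := by omega
    rw [e] at key
    have h4 : 2 ^ (j + 2) ≤ p ^ (j + 2) := Nat.pow_le_pow_left h2 _
    have h5 : j < 2 ^ j := Nat.lt_two_pow_self
    have h6 : 2 ^ (j + 2) = 4 * 2 ^ j := by ring
    omega
  · intro hp3
    by_contra hm
    have hm2 : 2 ≤ r := by omega
    obtain ⟨j, rfl⟩ : ∃ j, r = j + 2 := ⟨r - 2, by omega⟩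
    have e : j + 2 - 1 = j + 1 := by omega
    rw [e] at key
    have h4 : 3 ^ (j + 1) ≤ p ^ (j + 1) := Nat.pow_le_pow_left (by omega) _
    have h5 : j < 3 ^ j := Nat.lt_pow_self (by norm_num)
    have h6 : 3 ^ (j + 1) = 3 * 3 ^ j := by ring
    omega

end Cfsg.Agent.S3508
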