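import Cfsg.Statements.S3511

set_option autoImplicit false
open Cfsg

namespace Cfsg.Agent.S3511

lemma stab_bot_iff {G : Type*} [Group G] [Finite G] {Ω : Type*} [MulAction G Ω] (g : G) (ω : Ω) :
    MulAction.stabilizer (Subgroup.zpowers g) ω = ⊥ ↔ ∀ k : ℕ, g ^ k • ω = ω → g ^ k = 1 := by
  rw [Subgroup.eq_bot_iff_forall]
  constructor
  · intro h k hk
    have := h ⟨g ^ k, Subgroup.pow_mem _ (Subgroup.mem_zpowers g) k⟩
      (by rw [MulAction.mem_stabilizer_iff]; exact hk)
    exact congrArg Subtype.val this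
  · rintro h ⟨s, hs⟩ hs'
    rw [← mem_powers_iff_mem_zpowers] at hs
    obtain ⟨k, rfl⟩ := hs
    rw [MulAction.mem_stabilizer_iff] at hs'
    have := h k hs'
    exact Subtype.ext this

lemma step {G : Type*} [Group G] [Finite G] {Ω : Type*} [MulAction G Ω] (g : G) (ω : Ω)
    (p : ℕ) (hp : p.Prime) (hpp : p * p ∣ orderOf g)
    (h : ∀ k : ℕ, (g ^ p) ^ k • ω = ω → (g ^ p) ^ k = 1) :
    ∀ k : ℕ, g ^ k • ω = ω → g ^ k = 1 := by
  intro k hk
  by_contra hne
  set s := g ^ k with hs
  have hd1 : orderOf s ≠ 1 := by rwa [Ne, orderOf_eq_one_iff]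
  have hd0 : orderOf s ≠ 0 := (orderOf_pos s).ne'
  set q := (orderOf s).minFac with hq
  have hqp : q.Prime := Nat.minFac_prime hd1
  have hqd : q ∣ orderOf s := Nat.minFac_dvd _
  set t := s ^ (orderOf s / q) with ht
  have hto : orderOf t = q := orderOf_pow_orderOf_div hd0 hqd
  have htω : t • ω = ω := by
    have : s ∈ MulAction.stabilizer G ω := hk
    exact pow_mem this _
  set j := k * (orderOf s / q) with hj
  have htj : t = g ^ j := by rw [ht, hs, ← pow_mul]
  have hn : orderOf g ∣ j * q := by
    rw [orderOf_dvd_iff_pow_eq_one, pow_mul, ← htj, ← hto]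
    exact pow_orderOf_eq_one t
  have hppj : p * p ∣ j * q := hpp.trans hn
  have hpj : p ∣ j := by
    have h1 : p ∣ j * q := (dvd_mul_right p p).trans hppj
    rcases (Nat.Prime.dvd_mul hp).1 h1 with h2 | h2
    · exact h2
    · have hpq : p = q := (Nat.prime_dvd_prime_iff_eq hp hqp).1 h2
      rw [← hpq] at hppj
      exact Nat.dvd_of_mul_dvd_mul_right hp.pos hppj
  obtain ⟨j', hj'⟩ := hpj
  have ht1 : t = 1 := by
    have h3 : t = (g ^ p) ^ j' := by rw [htj, hj', pow_mul]
    rw [h3]
    apply h
    rw [← h3]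
    exact htω
  rw [ht1, orderOf_one] at hto
  exact hqp.one_lt.ne hto

/-- Let a finite group G act faithfully on a set Ω. If every element of G of square-free order has a regular cycle (an orbit of the cyclic group it generates with trivial stabilizer), then every element of G has a regular cycle. -/
theorem result {G : Type*} [Group G] [Finite G] {Ω : Type*} [MulAction G Ω] [FaithfulSMul G Ω]
    (h : ∀ g : G, Squarefree (orderOf g) → ∃ ω : Ω, MulAction.stabilizer (Subgroup.zpowers g) ω = ⊥) (g : G) :
    ∃ ω : Ω, MulAction.stabilizer (Subgroup.zpowers g) ω = ⊥ := by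
  have main : ∀ n : ℕ, ∀ g : G, orderOf g = n →
      ∃ ω : Ω, MulAction.stabilizer (Subgroup.zpowers g) ω = ⊥ := by
    intro n
    induction n using Nat.strong_induction_on with
    | _ n ih =>
      intro g hg
      by_cases hsq : Squarefree (orderOf g)
      · exact h g hsq
      · rw [Nat.squarefree_iff_prime_squarefree] at hsq
        push Not at hsq
        obtain ⟨p, hp, hpp⟩ := hsq
        have hpn : p ∣ orderOf g := (dvd_mul_right p p).trans hpp
        have hord : orderOf (g ^ p) = orderOf g / p := orderOf_pow_of_dvd hp.ne_zero hpn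
        have hlt : orderOf (g ^ p) < n := by
          rw [hord, ← hg]
          exact Nat.div_lt_self (orderOf_pos g) hp.one_lt
        obtain ⟨ω, hω⟩ := ih _ hlt (g ^ p) rfl
        refine ⟨ω, ?_⟩
        rw [stab_bot_iff] at hω ⊢
        exact step g ω p hp hpp hω
  exact main _ g rfl

end Cfsg.Agent.S3511
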