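import Mathlib
import Cfsg.Statements.S3514
import Cfsg.Agent.Helper1.Card
import Cfsg.Statements.S3514
-- import your own Cfsg.Agent.* helpers here

set_option autoImplicit false
open Cfsg

namespace Cfsg.Agent.S3514
open Cfsg
universe u v

section orb

variable {Γ : Type u} [Group Γ] {V : Type v} [MulAction Γ V]

theorem stabilizer_subgroup (X : Subgroup Γ) (w : V) :
    MulAction.stabilizer X w = (MulAction.stabilizer Γ w).subgroupOf X := by
  ext x
  rw [MulAction.mem_stabilizer_iff, Subgroup.mem_subgroupOf, MulAction.mem_stabilizer_iff]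
  rfl

theorem card_orb (X : Subgroup Γ) (w : V) :
    Nat.card {u : V | ∃ x ∈ X, x • w = u} = (MulAction.stabilizer Γ w).relIndex X := by
  have h1 : {u : V | ∃ x ∈ X, x • w = u} = MulAction.orbit X w := by
    ext u
    simp only [Set.mem_ofPred_eq, MulAction.mem_orbit_iff]
    constructor
    · rintro ⟨x, hx, rfl⟩
      exact ⟨⟨x, hx⟩, rfl⟩
    · rintro ⟨x, rfl⟩
      exact ⟨x.1, x.2, rfl⟩
  rw [h1, Subgroup.relIndex, ← stabilizer_subgroup, MulAction.index_stabilizer,
    Nat.card_coe_set_eq]

end orb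

/-- Let p be a prime, V a finite vector space over the field with p elements, and H a group of linear transformations of V all of whose orbits on V have size coprime to p. (i) Every normal subgroup K of H has all its orbits on V of size coprime to p. (ii) If N is a group of linear transformations of V of order coprime to p that is normalized by H, then the group generated by N and H has all its orbits on V of size coprime to p. -/
theorem result (p : ℕ) [Fact p.Prime] {V : Type*} [AddCommGroup V] [Module (ZMod p) V] [Finite V]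
    (H : Subgroup (V ≃ₗ[ZMod p] V)) (hH : ∀ v : V, ¬ p ∣ Nat.card {u : V | ∃ h ∈ H, h v = u}) :
    (∀ K : Subgroup (V ≃ₗ[ZMod p] V), K ≤ H → H ≤ Subgroup.normalizer (K : Set (V ≃ₗ[ZMod p] V)) →
        ∀ v : V, ¬ p ∣ Nat.card {u : V | ∃ k ∈ K, k v = u}) ∧
    (∀ N : Subgroup (V ≃ₗ[ZMod p] V), ¬ p ∣ Nat.card N → H ≤ Subgroup.normalizer (N : Set (V ≃ₗ[ZMod p] V)) →
        ∀ v : V, ¬ p ∣ Nat.card {u : V | ∃ x ∈ N ⊔ H, x v = u}) := by
  have hp : p.Prime := Fact.out
  have hfin : Finite (V ≃ₗ[ZMod p] V) :=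
    Finite.of_injective (fun f => (f : V → V)) DFunLike.coe_injective
  have key : ∀ (X : Subgroup (V ≃ₗ[ZMod p] V)) (w : V),
      Nat.card {u : V | ∃ x ∈ X, x w = u} = (MulAction.stabilizer (V ≃ₗ[ZMod p] V) w).relIndex X :=
    fun X w => card_orb X w
  constructor
  · intro K hKH hn w
    rw [key]
    have h0 := hH w
    rw [key] at h0
    intro hd
    apply h0
    refine hd.trans ?_
    -- S.relIndex K ∣ S.relIndex H
    have hKn : (K.subgroupOf H).Normal := Subgroup.normal_subgroupOf_of_le_normalizer hn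
    have h1 := Cfsg.Agent.Helper1.relIndex_dvd_index_of_normalizes
      (N := K.subgroupOf H)
      (A := (MulAction.stabilizer (V ≃ₗ[ZMod p] V) w).subgroupOf H)
      (by rw [Subgroup.normalizer_eq_top (K.subgroupOf H)]; exact le_top)
    rw [Subgroup.relIndex_subgroupOf hKH] at h1
    exact h1
  · intro N hN hn w
    rw [key]
    have h0 := hH w
    rw [key] at h0
    set S := MulAction.stabilizer (V ≃ₗ[ZMod p] V) w with hS
    have h1 : S.relIndex (N ⊔ H) ∣ (S ⊓ H).relIndex (N ⊔ H) :=
      Subgroup.relIndex_dvd_of_le_left (N ⊔ H) (inf_le_left : S ⊓ H ≤ S)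
    have h2 : (S ⊓ H).relIndex H * H.relIndex (N ⊔ H) = (S ⊓ H).relIndex (N ⊔ H) :=
      Subgroup.relIndex_mul_relIndex _ _ _ inf_le_right le_sup_right
    rw [Subgroup.inf_relIndex_right, Cfsg.Agent.Helper1.relIndex_sup_of_le_normalizer' hn] at h2
    have h3 : H.relIndex N ∣ Nat.card N := Subgroup.relIndex_dvd_card H N
    intro hd
    have h4 : p ∣ S.relIndex H * H.relIndex N := h2 ▸ hd.trans h1
    rcases (Nat.Prime.dvd_mul hp).1 h4 with h5 | h5
    · exact h0 h5
    · exact hN (h5.trans h3)


end Cfsg.Agent.S3514
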