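import Mathlib
import Cfsg.Statements.S3515
-- import your own Cfsg.Agent.* helpers here

set_option autoImplicit false
open Cfsg

namespace Cfsg.Agent.S3515

theorem affine_combo {p : ℕ} [Fact p.Prime] {g : Equiv.Perm (Fin 2 → ZMod p)}
    (hg : ∃ (A : (Fin 2 → ZMod p) ≃ₗ[ZMod p] (Fin 2 → ZMod p)) (b : Fin 2 → ZMod p), ∀ x, g x = A x + b)
    (x y : Fin 2 → ZMod p) (t : ZMod p) : g (x + t • (y - x)) = g x + t • (g y - g x) := by
  obtain ⟨A, b, h⟩ := hg
  rw [h, h, h, map_add, map_smul, map_sub]
  module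

theorem vec_decomp {p : ℕ} (x : Fin 2 → ZMod p) :
    x = x 0 • (Pi.single 0 1 : Fin 2 → ZMod p) + x 1 • (Pi.single 1 1 : Fin 2 → ZMod p) := by
  ext i
  fin_cases i <;> simp

theorem four_points (v : Fin 2 → ZMod 2) :
    v = 0 ∨ v = Pi.single 0 1 ∨ v = Pi.single 1 1 ∨ v = Pi.single 0 1 + Pi.single 1 1 := by
  revert v
  decide

theorem four_ne0 : (Pi.single 0 1 + Pi.single 1 1 : Fin 2 → ZMod 2) ≠ 0 := by decide

theorem four_ne1 : (Pi.single 0 1 + Pi.single 1 1 : Fin 2 → ZMod 2) ≠ Pi.single 0 1 := by decide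

theorem four_ne2 : (Pi.single 0 1 + Pi.single 1 1 : Fin 2 → ZMod 2) ≠ Pi.single 1 1 := by decide

/-- Every primitive affine permutation group of degree p² is 3-closed. Let p be a prime and G a group of permutations of the plane V = F_p² consisting of affine maps x ↦ Ax + b, containing all translations, and acting primitively on V. Then any permutation σ of V that agrees on every triple of points with some element of G (σ preserves every G-orbit on ordered triples) already lies in G. -/
theorem result (p : ℕ) [Fact p.Prime] (G : Subgroup (Equiv.Perm (Fin 2 → ZMod p)))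
    (haff : (G : Set (Equiv.Perm (Fin 2 → ZMod p))) ⊆ {τ : Equiv.Perm (Fin 2 → ZMod p) | ∃ (A : (Fin 2 → ZMod p) ≃ₗ[ZMod p] (Fin 2 → ZMod p)) (b : Fin 2 → ZMod p), ∀ x, τ x = A x + b})
    (htrans : ∀ b : Fin 2 → ZMod p, ∃ g ∈ G, ∀ x, g x = x + b) (hprim : MulAction.IsPreprimitive G (Fin 2 → ZMod p))
    (σ : Equiv.Perm (Fin 2 → ZMod p)) (hσ : (∀ t : Fin 3 → (Fin 2 → ZMod p), ∃ g ∈ G, ∀ i, σ (t i) = g (t i))) : σ ∈ G := by
  -- sigma preserves affine combinations
  have hcombo : ∀ (x y : Fin 2 → ZMod p) (t : ZMod p), σ (x + t • (y - x)) = σ x + t • (σ y - σ x) := by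
    intro x y t
    obtain ⟨g, hg, hgt⟩ := hσ ![x, y, x + t • (y - x)]
    have h0 := hgt 0
    have h1 := hgt 1
    have h2 := hgt 2
    simp only [Matrix.cons_val_zero, Matrix.cons_val_one, Matrix.cons_val_two, Matrix.head_cons,
      Matrix.tail_cons] at h0 h1 h2
    have h2' : σ (x + t • (y - x)) = g (x + t • (y - x)) := h2
    rw [h2', h0, h1]
    exact affine_combo (haff hg) x y t
  -- the basic triple
  obtain ⟨g, hg, hgt⟩ := hσ ![0, Pi.single 0 1, Pi.single 1 1]
  have h0 : σ 0 = g 0 := hgt 0
  have h1 : σ (Pi.single 0 1) = g (Pi.single 0 1) := hgt 1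
  have h2 : σ (Pi.single 1 1) = g (Pi.single 1 1) := hgt 2
  suffices hsg : σ = g by rw [hsg]; exact hg
  by_cases hp2 : p = 2
  · subst hp2
    ext1 x
    rcases four_points x with rfl | rfl | rfl | rfl
    · exact h0
    · exact h1
    · exact h2
    · -- the fourth point
      have hne0 : g.symm (σ (Pi.single 0 1 + Pi.single 1 1)) ≠ 0 := by
        intro h
        have := congrArg g h
        rw [Equiv.apply_symm_apply, ← h0] at this
        exact four_ne0 (σ.injective this)
      have hne1 : g.symm (σ (Pi.single 0 1 + Pi.single 1 1)) ≠ Pi.single 0 1 := by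
        intro h
        have := congrArg g h
        rw [Equiv.apply_symm_apply, ← h1] at this
        exact four_ne1 (σ.injective this)
      have hne2 : g.symm (σ (Pi.single 0 1 + Pi.single 1 1)) ≠ Pi.single 1 1 := by
        intro h
        have := congrArg g h
        rw [Equiv.apply_symm_apply, ← h2] at this
        exact four_ne2 (σ.injective this)
      rcases four_points (g.symm (σ (Pi.single 0 1 + Pi.single 1 1))) with h | h | h | h
      · exact absurd h hne0
      · exact absurd h hne1
      · exact absurd h hne2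
      · have := congrArg g h
        rw [Equiv.apply_symm_apply] at this
        exact this
  · -- odd p
    have h2ne : (2 : ZMod p) ≠ 0 := by
      intro h
      have h' : ((2 : ℕ) : ZMod p) = 0 := by exact_mod_cast h
      rw [ZMod.natCast_eq_zero_iff] at h'
      have hp := (Fact.out : p.Prime)
      rcases (Nat.dvd_prime Nat.prime_two).mp h' with h1 | h1
      · exact hp.one_lt.ne' h1
      · exact hp2 h1
    -- homogeneity
    have hhom : ∀ (t : ZMod p) (y : Fin 2 → ZMod p), σ (t • y) - σ 0 = t • (σ y - σ 0) := by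
      intro t y
      have := hcombo 0 y t
      rw [sub_zero, zero_add] at this
      rw [this]
      abel
    -- additivity
    have hadd : ∀ x y : Fin 2 → ZMod p, σ (x + y) - σ 0 = (σ x - σ 0) + (σ y - σ 0) := by
      intro x y
      have hm := hcombo x y (2 : ZMod p)⁻¹
      have hxy : x + y = (2 : ZMod p) • (x + (2 : ZMod p)⁻¹ • (y - x)) := by
        rw [smul_add, smul_smul, mul_inv_cancel₀ h2ne, one_smul, two_smul]
        abel
      rw [hxy, hhom, hm]
      have e : (2 : ZMod p) • (σ x + (2 : ZMod p)⁻¹ • (σ y - σ x) - σ 0) =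
          (2 : ZMod p) • (σ x - σ 0) + ((2 : ZMod p) * (2 : ZMod p)⁻¹) • (σ y - σ x) := by
        rw [mul_smul]
        module
      rw [e, mul_inv_cancel₀ h2ne, one_smul, two_smul]
      abel
    obtain ⟨A, b, hA⟩ := haff hg
    have hb : b = σ 0 := by
      rw [h0, hA 0, map_zero, zero_add]
    have hA1 : A (Pi.single 0 1) = σ (Pi.single 0 1) - σ 0 := by
      rw [h1, hA, hb]; abel
    have hA2 : A (Pi.single 1 1) = σ (Pi.single 1 1) - σ 0 := by
      rw [h2, hA, hb]; abel
    ext1 x
    have hx := vec_decomp x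
    have e1 : σ x - σ 0 = A x := by
      conv_lhs => rw [hx]
      conv_rhs => rw [hx]
      rw [hadd, hhom, hhom, map_add, map_smul, map_smul, hA1, hA2]
    rw [hA x, hb, ← e1]
    abel

end Cfsg.Agent.S3515
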