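import Mathlib
import Cfsg.Statements.S3516
import Cfsg.Statements.S3516
-- import your own Cfsg.Agent.* helpers here

set_option autoImplicit false
open Cfsg

namespace Cfsg.Agent.S3516
open Cfsg

universe u

/-- Given a linear automorphism `A` of a finite-dimensional space `V` and a proper subspace `W`,
there is a linear automorphism of determinant one agreeing with `A` on `W`. -/
theorem exists_det_one {K : Type u} [Field K] {V : Type u} [AddCommGroup V] [Module K V]
    [FiniteDimensional K V] (A : V ≃ₗ[K] V) (W : Submodule K V) (hW : W < ⊤) :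
    ∃ A' : V ≃ₗ[K] V, LinearMap.det (A' : V →ₗ[K] V) = 1 ∧ ∀ w ∈ W, A' w = A w := by
  obtain ⟨f, hf0, hfW⟩ := W.exists_le_ker_of_lt_top hW
  obtain ⟨v, hv⟩ : ∃ v, f v ≠ 0 := by
    by_contra hcon
    push Not at hcon
    exact hf0 (LinearMap.ext hcon)
  have hδ : LinearMap.det (A : V →ₗ[K] V) ≠ 0 := (A.isUnit_det').ne_zero
  set δ := LinearMap.det (A : V →ₗ[K] V) with hδdef
  set v' : V := ((δ⁻¹ - 1) / f v) • v with hv'
  have hfv' : f v' = δ⁻¹ - 1 := by
    rw [hv', map_smul, smul_eq_mul, div_mul_cancel₀ _ hv]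
  set D : V →ₗ[K] V := LinearMap.transvection f v' with hD
  have hdetD : LinearMap.det D = δ⁻¹ := by
    rw [hD, LinearMap.transvection.det, hfv']; ring
  have hdet : LinearMap.det ((A : V →ₗ[K] V) ∘ₗ D) = 1 := by
    rw [LinearMap.det_comp, hdetD, ← hδdef, mul_inv_cancel₀ hδ]
  have hu : IsUnit (LinearMap.det ((A : V →ₗ[K] V) ∘ₗ D)) := by rw [hdet]; exact isUnit_one
  refine ⟨LinearMap.equivOfIsUnitDet hu, ?_, ?_⟩
  · rw [LinearMap.coe_equivOfIsUnitDet, hdet]
  · intro w hw
    have h0 : f w = 0 := hfW hw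
    rw [LinearMap.equivOfIsUnitDet_apply]
    simp [hD, LinearMap.transvection.apply, h0]

/-- Let p be an odd prime, d ≥ 3, and G a group of affine permutations x ↦ Ax + b of V = F_p^d containing all translations and all maps x ↦ Ax with A of determinant 1. Then the 3-closure of G is the full affine group: a permutation σ of V agrees on every triple of points with some element of G if and only if σ is an affine map. -/
theorem result (p : ℕ) [Fact p.Prime] (hp : p ≠ 2) (d : ℕ) (hd : 3 ≤ d) (G : Subgroup (Equiv.Perm (Fin d → ZMod p)))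
    (haff : (G : Set (Equiv.Perm (Fin d → ZMod p))) ⊆ {τ : Equiv.Perm (Fin d → ZMod p) | ∃ (A : (Fin d → ZMod p) ≃ₗ[ZMod p] (Fin d → ZMod p)) (b : Fin d → ZMod p), ∀ x, τ x = A x + b})
    (htrans : ∀ b : Fin d → ZMod p, ∃ g ∈ G, ∀ x, g x = x + b)
    (hsl : ∀ A : (Fin d → ZMod p) ≃ₗ[ZMod p] (Fin d → ZMod p), LinearMap.det (A : (Fin d → ZMod p) →ₗ[ZMod p] (Fin d → ZMod p)) = 1 → ∃ g ∈ G, ∀ x, g x = A x)
    (σ : Equiv.Perm (Fin d → ZMod p)) :
    (∀ t : Fin 3 → (Fin d → ZMod p), ∃ g ∈ G, ∀ i, σ (t i) = g (t i)) ↔ σ ∈ {τ : Equiv.Perm (Fin d → ZMod p) | ∃ (A : (Fin d → ZMod p) ≃ₗ[ZMod p] (Fin d → ZMod p)) (b : Fin d → ZMod p), ∀ x, τ x = A x + b} := by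
  have h2 : (2 : ZMod p) ≠ 0 := by
    intro h
    have : ((2 : ℕ) : ZMod p) = 0 := by exact_mod_cast h
    rw [ZMod.natCast_eq_zero_iff] at this
    have hp' := (Fact.out : p.Prime)
    have := (Nat.prime_dvd_prime_iff_eq hp' Nat.prime_two).mp this
    exact hp this
  constructor
  · intro h
    -- σ preserves affine combinations of two points
    have key : ∀ (x y : Fin d → ZMod p) (c : ZMod p),
        σ (x + c • (y - x)) = σ x + c • (σ y - σ x) := by
      intro x y c
      obtain ⟨g, hg, hgt⟩ := h ![x, y, x + c • (y - x)]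
      obtain ⟨A, b, hAb⟩ := haff hg
      have h0 := hgt 0
      have h1 := hgt 1
      have h2 := hgt 2
      simp only [Matrix.cons_val_zero, Matrix.cons_val_one, Matrix.cons_val] at h0 h1 h2
      rw [h2, h0, h1, hAb, hAb, hAb, map_add, map_smul, map_sub]
      module
    set τ : (Fin d → ZMod p) → (Fin d → ZMod p) := fun x => σ x - σ 0 with hτ
    have hsmul : ∀ (c : ZMod p) (x : Fin d → ZMod p), τ (c • x) = c • τ x := by
      intro c x
      have := key 0 x c
      simp only [sub_zero, zero_add] at this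
      simp only [hτ, this]
      module
    obtain ⟨c, hc⟩ : ∃ c : ZMod p, c + c = 1 := ⟨(2 : ZMod p)⁻¹, by
      rw [← two_mul, mul_inv_cancel₀ h2]⟩
    have hcc : ∀ z : Fin d → ZMod p, z = (c + c) • z := fun z => by rw [hc, one_smul]
    have hmid : ∀ x y : Fin d → ZMod p, τ (c • (x + y)) = c • (τ x + τ y) := by
      intro x y
      have := key x y c
      have e : x + c • (y - x) = c • (x + y) := by
        calc x + c • (y - x) = (c + c) • x + c • (y - x) := by rw [← hcc]
          _ = c • (x + y) := by module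
      rw [e] at this
      simp only [hτ, this]
      calc σ x + c • (σ y - σ x) - σ 0 = (c + c) • σ x + c • (σ y - σ x) - (c + c) • σ 0 := by
            rw [← hcc, ← hcc]
        _ = c • (σ x - σ 0 + (σ y - σ 0)) := by module
    have hadd : ∀ x y : Fin d → ZMod p, τ (x + y) = τ x + τ y := by
      intro x y
      have e1 : c • τ (x + y) = c • (τ x + τ y) := by rw [← hsmul, hmid]
      calc τ (x + y) = (c + c) • τ (x + y) := hcc _
        _ = c • τ (x + y) + c • τ (x + y) := add_smul _ _ _
        _ = c • (τ x + τ y) + c • (τ x + τ y) := by rw [e1]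
        _ = (c + c) • (τ x + τ y) := (add_smul _ _ _).symm
        _ = τ x + τ y := (hcc _).symm
    let L : (Fin d → ZMod p) →ₗ[ZMod p] (Fin d → ZMod p) :=
      { toFun := τ, map_add' := hadd, map_smul' := hsmul }
    have hbij : Function.Bijective L := by
      constructor
      · intro x y hxy
        have : σ x - σ 0 = σ y - σ 0 := hxy
        exact σ.injective (sub_left_injective this)
      · intro y
        refine ⟨σ.symm (y + σ 0), ?_⟩
        change σ (σ.symm (y + σ 0)) - σ 0 = y
        simp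
    refine ⟨LinearEquiv.ofBijective L hbij, σ 0, ?_⟩
    intro x
    change σ x = (σ x - σ 0) + σ 0
    abel
  · rintro ⟨A, b, hAb⟩ t
    set W : Submodule (ZMod p) (Fin d → ZMod p) :=
      Submodule.span (ZMod p) (Set.range ![t 1 - t 0, t 2 - t 0]) with hWdef
    have hW : W < ⊤ := by
      rw [lt_top_iff_ne_top]
      intro htop
      have h1 : Module.finrank (ZMod p) W ≤ 2 := by
        have := finrank_range_le_card (R := ZMod p) ![t 1 - t 0, t 2 - t 0]
        simpa [Set.finrank] using this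
      rw [htop, finrank_top, Module.finrank_fin_fun] at h1
      omega
    obtain ⟨A', hdet, hA'⟩ := exists_det_one A W hW
    obtain ⟨g₁, hg₁, hg₁x⟩ := hsl A' hdet
    obtain ⟨T₁, hT₁, hT₁x⟩ := htrans (- t 0)
    obtain ⟨T₂, hT₂, hT₂x⟩ := htrans (σ (t 0))
    refine ⟨T₂ * g₁ * T₁, G.mul_mem (G.mul_mem hT₂ hg₁) hT₁, ?_⟩
    have hmem : ∀ i, t i - t 0 ∈ W := by
      intro i
      fin_cases i
      · simp
      · exact Submodule.subset_span ⟨0, rfl⟩
      · exact Submodule.subset_span ⟨1, rfl⟩
    intro i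
    rw [Equiv.Perm.mul_apply, Equiv.Perm.mul_apply, hT₂x, hg₁x, hT₁x, ← sub_eq_add_neg,
      hA' _ (hmem i), hAb, hAb, map_sub]
    abel


end Cfsg.Agent.S3516
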