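import Mathlib
import Cfsg.Statements.S3517
import Cfsg.Statements.S3517
-- import your own Cfsg.Agent.* helpers here

set_option autoImplicit false
open Cfsg

namespace Cfsg.Agent.S3517
open Cfsg

universe u

/-- the map `c ↦ c 0 • a + c 1 • b` -/
noncomputable def phi {V : Type u} [AddCommGroup V] [Module (ZMod 2) V] (a b : V) :
    (Fin 2 → ZMod 2) →ₗ[ZMod 2] V :=
  (LinearMap.proj 0).smulRight a + (LinearMap.proj 1).smulRight b

lemma phi_apply {V : Type u} [AddCommGroup V] [Module (ZMod 2) V] (a b : V)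
    (c : Fin 2 → ZMod 2) : phi a b c = c 0 • a + c 1 • b := by
  simp [phi]

lemma ker_eq {V : Type u} [AddCommGroup V] [Module (ZMod 2) V] (a b a' b' : V)
    (h1 : a = 0 ↔ a' = 0) (h2 : b = 0 ↔ b' = 0) (h3 : a + b = 0 ↔ a' + b' = 0) :
    LinearMap.ker (phi a b) = LinearMap.ker (phi a' b') := by
  have h01 : ∀ x : ZMod 2, x = 0 ∨ x = 1 := by decide
  ext c
  simp only [LinearMap.mem_ker, phi_apply]
  rcases h01 (c 0) with h | h <;> rcases h01 (c 1) with h' | h' <;> simp [h, h', h1, h2, h3]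

theorem exists_equiv {V : Type u} [AddCommGroup V] [Module (ZMod 2) V]
    [FiniteDimensional (ZMod 2) V] (a b a' b' : V)
    (h1 : a = 0 ↔ a' = 0) (h2 : b = 0 ↔ b' = 0) (h3 : a + b = 0 ↔ a' + b' = 0) :
    ∃ g : V ≃ₗ[ZMod 2] V, g a = a' ∧ g b = b' := by
  have hk := ker_eq a b a' b' h1 h2 h3
  let f : LinearMap.range (phi a b) ≃ₗ[ZMod 2] LinearMap.range (phi a' b') :=
    ((phi a b).quotKerEquivRange).symm ≪≫ₗ (Submodule.quotEquivOfEq _ _ hk) ≪≫ₗ
      (phi a' b').quotKerEquivRange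
  have hf : ∀ c, (f ⟨phi a b c, ⟨c, rfl⟩⟩ : V) = phi a' b' c := by
    intro c
    have e1 : ((phi a b).quotKerEquivRange).symm ⟨phi a b c, ⟨c, rfl⟩⟩
        = Submodule.Quotient.mk c := by
      rw [LinearEquiv.symm_apply_eq]
      ext
      simp
    simp only [f, LinearEquiv.trans_apply, e1]
    simp
  obtain ⟨g, hg⟩ := Submodule.exists_linearEquiv_restrict_eq f
  refine ⟨g, ?_, ?_⟩
  · have := hg ⟨phi a b ![1, 0], ⟨_, rfl⟩⟩
    rw [hf] at this
    simpa [phi_apply] using this.symm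
  · have := hg ⟨phi a b ![0, 1], ⟨_, rfl⟩⟩
    rw [hf] at this
    simpa [phi_apply] using this.symm

/-- For d ≥ 3, the 3-closure of the affine group AGL_d(2) acting on F_2^d is the full symmetric group: every permutation of F_2^d agrees on every ordered triple of points with some affine map (AGL_d(2) is 3-transitive). -/
theorem result (d : ℕ) (hd : 3 ≤ d) (σ : Equiv.Perm (Fin d → ZMod 2)) (t : Fin 3 → (Fin d → ZMod 2)) :
    ∃ (A : (Fin d → ZMod 2) ≃ₗ[ZMod 2] (Fin d → ZMod 2)) (b : Fin d → ZMod 2), ∀ i, σ (t i) = A (t i) + b := by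
  have key : ∀ x y : Fin d → ZMod 2, x - y = 0 ↔ σ x - σ y = 0 := by
    intro x y
    rw [sub_eq_zero, sub_eq_zero, σ.apply_eq_iff_eq]
  have key2 : ∀ x y z : Fin d → ZMod 2, (x - z) + (y - z) = 0 ↔ (σ x - σ z) + (σ y - σ z) = 0 := by
    intro x y z
    have h2 : ∀ u v w : Fin d → ZMod 2, (u - w) + (v - w) = u - v := by
      intro u v w
      ext i
      simp only [Pi.add_apply, Pi.sub_apply]
      have : ∀ p q r : ZMod 2, (p - r) + (q - r) = p - q := by decide
      exact this _ _ _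
    rw [h2, h2]
    exact key x y
  obtain ⟨g, hg1, hg2⟩ := exists_equiv (t 1 - t 0) (t 2 - t 0) (σ (t 1) - σ (t 0))
    (σ (t 2) - σ (t 0)) (key _ _) (key _ _) (key2 _ _ _)
  refine ⟨g, σ (t 0) - g (t 0), ?_⟩
  intro i
  fin_cases i
  · simp
  · have : g (t 1) = g (t 0) + (σ (t 1) - σ (t 0)) := by
      rw [← hg1, map_sub]; abel
    simp only [Fin.mk_one, this]
    abel
  · have : g (t 2) = g (t 0) + (σ (t 2) - σ (t 0)) := by
      rw [← hg2, map_sub]; abel
    simp only [Fin.reduceFinMk, this]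
    abel


end Cfsg.Agent.S3517
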