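import Mathlib
import Cfsg.Statements.S3518
import Cfsg.Agent.Helper2.BurnsidePrimeOrb
-- import your own Cfsg.Agent.* helpers here

set_option autoImplicit false
open Cfsg

namespace Cfsg.Agent.S3518
open Cfsg

open Cfsg.Agent.Helper2

variable {p : ℕ} [Fact p.Prime]

theorem mem_affine {σ : Equiv.Perm (ZMod p)} :
    σ ∈ Cfsg.affineGroup (ZMod p) ↔ ∃ a : (ZMod p)ˣ, ∃ b : ZMod p, ∀ x, σ x = (a : ZMod p) * x + b :=
  Iff.rfl

theorem affine_ext {g h : Equiv.Perm (ZMod p)} (hg : g ∈ Cfsg.affineGroup (ZMod p))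
    (hh : h ∈ Cfsg.affineGroup (ZMod p)) (h0 : g 0 = h 0) (h1 : g 1 = h 1) : g = h := by
  obtain ⟨a, b, hg⟩ := mem_affine.mp hg
  obtain ⟨c, d, hh⟩ := mem_affine.mp hh
  rw [hg, hh] at h0 h1
  simp only [mul_zero, zero_add, mul_one] at h0 h1
  rw [h0] at h1
  have hac : (a : ZMod p) = c := add_right_cancel h1
  ext x
  rw [hg, hh, hac, h0]

/-- the 2-closure as a subgroup -/
def closure2 (G : Subgroup (Equiv.Perm (ZMod p))) : Subgroup (Equiv.Perm (ZMod p)) where
  carrier := {σ | ∀ t : Fin 2 → ZMod p, ∃ g ∈ G, ∀ i, σ (t i) = g (t i)}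
  one_mem' := fun t => ⟨1, G.one_mem, fun i => rfl⟩
  mul_mem' := by
    intro σ τ hσ hτ t
    obtain ⟨g, hg, hgt⟩ := hτ t
    obtain ⟨g', hg', hgt'⟩ := hσ (fun i => g (t i))
    refine ⟨g' * g, G.mul_mem hg' hg, fun i => ?_⟩
    rw [Equiv.Perm.mul_apply, Equiv.Perm.mul_apply, hgt i]
    exact hgt' i
  inv_mem' := by
    intro σ hσ t
    obtain ⟨g, hg, hgt⟩ := hσ (fun i => σ⁻¹ (t i))
    refine ⟨g⁻¹, G.inv_mem hg, fun i => ?_⟩
    have h1 : t i = g (σ⁻¹ (t i)) := by
      have := hgt i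
      rw [Equiv.Perm.inv_def, Equiv.apply_symm_apply] at this
      rw [Equiv.Perm.inv_def]
      exact this
    calc σ⁻¹ (t i) = g⁻¹ (g (σ⁻¹ (t i))) := by rw [Equiv.Perm.inv_def g, Equiv.symm_apply_apply]
      _ = g⁻¹ (t i) := by rw [← h1]

theorem mem_closure2 {G : Subgroup (Equiv.Perm (ZMod p))} {σ : Equiv.Perm (ZMod p)} :
    σ ∈ closure2 G ↔ ∀ t : Fin 2 → ZMod p, ∃ g ∈ G, ∀ i, σ (t i) = g (t i) := Iff.rfl

theorem le_closure2 (G : Subgroup (Equiv.Perm (ZMod p))) : G ≤ closure2 G :=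
  fun g hg _ => ⟨g, hg, fun _ => rfl⟩

theorem part1 (G : Subgroup (Equiv.Perm (ZMod p))) (hG : G ≤ Cfsg.affineGroup (ZMod p))
    (htrans : ∀ b : ZMod p, ∃ g ∈ G, ∀ x, g x = x + b) (hne : G ≠ Cfsg.affineGroup (ZMod p))
    (σ : Equiv.Perm (ZMod p))
    (hσ : ∀ t : Fin 2 → ZMod p, ∃ g ∈ G, ∀ i, σ (t i) = g (t i)) : σ ∈ G := by
  have hp : p.Prime := Fact.out
  haveI : NeZero p := ⟨hp.ne_zero⟩
  have h01 : (0 : ZMod p) ≠ 1 := zero_ne_one
  set C := closure2 G with hC
  haveI : MulAction.IsPretransitive C (ZMod p) := by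
    constructor
    intro x y
    obtain ⟨g, hg, hgx⟩ := htrans (y - x)
    refine ⟨⟨g, le_closure2 G hg⟩, ?_⟩
    change g x = y
    rw [hgx]; ring
  obtain ⟨τ, hτG, hτ⟩ := htrans 1
  have h2 : ¬ MulAction.IsMultiplyPretransitive C (ZMod p) 2 := by
    intro h2
    rw [MulAction.is_two_pretransitive_iff] at h2
    apply hne
    apply le_antisymm hG
    intro h hh
    have hne' : h 0 ≠ h 1 := fun e => h01 (h.injective e)
    obtain ⟨⟨s, hs⟩, hs0, hs1⟩ := h2 h01 hne'
    change s 0 = h 0 at hs0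
    change s 1 = h 1 at hs1
    obtain ⟨g, hg, hgt⟩ := hs ![0, 1]
    have e0 : s 0 = g 0 := hgt 0
    have e1 : s 1 = g 1 := hgt 1
    have : g = h := affine_ext (hG hg) hh (by rw [← e0, hs0]) (by rw [← e1, hs1])
    rw [← this]; exact hg
  have haff := BurnsidePrime.AffG_of_not_two_transitive (K := ZMod p) (Equiv.refl (ZMod p)) C τ
    (le_closure2 G hτG) (fun x => by simpa using hτ x) h2
  have hσC : σ ∈ C := hσ
  obtain ⟨a, b, hab⟩ := haff σ hσC
  have hcoord : ∀ x : ZMod p, BurnsidePrime.coord (ZMod p) (Equiv.refl (ZMod p)) x = x := by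
    intro x
    simp [BurnsidePrime.coord]
  simp only [hcoord] at hab
  obtain ⟨g, hg, hgt⟩ := hσ ![0, 1]
  have e0 : σ 0 = g 0 := hgt 0
  have e1 : σ 1 = g 1 := hgt 1
  have ha : a ≠ 0 := by
    intro ha
    apply h01
    apply σ.injective
    rw [hab 0, hab 1, ha]; ring
  have hσaff : σ ∈ Cfsg.affineGroup (ZMod p) := mem_affine.mpr ⟨Units.mk0 a ha, b, fun x => hab x⟩
  have : σ = g := affine_ext hσaff (hG hg) e0 e1
  rw [this]; exact hg

/-- Closures of subgroups of the one-dimensional affine group. Let p be a prime and G a group of permutations of F_p lying in the affine group AGL₁(p) = {x ↦ ax + b, a ≠ 0} and containing all translations. (1) If G is a proper subgroup of AGL₁(p), then G is 2-closed: a permutation of F_p agreeing on every ordered pair of points with some element of G lies in G. (2) Every permutation of F_p agrees on every ordered pair with some element of AGL₁(p) (the 2-closure of AGL₁(p) is the symmetric group). (3) AGL₁(p)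 is 3-closed: a permutation agreeing on every ordered triple with some affine map is affine. -/
theorem result (p : ℕ) [Fact p.Prime] (G : Subgroup (Equiv.Perm (ZMod p))) (hG : G ≤ Cfsg.affineGroup (ZMod p))
    (htrans : ∀ b : ZMod p, ∃ g ∈ G, ∀ x, g x = x + b) :
    (G ≠ Cfsg.affineGroup (ZMod p) → ∀ σ : Equiv.Perm (ZMod p), (∀ t : Fin 2 → ZMod p, ∃ g ∈ G, ∀ i, σ (t i) = g (t i)) → σ ∈ G) ∧
    (∀ σ : Equiv.Perm (ZMod p), (∀ t : Fin 2 → ZMod p, ∃ g ∈ Cfsg.affineGroup (ZMod p), ∀ i, σ (t i) = g (t i))) ∧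
    (∀ σ : Equiv.Perm (ZMod p), (∀ t : Fin 3 → ZMod p, ∃ g ∈ Cfsg.affineGroup (ZMod p), ∀ i, σ (t i) = g (t i)) → σ ∈ Cfsg.affineGroup (ZMod p)) := by
  have hp : p.Prime := Fact.out
  haveI : NeZero p := ⟨hp.ne_zero⟩
  refine ⟨fun hne σ hσ => part1 G hG htrans hne σ hσ, ?_, ?_⟩
  · intro σ t
    by_cases h : t 0 = t 1
    · -- translation
      let b := σ (t 0) - t 0
      refine ⟨Equiv.addRight b, mem_affine.mpr ⟨1, b, fun x => by simp⟩, ?_⟩
      intro i
      have hi : t i = t 0 := by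
        fin_cases i
        · rfl
        · exact h.symm
      rw [hi]
      simp [b]
    · have hne : t 1 - t 0 ≠ 0 := sub_ne_zero.mpr (Ne.symm h)
      have hne' : σ (t 1) - σ (t 0) ≠ 0 := sub_ne_zero.mpr (fun e => h (σ.injective e).symm)
      let a : ZMod p := (σ (t 1) - σ (t 0)) / (t 1 - t 0)
      have ha : a ≠ 0 := div_ne_zero hne' hne
      let b : ZMod p := σ (t 0) - a * t 0
      let g : Equiv.Perm (ZMod p) :=
        { toFun := fun x => a * x + b
          invFun := fun y => a⁻¹ * (y - b)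
          left_inv := fun x => by field_simp; ring
          right_inv := fun y => by field_simp; ring }
      refine ⟨g, mem_affine.mpr ⟨Units.mk0 a ha, b, fun x => rfl⟩, ?_⟩
      intro i
      fin_cases i
      · change σ (t 0) = a * t 0 + b
        simp [b]
      · change σ (t 1) = a * t 1 + b
        simp only [b, a]
        field_simp
        ring
  · intro σ hσ
    obtain ⟨g₀, hg₀, hg₀t⟩ := hσ ![0, 1, 0]
    have e0 : σ 0 = g₀ 0 := hg₀t 0
    have e1 : σ 1 = g₀ 1 := hg₀t 1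
    have : σ = g₀ := by
      ext x
      obtain ⟨g, hg, hgt⟩ := hσ ![0, 1, x]
      have f0 : σ 0 = g 0 := hgt 0
      have f1 : σ 1 = g 1 := hgt 1
      have f2 : σ x = g x := hgt 2
      have : g = g₀ := affine_ext hg hg₀ (by rw [← f0, e0]) (by rw [← f1, e1])
      rw [f2, this]
    rw [this]; exact hg₀


end Cfsg.Agent.S3518
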