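import Cfsg.Statements.S3549
import Cfsg.Agent.Helper4.DerangementIndex
import Cfsg.Agent.Helper4.DerangementIndex2

set_option autoImplicit false
open Cfsg

namespace Cfsg.Agent.S3549

/-- Let G act faithfully, transitively but imprimitively on a finite set with n points, and let D be the subgroup generated by the derangements. Then the index of D in G is at most √n − 1. -/
theorem result {G Ω : Type*} [Group G] [Finite G] [MulAction G Ω] [FaithfulSMul G Ω] [Finite Ω]
    (htrans : MulAction.IsPretransitive G Ω) (himp : ¬ MulAction.IsPreprimitive G Ω) :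
    ((Subgroup.closure {g : G | ∀ ω : Ω, g • ω ≠ ω}).index : ℝ) ≤ Real.sqrt (Nat.card Ω) - 1 := by
  have hn := Cfsg.Agent.Helper4.derangement_closure_normal (G := G) (Ω := Ω)
  have h := Cfsg.Agent.Helper4.derangement_index_imprimitive himp
    (Subgroup.closure {g : G | ∀ ω : Ω, g • ω ≠ ω}) (fun g hg => Subgroup.subset_closure hg)
  have h1 : (((Subgroup.closure {g : G | ∀ ω : Ω, g • ω ≠ ω}).index : ℝ) + 1) ^ 2 ≤
      (Nat.card Ω : ℝ) := by exact_mod_cast h
  have h2 := Real.le_sqrt_of_sq_le h1
  linarith

end Cfsg.Agent.S3549
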