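import Cfsg.Statements.S3554
import Cfsg.Agent.Helper4.Cyclic
import Cfsg.Agent.Helper4.Order

set_option autoImplicit false
open Cfsg

namespace Cfsg.Agent.S3554

open Cfsg.Agent.Helper4
open MulAction

/-- Let G act faithfully and transitively on a finite set and suppose G has a non-trivial cyclic normal subgroup. Then some element of G of prime order fixes no point. -/
theorem result {G Ω : Type*} [Group G] [Finite G] [MulAction G Ω] [FaithfulSMul G Ω] [Finite Ω]
    (htrans : MulAction.IsPretransitive G Ω) (C : Subgroup G) (hC : C.Normal) (hC1 : C ≠ ⊥) (hcyc : IsCyclic ↥C) :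
    ∃ g : G, (orderOf g).Prime ∧ ∀ ω : Ω, g • ω ≠ ω := by
  -- a prime dividing the order of C
  have hcard : Nat.card C ≠ 1 := by
    intro h
    exact hC1 (Subgroup.card_eq_one.mp h)
  obtain ⟨p, hp, hpC⟩ := Nat.exists_prime_and_dvd hcard
  have : Fact p.Prime := ⟨hp⟩
  obtain ⟨c, hc⟩ := exists_prime_orderOf_dvd_card' p hpC
  have hc' : orderOf (c : G) = p := by rw [Subgroup.orderOf_coe]; exact hc
  refine ⟨(c : G), hc' ▸ hp, ?_⟩
  intro ω hω
  -- c fixes every point
  have hall : ∀ ω' : Ω, (c : G) • ω' = ω' := by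
    intro ω'
    obtain ⟨g, hg⟩ := htrans.exists_smul_eq ω ω'
    have hmemC : g⁻¹ * (c : G) * g ∈ C := by
      have := hC.conj_mem (c : G) c.2 g⁻¹
      simpa using this
    have hpow : (g⁻¹ * (c : G) * g) ^ p = 1 := by
      rw [← hc', ← orderOf_conj' g (c : G)]
      exact pow_orderOf_eq_one _
    have hz := mem_zpowers_of_pow_eq_one_of_isCyclic' C hcyc (c : G) _ c.2 hmemC p hp.pos hc' hpow
    obtain ⟨k, hk⟩ := Subgroup.mem_zpowers_iff.mp hz
    have hfixk : ((c : G) ^ k) • ω = ω := by
      have : (c : G) ∈ stabilizer G ω := hω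
      exact (stabilizer G ω).zpow_mem this k
    rw [← hg]
    have : (c : G) • g • ω = g • ((g⁻¹ * (c : G) * g) • ω) := by
      simp [mul_smul]
    rw [this, ← hk, hfixk]
  have hc1 : (c : G) = 1 := by
    apply FaithfulSMul.eq_of_smul_eq_smul (α := Ω)
    intro a
    rw [hall a, one_smul]
  rw [hc1, orderOf_one] at hc'
  exact hp.one_lt.ne hc'

end Cfsg.Agent.S3554
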