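import Cfsg.Statements.S3573
import Cfsg.Agent.Helper4.PrimePermFix

set_option autoImplicit false
open Cfsg

namespace Cfsg.Agent.S3573

/-- Let 1 ≤ k with 2k < n and consider the symmetric group of degree n acting on the k-subsets of an n-set. Let r be a prime dividing the number C(n,k) of k-subsets. If r is odd, then every permutation of order r fixes some k-subset if and only if r ≤ k and the remainder of k modulo r is at most the remainder of n modulo r. If r = 2, then every involution fixes some k-subset if and only if k is even or n is odd. -/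
theorem result (n k : ℕ) (hk : 1 ≤ k) (hkn : 2 * k < n) (r : ℕ) (hr : r.Prime) (hrd : r ∣ Nat.choose n k) :
    (r ≠ 2 → ((∀ σ : Equiv.Perm (Fin n), orderOf σ = r → ∃ s : Finset (Fin n), s.card = k ∧ s.image σ = s) ↔
      (r ≤ k ∧ k % r ≤ n % r))) ∧
    (r = 2 → ((∀ σ : Equiv.Perm (Fin n), orderOf σ = 2 → ∃ s : Finset (Fin n), s.card = k ∧ s.image σ = s) ↔
      (Even k ∨ Odd n))) := by
  have hkn' : k ≤ n := by omega
  have hrn : r ≤ n := Cfsg.Agent.Helper4.PrimePermFix.le_of_dvd_choose hr hkn' hrd
  have hcard : Fintype.card (Fin n) = n := Fintype.card_fin n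
  have hA : k % r ≤ n % r → ∀ σ : Equiv.Perm (Fin n), orderOf σ = r →
      ∃ s : Finset (Fin n), s.card = k ∧ s.image σ = s := by
    intro hmod σ hσ
    exact Cfsg.Agent.Helper4.PrimePermFix.exists_inv_of_mod_le hr hσ k (by rw [hcard]; exact hkn')
      (by rw [hcard]; exact hmod)
  have hB : (∀ σ : Equiv.Perm (Fin n), orderOf σ = r →
      ∃ s : Finset (Fin n), s.card = k ∧ s.image σ = s) → k % r ≤ n % r := by
    intro h
    obtain ⟨σ, hσ, hs⟩ := Cfsg.Agent.Helper4.PrimePermFix.exists_perm_mod_le (α := Fin n) hr
      (by rw [hcard]; exact hrn)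
    obtain ⟨s, hs1, hs2⟩ := h σ hσ
    have := hs s hs2
    rw [hs1, hcard] at this
    exact this
  constructor
  · intro _
    constructor
    · intro h
      have hmod := hB h
      refine ⟨?_, hmod⟩
      by_contra hlt
      push_neg at hlt
      rw [Nat.mod_eq_of_lt hlt] at hmod
      exact Cfsg.Agent.Helper4.PrimePermFix.not_dvd_choose hr hlt hmod hrd
    · rintro ⟨_, hmod⟩
      exact hA hmod
  · intro h2
    subst h2
    constructor
    · intro h
      have hmod := hB h
      rw [Nat.even_iff, Nat.odd_iff]
      omega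
    · intro h
      apply hA
      rw [Nat.even_iff, Nat.odd_iff] at h
      omega

end Cfsg.Agent.S3573
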