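import Cfsg.Statements.S3575
import Mathlib
import Cfsg.Agent.Helper4.PartFixA
import Cfsg.Agent.Helper4.PartFixB
import Cfsg.Agent.Helper4.PartFixD
import Cfsg.Agent.Helper4.PartFixE

set_option autoImplicit false
open Cfsg

namespace Cfsg.Agent.S3575

/-- Let a, b ≥ 2 and consider the symmetric group of degree a·b acting on the partitions of an (a·b)-set into b parts of size a (encoded as maps onto a b-element set all of whose fibres have a elements; a permutation fixes such a partition when it permutes the fibres). Let r be a prime dividing the number (ab)!/((a!)^b·b!) of such partitions, and let ℓ and k be the remainders of a and b modulo r. Then every permutation of order r fixes some such partition if and only if r ≤ a and one of the following holds: ℓ = 0; or k = 0 and ℓ = 1; or ℓ and k are non-zero, k·ℓ < r, and either b < r or (k + r)·ℓ ≤ k·a + r. -/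
theorem result (a b : ℕ) (ha : 2 ≤ a) (hb : 2 ≤ b) (r : ℕ) (hr : r.Prime)
    (hrd : r ∣ (a * b).factorial / (a.factorial ^ b * b.factorial)) :
    (∀ σ : Equiv.Perm (Fin (a * b)), orderOf σ = r →
        ∃ f : Fin (a * b) → Fin b, (∀ j : Fin b, Nat.card {x : Fin (a * b) // f x = j} = a) ∧
          ∃ π : Equiv.Perm (Fin b), ∀ x : Fin (a * b), f (σ x) = π (f x)) ↔
      (r ≤ a ∧ (a % r = 0 ∨ (b % r = 0 ∧ a % r = 1) ∨
        (a % r ≠ 0 ∧ b % r ≠ 0 ∧ (b % r) * (a % r) < r ∧ (b < r ∨ (b % r + r) * (a % r) ≤ (b % r) * a + r)))) := by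
  classical
  have ha1 : 1 ≤ a := by omega
  have hdvd := Cfsg.Agent.Helper4.PartFix.factorial_pow_mul_factorial_dvd a ha1 b
  have hrab : r ≤ a * b := by
    have h1 : (a * b).factorial / (a.factorial ^ b * b.factorial) ∣ (a * b).factorial :=
      Nat.div_dvd_of_dvd hdvd
    exact (hr.dvd_factorial).mp (hrd.trans h1)
  rw [← Cfsg.Agent.Helper4.PartFix.arith a b r ha hb hr hrab]
  constructor
  · intro H c hc1 hcr
    obtain ⟨σ, hσo, hσs⟩ := Cfsg.Agent.Helper4.PartFix.exists_perm (n := a * b) hr hc1 hcr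
    obtain ⟨f, hf, π, hπ⟩ := H σ hσo
    have hσr : σ ^ r = 1 := by rw [← hσo]; exact pow_orderOf_eq_one σ
    obtain ⟨t, ht1, ht2, ht3⟩ :=
      Cfsg.Agent.Helper4.PartFix.necessity hr ha1 σ hσr f hf π hπ
    rw [Fintype.card_fin] at ht1 ht3
    rw [hσs] at ht2 ht3
    exact ⟨t, ht1, Nat.le_of_mul_le_mul_right ht2 hr.pos, Nat.le_of_mul_le_mul_right ht3 hr.pos⟩
  · intro H σ hσo
    have hσr : σ ^ r = 1 := by rw [← hσo]; exact pow_orderOf_eq_one σ
    obtain ⟨c, hc⟩ := Cfsg.Agent.Helper4.PartFix.dvd_card_support hr σ hσr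
    have hne : σ ≠ 1 := by
      intro h
      rw [h, orderOf_one] at hσo
      exact hr.one_lt.ne hσo
    have hpos : 0 < σ.support.card := by
      rw [Nat.pos_iff_ne_zero, Ne, Equiv.Perm.card_support_eq_zero]
      exact hne
    have hc1 : 1 ≤ c := by
      rcases Nat.eq_zero_or_pos c with h0 | h0
      · rw [h0, mul_zero] at hc; omega
      · exact h0
    have hcr : c * r ≤ a * b := by
      have := Finset.card_le_univ σ.support
      rw [Fintype.card_fin, hc] at this
      rw [mul_comm]; exact this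
    obtain ⟨t, h1, h2, h3⟩ := H c hc1 hcr
    exact Cfsg.Agent.Helper4.PartFix.sufficiency hr σ hσr (by rw [hc, mul_comm]) t h1 h2 h3

end Cfsg.Agent.S3575
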