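-- Statement S3592: M11 is determined by its order and the set of "numbers of elements of each order"
-- (corollary of S0420 = uniqueness of the simple group of order 7920, and of S2490).
import Cfsg.Statements.S3592
import Cfsg.Agent.S0420
import Cfsg.Agent.Helper8.M11Recog
import Cfsg.Agent.Helper8.M11Nse

set_option autoImplicit false
set_option linter.style.haveILetI false
open Cfsg

namespace Cfsg.Agent.S3592

open Cfsg.Agent.Helper8.M11Recog

/-- Let M be the Mathieu group M₁₁ (order 7920). If a finite group G has the same order as M and the same set of values of the function 'number of elements of order n' (taken over the element orders n that occur), then G is isomorphic to M. -/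
theorem result {G : Type*} [Group G] [Finite G]
    (hcard : Nat.card G = Nat.card ↥Cfsg.Spor.M11)
    (hnse : {c : ℕ | 0 < c ∧ ∃ n : ℕ, c = Nat.card {g : G // orderOf g = n}} =
      {c : ℕ | 0 < c ∧ ∃ n : ℕ, c = Nat.card {g : ↥Cfsg.Spor.M11 // orderOf g = n}}) :
    Nonempty (G ≃* ↥Cfsg.Spor.M11) := by
  have hM : IsM11 ↥Cfsg.Spor.M11 := h8_isM11_sporM11
  haveI : Finite ↥Cfsg.Spor.M11 := Nat.finite_of_card_ne_zero (by rw [hM.2]; norm_num)
  have hcard' : Nat.card G = 7920 := by rw [hcard, hM.2]
  have hT : ∀ n : ℕ, 0 < Nat.card {g : G // orderOf g = n} →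
      h8_T (Nat.card {g : G // orderOf g = n}) := by
    intro n hpos
    have hmem : Nat.card {g : G // orderOf g = n} ∈
        {c : ℕ | 0 < c ∧ ∃ n : ℕ, c = Nat.card {g : G // orderOf g = n}} := ⟨hpos, n, rfl⟩
    rw [hnse] at hmem
    obtain ⟨hpos', m, hm⟩ := hmem
    rw [hm]
    exact h8_nse_T hM m (by rw [← hm]; exact hpos')
  have hG : IsM11 G := h8_isM11_of_nse hcard' hT
  obtain ⟨e1⟩ := Cfsg.Agent.S0420.result hG Spor.squareDodecad
    Cfsg.Agent.Helper9.Golay.sqDod_mem (some 0) Cfsg.Agent.Helper9.Golay.zero_mem_sqDod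
  exact ⟨e1.trans h8_sporM11Equiv.symm⟩

end Cfsg.Agent.S3592
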