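import Cfsg.Statements.S3619


set_option autoImplicit false
open Cfsg

namespace Cfsg.Agent.S3619

open MulAction
open scoped Pointwise

/-- Let G act faithfully on a finite set in such a way that every non-trivial normal subgroup of G is transitive (G is quasiprimitive). Let Γ be a subset with more than one point and not the whole set, such that the pointwise stabilizer of the complement of Γ acts transitively on Γ (a Jordan set). If that pointwise stabilizer acts primitively on Γ, then G is k-fold transitive where k is one more than the number of points outside Γ (the Jordan set is a trivial one). -/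
theorem result {G Ω : Type*} [Group G] [Finite G] [MulAction G Ω] [FaithfulSMul G Ω] [Finite Ω]
    (hqp : ∀ N : Subgroup G, N.Normal → N ≠ ⊥ → MulAction.IsPretransitive ↥N Ω)
    (Γ : Set Ω) (hΓ1 : 1 < Γ.ncard) (hΓ2 : Γ.ncard < Nat.card Ω)
    (hJ : MulAction.IsPretransitive ↥(fixingSubgroup G Γᶜ) ↥(SubMulAction.ofFixingSubgroup G Γᶜ))
    (hJp : MulAction.IsPreprimitive ↥(fixingSubgroup G Γᶜ) ↥(SubMulAction.ofFixingSubgroup G Γᶜ)) :
    MulAction.IsMultiplyPretransitive G Ω (Nat.card Ω - Γ.ncard + 1) := by
  classical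
  set K := fixingSubgroup G Γᶜ with hK
  -- membership in the sub-action
  have hmemX : ∀ x : Ω, x ∈ SubMulAction.ofFixingSubgroup G Γᶜ ↔ x ∈ Γ := by
    intro x
    rw [SubMulAction.mem_ofFixingSubgroup_iff, Set.notMem_compl_iff]
  have hKfix : ∀ k : G, k ∈ K → ∀ x : Ω, x ∉ Γ → k • x = x := by
    intro k hk x hx
    exact (mem_fixingSubgroup_iff G).mp hk x hx
  have hKΓ : ∀ k : G, k ∈ K → ∀ x : Ω, x ∈ Γ → k • x ∈ Γ := by
    intro k hk x hx
    have h1 : x ∈ SubMulAction.ofFixingSubgroup G Γᶜ := (hmemX x).mpr hx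
    have h2 := (SubMulAction.ofFixingSubgroup G Γᶜ).smul_mem (⟨k, hk⟩ : K) h1
    exact (hmemX _).mp h2
  -- two distinct points of Γ
  obtain ⟨a, b, ha, hb, hab⟩ := (Set.one_lt_ncard_iff (Set.toFinite Γ)).mp hΓ1
  -- K is nontrivial
  have hKnt : ∃ k : G, k ∈ K ∧ k ≠ 1 := by
    obtain ⟨k, hk⟩ := hJ.exists_smul_eq ⟨a, (hmemX a).mpr ha⟩ ⟨b, (hmemX b).mpr hb⟩
    refine ⟨k, k.2, ?_⟩
    intro h1
    apply hab
    have h2 : (k : G) • a = b := congrArg Subtype.val hk
    rw [h1, one_smul] at h2
    exact h2
  obtain ⟨k₀, hk₀K, hk₀1⟩ := hKnt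
  -- G is transitive
  have htr : IsPretransitive G Ω := by
    have htop : (⊤ : Subgroup G) ≠ ⊥ := by
      intro h
      apply hk₀1
      have : k₀ ∈ (⊤ : Subgroup G) := trivial
      rw [h, Subgroup.mem_bot] at this
      exact this
    have h1 := hqp ⊤ inferInstance htop
    constructor
    intro x y
    obtain ⟨g, hg⟩ := h1.exists_smul_eq x y
    exact ⟨g, hg⟩
  -- G is primitive
  have hprim : IsPreprimitive G Ω := by
    refine { toIsPretransitive := htr, isTrivialBlock_of_isBlock := ?_ }
    intro B hB
    by_contra hnt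
    unfold IsTrivialBlock at hnt
    push Not at hnt
    obtain ⟨hBns, hBnu⟩ := hnt
    have hBne : B.Nonempty := hBns.nonempty
    obtain ⟨b₀, hb₀⟩ := hBne
    obtain ⟨c₀, hc₀⟩ : ∃ c : Ω, c ∉ B := by
      by_contra hall
      push Not at hall
      exact hBnu (Set.eq_univ_of_forall hall)
    -- the kernel of the action on translates
    let N : Subgroup G := ⨅ g : G, stabilizer G (g • B)
    have hNmem : ∀ n : G, n ∈ N ↔ ∀ g : G, n • (g • B) = g • B := by
      intro n
      simp only [N, Subgroup.mem_iInf, mem_stabilizer_iff]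
    have hNn : N.Normal := by
      constructor
      intro n hn h
      rw [hNmem] at hn ⊢
      intro g
      have h1 := hn (h⁻¹ • g)
      calc (h * n * h⁻¹) • g • B = h • n • (h⁻¹ • g) • B := by
            simp only [mul_smul, smul_eq_mul]
        _ = h • (h⁻¹ • g) • B := by rw [h1]
        _ = g • B := by simp only [smul_eq_mul, mul_smul, smul_inv_smul]
    have hNnt : ¬ IsPretransitive N Ω := by
      intro h
      obtain ⟨n, hn⟩ := h.exists_smul_eq b₀ c₀
      have h1 := (hNmem n).mp n.2 1
      rw [one_smul] at h1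
      apply hc₀
      rw [← hn, ← h1]
      exact Set.smul_mem_smul_set hb₀
    have hNbot : N = ⊥ := by
      by_contra h
      exact hNnt (hqp N hNn h)
    -- K ≤ N
    have hKN : ∀ k : G, k ∈ K → k ∈ N := by
      intro k hk
      rw [hNmem]
      intro g
      have hB' : IsBlock G (g • B) := hB.translate g
      by_cases hcase : ∃ x ∈ g • B, x ∉ Γ
      · obtain ⟨x, hxB, hxΓ⟩ := hcase
        apply hB'.smul_eq_of_mem hxB
        rw [hKfix k hk x hxΓ]; exact hxB
      · push Not at hcase
        have hB'' : IsBlock K (Subtype.val ⁻¹' (g • B) : Set (SubMulAction.ofFixingSubgroup G Γᶜ)) :=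
          (hB'.subgroup (H := K)).subtype_val_preimage
        rcases hJp.isTrivialBlock_of_isBlock hB'' with hsub | huniv
        · exfalso
          apply hBns.not_subsingleton
          have hsub' : (g • B).Subsingleton := by
            intro x hx y hy
            have h1 := @hsub ⟨x, (hmemX x).mpr (hcase x hx)⟩ hx ⟨y, (hmemX y).mpr (hcase y hy)⟩ hy
            exact congrArg Subtype.val h1
          intro x hx y hy
          have := hsub' (Set.smul_mem_smul_set (a := g) hx) (Set.smul_mem_smul_set (a := g) hy)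
          exact smul_left_cancel g this
        · have hΓsub : Γ ⊆ g • B := by
            intro x hx
            have : (⟨x, (hmemX x).mpr hx⟩ : SubMulAction.ofFixingSubgroup G Γᶜ) ∈
                (Subtype.val ⁻¹' (g • B) : Set (SubMulAction.ofFixingSubgroup G Γᶜ)) := by
              rw [huniv]; trivial
            exact this
          have hx₀ : g • b₀ ∈ g • B := Set.smul_mem_smul_set hb₀
          apply hB'.smul_eq_of_mem hx₀
          exact hΓsub (hKΓ k hk _ (hcase _ hx₀))
    have := hKN k₀ hk₀K
    rw [hNbot, Subgroup.mem_bot] at this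
    exact hk₀1 this
  -- Jordan's theorem
  have hcompl : (Γᶜ).ncard = Nat.card Ω - Γ.ncard := Set.ncard_compl Γ
  have hsn : (Γᶜ).ncard = (Nat.card Ω - Γ.ncard - 1) + 1 := by omega
  have hsn' : (Nat.card Ω - Γ.ncard - 1) + 2 < Nat.card Ω := by omega
  have hmp := hprim.isMultiplyPreprimitive hsn hsn' hJp
  have e : Nat.card Ω - Γ.ncard + 1 = (Nat.card Ω - Γ.ncard - 1) + 2 := by omega
  rw [e]
  exact IsMultiplyPreprimitive.isMultiplyPretransitive G Ω _

end Cfsg.Agent.S3619
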