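import Cfsg.Statements.S3627
import Mathlib
import Cfsg.Agent.Helper4.J1SpecE
import Cfsg.Agent.Helper4.J1SpecF

set_option autoImplicit false
open Cfsg

namespace Cfsg.Agent.S3627

/-- Let J be the first Janko group. Then there are finite groups of arbitrarily large order with exactly the same set of element orders as J × J × J × J. -/
theorem result (N : ℕ) : ∃ (H : Type) (_ : Group H) (_ : Fintype H), N < Fintype.card H ∧
      Set.range (orderOf : H → ℕ) = Set.range (orderOf : ↥Cfsg.Spor.J1 × ↥Cfsg.Spor.J1 × ↥Cfsg.Spor.J1 × ↥Cfsg.Spor.J1 → ℕ) := by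
  classical
  obtain ⟨F, gF, fF, hN, hT⟩ := Helper4.J1Spec.exists_frob N
  refine ⟨↥Cfsg.Spor.J1 × ↥Cfsg.Spor.J1 × ↥Cfsg.Spor.J1 × F, inferInstance,
    Fintype.ofFinite _, ?_, ?_⟩
  · rw [Fintype.card_eq_nat_card] at hN ⊢
    refine lt_of_lt_of_le hN (Nat.card_le_card_of_injective
      (fun f => ((1 : ↥Cfsg.Spor.J1), (1 : ↥Cfsg.Spor.J1), (1 : ↥Cfsg.Spor.J1), f)) ?_)
    intro a b h
    simpa using h
  · have hS : Set.range (orderOf : ↥Cfsg.Spor.J1 → ℕ) =
        (({1, 2, 3, 5, 6, 7, 10, 11, 15, 19} : Finset ℕ) : Set ℕ) := by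
      rw [Helper4.J1Spec.spectrum_J1]
      simp
    rw [Helper4.J1Spec.range_orderOf_prod4 _ _ hS hT, Helper4.J1Spec.range_orderOf_prod4 _ _ hS hS,
      Helper4.J1Spec.spec_finset_eq]

end Cfsg.Agent.S3627
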