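import Cfsg.Statements.S3633
import Cfsg.Agent.Helper4.PrimeGraphSolvB

set_option autoImplicit false
open Cfsg

namespace Cfsg.Agent.S3633

/-- Let G be a finite group and ρ a set of at least three prime divisors of the order of G that are pairwise non-adjacent in the prime graph (no element of order rs for distinct r, s ∈ ρ). Then at most one prime of ρ divides the order of any given solvable normal subgroup of G; in particular G is not solvable. -/
theorem result {G : Type*} [Group G] [Finite G] (ρ : Finset ℕ) (hρ : 3 ≤ ρ.card) (hc : ((∀ r ∈ ρ, r.Prime ∧ r ∣ Nat.card G) ∧ (∀ r ∈ ρ, ∀ s ∈ ρ, r ≠ s → ¬ ∃ x : G, orderOf x = r * s)))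
    (K : Subgroup G) [K.Normal] (hK : Group.IsSolvable ↥K) :
    (∀ r ∈ ρ, ∀ s ∈ ρ, r ∣ Nat.card ↥K → s ∣ Nat.card ↥K → r = s) ∧ ¬ Group.IsSolvable G := by
  obtain ⟨hprime, hnon⟩ := hc
  have key := Cfsg.Agent.Helper4.prime_graph_solvable_normal ρ hρ hprime hnon
  refine ⟨?_, ?_⟩
  · intro r hr s hs hrK hsK
    by_contra hrs
    exact key _ K rfl hK r hr s hs hrs hrK hsK
  · intro hG
    obtain ⟨a, ha, b, hb, hab⟩ : ∃ a ∈ ρ, ∃ b ∈ ρ, a ≠ b := by
      have h1 : 1 < ρ.card := by omega
      obtain ⟨a, ha, b, hb, hab⟩ := Finset.one_lt_card.1 h1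
      exact ⟨a, ha, b, hb, hab⟩
    have htop : Group.IsSolvable (⊤ : Subgroup G) :=
      Group.isSolvable_of_isSolvable_injective (f := (⊤ : Subgroup G).subtype)
        (Subgroup.subtype_injective _)
    apply key _ (⊤ : Subgroup G) rfl htop a ha b hb hab
    · rw [Subgroup.card_top]; exact (hprime a ha).2
    · rw [Subgroup.card_top]; exact (hprime b hb).2

end Cfsg.Agent.S3633
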