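import Cfsg.Statements.S3660
import Cfsg.Agent.Helper4.AffSLC

set_option autoImplicit false
open Cfsg

namespace Cfsg.Agent.S3660

/-- The prime graph of a finite group has the prime divisors of its order as vertices, two distinct primes p, q being joined when the group has an element of order pq; two groups have the same prime graph when they have the same prime divisors and the same joined pairs. Let F be a finite field of characteristic 2 with at least 4 elements. Then there are finite groups of arbitrarily large order with the same prime graph as PSL(2,F); in particular PSL(2,F) is not determined by its prime graph. -/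
theorem result {F : Type*} [Field F] [Fintype F] [CharP F 2] (hF : 4 ≤ Fintype.card F) (N : ℕ) :
    ∃ (H : Type) (_ : Group H) (_ : Finite H), N < Nat.card H ∧
      ((∀ p : ℕ, p.Prime → (p ∣ Nat.card (Matrix.ProjectiveSpecialLinearGroup (Fin 2) F) ↔ p ∣ Nat.card H)) ∧
      (∀ p q : ℕ, p.Prime → q.Prime → p ≠ q → ((∃ g : (Matrix.ProjectiveSpecialLinearGroup (Fin 2) F), orderOf g = p * q) ↔ (∃ g : H, orderOf g = p * q)))) := by
  classical
  obtain ⟨ψ⟩ := Cfsg.Agent.Helper4.psl2_equiv_sl2 (F := F)
  obtain ⟨H, instG, instF, ⟨e⟩⟩ :=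
    Cfsg.Agent.Helper4.exists_type_zero_copy (Cfsg.Agent.Helper4.AffSL (N + 1) F)
  have hcardH : Nat.card H = Nat.card (Matrix.SpecialLinearGroup (Fin 2) F) *
      (Nat.card F ^ (N + 1)) ^ 2 := by
    rw [Nat.card_congr e.toEquiv, Cfsg.Agent.Helper4.AffSL.card_eq]
  have hcardP : Nat.card (Matrix.ProjectiveSpecialLinearGroup (Fin 2) F) =
      Nat.card (Matrix.SpecialLinearGroup (Fin 2) F) := Nat.card_congr ψ.toEquiv
  refine ⟨H, instG, instF, ?_, ?_, ?_⟩
  · rw [hcardH]
    have h1 : 0 < Nat.card (Matrix.SpecialLinearGroup (Fin 2) F) := Nat.card_pos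
    have h2 : 2 ≤ Nat.card F := by
      rw [Nat.card_eq_fintype_card]; omega
    have h3 : 2 ^ (N + 1) ≤ Nat.card F ^ (N + 1) := Nat.pow_le_pow_left h2 _
    have h4 : N + 1 < 2 ^ (N + 1) := Nat.lt_two_pow_self
    have h5 : Nat.card F ^ (N + 1) ≤ (Nat.card F ^ (N + 1)) ^ 2 := by
      have : 0 < Nat.card F ^ (N + 1) := by omega
      nlinarith
    have h6 : (Nat.card F ^ (N + 1)) ^ 2 ≤
        Nat.card (Matrix.SpecialLinearGroup (Fin 2) F) * (Nat.card F ^ (N + 1)) ^ 2 :=
      Nat.le_mul_of_pos_left _ h1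
    omega
  · intro p hp
    rw [hcardP, hcardH]
    constructor
    · exact fun h => dvd_mul_of_dvd_left h _
    · intro h
      rcases (Nat.Prime.dvd_mul hp).1 h with h | h
      · exact h
      · have h1 := hp.dvd_of_dvd_pow h
        have h2 := hp.dvd_of_dvd_pow h1
        obtain ⟨k, _, hk⟩ := FiniteField.card F 2
        rw [Nat.card_eq_fintype_card, hk] at h2
        have h3 := hp.dvd_of_dvd_pow h2
        have h4 : p = 2 := (Nat.prime_dvd_prime_iff_eq hp Nat.prime_two).1 h3
        rw [h4]
        exact Cfsg.Agent.Helper4.two_dvd_card_sl2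
  · intro p q hp hq hpq
    constructor
    · rintro ⟨g, hg⟩
      refine ⟨e.symm (Cfsg.Agent.Helper4.AffSL.incl (ψ g)), ?_⟩
      rw [MulEquiv.orderOf_eq,
        orderOf_injective Cfsg.Agent.Helper4.AffSL.incl Cfsg.Agent.Helper4.AffSL.incl_injective,
        MulEquiv.orderOf_eq, hg]
    · rintro ⟨g, hg⟩
      refine ⟨ψ.symm (e g).lin, ?_⟩
      rw [MulEquiv.orderOf_eq]
      exact Cfsg.Agent.Helper4.affSL_orderOf_lin (e g) p q hp hq hpq
        (by rw [MulEquiv.orderOf_eq, hg])

end Cfsg.Agent.S3660
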