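import Mathlib
import Cfsg.Statements.S3669
import Cfsg.Statements.S3669
import Cfsg.Agent.Helper6.Codegree
import Cfsg.Agent.Helper6.DefectZeroBlock
import Cfsg.Agent.Helper6.Ito
import Cfsg.Agent.Helper6.IrrCount
import Cfsg.Agent.Helper6.IrrBasis
import Cfsg.Agent.Helper3.CoprimeHall
import Cfsg.Agent.Helper2.SylowExact2
import Cfsg.Agent.S3378
import Cfsg.Agent.S0494
-- import your own Cfsg.Agent.* helpers here

set_option autoImplicit false
open Cfsg

namespace Cfsg.Agent.S3669
open Cfsg

universe u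

open Cfsg.Agent.Helper6

/-- the alternating group of degree five -/
abbrev A5 := ↥(alternatingGroup (Fin 5))

set_option maxRecDepth 100000 in
theorem k_A5 : Fintype.card (ConjClasses A5) = 5 := by
  decide +kernel

theorem card_A5 : Nat.card A5 = 60 := by
  rw [Nat.card_eq_fintype_card]
  decide

theorem no_sum : ∀ a ∈ Nat.divisors 12, ∀ b ∈ Nat.divisors 12, ∀ c ∈ Nat.divisors 12,
    ∀ d ∈ Nat.divisors 12, ∀ e ∈ Nat.divisors 12, a ^ 2 + b ^ 2 + c ^ 2 + d ^ 2 + e ^ 2 ≠ 60 := by
  decide

theorem five_mem : 5 ∈ Cfsg.degreePrimes A5 := by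
  classical
  have : Finite (Cfsg.IrrCharacter A5) := irr_finite
  have : Fintype (Cfsg.IrrCharacter A5) := Fintype.ofFinite _
  have hcard : Fintype.card (Cfsg.IrrCharacter A5) = 5 := by
    rw [← Nat.card_eq_fintype_card, card_irr_eq_card_conjClasses, Nat.card_eq_fintype_card]
    exact k_A5
  have hsum := sum_sq_charDegree (G := A5)
  rw [card_A5] at hsum
  by_contra hno
  have hd : ∀ χ : Cfsg.IrrCharacter A5, Cfsg.charDegree (χ : A5 → ℂ) ∈ Nat.divisors 12 := by
    intro χ
    have h1 : Cfsg.charDegree (χ : A5 → ℂ) ∣ 60 := card_A5 ▸ charDegree_dvd_card χ.2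
    have h2 : ¬ 5 ∣ Cfsg.charDegree (χ : A5 → ℂ) := by
      intro h5
      exact hno ⟨Nat.prime_five, _, ⟨χ, rfl⟩, h5⟩
    have hcop : Nat.Coprime (Cfsg.charDegree (χ : A5 → ℂ)) 5 :=
      ((Nat.Prime.coprime_iff_not_dvd Nat.prime_five).2 h2).symm
    rw [Nat.mem_divisors]
    refine ⟨?_, by norm_num⟩
    have h3 : Cfsg.charDegree (χ : A5 → ℂ) ∣ 12 * 5 := by norm_num; exact h1
    exact hcop.dvd_of_dvd_mul_right h3
  let e : Fin 5 ≃ Cfsg.IrrCharacter A5 := (Fintype.equivFinOfCardEq hcard).symm
  have h5 : ∑ i : Fin 5, Cfsg.charDegree ((e i : Cfsg.IrrCharacter A5) : A5 → ℂ) ^ 2 = 60 := by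
    rw [← hsum]
    exact Equiv.sum_comp e (fun χ => Cfsg.charDegree (χ : A5 → ℂ) ^ 2)
  rw [Fin.sum_univ_five] at h5
  exact no_sum _ (hd _) _ (hd _) _ (hd _) _ (hd _) _ (hd _) h5

open Cfsg.Agent.Helper3 Cfsg.Agent.Helper2 in
/-- a solvable group of order 60 has a normal Sylow 5-subgroup -/
theorem exists_normal_sylow_five (G : Type u) [Group G] [Finite G] (hcard : Nat.card G = 60)
    (hs : Group.IsSolvable G) : ∃ P : Subgroup G, P.Normal ∧ Nat.card P = 5 := by
  have h5 : Fact (Nat.Prime 5) := ⟨Nat.prime_five⟩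
  -- a Hall subgroup of order 15
  have hsT : Group.IsSolvable (⊤ : Subgroup G) := inferInstance
  have hcT : Nat.card (⊤ : Subgroup G) = 60 := by rw [Subgroup.card_top, hcard]
  have hd : PiDecomp ({3, 5} : Set ℕ) (Nat.card (⊤ : Subgroup G)) 15 4 := by
    refine ⟨by rw [hcT], ?_, ?_⟩
    · intro p hp hpd
      rw [show (15 : ℕ) = 3 * 5 by norm_num] at hpd
      rcases (Nat.Prime.dvd_mul hp).1 hpd with h | h
      · left
        exact (Nat.prime_dvd_prime_iff_eq hp Nat.prime_three).1 h
      · right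
        exact (Nat.prime_dvd_prime_iff_eq hp Nat.prime_five).1 h
    · intro p hp hpd
      rw [show (4 : ℕ) = 2 ^ 2 by norm_num] at hpd
      have h2 := (Nat.prime_dvd_prime_iff_eq hp Nat.prime_two).1 (hp.dvd_of_dvd_pow hpd)
      rw [h2]
      simp
  obtain ⟨H, -, hH15, -⟩ := (hall_internal (⊤ : Subgroup G) hsT hd).2 ⊥ bot_le
    (by rw [Subgroup.card_bot]; exact Nat.coprime_one_left 4)
  -- a subgroup of order 5 inside H
  let Q0 : Sylow 5 H := default
  have hQ0 : Nat.card Q0 = 5 ^ 1 :=
    SylowExact.card_sylow_of_exact_pow (m := 3) (by rw [hH15]; norm_num) (by norm_num) Q0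
  set Q : Subgroup G := (Q0 : Subgroup H).map H.subtype with hQ
  have hQH : Q ≤ H := Subgroup.map_subtype_le _
  have hQcard : Nat.card Q = 5 := by
    rw [hQ, Subgroup.card_map_of_injective H.subtype_injective]
    simpa using hQ0
  have hQp : IsPGroup 5 Q := IsPGroup.of_card (n := 1) (by rw [hQcard, pow_one])
  obtain ⟨P, hQP⟩ := hQp.exists_le_sylow
  have hPcard : Nat.card P = 5 ^ 1 :=
    SylowExact.card_sylow_of_exact_pow (m := 12) (by rw [hcard]; norm_num) (by norm_num) P
  have hQeq : Q = (P : Subgroup G) :=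
    Subgroup.eq_of_le_of_card_ge hQP (by rw [hQcard, hPcard, pow_one])
  have hPH : (P : Subgroup G) ≤ H := hQeq ▸ hQH
  -- P is normal in H
  have hidx : ((P : Subgroup G).subgroupOf H).index = 3 := by
    have h1 := ((P : Subgroup G).subgroupOf H).card_mul_index
    rw [hH15, Nat.card_congr (Subgroup.subgroupOfEquivOfLe hPH).toEquiv, hPcard] at h1
    omega
  have hnorm : ((P : Subgroup G).subgroupOf H).Normal := by
    apply Subgroup.normal_of_index_eq_minFac_card
    rw [hidx, hH15]
    norm_num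
  have hHN : H ≤ Subgroup.normalizer ((P : Subgroup G) : Set G) :=
    (Subgroup.normal_subgroupOf_iff_le_normalizer hPH).1 hnorm
  -- the number of Sylow 5-subgroups
  have h15 : 15 ∣ Nat.card (Subgroup.normalizer ((P : Subgroup G) : Set G)) :=
    hH15 ▸ Subgroup.card_dvd_of_le hHN
  have hmul := (Subgroup.normalizer ((P : Subgroup G) : Set G)).card_mul_index
  rw [hcard] at hmul
  have hn : Nat.card (Sylow 5 G) = (Subgroup.normalizer ((P : Subgroup G) : Set G)).index :=
    Sylow.card_eq_index_normalizer P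
  have hmod : Nat.card (Sylow 5 G) % 5 = 1 := by
    have := card_sylow_modEq_one 5 G
    rw [Nat.ModEq] at this
    simpa using this
  have hone : (Subgroup.normalizer ((P : Subgroup G) : Set G)).index = 1 := by
    obtain ⟨c, hc⟩ := h15
    rw [hc] at hmul
    rw [hn] at hmod
    have hi : (Subgroup.normalizer ((P : Subgroup G) : Set G)).index ∣ 4 := by
      refine ⟨c, ?_⟩
      nlinarith
    have hle := Nat.le_of_dvd (by norm_num) hi
    interval_cases (Subgroup.normalizer ((P : Subgroup G) : Set G)).index <;> omega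
  refine ⟨P, ?_, by rw [hPcard, pow_one]⟩
  rw [← Subgroup.normalizer_eq_top_iff]
  exact Subgroup.index_eq_one.1 hone

theorem not_solvable (G : Type u) [Group G] [Finite G] (hcard : Nat.card G = 60)
    (h5 : 5 ∈ Cfsg.degreePrimes G) : ¬ Group.IsSolvable G := by
  intro hs
  obtain ⟨P, hPn, hP5⟩ := exists_normal_sylow_five G hcard hs
  obtain ⟨-, d, ⟨χ, rfl⟩, hdvd⟩ := h5
  obtain ⟨n, ρ, hirr, hχ⟩ := χ.2
  have hdeg : Cfsg.charDegree (χ : G → ℂ) = n := by
    rw [← hχ]
    exact charDegree_rep ρ
  have := hirr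
  have hp : Fact (Nat.Prime 5) := ⟨Nat.prime_five⟩
  have hcyc : IsCyclic P := isCyclic_of_prime_card hP5
  have hcomm : ∀ a ∈ P, ∀ b ∈ P, a * b = b * a := by
    intro a ha b hb
    have := hcyc.exists_generator
    obtain ⟨g, hg⟩ := this
    obtain ⟨i, hi⟩ := Subgroup.mem_zpowers_iff.1 (hg ⟨a, ha⟩)
    obtain ⟨j, hj⟩ := Subgroup.mem_zpowers_iff.1 (hg ⟨b, hb⟩)
    have h1 : (⟨a, ha⟩ : P) * ⟨b, hb⟩ = ⟨b, hb⟩ * ⟨a, ha⟩ := by
      rw [← hi, ← hj, ← zpow_add, ← zpow_add, add_comm]
    exact congrArg Subtype.val h1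
  have hito := ito ρ P hcomm
  have hidx : P.index = 12 := by
    have := P.card_mul_index
    rw [hP5, hcard] at this
    omega
  rw [hidx, Module.finrank_fin_fun] at hito
  rw [hdeg] at hdvd
  have : 5 ∣ 12 := hdvd.trans hito
  omega

/-- The character degree graph of a finite group has as vertices the primes dividing some irreducible complex character degree, two distinct primes being joined when their product divides some irreducible character degree; two groups have the same character degree graph when they have the same vertices and the same joined pairs. A finite group of order 60 with the same character degree graph as the alternating group A₅ (whose character degrees are 1, 3, 4, 5, so the graph has vertices 2, 3, 5 and no edges) is isomorphic to A₅. -/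
theorem result {G : Type*} [Group G] [Finite G] (hcard : Nat.card G = 60)
    (hΓ : Cfsg.degreePrimes G = Cfsg.degreePrimes (alternatingGroup (Fin 5)) ∧ Cfsg.degreeGraph G = Cfsg.degreeGraph (alternatingGroup (Fin 5))) : Nonempty (G ≃* alternatingGroup (Fin 5)) := by
  have h5 : 5 ∈ Cfsg.degreePrimes G := by
    rw [hΓ.1]
    exact five_mem
  have hns := not_solvable G hcard h5
  have := Cfsg.Agent.S3378.simple_of_card_60 G hcard hns
  exact Cfsg.Agent.S0494.result hcard


end Cfsg.Agent.S3669
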