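import Cfsg.Statements.S3678
import Cfsg.Agent.Helper4.AffSLF

set_option autoImplicit false
open Cfsg

namespace Cfsg.Agent.S3678

/-- The prime graph of a finite group has the prime divisors of its order as vertices, two distinct primes p, q being joined when the group has an element of order pq; two groups have the same prime graph when they have the same prime divisors and the same joined pairs. Let F be the field with 7 elements. There are finite groups of arbitrarily large order with the same prime graph as PSL(2,F) (the graph on {2, 3, 7} with no edges, which is also the prime graph of PSL(2,8)). -/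
theorem result {F : Type*} [Field F] [Fintype F] (hF : Fintype.card F = 7) (N : ℕ) :
    ∃ (H : Type) (_ : Group H) (_ : Finite H), N < Nat.card H ∧
      ((∀ p : ℕ, p.Prime → (p ∣ Nat.card (Matrix.ProjectiveSpecialLinearGroup (Fin 2) F) ↔ p ∣ Nat.card H)) ∧
      (∀ p q : ℕ, p.Prime → q.Prime → p ≠ q → ((∃ g : (Matrix.ProjectiveSpecialLinearGroup (Fin 2) F), orderOf g = p * q) ↔ (∃ g : H, orderOf g = p * q)))) := by
  classical
  have hf2 : Fact (Nat.Prime 2) := ⟨Nat.prime_two⟩
  have instFt : Fintype (GaloisField 2 3) := Fintype.ofFinite _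
  have hF8 : Fintype.card (GaloisField 2 3) = 8 := by
    rw [← Nat.card_eq_fintype_card, GaloisField.card 2 3 (by norm_num)]; norm_num
  obtain ⟨H, instG, instF, ⟨e⟩⟩ :=
    Cfsg.Agent.Helper4.exists_type_zero_copy (Cfsg.Agent.Helper4.AffSL (N + 1) (GaloisField 2 3))
  have hcardH : Nat.card H = 504 * (8 ^ (N + 1)) ^ 2 := by
    rw [Nat.card_congr e.toEquiv, Cfsg.Agent.Helper4.AffSL.card_eq,
      Cfsg.Agent.Helper4.card_sl2_F8 hF8, Nat.card_eq_fintype_card, hF8]
  have hcardP := Cfsg.Agent.Helper4.card_psl2_F7 hF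
  refine ⟨H, instG, instF, ?_, ?_, ?_⟩
  · rw [hcardH]
    have h3 : 2 ^ (N + 1) ≤ 8 ^ (N + 1) := Nat.pow_le_pow_left (by norm_num) _
    have h4 : N + 1 < 2 ^ (N + 1) := Nat.lt_two_pow_self
    have h5 : 8 ^ (N + 1) ≤ (8 ^ (N + 1)) ^ 2 := by
      have : 0 < 8 ^ (N + 1) := by positivity
      nlinarith
    omega
  · intro p hp
    rw [hcardP, hcardH, Cfsg.Agent.Helper4.prime_dvd_168_iff hp,
      Cfsg.Agent.Helper4.prime_dvd_504_mul_iff hp]
  · intro p q hp hq hpq
    constructor
    · rintro ⟨g, hg⟩
      exact absurd hg (Cfsg.Agent.Helper4.psl2_F7_orderOf_ne hF g p q hp hq hpq)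
    · rintro ⟨g, hg⟩
      exfalso
      have h1 := Cfsg.Agent.Helper4.affSL_orderOf_lin (e g) p q hp hq hpq
        (by rw [MulEquiv.orderOf_eq, hg])
      exact Cfsg.Agent.Helper4.sl2_F8_orderOf_ne hF8 (e g).lin p q hp hq hpq h1

end Cfsg.Agent.S3678
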