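import Cfsg.Statements.S3680
import Cfsg.Agent.Helper4.PrimitiveSocle

set_option autoImplicit false
open Cfsg

namespace Cfsg.Agent.S3680

/-- The socle of a finite primitive permutation group. Let a finite group G act faithfully and primitively on a set Ω, and let N be the subgroup generated by the minimal normal subgroups of G. Then either N is an elementary abelian p-group for some prime p and acts regularly on Ω (transitively with trivial point stabilizers), or N is isomorphic to a direct product of m ≥ 1 copies of a non-abelian simple group. -/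
theorem result {G Ω : Type*} [Group G] [Finite G] [MulAction G Ω] [FaithfulSMul G Ω] [Finite Ω]
    (hprim : MulAction.IsPreprimitive G Ω) (N : Subgroup G)
    (hN : N = sSup {V : Subgroup G | V.Normal ∧ V ≠ ⊥ ∧ ∀ M : Subgroup G, M.Normal → M ≤ V → M = ⊥ ∨ M = V}) :
    (∃ p : ℕ, p.Prime ∧ IsMulCommutative N ∧ (∀ x : N, x ^ p = 1) ∧
      MulAction.IsPretransitive N Ω ∧ ∀ ω : Ω, MulAction.stabilizer N ω = ⊥) ∨
    (∃ (T : Type) (_ : Group T) (m : ℕ), 1 ≤ m ∧ IsSimpleGroup T ∧ ¬ IsMulCommutative T ∧ Nonempty (N ≃* (Fin m → T))) := by
  classical
  haveI := hprim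
  by_cases hG : Subsingleton G
  · left
    refine ⟨2, Nat.prime_two, ⟨⟨fun a b => Subsingleton.elim _ _⟩⟩, fun x => Subsingleton.elim _ _,
      ?_, ?_⟩
    · constructor
      intro x y
      obtain ⟨g, hg⟩ := MulAction.exists_smul_eq G x y
      refine ⟨1, ?_⟩
      rw [one_smul, ← hg, Subsingleton.elim g 1, one_smul]
    · intro ω
      rw [Subgroup.eq_bot_iff_forall]
      intro x _
      exact Subsingleton.elim _ _
  · rw [not_subsingleton_iff_nontrivial] at hG
    haveI := hG
    have hΩ : Nonempty Ω := by
      by_contra hempty
      rw [not_nonempty_iff] at hempty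
      obtain ⟨g, hg⟩ := exists_ne (1 : G)
      apply hg
      apply FaithfulSMul.eq_of_smul_eq_smul (α := Ω)
      intro ω
      exact hempty.elim ω
    obtain ⟨K, hK⟩ := Cfsg.Agent.Helper4.exists_isMinNormal G
    haveI hKn : K.Normal := hK.1
    haveI hKtr : MulAction.IsPretransitive K Ω := Cfsg.Agent.Helper4.normal_isPretransitive K hK.2.1
    obtain ⟨C, hCdef⟩ : ∃ C : Subgroup G, C = Subgroup.centralizer (K : Set G) := ⟨_, rfl⟩
    haveI hCn : C.Normal := by rw [hCdef]; infer_instance
    have hKC : ∀ k ∈ K, ∀ c ∈ C, k * c = c * k := by
      intro k hk c hc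
      rw [hCdef] at hc
      exact hc k hk
    have hother : ∀ L : Subgroup G, Cfsg.Agent.Helper4.IsMinNormal L → L ≠ K → L ≤ C := by
      intro L hL hLK
      have hdisj : Disjoint L K := by
        rw [disjoint_iff]
        haveI := hL.1
        rcases hL.2.2 (L ⊓ K) (Subgroup.normal_inf_normal L K) inf_le_left with h | h
        · exact h
        · exfalso
          have hLleK : L ≤ K := inf_eq_left.mp h
          rcases hK.2.2 L hL.1 hLleK with h' | h'
          · exact hL.2.1 h'
          · exact hLK h'
      intro l hl
      rw [hCdef, Subgroup.mem_centralizer_iff]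
      intro k hk
      exact (Subgroup.commute_of_normal_of_disjoint _ _ hL.1 hK.1 hdisj l k hl hk).eq.symm
    have hN' : N = sSup {V : Subgroup G | Cfsg.Agent.Helper4.IsMinNormal V} := hN
    have hab_of_T : ∀ (T : Type) [Group T] (m : ℕ) (e : K ≃* (Fin m → T)),
        IsMulCommutative T → K ≤ C := by
      intro T _ m e hTab
      have hKab : ∀ a b : K, a * b = b * a := by
        intro a b
        apply e.injective
        rw [map_mul, map_mul]
        ext i
        exact hTab.is_comm.comm _ _
      intro k hk
      rw [hCdef, Subgroup.mem_centralizer_iff]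
      intro k' hk'
      have := hKab ⟨k', hk'⟩ ⟨k, hk⟩
      exact congrArg Subtype.val this
    by_cases hC : C = ⊥
    · right
      have hNK : N = K := by
        rw [hN']
        apply le_antisymm
        · apply sSup_le
          intro L hL
          by_cases hLK : L = K
          · rw [hLK]
          · have := hother L hL hLK
            rw [hC] at this
            exact absurd (le_bot_iff.mp this) hL.2.1
        · exact le_sSup hK
      subst hNK
      obtain ⟨T, hT, m, hsimple, hm, ⟨e⟩⟩ :=
        Cfsg.Agent.Helper4.minNormal_mulEquiv_pi_simple N hK.2.1 hK.2.2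
      refine ⟨T, hT, m, hm, hsimple, ?_, ⟨e⟩⟩
      intro hTab
      have := hab_of_T T m e hTab
      rw [hC] at this
      exact hK.2.1 (le_bot_iff.mp this)
    · haveI hCtr : MulAction.IsPretransitive C Ω := Cfsg.Agent.Helper4.normal_isPretransitive C hC
      have hCsemi : ∀ c ∈ C, ∀ ω : Ω, c • ω = ω → c = 1 := by
        intro c hc ω hω
        exact Cfsg.Agent.Helper4.eq_one_of_commute_transitive K c
          (fun k hk => (hKC k hk c hc).symm) ω hω
      have hKsemi : ∀ k ∈ K, ∀ ω : Ω, k • ω = ω → k = 1 := by
        intro k hk ω hω
        exact Cfsg.Agent.Helper4.eq_one_of_commute_transitive C k (fun c hc => hKC k hk c hc) ω hω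
      by_cases hKab : K ≤ C
      · left
        have hKC' : K = C := Cfsg.Agent.Helper4.eq_of_le_transitive_semiregular K C hKab hCsemi
        have hNK : N = K := by
          rw [hN']
          apply le_antisymm
          · apply sSup_le
            intro L hL
            by_cases hLK : L = K
            · rw [hLK]
            · exfalso
              have h1 : L ≤ K := hKC' ▸ hother L hL hLK
              rcases hK.2.2 L hL.1 h1 with h' | h'
              · exact hL.2.1 h'
              · exact hLK h'
          · exact le_sSup hK
        subst hNK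
        haveI hKnt : Nontrivial N := (Subgroup.nontrivial_iff_ne_bot _).mpr hK.2.1
        obtain ⟨p, hp, hpK⟩ := Nat.exists_prime_and_dvd (Finite.one_lt_card (α := N)).ne'
        haveI : Fact p.Prime := ⟨hp⟩
        have hcommK : ∀ a ∈ N, ∀ b ∈ N, a * b = b * a := fun a ha b hb => hKC a ha b (hKab hb)
        let R : Subgroup G :=
          { carrier := {x | x ∈ N ∧ x ^ p = 1}
            mul_mem' := by
              rintro a b ⟨ha, hap⟩ ⟨hb, hbp⟩
              refine ⟨N.mul_mem ha hb, ?_⟩
              have hc : Commute a b := hcommK a ha b hb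
              rw [hc.mul_pow, hap, hbp, one_mul]
            one_mem' := ⟨N.one_mem, one_pow p⟩
            inv_mem' := by
              rintro a ⟨ha, hap⟩
              exact ⟨N.inv_mem ha, by rw [inv_pow, hap, inv_one]⟩ }
        have hRn : R.Normal := ⟨fun x hx g => ⟨hKn.conj_mem x hx.1 g, by
          rw [conj_pow, hx.2, mul_one, mul_inv_cancel]⟩⟩
        have hRne : R ≠ ⊥ := by
          obtain ⟨x, hx⟩ := exists_prime_orderOf_dvd_card' p hpK
          intro h
          have hxR : (x : G) ∈ R := ⟨x.2, by
            have : x ^ p = 1 := by rw [← hx]; exact pow_orderOf_eq_one x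
            exact_mod_cast congrArg Subtype.val this⟩
          rw [h, Subgroup.mem_bot] at hxR
          have hx1 : x = 1 := Subtype.ext hxR
          rw [hx1, orderOf_one] at hx
          exact hp.one_lt.ne hx
        have hRK : R = N := (hK.2.2 R hRn (fun x hx => hx.1)).resolve_left hRne
        refine ⟨p, hp, ⟨⟨fun a b => Subtype.ext (hcommK a a.2 b b.2)⟩⟩, ?_, hKtr, ?_⟩
        · intro x
          have : (x : G) ∈ R := by rw [hRK]; exact x.2
          exact Subtype.ext this.2
        · intro ω
          rw [Subgroup.eq_bot_iff_forall]
          intro k hk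
          rw [MulAction.mem_stabilizer_iff] at hk
          exact Subtype.ext (hKsemi k k.2 ω hk)
      · right
        have hKCinf : K ⊓ C = ⊥ := by
          rcases hK.2.2 (K ⊓ C) (Subgroup.normal_inf_normal K C) inf_le_left with h | h
          · exact h
          · exact absurd (inf_eq_left.mp h) hKab
        obtain ⟨L, hL, hLC⟩ := Cfsg.Agent.Helper4.exists_isMinNormal_le C hCn hC
        haveI := hL.1
        haveI hLtr : MulAction.IsPretransitive L Ω :=
          Cfsg.Agent.Helper4.normal_isPretransitive L hL.2.1
        have hLC' : L = C := Cfsg.Agent.Helper4.eq_of_le_transitive_semiregular L C hLC hCsemi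
        have hCmin : Cfsg.Agent.Helper4.IsMinNormal C := hLC' ▸ hL
        have hNKC : N = K ⊔ C := by
          rw [hN']
          apply le_antisymm
          · apply sSup_le
            intro L' hL'
            by_cases hLK : L' = K
            · rw [hLK]; exact le_sup_left
            · exact (hother L' hL' hLK).trans le_sup_right
          · exact sup_le (le_sSup hK) (le_sSup hCmin)
        obtain ⟨ω⟩ := hΩ
        obtain ⟨eKC⟩ := Cfsg.Agent.Helper4.nonempty_mulEquiv_of_commuting_regular K C hKC hKsemi
          hCsemi ω
        obtain ⟨T, hT, m, hsimple, hm, ⟨e⟩⟩ :=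
          Cfsg.Agent.Helper4.minNormal_mulEquiv_pi_simple K hK.2.1 hK.2.2
        have hcomm' : ∀ (k : K) (c : C), Commute (K.subtype k) (C.subtype c) :=
          fun k c => hKC k k.2 c c.2
        have hfinj : Function.Injective (MonoidHom.noncommCoprod K.subtype C.subtype
            hcomm') := by
          rw [MonoidHom.noncommCoprod_injective]
          refine ⟨K.subtype_injective, C.subtype_injective, ?_⟩
          rw [Subgroup.range_subtype, Subgroup.range_subtype, disjoint_iff]
          exact hKCinf
        have hfrange : (MonoidHom.noncommCoprod K.subtype C.subtype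
            hcomm').range = N := by
          rw [MonoidHom.noncommCoprod_range, Subgroup.range_subtype, Subgroup.range_subtype, hNKC]
        refine ⟨T, hT, m + m, by omega, hsimple, ?_,
          ⟨((MulEquiv.subgroupCongr hfrange).symm.trans (MonoidHom.ofInjective hfinj).symm).trans
            ((MulEquiv.prodCongr e (eKC.symm.trans e)).trans
              (Cfsg.Agent.Helper4.finAppendMulEquiv T m m))⟩⟩
        intro hTab
        exact hKab (hab_of_T T m e hTab)

end Cfsg.Agent.S3680
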