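import Cfsg.Statements.S3683
import Cfsg.Agent.Helper4.PrimitiveBasic

set_option autoImplicit false
open Cfsg

namespace Cfsg.Agent.S3683

/-- Let a finite group G act faithfully and primitively on a set Ω, and suppose the stabilizer of a point a fixes a second point b ≠ a (a suborbit of length 1 other than {a}). Then the stabilizer of a is trivial and G is cyclic of prime order. -/
theorem result {G Ω : Type*} [Group G] [Finite G] [MulAction G Ω] [FaithfulSMul G Ω] [Finite Ω]
    (hprim : MulAction.IsPreprimitive G Ω) (a b : Ω) (hab : a ≠ b) (hfix : ∀ g : G, g • a = a → g • b = b) :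
    MulAction.stabilizer G a = ⊥ ∧ IsCyclic G ∧ (Nat.card G).Prime := by
  have hnt : Nontrivial Ω := ⟨⟨a, b, hab⟩⟩
  have htr : MulAction.IsPretransitive G Ω := hprim.toIsPretransitive
  have hca : IsCoatom (MulAction.stabilizer G a) :=
    MulAction.IsPreprimitive.isCoatom_stabilizer_of_isPreprimitive (G := G) a
  have hcb : IsCoatom (MulAction.stabilizer G b) :=
    MulAction.IsPreprimitive.isCoatom_stabilizer_of_isPreprimitive (G := G) b
  have hle : MulAction.stabilizer G a ≤ MulAction.stabilizer G b := fun g hg => hfix g hg
  have heq : MulAction.stabilizer G a = MulAction.stabilizer G b := by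
    by_contra hne
    exact hcb.1 (hca.2 _ (lt_of_le_of_ne hle hne))
  obtain ⟨g, hg⟩ := MulAction.exists_smul_eq G a b
  have hgN : g ∈ Subgroup.normalizer ((MulAction.stabilizer G a : Subgroup G) : Set G) := by
    rw [Subgroup.mem_normalizer_iff]
    intro h
    rw [MulAction.mem_stabilizer_iff, heq, MulAction.mem_stabilizer_iff, ← hg, mul_smul, mul_smul,
      inv_smul_smul]
    constructor
    · intro h1; rw [h1]
    · intro h1; exact smul_left_cancel g h1
  have hgS : g ∉ MulAction.stabilizer G a := by
    intro h
    rw [MulAction.mem_stabilizer_iff, hg] at h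
    exact hab h.symm
  have hnorm : (MulAction.stabilizer G a).Normal := by
    rw [← Subgroup.normalizer_eq_top_iff]
    by_contra hne
    have h1 : MulAction.stabilizer G a ≤
        Subgroup.normalizer ((MulAction.stabilizer G a : Subgroup G) : Set G) :=
      Subgroup.le_normalizer
    have h2 : Subgroup.normalizer ((MulAction.stabilizer G a : Subgroup G) : Set G) =
        MulAction.stabilizer G a := by
      by_contra h
      exact hne (hca.2 _ (lt_of_le_of_ne h1 (Ne.symm h)))
    rw [h2] at hgN
    exact hgS hgN
  have hbot := Cfsg.Agent.Helper4.stabilizer_eq_bot_of_normal a hnorm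
  refine ⟨hbot, ?_⟩
  rw [hbot] at hca
  exact Cfsg.Agent.Helper4.cyclic_prime_of_isCoatom_bot hca

end Cfsg.Agent.S3683
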