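import Cfsg.Statements.S3684
import Cfsg.Agent.Helper2.DihedralIso

set_option autoImplicit false
open Cfsg

namespace Cfsg.Agent.S3684

open MulAction

/-- Let a finite group G act faithfully and primitively on a set Ω, and suppose the stabilizer of a point a has an orbit of length 2. Then the stabilizer of a has order 2 and G is isomorphic to the dihedral group of order 2p for some prime p. -/
theorem result {G Ω : Type*} [Group G] [Finite G] [MulAction G Ω] [FaithfulSMul G Ω] [Finite Ω]
    (hprim : MulAction.IsPreprimitive G Ω) (a b : Ω) (h2 : Nat.card (MulAction.orbit (MulAction.stabilizer G a) b) = 2) :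
    Nat.card (MulAction.stabilizer G a) = 2 ∧ ∃ p : ℕ, p.Prime ∧ Nonempty (G ≃* DihedralGroup p) := by
  classical
  have hpt : IsPretransitive G Ω := hprim.toIsPretransitive
  set S := stabilizer G a with hS
  set T := stabilizer G b with hT
  -- if S fixes b the orbit is a singleton
  have hnotfix : ¬ (∀ s : G, s ∈ S → s • b = b) := by
    intro hfix
    have h1 : orbit S b = {b} := by
      ext x
      simp only [Set.mem_singleton_iff]
      constructor
      · rintro ⟨s, rfl⟩
        exact hfix s s.2
      · rintro rfl; exact mem_orbit_self _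
    rw [h1] at h2
    simp at h2
  have hab : b ≠ a := by
    intro h
    apply hnotfix
    intro s hs
    rw [h]; exact hs
  have hnt : Nontrivial Ω := ⟨⟨b, a, hab⟩⟩
  have hco : IsCoatom S := IsPreprimitive.isCoatom_stabilizer_of_isPreprimitive (G := G) a
  have h3 : (stabilizer S b).index = 2 := by
    rw [index_stabilizer, ← Nat.card_coe_set_eq]; exact h2
  have h4 : stabilizer S b = T.subgroupOf S := by
    ext s
    rw [mem_stabilizer_iff, Subgroup.mem_subgroupOf, hT, mem_stabilizer_iff]
    rfl
  have h5 : T.relIndex S = 2 := by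
    rw [Subgroup.relIndex, ← h4]; exact h3
  set K := S ⊓ T with hK
  have hKS : K ≤ S := inf_le_left
  have hKT : K ≤ T := inf_le_right
  have h6 : K.relIndex S = 2 := by
    rw [hK, Subgroup.inf_relIndex_left]; exact h5
  -- |S| = |T|
  obtain ⟨g, hg⟩ := exists_smul_eq G a b
  have hTS : T = S.map (MulAut.conj g).toMonoidHom := by
    rw [hT, ← hg, stabilizer_smul_eq_stabilizer_map_conj]
  have hcardTS : Nat.card T = Nat.card S := by
    rw [hTS]
    exact Subgroup.card_map_of_injective (MulAut.conj g).injective
  have hcardK : ∀ L : Subgroup G, K ≤ L → Nat.card K * K.relIndex L = Nat.card L := by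
    intro L hL
    have h1 := (K.subgroupOf L).card_mul_index
    have h2 : Nat.card (K.subgroupOf L) = Nat.card K :=
      Nat.card_congr (Subgroup.subgroupOfEquivOfLe hL).toEquiv
    rw [h2] at h1
    exact h1
  have h7 : K.relIndex T = 2 := by
    have h1 := hcardK S hKS
    have h2 := hcardK T hKT
    rw [h6] at h1
    rw [hcardTS, ← h1] at h2
    have hpos : 0 < Nat.card K := Nat.card_pos
    exact Nat.eq_of_mul_eq_mul_left hpos h2
  -- K normal in S and T, hence in G
  have hnS : S ≤ Subgroup.normalizer (K : Set G) := by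
    rw [← Subgroup.normal_subgroupOf_iff_le_normalizer hKS]
    exact Subgroup.normal_of_index_eq_two h6
  have hnT : T ≤ Subgroup.normalizer (K : Set G) := by
    rw [← Subgroup.normal_subgroupOf_iff_le_normalizer hKT]
    exact Subgroup.normal_of_index_eq_two h7
  have hTnle : ¬ T ≤ S := by
    intro hle
    apply hnotfix
    intro s hs
    -- T = S by cardinality
    have hfin : (S : Set G).Finite := Set.toFinite _
    have heq : (T : Set G) = (S : Set G) := by
      apply Set.eq_of_subset_of_ncard_le hle _ hfin
      rw [← Nat.card_coe_set_eq, ← Nat.card_coe_set_eq]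
      exact hcardTS.symm.le
    have : s ∈ (T : Set G) := by rw [heq]; exact hs
    exact this
  have hsup : S ⊔ T = ⊤ := by
    apply hco.2
    apply lt_of_le_of_ne le_sup_left
    intro h
    apply hTnle
    rw [h]; exact le_sup_right
  have hKn : K.Normal := by
    rw [← Subgroup.normalizer_eq_top_iff, eq_top_iff, ← hsup]
    exact sup_le hnS hnT
  have hKbot : K = ⊥ := by
    rw [eq_bot_iff]
    intro k hk
    rw [Subgroup.mem_bot]
    apply FaithfulSMul.eq_of_smul_eq_smul (α := Ω)
    intro ω
    obtain ⟨x, rfl⟩ := exists_smul_eq G a ω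
    have h1 : x⁻¹ * k * x ∈ K := by
      have := hKn.conj_mem k hk x⁻¹
      simpa using this
    have h2 : (x⁻¹ * k * x) • a = a := hKS h1
    rw [one_smul]
    have h3 : k • x • a = x • ((x⁻¹ * k * x) • a) := by
      simp only [mul_smul, smul_inv_smul]
    rw [h3, h2]
  have hcardS : Nat.card S = 2 := by
    have h1 := hcardK S hKS
    rw [h6, hKbot, Subgroup.card_bot] at h1
    omega
  have hcardT : Nat.card T = 2 := hcardTS.trans hcardS
  refine ⟨hcardS, ?_⟩
  -- generators
  obtain ⟨t, ht1, htu⟩ := (Nat.card_eq_two_iff' (1 : S)).mp hcardS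
  obtain ⟨s, hs1, hsu⟩ := (Nat.card_eq_two_iff' (1 : T)).mp hcardT
  have htt : (t : G) * (t : G) = 1 := by
    have h1 : t ^ 2 = 1 := by rw [← hcardS]; exact pow_card_eq_one'
    have h2 : ((t ^ 2 : S) : G) = 1 := by rw [h1]; rfl
    rw [← pow_two]; exact_mod_cast h2
  have hss : (s : G) * (s : G) = 1 := by
    have h1 : s ^ 2 = 1 := by rw [← hcardT]; exact pow_card_eq_one'
    have h2 : ((s ^ 2 : T) : G) = 1 := by rw [h1]; rfl
    rw [← pow_two]; exact_mod_cast h2
  have htne : (t : G) ≠ 1 := fun h => ht1 (Subtype.ext h)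
  have hsne : (s : G) ≠ 1 := fun h => hs1 (Subtype.ext h)
  have hclos : Subgroup.closure ({(t : G), (s : G)} : Set G) = ⊤ := by
    rw [eq_top_iff, ← hsup]
    apply sup_le
    · intro x hx
      by_cases hx1 : (⟨x, hx⟩ : S) = 1
      · have : x = 1 := congrArg Subtype.val hx1
        rw [this]; exact Subgroup.one_mem _
      · have := htu ⟨x, hx⟩ hx1
        have hxt : x = (t : G) := congrArg Subtype.val this
        rw [hxt]
        exact Subgroup.subset_closure (by simp)
    · intro x hx
      by_cases hx1 : (⟨x, hx⟩ : T) = 1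
      · have : x = 1 := congrArg Subtype.val hx1
        rw [this]; exact Subgroup.one_mem _
      · have := hsu ⟨x, hx⟩ hx1
        have hxt : x = (s : G) := congrArg Subtype.val this
        rw [hxt]
        exact Subgroup.subset_closure (by simp)
  obtain ⟨e⟩ := Cfsg.Agent.Helper2.closure_pair_invol_equiv_dihedral htt hss htne hsne
  set n := orderOf ((t : G) * (s : G)) with hn
  have eG : G ≃* DihedralGroup n :=
    (Subgroup.topEquiv.symm.trans (MulEquiv.subgroupCongr hclos.symm)).trans e
  have hcardG : Nat.card G = 2 * n := by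
    rw [Nat.card_congr eG.toEquiv, DihedralGroup.nat_card]
  have hcardΩ : Nat.card Ω = n := by
    have h1 : S.index = Nat.card Ω := index_stabilizer_of_transitive G a
    have h2 := S.card_mul_index
    rw [hcardS, hcardG, h1] at h2
    omega
  have hn2 : 2 ≤ n := by
    rw [← hcardΩ]; exact Finite.one_lt_card
  refine ⟨n, ?_, ⟨eG⟩⟩
  -- n is prime
  obtain ⟨p, hp, hpd⟩ := Nat.exists_prime_and_dvd (show n ≠ 1 by omega)
  set r := (t : G) * (s : G) with hr
  have htinv : (t : G)⁻¹ = (t : G) := inv_eq_of_mul_eq_one_right htt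
  have hsinv : (s : G)⁻¹ = (s : G) := inv_eq_of_mul_eq_one_right hss
  have hconjt : (t : G) * r * (t : G)⁻¹ = r⁻¹ := by
    rw [hr, mul_inv_rev, htinv, hsinv, ← mul_assoc, htt, one_mul]
  have hconjs : (s : G) * r * (s : G)⁻¹ = r⁻¹ := by
    rw [hr, mul_inv_rev, htinv, hsinv, mul_assoc, mul_assoc, hss, mul_one]
  set x := r ^ (n / p) with hx
  have hxord : orderOf x = p := orderOf_pow_orderOf_div (by omega) hpd
  have hxne : x ≠ 1 := by
    intro h
    rw [h, orderOf_one] at hxord
    exact hp.one_lt.ne hxord
  have hconjtx : (t : G) * x * (t : G)⁻¹ = x⁻¹ := by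
    rw [hx, ← conj_pow, hconjt, inv_pow]
  have hconjsx : (s : G) * x * (s : G)⁻¹ = x⁻¹ := by
    rw [hx, ← conj_pow, hconjs, inv_pow]
  have hnormaux : ∀ u : G, u * u = 1 → u * x * u⁻¹ = x⁻¹ →
      u ∈ Subgroup.normalizer ((Subgroup.zpowers x : Subgroup G) : Set G) := by
    intro u huu hux
    have huinv : u⁻¹ = u := inv_eq_of_mul_eq_one_right huu
    have hfwd : ∀ h : G, h ∈ Subgroup.zpowers x → u * h * u⁻¹ ∈ Subgroup.zpowers x := by
      rintro h ⟨k, rfl⟩
      have : u * x ^ k * u⁻¹ = (x⁻¹) ^ k := by
        rw [← hux]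
        have := (MulAut.conj u).toMonoidHom.map_zpow x k
        simpa using this
      rw [this]
      exact Subgroup.zpow_mem _ (Subgroup.inv_mem _ (Subgroup.mem_zpowers x)) k
    rw [Subgroup.mem_normalizer_iff]
    intro h
    constructor
    · exact hfwd h
    · intro hh
      have := hfwd _ hh
      rw [huinv] at this
      have e2 : u * (u * h * u) * u = (u * u) * h * (u * u) := by group
      rw [e2, huu, one_mul, mul_one] at this
      exact this
  have hRn : (Subgroup.zpowers x).Normal := by
    rw [← Subgroup.normalizer_eq_top_iff, eq_top_iff, ← hclos, Subgroup.closure_le]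
    intro u hu
    rcases hu with rfl | hu
    · exact hnormaux _ htt hconjtx
    · rw [Set.mem_singleton_iff] at hu
      rw [hu]
      exact hnormaux _ hss hconjsx
  have hfp : fixedPoints (Subgroup.zpowers x) Ω ≠ Set.univ := by
    intro h
    apply hxne
    apply FaithfulSMul.eq_of_smul_eq_smul (α := Ω)
    intro ω
    rw [one_smul]
    have : ω ∈ fixedPoints (Subgroup.zpowers x) Ω := by rw [h]; trivial
    exact this ⟨x, Subgroup.mem_zpowers x⟩
  have hRt : IsPretransitive (Subgroup.zpowers x) Ω :=
    IsQuasiPreprimitive.isPretransitive_of_normal hfp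
  have hdvd : Nat.card Ω ∣ Nat.card (Subgroup.zpowers x) := by
    rw [← index_stabilizer_of_transitive (Subgroup.zpowers x) a]
    exact Subgroup.index_dvd_card _
  rw [Nat.card_zpowers, hxord, hcardΩ] at hdvd
  rcases (Nat.dvd_prime hp).mp hdvd with h | h
  · omega
  · rw [h]; exact hp

end Cfsg.Agent.S3684
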