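import Cfsg.Statements.S3701
import Cfsg.Agent.Helper4.Hig3F
import Cfsg.Agent.Helper4.Hig3G
-- import your own Cfsg.Agent.* helpers here

set_option autoImplicit false
open Cfsg

namespace Cfsg.Agent.S3701

open Cfsg.Agent.Helper4.Hig

/-- the generating set of `H₀` -/
def gens : Set (Equiv.Perm (Fin 9)) :=
  {Equiv.swap (0 : Fin 9) 1 * Equiv.swap 1 2, Equiv.swap (3 : Fin 9) 4 * Equiv.swap 4 5,
    Equiv.swap (6 : Fin 9) 7 * Equiv.swap 7 8,
    Equiv.swap (0 : Fin 9) 1 * Equiv.swap 3 4, Equiv.swap (0 : Fin 9) 1 * Equiv.swap 6 7}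

/-- the group `H₀` -/
def K0 : Subgroup (Equiv.Perm (Fin 9)) := Subgroup.closure gens

theorem aP_mem : ∀ p, cP.a p ∈ K0 := by
  intro p
  fin_cases p
  · exact Subgroup.subset_closure (Or.inl rfl)
  · exact Subgroup.subset_closure (Or.inr (Or.inl rfl))
  · exact Subgroup.subset_closure (Or.inr (Or.inr (Or.inl rfl)))

theorem wP_mem : ∀ p, cP.w p ∈ K0 := by
  intro p
  have h1 : Equiv.swap (0 : Fin 9) 1 * Equiv.swap 3 4 ∈ K0 :=
    Subgroup.subset_closure (Or.inr (Or.inr (Or.inr (Or.inl rfl))))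
  have h2 : Equiv.swap (0 : Fin 9) 1 * Equiv.swap 6 7 ∈ K0 :=
    Subgroup.subset_closure (Or.inr (Or.inr (Or.inr (Or.inr rfl))))
  fin_cases p
  · exact K0.mul_mem h1 h2
  · exact h2
  · exact h1

/-- the configuration inside `H₀` -/
def cK : Cfg3 K0 := cP.restrict K0 aP_mem wP_mem

theorem gen_mem {G : Type*} [Group G] (ψ : K0 →* G) :
    ∀ (x : Equiv.Perm (Fin 9)) (hx : x ∈ K0), ψ ⟨x, hx⟩ ∈ (cK.map ψ).Hs := by
  intro x hx
  induction hx using Subgroup.closure_induction with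
  | mem x hx =>
    rcases hx with rfl | rfl | rfl | rfl | rfl
    · exact Subgroup.subset_closure (Or.inl ⟨0, rfl⟩)
    · exact Subgroup.subset_closure (Or.inl ⟨1, rfl⟩)
    · exact Subgroup.subset_closure (Or.inl ⟨2, rfl⟩)
    · exact Subgroup.subset_closure (Or.inr ⟨2, rfl⟩)
    · exact Subgroup.subset_closure (Or.inr ⟨1, rfl⟩)
  | one =>
    have : (⟨1, K0.one_mem⟩ : K0) = 1 := rfl
    rw [this, map_one]; exact Subgroup.one_mem _
  | mul x y hx hy ihx ihy =>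
    have : (⟨x * y, K0.mul_mem hx hy⟩ : K0) = ⟨x, hx⟩ * ⟨y, hy⟩ := rfl
    rw [this, map_mul]; exact Subgroup.mul_mem _ ihx ihy
  | inv x hx ih =>
    have : (⟨x⁻¹, K0.inv_mem hx⟩ : K0) = ⟨x, hx⟩⁻¹ := rfl
    rw [this, map_inv]; exact Subgroup.inv_mem _ ih

/-- Let H₀ ≤ Sym(9) be generated by the 3-cycles (1 2 3), (4 5 6), (7 8 9) and the involutions (1 2)(4 5), (1 2)(7 8) (a group of order 108, elementary abelian of order 27 extended by a four-group). Let G be a finite group with a subgroup H ≅ H₀, and T ≤ H of order 27 (a Sylow 3-subgroup of H) with N_G(T) = H and C_G(t) ≤ H for every t ≠ 1 in T. Then G = H. -/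
theorem result {G : Type*} [Group G] [Finite G] (H : Subgroup G)
    (hH : Nonempty (↥H ≃* ↥(Subgroup.closure ({Equiv.swap (0 : Fin 9) 1 * Equiv.swap 1 2, Equiv.swap (3 : Fin 9) 4 * Equiv.swap 4 5, Equiv.swap (6 : Fin 9) 7 * Equiv.swap 7 8,
        Equiv.swap (0 : Fin 9) 1 * Equiv.swap 3 4, Equiv.swap (0 : Fin 9) 1 * Equiv.swap 6 7} : Set (Equiv.Perm (Fin 9))))))
    (T : Subgroup G) (hTH : T ≤ H) (hT : Nat.card T = 27) (hN : Subgroup.normalizer (T : Set G) = H)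
    (hC : ∀ t ∈ T, t ≠ 1 → Subgroup.centralizer ({t} : Set G) ≤ H) : H = ⊤ := by
  obtain ⟨φ0⟩ := hH
  have φ : H ≃* K0 := φ0
  obtain ⟨ψ, hψ⟩ : ∃ ψ : K0 →* G, ψ = H.subtype.comp φ.symm.toMonoidHom := ⟨_, rfl⟩
  have hψH : ∀ k : K0, ψ k ∈ H := by
    intro k
    rw [hψ]
    exact (φ.symm k).2
  obtain ⟨c, hc⟩ : ∃ c : Cfg3 G, c = cK.map ψ := ⟨_, rfl⟩
  have hHs : c.Hs = H := by
    apply le_antisymm
    · show Subgroup.closure (Set.range c.a ∪ Set.range c.w) ≤ H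
      rw [Subgroup.closure_le]
      rintro x (⟨p, rfl⟩ | ⟨p, rfl⟩)
      · rw [hc]; exact hψH _
      · rw [hc]; exact hψH _
    · intro h hh
      have : h = ψ (φ ⟨h, hh⟩) := by
        rw [hψ]; simp
      rw [this, hc]
      exact gen_mem ψ _ (φ ⟨h, hh⟩).2
  have hTA : T = c.A := by
    have hle : T ≤ c.A := by
      intro t ht
      apply c.pel t (by rw [hHs]; exact hTH ht)
      refine ⟨3, ?_⟩
      have h1 := pow_card_eq_one' (G := T) (x := ⟨t, ht⟩)
      rw [hT] at h1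
      have h2 := congrArg Subtype.val h1
      simpa using h2
    apply Subgroup.eq_of_le_of_card_ge hle
    have h1 := c.card_A_le 0
    have h2 := c.card_B_le 0
    rw [hT]; omega
  have hA : Nat.card c.A = 27 := by rw [← hTA]; exact hT
  have hN' : Subgroup.normalizer (c.A : Set G) ≤ c.Hs := by rw [← hTA, hHs, hN]
  have hC' : ∀ t ∈ c.A, t ≠ 1 → Subgroup.centralizer ({t} : Set G) ≤ c.Hs := by
    rw [← hTA, hHs]; exact hC
  rw [← hHs]
  exact c.Hs_eq_top hA hN' hC'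

end Cfsg.Agent.S3701
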