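import Cfsg.Statements.S3704
import Cfsg.Agent.Helper4.PermCharOrbits
import Cfsg.Agent.Helper6.Induced
import Cfsg.Agent.Helper6.Constituent
import Cfsg.Agent.Helper6.IrrCrit
import Cfsg.Agent.Helper6.OddReal

set_option autoImplicit false
open Cfsg

namespace Cfsg.Agent.S3704

/-- Let G be a finite group acting faithfully and 2-transitively on a finite set Ω of size n, and let H be a subgroup of index n in G which is not transitive on Ω and fixes no point of Ω. Then H has exactly two orbits on Ω. -/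
theorem result {G Ω : Type*} [Group G] [Finite G] [MulAction G Ω] [FaithfulSMul G Ω] [Finite Ω] (h2 : MulAction.IsMultiplyPretransitive G Ω 2) (H : Subgroup G) (hidx : H.index = Nat.card Ω) (hnt : ¬ MulAction.IsPretransitive H Ω) (hfix : ∀ a : Ω, ∃ h : H, h • a ≠ a) : Nat.card (MulAction.orbitRel.Quotient H Ω) = 2 := by
  classical
  have : Fintype G := Fintype.ofFinite G
  have : Fintype H := Fintype.ofFinite H
  have hn : 0 < Nat.card Ω := by
    rw [← hidx]; exact Nat.pos_of_ne_zero H.index_ne_zero_of_finite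
  have hne : Nonempty Ω := (Nat.card_pos_iff.mp hn).1
  obtain ⟨a⟩ := hne
  have hb : ∃ b, b ≠ a := by
    by_contra hall
    push Not at hall
    apply hnt
    constructor
    intro x y
    exact ⟨1, by rw [one_smul, hall x, hall y]⟩
  obtain ⟨b, hb⟩ := hb
  have : Fintype (MulAction.stabilizer G a) := Fintype.ofFinite _
  have htrans : MulAction.IsPretransitive G Ω := MulAction.isPretransitive_of_is_two_pretransitive
  obtain ⟨one, hone⟩ : ∃ one : G → ℂ, one = fun _ => (1 : ℂ) := ⟨_, rfl⟩
  obtain ⟨π, hπdef⟩ : ∃ π : G → ℂ, π = fun g => (Nat.card (MulAction.fixedBy Ω g) : ℂ) := ⟨_, rfl⟩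
  obtain ⟨ρ, hρdef⟩ : ∃ ρ : G → ℂ, ρ = Cfsg.indFun H (fun _ => (1 : ℂ)) := ⟨_, rfl⟩
  obtain ⟨t, htdef⟩ : ∃ t : ℕ, t = Nat.card (MulAction.orbitRel.Quotient H Ω) := ⟨_, rfl⟩
  rw [← htdef]
  have hone_irr : Cfsg.IsIrrCharacter G one := hone ▸ Cfsg.Agent.Helper6.isIrrCharacter_one
  have hone_cf : Cfsg.IsClassFunction G one := by
    intro g h; rw [hone]
  have hπ_ind : π = Cfsg.indFun (MulAction.stabilizer G a) (fun _ => (1 : ℂ)) := by
    rw [hπdef]; exact Cfsg.Agent.Helper6.permChar_eq_indFun Ω a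
  have hπ_char : Cfsg.IsCharacter G π := by
    rw [hπ_ind]
    exact Cfsg.Agent.Helper6.isCharacter_indFun _ _ Cfsg.Agent.Helper6.isCharacter_one
  have hρ_char : Cfsg.IsCharacter G ρ := by
    rw [hρdef]
    exact Cfsg.Agent.Helper6.isCharacter_indFun _ _ Cfsg.Agent.Helper6.isCharacter_one
  have hπ_cf := Cfsg.Agent.Helper6.IsCharacter.isClassFunction hπ_char
  have h11 : Cfsg.classInner one one = 1 := Cfsg.Agent.Helper6.classInner_irr_self hone_irr
  have hπ1 : Cfsg.classInner π one = 1 := by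
    rw [hπ_ind, Cfsg.Agent.Helper6.frobenius_reciprocity _ _ one hone_cf, hone]
    exact Cfsg.Agent.Helper6.classInner_irr_self Cfsg.Agent.Helper6.isIrrCharacter_one
  have hρ1 : Cfsg.classInner ρ one = 1 := by
    rw [hρdef, Cfsg.Agent.Helper6.frobenius_reciprocity _ _ one hone_cf, hone]
    exact Cfsg.Agent.Helper6.classInner_irr_self Cfsg.Agent.Helper6.isIrrCharacter_one
  have h1π : Cfsg.classInner one π = 1 := by
    rw [Cfsg.Agent.Helper6.classInner_conj_symm π one, hπ1, map_one]
  have hππ : Cfsg.classInner π π = 2 := by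
    have h1 : Cfsg.classInner π π =
        Cfsg.classInner (Cfsg.indFun (MulAction.stabilizer G a) (fun _ => (1 : ℂ))) π := by
      rw [← hπ_ind]
    rw [h1, Cfsg.Agent.Helper6.frobenius_reciprocity _ _ π hπ_cf, hπdef]
    have hB := Cfsg.Agent.Helper4.classInner_one_permChar (K := MulAction.stabilizer G a) Ω
    rw [Cfsg.Agent.Helper4.card_orbits_stabilizer_of_two_pretransitive h2 a b (Ne.symm hb)] at hB
    exact_mod_cast hB
  have hρπ : Cfsg.classInner ρ π = (t : ℂ) := by
    rw [hρdef, Cfsg.Agent.Helper6.frobenius_reciprocity _ _ π hπ_cf, hπdef, htdef]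
    exact Cfsg.Agent.Helper4.classInner_one_permChar (K := H) Ω
  have hχ_char : Cfsg.IsCharacter G (π - one) :=
    Cfsg.Agent.Helper6.sub_isCharacter_of_constituent hπ_char hone_irr
      (by rw [hπ1]; exact one_ne_zero)
  have hχχ : Cfsg.classInner (π - one) (π - one) = 1 := by
    rw [Cfsg.Agent.Helper6.classInner_sub_left, Cfsg.Agent.Helper6.classInner_sub_right,
      Cfsg.Agent.Helper6.classInner_sub_right, hππ, hπ1, h1π, h11]
    norm_num
  have hχ_irr := Cfsg.Agent.Helper6.isIrrCharacter_of_classInner_self hχ_char hχχ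
  have hψ_char : Cfsg.IsCharacter G (ρ - one) :=
    Cfsg.Agent.Helper6.sub_isCharacter_of_constituent hρ_char hone_irr
      (by rw [hρ1]; exact one_ne_zero)
  have hψχ : Cfsg.classInner (ρ - one) (π - one) = (t : ℂ) - 1 := by
    rw [Cfsg.Agent.Helper6.classInner_sub_left, Cfsg.Agent.Helper6.classInner_sub_right,
      Cfsg.Agent.Helper6.classInner_sub_right, hρπ, hρ1, h1π, h11]
    ring
  by_cases ht1 : t = 1
  · exfalso
    apply hnt
    rw [htdef] at ht1
    obtain ⟨hs, _⟩ := Nat.card_eq_one_iff_unique.mp ht1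
    exact (MulAction.pretransitive_iff_subsingleton_quotient H Ω).mpr hs
  · have hne0 : Cfsg.classInner (ρ - one) (π - one) ≠ 0 := by
      rw [hψχ]
      intro h
      apply ht1
      have : (t : ℂ) = 1 := by linear_combination h
      exact_mod_cast this
    have hdeg : (ρ - one) 1 = (π - one) 1 := by
      rw [Pi.sub_apply, Pi.sub_apply, hρdef, Cfsg.Agent.Helper4.indFun_one_apply_one, hπdef, hidx]
      congr 2
      rw [MulAction.fixedBy_one_eq_univ]
      exact (Nat.card_congr (Equiv.Set.univ Ω)).symm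
    have heq := Cfsg.Agent.Helper6.eq_of_constituent_of_degree hψ_char hχ_irr hne0 hdeg
    rw [heq, hχχ] at hψχ
    have : (t : ℂ) = 2 := by linear_combination -hψχ
    exact_mod_cast this

end Cfsg.Agent.S3704
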