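import Cfsg.Statements.S3733
import Mathlib

set_option autoImplicit false
open Cfsg
open scoped IsMulCommutative

namespace Cfsg.Agent.S3733

variable {G : Type*} [Group G]

/-- Conjugation by an element of the normalizer, as an endomorphism of `V`. -/
def conjHom (V : Subgroup G) (a : G) (ha : a ∈ Subgroup.normalizer (V : Set G)) : V →* V where
  toFun v := ⟨a * v * a⁻¹, (Subgroup.mem_normalizer_iff.mp ha v).mp v.2⟩
  map_one' := by apply Subtype.ext; simp
  map_mul' x y := by apply Subtype.ext; simp [mul_assoc]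

open Classical in
/-- Total version of conjugation. -/
noncomputable def conjV (V : Subgroup G) (a : G) (v : V) : V :=
  if ha : a ∈ Subgroup.normalizer (V : Set G) then conjHom V a ha v else 1

theorem conjV_of_mem (V : Subgroup G) (a : G) (ha : a ∈ Subgroup.normalizer (V : Set G)) (v : V) :
    conjV V a v = conjHom V a ha v := by
  unfold conjV
  rw [dif_pos ha]

theorem coe_conjV (V : Subgroup G) (a : G) (ha : a ∈ Subgroup.normalizer (V : Set G)) (v : V) :
    ((conjV V a v : V) : G) = a * v * a⁻¹ := by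
  rw [conjV_of_mem V a ha]; rfl

/-- Let A and V be subgroups of a finite group with V abelian and nontrivial and A normalizing V. Suppose a nonempty finite family of proper subgroups of A partitions A: every non-identity element of A lies in exactly one member. If the number of members minus one is coprime to the order of V, then some member B of the family has a non-identity fixed point on V, that is V ∩ C(B) ≠ 1. -/
theorem result {G : Type*} [Group G] [Finite G] (A V : Subgroup G) (hVab : IsMulCommutative V) (hV : V ≠ ⊥) (hAV : A ≤ Subgroup.normalizer (V : Set G)) (𝒜 : Finset (Subgroup G)) (hne : 𝒜.Nonempty) (hprop : ∀ B ∈ 𝒜, B < A) (hpart : ∀ a ∈ A, a ≠ 1 → ∃! B, B ∈ 𝒜 ∧ a ∈ B) (hk : (𝒜.card - 1).Coprime (Nat.card V)) : ∃ B ∈ 𝒜, V ⊓ Subgroup.centralizer (B : Set G) ≠ ⊥ := by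
  classical
  have : Fintype G := Fintype.ofFinite G
  by_contra hcon
  push Not at hcon
  -- pick a non-identity element of V
  obtain ⟨v₀, hv₀V, hv₀1⟩ := (Subgroup.bot_or_exists_ne_one V).resolve_left hV
  let v : V := ⟨v₀, hv₀V⟩
  have hv1 : v ≠ 1 := fun h => hv₀1 (congrArg Subtype.val h)
  -- the finset of elements of a subgroup
  let fs : Subgroup G → Finset G := fun B => Finset.univ.filter (· ∈ B)
  have hfs : ∀ (B : Subgroup G) (g : G), g ∈ fs B ↔ g ∈ B := by
    intro B g; simp [fs]
  -- the norm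
  let T : Finset G → V := fun S => ∏ a ∈ S, conjV V a v
  -- (1) the norm over a subgroup B ≤ A is centralized by B
  have hfix : ∀ B : Subgroup G, B ≤ A → ((T (fs B) : V) : G) ∈ V ⊓ Subgroup.centralizer (B : Set G) := by
    intro B hBA
    refine ⟨(T (fs B)).2, ?_⟩
    show ((T (fs B) : V) : G) ∈ Subgroup.centralizer (B : Set G)
    rw [Subgroup.mem_centralizer_iff]
    intro c hc
    have hcN : c ∈ Subgroup.normalizer (V : Set G) := hAV (hBA hc)
    have h1 : conjHom V c hcN (T (fs B)) = T (fs B) := by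
      show conjHom V c hcN (∏ a ∈ fs B, conjV V a v) = ∏ a ∈ fs B, conjV V a v
      rw [map_prod]
      apply Finset.prod_bij (fun a _ => c * a)
      · intro a ha
        rw [hfs] at ha ⊢
        exact B.mul_mem hc ha
      · intro a₁ _ a₂ _ h
        exact mul_left_cancel h
      · intro b hb
        rw [hfs] at hb
        refine ⟨c⁻¹ * b, ?_, by group⟩
        rw [hfs]
        exact B.mul_mem (B.inv_mem hc) hb
      · intro a ha
        rw [hfs] at ha
        have haN : a ∈ Subgroup.normalizer (V : Set G) := hAV (hBA ha)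
        have hcaN : c * a ∈ Subgroup.normalizer (V : Set G) := hAV (hBA (B.mul_mem hc ha))
        apply Subtype.ext
        rw [coe_conjV V (c * a) hcaN]
        show c * ((conjV V a v : V) : G) * c⁻¹ = _
        rw [coe_conjV V a haN]
        group
    have h2 := congrArg Subtype.val h1
    have h3 : c * ((T (fs B) : V) : G) * c⁻¹ = ((T (fs B) : V) : G) := h2
    calc c * ((T (fs B) : V) : G) = c * ((T (fs B) : V) : G) * c⁻¹ * c := by group
      _ = ((T (fs B) : V) : G) * c := by rw [h3]
  -- all norms over members vanish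
  have hTB : ∀ B ∈ 𝒜, T (fs B) = 1 := by
    intro B hB
    have := hfix B (hprop B hB).le
    rw [hcon B hB, Subgroup.mem_bot] at this
    exact Subtype.ext this
  have hTA : T (fs A) = 1 := by
    obtain ⟨B, hB⟩ := hne
    have h1 := hfix A le_rfl
    have h2 : V ⊓ Subgroup.centralizer (A : Set G) ≤ V ⊓ Subgroup.centralizer (B : Set G) :=
      inf_le_inf_left _ (Subgroup.centralizer_le (hprop B hB).le)
    have := h2 h1
    rw [hcon B hB, Subgroup.mem_bot] at this
    exact Subtype.ext this
  -- conj 1 v = v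
  have hone : conjV V 1 v = v := by
    apply Subtype.ext
    rw [coe_conjV V 1 (Subgroup.one_mem _)]
    simp
  -- (3) T (fs B) = v * T (fs B \ {1})
  have hsplit : ∀ B : Subgroup G, T (fs B) = v * T ((fs B).erase 1) := by
    intro B
    have h1 : (1 : G) ∈ fs B := (hfs B 1).mpr B.one_mem
    have := Finset.mul_prod_erase (fs B) (fun a => conjV V a v) h1
    rw [hone] at this
    exact this.symm
  -- (2) partition
  -- the member containing a
  have hmem : ∀ a ∈ (fs A).erase 1, ∃ B ∈ 𝒜, a ∈ B := by
    intro a ha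
    rw [Finset.mem_erase, hfs] at ha
    obtain ⟨B, ⟨hB, haB⟩, _⟩ := hpart a ha.2 ha.1
    exact ⟨B, hB, haB⟩
  let β : G → Subgroup G := fun a =>
    if h : ∃ B ∈ 𝒜, a ∈ B then Classical.choose h else ⊥
  have hβ : ∀ a ∈ (fs A).erase 1, β a ∈ 𝒜 ∧ a ∈ β a := by
    intro a ha
    have h := hmem a ha
    simp only [β, dif_pos h]
    exact Classical.choose_spec h
  have hβuniq : ∀ a ∈ (fs A).erase 1, ∀ B ∈ 𝒜, a ∈ B → β a = B := by
    intro a ha B hB haB
    have ha' := ha
    rw [Finset.mem_erase, hfs] at ha'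
    obtain ⟨B', _, huniq⟩ := hpart a ha'.2 ha'.1
    rw [huniq (β a) (hβ a ha), huniq B ⟨hB, haB⟩]
  have hpartition : T ((fs A).erase 1) = ∏ B ∈ 𝒜, T ((fs B).erase 1) := by
    show ∏ a ∈ (fs A).erase 1, conjV V a v = ∏ B ∈ 𝒜, ∏ a ∈ (fs B).erase 1, conjV V a v
    rw [← Finset.prod_fiberwise_of_maps_to (g := β) (t := 𝒜) (fun a ha => (hβ a ha).1)]
    apply Finset.prod_congr rfl
    intro B hB
    apply Finset.prod_congr _ (fun _ _ => rfl)
    ext a
    simp only [Finset.mem_filter, Finset.mem_erase]
    constructor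
    · rintro ⟨⟨ha1, haA⟩, hβa⟩
      have := (hβ a (Finset.mem_erase.mpr ⟨ha1, haA⟩)).2
      rw [hβa] at this
      exact ⟨ha1, (hfs B a).mpr this⟩
    · rintro ⟨ha1, haB⟩
      rw [hfs] at haB
      have haA : a ∈ fs A := (hfs A a).mpr ((hprop B hB).le haB)
      exact ⟨⟨ha1, haA⟩, hβuniq a (Finset.mem_erase.mpr ⟨ha1, haA⟩) B hB haB⟩
  -- each T (fs B \ {1}) = v⁻¹
  have herase : ∀ B ∈ 𝒜, T ((fs B).erase 1) = v⁻¹ := by
    intro B hB
    have := hsplit B
    rw [hTB B hB] at this
    exact eq_inv_of_mul_eq_one_right this.symm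
  -- put together
  have hfinal : v ^ (𝒜.card - 1) = 1 := by
    have h1 := hsplit A
    rw [hTA, hpartition, Finset.prod_congr rfl herase, Finset.prod_const] at h1
    have hcard : 1 ≤ 𝒜.card := Finset.card_pos.mpr hne
    have h2 : v ^ 𝒜.card = v ^ (𝒜.card - 1) * v := by
      rw [← pow_succ, Nat.sub_add_cancel hcard]
    have h3 : v ^ 𝒜.card = v := by
      have : v * (v⁻¹) ^ 𝒜.card = 1 := h1.symm
      rw [inv_pow, mul_inv_eq_one] at this
      exact this.symm
    rw [h2] at h3
    exact mul_eq_right.mp h3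
  have hord1 : orderOf v ∣ 𝒜.card - 1 := orderOf_dvd_of_pow_eq_one hfinal
  have hord2 : orderOf v ∣ Nat.card V := orderOf_dvd_natCard v
  have : orderOf v = 1 := Nat.eq_one_of_dvd_coprimes hk hord1 hord2
  exact hv1 (orderOf_eq_one_iff.mp this)

end Cfsg.Agent.S3733
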