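import Mathlib
import Cfsg.Statements.S3735
import Cfsg.Agent.Helper1.Coprime

set_option autoImplicit false
open Cfsg
open scoped Pointwise

namespace Cfsg.Agent.S3735

open Cfsg.Agent.Helper1

variable {G : Type*} [Group G]

/-- if `K` permutes a family of subgroups, it normalizes their join -/
theorem le_normalizer_sSup (K : Subgroup G) (𝒮 : Set (Subgroup G))
    (h : ∀ k ∈ K, ∀ S ∈ 𝒮, MulAut.conj k • S ∈ 𝒮) :
    K ≤ Subgroup.normalizer ((sSup 𝒮 : Subgroup G) : Set G) := by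
  have key : ∀ a ∈ K, ∀ x ∈ sSup 𝒮, a * x * a⁻¹ ∈ sSup 𝒮 := by
    intro a ha
    have : sSup 𝒮 ≤ (sSup 𝒮).comap (MulAut.conj a).toMonoidHom := by
      apply sSup_le
      intro S hS s hs
      have h1 : MulAut.conj a • S ≤ sSup 𝒮 := le_sSup (h a ha S hS)
      exact h1 (conj_mem_conj_smul hs)
    intro x hx
    exact this hx
  intro k hk
  rw [Subgroup.mem_normalizer_iff]
  intro x
  constructor
  · exact key k hk x
  · intro hx
    have := key k⁻¹ (K.inv_mem hk) _ hx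
    simpa [mul_assoc] using this

theorem exists_min_inv [Finite G] (K T : Subgroup G)
    (hT : K ≤ Subgroup.normalizer (T : Set G)) (hne : T ≠ ⊥) :
    ∃ M ≤ T, K ≤ Subgroup.normalizer (M : Set G) ∧ M ≠ ⊥ ∧
      ∀ X ≤ M, K ≤ Subgroup.normalizer (X : Set G) → X ≠ ⊥ → X = M := by
  let 𝒯 : Set (Subgroup G) := {X | X ≤ T ∧ K ≤ Subgroup.normalizer (X : Set G) ∧ X ≠ ⊥}
  have hT𝒯 : T ∈ 𝒯 := ⟨le_rfl, hT, hne⟩
  obtain ⟨M, hMT, hMmin⟩ := (Set.toFinite 𝒯).exists_le_minimal hT𝒯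
  obtain ⟨hMT', hMK, hMne⟩ : M ∈ 𝒯 := hMmin.prop
  refine ⟨M, hMT', hMK, hMne, fun X hXM hXK hXne => ?_⟩
  have hX𝒯 : X ∈ 𝒯 := ⟨hXM.trans hMT', hXK, hXne⟩
  exact le_antisymm hXM (hMmin.2 hX𝒯 hXM)

theorem conj_smul_ne_bot (h : G) (W : Subgroup G) (hW : W ≠ ⊥) : MulAut.conj h • W ≠ ⊥ := by
  intro hb
  apply hW
  rw [← Subgroup.card_eq_one] at hb ⊢
  rwa [card_conj_smul] at hb

/-- Clifford's Theorem for actions on finite abelian groups, first part. Let H and V be subgroups of a finite group with V abelian and H normalizing V, and let A be a normal subgroup of H. If every H-invariant subgroup of V has an H-invariant complement in V, then every A-invariant subgroup of V has an A-invariant complement in V. -/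
theorem result {G : Type*} [Group G] [Finite G] (H A V : Subgroup G) (hVab : IsMulCommutative V) (hHV : H ≤ Subgroup.normalizer (V : Set G)) (hAH : A ≤ H) (hAn : H ≤ Subgroup.normalizer (A : Set G)) (hss : ∀ U : Subgroup G, U ≤ V → H ≤ Subgroup.normalizer (U : Set G) → ∃ W : Subgroup G, W ≤ V ∧ H ≤ Subgroup.normalizer (W : Set G) ∧ U ⊓ W = ⊥ ∧ U ⊔ W = V) (U : Subgroup G) (hUV : U ≤ V) (hAU : A ≤ Subgroup.normalizer (U : Set G)) : ∃ W : Subgroup G, W ≤ V ∧ A ≤ Subgroup.normalizer (W : Set G) ∧ U ⊓ W = ⊥ ∧ U ⊔ W = V := by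
  let MinH : Set (Subgroup G) := {M | M ≤ V ∧ H ≤ Subgroup.normalizer (M : Set G) ∧ M ≠ ⊥ ∧
    ∀ X ≤ M, H ≤ Subgroup.normalizer (X : Set G) → X ≠ ⊥ → X = M}
  let MinA : Set (Subgroup G) := {M | M ≤ V ∧ A ≤ Subgroup.normalizer (M : Set G) ∧ M ≠ ⊥ ∧
    ∀ X ≤ M, A ≤ Subgroup.normalizer (X : Set G) → X ≠ ⊥ → X = M}
  -- Step 1
  have h1 : sSup MinH = V := by
    have hSV : sSup MinH ≤ V := sSup_le (fun M hM => hM.1)
    have hSH : H ≤ Subgroup.normalizer ((sSup MinH : Subgroup G) : Set G) := by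
      apply le_normalizer_sSup
      intro k hk S hS
      rw [conj_smul_eq_of_mem_normalizer (hS.2.1 hk)]
      exact hS
    obtain ⟨T, hTV, hTH, hST, hSTV⟩ := hss (sSup MinH) hSV hSH
    have hTbot : T = ⊥ := by
      by_contra hne
      obtain ⟨M, hMT, hMH, hMne, hMmin⟩ := exists_min_inv H T hTH hne
      have hM : M ∈ MinH := ⟨hMT.trans hTV, hMH, hMne, hMmin⟩
      have : M ≤ sSup MinH ⊓ T := le_inf (le_sSup hM) hMT
      rw [hST] at this
      exact hMne (le_bot_iff.1 this)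
    rw [hTbot, sup_bot_eq] at hSTV
    exact hSTV
  -- conjugating by H preserves A-invariance
  have hconjA : ∀ h ∈ H, ∀ W : Subgroup G, A ≤ Subgroup.normalizer (W : Set G) →
      A ≤ Subgroup.normalizer ((MulAut.conj h • W : Subgroup G) : Set G) := by
    intro h hh W hW a ha
    apply mem_normalizer_of_conj_smul_eq
    have ha' : h⁻¹ * a * h ∈ A := by
      have := (Subgroup.mem_normalizer_iff.1 (hAn (H.inv_mem hh)) a).1 ha
      simpa using this
    have e : a * h = h * (h⁻¹ * a * h) := by group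
    rw [← mul_smul, ← map_mul, e, map_mul, mul_smul, conj_smul_eq_of_mem_normalizer (hW ha')]
  -- Step 2
  have h2 : ∀ M ∈ MinH, M ≤ sSup MinA := by
    rintro M ⟨hMV, hMH, hMne, hMmin⟩
    obtain ⟨W₀, hW₀M, hW₀A, hW₀ne, hW₀min⟩ := exists_min_inv A M (hAH.trans hMH) hMne
    let 𝒥 : Set (Subgroup G) := {X | ∃ h ∈ H, X = MulAut.conj h • W₀}
    have hJM : sSup 𝒥 ≤ M := by
      apply sSup_le
      rintro X ⟨h, hh, rfl⟩
      intro x hx
      rw [mem_conj_smul] at hx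
      have h3 := hW₀M hx
      have := (Subgroup.mem_normalizer_iff.1 (hMH hh) _).1 h3
      have e : h * (h⁻¹ * x * h) * h⁻¹ = x := by group
      rwa [e] at this
    have hJH : H ≤ Subgroup.normalizer ((sSup 𝒥 : Subgroup G) : Set G) := by
      apply le_normalizer_sSup
      rintro k hk S ⟨h, hh, rfl⟩
      exact ⟨k * h, H.mul_mem hk hh, by rw [map_mul, mul_smul]⟩
    have hW₀J : W₀ ≤ sSup 𝒥 := le_sSup ⟨1, H.one_mem, by rw [map_one, one_smul]⟩
    have hJne : sSup 𝒥 ≠ ⊥ := fun hb => hW₀ne (le_bot_iff.1 (hb ▸ hW₀J))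
    have hJeq : sSup 𝒥 = M := hMmin _ hJM hJH hJne
    rw [← hJeq]
    apply sSup_le_sSup
    rintro X ⟨h, hh, rfl⟩
    refine ⟨?_, hconjA h hh W₀ hW₀A, conj_smul_ne_bot h W₀ hW₀ne, ?_⟩
    · exact (le_sSup (show MulAut.conj h • W₀ ∈ 𝒥 from ⟨h, hh, rfl⟩)).trans (hJM.trans hMV)
    · intro X hX hXA hXne
      have hX' : MulAut.conj h⁻¹ • X ≤ W₀ := by
        intro x hx
        rw [mem_conj_smul, inv_inv] at hx
        have := hX hx
        rw [mem_conj_smul] at this
        have e : h⁻¹ * (h * x * h⁻¹) * h = x := by group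
        rwa [e] at this
      have h4 := hW₀min _ hX' (hconjA h⁻¹ (H.inv_mem hh) X hXA) (conj_smul_ne_bot h⁻¹ X hXne)
      rw [← h4, ← mul_smul, ← map_mul, mul_inv_cancel, map_one, one_smul]
  -- Step 3
  have h3 : sSup MinA = V := by
    apply le_antisymm (sSup_le (fun M hM => hM.1))
    rw [← h1]
    exact sSup_le h2
  -- Step 4
  let 𝒲 : Set (Subgroup G) := {W | W ≤ V ∧ A ≤ Subgroup.normalizer (W : Set G) ∧ U ⊓ W = ⊥}
  have hbot : (⊥ : Subgroup G) ∈ 𝒲 := ⟨bot_le, by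
    intro a _
    rw [Subgroup.mem_normalizer_iff]
    intro x
    simp [Subgroup.mem_bot], inf_bot_eq _⟩
  obtain ⟨W, -, hWmax⟩ := (Set.toFinite 𝒲).exists_le_maximal hbot
  obtain ⟨hWV, hWA, hUW⟩ : W ∈ 𝒲 := hWmax.prop
  refine ⟨W, hWV, hWA, hUW, ?_⟩
  by_contra hne
  have hUWV : U ⊔ W ≤ V := sup_le hUV hWV
  -- some minimal A-invariant X is not inside U ⊔ W
  obtain ⟨X, hXmin, hXnot⟩ : ∃ X ∈ MinA, ¬ X ≤ U ⊔ W := by
    by_contra hall
    push Not at hall
    apply hne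
    apply le_antisymm hUWV
    rw [← h3]
    exact sSup_le hall
  obtain ⟨hXV, hXA, hXne, hXmin'⟩ := hXmin
  -- V is abelian
  have hcomm : ∀ x ∈ V, ∀ y ∈ V, x * y = y * x := by
    intro x hx y hy
    exact congrArg Subtype.val (hVab.is_comm.comm (⟨x, hx⟩ : V) ⟨y, hy⟩)
  have hVcent : ∀ Y : Subgroup G, Y ≤ V → V ≤ Subgroup.normalizer (Y : Set G) := by
    intro Y hY v hv
    rw [Subgroup.mem_normalizer_iff]
    intro y
    constructor
    · intro hy
      have : v * y * v⁻¹ = y := by rw [hcomm v hv y (hY hy), mul_inv_cancel_right]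
      rwa [this]
    · intro hy
      have hy' : v * y * v⁻¹ ∈ V := hY hy
      have hyV : y ∈ V := by
        have := V.mul_mem (V.mul_mem (V.inv_mem hv) hy') hv
        simpa [mul_assoc] using this
      have : v * y * v⁻¹ = y := by rw [hcomm v hv y hyV, mul_inv_cancel_right]
      rwa [this] at hy
  have hAUW : A ≤ Subgroup.normalizer ((U ⊔ W : Subgroup G) : Set G) := by
    intro a ha
    apply mem_normalizer_of_conj_smul_eq
    rw [Subgroup.smul_sup, conj_smul_eq_of_mem_normalizer (hAU ha),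
      conj_smul_eq_of_mem_normalizer (hWA ha)]
  have hXUW : X ⊓ (U ⊔ W) = ⊥ := by
    by_contra hb
    have := hXmin' (X ⊓ (U ⊔ W)) inf_le_left (le_normalizer_inf hXA hAUW) hb
    exact hXnot (this ▸ inf_le_right)
  -- W ⊔ X is a bigger member
  have hWX : W ⊔ X ∈ 𝒲 := by
    refine ⟨sup_le hWV hXV, ?_, ?_⟩
    · intro a ha
      apply mem_normalizer_of_conj_smul_eq
      rw [Subgroup.smul_sup, conj_smul_eq_of_mem_normalizer (hWA ha),
        conj_smul_eq_of_mem_normalizer (hXA ha)]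
    · rw [eq_bot_iff]
      rintro u ⟨huU, huWX⟩
      obtain ⟨w, hw, x, hx, rfl⟩ := mem_sup_of_le_normalizer (hXV.trans (hVcent W hWV)) huWX
      have hxUW : x ∈ X ⊓ (U ⊔ W) := by
        refine ⟨hx, ?_⟩
        have : x = w⁻¹ * (w * x) := by group
        rw [this]
        exact Subgroup.mul_mem _ (Subgroup.mem_sup_right (W.inv_mem hw)) (Subgroup.mem_sup_left huU)
      rw [hXUW, Subgroup.mem_bot] at hxUW
      rw [hxUW, mul_one] at huU ⊢
      have : w ∈ U ⊓ W := ⟨huU, hw⟩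
      rwa [hUW] at this
  have hle : W ≤ W ⊔ X := le_sup_left
  have := hWmax.2 hWX hle
  exact hXnot ((le_sup_right.trans this).trans le_sup_right)

end Cfsg.Agent.S3735
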