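import Mathlib
import Cfsg.Statements.S3741
import Cfsg.Agent.Helper1.Basic

set_option autoImplicit false
open Cfsg

namespace Cfsg.Agent.S3741

open scoped commutatorElement

/-- Number of commuting pairs in `A × B`. -/
noncomputable def cnt {G : Type*} [Group G] (A B : Subgroup G) : ℕ :=
  Nat.card {x : A × B // (x.1 : G) * x.2 = x.2 * x.1}

theorem cnt_symm {G : Type*} [Group G] (A B : Subgroup G) : cnt A B = cnt B A := by
  refine Nat.card_congr
    { toFun := fun x => ⟨(x.1.2, x.1.1), x.2.symm⟩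
      invFun := fun x => ⟨(x.1.2, x.1.1), x.2.symm⟩
      left_inv := fun x => rfl
      right_inv := fun x => rfl }

theorem card_comm_eq {G : Type*} [Group G] (B : Subgroup G) (a : G) :
    Nat.card {b : B // a * (b : G) = b * a} = Nat.card ↥(B ⊓ Subgroup.centralizer ({a} : Set G)) := by
  refine Nat.card_congr
    { toFun := fun b => ⟨b.1.1, b.1.2, Subgroup.mem_centralizer_singleton_iff.mpr b.2.symm⟩
      invFun := fun b => ⟨⟨b.1, b.2.1⟩, (Subgroup.mem_centralizer_singleton_iff.mp b.2.2).symm⟩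
      left_inv := fun x => rfl
      right_inv := fun x => rfl }

theorem card_mem_eq {G : Type*} [Group G] (A C : Subgroup G) :
    Nat.card {a : A // (a : G) ∈ C} = Nat.card ↥(A ⊓ C) := by
  refine Nat.card_congr
    { toFun := fun a => ⟨a.1.1, a.1.2, a.2⟩
      invFun := fun a => ⟨⟨a.1, a.2.1⟩, a.2.2⟩
      left_inv := fun x => rfl
      right_inv := fun x => rfl }

theorem key {G : Type*} [Group G] [Finite G] (A B : Subgroup G) (p : ℕ) (hp : 0 < p)
    (h : ∀ a ∈ A, a ∉ Subgroup.centralizer (B : Set G) →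
      p * Nat.card ↥(B ⊓ Subgroup.centralizer ({a} : Set G)) = Nat.card B) :
    p * cnt A B = Nat.card A * Nat.card B +
      (p - 1) * Nat.card B * Nat.card ↥(A ⊓ Subgroup.centralizer (B : Set G)) := by
  classical
  have : Fintype A := Fintype.ofFinite A
  have h1 : cnt A B = ∑ a : A, Nat.card {b : B // (a : G) * (b : G) = b * a} := by
    rw [cnt, Nat.card_congr (Equiv.subtypeProdEquivSigmaSubtype
      (fun (a : A) (b : B) => (a : G) * (b : G) = b * a)), Nat.card_sigma]
  have h2 : ∀ a : A, p * Nat.card {b : B // (a : G) * (b : G) = b * a} =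
      Nat.card B + (p - 1) * Nat.card B * (if (a : G) ∈ Subgroup.centralizer (B : Set G) then 1 else 0) := by
    intro a
    rw [card_comm_eq]
    split_ifs with ha
    · have : B ⊓ Subgroup.centralizer ({(a : G)} : Set G) = B := by
        apply inf_eq_left.mpr
        intro b hb
        rw [Subgroup.mem_centralizer_singleton_iff]
        exact (Subgroup.mem_centralizer_iff.mp ha) b hb
      rw [this, mul_one]
      obtain ⟨q, rfl⟩ : ∃ q, p = q + 1 := ⟨p - 1, by omega⟩
      rw [Nat.add_sub_cancel]; ring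
    · rw [mul_zero, add_zero]
      exact h a a.2 ha
  rw [h1, Finset.mul_sum, Finset.sum_congr rfl (fun a _ => h2 a), Finset.sum_add_distrib,
    Finset.sum_const, ← Finset.mul_sum, Finset.sum_boole, Finset.card_univ, smul_eq_mul,
    ← Nat.card_eq_fintype_card]
  congr 2
  rw [← card_mem_eq, Nat.card_eq_fintype_card, Fintype.card_subtype]
  simp

theorem relIndex_le {G : Type*} [Group G] (a : G) (B Z : Subgroup G) [Finite Z]
    (h : ∀ b ∈ B, ⁅b, a⁆ ∈ Z) :
    (B ⊓ Subgroup.centralizer ({a} : Set G)).relIndex B ≤ Nat.card Z := by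
  rw [Subgroup.relIndex, Subgroup.index]
  let K := (B ⊓ Subgroup.centralizer ({a} : Set G)).subgroupOf B
  let f : (↥B ⧸ K) → ↥Z := fun q => Quotient.liftOn' q (fun b => (⟨⁅(b : G), a⁆, h b b.2⟩ : Z)) (by
    intro b b' hbb'
    rw [QuotientGroup.leftRel_apply] at hbb'
    have hk : ((b⁻¹ * b' : B) : G) ∈ Subgroup.centralizer ({a} : Set G) :=
      (Subgroup.mem_subgroupOf.mp hbb').2
    rw [Subgroup.mem_centralizer_singleton_iff] at hk
    apply Subtype.ext
    change ⁅(b : G), a⁆ = ⁅(b' : G), a⁆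
    rw [commutatorElement_def, commutatorElement_def]
    have e : (b' : G) = b * ((b⁻¹ * b' : B) : G) := by
      push_cast; rw [mul_inv_cancel_left]
    obtain ⟨k, hk', e'⟩ : ∃ k : G, k * a = a * k ∧ (b' : G) = b * k := ⟨_, hk, e⟩
    rw [e', mul_inv_rev]
    calc (b : G) * a * (b : G)⁻¹ * a⁻¹ = (b : G) * (a * k) * (k⁻¹ * (b : G)⁻¹) * a⁻¹ := by group
      _ = (b : G) * k * a * (k⁻¹ * (b : G)⁻¹) * a⁻¹ := by rw [← hk']; group)
  have hf : Function.Injective f := by
    intro q q'
    induction q using Quotient.inductionOn' with | _ b =>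
    induction q' using Quotient.inductionOn' with | _ b' =>
    intro hqq
    have h1 : ⁅(b : G), a⁆ = ⁅(b' : G), a⁆ := congrArg Subtype.val hqq
    apply Quotient.sound'
    rw [QuotientGroup.leftRel_apply, Subgroup.mem_subgroupOf]
    refine ⟨(b⁻¹ * b').2, ?_⟩
    change ((b⁻¹ * b' : B) : G) ∈ Subgroup.centralizer ({a} : Set G)
    rw [Subgroup.mem_centralizer_singleton_iff]
    rw [commutatorElement_def, commutatorElement_def, mul_left_inj] at h1
    push_cast
    have h2 : (b : G) * a * (b : G)⁻¹ = (b' : G) * a * (b' : G)⁻¹ := h1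
    calc (b : G)⁻¹ * b' * a = (b : G)⁻¹ * ((b' : G) * a * (b' : G)⁻¹) * b' := by group
      _ = (b : G)⁻¹ * ((b : G) * a * (b : G)⁻¹) * b' := by rw [h2]
      _ = a * ((b : G)⁻¹ * b') := by group
  exact Nat.card_le_card_of_injective f hf

theorem step {G : Type*} [Group G] [Finite G] {p : ℕ} [Fact p.Prime] (hG : IsPGroup p G) (A B : Subgroup G)
    (hcard : Nat.card ↥⁅A, B⁆ ≤ p) :
    ∀ a ∈ A, a ∉ Subgroup.centralizer (B : Set G) →
      p * Nat.card ↥(B ⊓ Subgroup.centralizer ({a} : Set G)) = Nat.card B := by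
  intro a ha hna
  have hp : p.Prime := Fact.out
  have h1 : (B ⊓ Subgroup.centralizer ({a} : Set G)).relIndex B ≤ p := by
    refine (relIndex_le a B ⁅A, B⁆ ?_).trans hcard
    intro b hb
    rw [← commutatorElement_inv]
    exact Subgroup.inv_mem _ (Subgroup.commutator_mem_commutator ha hb)
  have h2 : (B ⊓ Subgroup.centralizer ({a} : Set G)).relIndex B ∣ Nat.card B := Subgroup.relIndex_dvd_card _ _
  obtain ⟨m, hm⟩ := (hG.to_subgroup B).exists_card_eq
  rw [hm] at h2
  obtain ⟨j, _, hj⟩ := (Nat.dvd_prime_pow hp).mp h2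
  have hj1 : j ≠ 0 := by
    intro hj0
    rw [hj0, pow_zero, Subgroup.relIndex_eq_one] at hj
    apply hna
    rw [Subgroup.mem_centralizer_iff]
    intro b hb
    have this : b ∈ Subgroup.centralizer ({a} : Set G) := (hj hb).2
    rw [Subgroup.mem_centralizer_singleton_iff] at this
    exact this
  have hj2 : j = 1 := by
    by_contra hne
    have : 2 ≤ j := by omega
    have h3 : p ^ 2 ≤ p ^ j := Nat.pow_le_pow_right hp.pos this
    rw [← hj] at h3
    have : p * p ≤ p := by rw [← pow_two]; exact h3.trans h1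
    have := hp.two_le
    nlinarith
  rw [hj2, pow_one] at hj
  rw [← hj]
  exact Cfsg.Agent.Helper1.relIndex_mul_card_of_le inf_le_left

/-- Let A and B be subgroups of a finite p-group with [A, B] ≤ A ∩ B and [A, B] of order at most p. Then |A : C_A(B)| = |B : C_B(A)|. -/
theorem result {G : Type*} [Group G] [Finite G] {p : ℕ} [Fact p.Prime] (hG : IsPGroup p G) (A B : Subgroup G) (hAB : ⁅A, B⁆ ≤ A ⊓ B) (hcard : Nat.card ↥⁅A, B⁆ ≤ p) : (A ⊓ Subgroup.centralizer (B : Set G)).relIndex A = (B ⊓ Subgroup.centralizer (A : Set G)).relIndex B := by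
  have hp : p.Prime := Fact.out
  have hcard' : Nat.card ↥⁅B, A⁆ ≤ p := by rw [Subgroup.commutator_comm]; exact hcard
  have k1 := key A B p hp.pos (step hG A B hcard)
  have k2 := key B A p hp.pos (step hG B A hcard')
  rw [cnt_symm A B, k2] at k1
  have h3 : (p - 1) * (Nat.card A * Nat.card ↥(B ⊓ Subgroup.centralizer (A : Set G))) =
      (p - 1) * (Nat.card B * Nat.card ↥(A ⊓ Subgroup.centralizer (B : Set G))) := by
    have : Nat.card B * Nat.card A = Nat.card A * Nat.card B := mul_comm _ _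
    rw [this] at k1
    have := Nat.add_left_cancel k1
    rw [mul_assoc, mul_assoc] at this
    exact this
  have h4 := Nat.eq_of_mul_eq_mul_left (by have := hp.two_le; omega) h3
  -- unfold via relIndex * card = card
  have eA := Cfsg.Agent.Helper1.relIndex_mul_card_of_le
    (inf_le_left : A ⊓ Subgroup.centralizer (B : Set G) ≤ A)
  have eB := Cfsg.Agent.Helper1.relIndex_mul_card_of_le
    (inf_le_left : B ⊓ Subgroup.centralizer (A : Set G) ≤ B)
  rw [← eA, ← eB] at h4
  have hposA : 0 < Nat.card ↥(A ⊓ Subgroup.centralizer (B : Set G)) := Nat.card_pos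
  have hposB : 0 < Nat.card ↥(B ⊓ Subgroup.centralizer (A : Set G)) := Nat.card_pos
  have h5 : (A ⊓ Subgroup.centralizer (B : Set G)).relIndex A *
      (Nat.card ↥(A ⊓ Subgroup.centralizer (B : Set G)) * Nat.card ↥(B ⊓ Subgroup.centralizer (A : Set G))) =
      (B ⊓ Subgroup.centralizer (A : Set G)).relIndex B *
      (Nat.card ↥(A ⊓ Subgroup.centralizer (B : Set G)) * Nat.card ↥(B ⊓ Subgroup.centralizer (A : Set G))) := by
    nlinarith [h4]
  exact Nat.eq_of_mul_eq_mul_right (Nat.mul_pos hposA hposB) h5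

end Cfsg.Agent.S3741
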