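import Mathlib
import Cfsg.Statements.S3746
import Cfsg.Prelude.Def_Local
import Cfsg.Agent.Helper2.Quasisimple
import Cfsg.Agent.Helper2.Quasisimple2
-- import your own Cfsg.Agent.* helpers here

set_option autoImplicit false
open Cfsg

namespace Cfsg.Agent.S3746
universe u
open scoped commutatorElement
open Cfsg.Agent.Helper2

/-- Let Z ≤ Z(G) be a central subgroup of a finite group G and E a subgroup of G containing Z whose image E/Z is a component of G/Z (subnormal and quasisimple). Then the derived subgroup [E, E] is a component of G. -/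
theorem result {G : Type*} [Group G] [Finite G] (Z : Subgroup G) (hZ : Z ≤ Subgroup.center G) [Z.Normal] (E : Subgroup G) (hZE : Z ≤ E) (hE : Cfsg.IsComponent (E.map (QuotientGroup.mk' Z))) : Cfsg.IsComponent ⁅E, E⁆ := by
  obtain ⟨hsub, hperfQ, hsimp⟩ := hE
  set π := QuotientGroup.mk' Z with hπ
  set D := ⁅E, E⁆ with hD
  have hself : ∀ H : Subgroup G, ⁅H, H⁆ ≤ H := by
    intro H
    rw [Subgroup.commutator_le]
    intro a ha b hb
    rw [commutatorElement_def]
    exact H.mul_mem (H.mul_mem (H.mul_mem ha hb) (H.inv_mem ha)) (H.inv_mem hb)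
  have hDE : D ≤ E := hself E
  -- E is subnormal
  have hEsub : E.IsSubnormal := by
    have h1 : (E.map π).comap π = E :=
      Subgroup.comap_map_eq_self (by rw [hπ, QuotientGroup.ker_mk']; exact hZE)
    rw [← h1]
    exact Subgroup.IsSubnormal.comap π hsub
  -- D is normal in E
  have hDn : (D.subgroupOf E).Normal := by
    have hEn : (E.subgroupOf E).Normal := by
      rw [Subgroup.subgroupOf_self]; infer_instance
    rw [hD]
    refine ⟨fun n hn g => ?_⟩
    rw [Subgroup.mem_subgroupOf] at hn ⊢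
    have : ((g * n * g⁻¹ : E) : G) = (g : G) * n * (g : G)⁻¹ := by simp
    rw [this]
    have hnorm : (⁅E, E⁆).map (MulAut.conj (g : G)).toMonoidHom = ⁅E, E⁆ := by
      rw [Subgroup.map_commutator]
      have hEg : E.map (MulAut.conj (g : G)).toMonoidHom = E := by
        apply le_antisymm
        · rintro _ ⟨x, hx, rfl⟩
          exact E.mul_mem (E.mul_mem g.2 hx) (E.inv_mem g.2)
        · intro x hx
          refine ⟨(g : G)⁻¹ * x * g, E.mul_mem (E.mul_mem (E.inv_mem g.2) hx) g.2, ?_⟩
          simp [MulAut.conj_apply]; group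
      rw [hEg]
    rw [← hnorm]
    exact ⟨n, hn, by simp [MulAut.conj_apply]⟩
  have hDsub : D.IsSubnormal := Subgroup.IsSubnormal.trans hDE hDn.isSubnormal hEsub
  -- D maps onto E/Z
  have hperfQ' : ⁅E.map π, E.map π⁆ = E.map π := Subgroup.isPerfect_iff.mp hperfQ
  have hmap : D.map π = E.map π := by
    rw [hD, Subgroup.map_commutator, hperfQ']
  have hdec : ∀ a ∈ E, ∃ a' ∈ D, ∃ z ∈ Z, a = a' * z := by
    intro a ha
    have h1 : π a ∈ D.map π := by rw [hmap]; exact ⟨a, ha, rfl⟩
    obtain ⟨a', ha', e⟩ := h1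
    refine ⟨a', ha', a'⁻¹ * a, ?_, by group⟩
    exact QuotientGroup.eq.mp e
  have hperfD : ⁅D, D⁆ = D := by
    apply le_antisymm (hself D)
    conv_lhs => rw [hD]
    rw [Subgroup.commutator_le]
    intro a ha b hb
    obtain ⟨a', ha', z1, hz1, rfl⟩ := hdec a ha
    obtain ⟨b', hb', z2, hz2, rfl⟩ := hdec b hb
    rw [commutatorElement_mul_center_left (hZ hz1), commutatorElement_mul_center_right (hZ hz2)]
    exact Subgroup.commutator_mem_commutator ha' hb'
  refine ⟨hDsub, ?_⟩
  let f : D →* ↥(E.map π) :=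
    { toFun := fun d => ⟨π d.1, ⟨d.1, hDE d.2, rfl⟩⟩
      map_one' := by apply Subtype.ext; simp
      map_mul' := by intro a b; apply Subtype.ext; simp }
  apply isQuasisimple_of_central_ext (Subgroup.isPerfect_iff.mpr hperfD) f
  · rintro ⟨q, hq⟩
    rw [← hmap] at hq
    obtain ⟨d, hd, rfl⟩ := hq
    exact ⟨⟨d, hd⟩, rfl⟩
  · intro d hd
    rw [MonoidHom.mem_ker] at hd
    have h1 : π d.1 = 1 := congrArg Subtype.val hd
    have h2 : d.1 ∈ Z := by
      rw [hπ] at h1
      exact (QuotientGroup.eq_one_iff d.1).mp h1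
    rw [Subgroup.mem_center_iff]
    intro g
    apply Subtype.ext
    exact Subgroup.mem_center_iff.mp (hZ h2) g.1
  · exact ⟨hperfQ, hsimp⟩


end Cfsg.Agent.S3746
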