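import Mathlib
import Cfsg.Statements.S3747
import Cfsg.Agent.Helper2.Layer8
import Cfsg.Agent.Helper2.Layer5
-- import your own Cfsg.Agent.* helpers here

set_option autoImplicit false
open Cfsg

namespace Cfsg.Agent.S3747
open Cfsg
universe u
open Cfsg.Agent.Helper2 Cfsg.Agent.Helper1

variable {G : Type u} [Group G]

/-- a central product of centreless components has trivial centre. -/
theorem central_prod_trivial (s : Finset (Subgroup G)) :
    (∀ K ∈ s, Cfsg.IsComponent K) →
    (∀ K ∈ s, ∀ k ∈ K, (∀ x ∈ K, k * x = x * k) → k = 1) →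
    ∀ z ∈ (⨆ K ∈ s, K), (∀ K ∈ s, ∀ x ∈ K, z * x = x * z) → z = 1 := by
  classical
  induction s using Finset.induction_on with
  | empty =>
    intro _ _ z hz _
    simp only [Finset.notMem_empty, iSup_false, iSup_bot, Subgroup.mem_bot] at hz
    exact hz
  | insert L s hLs ih =>
    intro hcomp htriv z hz hcent
    rw [Finset.iSup_insert] at hz
    have hL : Cfsg.IsComponent L := hcomp L (Finset.mem_insert_self L s)
    have hs : ∀ K ∈ s, Cfsg.IsComponent K := fun K hK => hcomp K (Finset.mem_insert_of_mem hK)
    have hE' : (⨆ K ∈ s, K) ≤ Subgroup.centralizer (L : Set G) := by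
      apply iSup₂_le
      intro K hK
      rw [← Subgroup.commutator_eq_bot_iff_le_centralizer, Subgroup.commutator_comm]
      apply components_commute hL (hs K hK)
      rintro rfl
      exact hLs hK
    have hcoe := Subgroup.coe_mul_of_right_le_normalizer_left L (⨆ K ∈ s, K)
      (hE'.trans (Subgroup.centralizer_le_normalizer _))
    have hz' : z ∈ ((L ⊔ ⨆ K ∈ s, K : Subgroup G) : Set G) := hz
    rw [hcoe] at hz'
    obtain ⟨l, hl, e, he, rfl⟩ := hz'
    have hl' : l ∈ L := hl
    have he' : e ∈ ⨆ K ∈ s, K := he
    have heL : ∀ x ∈ L, x * e = e * x := fun x hx =>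
      Subgroup.mem_centralizer_iff.mp (hE' he') x hx
    have hlc : ∀ x ∈ L, l * x = x * l := by
      intro x hx
      have h1 := hcent L (Finset.mem_insert_self L s) x hx
      have h2 := heL x hx
      calc l * x = (l * e * x) * e⁻¹ := by rw [mul_assoc l e x, ← h2]; group
        _ = (x * (l * e)) * e⁻¹ := by rw [h1]
        _ = x * l := by group
    have hl1 : l = 1 := htriv L (Finset.mem_insert_self L s) l hl' hlc
    have he1 : e = 1 := ih hs (fun K hK => htriv K (Finset.mem_insert_of_mem hK)) e he' (by
      intro K hK x hx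
      have h1 := hcent K (Finset.mem_insert_of_mem hK) x hx
      simp only [hl1, one_mul] at h1
      exact h1)
    simp only [hl1, he1, one_mul]

theorem partA [Finite G] (K : Subgroup G) (hK : Cfsg.IsComponent K)
    (hZ : Subgroup.center ↥K = ⊥) :
    Subgroup.normalClosure (K : Set G) ≠ ⊥ ∧ ∀ N : Subgroup G, N.Normal →
      N ≤ Subgroup.normalClosure (K : Set G) →
      N = ⊥ ∨ N = Subgroup.normalClosure (K : Set G) := by
  classical
  have hKN : K ≤ Subgroup.normalClosure (K : Set G) := Subgroup.le_normalClosure
  refine ⟨?_, ?_⟩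
  · intro h
    apply component_ne_bot hK
    rw [eq_bot_iff, ← h]; exact hKN
  · intro M hMn hMN
    rcases component_le_or_commutator_eq_bot K M hK
      (by rw [Subgroup.normalizer_eq_top]; exact le_top) with h | h
    · right
      exact le_antisymm hMN (Subgroup.normalClosure_le_normal h)
    · left
      -- the family of conjugates
      set s := (Set.toFinite {K' : Subgroup G | ∃ g : G, K' = cj g K}).toFinset with hs
      have hmem : ∀ K', K' ∈ s ↔ ∃ g : G, K' = cj g K := by
        intro K'; rw [hs, Set.Finite.mem_toFinset]; rfl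
      set T := ⨆ K' ∈ s, K' with hT
      have hTn : T.Normal := by
        constructor
        intro x hx g
        have h1 : cj g T ≤ T := by
          rw [hT]
          simp only [cj, Subgroup.map_iSup]
          apply iSup₂_le
          intro K' hK'
          obtain ⟨a, rfl⟩ := (hmem K').1 hK'
          have : cj g (cj a K) ∈ s := (hmem _).2 ⟨g * a, cj_cj K g a⟩
          exact le_iSup₂_of_le (cj g (cj a K)) this le_rfl
        exact h1 (conj_mem_cj T g x hx)
      have hKT : K ≤ T :=
        le_iSup₂_of_le K ((hmem K).2 ⟨1, (cj_one K).symm⟩) le_rfl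
      have hNT : Subgroup.normalClosure (K : Set G) ≤ T := Subgroup.normalClosure_le_normal hKT
      rw [eq_bot_iff]
      intro z hz
      rw [Subgroup.mem_bot]
      apply central_prod_trivial s
      · intro K' hK'
        obtain ⟨a, rfl⟩ := (hmem K').1 hK'
        exact isComponent_cj hK a
      · intro K' hK' k hk hkc
        obtain ⟨a, rfl⟩ := (hmem K').1 hK'
        rw [mem_cj_iff] at hk
        have h1 : (⟨a⁻¹ * k * a, hk⟩ : ↥K) ∈ Subgroup.center ↥K := by
          rw [Subgroup.mem_center_iff]
          intro y
          apply Subtype.ext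
          have h2 := hkc (a * y * a⁻¹) (conj_mem_cj K a y y.2)
          show (y : G) * (a⁻¹ * k * a) = a⁻¹ * k * a * y
          have e1 : (y : G) * (a⁻¹ * k * a) = a⁻¹ * ((a * y * a⁻¹) * k) * a := by group
          have e2 : a⁻¹ * k * a * (y : G) = a⁻¹ * (k * (a * y * a⁻¹)) * a := by group
          rw [e1, e2, h2]
        rw [hZ, Subgroup.mem_bot] at h1
        have h3 : a⁻¹ * k * a = 1 := congrArg Subtype.val h1
        have : k = a * (a⁻¹ * k * a) * a⁻¹ := by group
        rw [this, h3]; group
      · exact hNT (hMN hz)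
      · intro K' hK' x hx
        obtain ⟨a, rfl⟩ := (hmem K').1 hK'
        rw [mem_cj_iff] at hx
        -- `a⁻¹ z a ∈ M` commutes with `a⁻¹ x a ∈ K`
        rw [Subgroup.commutator_eq_bot_iff_le_centralizer] at h
        have h1 : a⁻¹ * z * a ∈ M := by
          have := hMn.conj_mem z hz a⁻¹
          rwa [inv_inv] at this
        have h2 := Subgroup.mem_centralizer_iff.mp (h hx) (a⁻¹ * z * a) h1
        have e1 : z * x = a * ((a⁻¹ * z * a) * (a⁻¹ * x * a)) * a⁻¹ := by group
        have e2 : x * z = a * ((a⁻¹ * x * a) * (a⁻¹ * z * a)) * a⁻¹ := by group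
        rw [e1, e2, h2]

theorem center_component_eq_bot [Finite G] (hF : Cfsg.fittingSubgroup G = ⊥) (K : Subgroup G)
    (hK : Cfsg.IsComponent K) : Subgroup.center ↥K = ⊥ := by
  have hsn : ((Subgroup.center ↥K).map K.subtype).IsSubnormal :=
    (inferInstance : (Subgroup.center ↥K).Normal).isSubnormal.trans' hK.1
  have hnil : Group.IsNilpotent ↥((Subgroup.center ↥K).map K.subtype) := by
    have h1 : Group.IsNilpotent ↥(Subgroup.center ↥K) := by
      open scoped IsMulCommutative in infer_instance
    exact isNilpotent_of_mulEquiv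
      ((Subgroup.center ↥K).equivMapOfInjective K.subtype K.subtype_injective) h1
  have h2 := le_fittingSubgroup_of_subnormal_nilpotent _ hsn hnil
  rw [hF, le_bot_iff] at h2
  exact (Subgroup.map_eq_bot_iff_of_injective _ K.subtype_injective).1 h2

/-- Let G be a finite group. (a) If K is a component of G with trivial centre, then the normal closure of K in G is a minimal normal subgroup of G. (b) If the Fitting subgroup of G is trivial, then the layer E(G) is generated by the minimal normal subgroups of G. -/
theorem result {G : Type*} [Group G] [Finite G] : (∀ K : Subgroup G, Cfsg.IsComponent K → Subgroup.center ↥K = ⊥ → (Subgroup.normalClosure (K : Set G) ≠ ⊥ ∧ ∀ N : Subgroup G, N.Normal → N ≤ Subgroup.normalClosure (K : Set G) → N = ⊥ ∨ N = Subgroup.normalClosure (K : Set G))) ∧ (Cfsg.fittingSubgroup G = ⊥ → sSup {N : Subgroup G | N ≠ ⊥ ∧ N.Normal ∧ ∀ N' : Subgroup G, N'.Normal → N' ≤ N → N' = ⊥ ∨ N' = N} = Cfsg.layer G) := by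
  refine ⟨fun K hK hZ => partA K hK hZ, ?_⟩
  intro hF
  have hFL : Cfsg.generalizedFittingSubgroup G = Cfsg.layer G := by
    unfold Cfsg.generalizedFittingSubgroup
    rw [hF, sup_bot_eq]
  apply le_antisymm
  · apply sSup_le
    rintro N ⟨hN1, hNn, hNmin⟩
    have h := genFitting_inf_normal N
    have hn : (Cfsg.generalizedFittingSubgroup G ⊓ N).Normal := inferInstance
    rcases hNmin _ hn inf_le_right with h1 | h1
    · exfalso
      rw [h1] at h
      have h2 : Cfsg.generalizedFittingSubgroup ↥N = ⊥ :=
        (Subgroup.map_eq_bot_iff_of_injective _ N.subtype_injective).1 h.symm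
      have h3 := centralizer_generalizedFittingSubgroup_le (G := ↥N)
      rw [h2] at h3
      apply hN1
      rw [eq_bot_iff]
      intro x hx
      have h4 : (⟨x, hx⟩ : ↥N) ∈ Subgroup.centralizer (((⊥ : Subgroup ↥N) : Subgroup ↥N) : Set ↥N) := by
        rw [Subgroup.mem_centralizer_iff]
        intro y hy
        have : y = 1 := hy
        rw [this, one_mul, mul_one]
      have h5 := h3 h4
      rw [Subgroup.mem_bot] at h5 ⊢
      exact congrArg Subtype.val h5
    · rw [← hFL, ← h1]; exact inf_le_left
  · apply sSup_le
    intro K hK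
    have hZ := center_component_eq_bot hF K hK
    obtain ⟨hne, hmin⟩ := partA K hK hZ
    exact (Subgroup.le_normalClosure).trans
      (le_sSup ⟨hne, Subgroup.normalClosure_normal, hmin⟩)


end Cfsg.Agent.S3747
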