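import Mathlib
import Cfsg.Statements.S3748
import Cfsg.Agent.Helper3.Wielandt
import Cfsg.Agent.Helper1.Fitting
import Cfsg.Agent.Helper4.MaxSolvable

set_option autoImplicit false
open Cfsg

namespace Cfsg.Agent.S3748

open scoped Pointwise
open Cfsg.Agent.Helper1 Cfsg.Agent.Helper3

theorem conj_smul_iSup_le {G : Type*} [Group G] {ι : Sort*} (K : ι → Subgroup G) (a : G)
    (h : ∀ i, ∃ j, MulAut.conj a • K i = K j) : MulAut.conj a • (⨆ i, K i) ≤ ⨆ i, K i := by
  rw [Subgroup.pointwise_smul_subset_iff]
  apply iSup_le
  intro i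
  rw [← Subgroup.pointwise_smul_subset_iff]
  obtain ⟨j, hj⟩ := h i
  rw [hj]
  exact le_iSup K j

theorem mem_normalizer_iSup {G : Type*} [Group G] [Finite G] {ι : Sort*} (K : ι → Subgroup G)
    (a : G) (h : ∀ i, ∃ j, MulAut.conj a • K i = K j) :
    a ∈ Subgroup.normalizer ((⨆ i, K i : Subgroup G) : Set G) := by
  apply mem_normalizer_of_conj_smul_eq
  apply Subgroup.eq_of_le_of_card_ge (conj_smul_iSup_le K a h)
  rw [card_conj_smul']

/-- Call a proper subgroup M of G primitive when M = N_G(N) for every non-trivial normal subgroup N of M. If M is a primitive subgroup of the finite group G, then no non-trivial subnormal subgroup of G is contained in M; in particular M ∩ F(G) = 1. -/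
theorem result {G : Type*} [Group G] [Finite G] (M : Subgroup G) (hM : M ≠ ⊤) (hprim : ∀ N : Subgroup G, N ≤ M → M ≤ Subgroup.normalizer (N : Set G) → N ≠ ⊥ → Subgroup.normalizer (N : Set G) = M) : (∀ L : Subgroup G, L.IsSubnormal → L ≤ M → L = ⊥) ∧ M ⊓ Cfsg.fittingSubgroup G = ⊥ := by
  have hnormal_absurd : ∀ A : Subgroup G, A.Normal → A ≤ M → A ≠ ⊥ → False := by
    intro A hAn hAM hA1
    have h1 : Subgroup.normalizer (A : Set G) = ⊤ := Subgroup.normalizer_eq_top_iff.2 hAn
    have h2 := hprim A hAM (by rw [h1]; exact le_top) hA1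
    exact hM (h2 ▸ h1)
  constructor
  · intro L hL hLM
    by_contra hL1
    have hnt : Nontrivial G := by
      by_contra h
      rw [not_nontrivial_iff_subsingleton] at h
      apply hL1
      rw [eq_bot_iff]
      intro x _
      rw [Subgroup.mem_bot]
      exact Subsingleton.elim x 1
    obtain ⟨A, hAn, hA1, hAmin⟩ := Helper4.exists_minimal_normal (G := G)
    have hA : IsMinNormal A := ⟨hAn, hA1, hAmin⟩
    set K : M → Subgroup G := fun m => MulAut.conj (m : G) • L with hK
    set LM := ⨆ m, K m with hLMdef
    have hKle : ∀ m : M, K m ≤ M := by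
      intro m x hx
      rw [hK, Subgroup.mem_pointwise_smul_iff_inv_smul_mem, MulAut.smul_def,
        MulAut.conj_inv_apply] at hx
      have : x = (m : G) * ((m : G)⁻¹ * x * m) * (m : G)⁻¹ := by group
      rw [this]
      exact M.mul_mem (M.mul_mem m.2 (hLM hx)) (M.inv_mem m.2)
    have hLMle : LM ≤ M := iSup_le hKle
    have hLLM : L ≤ LM := by
      have : K 1 = L := by
        rw [hK]; simp
      rw [← this]
      exact le_iSup K 1
    have hLM1 : LM ≠ ⊥ := by
      intro h
      apply hL1
      rw [eq_bot_iff, ← h]; exact hLLM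
    have hMnorm : M ≤ Subgroup.normalizer (LM : Set G) := by
      intro m hm
      apply mem_normalizer_iSup K m
      intro i
      refine ⟨⟨m, hm⟩ * i, ?_⟩
      rw [hK]
      simp only [Subgroup.coe_mul, map_mul, mul_smul]
    have hAnorm : A ≤ Subgroup.normalizer (LM : Set G) := by
      intro a ha
      apply mem_normalizer_iSup K a
      intro i
      refine ⟨i, ?_⟩
      have hsub : (K i).IsSubnormal := hL.smul (MulAut.conj (i : G))
      exact conj_smul_eq_of_mem_normalizer (hA.le_normalizer_of_isSubnormal hsub ha)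
    have hNM := hprim LM hLMle hMnorm hLM1
    rw [hNM] at hAnorm
    exact hnormal_absurd A hAn hAnorm hA1
  · by_contra hD1
    set F := Cfsg.fittingSubgroup G with hF
    set D := M ⊓ F with hD
    have hFn : F.Normal := inferInstance
    have hMD : M ≤ Subgroup.normalizer (D : Set G) := by
      apply le_normalizer_inf Subgroup.le_normalizer
      rw [Subgroup.normalizer_eq_top_iff.2 hFn]; exact le_top
    have hND := hprim D inf_le_left hMD hD1
    have hnil : Group.IsNilpotent F := fittingSubgroup_isNilpotent
    have hcond := Group.normalizerCondition_of_isNilpotent (G := F)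
    have hDF : D ≤ F := inf_le_right
    have hnormF : Subgroup.normalizer ((D.subgroupOf F : Subgroup F) : Set F) = D.subgroupOf F := by
      rw [← Subgroup.subgroupOf_normalizer_eq hDF, hND, hD, Subgroup.inf_subgroupOf_right]
    have htop : D.subgroupOf F = ⊤ := by
      by_contra hne
      have := hcond (D.subgroupOf F) (lt_top_iff_ne_top.2 hne)
      rw [hnormF] at this
      exact lt_irrefl _ this
    rw [Subgroup.subgroupOf_eq_top] at htop
    have hFM : F ≤ M := htop.trans inf_le_left
    have hF1 : F ≠ ⊥ := by
      intro h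
      apply hD1
      rw [eq_bot_iff, ← h]; exact hDF
    exact hnormal_absurd F hFn hFM hF1

end Cfsg.Agent.S3748
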