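import Mathlib
import Cfsg.Statements.S3749
import Cfsg.Prelude.Def_Solvable
import Cfsg.Agent.Helper1.SylowInt
import Cfsg.Agent.Helper5.Cores
import Cfsg.Agent.Helper4.PCore
-- import your own Cfsg.Agent.* helpers here

set_option autoImplicit false
open Cfsg

namespace Cfsg.Agent.S3749
universe u
open scoped Pointwise
open Cfsg.Agent.Helper1

/-- Call a proper subgroup M of G primitive when M = N_G(N) for every non-trivial normal subgroup N of M. Let M be a primitive subgroup of the finite group G, p a prime with O_p(M) ≠ 1, and N a normal subgroup of G with M ∩ N = 1. Then p does not divide the order of N; for every prime q there is exactly one Sylow q-subgroup of N normalized by M; and if the order of N has at least two prime divisors then M is not a maximal subgroup of G. -/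
theorem result {G : Type*} [Group G] [Finite G] (M : Subgroup G) (hM : M ≠ ⊤) (hprim : ∀ N : Subgroup G, N ≤ M → M ≤ Subgroup.normalizer (N : Set G) → N ≠ ⊥ → Subgroup.normalizer (N : Set G) = M) {p : ℕ} [Fact p.Prime] (hOp : Cfsg.pCore p ↥M ≠ ⊥) (N : Subgroup G) [N.Normal] (hMN : M ⊓ N = ⊥) : ¬ p ∣ Nat.card N ∧ (∀ q : ℕ, [Fact q.Prime] → ∃! Q : Sylow q ↥N, M ≤ Subgroup.normalizer ((Q : Subgroup ↥N).map N.subtype : Set G)) ∧ ((∃ q r : ℕ, q.Prime ∧ r.Prime ∧ q ≠ r ∧ q ∣ Nat.card N ∧ r ∣ Nat.card N) → ¬ IsCoatom M) := by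
  classical
  have hp : p.Prime := Fact.out
  have hNn : N.Normal := inferInstance
  set R := (Cfsg.pCore p ↥M).map M.subtype with hR
  have hRM : R ≤ M := Subgroup.map_subtype_le _
  have hR1 : R ≠ ⊥ := by
    intro h
    apply hOp
    rw [eq_bot_iff]
    intro x hx
    have : (x : G) ∈ R := Subgroup.mem_map_of_mem _ hx
    rw [h, Subgroup.mem_bot] at this
    rw [Subgroup.mem_bot]
    exact Subtype.ext this
  have hMR : M ≤ Subgroup.normalizer (R : Set G) := by
    have hn : (Cfsg.pCore p ↥M).Normal := Cfsg.Agent.Helper4.pCore_normal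
    have h1 := Subgroup.le_normalizer_map (H := Cfsg.pCore p ↥M) M.subtype
    rw [Subgroup.normalizer_eq_top, ← MonoidHom.range_eq_map, Subgroup.range_subtype] at h1
    exact h1
  have hNR : Subgroup.normalizer (R : Set G) = M := hprim R hRM hMR hR1
  have hRp : IsPGroup p R := (Cfsg.Agent.Helper5.isPGroup_pCore p).map _
  have hCR : N ⊓ Subgroup.centralizer (R : Set G) = ⊥ := by
    rw [eq_bot_iff, ← hMN]
    intro n hn
    refine Subgroup.mem_inf.2 ⟨?_, hn.1⟩
    rw [← hNR]
    exact Subgroup.centralizer_le_normalizer (R : Set G) hn.2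
  -- (a)
  have hpN : ¬ p ∣ Nat.card N := by
    let φ : ↥R →* MulAut ↥N := (MulAut.conjNormal (H := N)).comp R.subtype
    let _ : MulAction ↥R ↥N := MulAction.compHom ↥N φ
    have hsmul : ∀ (r : ↥R) (n : ↥N), ((r • n : ↥N) : G) = (r : G) * n * (r : G)⁻¹ := fun r n => rfl
    have h1 := hRp.card_modEq_card_fixedPoints ↥N
    have h2 : Nat.card (MulAction.fixedPoints ↥R ↥N) = 1 := by
      rw [Nat.card_eq_one_iff_unique]
      refine ⟨⟨?_⟩, ⟨⟨1, ?_⟩⟩⟩
      · rintro ⟨a, ha⟩ ⟨b, hb⟩
        have key : ∀ n : ↥N, n ∈ MulAction.fixedPoints ↥R ↥N → n = 1 := by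
          intro n hn
          rw [MulAction.mem_fixedPoints] at hn
          have : (n : G) ∈ N ⊓ Subgroup.centralizer (R : Set G) := by
            refine Subgroup.mem_inf.2 ⟨n.2, ?_⟩
            rw [Subgroup.mem_centralizer_iff]
            intro r hr
            have := congrArg Subtype.val (hn ⟨r, hr⟩)
            rw [hsmul] at this
            have h3 := congrArg (fun t => t * r) this
            simpa [mul_assoc] using h3
          rw [hCR, Subgroup.mem_bot] at this
          exact Subtype.ext this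
        apply Subtype.ext
        show a = b
        rw [key a ha, key b hb]
      · rw [MulAction.mem_fixedPoints]
        intro r
        apply Subtype.ext
        rw [hsmul]; simp
    rw [h2] at h1
    intro hdvd
    have h3 : Nat.card N % p = 0 := Nat.mod_eq_zero_of_dvd hdvd
    have h4 : 1 % p = 1 := Nat.mod_eq_of_lt hp.one_lt
    have : Nat.card N % p = 1 % p := h1
    omega
  have hcop : (Nat.card R).Coprime (Nat.card N) := by
    obtain ⟨k, hk⟩ := IsPGroup.iff_card.1 hRp
    rw [hk]
    exact Nat.Coprime.pow_left k ((Nat.Prime.coprime_iff_not_dvd hp).2 hpN)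
  have hRN : R ≤ Subgroup.normalizer (N : Set G) := by
    rw [Subgroup.normalizer_eq_top]; exact le_top
  have hRnil : Group.IsNilpotent R := hRp.isNilpotent
  have hsolv : Group.IsSolvable R ∨ Group.IsSolvable N := Or.inl inferInstance
  -- (b)
  have hb : ∀ q : ℕ, [Fact q.Prime] → ∃ Q : Sylow q ↥N,
      M ≤ Subgroup.normalizer ((Q : Subgroup ↥N).map N.subtype : Set G) ∧
      ∀ Q' : Sylow q ↥N, R ≤ Subgroup.normalizer ((Q' : Subgroup ↥N).map N.subtype : Set G) → Q' = Q := by
    intro q _
    obtain ⟨Q, hQ⟩ := exists_invariant_sylow (p := q) R N hRN hcop hsolv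
    have huniq : ∀ Q' : Sylow q ↥N,
        R ≤ Subgroup.normalizer ((Q' : Subgroup ↥N).map N.subtype : Set G) → Q' = Q := by
      intro Q' hQ'
      obtain ⟨c, hc, hcQ⟩ := invariant_sylow_conj R N hRN hcop hsolv Q' Q hQ' hQ
      have hc1 : c = 1 := by
        have : (c : G) ∈ N ⊓ Subgroup.centralizer (R : Set G) := Subgroup.mem_inf.2 ⟨c.2, hc⟩
        rw [hCR, Subgroup.mem_bot] at this
        exact Subtype.ext this
      rw [hc1, map_one, one_smul] at hcQ
      exact hcQ
    refine ⟨Q, ?_, huniq⟩
    intro m hm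
    have hmN : m ∈ Subgroup.normalizer (N : Set G) := by
      rw [Subgroup.normalizer_eq_top]; exact Subgroup.mem_top m
    obtain ⟨Q', hQ'⟩ := exists_sylow_map_eq_conj N Q m hmN
    have hQ'R : R ≤ Subgroup.normalizer ((Q' : Subgroup ↥N).map N.subtype : Set G) := by
      intro r hr
      apply mem_normalizer_of_conj_smul_eq
      rw [hQ', ← mul_smul, ← map_mul]
      have h1 : r * m = m * (m⁻¹ * r * m) := by group
      have h2 : m⁻¹ * r * m ∈ R := by
        have := (Subgroup.mem_normalizer_iff.1 (hMR (M.inv_mem hm)) r).1 hr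
        simpa using this
      rw [h1, map_mul, mul_smul, conj_smul_eq_of_mem_normalizer (hQ h2)]
    have := huniq Q' hQ'R
    rw [this] at hQ'
    exact mem_normalizer_of_conj_smul_eq hQ'.symm
  refine ⟨hpN, ?_, ?_⟩
  · intro q _
    obtain ⟨Q, hQM, huniq⟩ := hb q
    exact ⟨Q, hQM, fun Q' hQ' => huniq Q' (hRM.trans hQ')⟩
  · rintro ⟨q, r, hq, hr, hqr, hqN, hrN⟩ hco
    have : Fact q.Prime := ⟨hq⟩
    obtain ⟨Q, hQM, -⟩ := hb q
    set QG := (Q : Subgroup ↥N).map N.subtype with hQG
    have hQGN : QG ≤ N := Subgroup.map_subtype_le _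
    have hQGcard : Nat.card QG = q ^ (Nat.card N).factorization q := by
      rw [hQG, Subgroup.card_map_of_injective N.subtype_injective, Q.card_eq_multiplicity]
    have hdis : M ⊓ QG = ⊥ := by
      rw [eq_bot_iff, ← hMN]
      exact inf_le_inf_left _ hQGN
    have hfac : 0 < (Nat.card N).factorization q :=
      hq.factorization_pos_of_dvd Nat.card_pos.ne' hqN
    have hQG1 : QG ≠ ⊥ := by
      intro h
      rw [h, Subgroup.card_bot] at hQGcard
      have := Nat.one_lt_pow hfac.ne' hq.one_lt
      omega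
    have hlt : M < M ⊔ QG := by
      refine lt_of_le_of_ne le_sup_left ?_
      intro h
      have : QG ≤ M := by rw [h]; exact le_sup_right
      apply hQG1
      rw [eq_bot_iff, ← hdis]
      exact le_inf this le_rfl
    have htop := hco.2 _ hlt
    have hc1 := card_sup_of_le_normalizer (N := QG) (A := M) hQM hdis
    have hc2 := card_sup_of_le_normalizer (N := N) (A := M)
      (by rw [Subgroup.normalizer_eq_top]; exact le_top) hMN
    rw [sup_comm, htop, Subgroup.card_top] at hc1
    have hc3 : Nat.card (N ⊔ M : Subgroup G) ≤ Nat.card G := Subgroup.card_le_card_group _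
    rw [hc2, hc1] at hc3
    have hc4 : Nat.card N ≤ Nat.card QG := Nat.le_of_mul_le_mul_left hc3 Nat.card_pos
    have hc5 : Nat.card QG = Nat.card N :=
      le_antisymm (Subgroup.card_le_of_le hQGN) hc4
    -- then N is a q-group, contradiction with r ∣ |N|
    rw [hQGcard] at hc5
    rw [← hc5] at hrN
    have := (Nat.prime_dvd_prime_iff_eq hr hq).1 (hr.dvd_of_dvd_pow hrN)
    exact hqr this.symm

end Cfsg.Agent.S3749
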