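import Mathlib
import Cfsg.Statements.S3750
import Cfsg.Agent.Helper2.Layer8
import Cfsg.Agent.Helper2.Layer4
-- import your own Cfsg.Agent.* helpers here

set_option autoImplicit false
open Cfsg

namespace Cfsg.Agent.S3750
open Cfsg
universe u
open Cfsg.Agent.Helper2 Cfsg.Agent.Helper1

/-- Call a proper subgroup M of G primitive when M = N_G(N) for every non-trivial normal subgroup N of M. Let M be a primitive subgroup of the finite group G and N a normal subgroup of G with M ∩ F*(N) ≠ 1. Then F(G) = 1 and F*(N) = F*(G) = E(G); in particular every minimal normal subgroup of G is contained in N. -/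
theorem result {G : Type*} [Group G] [Finite G] (M : Subgroup G) (hM : M ≠ ⊤) (hprim : ∀ N : Subgroup G, N ≤ M → M ≤ Subgroup.normalizer (N : Set G) → N ≠ ⊥ → Subgroup.normalizer (N : Set G) = M) (N : Subgroup G) [N.Normal] (hMF : M ⊓ (Cfsg.generalizedFittingSubgroup ↥N).map N.subtype ≠ ⊥) : Cfsg.fittingSubgroup G = ⊥ ∧ (Cfsg.generalizedFittingSubgroup ↥N).map N.subtype = Cfsg.generalizedFittingSubgroup G ∧ Cfsg.generalizedFittingSubgroup G = Cfsg.layer G ∧ ∀ K : Subgroup G, K.Normal → K ≠ ⊥ → (∀ K' : Subgroup G, K'.Normal → K' ≤ K → K' = ⊥ ∨ K' = K) → K ≤ N := by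
  have hL : (Cfsg.generalizedFittingSubgroup ↥N).map N.subtype =
      Cfsg.generalizedFittingSubgroup G ⊓ N := (genFitting_inf_normal N).symm
  rw [hL] at hMF ⊢
  have hFsn : (Cfsg.generalizedFittingSubgroup G).Normal := inferInstance
  have hLn : (Cfsg.generalizedFittingSubgroup G ⊓ N).Normal := inferInstance
  set L := Cfsg.generalizedFittingSubgroup G ⊓ N with hLdef
  -- any normal subgroup inside M is trivial
  have hnormal_bot : ∀ X : Subgroup G, X.Normal → X ≤ M → X = ⊥ := by
    intro X hX hXM
    by_contra hne
    have := hprim X hXM (by rw [Subgroup.normalizer_eq_top]; exact le_top) hne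
    rw [Subgroup.normalizer_eq_top] at this
    exact hM this.symm
  have hD : Subgroup.normalizer ((M ⊓ L : Subgroup G) : Set G) = M := by
    apply hprim _ inf_le_left _ hMF
    intro m hm
    rw [Subgroup.mem_normalizer_iff]
    intro x
    constructor
    · rintro ⟨h1, h2⟩
      exact ⟨M.mul_mem (M.mul_mem hm h1) (M.inv_mem hm), hLn.conj_mem x h2 m⟩
    · rintro ⟨h1, h2⟩
      refine ⟨?_, ?_⟩
      · have : x = m⁻¹ * (m * x * m⁻¹) * m := by group
        rw [this]; exact M.mul_mem (M.mul_mem (M.inv_mem hm) h1) hm
      · have : x = m⁻¹ * (m * x * m⁻¹) * m⁻¹⁻¹ := by group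
        rw [this]; exact hLn.conj_mem _ h2 m⁻¹
  have hC : Subgroup.centralizer (L : Set G) = ⊥ := by
    apply hnormal_bot _ Subgroup.normal_centralizer
    calc Subgroup.centralizer (L : Set G)
        ≤ Subgroup.centralizer ((M ⊓ L : Subgroup G) : Set G) :=
          Subgroup.centralizer_le (by intro x hx; exact hx.2)
      _ ≤ Subgroup.normalizer ((M ⊓ L : Subgroup G) : Set G) :=
          Subgroup.centralizer_le_normalizer _
      _ = M := hD
  -- F(G) = ⊥
  have hF : Cfsg.fittingSubgroup G = ⊥ := by
    by_contra hne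
    have hnt : Nontrivial ↥(Cfsg.fittingSubgroup G) :=
      (Subgroup.nontrivial_iff_ne_bot _).2 hne
    have hnil : Group.IsNilpotent ↥(Cfsg.fittingSubgroup G) := fittingSubgroup_isNilpotent
    have hcen := Group.IsNilpotent.center_ne_bot (G := ↥(Cfsg.fittingSubgroup G))
    obtain ⟨⟨z, hz⟩, hz1⟩ := (Subgroup.ne_bot_iff_exists_ne_one).1 hcen
    have hzC : (z : G) ∈ Subgroup.centralizer (L : Set G) := by
      have hle : Cfsg.generalizedFittingSubgroup G ≤ Subgroup.centralizer ({(z : G)} : Set G) := by
        apply sup_le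
        · intro x hx
          rw [Subgroup.mem_centralizer_iff]
          intro y hy
          rw [Set.mem_singleton_iff] at hy
          subst hy
          exact (layer_commute_fitting hx z.2).symm
        · intro x hx
          rw [Subgroup.mem_centralizer_iff]
          intro y hy
          rw [Set.mem_singleton_iff] at hy
          subst hy
          have := Subgroup.mem_center_iff.mp hz ⟨x, hx⟩
          exact (congrArg Subtype.val this).symm
      rw [Subgroup.mem_centralizer_iff]
      intro y hy
      have := Subgroup.mem_centralizer_iff.mp (hle hy.1) (z : G) rfl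
      exact this.symm
    rw [hC, Subgroup.mem_bot] at hzC
    exact hz1 (Subtype.ext (Subtype.ext hzC))
  have hFL : Cfsg.generalizedFittingSubgroup G = Cfsg.layer G := by
    unfold Cfsg.generalizedFittingSubgroup
    rw [hF, sup_bot_eq]
  have hCN : Subgroup.centralizer (N : Set G) = ⊥ := by
    rw [eq_bot_iff, ← hC]
    exact Subgroup.centralizer_le (by intro x hx; exact hx.2)
  have hlayerN : Cfsg.layer G ≤ N := by
    apply sSup_le
    intro K hK
    rcases component_le_or_commutator_eq_bot K N hK
      (by rw [Subgroup.normalizer_eq_top]; exact le_top) with h | h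
    · exact h
    · exfalso
      rw [Subgroup.commutator_eq_bot_iff_le_centralizer, hCN] at h
      exact component_ne_bot hK (le_bot_iff.mp h)
  refine ⟨hF, ?_, hFL, ?_⟩
  · rw [hLdef, hFL]
    exact inf_eq_left.mpr hlayerN
  · intro K hKn hK1 hmin
    have hKNn : (K ⊓ N).Normal := inferInstance
    rcases hmin (K ⊓ N) hKNn inf_le_left with h | h
    · exfalso
      have h2 : ⁅K, N⁆ = ⊥ := by
        rw [eq_bot_iff, ← h]
        exact le_inf (Subgroup.commutator_le_left K N) (Subgroup.commutator_le_right K N)
      rw [Subgroup.commutator_eq_bot_iff_le_centralizer, hCN] at h2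
      exact hK1 (le_bot_iff.mp h2)
    · rw [← h]; exact inf_le_right


end Cfsg.Agent.S3750
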