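import Mathlib
import Cfsg.Statements.S3751
import Cfsg.Agent.Helper1.FrattiniAct
import Cfsg.Agent.Helper1.Coprime
import Cfsg.Agent.Helper5.CharP2
import Cfsg.Agent.Helper5.CharP
import Cfsg.Agent.Helper2.Component
import Cfsg.Prelude.Def_LocalEven
-- import your own Cfsg.Agent.* helpers here

set_option autoImplicit false
open Cfsg

namespace Cfsg.Agent.S3751
open Cfsg
universe u
open Cfsg.Agent.Helper1 Cfsg.Agent.Helper5
open scoped Pointwise

variable {G : Type u} [Group G]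

/-- `p`-local subgroups. -/
def IsLoc (p : ℕ) (M : Subgroup G) : Prop :=
  ∃ T : Subgroup G, IsPGroup p T ∧ T ≠ ⊥ ∧ M = Subgroup.normalizer (T : Set G)

/-- maximal `p`-local subgroups. -/
def IsMaxLoc (p : ℕ) (M : Subgroup G) : Prop :=
  IsLoc p M ∧ ∀ L : Subgroup G, IsLoc p L → M ≤ L → L = M

theorem pCore_char (p : ℕ) (H : Type*) [Group H] : (Cfsg.pCore p H).Characteristic := by
  rw [Subgroup.characteristic_iff_map_le]
  intro φ
  unfold Cfsg.pCore
  rw [Subgroup.map_le_iff_le_comap]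
  apply sSup_le
  intro N hN
  rw [← Subgroup.map_le_iff_le_comap]
  apply le_sSup
  exact ⟨hN.1.map φ.toMonoidHom φ.surjective, hN.2.map _⟩

theorem exists_normalizer_grow [Finite G] {p : ℕ} [Fact p.Prime]
    {P D : Subgroup G} (hP : IsPGroup p P) (hDP : D < P) :
    ∃ x ∈ P, x ∈ Subgroup.normalizer (D : Set G) ∧ x ∉ D := by
  have hnil : Group.IsNilpotent P := hP.isNilpotent
  have hlt : D.subgroupOf P < ⊤ := by
    rw [lt_top_iff_ne_top, Ne, Subgroup.subgroupOf_eq_top]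
    exact hDP.not_ge
  have h1 := Group.normalizerCondition_of_isNilpotent (G := P) _ hlt
  obtain ⟨x, hxN, hxD⟩ := SetLike.exists_of_lt h1
  rw [← Subgroup.subgroupOf_normalizer_eq hDP.le, Subgroup.mem_subgroupOf] at hxN
  rw [Subgroup.mem_subgroupOf] at hxD
  exact ⟨x, x.2, hxN, hxD⟩

/-- Lemma A: in a maximal `p`-local of characteristic `p`, normalizers of nontrivial normal
subgroups are no bigger. -/
theorem normalizer_eq_of_maxLoc [Finite G] {p : ℕ} [Fact p.Prime] {M : Subgroup G}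
    (hM : IsMaxLoc p M)
    (hchar : Subgroup.centralizer (Cfsg.pCore p ↥M : Set ↥M) ≤ Cfsg.pCore p ↥M)
    (A : Subgroup G) (hAM : A ≤ M) (hA1 : A ≠ ⊥) (hMA : M ≤ Subgroup.normalizer (A : Set G)) :
    Subgroup.normalizer (A : Set G) = M := by
  set B := (Cfsg.pCore p ↥A).map A.subtype with hB
  set Q := (Cfsg.pCore p ↥M).map M.subtype with hQ
  have hBp : IsPGroup p B := isPGroup_pCore_map_subtype p A
  have hQp : IsPGroup p Q := isPGroup_pCore_map_subtype p M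
  have hMQ : M ≤ Subgroup.normalizer (Q : Set G) := le_normalizer_pCore_map_subtype p M
  have hQM : Q ≤ M := pCore_map_subtype_le p M
  have hNB : Subgroup.normalizer (A : Set G) ≤ Subgroup.normalizer (B : Set G) := by
    have := pCore_char p ↥A
    exact le_normalizer_map_of_characteristic A (Cfsg.pCore p ↥A)
  have hB1 : B ≠ ⊥ := by
    intro hB0
    have h1 : A ⊓ Q ≤ B := by
      apply le_pCore_map_subtype A (A ⊓ Q) inf_le_left (hQp.to_le inf_le_right)
      intro a ha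
      exact mem_normalizer_inf A Q a (Subgroup.le_normalizer ha) (hMQ (hAM ha))
    rw [hB0, le_bot_iff] at h1
    have h2 : ⁅A, Q⁆ = ⊥ := by
      rw [eq_bot_iff, ← h1]
      apply le_inf
      · rw [Subgroup.commutator_comm]
        exact Cfsg.Agent.Helper2.commutator_le_of_le_normalizer (hQM.trans hMA)
      · exact Cfsg.Agent.Helper2.commutator_le_of_le_normalizer (hAM.trans hMQ)
    rw [Subgroup.commutator_eq_bot_iff_le_centralizer] at h2
    apply hA1
    rw [eq_bot_iff, ← h1]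
    intro a ha
    refine Subgroup.mem_inf.2 ⟨ha, ?_⟩
    have h3 : (⟨a, hAM ha⟩ : ↥M) ∈ Subgroup.centralizer (Cfsg.pCore p ↥M : Set ↥M) := by
      rw [mem_centralizer_pCore_iff]
      exact h2 ha
    exact ⟨⟨a, hAM ha⟩, hchar h3, rfl⟩
  have h4 := hM.2 (Subgroup.normalizer (B : Set G)) ⟨B, hBp, hB1, rfl⟩ (hMA.trans hNB)
  exact le_antisymm (hNB.trans h4.le) hMA

/-- every `p`-local lies in a maximal one -/
theorem exists_maxLoc_ge [Finite G] {p : ℕ} {L : Subgroup G} (hL : IsLoc p L) :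
    ∃ M : Subgroup G, IsMaxLoc p M ∧ L ≤ M := by
  obtain ⟨m, hLm, hm⟩ := Set.Finite.exists_le_maximal (s := {L : Subgroup G | IsLoc p L})
    (Set.toFinite _) hL
  refine ⟨m, ⟨hm.1, ?_⟩, hLm⟩
  intro L' hL' hmL'
  exact le_antisymm (hm.2 hL' hmL') hmL'

/-- Sylow maximality inside a subgroup. -/
theorem eq_of_sylow_le {p : ℕ} [Fact p.Prime] (K : Subgroup G) (S : Sylow p ↥K) (R : Subgroup G)
    (hR : IsPGroup p R) (hSR : (S : Subgroup ↥K).map K.subtype ≤ R) (hRK : R ≤ K) :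
    R = (S : Subgroup ↥K).map K.subtype := by
  have h1 : (S : Subgroup ↥K) ≤ R.subgroupOf K := by
    intro s hs
    rw [Subgroup.mem_subgroupOf]
    exact hSR ⟨s, hs, rfl⟩
  have h2 := S.is_maximal' (hR.comap_subtype (K := K)) h1
  rw [← h2]
  exact (Subgroup.map_subgroupOf_eq_of_le hRK).symm

/-- conjugate subgroup -/
abbrev cj (x : G) (H : Subgroup G) : Subgroup G := H.map (MulAut.conj x).toMonoidHom

theorem cj_inv_cj (x : G) (H : Subgroup G) : cj x⁻¹ (cj x H) = H := by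
  ext y
  simp only [cj, Subgroup.mem_map, MulEquiv.coe_toMonoidHom, MulAut.conj_apply]
  constructor
  · rintro ⟨_, ⟨z, hz, rfl⟩, rfl⟩
    have : x⁻¹ * (x * z * x⁻¹) * x⁻¹⁻¹ = z := by group
    rw [this]; exact hz
  · intro hy
    exact ⟨x * y * x⁻¹, ⟨y, hy, rfl⟩, by group⟩

theorem cj_cj_inv (x : G) (H : Subgroup G) : cj x (cj x⁻¹ H) = H := by
  have := cj_inv_cj x⁻¹ H
  rwa [inv_inv] at this

theorem cj_normalizer (x : G) (T : Subgroup G) :
    cj x (Subgroup.normalizer (T : Set G)) = Subgroup.normalizer ((cj x T : Subgroup G) : Set G) :=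
  Subgroup.map_equiv_normalizer_eq T (MulAut.conj x)

theorem isLoc_cj {p : ℕ} {M : Subgroup G} (x : G) (hM : IsLoc p M) : IsLoc p (cj x M) := by
  obtain ⟨T, hT, hT1, rfl⟩ := hM
  refine ⟨cj x T, hT.map _, ?_, cj_normalizer x T⟩
  intro h
  apply hT1
  exact (Subgroup.map_eq_bot_iff_of_injective T (MulAut.conj x).injective).1 h

theorem isMaxLoc_cj {p : ℕ} {M : Subgroup G} (x : G) (hM : IsMaxLoc p M) :
    IsMaxLoc p (cj x M) := by
  refine ⟨isLoc_cj x hM.1, ?_⟩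
  intro L hL hML
  have h1 : M ≤ cj x⁻¹ L := by
    rw [← cj_inv_cj x M]
    exact Subgroup.map_mono hML
  have h2 := hM.2 (cj x⁻¹ L) (isLoc_cj x⁻¹ hL) h1
  rw [← h2, cj_cj_inv]

theorem cj_eq_of_mem_normalizer {x : G} {H : Subgroup G}
    (hx : x ∈ Subgroup.normalizer (H : Set G)) : cj x H = H :=
  conj_smul_eq_of_mem_normalizer hx

theorem mem_normalizer_of_cj_eq {x : G} {H : Subgroup G} (h : cj x H = H) :
    x ∈ Subgroup.normalizer (H : Set G) :=
  mem_normalizer_of_conj_smul_eq h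

/-- `O_p` of a conjugate -/
theorem pCore_cj (p : ℕ) (x : G) (M : Subgroup G) :
    (Cfsg.pCore p ↥(cj x M)).map (cj x M).subtype = cj x ((Cfsg.pCore p ↥M).map M.subtype) := by
  have h1 := map_pCore_equiv p
    (M.equivMapOfInjective (MulAut.conj x).toMonoidHom (MulAut.conj x).injective)
  have h2 : (Cfsg.pCore p ↥(cj x M)).map (cj x M).subtype =
      ((Cfsg.pCore p ↥M).map (M.equivMapOfInjective (MulAut.conj x).toMonoidHom
        (MulAut.conj x).injective).toMonoidHom).map (cj x M).subtype := by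
    rw [h1]
  rw [h2]
  simp only [cj, Subgroup.map_map]
  congr 1

theorem card_pgroup_dvd [Finite G] {p : ℕ} [hp : Fact p.Prime] (R K : Subgroup G)
    (hR : IsPGroup p R) (hRK : R ≤ K) : Nat.card R ∣ p ^ (Nat.card K).factorization p := by
  obtain ⟨k, hk⟩ := hR.exists_card_eq
  rw [hk]
  apply pow_dvd_pow
  apply (Nat.Prime.pow_dvd_iff_le_factorization hp.out Nat.card_pos.ne').1
  rw [← hk]
  exact Subgroup.card_dvd_of_le hRK

theorem sup_zpowers_le {A B : Subgroup G} {x : G} (hA : A ≤ B) (hx : x ∈ B) :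
    A ⊔ Subgroup.zpowers x ≤ B :=
  sup_le hA ((Subgroup.zpowers_le).2 hx)

theorem key [Finite G] {p : ℕ} [hp : Fact p.Prime]
    (hcharall : ∀ M : Subgroup G, IsLoc p M →
      Subgroup.centralizer (Cfsg.pCore p ↥M : Set ↥M) ≤ Cfsg.pCore p ↥M)
    (M1 M2 : Subgroup G) (h1 : IsMaxLoc p M1) (h2 : IsMaxLoc p M2)
    (hmax : ∀ M3 : Subgroup G, IsMaxLoc p M3 → M3 ≠ M1 →
      (Nat.card ↥(M1 ⊓ M3)).factorization p ≤ (Nat.card ↥(M1 ⊓ M2)).factorization p)
    (hpos : p ∣ Nat.card ↥(M1 ⊓ M2))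
    (hQ1 : ¬ (Cfsg.pCore p ↥M1).map M1.subtype ≤ M1 ⊓ M2) :
    ∃ x : G, cj x M2 ≠ M2 ∧
      (Cfsg.pCore p ↥M2).map M2.subtype ⊔ (Cfsg.pCore p ↥(cj x M2)).map (cj x M2).subtype
        ≤ M2 ⊓ cj x M2 := by
  obtain ⟨S⟩ := (inferInstance : Nonempty (Sylow p ↥(M1 ⊓ M2)))
  set K := M1 ⊓ M2 with hK
  set SG := (S : Subgroup ↥K).map K.subtype with hSG
  have hSGp : IsPGroup p SG := S.isPGroup'.map _
  have hSGK : SG ≤ K := by rintro _ ⟨y, -, rfl⟩; exact y.2
  have hcardSG : Nat.card SG = p ^ (Nat.card K).factorization p := by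
    rw [hSG, Subgroup.card_map_of_injective K.subtype_injective]
    exact Sylow.card_eq_multiplicity S
  have hSG1 : SG ≠ ⊥ := by
    intro h
    rw [h, Subgroup.card_bot] at hcardSG
    have h3 : 0 < (Nat.card K).factorization p :=
      Nat.Prime.factorization_pos_of_dvd hp.out Nat.card_pos.ne' hpos
    have h4 : 1 < p ^ (Nat.card K).factorization p :=
      Nat.one_lt_pow h3.ne' hp.out.one_lt
    omega
  set Q1 := (Cfsg.pCore p ↥M1).map M1.subtype with hQ1def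
  set Q2 := (Cfsg.pCore p ↥M2).map M2.subtype with hQ2def
  have hQ1p : IsPGroup p Q1 := isPGroup_pCore_map_subtype p M1
  have hQ2p : IsPGroup p Q2 := isPGroup_pCore_map_subtype p M2
  have hMQ1 : M1 ≤ Subgroup.normalizer (Q1 : Set G) := le_normalizer_pCore_map_subtype p M1
  have hMQ2 : M2 ≤ Subgroup.normalizer (Q2 : Set G) := le_normalizer_pCore_map_subtype p M2
  have hQM1 : Q1 ≤ M1 := pCore_map_subtype_le p M1
  have hQM2 : Q2 ≤ M2 := pCore_map_subtype_le p M2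
  have hSGM1 : SG ≤ M1 := hSGK.trans inf_le_left
  have hSGM2 : SG ≤ M2 := hSGK.trans inf_le_right
  -- Sylow maximality
  have hsyl : ∀ (P' : Subgroup G), IsPGroup p P' → ∀ y ∈ P', SG ≤ P' → y ∈ K → y ∈ SG := by
    intro P' hP' y hy hSP' hyK
    have hR : SG ⊔ Subgroup.zpowers y = SG := by
      apply eq_of_sylow_le K S
      · exact hP'.to_le (sup_zpowers_le hSP' hy)
      · exact le_sup_left
      · exact sup_zpowers_le hSGK hyK
    rw [← hR]
    exact (le_sup_right : Subgroup.zpowers y ≤ _) (Subgroup.mem_zpowers y)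
  set P := SG ⊔ Q1 with hP
  have hPp : IsPGroup p P := IsPGroup.to_sup_of_normal_right' hSGp hQ1p (hSGM1.trans hMQ1)
  have hSP : SG < P := by
    refine lt_of_le_of_ne le_sup_left ?_
    intro h
    apply hQ1
    have : Q1 ≤ SG := by rw [h]; exact le_sup_right
    exact this.trans hSGK
  have hPM1 : P ≤ M1 := sup_le hSGM1 hQM1
  obtain ⟨x, hxP, hxN, hxS⟩ := exists_normalizer_grow hPp hSP
  obtain ⟨M3, hM3, hNM3⟩ := exists_maxLoc_ge (p := p)
    (L := Subgroup.normalizer (SG : Set G)) ⟨SG, hSGp, hSG1, rfl⟩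
  have hM31 : M3 = M1 := by
    by_contra h
    have h5 := hmax M3 hM3 h
    set R := SG ⊔ Subgroup.zpowers x with hR
    have hRP : R ≤ P := sup_zpowers_le le_sup_left hxP
    have hR13 : R ≤ M1 ⊓ M3 :=
      le_inf (hRP.trans hPM1) ((sup_zpowers_le Subgroup.le_normalizer hxN).trans hNM3)
    have h6 := card_pgroup_dvd R (M1 ⊓ M3) (hPp.to_le hRP) hR13
    have h7 : SG < R := by
      refine lt_of_le_of_ne le_sup_left ?_
      intro h
      apply hxS
      rw [h]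
      exact (le_sup_right : Subgroup.zpowers x ≤ _) (Subgroup.mem_zpowers x)
    have h8 : Nat.card SG < Nat.card R := card_lt_card_of_lt h7
    rw [hcardSG] at h8
    have h9 := Nat.le_of_dvd (pow_pos hp.out.pos _) h6
    have h10 := lt_of_lt_of_le h8 h9
    have h11 := (Nat.pow_lt_pow_iff_right hp.out.one_lt).1 h10
    omega
  have hN : Subgroup.normalizer (SG : Set G) ≤ M1 := hM31 ▸ hNM3
  have hxM2 : x ∉ M2 := by
    intro hx
    exact hxS (hsyl P hPp x hxP le_sup_left ⟨hPM1 hxP, hx⟩)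
  have hQ2S : Q2 ≤ SG := by
    by_contra hq
    set P2 := SG ⊔ Q2 with hP2
    have hP2p : IsPGroup p P2 := IsPGroup.to_sup_of_normal_right' hSGp hQ2p (hSGM2.trans hMQ2)
    have hSP2 : SG < P2 := by
      refine lt_of_le_of_ne le_sup_left ?_
      intro h
      apply hq
      rw [h]; exact le_sup_right
    obtain ⟨y, hyP, hyN, hyS⟩ := exists_normalizer_grow hP2p hSP2
    have hyM2 : y ∈ M2 := (sup_le hSGM2 hQM2 : P2 ≤ M2) hyP
    exact hyS (hsyl P2 hP2p y hyP le_sup_left ⟨hN hyN, hyM2⟩)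
  have hM2bot : M2 ≠ ⊥ := by
    intro h
    apply hSG1
    rw [eq_bot_iff, ← h]; exact hSGM2
  refine ⟨x, ?_, ?_⟩
  · intro h
    have h3 := mem_normalizer_of_cj_eq h
    rw [normalizer_eq_of_maxLoc h2 (hcharall M2 h2.1) M2 le_rfl hM2bot Subgroup.le_normalizer] at h3
    exact hxM2 h3
  · rw [pCore_cj]
    have hcjS : cj x SG = SG := cj_eq_of_mem_normalizer hxN
    have hS2 : SG ≤ cj x M2 := by
      rw [← hcjS]; exact Subgroup.map_mono hSGM2
    apply sup_le
    · exact hQ2S.trans (le_inf hSGM2 hS2)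
    · have : cj x Q2 ≤ SG := by
        rw [← hcjS]; exact Subgroup.map_mono hQ2S
      exact this.trans (le_inf hSGM2 hS2)

/-- Two distinct subgroups M₁, M₂ of G form a primitive pair when, for {i, j} = {1, 2}, every non-trivial normal subgroup A of M_i contained in M₁ ∩ M₂ satisfies N_{M_j}(A) = M₁ ∩ M₂; the pair has characteristic p when moreover C_{M_i}(O_p(M_i)) ≤ O_p(M_i) for both i and O_p(M₁)O_p(M₂) ≤ M₁ ∩ M₂. Let G be a finite group, p a prime dividing its order, with O_p(G) = 1 and every p-local subgroup of characteristic p. Then either G has a primitive pair of characteristic p, or every maximal p-local subgroup M of G is strongly p-embedded in G: M is a proper subgroup, p divides its order, and for every g ∉ M the order of M ∩ gMg⁻¹ is prime to p. -/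
theorem result {G : Type*} [Group G] [Finite G] {p : ℕ} [Fact p.Prime] (hloc : Cfsg.IsOfLocalCharacteristic p G) (hOp : Cfsg.pCore p G = ⊥) : (∃ M₁ M₂ : Subgroup G, M₁ ≠ M₂ ∧ (∀ A : Subgroup G, A ≠ ⊥ → A ≤ M₁ ⊓ M₂ → (M₁ ≤ Subgroup.normalizer (A : Set G) → M₂ ⊓ Subgroup.normalizer (A : Set G) = M₁ ⊓ M₂) ∧ (M₂ ≤ Subgroup.normalizer (A : Set G) → M₁ ⊓ Subgroup.normalizer (A : Set G) = M₁ ⊓ M₂)) ∧ Subgroup.centralizer (Cfsg.pCore p ↥M₁ : Set ↥M₁) ≤ Cfsg.pCore p ↥M₁ ∧ Subgroup.centralizer (Cfsg.pCore p ↥M₂ : Set ↥M₂) ≤ Cfsg.pCore p ↥M₂ ∧ (Cfsg.pCore p ↥M₁).map M₁.subtype ⊔ (Cfsg.pCore p ↥M₂).map M₂.subtype ≤ M₁ ⊓ M₂) ∨ (∀ M : Subgroup G, (∃ T : Subgroup G, IsPGroup p T ∧ T ≠ ⊥ ∧ M = Subgroup.normalizer (T : Set G)) → (∀ L : Subgroup G, (∃ T : Subgroup G, IsPGroup p T ∧ T ≠ ⊥ ∧ L = Subgroup.normalizer (T : Set G)) → M ≤ L → L = M) → M ≠ ⊤ ∧ p ∣ Nat.card M ∧ ∀ g : G, g ∉ M → ¬ p ∣ Nat.card ↥(M ⊓ M.map (MulAut.conj g).toMonoidHom))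 := by
  have hp : Fact p.Prime := inferInstance
  have hcharall : ∀ M : Subgroup G, IsLoc p M →
      Subgroup.centralizer (Cfsg.pCore p ↥M : Set ↥M) ≤ Cfsg.pCore p ↥M := by
    rintro M ⟨T, hT, hT1, rfl⟩
    exact hloc.2 T hT hT1
  have hpack : ∀ M1 M2 : Subgroup G, IsMaxLoc p M1 → IsMaxLoc p M2 → M1 ≠ M2 →
      (Cfsg.pCore p ↥M1).map M1.subtype ⊔ (Cfsg.pCore p ↥M2).map M2.subtype ≤ M1 ⊓ M2 →
      (∃ M₁ M₂ : Subgroup G, M₁ ≠ M₂ ∧ (∀ A : Subgroup G, A ≠ ⊥ → A ≤ M₁ ⊓ M₂ → (M₁ ≤ Subgroup.normalizer (A : Set G) → M₂ ⊓ Subgroup.normalizer (A : Set G) = M₁ ⊓ M₂) ∧ (M₂ ≤ Subgroup.normalizer (A : Set G) → M₁ ⊓ Subgroup.normalizer (A : Set G) = M₁ ⊓ M₂)) ∧ Subgroup.centralizer (Cfsg.pCore p ↥M₁ : Set ↥M₁) ≤ Cfsg.pCore p ↥M₁ ∧ Subgroup.centralizer (Cfsg.pCore p ↥M₂ : Set ↥M₂) ≤ Cfsg.pCore p ↥M₂ ∧ (Cfsg.pCore p ↥M₁).map M₁.subtype ⊔ (Cfsg.pCore p ↥M₂).map M₂.subtype ≤ M₁ ⊓ M₂) := by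
    intro M1 M2 h1 h2 hne hQ
    refine ⟨M1, M2, hne, ?_, hcharall M1 h1.1, hcharall M2 h2.1, hQ⟩
    intro A hA1 hA
    constructor
    · intro hMA
      rw [normalizer_eq_of_maxLoc h1 (hcharall M1 h1.1) A (hA.trans inf_le_left) hA1 hMA, inf_comm]
    · intro hMA
      rw [normalizer_eq_of_maxLoc h2 (hcharall M2 h2.1) A (hA.trans inf_le_right) hA1 hMA]
  by_cases hpair : ∃ M1 M2 : Subgroup G, IsMaxLoc p M1 ∧ IsMaxLoc p M2 ∧ M1 ≠ M2 ∧
      (Cfsg.pCore p ↥M1).map M1.subtype ⊔ (Cfsg.pCore p ↥M2).map M2.subtype ≤ M1 ⊓ M2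
  · left
    obtain ⟨M1, M2, h1, h2, hne, hQ⟩ := hpair
    exact hpack M1 M2 h1 h2 hne hQ
  · right
    intro M hMloc hMmax
    have hM : IsMaxLoc p M := ⟨hMloc, hMmax⟩
    refine ⟨?_, ?_, ?_⟩
    · obtain ⟨T, hT, hT1, rfl⟩ := hMloc
      intro htop
      have hTn : T.Normal := Subgroup.normalizer_eq_top_iff.1 htop
      have h3 : T ≤ Cfsg.pCore p G := le_pCore hTn hT
      rw [hOp] at h3
      exact hT1 (le_bot_iff.1 h3)
    · obtain ⟨T, hT, hT1, rfl⟩ := hMloc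
      have h3 : p ∣ Nat.card T := by
        obtain ⟨k, hk⟩ := hT.exists_card_eq
        rw [hk]
        apply dvd_pow_self
        intro hk0
        rw [hk0, pow_zero] at hk
        exact hT1 ((Subgroup.card_eq_one).1 hk)
      exact h3.trans (Subgroup.card_dvd_of_le Subgroup.le_normalizer)
    · intro g hg hdvd
      apply hpair
      have hMbot : M ≠ ⊥ := by
        obtain ⟨T, hT, hT1, rfl⟩ := hMloc
        intro h
        apply hT1
        rw [eq_bot_iff, ← h]; exact Subgroup.le_normalizer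
      have hMg : cj g M ≠ M := by
        intro h
        have h3 := mem_normalizer_of_cj_eq h
        rw [normalizer_eq_of_maxLoc hM (hcharall M hM.1) M le_rfl hMbot Subgroup.le_normalizer] at h3
        exact hg h3
      let 𝒮 : Set (Subgroup G × Subgroup G) :=
        {q | IsMaxLoc p q.1 ∧ IsMaxLoc p q.2 ∧ q.1 ≠ q.2}
      obtain ⟨⟨M1, M2⟩, ⟨h1, h2, hne⟩, hmax⟩ := Set.exists_max_image 𝒮
        (fun q => (Nat.card ↥(q.1 ⊓ q.2)).factorization p) (Set.toFinite 𝒮)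
        ⟨(M, cj g M), hM, isMaxLoc_cj g hM, hMg.symm⟩
      simp only at h1 h2 hne
      have hpos : p ∣ Nat.card ↥(M1 ⊓ M2) := by
        have h3 := hmax (M, cj g M) ⟨hM, isMaxLoc_cj g hM, hMg.symm⟩
        simp only at h3
        have h4 : 0 < (Nat.card ↥(M ⊓ cj g M)).factorization p :=
          Nat.Prime.factorization_pos_of_dvd hp.out Nat.card_pos.ne' hdvd
        exact Nat.dvd_of_factorization_pos (by omega)
      by_cases hQ1 : (Cfsg.pCore p ↥M1).map M1.subtype ≤ M1 ⊓ M2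
      · by_cases hQ2 : (Cfsg.pCore p ↥M2).map M2.subtype ≤ M1 ⊓ M2
        · exact ⟨M1, M2, h1, h2, hne, sup_le hQ1 hQ2⟩
        · have hmax' : ∀ M3 : Subgroup G, IsMaxLoc p M3 → M3 ≠ M2 →
              (Nat.card ↥(M2 ⊓ M3)).factorization p ≤ (Nat.card ↥(M2 ⊓ M1)).factorization p := by
            intro M3 h3 hne3
            have := hmax (M2, M3) ⟨h2, h3, hne3.symm⟩
            simp only at this
            rw [inf_comm M2 M1]
            exact this
          rw [inf_comm] at hQ2 hpos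
          obtain ⟨x, hx1, hx2⟩ := key hcharall M2 M1 h2 h1 hmax' hpos hQ2
          exact ⟨M1, cj x M1, h1, isMaxLoc_cj x h1, hx1.symm, hx2⟩
      · have hmax' : ∀ M3 : Subgroup G, IsMaxLoc p M3 → M3 ≠ M1 →
            (Nat.card ↥(M1 ⊓ M3)).factorization p ≤ (Nat.card ↥(M1 ⊓ M2)).factorization p := by
          intro M3 h3 hne3
          have := hmax (M1, M3) ⟨h1, h3, hne3.symm⟩
          simp only at this
          exact this
        obtain ⟨x, hx1, hx2⟩ := key hcharall M1 M2 h1 h2 hmax' hpos hQ1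
        exact ⟨M2, cj x M2, h2, isMaxLoc_cj x h2, hx1.symm, hx2⟩


end Cfsg.Agent.S3751
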