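import Cfsg.Statements.S3760
import Cfsg.Agent.Helper5.Basic

set_option autoImplicit false
open Cfsg

namespace Cfsg.Agent.S3760

open Cfsg.Agent.Helper5 in
/-- Let the group G act transitively on a set X, let x ∈ X with stabilizer H = G_x, and let K ≤ H. Then N_G(K) acts transitively on the set of fixed points of K if and only if every G-conjugate of K contained in H is already an H-conjugate of K. -/
theorem result {G : Type*} [Group G] {X : Type*} [MulAction G X] (htrans : ∀ a b : X, ∃ g : G, g • a = b) (x : X) (K : Subgroup G) (hK : K ≤ MulAction.stabilizer G x) : (∀ a b : X, (∀ k ∈ K, k • a = a) → (∀ k ∈ K, k • b = b) → ∃ g ∈ Subgroup.normalizer (K : Set G), g • a = b) ↔ ∀ g : G, K.map (MulAut.conj g).toMonoidHom ≤ MulAction.stabilizer G x → ∃ h ∈ MulAction.stabilizer G x, K.map (MulAut.conj g).toMonoidHom = K.map (MulAut.conj h).toMonoidHom := by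
  constructor
  · intro hN g hg
    rw [map_conj_le_iff] at hg
    -- K fixes g⁻¹ • x
    have h1 : ∀ k ∈ K, k • (g⁻¹ • x) = g⁻¹ • x := by
      intro k hk
      have := hg k hk
      rw [MulAction.mem_stabilizer_iff] at this
      calc k • g⁻¹ • x = g⁻¹ • ((g * k * g⁻¹) • x) := by simp [mul_smul]
        _ = g⁻¹ • x := by rw [this]
    have h2 : ∀ k ∈ K, k • x = x := fun k hk => hK hk
    obtain ⟨n, hn, hnx⟩ := hN (g⁻¹ • x) x h1 h2
    refine ⟨g * n⁻¹, ?_, ?_⟩
    · have h3 : n⁻¹ • x = g⁻¹ • x := by rw [inv_smul_eq_iff]; exact hnx.symm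
      rw [MulAction.mem_stabilizer_iff, mul_smul, h3]
      simp
    · rw [← map_conj_map_conj]
      congr 1
      have : n⁻¹ ∈ Subgroup.normalizer (K : Set G) := inv_mem hn
      exact ((mem_normalizer_iff_map_conj K n⁻¹).1 this).symm
  · intro hH
    -- key: every fixed point a of K is n • x for some n ∈ N(K)
    have key : ∀ a : X, (∀ k ∈ K, k • a = a) → ∃ n ∈ Subgroup.normalizer (K : Set G), n • x = a := by
      intro a ha
      obtain ⟨g, hg⟩ := htrans x a
      have h1 : K.map (MulAut.conj g⁻¹).toMonoidHom ≤ MulAction.stabilizer G x := by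
        rw [map_conj_le_iff]
        intro k hk
        rw [MulAction.mem_stabilizer_iff, inv_inv, mul_smul, mul_smul, hg, ha k hk, ← hg]
        simp
      obtain ⟨h, hh, heq⟩ := hH g⁻¹ h1
      refine ⟨g * h, ?_, ?_⟩
      · rw [mem_normalizer_iff_map_conj, ← map_conj_map_conj, ← heq, map_conj_map_conj,
          mul_inv_cancel, map_conj_one]
      · rw [mul_smul, MulAction.mem_stabilizer_iff.1 hh, hg]
    intro a b ha hb
    obtain ⟨na, hna, hax⟩ := key a ha
    obtain ⟨nb, hnb, hbx⟩ := key b hb
    refine ⟨nb * na⁻¹, mul_mem hnb (inv_mem hna), ?_⟩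
    rw [mul_smul, ← hax, inv_smul_smul, hbx]

end Cfsg.Agent.S3760
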