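import Mathlib
import Cfsg.Statements.S3763
import Cfsg.Agent.Helper3.ExtraRank
import Cfsg.Agent.S0099
import Cfsg.Statements.S3763
-- import your own Cfsg.Agent.* helpers here

set_option autoImplicit false
open Cfsg

namespace Cfsg.Agent.S3763
open Cfsg
universe u v
open Cfsg.Agent.Helper3.Extra

theorem plus_facts {E : Type u} [Group E] [Finite E] (hC : InClass 2 E) (n : ℕ)
    (hn : Nat.card E = 2 ^ (2 * n + 1)) (hP : IsPlus E) :
    Cfsg.PRankLE 2 (n + 1) E ∧ ¬ Cfsg.PRankLE 2 n E := by
  obtain ⟨m, hm1, hr, A, hA, hAc⟩ := hC.rank_plus hP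
  have hm : m = n := by
    have := hm1.symm.trans hn
    have := Nat.pow_right_injective (le_refl 2) this
    omega
  subst hm
  refine ⟨hr, fun h => ?_⟩
  have := h A hA.1 hA.2
  rw [hAc] at this
  have : 2 ^ m < 2 ^ (m + 1) := Nat.pow_lt_pow_right (by norm_num) (by omega)
  omega

theorem minus_facts {E : Type u} [Group E] [Finite E] (hC : InClass 2 E) (n : ℕ)
    (hn : Nat.card E = 2 ^ (2 * n + 1)) (hM : IsMinus E) :
    Cfsg.PRankLE 2 n E ∧ ¬ Cfsg.PRankLE 2 (n - 1) E := by
  obtain ⟨m, hm0, hm1, hr, A, hA, hAc⟩ := hC.rank_minus hM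
  have hm : m = n := by
    have := hm1.symm.trans hn
    have := Nat.pow_right_injective (le_refl 2) this
    omega
  subst hm
  refine ⟨hr, fun h => ?_⟩
  have := h A hA.1 hA.2
  rw [hAc] at this
  have : 2 ^ (m - 1) < 2 ^ m := Nat.pow_lt_pow_right (by norm_num) (by omega)
  omega

/-- Let E be an extraspecial 2-group of order 2^(2n+1). Then the largest elementary abelian subgroups of E have order 2^n or 2^(n+1); and two extraspecial 2-groups of the same order whose largest elementary abelian subgroups have the same order are isomorphic. -/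
theorem result {E : Type*} [Group E] [Finite E] (hE : Cfsg.IsExtraspecial 2 E) (n : ℕ) (hn : Nat.card E = 2 ^ (2 * n + 1)) : ((Cfsg.PRankLE 2 n E ∧ ¬ Cfsg.PRankLE 2 (n - 1) E) ∨ (Cfsg.PRankLE 2 (n + 1) E ∧ ¬ Cfsg.PRankLE 2 n E)) ∧ ∀ (E' : Type*) [Group E'] [Finite E'], Cfsg.IsExtraspecial 2 E' → Nat.card E' = Nat.card E → (∀ k : ℕ, Cfsg.PRankLE 2 k E ↔ Cfsg.PRankLE 2 k E') → Nonempty (E ≃* E') := by
  have : Fact (Nat.Prime 2) := ⟨Nat.prime_two⟩
  have hC := inClass_of_isExtraspecial hE
  constructor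
  · rcases plus_or_minus _ E hC rfl with hP | hM
    · exact Or.inr (plus_facts hC n hn hP)
    · exact Or.inl (minus_facts hC n hn hM)
  · intro E' _ _ hE' hcard hrank
    have hC' := inClass_of_isExtraspecial hE'
    have hn' : Nat.card E' = 2 ^ (2 * n + 1) := hcard.trans hn
    rcases plus_or_minus _ E hC rfl with hP | hM <;> rcases plus_or_minus _ E' hC' rfl with hP' | hM'
    · exact unique_of_card_inv2 _ E E' hC hC' rfl hcard
        (Cfsg.Agent.S0099.card_eq_of_plus hcard.symm hP hP')
    · exfalso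
      exact (plus_facts hC n hn hP).2 ((hrank n).2 (minus_facts hC' n hn' hM').1)
    · exfalso
      exact (plus_facts hC' n hn' hP').2 ((hrank n).1 (minus_facts hC n hn hM).1)
    · exact unique_of_card_inv2 _ E E' hC hC' rfl hcard
        (Cfsg.Agent.S0099.card_eq_of_minus hcard.symm hM hM')


end Cfsg.Agent.S3763
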