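import Mathlib
import Cfsg.Statements.S3764
import Cfsg.Agent.Helper3.ShAbsC
import Cfsg.Agent.S1446
-- import your own Cfsg.Agent.* helpers here

set_option autoImplicit false
open Cfsg

namespace Cfsg.Agent.S3764
open scoped commutatorElement

set_option maxHeartbeats 1000000 in
/-- Let p, q, r be distinct primes and let X, Q, V be subgroups of a finite group with X of order r, Q an extraspecial q-group normalized by X with C_Q(X) = Z(Q), and V an elementary abelian p-group normalized by X and Q on which XQ acts faithfully ((X ⊔ Q) ∩ C(V) = 1). If C_V(X) = 1, then q = 2, r = 2^n + 1 for some n, and Q has order 2^(2n+1). -/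
theorem result {G : Type*} [Group G] [Finite G] {p q r : ℕ} (hp : p.Prime) (hq : q.Prime) (hr : r.Prime) (hpq : p ≠ q) (hpr : p ≠ r) (hqr : q ≠ r) (X Q V : Subgroup G) (hX : Nat.card X = r) (hQ : Cfsg.IsExtraspecial q ↥Q) (hXQ : X ≤ Subgroup.normalizer (Q : Set G)) (hCQ : Q ⊓ Subgroup.centralizer (X : Set G) = (Subgroup.center ↥Q).map Q.subtype) (hV : Cfsg.IsElementaryAbelian p V) (hXV : X ≤ Subgroup.normalizer (V : Set G)) (hQV : Q ≤ Subgroup.normalizer (V : Set G)) (hfaith : (X ⊔ Q) ⊓ Subgroup.centralizer (V : Set G) = ⊥) (hCV : V ⊓ Subgroup.centralizer (X : Set G) = ⊥) : q = 2 ∧ ∃ n : ℕ, r = 2 ^ n + 1 ∧ Nat.card Q = 2 ^ (2 * n + 1) := by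
  classical
  haveI : Fact r.Prime := ⟨hr⟩
  haveI : Fact q.Prime := ⟨hq⟩
  -- a generator of X
  haveI : Nontrivial ↥X := by
    apply (Finite.one_lt_card_iff_nontrivial).1
    rw [hX]; exact hr.one_lt
  obtain ⟨x₀, hx₀⟩ := exists_ne (1 : ↥X)
  have hzp : Subgroup.zpowers x₀ = ⊤ := zpowers_eq_top_of_prime_card hX hx₀
  obtain ⟨x, hxX, hxx₀⟩ : ∃ x : G, ∃ h : x ∈ X, (⟨x, h⟩ : ↥X) = x₀ := ⟨x₀, x₀.2, rfl⟩
  have hxr : x ^ r = 1 := by
    have h1 : x₀ ^ Nat.card ↥X = 1 := pow_card_eq_one'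
    rw [hX, ← hxx₀] at h1
    have := congrArg Subtype.val h1
    simpa using this
  have hXpow : ∀ y ∈ X, ∃ n : ℤ, x ^ n = y := by
    intro y hy
    have h1 : (⟨y, hy⟩ : ↥X) ∈ Subgroup.zpowers x₀ := by rw [hzp]; trivial
    obtain ⟨n, hn⟩ := Subgroup.mem_zpowers_iff.1 h1
    refine ⟨n, ?_⟩
    have := congrArg Subtype.val hn
    rw [← hxx₀] at this
    simpa using this
  have hcentX : ∀ g : G, g ∈ Subgroup.centralizer (X : Set G) ↔ x * g * x⁻¹ = g := by
    intro g
    rw [Subgroup.mem_centralizer_iff]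
    constructor
    · intro h
      rw [mul_inv_eq_iff_eq_mul]
      exact h x hxX
    · intro h y hy
      obtain ⟨n, rfl⟩ := hXpow y hy
      rw [mul_inv_eq_iff_eq_mul] at h
      have hc : Commute x g := h
      exact (hc.zpow_left n).eq
  -- the acting group
  have hΓV : X ⊔ Q ≤ Subgroup.normalizer (V : Set G) := sup_le hXV hQV
  obtain ⟨ψ, hψ⟩ : ∃ ψ : ↥(X ⊔ Q) →* MulAut ↥V, ψ = Cfsg.Agent.S1446.conjAct V (X ⊔ Q) hΓV :=
    ⟨_, rfl⟩
  have hψapp : ∀ (g : ↥(X ⊔ Q)) (v : ↥V), ((ψ g v : ↥V) : G) = (g : G) * v * (g : G)⁻¹ := by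
    intro g v
    rw [hψ, Cfsg.Agent.S1446.conjAct_apply]
  have hψker : ∀ g : ↥(X ⊔ Q), ψ g = 1 → g = 1 := by
    intro g hg
    have h1 : (g : G) ∈ (X ⊔ Q) ⊓ Subgroup.centralizer (V : Set G) := by
      refine ⟨g.2, ?_⟩
      change (g : G) ∈ Subgroup.centralizer (V : Set G)
      rw [Subgroup.mem_centralizer_iff]
      intro v hv
      have h2 := congrArg (fun e : MulAut ↥V => ((e ⟨v, hv⟩ : ↥V) : G)) hg
      simp only [MulAut.one_apply] at h2
      rw [hψapp] at h2
      change (g : G) * v * (g : G)⁻¹ = v at h2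
      rw [mul_inv_eq_iff_eq_mul] at h2
      exact h2.symm
    rw [hfaith, Subgroup.mem_bot] at h1
    exact Subtype.ext h1
  obtain ⟨x', hx'⟩ : ∃ x' : ↥(X ⊔ Q), (x' : G) = x := ⟨⟨x, le_sup_left (a := X) hxX⟩, rfl⟩
  have hcommV : ∀ a b : ↥V, a * b = b * a := fun a b => hV.1.is_comm.comm a b
  have hexpV : ∀ a : ↥V, a ^ p = 1 := by
    intro a
    apply Subtype.ext
    have := hV.2 a a.2
    simpa using this
  -- the centre
  obtain ⟨ZG, hZG⟩ : ∃ ZG : Subgroup G, ZG = (Subgroup.center ↥Q).map Q.subtype := ⟨_, rfl⟩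
  have hZGmem : ∀ g : G, g ∈ ZG ↔ g ∈ Q ∧ ∀ h ∈ Q, g * h = h * g := by
    intro g
    rw [hZG]
    constructor
    · rintro ⟨c, hc, rfl⟩
      refine ⟨c.2, fun h hh => ?_⟩
      have := Subgroup.mem_center_iff.1 hc ⟨h, hh⟩
      exact (congrArg Subtype.val this).symm
    · rintro ⟨hg, hcomm⟩
      refine ⟨⟨g, hg⟩, ?_, rfl⟩
      rw [SetLike.mem_coe, Subgroup.mem_center_iff]
      intro h
      apply Subtype.ext
      exact (hcomm h h.2).symm
  have hZGQ : ZG ≤ Q := fun g hg => ((hZGmem g).1 hg).1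
  have hZGcard : Nat.card ZG = q := by
    rw [hZG, ← hQ.2]
    exact Nat.card_congr ((Subgroup.center ↥Q).equivMapOfInjective Q.subtype
      Q.subtype_injective).toEquiv.symm
  have hQΓ : Q ≤ X ⊔ Q := le_sup_right
  have hcoe_conj : ∀ g : ↥(X ⊔ Q), ((x' * g * x'⁻¹ : ↥(X ⊔ Q)) : G) = x * (g : G) * x⁻¹ := by
    intro g
    rw [Subgroup.coe_mul, Subgroup.coe_mul, Subgroup.coe_inv, hx']
  haveI : Finite ↥(Q.subgroupOf (X ⊔ Q)) :=
    Finite.of_equiv _ (Subgroup.subgroupOfEquivOfLe hQΓ).symm.toEquiv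
  have hmain := Cfsg.Agent.Helper3.Shult.shult_act_A (Γ := ↥(X ⊔ Q)) (A := ↥V) p q r hp hq hr hpq
    hpr hqr hcommV hexpV ψ x'
    (by
      apply Subtype.ext
      rw [Subgroup.coe_pow, hx', hxr, Subgroup.coe_one])
    (Q.subgroupOf (X ⊔ Q)) hQ.1.1.comap_subtype
    (by
      intro g hg
      rw [Subgroup.mem_subgroupOf] at hg ⊢
      rw [hcoe_conj]
      exact (Subgroup.mem_normalizer_iff.1 (hXQ hxX) _).1 hg)
    (ZG.subgroupOf (X ⊔ Q))
    (by
      intro g
      rw [Subgroup.mem_subgroupOf, Subgroup.mem_subgroupOf, hZGmem]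
      constructor
      · rintro ⟨h1, h2⟩
        refine ⟨h1, ?_⟩
        intro h hh
        rw [Subgroup.mem_subgroupOf] at hh
        apply Subtype.ext
        rw [Subgroup.coe_mul, Subgroup.coe_mul]
        exact h2 _ hh
      · rintro ⟨h1, h2⟩
        refine ⟨h1, ?_⟩
        intro h hh
        have := h2 ⟨h, hQΓ hh⟩ (Subgroup.mem_subgroupOf.2 hh)
        exact congrArg Subtype.val this)
    (by
      rw [← hZGcard]
      exact Nat.card_congr (Subgroup.subgroupOfEquivOfLe (hZGQ.trans hQΓ)).toEquiv)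
    (by
      intro g hg h hh
      rw [Subgroup.mem_subgroupOf] at hg hh ⊢
      rw [hZG]
      refine ⟨⟨(g : G), hg⟩ * ⟨(h : G), hh⟩ * (⟨(g : G), hg⟩ : ↥Q)⁻¹ * (⟨(h : G), hh⟩ : ↥Q)⁻¹, ?_, ?_⟩
      · rw [SetLike.mem_coe, ← hQ.1.2.2, commutator_def, ← commutatorElement_def]
        exact Subgroup.commutator_mem_commutator (Subgroup.mem_top _) (Subgroup.mem_top _)
      · simp)
    (by
      intro g hg
      rw [Subgroup.mem_subgroupOf] at hg
      rw [Subgroup.mem_subgroupOf, hZG, ← hCQ]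
      constructor
      · intro h
        have h1 := congrArg Subtype.val h
        rw [hcoe_conj] at h1
        exact ⟨hg, (hcentX _).2 h1⟩
      · intro h
        apply Subtype.ext
        rw [hcoe_conj]
        exact (hcentX _).1 h.2)
    (fun g _ hg1 => hψker g hg1)
    (by
      by_contra hcon
      push Not at hcon
      have hall : ∀ g ∈ Q, g ∈ ZG := by
        intro g hg
        have := hcon ⟨g, hQΓ hg⟩ (Subgroup.mem_subgroupOf.2 hg)
        rw [Subgroup.mem_subgroupOf] at this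
        exact this
      have hcen : Subgroup.center ↥Q = ⊤ := by
        rw [eq_top_iff]
        intro g _
        rw [Subgroup.mem_center_iff]
        intro h
        apply Subtype.ext
        rw [Subgroup.coe_mul, Subgroup.coe_mul]
        exact (((hZGmem _).1 (hall g g.2)).2 h h.2).symm
      have h1 : commutator ↥Q = ⊥ := (commutator_eq_bot_iff_center_eq_top ↥Q).2 hcen
      have h2 := hQ.1.2.2
      rw [h1] at h2
      have h3 := hQ.2
      rw [← h2, Subgroup.card_bot] at h3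
      exact hq.one_lt.ne h3)
    (by
      intro v hv
      have h1 := congrArg Subtype.val hv
      rw [hψapp, hx'] at h1
      have h2 : (v : G) ∈ V ⊓ Subgroup.centralizer (X : Set G) :=
        ⟨v.2, (hcentX _).2 h1⟩
      rw [hCV, Subgroup.mem_bot] at h2
      exact Subtype.ext h2)
  obtain ⟨hq2, n, hrn, hcard⟩ := hmain
  refine ⟨hq2, n, hrn, ?_⟩
  rw [← hcard]
  exact (Nat.card_congr (Subgroup.subgroupOfEquivOfLe hQΓ).toEquiv).symm


end Cfsg.Agent.S3764
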