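import Mathlib
import Cfsg.Statements.S3765
import Cfsg.Agent.Helper3.ShActB
import Cfsg.Agent.S1446
-- import your own Cfsg.Agent.* helpers here

set_option autoImplicit false
open Cfsg

namespace Cfsg.Agent.S3765

set_option maxHeartbeats 1000000 in
/-- Let p, q, r be distinct primes and let X, Q, V be subgroups of a finite group with X of order r normalizing the q-group Q and acting faithfully on it (X ∩ C(Q) = 1), and V a nontrivial elementary abelian p-group normalized by X and Q on which XQ acts faithfully. If q = 2 and r has the form 2^n + 1, assume in addition that Q is abelian. Then C_V(X) ≠ 1. -/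
theorem result {G : Type*} [Group G] [Finite G] {p q r : ℕ} (hp : p.Prime) (hq : q.Prime) (hr : r.Prime) (hpq : p ≠ q) (hpr : p ≠ r) (hqr : q ≠ r) (X Q V : Subgroup G) (hX : Nat.card X = r) (hQ : IsPGroup q Q) (hXQ : X ≤ Subgroup.normalizer (Q : Set G)) (hXfaith : X ⊓ Subgroup.centralizer (Q : Set G) = ⊥) (hV : Cfsg.IsElementaryAbelian p V) (hV1 : V ≠ ⊥) (hXV : X ≤ Subgroup.normalizer (V : Set G)) (hQV : Q ≤ Subgroup.normalizer (V : Set G)) (hfaith : (X ⊔ Q) ⊓ Subgroup.centralizer (V : Set G) = ⊥) (hexc : q = 2 → (∃ n : ℕ, r = 2 ^ n + 1) → IsMulCommutative Q) : V ⊓ Subgroup.centralizer (X : Set G) ≠ ⊥ := by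
  classical
  intro hCV
  haveI : Fact r.Prime := ⟨hr⟩
  -- a generator of X
  haveI : Nontrivial ↥X := by
    apply (Finite.one_lt_card_iff_nontrivial).1
    rw [hX]; exact hr.one_lt
  obtain ⟨x₀, hx₀⟩ := exists_ne (1 : ↥X)
  have hzp : Subgroup.zpowers x₀ = ⊤ := zpowers_eq_top_of_prime_card hX hx₀
  obtain ⟨x, hxX, hxx₀⟩ : ∃ x : G, ∃ h : x ∈ X, (⟨x, h⟩ : ↥X) = x₀ := ⟨x₀, x₀.2, rfl⟩
  have hx1 : x ≠ 1 := by
    intro h
    apply hx₀
    rw [← hxx₀]
    exact Subtype.ext h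
  have hxr : x ^ r = 1 := by
    have h1 : x₀ ^ Nat.card ↥X = 1 := pow_card_eq_one'
    rw [hX, ← hxx₀] at h1
    have := congrArg Subtype.val h1
    simpa using this
  have hXpow : ∀ y ∈ X, ∃ n : ℤ, x ^ n = y := by
    intro y hy
    have h1 : (⟨y, hy⟩ : ↥X) ∈ Subgroup.zpowers x₀ := by rw [hzp]; trivial
    obtain ⟨n, hn⟩ := Subgroup.mem_zpowers_iff.1 h1
    refine ⟨n, ?_⟩
    have := congrArg Subtype.val hn
    rw [← hxx₀] at this
    simpa using this
  -- the acting group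
  have hΓV : X ⊔ Q ≤ Subgroup.normalizer (V : Set G) := sup_le hXV hQV
  obtain ⟨ψ, hψ⟩ : ∃ ψ : ↥(X ⊔ Q) →* MulAut ↥V, ψ = Cfsg.Agent.S1446.conjAct V (X ⊔ Q) hΓV :=
    ⟨_, rfl⟩
  have hψapp : ∀ (g : ↥(X ⊔ Q)) (v : ↥V), ((ψ g v : ↥V) : G) = (g : G) * v * (g : G)⁻¹ := by
    intro g v
    rw [hψ, Cfsg.Agent.S1446.conjAct_apply]
  have hψker : ∀ g : ↥(X ⊔ Q), ψ g = 1 → g = 1 := by
    intro g hg
    have h1 : (g : G) ∈ (X ⊔ Q) ⊓ Subgroup.centralizer (V : Set G) := by
      refine ⟨g.2, ?_⟩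
      change (g : G) ∈ Subgroup.centralizer (V : Set G)
      rw [Subgroup.mem_centralizer_iff]
      intro v hv
      have h2 := congrArg (fun e : MulAut ↥V => ((e ⟨v, hv⟩ : ↥V) : G)) hg
      simp only [MulAut.one_apply] at h2
      rw [hψapp] at h2
      change (g : G) * v * (g : G)⁻¹ = v at h2
      rw [mul_inv_eq_iff_eq_mul] at h2
      exact h2.symm
    rw [hfaith, Subgroup.mem_bot] at h1
    exact Subtype.ext h1
  obtain ⟨x', hx'⟩ : ∃ x' : ↥(X ⊔ Q), (x' : G) = x := ⟨⟨x, le_sup_left (a := X) hxX⟩, rfl⟩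
  have hcommV : ∀ a b : ↥V, a * b = b * a := fun a b => hV.1.is_comm.comm a b
  have hexpV : ∀ a : ↥V, a ^ p = 1 := by
    intro a
    apply Subtype.ext
    have := hV.2 a a.2
    simpa using this
  have hxnc : x ∉ Subgroup.centralizer (Q : Set G) := by
    intro h
    have : x ∈ X ⊓ Subgroup.centralizer (Q : Set G) := ⟨hxX, h⟩
    rw [hXfaith, Subgroup.mem_bot] at this
    exact hx1 this
  have hmain := Cfsg.Agent.Helper3.Shult.shult_act_B (Γ := ↥(X ⊔ Q)) (A := ↥V) p q r hp hq hr hpq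
    hpr hqr hcommV hexpV ψ x'
    (by
      apply Subtype.ext
      rw [Subgroup.coe_pow, hx', hxr, Subgroup.coe_one])
    (Q.subgroupOf (X ⊔ Q)) hQ.comap_subtype
    (by
      intro g hg
      rw [Subgroup.mem_subgroupOf] at hg ⊢
      rw [Subgroup.coe_mul, Subgroup.coe_mul, Subgroup.coe_inv, hx']
      exact (Subgroup.mem_normalizer_iff.1 (hXQ hxX) _).1 hg)
    (by
      rw [Subgroup.mem_centralizer_iff] at hxnc
      push Not at hxnc
      obtain ⟨g, hg, hgx⟩ := hxnc
      refine ⟨⟨g, le_sup_right (a := X) hg⟩, Subgroup.mem_subgroupOf.2 hg, ?_⟩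
      intro heq
      have h1 : ψ (x' * ⟨g, le_sup_right (a := X) hg⟩ * x'⁻¹ * (⟨g, le_sup_right (a := X) hg⟩ : ↥(X ⊔ Q))⁻¹) = 1 := by
        rw [map_mul, heq, ← map_mul, mul_inv_cancel, map_one]
      have h2 := hψker _ h1
      have h3 := congrArg Subtype.val h2
      simp only [Subgroup.coe_mul, Subgroup.coe_inv, hx', Subgroup.coe_one] at h3
      apply hgx
      have h4 : x * g * x⁻¹ = g := by
        rw [mul_inv_eq_one] at h3
        exact h3
      rw [mul_inv_eq_iff_eq_mul] at h4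
      exact h4.symm)
    (by
      intro v hv
      have h1 := congrArg Subtype.val hv
      rw [hψapp, hx', mul_inv_eq_iff_eq_mul] at h1
      have h2 : (v : G) ∈ V ⊓ Subgroup.centralizer (X : Set G) := by
        refine ⟨v.2, ?_⟩
        change (v : G) ∈ Subgroup.centralizer (X : Set G)
        rw [Subgroup.mem_centralizer_iff]
        intro y hy
        obtain ⟨n, rfl⟩ := hXpow y hy
        have hc : Commute x (v : G) := h1
        exact (hc.zpow_left n).eq
      rw [hCV, Subgroup.mem_bot] at h2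
      exact Subtype.ext h2)
  obtain ⟨hq2, hfer, hnab⟩ := hmain
  apply hnab
  have hQc := hexc hq2 hfer
  intro g hg h hh
  rw [Subgroup.mem_subgroupOf] at hg hh
  congr 1
  apply Subtype.ext
  rw [Subgroup.coe_mul, Subgroup.coe_mul]
  have := hQc.is_comm.comm (⟨(g : G), hg⟩ : ↥Q) ⟨(h : G), hh⟩
  exact congrArg Subtype.val this


end Cfsg.Agent.S3765
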