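import Mathlib
import Cfsg.Statements.S3766
import Cfsg.Agent.Helper1.ChiefFitting

set_option autoImplicit false
open Cfsg

namespace Cfsg.Agent.S3766

/-- Let G be a finite solvable group and N a normal subgroup of G. Call a pair V < U of normal subgroups of G a chief factor of G when no normal subgroup of G lies strictly between them; an element g centralizes the chief factor U/V when u g u⁻¹ g⁻¹ ∈ V for all u ∈ U. Then an element of G lies in the Fitting subgroup F(N) if and only if it lies in N and centralizes every chief factor of G; and also if and only if it lies in N and centralizes every chief factor U/V of G with U ≤ F(N). -/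
theorem result {G : Type*} [Group G] [Finite G] (hG : Group.IsSolvable G) (N : Subgroup G) [N.Normal] (g : G) : (g ∈ (Cfsg.fittingSubgroup ↥N).map N.subtype ↔ g ∈ N ∧ ∀ U V : Subgroup G, (U.Normal ∧ V.Normal ∧ V < U ∧ ∀ W : Subgroup G, W.Normal → V ≤ W → W ≤ U → W = V ∨ W = U) → ∀ u ∈ U, u * g * u⁻¹ * g⁻¹ ∈ V) ∧ (g ∈ (Cfsg.fittingSubgroup ↥N).map N.subtype ↔ g ∈ N ∧ ∀ U V : Subgroup G, (U.Normal ∧ V.Normal ∧ V < U ∧ ∀ W : Subgroup G, W.Normal → V ≤ W → W ≤ U → W = V ∨ W = U) → U ≤ (Cfsg.fittingSubgroup ↥N).map N.subtype → ∀ u ∈ U, u * g * u⁻¹ * g⁻¹ ∈ V) := by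
  obtain ⟨h1, h2⟩ := Cfsg.Agent.Helper1.ChiefFitting.fitting_normal_eq_chiefCent hG N
  constructor
  · rw [h1]
    constructor
    · intro hg
      exact ⟨hg.1, fun U V h => hg.2 U V h le_top⟩
    · intro hg
      exact ⟨hg.1, fun U V h _ => hg.2 U V h⟩
  · constructor
    · intro hg
      rw [h2] at hg
      exact ⟨hg.1, fun U V h => hg.2 U V h⟩
    · intro hg
      rw [h2]
      exact ⟨hg.1, fun U V h => hg.2 U V h⟩

end Cfsg.Agent.S3766
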