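import Mathlib
import Cfsg.Statements.S3767
import Cfsg.Agent.Helper3.ExtraCore
import Cfsg.Agent.Helper1.Coprime
-- import your own Cfsg.Agent.* helpers here

set_option autoImplicit false
open Cfsg

namespace Cfsg.Agent.S3767

universe u

open Polynomial

section LemC

variable {p : ℕ} [hp : Fact p.Prime] {W : Type u} [AddCommGroup W] [Module (ZMod p) W]
  [FiniteDimensional (ZMod p) W] [Nontrivial W] (T : Module.End (ZMod p) W)
  (hirr : ∀ U : Submodule (ZMod p) W, (∀ x ∈ U, T x ∈ U) → U = ⊥ ∨ U = ⊤)

theorem isIntegral_T : IsIntegral (ZMod p) T := Algebra.IsIntegral.isIntegral T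

include hirr in
theorem injective_of_ne_zero (a : (ZMod p)[X]) (ha : aeval T a ≠ 0) :
    Function.Injective (aeval T a) := by
  have hinv : ∀ x ∈ LinearMap.ker (aeval T a), T x ∈ LinearMap.ker (aeval T a) := by
    intro x hx
    rw [LinearMap.mem_ker] at hx ⊢
    have hcomm : aeval T a * T = T * aeval T a := by
      have h2 : aeval T (a * X) = aeval T a * T := by rw [map_mul, aeval_X]
      have h3 : aeval T (X * a) = T * aeval T a := by rw [map_mul, aeval_X]
      rw [← h2, ← h3, mul_comm]
    have : (aeval T a * T) x = (T * aeval T a) x := by rw [hcomm]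
    rw [Module.End.mul_apply, Module.End.mul_apply, hx, map_zero] at this
    exact this
  rcases hirr _ hinv with h | h
  · exact LinearMap.ker_eq_bot.1 h
  · exfalso
    apply ha
    exact LinearMap.ker_eq_top.1 h

include hirr in
theorem irreducible_minpoly : Irreducible (minpoly (ZMod p) T) := by
  have hint := isIntegral_T T
  have hmonic := minpoly.monic hint
  have hg0 : aeval T (minpoly (ZMod p) T) = 0 := minpoly.aeval _ _
  rw [irreducible_iff]
  refine ⟨minpoly.not_isUnit _ _, ?_⟩
  intro a b hab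
  by_contra hcon
  push Not at hcon
  obtain ⟨hau, hbu⟩ := hcon
  have hne : minpoly (ZMod p) T ≠ 0 := hmonic.ne_zero
  have ha0 : a ≠ 0 := by rintro rfl; rw [zero_mul] at hab; exact hne hab
  have hb0 : b ≠ 0 := by rintro rfl; rw [mul_zero] at hab; exact hne hab
  have hda : 0 < a.natDegree := by
    rw [Nat.pos_iff_ne_zero]
    intro h
    apply hau
    rw [Polynomial.isUnit_iff]
    obtain ⟨c, hc⟩ := Polynomial.natDegree_eq_zero.1 h
    refine ⟨c, ?_, hc⟩
    rw [isUnit_iff_ne_zero]
    rintro rfl
    rw [map_zero] at hc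
    exact ha0 hc.symm
  have hdb : 0 < b.natDegree := by
    rw [Nat.pos_iff_ne_zero]
    intro h
    apply hbu
    rw [Polynomial.isUnit_iff]
    obtain ⟨c, hc⟩ := Polynomial.natDegree_eq_zero.1 h
    refine ⟨c, ?_, hc⟩
    rw [isUnit_iff_ne_zero]
    rintro rfl
    rw [map_zero] at hc
    exact hb0 hc.symm
  have hdeg : (minpoly (ZMod p) T).natDegree = a.natDegree + b.natDegree := by
    rw [hab, Polynomial.natDegree_mul ha0 hb0]
  have haT : aeval T a ≠ 0 := by
    intro h
    have := Polynomial.natDegree_le_natDegree (minpoly.degree_le_of_ne_zero (ZMod p) T ha0 h)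
    omega
  have hbT : aeval T b ≠ 0 := by
    intro h
    have := Polynomial.natDegree_le_natDegree (minpoly.degree_le_of_ne_zero (ZMod p) T hb0 h)
    omega
  have hia := injective_of_ne_zero T hirr a haT
  have hib := injective_of_ne_zero T hirr b hbT
  obtain ⟨x, hx⟩ := exists_ne (0 : W)
  apply hx
  apply hib
  apply hia
  have : (aeval T a * aeval T b) x = 0 := by
    rw [← map_mul, ← hab, hg0]; rfl
  rw [map_zero, map_zero]
  exact this

/-- `Φ : AdjoinRoot g → End W`. -/
noncomputable def Phi : AdjoinRoot (minpoly (ZMod p) T) →ₐ[ZMod p] Module.End (ZMod p) W :=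
  Ideal.Quotient.liftₐ (Ideal.span {minpoly (ZMod p) T}) (aeval T) (by
    intro a ha
    rw [Ideal.mem_span_singleton] at ha
    obtain ⟨c, rfl⟩ := ha
    rw [map_mul, minpoly.aeval, zero_mul])

theorem Phi_mk (f : (ZMod p)[X]) : Phi T (AdjoinRoot.mk _ f) = aeval T f := rfl

theorem Phi_root : Phi T (AdjoinRoot.root _) = T := by
  rw [← AdjoinRoot.mk_X, Phi_mk, aeval_X]

include hirr in
theorem fact_irr : Fact (Irreducible (minpoly (ZMod p) T)) := ⟨irreducible_minpoly T hirr⟩

include hirr in
theorem finrank_eq : Module.finrank (ZMod p) W = (minpoly (ZMod p) T).natDegree := by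
  haveI := fact_irr T hirr
  obtain ⟨w, hw⟩ := exists_ne (0 : W)
  set ψ : AdjoinRoot (minpoly (ZMod p) T) →ₗ[ZMod p] W :=
    (LinearMap.applyₗ w).comp (Phi T).toLinearMap with hψ
  have hψa : ∀ x, ψ x = Phi T x w := fun x => rfl
  have hinj : Function.Injective ψ := by
    rw [injective_iff_map_eq_zero]
    intro x hx
    by_contra hx0
    apply hw
    have h1 : Phi T (x⁻¹ * x) = 1 := by rw [inv_mul_cancel₀ hx0, map_one]
    have h2 : (Phi T (x⁻¹ * x)) w = w := by rw [h1]; rfl
    rw [map_mul, Module.End.mul_apply, ← hψa x, hx, map_zero] at h2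
    exact h2.symm
  have hsurj : Function.Surjective ψ := by
    rw [← LinearMap.range_eq_top]
    have hinv : ∀ y ∈ LinearMap.range ψ, T y ∈ LinearMap.range ψ := by
      rintro _ ⟨x, rfl⟩
      refine ⟨AdjoinRoot.root _ * x, ?_⟩
      rw [hψa, hψa, map_mul, Phi_root, Module.End.mul_apply]
    rcases hirr _ hinv with h | h
    · exfalso
      apply hw
      have : ψ 1 ∈ LinearMap.range ψ := ⟨1, rfl⟩
      rw [h, Submodule.mem_bot, hψa, map_one] at this
      exact this
    · exact h
  have e := LinearEquiv.ofBijective ψ ⟨hinj, hsurj⟩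
  rw [← e.finrank_eq]
  have hne : minpoly (ZMod p) T ≠ 0 := (minpoly.monic (isIntegral_T T)).ne_zero
  rw [(AdjoinRoot.powerBasis hne).finrank, AdjoinRoot.powerBasis_dim]

theorem dvd_of_exact {m N : ℕ} (hm : T ^ m = 1)
    (hex : ∀ j, 0 < j → j < m → T ^ j ≠ 1) (hm0 : 0 < m) (hN : T ^ N = 1) : m ∣ N := by
  have h1 : T ^ (N % m) = 1 := by
    have h2 : T ^ N = T ^ (N % m) * (T ^ m) ^ (N / m) := by
      rw [← pow_mul, ← pow_add, Nat.mod_add_div]
    rw [hm, one_pow, mul_one] at h2
    rw [← h2, hN]
  by_contra hnd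
  have h3 : 0 < N % m := Nat.pos_of_ne_zero (fun h => hnd (Nat.dvd_of_mod_eq_zero h))
  exact hex _ h3 (Nat.mod_lt _ hm0) h1

include hirr in
theorem Phi_injective : Function.Injective (Phi T) := by
  haveI := fact_irr T hirr
  exact (Phi T).toRingHom.injective

include hirr in
theorem root_pow_eq_one_iff (N : ℕ) :
    (AdjoinRoot.root (minpoly (ZMod p) T)) ^ N = 1 ↔ T ^ N = 1 := by
  constructor
  · intro h
    have := congrArg (Phi T) h
    rwa [map_pow, Phi_root, map_one] at this
  · intro h
    apply Phi_injective T hirr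
    rw [map_pow, Phi_root, map_one, h]

include hirr in
theorem C1 {m : ℕ} (hm : T ^ m = 1) (hex : ∀ j, 0 < j → j < m → T ^ j ≠ 1) (hm0 : 0 < m) :
    m ∣ p ^ (Module.finrank (ZMod p) W) - 1 := by
  haveI := fact_irr T hirr
  have hne : minpoly (ZMod p) T ≠ 0 := (minpoly.monic (isIntegral_T T)).ne_zero
  haveI : Module.Finite (ZMod p) (AdjoinRoot (minpoly (ZMod p) T)) :=
    (AdjoinRoot.powerBasis hne).finite
  haveI : Finite (AdjoinRoot (minpoly (ZMod p) T)) := Module.finite_of_finite (ZMod p)
  haveI : Fintype (AdjoinRoot (minpoly (ZMod p) T)) := Fintype.ofFinite _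
  apply dvd_of_exact T hm hex hm0
  rw [← root_pow_eq_one_iff T hirr]
  have hα0 : AdjoinRoot.root (minpoly (ZMod p) T) ≠ 0 := by
    intro h
    have h1 := (root_pow_eq_one_iff T hirr m).2 hm
    rw [h, zero_pow hm0.ne'] at h1
    exact zero_ne_one h1
  have hcard : Fintype.card (AdjoinRoot (minpoly (ZMod p) T)) =
      p ^ (Module.finrank (ZMod p) W) := by
    rw [Module.card_eq_pow_finrank (K := ZMod p), ZMod.card, finrank_eq T hirr,
      (AdjoinRoot.powerBasis hne).finrank, AdjoinRoot.powerBasis_dim]
  rw [← hcard]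
  exact FiniteField.pow_card_sub_one_eq_one _ hα0

include hirr in
theorem C2 {m : ℕ} (hm : T ^ m = 1) (hex : ∀ j, 0 < j → j < m → T ^ j ≠ 1) (hm2 : 2 < m)
    (B : W →ₗ[ZMod p] W →ₗ[ZMod p] ZMod p) (hBT : ∀ v w, B (T v) (T w) = B v w)
    (hnd : ∀ u, (∀ v, B v u = 0) → u = 0) :
    ∃ e : ℕ, Module.finrank (ZMod p) W = 2 * e ∧ m ∣ p ^ e + 1 := by
  haveI := fact_irr T hirr
  have hm0 : 0 < m := by omega
  have hne : minpoly (ZMod p) T ≠ 0 := (minpoly.monic (isIntegral_T T)).ne_zero
  haveI : Module.Finite (ZMod p) (AdjoinRoot (minpoly (ZMod p) T)) :=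
    (AdjoinRoot.powerBasis hne).finite
  haveI : Finite (AdjoinRoot (minpoly (ZMod p) T)) := Module.finite_of_finite (ZMod p)
  set g := minpoly (ZMod p) T with hg
  set α := AdjoinRoot.root g with hα
  -- the inverse of `T`
  set T' := T ^ (m - 1) with hT'
  have hTT' : T * T' = 1 := by rw [hT', ← pow_succ', Nat.sub_add_cancel hm0, hm]
  have adj1 : ∀ v w, B (T v) w = B v (T' w) := by
    intro v w
    have h1 : w = T (T' w) := by
      have : (T * T') w = w := by rw [hTT']; rfl
      exact this.symm
    conv_lhs => rw [h1]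
    exact hBT v (T' w)
  have adjpow : ∀ (i : ℕ) v w, B ((T ^ i) v) w = B v ((T' ^ i) w) := by
    intro i
    induction i with
    | zero => intro v w; simp
    | succ i ih =>
      intro v w
      rw [pow_succ', Module.End.mul_apply, adj1, ih, pow_succ, Module.End.mul_apply]
  have adjpoly : ∀ (f : (ZMod p)[X]) v w, B (aeval T f v) w = B v (aeval T' f w) := by
    intro f
    induction f using Polynomial.induction_on' with
    | add a b ha hb =>
      intro v w
      rw [map_add, map_add, LinearMap.add_apply, LinearMap.add_apply, map_add,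
        LinearMap.add_apply, map_add, ha, hb]
    | monomial i c =>
      intro v w
      rw [aeval_monomial, aeval_monomial]
      simp only [Module.End.mul_apply, Module.algebraMap_end_apply, map_smul, LinearMap.smul_apply]
      rw [adjpow]
  have hgT' : aeval T' g = 0 := by
    apply LinearMap.ext
    intro w
    apply hnd
    intro v
    rw [← adjpoly, hg, minpoly.aeval]
    simp
  -- `β`
  set β := α ^ (m - 1) with hβ
  have hΦβ : Phi T β = T' := by rw [hβ, map_pow, hα, Phi_root]
  have hβroot : aeval β g = 0 := by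
    apply Phi_injective T hirr
    rw [← Polynomial.aeval_algHom_apply, hΦβ, hgT', map_zero]
  have hαm : α ^ m = 1 := (root_pow_eq_one_iff T hirr m).2 hm
  have hαβ : α * β = 1 := by rw [hβ, ← pow_succ', Nat.sub_add_cancel hm0, hαm]
  -- the automorphism
  set σ : AdjoinRoot g →ₐ[ZMod p] AdjoinRoot g :=
    AdjoinRoot.liftAlgHom g (Algebra.ofId (ZMod p) (AdjoinRoot g)) β (by
      rw [← hβroot, Polynomial.aeval_def]; rfl) with hσ
  have hσα : σ α = β := by rw [hσ, hα, AdjoinRoot.liftAlgHom_root]
  have hσβ : σ β = α := by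
    have h1 : σ α * σ β = 1 := by rw [← map_mul, hαβ, map_one]
    rw [hσα] at h1
    have h2 : β ≠ 0 := by
      intro h
      rw [h, mul_zero] at hαβ
      exact zero_ne_one hαβ
    calc σ β = (α * β) * σ β := by rw [hαβ, one_mul]
      _ = α * (β * σ β) := by ring
      _ = α := by rw [h1, mul_one]
  have hσσ : σ * σ = 1 := by
    apply AdjoinRoot.algHom_ext
    rw [AlgHom.mul_apply, ← hα, hσα, hσβ]
    rfl
  obtain ⟨j, hj⟩ := (FiniteField.bijective_frobeniusAlgHom_pow (ZMod p) (AdjoinRoot g)).2 σ
  simp only at hj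
  have hfr : Module.finrank (ZMod p) (AdjoinRoot g) = Module.finrank (ZMod p) W := by
    rw [finrank_eq T hirr, (AdjoinRoot.powerBasis hne).finrank, AdjoinRoot.powerBasis_dim]
  have hσpow : ∀ x, σ x = x ^ (p ^ (j : ℕ)) := by
    intro x
    rw [← hj, AlgHom.coe_pow, FiniteField.coe_frobeniusAlgHom, pow_iterate, ZMod.card]
  have hdvd : Module.finrank (ZMod p) (AdjoinRoot g) ∣ 2 * (j : ℕ) := by
    have h1 : (FiniteField.frobeniusAlgHom (ZMod p) (AdjoinRoot g)) ^ (2 * (j : ℕ)) = 1 := by
      rw [two_mul, pow_add, hj, hσσ]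
    have h2 := orderOf_dvd_of_pow_eq_one h1
    rwa [FiniteField.orderOf_frobeniusAlgHom (ZMod p) (AdjoinRoot g)] at h2
  have hjlt : (j : ℕ) < Module.finrank (ZMod p) (AdjoinRoot g) := j.2
  have hαpow : α ^ (p ^ (j : ℕ) + 1) = 1 := by
    rw [pow_succ, ← hσpow, hσα, mul_comm, hαβ]
  have hmdvd : m ∣ p ^ (j : ℕ) + 1 :=
    dvd_of_exact T hm hex hm0 ((root_pow_eq_one_iff T hirr _).1 hαpow)
  refine ⟨(j : ℕ), ?_, hmdvd⟩
  rw [← hfr]
  obtain ⟨c, hc⟩ := hdvd
  rcases Nat.eq_zero_or_pos (j : ℕ) with hj0 | hjpos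
  · exfalso
    rw [hj0, pow_zero] at hmdvd
    have : m ≤ 2 := Nat.le_of_dvd (by norm_num) hmdvd
    omega
  · have hc1 : c = 1 := by
      have hcpos : 0 < c := by
        rcases Nat.eq_zero_or_pos c with h | h
        · rw [h, mul_zero] at hc; omega
        · exact h
      by_contra hcne
      have : 2 ≤ c := by omega
      have h3 : 2 * Module.finrank (ZMod p) (AdjoinRoot g) ≤
          Module.finrank (ZMod p) (AdjoinRoot g) * c := by
        rw [mul_comm]; exact Nat.mul_le_mul_left _ this
      omega
    rw [hc1, mul_one] at hc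
    exact hc.symm

end LemC

section Restr

variable {p : ℕ} [hp : Fact p.Prime] {V : Type u} [AddCommGroup V] [Module (ZMod p) V]
  (T : Module.End (ZMod p) V) (X : Submodule (ZMod p) V) (hX : ∀ x ∈ X, T x ∈ X)

theorem restrict_pow_apply (j : ℕ) (x : X) :
    (((T.restrict hX) ^ j) x : V) = (T ^ j) (x : V) := by
  induction j generalizing x with
  | zero => simp
  | succ j ih =>
    rw [pow_succ, Module.End.mul_apply, ih, pow_succ, Module.End.mul_apply]
    rfl

theorem restrict_pow_eq_one {m : ℕ} (hm : T ^ m = 1) : (T.restrict hX) ^ m = 1 := by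
  apply LinearMap.ext
  intro x
  apply Subtype.ext
  rw [restrict_pow_apply, hm]
  rfl

theorem restrict_semi {m : ℕ} (hsemi : ∀ j, 0 < j → j < m → ∀ v, (T ^ j) v = v → v = 0) :
    ∀ j, 0 < j → j < m → ∀ v, ((T.restrict hX) ^ j) v = v → v = 0 := by
  intro j hj hjm v hv
  apply Subtype.ext
  apply hsemi j hj hjm
  rw [← restrict_pow_apply T X hX, hv]

theorem restrict_exact [Nontrivial X] {m : ℕ}
    (hsemi : ∀ j, 0 < j → j < m → ∀ v, (T ^ j) v = v → v = 0) :
    ∀ j, 0 < j → j < m → (T.restrict hX) ^ j ≠ 1 := by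
  intro j hj hjm h
  obtain ⟨x, hx⟩ := exists_ne (0 : X)
  apply hx
  apply restrict_semi T X hX hsemi j hj hjm
  rw [h]; rfl

end Restr

section ThmA

variable {p : ℕ} [hp : Fact p.Prime]

/-- the orthogonal complement of an invariant subspace is invariant. -/
theorem orthogonal_invariant {V : Type u} [AddCommGroup V] [Module (ZMod p) V]
    (B : LinearMap.BilinForm (ZMod p) V) (T : Module.End (ZMod p) V) {m : ℕ} (hm0 : 0 < m)
    (hBT : ∀ v w, B (T v) (T w) = B v w) (hTm : T ^ m = 1)
    (X : Submodule (ZMod p) V) (hX : ∀ x ∈ X, T x ∈ X) :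
    ∀ x ∈ B.orthogonal X, T x ∈ B.orthogonal X := by
  intro x hx
  rw [LinearMap.BilinForm.mem_orthogonal_iff] at hx ⊢
  intro w hw
  have hTT' : T * T ^ (m - 1) = 1 := by rw [← pow_succ', Nat.sub_add_cancel hm0, hTm]
  have h1 : w = T ((T ^ (m - 1)) w) := by
    have : (T * T ^ (m - 1)) w = w := by rw [hTT']; rfl
    exact this.symm
  have hpow : ∀ j : ℕ, (T ^ j) w ∈ X := by
    intro j
    induction j with
    | zero => simpa using hw
    | succ j ih => rw [pow_succ', Module.End.mul_apply]; exact hX _ ih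
  show B w (T x) = 0
  rw [h1, hBT]
  exact hx _ (hpow _)

theorem thmA (m : ℕ) (hm2 : 2 < m) (hmp : m.Coprime p) :
    ∀ (n : ℕ) (V : Type u) [AddCommGroup V] [Module (ZMod p) V] [FiniteDimensional (ZMod p) V]
      (B : LinearMap.BilinForm (ZMod p) V) (T : Module.End (ZMod p) V),
      Module.finrank (ZMod p) V = 2 * n → B.IsAlt → B.Nondegenerate →
      (∀ v w, B (T v) (T w) = B v w) → T ^ m = 1 →
      (∀ j, 0 < j → j < m → ∀ v, (T ^ j) v = v → v = 0) →
      ((p : ZMod m) ^ n = 1 ∨ (p : ZMod m) ^ n = -1) := by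
  intro n
  induction n using Nat.strong_induction_on with
  | _ n ih =>
  intro V _ _ _ B T hdim halt hnd hBT hTm hsemi
  rcases Nat.eq_zero_or_pos n with rfl | hnpos
  · left; simp
  have hm0 : 0 < m := by omega
  have hrefl : B.IsRefl := halt.isRefl
  -- the recursion step
  have recurse : ∀ (X : Submodule (ZMod p) V), (∀ x ∈ X, T x ∈ X) →
      Disjoint X (B.orthogonal X) → ∀ c : ℕ, Module.finrank (ZMod p) X = 2 * c → 1 ≤ c →
      c ≤ n ∧ ((p : ZMod m) ^ (n - c) = 1 ∨ (p : ZMod m) ^ (n - c) = -1) := by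
    intro X hX hdisj c hc hc1
    have hle : Module.finrank (ZMod p) X ≤ Module.finrank (ZMod p) V := Submodule.finrank_le X
    have hcn : c ≤ n := by omega
    refine ⟨hcn, ?_⟩
    set V₁ := B.orthogonal X with hV₁
    have hV₁inv := orthogonal_invariant B T hm0 hBT hTm X hX
    have hfr : Module.finrank (ZMod p) V₁ = 2 * (n - c) := by
      rw [hV₁, LinearMap.BilinForm.finrank_orthogonal hnd, hdim, hc]; omega
    have hoo : B.orthogonal V₁ = X := LinearMap.BilinForm.orthogonal_orthogonal hnd hrefl X
    have hnd₁ : (B.restrict V₁).Nondegenerate := by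
      apply LinearMap.BilinForm.nondegenerate_restrict_of_disjoint_orthogonal B hrefl
      rw [hoo]; exact hdisj.symm
    have halt₁ : (B.restrict V₁).IsAlt := fun x => halt (x : V)
    exact ih (n - c) (by omega) V₁ (B.restrict V₁) (T.restrict hV₁inv) hfr halt₁ hnd₁
      (fun v w => hBT (v : V) (w : V)) (restrict_pow_eq_one T V₁ hV₁inv hTm)
      (restrict_semi T V₁ hV₁inv hsemi)
  -- `V` is finite and nontrivial
  haveI : Finite V := Module.finite_of_finite (ZMod p)
  haveI : Nontrivial V := by
    apply Module.nontrivial_of_finrank_pos (R := ZMod p)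
    rw [hdim]; omega
  -- a minimal nonzero invariant subspace
  let S : Set (Submodule (ZMod p) V) := {U | U ≠ ⊥ ∧ ∀ x ∈ U, T x ∈ U}
  have hSfin : S.Finite := Set.toFinite S
  have htop : (⊤ : Submodule (ZMod p) V) ∈ S := ⟨top_ne_bot, fun x _ => Submodule.mem_top⟩
  obtain ⟨W, -, hWmin⟩ := hSfin.exists_le_minimal htop
  obtain ⟨hWne, hWinv⟩ : W ∈ S := hWmin.prop
  have hWmin' : ∀ U : Submodule (ZMod p) V, U ≠ ⊥ → (∀ x ∈ U, T x ∈ U) → U ≤ W → W ≤ U :=
    fun U h1 h2 h3 => hWmin.2 ⟨h1, h2⟩ h3
  haveI : Nontrivial W := Submodule.nontrivial_iff_ne_bot.2 hWne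
  set TW := T.restrict hWinv with hTW
  have hirr : ∀ U : Submodule (ZMod p) W, (∀ x ∈ U, TW x ∈ U) → U = ⊥ ∨ U = ⊤ := by
    intro U hU
    by_cases hUb : U = ⊥
    · exact Or.inl hUb
    · right
      have h1 : U.map W.subtype ≠ ⊥ := by
        intro h
        apply hUb
        rw [eq_bot_iff]
        intro x hx
        have : (x : V) ∈ U.map W.subtype := ⟨x, hx, rfl⟩
        rw [h, Submodule.mem_bot] at this
        rw [Submodule.mem_bot]
        exact Subtype.ext this
      have h2 : ∀ x ∈ U.map W.subtype, T x ∈ U.map W.subtype := by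
        rintro _ ⟨x, hx, rfl⟩
        exact ⟨TW x, hU x hx, rfl⟩
      have h3 : U.map W.subtype ≤ W := by
        rintro _ ⟨x, -, rfl⟩
        exact x.2
      have h4 := hWmin' _ h1 h2 h3
      rw [eq_top_iff]
      intro x _
      obtain ⟨y, hy, hyx⟩ := h4 x.2
      have : y = x := Subtype.ext hyx
      rw [← this]; exact hy
  have hTWm : TW ^ m = 1 := restrict_pow_eq_one T W hWinv hTm
  have hTWex := restrict_exact T W hWinv hsemi
  set d := Module.finrank (ZMod p) W with hd
  have hd1 : 1 ≤ d := Module.finrank_pos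
  have hC1 : m ∣ p ^ d - 1 := C1 TW hirr hTWm hTWex hm0
  -- dichotomy
  have hOinv := orthogonal_invariant B T hm0 hBT hTm W hWinv
  have hdich : W ⊓ B.orthogonal W = ⊥ ∨ W ≤ B.orthogonal W := by
    by_cases h : W ⊓ B.orthogonal W = ⊥
    · exact Or.inl h
    · right
      have h1 := hWmin' (W ⊓ B.orthogonal W) h
        (fun x hx => ⟨hWinv x hx.1, hOinv x hx.2⟩) inf_le_left
      exact h1.trans inf_le_right
  rcases hdich with hND | hISO
  · -- nondegenerate case
    have hdisj : Disjoint W (B.orthogonal W) := disjoint_iff.2 hND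
    have hndW : (B.restrict W).Nondegenerate :=
      LinearMap.BilinForm.nondegenerate_restrict_of_disjoint_orthogonal B hrefl hdisj
    obtain ⟨e, hde, hme⟩ := C2 TW hirr hTWm hTWex hm2 (B.restrict W)
      (fun v w => hBT (v : V) (w : V)) hndW.2
    have he1 : 1 ≤ e := by omega
    obtain ⟨hen, hrec⟩ := recurse W hWinv hdisj e hde he1
    have hpe : (p : ZMod m) ^ e = -1 := by
      have h1 : ((p ^ e + 1 : ℕ) : ZMod m) = 0 := (ZMod.natCast_eq_zero_iff _ _).2 hme
      push_cast at h1
      exact eq_neg_of_add_eq_zero_left h1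
    have hsplit : (p : ZMod m) ^ n = (p : ZMod m) ^ (n - e) * (p : ZMod m) ^ e := by
      rw [← pow_add, Nat.sub_add_cancel hen]
    rw [hsplit, hpe]
    rcases hrec with h | h
    · right; rw [h, one_mul]
    · left; rw [h]; ring
  · -- isotropic case
    have hsq : Squarefree (X ^ m - 1 : (ZMod p)[X]) := by
      have hmne : ((m : ℕ) : ZMod p) ≠ 0 := by
        intro h
        rw [ZMod.natCast_eq_zero_iff] at h
        have := Nat.dvd_gcd h (dvd_refl p)
        rw [hmp] at this
        exact hp.out.one_lt.ne' (Nat.dvd_one.1 this)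
      have := Polynomial.separable_X_pow_sub_C (1 : ZMod p) hmne one_ne_zero
      rw [map_one] at this
      exact this.squarefree
    have hsemis : T.IsSemisimple := by
      apply Module.End.isSemisimple_of_squarefree_aeval_eq_zero hsq
      rw [map_sub, map_pow, aeval_X, map_one, hTm, sub_self]
    obtain ⟨U, hUinv, hUc⟩ := (Module.End.isSemisimple_iff.1 hsemis) (B.orthogonal W)
      (fun x hx => hOinv x hx)
    have hUinv' : ∀ x ∈ U, T x ∈ U := fun x hx => hUinv hx
    have hfrO : Module.finrank (ZMod p) (B.orthogonal W) = 2 * n - d := by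
      rw [LinearMap.BilinForm.finrank_orthogonal hnd, hdim]
    have hfrU : Module.finrank (ZMod p) U = d := by
      have h1 := Submodule.finrank_add_eq_of_isCompl hUc
      have h2 : d ≤ 2 * n := by rw [← hdim]; exact Submodule.finrank_le W
      omega
    set Xs := W ⊔ U with hXs
    have hXinv : ∀ x ∈ Xs, T x ∈ Xs := by
      intro x hx
      obtain ⟨w, hw, u, hu, rfl⟩ := Submodule.mem_sup.1 hx
      rw [map_add]
      exact Submodule.add_mem _ (Submodule.mem_sup_left (hWinv w hw))
        (Submodule.mem_sup_right (hUinv' u hu))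
    have hWU : W ⊓ U = ⊥ := by
      rw [eq_bot_iff]
      intro x hx
      have : x ∈ B.orthogonal W ⊓ U := ⟨hISO hx.1, hx.2⟩
      rwa [hUc.inf_eq_bot] at this
    have hfrX : Module.finrank (ZMod p) Xs = 2 * d := by
      have h1 := Submodule.finrank_sup_add_finrank_inf_eq W U
      rw [hWU, finrank_bot, add_zero, hfrU] at h1
      rw [hXs, h1]; omega
    have hXdisj : Disjoint Xs (B.orthogonal Xs) := by
      rw [disjoint_iff, eq_bot_iff]
      intro x hx
      have hxX : x ∈ Xs := hx.1
      have hxO : x ∈ B.orthogonal Xs := hx.2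
      obtain ⟨w, hw, u, hu, rfl⟩ := Submodule.mem_sup.1 hxX
      rw [LinearMap.BilinForm.mem_orthogonal_iff] at hxO
      have hu0 : u = 0 := by
        have h1 : u ∈ B.orthogonal W := by
          rw [LinearMap.BilinForm.mem_orthogonal_iff]
          intro w' hw'
          have h2 := hxO w' (Submodule.mem_sup_left hw')
          have h3 : B w' w = 0 := (LinearMap.BilinForm.mem_orthogonal_iff.1 (hISO hw)) w' hw'
          show B w' u = 0
          have h4 : B w' (w + u) = B w' w + B w' u := map_add _ _ _
          change B w' (w + u) = 0 at h2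
          rw [h4, h3, zero_add] at h2
          exact h2
        have : u ∈ B.orthogonal W ⊓ U := ⟨h1, hu⟩
        rwa [hUc.inf_eq_bot, Submodule.mem_bot] at this
      subst hu0
      rw [add_zero] at hxO ⊢
      rw [Submodule.mem_bot]
      apply hnd.2
      intro v
      have hv : v ∈ B.orthogonal W ⊔ U := by rw [hUc.sup_eq_top]; exact Submodule.mem_top
      obtain ⟨y, hy, u', hu', rfl⟩ := Submodule.mem_sup.1 hv
      have h1 : B y w = 0 := hrefl _ _ ((LinearMap.BilinForm.mem_orthogonal_iff.1 hy) w hw)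
      have h2 : B u' w = 0 := hxO u' (Submodule.mem_sup_right hu')
      rw [map_add, LinearMap.add_apply, h1, h2, add_zero]
    obtain ⟨hdn, hrec⟩ := recurse Xs hXinv hXdisj d hfrX hd1
    have hpd : (p : ZMod m) ^ d = 1 := by
      have h1 : ((p ^ d - 1 : ℕ) : ZMod m) = 0 := (ZMod.natCast_eq_zero_iff _ _).2 hC1
      have h2 : 1 ≤ p ^ d := Nat.one_le_pow _ _ hp.out.pos
      rw [Nat.cast_sub h2] at h1
      push_cast at h1
      exact sub_eq_zero.1 h1
    have hsplit : (p : ZMod m) ^ n = (p : ZMod m) ^ (n - d) * (p : ZMod m) ^ d := by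
      rw [← pow_add, Nat.sub_add_cancel hdn]
    rw [hsplit, hpd, mul_one]
    exact hrec

end ThmA

section Form
open Cfsg.Agent.Helper3.Extra

variable {p : ℕ} [hp : Fact p.Prime] {E : Type u} [Group E] (hE : InClass p E)

omit hp in
theorem cm_mul_left (u v e : E) : hE.cm (u * v) e = hE.cm u e * hE.cm v e := by
  rw [hE.cm_swap (u * v) e, map_mul, mul_inv_rev, ← hE.cm_swap, ← hE.cm_swap, mul_comm']

/-- the centre is cyclic of order `p` -/
noncomputable def logZ : Subgroup.center E ≃* Multiplicative (ZMod p) :=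
  mulEquivOfPrimeCardEq (p := p) hE.card_center (by
    show Nat.card (ZMod p) = p
    exact Nat.card_zmod p)

/-- the commutator pairing, lifted in the second variable -/
noncomputable def beta2 : E →* (Abelianization E →* Multiplicative (ZMod p)) where
  toFun u := Abelianization.lift ((logZ hE).toMonoidHom.comp (hE.cm u))
  map_one' := by
    apply Abelianization.hom_ext
    ext e
    simp only [MonoidHom.comp_apply, Abelianization.lift_apply_of, MonoidHom.one_apply]
    have : hE.cm 1 e = 1 := by
      rw [hE.cm_eq_one_iff]; exact Commute.one_left e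
    rw [this]
    simp
  map_mul' u v := by
    apply Abelianization.hom_ext
    ext e
    simp only [MonoidHom.comp_apply, Abelianization.lift_apply_of, MonoidHom.mul_apply]
    rw [cm_mul_left hE u v e]
    simp

/-- the commutator pairing on the abelianization -/
noncomputable def beta : Abelianization E →* (Abelianization E →* Multiplicative (ZMod p)) :=
  Abelianization.lift (beta2 hE)

theorem beta_of (x y : E) :
    beta hE (Abelianization.of x) (Abelianization.of y) = logZ hE (hE.cm x y) := by
  simp [beta, beta2, Abelianization.lift_apply_of]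

variable [Module (ZMod p) (Additive (Abelianization E))]

/-- the commutator form -/
noncomputable def formB : LinearMap.BilinForm (ZMod p) (Additive (Abelianization E)) :=
  AddMonoidHom.toZModLinearMap p
    (AddMonoidHom.mk' (fun x => AddMonoidHom.toZModLinearMap p
        (AddMonoidHom.mk' (fun y => Multiplicative.toAdd
            (beta hE (Additive.toMul x) (Additive.toMul y)))
          (by intro a b; simp [map_mul])))
      (by
        intro a b
        apply LinearMap.ext
        intro y
        simp [map_mul]))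

theorem formB_of (x y : E) :
    formB hE (Additive.ofMul (Abelianization.of x)) (Additive.ofMul (Abelianization.of y))
      = Multiplicative.toAdd (logZ hE (hE.cm x y)) := by
  simp only [formB, AddMonoidHom.coe_toZModLinearMap, AddMonoidHom.mk'_apply, toMul_ofMul, beta_of]

omit hp [Module (ZMod p) (Additive (Abelianization E))] in
theorem exists_of (v : Additive (Abelianization E)) :
    ∃ x : E, v = Additive.ofMul (Abelianization.of x) := by
  obtain ⟨x, hx⟩ := QuotientGroup.mk_surjective (Additive.toMul v)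
  exact ⟨x, by rw [← ofMul_toMul v]; exact congrArg _ hx.symm⟩

theorem formB_isAlt : (formB hE).IsAlt := by
  intro v
  obtain ⟨x, rfl⟩ := exists_of v
  rw [formB_of, hE.cm_self, map_one, toAdd_one]

omit hp [Module (ZMod p) (Additive (Abelianization E))] in
theorem ofMul_of_eq_zero_iff (hcomm : commutator E = Subgroup.center E) (x : E) :
    Additive.ofMul (Abelianization.of x) = 0 ↔ x ∈ Subgroup.center E := by
  rw [← hcomm, ← Abelianization.ker_of, MonoidHom.mem_ker]
  exact Iff.rfl

theorem formB_nondegenerate (hcomm : commutator E = Subgroup.center E) :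
    (formB hE).Nondegenerate := by
  constructor
  · intro v hv
    obtain ⟨x, rfl⟩ := exists_of v
    rw [ofMul_of_eq_zero_iff hcomm, Subgroup.mem_center_iff]
    intro g
    have h1 := hv (Additive.ofMul (Abelianization.of g))
    rw [formB_of] at h1
    have h2 : hE.cm x g = 1 := by
      have : logZ hE (hE.cm x g) = 1 := by
        rw [← toAdd_one] at h1
        exact Multiplicative.toAdd.injective h1
      exact (logZ hE).map_eq_one_iff.mp this
    exact ((hE.cm_eq_one_iff x g).mp h2).eq.symm
  · intro v hv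
    obtain ⟨x, rfl⟩ := exists_of v
    rw [ofMul_of_eq_zero_iff hcomm, Subgroup.mem_center_iff]
    intro g
    have h1 := hv (Additive.ofMul (Abelianization.of g))
    rw [formB_of] at h1
    have h2 : hE.cm g x = 1 := by
      have : logZ hE (hE.cm g x) = 1 := by
        rw [← toAdd_one] at h1
        exact Multiplicative.toAdd.injective h1
      exact (logZ hE).map_eq_one_iff.mp this
    exact ((hE.cm_eq_one_iff g x).mp h2).eq

end Form


section Act

variable {G : Type u} [Group G] (P : Subgroup G)

/-- conjugation by a normalizing element -/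
def conjP (g : G) (hg : g ∈ Subgroup.normalizer (P : Set G)) : ↥P →* ↥P where
  toFun x := ⟨g * x * g⁻¹, (Subgroup.mem_normalizer_iff.mp hg x).mp x.2⟩
  map_one' := by apply Subtype.ext; simp
  map_mul' a b := by apply Subtype.ext; simp [mul_assoc]

theorem conjP_coe (g : G) (hg : g ∈ Subgroup.normalizer (P : Set G)) (x : ↥P) :
    ((conjP P g hg x : ↥P) : G) = g * x * g⁻¹ := rfl

variable {p : ℕ} [Module (ZMod p) (Additive (Abelianization ↥P))]

/-- the induced action on the abelianization -/
noncomputable def actT (g : G) (hg : g ∈ Subgroup.normalizer (P : Set G)) :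
    Module.End (ZMod p) (Additive (Abelianization ↥P)) :=
  AddMonoidHom.toZModLinearMap p (MonoidHom.toAdditive (Abelianization.map (conjP P g hg)))

theorem actT_of (g : G) (hg : g ∈ Subgroup.normalizer (P : Set G)) (x : ↥P) :
    actT (p := p) P g hg (Additive.ofMul (Abelianization.of x))
      = Additive.ofMul (Abelianization.of (conjP P g hg x)) := rfl

theorem actT_pow (g : G) (hg : g ∈ Subgroup.normalizer (P : Set G)) (j : ℕ) (x : ↥P) :
    ((actT (p := p) P g hg) ^ j) (Additive.ofMul (Abelianization.of x))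
      = Additive.ofMul (Abelianization.of (conjP P (g ^ j) (pow_mem hg j) x)) := by
  induction j with
  | zero =>
    rw [pow_zero, Module.End.one_apply]
    congr 2
    apply Subtype.ext
    rw [conjP_coe]
    simp
  | succ j ih =>
    rw [pow_succ', Module.End.mul_apply, ih, actT_of]
    congr 2
    apply Subtype.ext
    rw [conjP_coe, conjP_coe, conjP_coe, pow_succ', mul_inv_rev]
    group

end Act


section PartB

open scoped commutatorElement

open Cfsg.Agent.Helper3.Extra in
theorem main_core {G : Type u} [Group G] [Finite G] {p : ℕ} [hp : Fact p.Prime] (P H : Subgroup G)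
    (hP : Cfsg.IsExtraspecial p ↥P) (n : ℕ) (hn : Nat.card P = p ^ (2 * n + 1)) (hH : IsCyclic H)
    (hcop : (Nat.card H).Coprime p) (hHP : H ≤ Subgroup.normalizer (P : Set G))
    (hfix : ∀ x ∈ H, x ≠ 1 → P ⊓ Subgroup.centralizer {x} = (Subgroup.center ↥P).map P.subtype)
    (hm2 : 2 < Nat.card H) [Module (ZMod p) (Additive (Abelianization ↥P))]
    [Finite (Additive (Abelianization ↥P))]
    (hfr : Module.finrank (ZMod p) (Additive (Abelianization ↥P)) = 2 * n) :
    ((p : ZMod (Nat.card H)) ^ n = 1 ∨ (p : ZMod (Nat.card H)) ^ n = -1) := by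
  classical
  have hE : InClass p ↥P := inClass_of_isExtraspecial hP
  have hcomm : commutator ↥P = Subgroup.center ↥P := hP.1.2.2
  have hof1 : ∀ x : ↥P, Abelianization.of x = 1 ↔ x ∈ Subgroup.center ↥P := by
    intro x
    rw [← hcomm, ← Abelianization.ker_of, MonoidHom.mem_ker]
  -- the form and the action
  obtain ⟨B, hBdef⟩ : ∃ B : LinearMap.BilinForm (ZMod p) (Additive (Abelianization ↥P)), B = formB hE := ⟨_, rfl⟩
  have halt : B.IsAlt := by rw [hBdef]; exact formB_isAlt hE
  have hnd : B.Nondegenerate := by rw [hBdef]; exact formB_nondegenerate hE hcomm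
  obtain ⟨h₀, hh₀⟩ : ∃ g : H, orderOf g = Nat.card H := IsCyclic.exists_ofOrder_eq_natCard
  have hord : orderOf (h₀ : G) = Nat.card H := by rw [Subgroup.orderOf_coe, hh₀]
  have hg₀N : (h₀ : G) ∈ Subgroup.normalizer (P : Set G) := hHP h₀.2
  obtain ⟨T, hTdef⟩ : ∃ T : Module.End (ZMod p) (Additive (Abelianization ↥P)), T = actT (p := p) P (h₀ : G) hg₀N := ⟨_, rfl⟩
  -- the centre as a subgroup of `G`
  set Z : Subgroup G := (Subgroup.center ↥P).map P.subtype with hZ
  have hZP : Z ≤ P := Subgroup.map_subtype_le _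
  have hpowH : ∀ j : ℕ, (h₀ : G) ^ j ∈ H := fun j => H.pow_mem h₀.2 j
  have hpow_ne : ∀ j : ℕ, 0 < j → j < Nat.card H → (h₀ : G) ^ j ≠ 1 := by
    intro j hj0 hjm
    exact pow_ne_one_of_lt_orderOf hj0.ne' (by rw [hord]; exact hjm)
  -- nontrivial elements of `H` centralize `Z`
  have hcz : ∀ a ∈ H, a ≠ 1 → ∀ z ∈ Z, a * z * a⁻¹ = z := by
    intro a ha hane z hz
    have h1 : z ∈ P ⊓ Subgroup.centralizer {a} := by rw [hfix a ha hane]; exact hz
    have h2 : z ∈ Subgroup.centralizer {a} := h1.2
    have h3 := Subgroup.mem_centralizer_iff.mp h2 a rfl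
    rw [h3]; group
  have hzmem : ∀ x y : ↥P, ((⁅x, y⁆ : ↥P) : G) ∈ Z := fun x y =>
    ⟨⁅x, y⁆, hE.comm_mem x y, rfl⟩
  have hmem_center : ∀ x : ↥P, (x : G) ∈ Z → x ∈ Subgroup.center ↥P := by
    intro x hx
    obtain ⟨z, hz, hzx⟩ := hx
    have : z = x := Subtype.ext hzx
    rwa [← this]
  have hone_lt : 1 < Nat.card H := by omega
  have hh₀ne : (h₀ : G) ≠ 1 := by
    have := hpow_ne 1 Nat.one_pos hone_lt
    rwa [pow_one] at this
  -- `T ^ m = 1`
  have hTm : T ^ (Nat.card H) = 1 := by
    apply LinearMap.ext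
    intro v
    obtain ⟨x, rfl⟩ := exists_of v
    rw [hTdef, actT_pow, Module.End.one_apply]
    congr 2
    apply Subtype.ext
    rw [conjP_coe, ← hord, pow_orderOf_eq_one]
    simp
  -- invariance of the form
  have hBT : ∀ v w, B (T v) (T w) = B v w := by
    intro v w
    obtain ⟨x, rfl⟩ := exists_of v
    obtain ⟨y, rfl⟩ := exists_of w
    rw [hBdef, hTdef]
    rw [actT_of, actT_of, formB_of, formB_of]
    congr 2
    apply Subtype.ext
    rw [InClass.cm_apply, InClass.cm_apply]
    apply Subtype.ext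
    have h1 := hcz (h₀ : G) h₀.2 hh₀ne _ (hzmem x y)
    rw [commutatorElement_def, commutatorElement_def]
    simp only [Subgroup.coe_mul, Subgroup.coe_inv, conjP_coe]
    rw [commutatorElement_def] at h1
    simp only [Subgroup.coe_mul, Subgroup.coe_inv] at h1
    rw [← h1]
    group
  -- general consequence of a fixed vector
  have hgen : ∀ (k : ℕ) (x : ↥P), (T ^ k) (Additive.ofMul (Abelianization.of x))
      = Additive.ofMul (Abelianization.of x) →
      (h₀ : G) ^ k * x * ((h₀ : G) ^ k)⁻¹ * (x : G)⁻¹ ∈ Z := by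
    intro k x hk
    rw [hTdef, actT_pow] at hk
    have h1 : Abelianization.of (conjP P ((h₀ : G) ^ k) (pow_mem hg₀N k) x) = Abelianization.of x :=
      Additive.ofMul.injective hk
    have h2 : Abelianization.of (conjP P ((h₀ : G) ^ k) (pow_mem hg₀N k) x * x⁻¹) = 1 := by
      rw [map_mul, map_inv, h1, mul_inv_cancel]
    rw [hof1] at h2
    exact ⟨_, h2, rfl⟩
  -- semiregularity
  have hsemi : ∀ j, 0 < j → j < Nat.card H → ∀ v, (T ^ j) v = v → v = 0 := by
    intro j hj0 hjm v hv
    obtain ⟨x, rfl⟩ := exists_of v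
    rw [ofMul_of_eq_zero_iff hcomm]
    set a : G := (h₀ : G) ^ j with ha
    have haH : a ∈ H := hpowH j
    have hane : a ≠ 1 := hpow_ne j hj0 hjm
    have hTi : ∀ i : ℕ, ((T ^ j) ^ i) (Additive.ofMul (Abelianization.of x))
        = Additive.ofMul (Abelianization.of x) := by
      intro i
      induction i with
      | zero => rw [pow_zero, Module.End.one_apply]
      | succ i ih => rw [pow_succ, Module.End.mul_apply, hv, ih]
    have hAN : Subgroup.zpowers a ≤ Subgroup.normalizer (P : Set G) := by
      rw [Subgroup.zpowers_le]; exact hHP haH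
    have hcard_dvd : Nat.card (Subgroup.zpowers a) ∣ Nat.card H :=
      Subgroup.card_dvd_of_le (by rw [Subgroup.zpowers_le]; exact haH)
    have hcopAP : (Nat.card (Subgroup.zpowers a)).Coprime (Nat.card P) := by
      rw [hn]
      exact Nat.Coprime.pow_right _ (Nat.Coprime.coprime_dvd_left hcard_dvd hcop)
    have hsolvP : Group.IsSolvable ↥P := by
      haveI : Group.IsNilpotent ↥P := hP.1.1.isNilpotent
      infer_instance
    have hNnormal : P ≤ Subgroup.normalizer (Z : Set G) := by
      intro k hk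
      rw [Subgroup.mem_normalizer_iff]
      have hkz : ∀ z ∈ Z, k * z * k⁻¹ = z := by
        intro z hz
        obtain ⟨z', hz', rfl⟩ := hz
        have := Subgroup.mem_center_iff.mp hz' ⟨k, hk⟩
        have h2 : k * (z' : G) = (z' : G) * k := by
          have := congrArg Subtype.val this
          simpa using this
        show k * (z' : G) * k⁻¹ = z'
        rw [h2]; group
      intro h
      constructor
      · intro hh; rw [hkz h hh]; exact hh
      · intro hh
        have h3 := hkz _ hh
        have h4 : k * h * k⁻¹ = h := mul_left_cancel (mul_right_cancel h3)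
        rw [← h4]; exact hh
    have hNA : Subgroup.zpowers a ≤ Subgroup.normalizer (Z : Set G) := by
      rw [Subgroup.zpowers_le, Subgroup.mem_normalizer_iff]
      intro h
      constructor
      · intro hh; rw [hcz a haH hane h hh]; exact hh
      · intro hh
        have h3 := hcz a haH hane _ hh
        have h4 : a * h * a⁻¹ = h := mul_left_cancel (mul_right_cancel h3)
        rw [← h4]; exact hh
    have hfixA : ∀ b ∈ Subgroup.zpowers a, b * (x : G) * b⁻¹ * (x : G)⁻¹ ∈ Z := by
      intro b hb
      rw [← mem_powers_iff_mem_zpowers] at hb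
      obtain ⟨i, rfl⟩ := hb
      have h1 := hgen (j * i) x (by rw [pow_mul]; exact hTi i)
      rw [pow_mul] at h1
      exact h1
    obtain ⟨c, hc, hxc⟩ := Cfsg.Agent.Helper1.coprime_fixed_coset (Subgroup.zpowers a) P hAN hcopAP
      (Or.inr hsolvP) Z hZP hNnormal hNA (x : G) x.2 hfixA
    have hcZ : c ∈ Z := by
      have h1 : c ∈ P ⊓ Subgroup.centralizer {a} := by
        have h2 : c ∈ Subgroup.centralizer (Subgroup.zpowers a : Set G) := hc.2
        have h3 : c ∈ Subgroup.centralizer {a} := by
          rw [Subgroup.mem_centralizer_iff] at h2 ⊢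
          intro h hh
          rw [Set.mem_singleton_iff] at hh
          rw [hh]
          exact h2 _ (Subgroup.mem_zpowers _)
        exact ⟨hc.1, h3⟩
      rw [hfix a haH hane] at h1
      exact h1
    have hxZ : (x : G) ∈ Z := by
      have h1 : ((x : G)⁻¹ * c) * c⁻¹ ∈ Z := Z.mul_mem hxc (Z.inv_mem hcZ)
      rw [mul_inv_cancel_right] at h1
      exact (Subgroup.inv_mem_iff Z).mp h1
    exact hmem_center x hxZ
  exact thmA (Nat.card H) hm2 hcop n (Additive (Abelianization ↥P)) B T hfr halt hnd hBT hTm hsemi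



open Cfsg.Agent.Helper3.Extra in
theorem main_large {G : Type u} [Group G] [Finite G] {p : ℕ} [hp : Fact p.Prime] (P H : Subgroup G)
    (hP : Cfsg.IsExtraspecial p ↥P) (n : ℕ) (hn : Nat.card P = p ^ (2 * n + 1)) (hH : IsCyclic H)
    (hcop : (Nat.card H).Coprime p) (hHP : H ≤ Subgroup.normalizer (P : Set G))
    (hfix : ∀ x ∈ H, x ≠ 1 → P ⊓ Subgroup.centralizer {x} = (Subgroup.center ↥P).map P.subtype)
    (hm2 : 2 < Nat.card H) :
    ((p : ZMod (Nat.card H)) ^ n = 1 ∨ (p : ZMod (Nat.card H)) ^ n = -1) := by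
  classical
  have hE : InClass p ↥P := inClass_of_isExtraspecial hP
  have hcomm : commutator ↥P = Subgroup.center ↥P := hP.1.2.2
  -- membership in the kernel of `of`
  have hof1 : ∀ x : ↥P, Abelianization.of x = 1 ↔ x ∈ Subgroup.center ↥P := by
    intro x
    rw [← hcomm, ← Abelianization.ker_of, MonoidHom.mem_ker]
  have hpow : ∀ a : Abelianization ↥P, a ^ p = 1 := by
    intro a
    induction a using QuotientGroup.induction_on with
    | H x =>
      show Abelianization.of x ^ p = 1
      rw [← map_pow, hof1]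
      exact hE.pow_mem x
  letI : Module (ZMod p) (Additive (Abelianization ↥P)) :=
    AddCommGroup.zmodModule (n := p) (fun x => by
      have := hpow (Additive.toMul x)
      exact congrArg Additive.ofMul this)
  haveI : Finite (Additive (Abelianization ↥P)) := inferInstanceAs (Finite (Abelianization ↥P))
  have hcardA : Nat.card (Abelianization ↥P) = p ^ (2 * n) := by
    have h1 := Subgroup.card_eq_card_quotient_mul_card_subgroup (commutator ↥P)
    rw [hcomm, hE.card_center, hn, pow_succ] at h1
    have h2 : Nat.card (Abelianization ↥P) = Nat.card (↥P ⧸ Subgroup.center ↥P) := by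
      rw [← hcomm]; rfl
    rw [h2]
    exact (Nat.eq_of_mul_eq_mul_right hp.out.pos h1).symm
  have hfr : Module.finrank (ZMod p) (Additive (Abelianization ↥P)) = 2 * n := by
    haveI : Fintype (Additive (Abelianization ↥P)) := Fintype.ofFinite _
    have h1 := Module.card_eq_pow_finrank (K := ZMod p) (V := Additive (Abelianization ↥P))
    rw [ZMod.card, ← Nat.card_eq_fintype_card] at h1
    have h2 : Nat.card (Additive (Abelianization ↥P)) = p ^ (2 * n) := hcardA
    rw [h2] at h1
    exact (Nat.pow_right_injective hp.out.two_le h1).symm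
  exact main_core P H hP n hn hH hcop hHP hfix hm2 hfr

end PartB

/-- Let P be an extraspecial p-group of order p^(2n+1) and H a cyclic group of order h prime to p acting on P (inside a common finite group: H normalizes P) so that C_P(x) = Z(P) for every non-identity x ∈ H. Then h divides p^n + 1 or h divides p^n − 1. -/
theorem result {G : Type*} [Group G] [Finite G] {p : ℕ} [Fact p.Prime] (P H : Subgroup G) (hP : Cfsg.IsExtraspecial p ↥P) (n : ℕ) (hn : Nat.card P = p ^ (2 * n + 1)) (hH : IsCyclic H) (hcop : (Nat.card H).Coprime p) (hHP : H ≤ Subgroup.normalizer (P : Set G)) (hfix : ∀ x ∈ H, x ≠ 1 → P ⊓ Subgroup.centralizer {x} = (Subgroup.center ↥P).map P.subtype) : Nat.card H ∣ p ^ n + 1 ∨ Nat.card H ∣ p ^ n - 1 := by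
  have hp : p.Prime := Fact.out
  have hmpos : 0 < Nat.card H := Nat.card_pos
  rcases Nat.lt_or_ge 2 (Nat.card H) with hm2 | hm2
  · rcases main_large P H hP n hn hH hcop hHP hfix hm2 with h | h
    · right
      have h1 : ((p ^ n - 1 : ℕ) : ZMod (Nat.card H)) = 0 := by
        rw [Nat.cast_sub (Nat.one_le_pow _ _ hp.pos)]
        push_cast
        rw [h]
        ring
      exact (ZMod.natCast_eq_zero_iff _ _).mp h1
    · left
      have h1 : ((p ^ n + 1 : ℕ) : ZMod (Nat.card H)) = 0 := by
        push_cast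
        rw [h]
        ring
      exact (ZMod.natCast_eq_zero_iff _ _).mp h1
  · left
    rcases Nat.lt_or_ge (Nat.card H) 2 with h1 | h1
    · have : Nat.card H = 1 := by omega
      rw [this]; exact one_dvd _
    · have h2 : Nat.card H = 2 := le_antisymm hm2 h1
      rw [h2] at hcop ⊢
      have hodd : Odd p := Nat.Coprime.odd_of_left hcop
      exact even_iff_two_dvd.mp (hodd.pow.add_one)


end Cfsg.Agent.S3767
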