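import Mathlib
import Cfsg.Statements.S3768
import Cfsg.Agent.Helper6.FrobThm
import Cfsg.Agent.Helper1.FrobConj
import Cfsg.Agent.Helper1.Frobenius3
import Cfsg.Agent.Helper1.Coprime
-- import your own Cfsg.Agent.* helpers here

set_option autoImplicit false
open Cfsg

namespace Cfsg.Agent.S3768
universe u
open scoped Pointwise
open Cfsg.Agent.Helper1

/-- Let G be a finite Frobenius group with Frobenius complement R and Frobenius kernel K (the identity together with the elements in no conjugate of R), and let N be a normal subgroup of G not containing K. Then G/N is a Frobenius group with Frobenius complement RN/N whose Frobenius kernel is the image of K. -/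
theorem result {G : Type*} [Group G] [Finite G] (R : Subgroup G) (hR : Cfsg.IsFrobeniusComplement R) (N : Subgroup G) [N.Normal] (hKN : ¬ Cfsg.frobeniusKernel R ⊆ N) : Cfsg.IsFrobeniusComplement (R.map (QuotientGroup.mk' N)) ∧ Cfsg.frobeniusKernel (R.map (QuotientGroup.mk' N)) = QuotientGroup.mk' N '' Cfsg.frobeniusKernel R := by
  obtain ⟨K, hKset, hKn, hKc⟩ := Cfsg.Agent.Helper6.frobenius_kernel_theorem R hR
  have hNK : N ≤ K := by
    rcases frobenius_normal_le_or_ge R hR K hKset hKc N with h | h
    · exact h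
    · exact absurd (by rw [← hKset]; exact h) hKN
  have hKR : K ⊓ R = ⊥ := hKc.disjoint.eq_bot
  have hsup : K ⊔ R = ⊤ := hKc.sup_eq_top
  have hK1 : K ≠ ⊥ := frobenius_kernel_ne_bot hR hKc
  have hfpf := (frobenius_iff_fpf K R hKc hK1 hR.1).1 hR
  set π := QuotientGroup.mk' N with hπ
  have hπs : Function.Surjective π := QuotientGroup.mk'_surjective N
  have hKbn : (K.map π).Normal := Subgroup.Normal.map hKn π hπs
  -- key: fixed point freeness downstairs
  have key : ∀ r ∈ R, r ∉ N → ∀ k ∈ K, π k * π r = π r * π k → k ∈ N := by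
    intro r hr hrN k hk hcomm
    have hr1 : r ≠ 1 := fun h => hrN (h ▸ N.one_mem)
    have hcop : (Nat.card (Subgroup.zpowers r)).Coprime (Nat.card K) := by
      have h1 := frobenius_coprime R hR
      have h2 : Nat.card K = R.index := by
        have := hKc.card_mul_card
        have h3 := R.card_mul_index
        have hpos : 0 < Nat.card R := Nat.card_pos
        exact Nat.eq_of_mul_eq_mul_right hpos (by rw [this, mul_comm R.index, h3] : Nat.card K * Nat.card R = R.index * Nat.card R)
      rw [h2]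
      exact h1.coprime_dvd_left (Subgroup.card_dvd_of_le (by rwa [Subgroup.zpowers_le]))
    have hfix : ∀ a ∈ Subgroup.zpowers r, a * k * a⁻¹ * k⁻¹ ∈ N := by
      intro a ha
      obtain ⟨n, rfl⟩ := Subgroup.mem_zpowers_iff.1 ha
      rw [← QuotientGroup.eq_one_iff, ← QuotientGroup.mk'_apply, ← hπ]
      have hc : Commute (π r) (π k) := hcomm.symm
      have hc' : Commute (π (r ^ n)) (π k) := by
        rw [map_zpow]; exact hc.zpow_left n
      rw [map_mul, map_mul, map_mul, map_inv, map_inv, hc'.eq]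
      group
    obtain ⟨c, hc, hcN⟩ := coprime_fixed_coset (Subgroup.zpowers r) K
      (fun x _ => by rw [Subgroup.normalizer_eq_top]; exact Subgroup.mem_top x) hcop
      (Or.inl inferInstance) N hNK
      (fun x _ => by rw [Subgroup.normalizer_eq_top]; exact Subgroup.mem_top x)
      (fun x _ => by rw [Subgroup.normalizer_eq_top]; exact Subgroup.mem_top x) k hk hfix
    have hc1 : c = 1 := by
      have : c ∈ K ⊓ Subgroup.centralizer {r} := by
        refine Subgroup.mem_inf.2 ⟨hc.1, ?_⟩
        rw [Subgroup.mem_centralizer_iff]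
        intro x hx
        rw [Set.mem_singleton_iff] at hx
        subst hx
        exact Subgroup.mem_centralizer_iff.1 hc.2 x (Subgroup.mem_zpowers x)
      rw [hfpf r hr hr1, Subgroup.mem_bot] at this
      exact this
    rw [hc1, mul_one] at hcN
    simpa using N.inv_mem hcN
  have hRN : R ⊓ N = ⊥ := by
    rw [eq_bot_iff]
    intro x hx
    have : x ∈ K ⊓ R := ⟨hNK hx.2, hx.1⟩
    rwa [hKR] at this
  have hdisj : K.map π ⊓ R.map π = ⊥ := by
    rw [eq_bot_iff]
    rintro x ⟨⟨k, hk, rfl⟩, ⟨r, hr, hrk⟩⟩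
    rw [Subgroup.mem_bot]
    have h1 : r⁻¹ * k ∈ N := by
      rw [← QuotientGroup.eq_one_iff, ← QuotientGroup.mk'_apply, ← hπ, map_mul, map_inv, hrk]
      simp
    have h2 : r ∈ K := by
      have := K.mul_mem hk (K.inv_mem (hNK h1))
      simpa using this
    have h3 : r ∈ K ⊓ R := ⟨h2, hr⟩
    rw [hKR, Subgroup.mem_bot] at h3
    rw [← hrk, h3, map_one]
  have hsup' : K.map π ⊔ R.map π = ⊤ := by
    rw [← Subgroup.map_sup, hsup, ← MonoidHom.range_eq_map, MonoidHom.range_eq_top]
    exact hπs
  have hcompl : Subgroup.IsComplement' (K.map π) (R.map π) := by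
    apply Subgroup.isComplement'_of_disjoint_and_mul_eq_univ (disjoint_iff.2 hdisj)
    rw [← Subgroup.normal_mul, hsup']
    rfl
  have hKb1 : K.map π ≠ ⊥ := by
    intro h
    apply hKN
    rw [← hKset]
    intro x hx
    have : π x ∈ K.map π := Subgroup.mem_map_of_mem π hx
    rw [h, Subgroup.mem_bot] at this
    exact (QuotientGroup.eq_one_iff x).1 this
  have hRb1 : R.map π ≠ ⊥ := by
    intro h
    apply hR.1
    rw [eq_bot_iff]
    intro x hx
    have : π x ∈ R.map π := Subgroup.mem_map_of_mem π hx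
    rw [h, Subgroup.mem_bot] at this
    have : x ∈ R ⊓ N := ⟨hx, (QuotientGroup.eq_one_iff x).1 this⟩
    rwa [hRN] at this
  have hfrob : Cfsg.IsFrobeniusComplement (R.map π) := by
    rw [frobenius_iff_fpf (K.map π) (R.map π) hcompl hKb1 hRb1]
    rintro _ ⟨r, hr, rfl⟩ hr1
    rw [eq_bot_iff]
    rintro _ ⟨⟨k, hk, rfl⟩, hkc⟩
    rw [Subgroup.mem_bot]
    have hrN : r ∉ N := fun h => hr1 ((QuotientGroup.eq_one_iff r).2 h)
    have := key r hr hrN k hk (Subgroup.mem_centralizer_iff.1 hkc _ rfl).symm
    exact (QuotientGroup.eq_one_iff k).2 this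
  refine ⟨hfrob, ?_⟩
  rw [← hKset]
  ext x
  constructor
  · intro hx
    obtain ⟨y, rfl⟩ := hπs x
    by_contra hy
    have hyK : y ∉ K := fun h => hy ⟨y, h, rfl⟩
    have hyk : y ∉ Cfsg.frobeniusKernel R := by rw [← hKset]; exact hyK
    unfold Cfsg.frobeniusKernel at hyk
    simp only [Set.mem_ofPred_eq, not_or, not_forall, not_not] at hyk
    obtain ⟨hy1, g, hg⟩ := hyk
    rcases hx with hx | hx
    · apply hyK
      apply hNK
      exact (QuotientGroup.eq_one_iff y).1 hx
    · apply hx (π g)
      rw [← map_conj_smul]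
      exact Subgroup.mem_map_of_mem π hg
  · rintro ⟨k, hk, rfl⟩
    by_cases h1 : π k = 1
    · exact Or.inl h1
    right
    intro g hg
    obtain ⟨g0, rfl⟩ := hπs g
    rw [mem_conj_smul] at hg
    have h2 : (π g0)⁻¹ * π k * π g0 ∈ K.map π ⊓ R.map π := by
      refine ⟨?_, hg⟩
      refine ⟨g0⁻¹ * k * g0, ?_, by simp⟩
      have := hKn.conj_mem k hk g0⁻¹
      simpa using this
    rw [hdisj, Subgroup.mem_bot] at h2
    apply h1
    have : π k = π g0 * ((π g0)⁻¹ * π k * π g0) * (π g0)⁻¹ := by group
    rw [this, h2]; group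

end Cfsg.Agent.S3768
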