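import Mathlib
import Cfsg.Statements.S3770
import Cfsg.Agent.Helper3.FrobActF
import Cfsg.Agent.Helper1.FrobKernelNilp
import Cfsg.Agent.S1446
-- import your own Cfsg.Agent.* helpers here

set_option autoImplicit false
open Cfsg

namespace Cfsg.Agent.S3770

open Cfsg.Agent.Helper3.FrobActA Cfsg.Agent.Helper3.FrobActF
open scoped Pointwise commutatorElement

/-- Let G and V be subgroups of a finite group with G a Frobenius group with complement R of prime order and kernel K, G normalizing V, and V an elementary abelian ℓ-group for a prime ℓ not dividing the order of G. If C_V(R) has order ℓ, then the derived subgroup of K centralizes V. -/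
theorem result {X : Type*} [Group X] [Finite X] (G : Subgroup X) (V : Subgroup X) {ℓ : ℕ} (hℓ : ℓ.Prime) (hV : Cfsg.IsElementaryAbelian ℓ V) (hℓG : ¬ ℓ ∣ Nat.card G) (hGV : G ≤ Subgroup.normalizer (V : Set X)) (R : Subgroup ↥G) (hR : Cfsg.IsFrobeniusComplement R) (hRp : (Nat.card R).Prime) (hCV : Nat.card ↥(V ⊓ Subgroup.centralizer ((R.map G.subtype : Subgroup X) : Set X)) = ℓ) : ⁅Subgroup.closure (Subtype.val '' Cfsg.frobeniusKernel R), Subgroup.closure (Subtype.val '' Cfsg.frobeniusKernel R)⁆ ≤ Subgroup.centralizer (V : Set X) := by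
  classical
  obtain ⟨N, hNset, hNn, hNnil⟩ := Cfsg.Agent.Helper1.frobenius_kernel_nilpotent R hR
  obtain ⟨N', hN'set, -, hcompl'⟩ := Cfsg.Agent.Helper6.frobenius_kernel_theorem R hR
  have hNN' : N' = N := SetLike.coe_injective (hN'set.trans hNset.symm)
  rw [hNN'] at hcompl'
  haveI := hNn
  have hclos : Subgroup.closure (Subtype.val '' Cfsg.frobeniusKernel R) = N.map G.subtype := by
    rw [← hNset]
    have : (Subtype.val '' (N : Set ↥G)) = ((N.map G.subtype : Subgroup X) : Set X) := by
      rw [Subgroup.coe_map]; rfl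
    rw [this, Subgroup.closure_eq]
  rw [hclos]
  -- the action
  set ψ := Cfsg.Agent.S1446.conjAct V G hGV with hψ
  have hcommV : ∀ a b : V, a * b = b * a := by
    intro a b
    exact hV.1.is_comm.comm a b
  have hexpV : ∀ a : V, a ^ ℓ = 1 := by
    intro a
    apply Subtype.ext
    have := hV.2 a a.2
    simpa using this
  have hVp : IsPGroup ℓ V := by
    intro a
    exact ⟨1, by rw [pow_one]; exact hexpV a⟩
  have hcop : (Nat.card ↥G).Coprime (Nat.card V) := by
    haveI : Fact ℓ.Prime := ⟨hℓ⟩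
    obtain ⟨k, hk⟩ := IsPGroup.iff_card.mp hVp
    rw [hk]
    exact Nat.Coprime.pow_right k ((Nat.Prime.coprime_iff_not_dvd hℓ).mpr hℓG).symm
  have hdisj : N ⊓ R = ⊥ := (Subgroup.IsComplement'.disjoint hcompl').eq_bot
  have hFH : N ⊔ R = ⊤ := Subgroup.IsComplement'.sup_eq_top hcompl'
  have hfpf : ∀ h ∈ R, h ≠ 1 → ∀ f ∈ N, h * f * h⁻¹ = f → f = 1 := by
    intro h hh h1 f hf hfix
    by_contra hf1
    have hfR : f ∉ R := by
      intro hfR
      have : f ∈ N ⊓ R := ⟨hf, hfR⟩
      rw [hdisj, Subgroup.mem_bot] at this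
      exact hf1 this
    have hTI := hR.2.2 f hfR
    have hmem : h ∈ R ⊓ (MulAut.conj f • R) := by
      refine ⟨hh, ?_⟩
      change h ∈ MulAut.conj f • R
      rw [Subgroup.mem_pointwise_smul_iff_inv_smul_mem]
      have : (MulAut.conj f)⁻¹ • h = f⁻¹ * h * f := by
        rw [← map_inv, MulAut.smul_def, MulAut.conj_apply, inv_inv]
      rw [this]
      have h2 : f⁻¹ * h * f = h := by
        have h3 : h * f = f * h := by
          have := congrArg (· * h) hfix
          simpa [mul_assoc] using this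
        rw [mul_assoc, h3, ← mul_assoc, inv_mul_cancel, one_mul]
      rw [h2]; exact hh
    rw [hTI, Subgroup.mem_bot] at hmem
    exact h1 hmem
  have hRsub : (R.map G.subtype).subgroupOf G = R :=
    Subgroup.comap_map_eq_self_of_injective G.subtype_injective R
  have hRle : R.map G.subtype ≤ G := by
    rintro _ ⟨r, _, rfl⟩
    exact r.2
  have hle : Nat.card (fix ψ R) ≤ ℓ := by
    have h1 := Cfsg.Agent.S1446.card_fix_conjAct V G hGV (R.map G.subtype) hRle
    rw [hRsub] at h1
    rw [h1, hCV]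
  have hmain := comm_act_general ℓ hℓ hcommV hexpV ψ N R hNnil hfpf hFH (Nat.card R) hRp rfl hcop hle
  rw [Subgroup.commutator_le]
  rintro _ ⟨a, ha, rfl⟩ _ ⟨b, hb, rfl⟩
  rw [Subgroup.mem_centralizer_iff]
  intro v hv
  have h1 := hmain a ha b hb
  have h2 : ψ ((a * b) * (b * a)⁻¹) = 1 := by
    rw [map_mul, h1, ← map_mul, mul_inv_cancel, map_one]
  have h3 := congrArg (fun e : MulAut V => ((e ⟨v, hv⟩ : V) : X)) h2
  simp only [MulAut.one_apply] at h3
  rw [hψ, Cfsg.Agent.S1446.conjAct_apply] at h3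
  have h4 : ((a * b * (b * a)⁻¹ : ↥G) : X) = ⁅G.subtype a, G.subtype b⁆ := by
    rw [commutatorElement_def]
    simp only [Subgroup.coe_mul, Subgroup.coe_inv, mul_inv_rev, Subgroup.coe_subtype]
    group
  rw [h4] at h3
  change ⁅G.subtype a, G.subtype b⁆ * v * ⁅G.subtype a, G.subtype b⁆⁻¹ = v at h3
  rw [mul_inv_eq_iff_eq_mul] at h3
  exact h3.symm


end Cfsg.Agent.S3770
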