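import Mathlib
import Cfsg.Statements.S3772
import Cfsg.Agent.Helper1.PGroup
import Cfsg.Agent.Helper1.RegularP
-- import your own Cfsg.Agent.* helpers here

set_option autoImplicit false
open Cfsg

namespace Cfsg.Agent.S3772
universe u
open scoped commutatorElement


/-- An abelian group of exponent 2 has trivial Frattini subgroup. -/
theorem frattini_eq_bot_of_exp_two {G : Type u} [Group G] [Finite G]
    (hcomm : ∀ a b : G, a * b = b * a) (hexp : ∀ x : G, x ^ 2 = 1) : frattini G = ⊥ := by
  rw [Subgroup.eq_bot_iff_forall]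
  intro z hz
  by_contra hz1
  -- a maximal subgroup avoiding z
  let 𝒮 : Set (Subgroup G) := {M | z ∉ M}
  have hbot : (⊥ : Subgroup G) ∈ 𝒮 := by
    change z ∉ (⊥ : Subgroup G)
    rw [Subgroup.mem_bot]; exact hz1
  obtain ⟨M, -, hMmax⟩ := (Set.toFinite 𝒮).exists_le_maximal hbot
  have hzM : z ∉ M := hMmax.prop
  have hco : IsCoatom M := by
    refine ⟨fun h => hzM (h ▸ Subgroup.mem_top z), fun K hK => ?_⟩
    have hzK : z ∈ K := by
      by_contra h
      exact absurd (hMmax.le_of_ge h hK.le) (not_le_of_gt hK)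
    rw [eq_top_iff]
    intro g _
    by_cases hgM : g ∈ M
    · exact hK.le hgM
    have hlt : M < M ⊔ Subgroup.zpowers g := by
      refine lt_of_le_of_ne le_sup_left (fun h => hgM ?_)
      rw [h]; exact (le_sup_right : Subgroup.zpowers g ≤ _) (Subgroup.mem_zpowers g)
    have hz' : z ∈ M ⊔ Subgroup.zpowers g := by
      by_contra h
      exact absurd (hMmax.le_of_ge h hlt.le) (not_le_of_gt hlt)
    have hn : (Subgroup.zpowers g).Normal := ⟨fun n hn x => by
      rw [hcomm x n, mul_inv_cancel_right]; exact hn⟩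
    obtain ⟨m, hm, w, hw, hmw⟩ := Subgroup.mem_sup_of_normal_right.mp hz'
    obtain ⟨i, rfl⟩ := Subgroup.mem_zpowers_iff.mp hw
    rcases Int.even_or_odd' i with ⟨s, rfl | rfl⟩
    · exfalso
      apply hzM
      rw [← hmw, zpow_mul, zpow_ofNat, hexp, one_zpow, mul_one]; exact hm
    · have hgi : g ^ (2 * s + 1) = g := by
        rw [zpow_add, zpow_mul, zpow_ofNat, hexp, one_zpow, one_mul, zpow_one]
      rw [hgi] at hmw
      have : g = m⁻¹ * z := by rw [← hmw]; group
      rw [this]
      exact K.mul_mem (K.inv_mem (hK.le hm)) hzK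
  exact hzM (Cfsg.Agent.Helper1.mem_frattini_iff.mp hz M hco)

theorem sq_eq_two_pow (a n : ℕ) (h : a ^ 2 = 2 ^ n) : ∃ e, n = 2 * e ∧ a = 2 ^ e := by
  have h1 : a ∣ 2 ^ n := by rw [← h]; exact Dvd.intro_left (a ^ 1) (by ring)
  obtain ⟨e, -, rfl⟩ := (Nat.dvd_prime_pow Nat.prime_two).mp h1
  refine ⟨e, ?_, rfl⟩
  rw [← pow_mul] at h
  have := Nat.pow_right_injective (le_refl 2) h
  omega



/-- The Gauss-sum computation. -/
theorem gauss {G : Type u} [Group G] [Fintype G] [DecidableEq G] (z : G) (hz1 : z ≠ 1)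
    (hzz : z * z = 1) (hzc : ∀ g : G, g * z = z * g)
    (hsq : ∀ x : G, x ^ 2 = 1 ∨ x ^ 2 = z) (hcm : ∀ x y : G, ⁅x, y⁆ = 1 ∨ ⁅x, y⁆ = z) :
    ∃ T : ℤ, (T = 0 ∨ (T = Nat.card (Subgroup.center G) ∧ ∀ u ∈ Subgroup.center G, u ^ 2 = 1)) ∧
      (∑ x : G, (if x ^ 2 = 1 then (1 : ℤ) else -1)) ^ 2 = Fintype.card G * T := by
  set ε : G → ℤ := fun w => if w = 1 then 1 else -1 with hε
  have hε1 : ε 1 = 1 := by simp [hε]
  have hεz : ε z = -1 := by simp [hε, hz1]
  -- ε is multiplicative on {1, z}
  have hεmul : ∀ a b : G, (a = 1 ∨ a = z) → (b = 1 ∨ b = z) → ε (a * b) = ε a * ε b := by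
    rintro a b (rfl | rfl) (rfl | rfl)
    · rw [one_mul, hε1]; ring
    · rw [one_mul, hε1]; ring
    · rw [mul_one, hε1]; ring
    · rw [hzz, hε1, hεz]; ring
  have hεsq : ∀ a : G, ε a * ε a = 1 := by
    intro a; simp only [hε]; split_ifs <;> ring
  set χ : G → ℤ := fun x => ε (x ^ 2) with hχ
  set β : G → G → ℤ := fun x u => ε ⁅u, x⁆ with hβ
  have hcomm_central : ∀ x y g : G, g * ⁅x, y⁆ = ⁅x, y⁆ * g := by
    intro x y g
    rcases hcm x y with h | h <;> rw [h]
    · rw [mul_one, one_mul]
    · exact hzc g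
  -- (K1)
  have hK1 : ∀ x u : G, χ (x * u) = χ x * χ u * β x u := by
    intro x u
    have h1 : (x * u) ^ 2 = x ^ 2 * u ^ 2 * ⁅u, x⁆ := by
      have hux : u * x = ⁅u, x⁆ * x * u := by rw [commutatorElement_def]; group
      calc (x * u) ^ 2 = x * (u * x) * u := by rw [pow_two]; group
        _ = x * (⁅u, x⁆ * x * u) * u := by rw [hux]
        _ = (x * ⁅u, x⁆) * x * u * u := by group
        _ = (⁅u, x⁆ * x) * x * u * u := by rw [hcomm_central]
        _ = ⁅u, x⁆ * (x ^ 2 * u ^ 2) := by rw [pow_two, pow_two]; group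
        _ = x ^ 2 * u ^ 2 * ⁅u, x⁆ := (hcomm_central u x _).symm
    simp only [hχ, hβ]
    rw [h1, hεmul _ _ _ (hcm u x), hεmul _ _ (hsq x) (hsq u)]
    rcases hsq x with h | h <;> rcases hsq u with h' | h' <;> rw [h, h']
    · left; rw [one_mul]
    · right; rw [one_mul]
    · right; rw [mul_one]
    · left; exact hzz
  have hβ1 : ∀ x u : G, β x u = 1 ↔ x * u = u * x := by
    intro x u
    simp only [hβ, hε]
    rw [← commutatorElement_eq_one_iff_mul_comm]
    constructor
    · intro h
      by_contra hne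
      have h2 : ⁅u, x⁆ ≠ 1 := by
        intro h3
        apply hne
        have : ⁅x, u⁆ = (⁅u, x⁆)⁻¹ := (commutatorElement_inv u x).symm
        rw [this, h3, inv_one]
      rw [if_neg h2] at h
      norm_num at h
    · intro h
      have : ⁅u, x⁆ = 1 := by
        have : ⁅u, x⁆ = (⁅x, u⁆)⁻¹ := (commutatorElement_inv x u).symm
        rw [this, h, inv_one]
      rw [if_pos this]
  -- β is multiplicative in x
  have hβmul : ∀ x y u : G, β (x * y) u = β x u * β y u := by
    intro x y u
    simp only [hβ]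
    have h1 : ⁅u, x * y⁆ = ⁅u, x⁆ * ⁅u, y⁆ := by
      have h2 : ⁅u, x * y⁆ = ⁅u, x⁆ * (x * ⁅u, y⁆ * x⁻¹) := by
        simp only [commutatorElement_def]; group
      rw [h2, hcomm_central u y x, mul_inv_cancel_right]
    rw [h1, hεmul _ _ (hcm u x) (hcm u y)]
  -- (K2)
  have hK2 : ∀ u : G, ∑ x : G, β x u = if u ∈ Subgroup.center G then (Fintype.card G : ℤ) else 0 := by
    intro u
    split_ifs with hu
    · have : ∀ x : G, β x u = 1 := fun x => (hβ1 x u).mpr (Subgroup.mem_center_iff.mp hu x)
      simp [this]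
    · have hex : ∃ x0 : G, β x0 u = -1 := by
        by_contra h
        push Not at h
        apply hu
        rw [Subgroup.mem_center_iff]
        intro x
        apply (hβ1 x u).mp
        have := h x
        simp only [hβ, hε] at this ⊢
        split_ifs at this ⊢ with h5
        · rfl
        · exact absurd rfl this
      obtain ⟨x0, hx0⟩ := hex
      have h1 : ∑ x : G, β x u = ∑ x : G, β (x0 * x) u :=
        (Fintype.sum_equiv (Equiv.mulLeft x0) _ _ (fun x => rfl)).symm
      have h2 : ∑ x : G, β (x0 * x) u = - ∑ x : G, β x u := by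
        rw [← Finset.sum_neg_distrib]
        apply Finset.sum_congr rfl
        intro x _
        rw [hβmul, hx0]; ring
      linarith
  -- the main identity
  set Z := Subgroup.center G with hZ
  set T : ℤ := ∑ u : G, if u ∈ Z then χ u else 0 with hT
  have hmain : (∑ x : G, χ x) ^ 2 = Fintype.card G * T := by
    calc (∑ x : G, χ x) ^ 2 = ∑ x : G, ∑ y : G, χ x * χ y := by
          rw [pow_two, Finset.sum_mul_sum]
      _ = ∑ x : G, ∑ u : G, χ x * χ (x * u) := by
          apply Finset.sum_congr rfl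
          intro x _
          exact (Fintype.sum_equiv (Equiv.mulLeft x) _ _ (fun u => rfl)).symm
      _ = ∑ x : G, ∑ u : G, χ u * β x u := by
          apply Finset.sum_congr rfl
          intro x _
          apply Finset.sum_congr rfl
          intro u _
          rw [hK1]
          have := hεsq (x ^ 2)
          simp only [hχ] at this ⊢
          calc ε (x ^ 2) * (ε (x ^ 2) * ε (u ^ 2) * β x u)
              = (ε (x ^ 2) * ε (x ^ 2)) * ε (u ^ 2) * β x u := by ring
            _ = ε (u ^ 2) * β x u := by rw [this, one_mul]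
      _ = ∑ u : G, χ u * ∑ x : G, β x u := by
          rw [Finset.sum_comm]
          apply Finset.sum_congr rfl
          intro u _
          rw [Finset.mul_sum]
      _ = ∑ u : G, (Fintype.card G : ℤ) * (if u ∈ Z then χ u else 0) := by
          apply Finset.sum_congr rfl
          intro u _
          rw [hK2]
          split_ifs <;> ring
      _ = Fintype.card G * T := by rw [hT, Finset.mul_sum]
  refine ⟨T, ?_, ?_⟩
  · -- (K4)
    by_cases hall : ∀ u ∈ Z, χ u = 1
    · right
      constructor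
      · rw [hT]
        have : ∀ u : G, (if u ∈ Z then χ u else 0) = if u ∈ Z then (1 : ℤ) else 0 := by
          intro u; split_ifs with h
          · exact hall u h
          · rfl
        simp only [this]
        rw [Finset.sum_ite, Finset.sum_const_zero, add_zero, Finset.sum_const, nsmul_eq_mul, mul_one,
          Nat.card_eq_fintype_card, Fintype.card_subtype]
      · intro u hu
        have := hall u hu
        simp only [hχ, hε] at this
        by_contra h
        rw [if_neg h] at this
        norm_num at this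
    · left
      push Not at hall
      obtain ⟨u0, hu0Z, hu0⟩ := hall
      have hu0' : χ u0 = -1 := by
        simp only [hχ, hε] at hu0 ⊢
        split_ifs at hu0 ⊢ with h
        · exact absurd rfl hu0
        · rfl
      have hχmul : ∀ u : G, χ (u0 * u) = χ u0 * χ u := by
        intro u
        rw [hK1, (hβ1 u0 u).mpr ((Subgroup.mem_center_iff.mp hu0Z u).symm), mul_one]
      have h1 : T = ∑ u : G, if u0 * u ∈ Z then χ (u0 * u) else 0 :=
        (Fintype.sum_equiv (Equiv.mulLeft u0) _ _ (fun u => rfl)).symm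
      have h2 : (∑ u : G, if u0 * u ∈ Z then χ (u0 * u) else 0) = - T := by
        rw [hT, ← Finset.sum_neg_distrib]
        apply Finset.sum_congr rfl
        intro u _
        have hiff : u0 * u ∈ Z ↔ u ∈ Z := Subgroup.mul_mem_cancel_left Z hu0Z
        by_cases hu : u ∈ Z
        · rw [if_pos (hiff.mpr hu), if_pos hu, hχmul, hu0']; ring
        · rw [if_neg (fun h => hu (hiff.mp h)), if_neg hu]; ring
      linarith
  · exact hmain

theorem key {G : Type u} [Group G] [Finite G] (hG : IsPGroup 2 G)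
    (hΦ : Nat.card (frattini G) = 2) (d : ℕ) (hd : (frattini G).index = 2 ^ d) :
    Nat.card {x : G // x ^ 2 = 1} = 2 ^ d ∨
    ∃ e m' : ℕ, Nat.card (Subgroup.center G) = 2 ^ (m' + 1) ∧ d + m' = 2 * e ∧ m' + 2 ≤ d ∧
      (Nat.card {x : G // x ^ 2 = 1} = 2 ^ d + 2 ^ e ∨ Nat.card {x : G // x ^ 2 = 1} + 2 ^ e = 2 ^ d) ∧
      (¬ ∀ a b : G, a * b = b * a) ∧ frattini G ≤ Subgroup.center G ∧
      ∃ z : G, z ≠ 1 ∧ ∀ w ∈ frattini G, w = 1 ∨ w = z := by
  classical
  have : Fact (Nat.Prime 2) := ⟨Nat.prime_two⟩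
  have : Fintype G := Fintype.ofFinite G
  obtain ⟨⟨z, hzΦ⟩, hz1', hzu⟩ := (Nat.card_eq_two_iff' (1 : frattini G)).mp hΦ
  have hz1 : z ≠ 1 := fun h => hz1' (Subtype.ext h)
  have hΦz : ∀ w ∈ frattini G, w = 1 ∨ w = z := by
    intro w hw
    by_cases h : w = 1
    · left; exact h
    · right
      have := hzu ⟨w, hw⟩ (fun h' => h (congrArg Subtype.val h'))
      exact congrArg Subtype.val this
  have hzz : z * z = 1 := by
    rcases hΦz _ ((frattini G).mul_mem hzΦ hzΦ) with h | h
    · exact h
    · exfalso; apply hz1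
      exact mul_left_cancel (a := z) (by rw [h, mul_one])
  have hn : (frattini G).Normal := inferInstance
  have hzc : ∀ g : G, g * z = z * g := by
    intro g
    have := hn.conj_mem z hzΦ g
    rcases hΦz _ this with h | h
    · exfalso; apply hz1
      have : z = g⁻¹ * (g * z * g⁻¹) * g := by group
      rw [this, h]; group
    · nth_rewrite 2 [← h]; group
  have hsq : ∀ x : G, x ^ 2 = 1 ∨ x ^ 2 = z :=
    fun x => hΦz _ (Cfsg.Agent.Helper1.IsPGroup.pow_mem_frattini hG x)
  have hcm : ∀ x y : G, ⁅x, y⁆ = 1 ∨ ⁅x, y⁆ = z := fun x y =>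
    hΦz _ (Cfsg.Agent.Helper1.IsPGroup.commutator_le_frattini hG
      (Subgroup.commutator_mem_commutator (Subgroup.mem_top x) (Subgroup.mem_top y)))
  obtain ⟨T, hT, hS⟩ := gauss z hz1 hzz hzc hsq hcm
  have hcardG : Nat.card G = 2 * 2 ^ d := by
    rw [← Subgroup.card_mul_index (frattini G), hΦ, hd]
  have hΦZ : frattini G ≤ Subgroup.center G := by
    intro w hw
    rw [Subgroup.mem_center_iff]
    intro g
    rcases hΦz w hw with rfl | rfl
    · rw [mul_one, one_mul]
    · exact hzc g
  -- the sum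
  set j := Nat.card {x : G // x ^ 2 = 1} with hj
  have hsum : (∑ x : G, (if x ^ 2 = 1 then (1 : ℤ) else -1)) = 2 * (j : ℤ) - 2 * 2 ^ d := by
    have h1 : j = (Finset.univ.filter (fun x : G => x ^ 2 = 1)).card := by
      rw [hj, Nat.card_eq_fintype_card, Fintype.card_subtype]
    have h2 : (Finset.univ.filter (fun x : G => x ^ 2 = 1)).card +
        (Finset.univ.filter (fun x : G => ¬ x ^ 2 = 1)).card = 2 * 2 ^ d := by
      rw [Finset.card_filter_add_card_filter_not, Finset.card_univ, ← Nat.card_eq_fintype_card,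
        hcardG]
    rw [Finset.sum_ite, Finset.sum_const, Finset.sum_const, h1]
    have h3 : ((Finset.univ.filter (fun x : G => ¬ x ^ 2 = 1)).card : ℤ) =
        2 * 2 ^ d - ((Finset.univ.filter (fun x : G => x ^ 2 = 1)).card : ℤ) := by
      have : (((Finset.univ.filter (fun x : G => x ^ 2 = 1)).card +
        (Finset.univ.filter (fun x : G => ¬ x ^ 2 = 1)).card : ℕ) : ℤ) = ((2 * 2 ^ d : ℕ) : ℤ) := by
        rw [h2]
      push_cast at this
      linarith
    simp only [nsmul_eq_mul, mul_one, mul_neg]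
    rw [h3]; ring
  rw [hsum, ← Nat.card_eq_fintype_card, hcardG] at hS
  rcases hT with hT0 | ⟨hTZ, hexp⟩
  · left
    rw [hT0, mul_zero] at hS
    have h0 : 2 * (j : ℤ) - 2 * 2 ^ d = 0 := by
      exact pow_eq_zero_iff (two_ne_zero) |>.mp hS
    have : (j : ℤ) = 2 ^ d := by linarith
    exact_mod_cast this
  · right
    -- nonabelian
    have hnonab : ¬ ∀ a b : G, a * b = b * a := by
      intro hab
      have hexp' : ∀ x : G, x ^ 2 = 1 := fun x =>
        hexp x (Subgroup.mem_center_iff.mpr (fun g => hab g x))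
      have := frattini_eq_bot_of_exp_two hab hexp'
      rw [this, Subgroup.card_bot] at hΦ
      omega
    obtain ⟨m, hm⟩ := IsPGroup.iff_card.mp (hG.to_subgroup (Subgroup.center G))
    have hm1 : 1 ≤ m := by
      rcases Nat.eq_zero_or_pos m with h | h
      · exfalso
        rw [h, pow_zero, Subgroup.card_eq_one] at hm
        apply hz1
        have := hΦZ hzΦ
        rw [hm, Subgroup.mem_bot] at this
        exact this
      · exact h
    obtain ⟨m', rfl⟩ : ∃ m', m = m' + 1 := ⟨m - 1, by omega⟩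
    -- index of the centre
    have hidx : m' + 2 ≤ d := by
      have h1 := Subgroup.card_mul_index (Subgroup.center G)
      rw [hm, hcardG] at h1
      have h2 : (Subgroup.center G).index ∣ 2 ^ (d + 1) := ⟨2 ^ (m' + 1), by rw [pow_succ, mul_comm (2 ^ d) 2, ← h1]; ring⟩
      obtain ⟨i, hi, hi'⟩ := (Nat.dvd_prime_pow Nat.prime_two).mp h2
      rw [hi', ← pow_add] at h1
      have h3 : m' + 1 + i = d + 1 := Nat.pow_right_injective (le_refl 2) (by change 2 ^ (m' + 1 + i) = 2 ^ (d + 1); rw [h1]; ring)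
      by_contra hlt
      have hi1 : i = 0 ∨ i = 1 := by omega
      apply hnonab
      rcases hi1 with rfl | rfl
      · rw [pow_zero, Subgroup.index_eq_one] at hi'
        intro a b
        have : b ∈ Subgroup.center G := by rw [hi']; exact Subgroup.mem_top b
        exact (Subgroup.mem_center_iff.mp this a)
      · rw [pow_one] at hi'
        have hc : Nat.card (G ⧸ Subgroup.center G) = 2 := hi'
        have : IsCyclic (G ⧸ Subgroup.center G) := isCyclic_of_prime_card hc
        have hmc := MonoidHom.isMulCommutative_of_isCyclic_of_ker_le_center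
          (QuotientGroup.mk' (Subgroup.center G)) (by rw [QuotientGroup.ker_mk'])
        exact fun a b => mul_comm' a b
    rw [hTZ, hm] at hS
    have h4 : ((j : ℤ) - 2 ^ d) ^ 2 = 2 ^ (d + m') := by
      have : (2 * (j : ℤ) - 2 * 2 ^ d) ^ 2 = 4 * ((j : ℤ) - 2 ^ d) ^ 2 := by ring
      rw [this] at hS
      have h5 : ((2 * 2 ^ d : ℕ) : ℤ) * ((2 ^ (m' + 1) : ℕ) : ℤ) = 4 * 2 ^ (d + m') := by
        push_cast; ring
      rw [h5] at hS
      linarith
    have h5 : (((j : ℤ) - 2 ^ d).natAbs) ^ 2 = 2 ^ (d + m') := by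
      have := Int.natAbs_sq ((j : ℤ) - 2 ^ d)
      rw [h4] at this
      exact_mod_cast this
    obtain ⟨e, he, hae⟩ := sq_eq_two_pow _ _ h5
    refine ⟨e, m', hm, he, hidx, ?_, hnonab, hΦZ, z, hz1, hΦz⟩
    rcases Int.natAbs_eq ((j : ℤ) - 2 ^ d) with h | h
    · left
      rw [hae] at h
      have : (j : ℤ) = 2 ^ d + 2 ^ e := by push_cast at h; linarith
      exact_mod_cast this
    · right
      rw [hae] at h
      have : (j : ℤ) + 2 ^ e = 2 ^ d := by push_cast at h; linarith
      exact_mod_cast this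

/-- Let G be a finite 2-group whose Frattini subgroup Φ(G) has order 2, with |G : Φ(G)| = 2^d, and let j be the number of elements x of G with x² = 1. Then j = 2^d, or j = 2^d + 2^(d−r) or j = 2^d − 2^(d−r) for some positive integer r with 2r ≤ d. Moreover if d = 2r and j is 2^d + 2^r or 2^d − 2^r, then G is extraspecial. -/
theorem result {G : Type*} [Group G] [Finite G] (hG : IsPGroup 2 G) (hΦ : Nat.card (frattini G) = 2) (d : ℕ) (hd : (frattini G).index = 2 ^ d) : (Nat.card {x : G // x ^ 2 = 1} = 2 ^ d ∨ ∃ r : ℕ, 1 ≤ r ∧ 2 * r ≤ d ∧ (Nat.card {x : G // x ^ 2 = 1} = 2 ^ d + 2 ^ (d - r) ∨ Nat.card {x : G // x ^ 2 = 1} + 2 ^ (d - r) = 2 ^ d)) ∧ (∀ r : ℕ, d = 2 * r → (Nat.card {x : G // x ^ 2 = 1} = 2 ^ d + 2 ^ r ∨ Nat.card {x : G // x ^ 2 = 1} + 2 ^ r = 2 ^ d) → Cfsg.IsExtraspecial 2 G) := by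
  have hkey := key hG hΦ d hd
  constructor
  · rcases hkey with h | ⟨e, m', -, he, hidx, hj, -⟩
    · left; exact h
    · right
      refine ⟨d - e, by omega, by omega, ?_⟩
      have : d - (d - e) = e := by omega
      rw [this]
      exact hj
  · intro r hdr hjr
    rcases hkey with h | ⟨e, m', hm, he, hidx, hj, hnonab, hΦZ, z, hz1, hΦz⟩
    · exfalso
      have := pow_pos (two_pos) r (M₀ := ℕ)
      omega
    · have her : e = r := by
        have h1 := pow_pos (two_pos) r (M₀ := ℕ)
        have h2 := pow_pos (two_pos) e (M₀ := ℕ)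
        have : 2 ^ e = 2 ^ r := by omega
        exact Nat.pow_right_injective (le_refl 2) this
      have hm0 : m' = 0 := by omega
      rw [hm0, zero_add, pow_one] at hm
      have hΦeq : frattini G = Subgroup.center G :=
        Subgroup.eq_of_le_of_card_ge hΦZ (by rw [hm, hΦ])
      refine ⟨⟨hG, hΦeq, ?_⟩, hm⟩
      rw [← hΦeq]
      have : Fact (Nat.Prime 2) := ⟨Nat.prime_two⟩
      apply le_antisymm (Cfsg.Agent.Helper1.IsPGroup.commutator_le_frattini hG)
      -- the commutator subgroup is nontrivial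
      have hex : ∃ a b : G, ⁅a, b⁆ ≠ 1 := by
        by_contra h
        push Not at h
        apply hnonab
        intro a b
        exact commutatorElement_eq_one_iff_mul_comm.mp (h a b)
      obtain ⟨a, b, hab⟩ := hex
      have hmem : ⁅a, b⁆ ∈ commutator G :=
        Subgroup.commutator_mem_commutator (Subgroup.mem_top a) (Subgroup.mem_top b)
      have hzmem : z ∈ commutator G := by
        rcases hΦz _ (Cfsg.Agent.Helper1.IsPGroup.commutator_le_frattini hG hmem) with h | h
        · exact absurd h hab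
        · rw [← h]; exact hmem
      intro w hw
      rcases hΦz w hw with rfl | rfl
      · exact Subgroup.one_mem _
      · exact hzmem


end Cfsg.Agent.S3772
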