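import Mathlib
import Cfsg.Statements.S3774
-- import your own Cfsg.Agent.* helpers here

set_option autoImplicit false
open Cfsg

namespace Cfsg.Agent.S3774
universe u

/-- The involution inside `⟨g⟩` for a nontrivial element of a 2-group. -/
theorem iota_spec {G : Type u} [Group G] [Finite G] (hG : IsPGroup 2 G) (g : G) (hg : g ≠ 1) :
    g ^ (orderOf g / 2) ≠ 1 ∧ (g ^ (orderOf g / 2)) ^ 2 = 1 := by
  have : Fact (Nat.Prime 2) := ⟨Nat.prime_two⟩
  obtain ⟨k, hk⟩ := IsPGroup.iff_orderOf.mp hG g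
  have hk1 : k ≠ 0 := by
    rintro rfl
    rw [pow_zero, orderOf_eq_one_iff] at hk
    exact hg hk
  obtain ⟨k', rfl⟩ : ∃ k', k = k' + 1 := ⟨k - 1, by omega⟩
  have hdiv : orderOf g / 2 = 2 ^ k' := by
    rw [hk, pow_succ, Nat.mul_div_cancel _ (by norm_num)]
  rw [hdiv]
  constructor
  · apply pow_ne_one_of_lt_orderOf (pow_ne_zero _ two_ne_zero)
    rw [hk]
    exact Nat.pow_lt_pow_right (by norm_num) (by omega)
  · rw [← pow_mul, ← pow_succ, ← hk, pow_orderOf_eq_one]

theorem arith (s n f : ℕ) (h : (2 ^ s - 1) * f = 2 ^ n - 1) : s ∣ n := by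
  have h1 : 2 ^ s - 1 ∣ 2 ^ n - 1 := ⟨f, h.symm⟩
  have h2 := Nat.pow_sub_one_gcd_pow_sub_one 2 s n
  rw [Nat.gcd_eq_left h1] at h2
  have h3 : 2 ^ s = 2 ^ Nat.gcd s n := by
    have := Nat.one_le_two_pow (n := s)
    have := Nat.one_le_two_pow (n := Nat.gcd s n)
    omega
  have h4 : s = Nat.gcd s n := Nat.pow_right_injective (le_refl 2) h3
  rw [h4]
  exact Nat.gcd_dvd_right s n

/-- Let G be a nontrivial finite 2-group whose automorphism group permutes the involutions of G transitively. Then every involution of G is central, so that the involutions together with 1 form the subgroup Ω₁(Z(G)), and if this subgroup has order q then |G| is a power of q. -/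
theorem result {G : Type*} [Group G] [Finite G] [Nontrivial G] (hG : IsPGroup 2 G) (htrans : ∀ x y : G, x ≠ 1 → x ^ 2 = 1 → y ≠ 1 → y ^ 2 = 1 → ∃ a : MulAut G, a x = y) : (∀ x : G, x ^ 2 = 1 → x ∈ Subgroup.center G) ∧ ∃ m : ℕ, Nat.card G = Nat.card {z : G // z ^ 2 = 1} ^ m := by
  classical
  have hp2 : Fact (Nat.Prime 2) := ⟨Nat.prime_two⟩
  have hZ : Nontrivial (Subgroup.center G) := hG.center_nontrivial
  obtain ⟨⟨z0, hz0c⟩, hz0'⟩ := exists_ne (1 : Subgroup.center G)
  have hz0 : z0 ≠ 1 := fun h => hz0' (Subtype.ext h)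
  set t0 := z0 ^ (orderOf z0 / 2) with ht0
  obtain ⟨ht01, ht02⟩ := iota_spec hG z0 hz0
  have ht0c : t0 ∈ Subgroup.center G := Subgroup.pow_mem _ hz0c _
  have hcentral : ∀ x : G, x ^ 2 = 1 → x ∈ Subgroup.center G := by
    intro x hx
    by_cases hx1 : x = 1
    · rw [hx1]; exact Subgroup.one_mem _
    obtain ⟨a, ha⟩ := htrans t0 x ht01 ht02 hx1 hx
    rw [Subgroup.mem_center_iff]
    intro g
    have h1 := Subgroup.mem_center_iff.mp ht0c (a.symm g)
    have h2 := congrArg a h1
    rw [map_mul, map_mul, ha, MulEquiv.apply_symm_apply] at h2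
    exact h2
  refine ⟨hcentral, ?_⟩
  -- the subgroup W of involutions
  let W : Subgroup G :=
    { carrier := {x | x ^ 2 = 1}
      one_mem' := one_pow 2
      mul_mem' := by
        intro a b ha hb
        have hab : Commute a b := (Subgroup.mem_center_iff.mp (hcentral a ha) b).symm
        change (a * b) ^ 2 = 1
        rw [hab.mul_pow, ha, hb, one_mul]
      inv_mem' := by
        intro a ha
        change (a⁻¹) ^ 2 = 1
        rw [inv_pow, ha, inv_one] }
  have hWcard : Nat.card W = Nat.card {z : G // z ^ 2 = 1} := rfl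
  obtain ⟨s, hs⟩ := IsPGroup.iff_card.mp (hG.to_subgroup W)
  obtain ⟨n, hn⟩ := IsPGroup.iff_card.mp hG
  -- counting
  let X := {g : G // g ≠ 1}
  let I := {t : G // t ≠ 1 ∧ t ^ 2 = 1}
  let ι : X → I := fun g => ⟨g.1 ^ (orderOf g.1 / 2), iota_spec hG g.1 g.2⟩
  let i0 : I := ⟨t0, ht01, ht02⟩
  set f := Nat.card {g : X // ι g = i0} with hf
  have hfib : ∀ t : I, Nat.card {g : X // ι g = t} = f := by
    intro t
    obtain ⟨a, ha⟩ := htrans t0 t.1 ht01 ht02 t.2.1 t.2.2
    symm
    apply Nat.card_congr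
    refine ⟨fun g => ⟨⟨a g.1.1, ?_⟩, ?_⟩, fun g => ⟨⟨a.symm g.1.1, ?_⟩, ?_⟩, ?_, ?_⟩
    · intro h
      exact g.1.2 (by simpa using h)
    · apply Subtype.ext
      have h1 := congrArg Subtype.val g.2
      change (a g.1.1) ^ (orderOf (a g.1.1) / 2) = t.1
      change g.1.1 ^ (orderOf g.1.1 / 2) = t0 at h1
      rw [MulEquiv.orderOf_eq, ← map_pow, h1, ha]
    · intro h
      exact g.1.2 (by simpa using h)
    · apply Subtype.ext
      have h1 := congrArg Subtype.val g.2
      change (a.symm g.1.1) ^ (orderOf (a.symm g.1.1) / 2) = t0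
      change g.1.1 ^ (orderOf g.1.1 / 2) = t.1 at h1
      rw [MulEquiv.orderOf_eq, ← map_pow, h1, ← ha, MulEquiv.symm_apply_apply]
    · intro g
      apply Subtype.ext; apply Subtype.ext
      simp
    · intro g
      apply Subtype.ext; apply Subtype.ext
      simp
  have hX : Nat.card X = Nat.card I * f := by
    have : Fintype I := Fintype.ofFinite I
    have h1 : Nat.card X = Nat.card (Σ t : I, {g : X // ι g = t}) :=
      Nat.card_congr (Equiv.sigmaFiberEquiv ι).symm
    rw [h1, Nat.card_sigma]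
    simp only [hfib]
    rw [Finset.sum_const, Finset.card_univ, smul_eq_mul, Nat.card_eq_fintype_card]
  have hXG : Nat.card X + 1 = Nat.card G := by
    have := Nat.card_congr (Equiv.sumCompl (fun g : G => g ≠ 1))
    rw [Nat.card_sum] at this
    have h2 : Nat.card {g : G // ¬ g ≠ 1} = 1 := by
      rw [Nat.card_eq_one_iff_unique]
      refine ⟨⟨?_⟩, ⟨⟨1, by simp⟩⟩⟩
      intro a b
      apply Subtype.ext
      have ha := a.2
      have hb := b.2
      push Not at ha hb
      rw [ha, hb]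
    rw [h2] at this
    exact this
  have hIW : Nat.card I + 1 = Nat.card {z : G // z ^ 2 = 1} := by
    have := Nat.card_congr (Equiv.sumCompl (fun z : {z : G // z ^ 2 = 1} => z.1 ≠ 1))
    rw [Nat.card_sum] at this
    have h2 : Nat.card {z : {z : G // z ^ 2 = 1} // ¬ z.1 ≠ 1} = 1 := by
      rw [Nat.card_eq_one_iff_unique]
      refine ⟨⟨?_⟩, ⟨⟨⟨1, one_pow 2⟩, by simp⟩⟩⟩
      intro a b
      apply Subtype.ext; apply Subtype.ext
      have ha := a.2
      have hb := b.2
      push Not at ha hb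
      rw [ha, hb]
    have h3 : Nat.card {z : {z : G // z ^ 2 = 1} // z.1 ≠ 1} = Nat.card I := by
      apply Nat.card_congr
      exact ⟨fun z => ⟨z.1.1, z.2, z.1.2⟩, fun t => ⟨⟨t.1, t.2.2⟩, t.2.1⟩, fun z => rfl, fun t => rfl⟩
    rw [h2, h3] at this
    exact this
  rw [← hWcard, hs] at hIW ⊢
  rw [hn] at hXG ⊢
  have harith : (2 ^ s - 1) * f = 2 ^ n - 1 := by
    have h1 : Nat.card I = 2 ^ s - 1 := by omega
    have h2 : Nat.card X = 2 ^ n - 1 := by omega
    rw [← h1, ← h2, hX]
  obtain ⟨m, hm⟩ := arith s n f harith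
  exact ⟨m, by rw [hm, pow_mul]⟩


end Cfsg.Agent.S3774
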