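import Mathlib
import Cfsg.Statements.S3775
-- import your own Cfsg.Agent.* helpers here

set_option autoImplicit false
open Cfsg

namespace Cfsg.Agent.S3775
universe u

section
variable {A : Type u} [CommGroup A] [Finite A] {p : ℕ} [Fact p.Prime]

/-- closed under the automorphisms in `X` -/
def Inv (X : Subgroup (MulAut A)) (B : Subgroup A) : Prop := ∀ x ∈ X, ∀ b ∈ B, x b ∈ B

theorem inv_iff (X : Subgroup (MulAut A)) (B : Subgroup A) :
    (∀ x ∈ X, B.map x.toMonoidHom = B) ↔ Inv X B := by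
  constructor
  · intro h x hx b hb
    have : x b ∈ B.map x.toMonoidHom := Subgroup.mem_map_of_mem _ hb
    rw [h x hx] at this
    exact this
  · intro h x hx
    apply le_antisymm
    · rintro _ ⟨b, hb, rfl⟩
      exact h x hx b hb
    · intro b hb
      refine ⟨x⁻¹ b, h x⁻¹ (X.inv_mem hx) b hb, ?_⟩
      show x (x⁻¹ b) = b
      simp

theorem inv_map_pow (X : Subgroup (MulAut A)) (B : Subgroup A) (hB : Inv X B) (n : ℕ) :
    Inv X (B.map (powMonoidHom n : A →* A)) := by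
  rintro x hx _ ⟨b, hb, rfl⟩
  refine ⟨x b, hB x hx b hb, ?_⟩
  simp [powMonoidHom_apply]

theorem inv_inf (X : Subgroup (MulAut A)) (B C : Subgroup A) (hB : Inv X B) (hC : Inv X C) :
    Inv X (B ⊓ C) := fun x hx b hb => ⟨hB x hx b hb.1, hC x hx b hb.2⟩

theorem inv_bot (X : Subgroup (MulAut A)) : Inv X (⊥ : Subgroup A) := by
  intro x hx b hb
  rw [Subgroup.mem_bot] at hb ⊢
  rw [hb, map_one]

theorem inv_top (X : Subgroup (MulAut A)) : Inv X (⊤ : Subgroup A) := fun _ _ _ _ => Subgroup.mem_top _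

theorem inv_ker_pow (X : Subgroup (MulAut A)) (n : ℕ) : Inv X (powMonoidHom n : A →* A).ker := by
  intro x hx b hb
  rw [MonoidHom.mem_ker, powMonoidHom_apply] at hb ⊢
  rw [← map_pow, hb, map_one]

theorem inv_comap_pow (X : Subgroup (MulAut A)) (B : Subgroup A) (hB : Inv X B) (n : ℕ) :
    Inv X (B.comap (powMonoidHom n : A →* A)) := by
  intro x hx b hb
  rw [Subgroup.mem_comap, powMonoidHom_apply] at hb ⊢
  rw [← map_pow]
  exact hB x hx _ hb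

/-- (ii) ⟹ (i) -/
theorem two_one (X : Subgroup (MulAut A))
    (h2 : ∀ B : Subgroup A, Inv X B → ∃ i : ℕ, ∀ a : A, a ∈ B ↔ a ^ p ^ i = 1) :
    ¬ ∃ B C : Subgroup A, B ≠ ⊥ ∧ C ≠ ⊥ ∧ Inv X B ∧ Inv X C ∧ B ⊓ C = ⊥ ∧ B ⊔ C = ⊤ := by
  rintro ⟨B, C, hB, hC, hBi, hCi, hBC, -⟩
  obtain ⟨i, hi⟩ := h2 B hBi
  obtain ⟨j, hj⟩ := h2 C hCi
  have key : ∀ (i j : ℕ) (a : A), i ≤ j → a ^ p ^ i = 1 → a ^ p ^ j = 1 := by
    intro i j a hij ha
    obtain ⟨k, rfl⟩ := Nat.exists_eq_add_of_le hij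
    rw [pow_add, pow_mul, ha, one_pow]
  rcases le_total i j with hij | hij
  · apply hB
    rw [eq_bot_iff, ← hBC]
    intro a ha
    exact ⟨ha, (hj a).2 (key i j a hij ((hi a).1 ha))⟩
  · apply hC
    rw [eq_bot_iff, ← hBC]
    intro a ha
    exact ⟨(hi a).2 (key j i a hij ((hj a).1 ha)), ha⟩

/-- (ii) ⟹ (iii) -/
theorem two_three (X : Subgroup (MulAut A))
    (h2 : ∀ B : Subgroup A, Inv X B → ∃ i : ℕ, ∀ a : A, a ∈ B ↔ a ^ p ^ i = 1) :
    ∀ B : Subgroup A, Inv X B → (∀ b ∈ B, b ^ p = 1) → B = ⊥ ∨ ∀ a : A, a ∈ B ↔ a ^ p = 1 := by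
  intro B hBi hexp
  obtain ⟨i, hi⟩ := h2 B hBi
  rcases Nat.eq_zero_or_pos i with rfl | hipos
  · left
    rw [eq_bot_iff]
    intro a ha
    have := (hi a).1 ha
    rw [pow_zero, pow_one] at this
    rw [Subgroup.mem_bot]; exact this
  · right
    intro a
    refine ⟨hexp a, fun ha => (hi a).2 ?_⟩
    obtain ⟨k, rfl⟩ := Nat.exists_eq_add_of_le hipos
    rw [pow_add, pow_one, pow_mul, ha, one_pow]

/-- (iii) ⟹ (ii) -/
theorem three_two (hA : IsPGroup p A) (X : Subgroup (MulAut A))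
    (h3 : ∀ B : Subgroup A, Inv X B → (∀ b ∈ B, b ^ p = 1) → B = ⊥ ∨ ∀ a : A, a ∈ B ↔ a ^ p = 1) :
    ∀ B : Subgroup A, Inv X B → ∃ i : ℕ, ∀ a : A, a ∈ B ↔ a ^ p ^ i = 1 := by
  classical
  intro B hBi
  by_cases hB : B = ⊥
  · refine ⟨0, fun a => ?_⟩
    rw [hB, Subgroup.mem_bot, pow_zero, pow_one]
  -- the exponent of B
  have hex : ∃ i : ℕ, ∀ b ∈ B, b ^ p ^ i = 1 := by
    obtain ⟨s, hs⟩ := IsPGroup.iff_card.mp hA
    refine ⟨s, fun b _ => ?_⟩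
    rw [← hs]; exact pow_card_eq_one'
  set i := Nat.find hex with hi
  have hi1 : ∀ b ∈ B, b ^ p ^ i = 1 := Nat.find_spec hex
  have hipos : 0 < i := by
    by_contra hcon
    have h0 : i = 0 := by omega
    apply hB
    rw [eq_bot_iff]
    intro b hb
    have := hi1 b hb
    rw [h0, pow_zero, pow_one] at this
    rw [Subgroup.mem_bot]; exact this
  obtain ⟨i', hi'⟩ : ∃ i', i = i' + 1 := ⟨i - 1, by omega⟩
  have hmin : ¬ ∀ b ∈ B, b ^ p ^ i' = 1 := Nat.find_min hex (by omega)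
  set B' := B.map (powMonoidHom (p ^ i') : A →* A) with hB'
  have hB'i : Inv X B' := inv_map_pow X B hBi _
  have hB'exp : ∀ b ∈ B', b ^ p = 1 := by
    rintro _ ⟨b, hb, rfl⟩
    rw [powMonoidHom_apply, ← pow_mul, ← pow_succ, ← hi']
    exact hi1 b hb
  have hB'ne : B' ≠ ⊥ := by
    intro h
    apply hmin
    intro b hb
    have : b ^ p ^ i' ∈ B' := ⟨b, hb, rfl⟩
    rw [h, Subgroup.mem_bot] at this
    exact this
  have hB'eq : ∀ a : A, a ∈ B' ↔ a ^ p = 1 := by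
    rcases h3 B' hB'i hB'exp with h | h
    · exact absurd h hB'ne
    · exact h
  have key : ∀ k : ℕ, k ≤ i → ∀ a : A, a ^ p ^ k = 1 → a ∈ B := by
    intro k
    induction k with
    | zero =>
      intro _ a ha
      rw [pow_zero, pow_one] at ha
      rw [ha]; exact B.one_mem
    | succ k ih =>
      intro hk a ha
      have h1 : (a ^ p ^ k) ^ p = 1 := by rw [← pow_mul, ← pow_succ]; exact ha
      obtain ⟨b, hb, hba⟩ := (hB'eq _).2 h1
      rw [powMonoidHom_apply] at hba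
      -- c = b ^ p ^ (i' - k)
      have hki : k ≤ i' := by omega
      obtain ⟨d, hd⟩ := Nat.exists_eq_add_of_le hki
      set c := b ^ p ^ d with hc
      have hcB : c ∈ B := B.pow_mem hb _
      have hck : c ^ p ^ k = a ^ p ^ k := by
        rw [hc, ← pow_mul, ← pow_add, add_comm, ← hd, hba]
      have h2 : (a * c⁻¹) ^ p ^ k = 1 := by
        rw [mul_pow, inv_pow, hck, mul_inv_cancel]
      have h3' := ih (by omega) _ h2
      have : a = a * c⁻¹ * c := by group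
      rw [this]
      exact B.mul_mem h3' hcB
  exact ⟨i, fun a => ⟨hi1 a, key i le_rfl a⟩⟩

theorem bezout_mem (T : Subgroup A) (a : A) (hap : a ^ p ∈ T) (j : ℤ) (hj : ¬ (p : ℤ) ∣ j)
    (haj : a ^ j ∈ T) : a ∈ T := by
  have hp : p.Prime := Fact.out
  have hcop : IsCoprime (p : ℤ) j :=
    (Nat.prime_iff_prime_int.1 hp).irreducible.coprime_iff_not_dvd.2 hj
  obtain ⟨u, v, huv⟩ := hcop
  have h2 : a ^ (p : ℤ) ∈ T := by rw [zpow_natCast]; exact hap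
  have : a = (a ^ (p : ℤ)) ^ u * (a ^ j) ^ v := by
    rw [← zpow_mul, ← zpow_mul, ← zpow_add, mul_comm (p : ℤ) u, mul_comm j v, huv, zpow_one]
  rw [this]
  exact T.mul_mem (T.zpow_mem h2 _) (T.zpow_mem haj _)

theorem exists_compl_mod (P K H : Subgroup A) (hPK : P ≤ K) (hKH : K ≤ H)
    (hexp : ∀ h ∈ H, h ^ p ∈ P) :
    ∃ L₀ : Subgroup A, P ≤ L₀ ∧ L₀ ≤ H ∧ L₀ ⊓ K ≤ P ∧ H ≤ L₀ ⊔ K := by
  classical
  let 𝒮 : Set (Subgroup A) := {L | P ≤ L ∧ L ≤ H ∧ L ⊓ K ≤ P}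
  have hP𝒮 : P ∈ 𝒮 := ⟨le_rfl, hPK.trans hKH, inf_le_left⟩
  obtain ⟨L₀, hL₀⟩ := Set.Finite.exists_maximal (Set.toFinite 𝒮) ⟨P, hP𝒮⟩
  obtain ⟨hPL, hLH, hLK⟩ := hL₀.1
  refine ⟨L₀, hPL, hLH, hLK, ?_⟩
  intro a ha
  by_contra hna
  set L₁ := L₀ ⊔ Subgroup.zpowers a with hL₁
  have hL₁H : L₁ ≤ H := sup_le hLH (by rw [Subgroup.zpowers_le]; exact ha)
  have hnot : ¬ (L₁ ⊓ K ≤ P) := by
    intro h
    have hmem : L₁ ∈ 𝒮 := ⟨hPL.trans le_sup_left, hL₁H, h⟩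
    have hle : L₁ ≤ L₀ := hL₀.2 hmem le_sup_left
    apply hna
    apply Subgroup.mem_sup_left
    apply hle
    exact Subgroup.mem_sup_right (Subgroup.mem_zpowers a)
  rw [SetLike.not_le_iff_exists] at hnot
  obtain ⟨y, hyLK, hyP⟩ := hnot
  have hyL₁ : y ∈ L₀ ⊔ Subgroup.zpowers a := hyLK.1
  have hyK : y ∈ K := hyLK.2
  obtain ⟨l, hl, z, hz, hlz⟩ := Subgroup.mem_sup.1 hyL₁
  obtain ⟨j, rfl⟩ := Subgroup.mem_zpowers_iff.1 hz
  by_cases hpj : (p : ℤ) ∣ j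
  · obtain ⟨j', rfl⟩ := hpj
    apply hyP
    apply hLK
    refine ⟨?_, hyK⟩
    rw [← hlz]
    apply L₀.mul_mem hl
    rw [zpow_mul, zpow_natCast]
    exact L₀.zpow_mem (hPL (hexp a ha)) _
  · apply hna
    apply bezout_mem (L₀ ⊔ K) a (Subgroup.mem_sup_left (hPL (hexp a ha))) j hpj
    have : a ^ j = l⁻¹ * y := by rw [← hlz]; group
    rw [this]
    exact Subgroup.mul_mem_sup (L₀.inv_mem hl) hyK

theorem exists_compl_of_homocyclic (e : ℕ) (hexpA : ∀ a : A, a ^ p ^ (e + 1) = 1) (H : Subgroup A)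
    (hH : ∀ h ∈ H, h ^ p ^ e = 1 → ∃ h₁ ∈ H, h₁ ^ p = h) :
    ∃ C₀ : Subgroup A, H ⊓ C₀ = ⊥ ∧ H ⊔ C₀ = ⊤ := by
  classical
  let 𝒮 : Set (Subgroup A) := {C | H ⊓ C = ⊥}
  have h𝒮 : (⊥ : Subgroup A) ∈ 𝒮 := inf_bot_eq H
  obtain ⟨C₀, hC₀⟩ := Set.Finite.exists_maximal (Set.toFinite 𝒮) ⟨⊥, h𝒮⟩
  have hHC : H ⊓ C₀ = ⊥ := hC₀.1
  refine ⟨C₀, hHC, ?_⟩
  rw [eq_top_iff]
  intro a₀ _
  by_contra hna₀
  set T := H ⊔ C₀ with hT
  -- reduce to a ∉ T with a ^ p ∈ T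
  obtain ⟨a, hna, hap⟩ : ∃ a : A, a ∉ T ∧ a ^ p ∈ T := by
    have hex : ∃ i : ℕ, a₀ ^ p ^ i ∈ T := ⟨e + 1, by rw [hexpA]; exact T.one_mem⟩
    have hi1 := Nat.find_spec hex
    have hipos : 0 < Nat.find hex := by
      by_contra hcon
      have h0 : Nat.find hex = 0 := by omega
      rw [h0, pow_zero, pow_one] at hi1
      exact hna₀ hi1
    obtain ⟨i', hi'⟩ : ∃ i', Nat.find hex = i' + 1 := ⟨Nat.find hex - 1, by omega⟩
    refine ⟨a₀ ^ p ^ i', Nat.find_min hex (by omega), ?_⟩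
    rw [← pow_mul, ← pow_succ, ← hi']
    exact hi1
  obtain ⟨h, hh, c, hc, hhc⟩ := Subgroup.mem_sup.1 hap
  have h1 : h ^ p ^ e = 1 := by
    have h2 : (a ^ p) ^ p ^ e = 1 := by rw [← pow_mul, ← pow_succ']; exact hexpA a
    rw [← hhc, mul_pow] at h2
    have h3 : h ^ p ^ e ∈ H ⊓ C₀ := by
      refine ⟨H.pow_mem hh _, ?_⟩
      have : h ^ p ^ e = (c ^ p ^ e)⁻¹ := eq_inv_of_mul_eq_one_left h2
      rw [this]
      exact C₀.inv_mem (C₀.pow_mem hc _)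
    rw [hHC, Subgroup.mem_bot] at h3
    exact h3
  obtain ⟨h₁, hh₁, hh₁p⟩ := hH h hh h1
  set a' := a * h₁⁻¹ with ha'
  have ha'p : a' ^ p = c := by
    rw [ha', mul_pow, inv_pow, hh₁p, ← hhc, mul_comm h c, mul_inv_cancel_right]
  have hna' : a' ∉ T := by
    intro h'
    apply hna
    have : a = a' * h₁ := by rw [ha']; group
    rw [this]
    exact T.mul_mem h' (Subgroup.mem_sup_left hh₁)
  set C₁ := C₀ ⊔ Subgroup.zpowers a' with hC₁
  have hnot : H ⊓ C₁ ≠ ⊥ := by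
    intro h'
    have hle : C₁ ≤ C₀ := hC₀.2 (show C₁ ∈ 𝒮 from h') le_sup_left
    apply hna'
    apply Subgroup.mem_sup_right
    apply hle
    exact Subgroup.mem_sup_right (Subgroup.mem_zpowers a')
  rw [Ne, Subgroup.eq_bot_iff_forall] at hnot
  push Not at hnot
  obtain ⟨y, hyHC, hy1⟩ := hnot
  have hyH : y ∈ H := hyHC.1
  have hyC₁ : y ∈ C₀ ⊔ Subgroup.zpowers a' := hyHC.2
  obtain ⟨c', hc', z, hz, hcz⟩ := Subgroup.mem_sup.1 hyC₁
  obtain ⟨j, rfl⟩ := Subgroup.mem_zpowers_iff.1 hz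
  by_cases hpj : (p : ℤ) ∣ j
  · obtain ⟨j', rfl⟩ := hpj
    apply hy1
    have : y ∈ H ⊓ C₀ := by
      refine ⟨hyH, ?_⟩
      rw [← hcz]
      apply C₀.mul_mem hc'
      rw [zpow_mul, zpow_natCast, ha'p]
      exact C₀.zpow_mem hc _
    rw [hHC, Subgroup.mem_bot] at this
    exact this
  · apply hna'
    apply bezout_mem T a' (by rw [ha'p]; exact Subgroup.mem_sup_right hc) j hpj
    have : a' ^ j = c'⁻¹ * y := by rw [← hcz]; group
    rw [this]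
    exact T.mul_mem (Subgroup.mem_sup_right (C₀.inv_mem hc')) (Subgroup.mem_sup_left hyH)

theorem exists_pow_inv (hA : IsPGroup p A) (n : ℕ) (hn : n.Coprime p) :
    ∃ m : ℕ, ∀ a : A, (a ^ n) ^ m = a := by
  obtain ⟨s, hs⟩ := IsPGroup.iff_card.mp hA
  by_cases h1 : Nat.card A = 1
  · refine ⟨0, fun a => ?_⟩
    have : Subsingleton A := (Nat.card_eq_one_iff_unique.1 h1).1
    exact Subsingleton.elim _ _
  · have hcop : Nat.Coprime n (Nat.card A) := by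
      rw [hs]; exact Nat.Coprime.pow_right s hn
    have hlt : 1 < Nat.card A := by
      have := Nat.card_pos (α := A)
      omega
    obtain ⟨m, -, hm⟩ := Nat.exists_mul_mod_eq_one_of_coprime hcop hlt
    refine ⟨m, fun a => ?_⟩
    rw [← pow_mul, ← pow_mod_natCard, hm, pow_one]

theorem avg (hA : IsPGroup p A) (X : Subgroup (MulAut A)) (hX : (Nat.card X).Coprime p)
    (P K H L₀ : Subgroup A) (hP : Inv X P) (hK : Inv X K) (hH : Inv X H)
    (hPK : P ≤ K) (hKH : K ≤ H) (hLK : L₀ ⊓ K ≤ P)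
    (hsup : H ≤ L₀ ⊔ K) :
    ∃ L : Subgroup A, Inv X L ∧ P ≤ L ∧ L ≤ H ∧ L ⊓ K ≤ P ∧ H ≤ L ⊔ K := by
  classical
  haveI : Fintype X := Fintype.ofFinite X
  set n := Nat.card X with hn
  obtain ⟨m, hm⟩ := exists_pow_inv hA n hX
  set q := QuotientGroup.mk' P with hq
  have hq1 : ∀ a : A, q a = 1 ↔ a ∈ P := fun a => QuotientGroup.eq_one_iff a
  have hqeq : ∀ u v : A, q u = q v ↔ u⁻¹ * v ∈ P := fun u v => QuotientGroup.eq
  have hq_inv : ∀ x ∈ X, ∀ u v : A, q u = q v → q (x u) = q (x v) := by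
    intro x hx u v huv
    rw [hqeq] at huv ⊢
    have := hP x hx _ huv
    rwa [map_mul, map_inv] at this
  have hex : ∀ a : A, ∃ k : A, a ∈ H → (k ∈ K ∧ a * k⁻¹ ∈ L₀) := by
    intro a
    by_cases ha : a ∈ H
    · obtain ⟨l, hl, k, hk, hlk⟩ := Subgroup.mem_sup.1 (hsup ha)
      refine ⟨k, fun _ => ⟨hk, ?_⟩⟩
      rw [← hlk, mul_inv_cancel_right]
      exact hl
    · exact ⟨1, fun h => absurd h ha⟩
  choose π hπ using hex
  have hU : ∀ a ∈ H, ∀ k ∈ K, a * k⁻¹ ∈ L₀ → q (π a) = q k := by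
    intro a ha k hk hak
    rw [hqeq]
    apply hLK
    refine ⟨?_, K.mul_mem (K.inv_mem (hπ a ha).1) hk⟩
    have h1 : (π a)⁻¹ * k = (a * (π a)⁻¹) * (a * k⁻¹)⁻¹ := by
      rw [mul_inv_rev, inv_inv, mul_comm a, mul_assoc, ← mul_assoc a, mul_comm a k,
        mul_assoc k, mul_inv_cancel, mul_one]
    rw [h1]
    exact L₀.mul_mem (hπ a ha).2 (L₀.inv_mem hak)
  have hπmul : ∀ a ∈ H, ∀ b ∈ H, q (π (a * b)) = q (π a * π b) := by
    intro a ha b hb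
    apply hU _ (H.mul_mem ha hb) _ (K.mul_mem (hπ a ha).1 (hπ b hb).1)
    have h1 : a * b * (π a * π b)⁻¹ = (a * (π a)⁻¹) * (b * (π b)⁻¹) := by
      rw [mul_inv, mul_mul_mul_comm]
    rw [h1]
    exact L₀.mul_mem (hπ a ha).2 (hπ b hb).2
  have hπK : ∀ k ∈ K, q (π k) = q k := by
    intro k hk
    apply hU k (hKH hk) k hk
    rw [mul_inv_cancel]
    exact L₀.one_mem
  -- the averaged map
  set σ : A → A := fun a => ∏ x : X, (x : MulAut A) (π ((x : MulAut A)⁻¹ a)) with hσ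
  have hxH : ∀ (x : X) (a : A), a ∈ H → (x : MulAut A)⁻¹ a ∈ H := fun x a ha =>
    hH _ (X.inv_mem x.2) a ha
  have hxK : ∀ (x : X) (a : A), a ∈ K → (x : MulAut A)⁻¹ a ∈ K := fun x a ha =>
    hK _ (X.inv_mem x.2) a ha
  have hσK : ∀ a ∈ H, σ a ∈ K := by
    intro a ha
    apply Subgroup.prod_mem
    intro x _
    exact hK _ x.2 _ (hπ _ (hxH x a ha)).1
  have hσmul : ∀ a ∈ H, ∀ b ∈ H, q (σ (a * b)) = q (σ a) * q (σ b) := by
    intro a ha b hb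
    simp only [hσ]
    rw [map_prod, map_prod, map_prod, ← Finset.prod_mul_distrib]
    apply Finset.prod_congr rfl
    intro x _
    rw [← map_mul q, ← map_mul (x : MulAut A)]
    apply hq_inv _ x.2
    rw [map_mul]
    exact hπmul _ (hxH x a ha) _ (hxH x b hb)
  have hσKn : ∀ k ∈ K, q (σ k) = q k ^ n := by
    intro k hk
    simp only [hσ]
    rw [map_prod]
    have : ∀ x ∈ (Finset.univ : Finset X), q ((x : MulAut A) (π ((x : MulAut A)⁻¹ k))) = q k := by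
      intro x _
      have h1 := hq_inv _ x.2 _ _ (hπK _ (hxK x k hk))
      rw [h1, MulAut.apply_inv_self]
    rw [Finset.prod_congr rfl this, Finset.prod_const, Finset.card_univ, hn,
      Nat.card_eq_fintype_card]
  have hσeq : ∀ y ∈ X, ∀ a : A, σ (y a) = y (σ a) := by
    intro y hy a
    simp only [hσ]
    rw [map_prod]
    have := Fintype.prod_equiv (Equiv.mulLeft (⟨y, hy⟩ : X))
      (fun x : X => y ((x : MulAut A) (π ((x : MulAut A)⁻¹ a))))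
      (fun x : X => (x : MulAut A) (π ((x : MulAut A)⁻¹ (y a)))) (by
        intro x
        simp only [Equiv.coe_mulLeft, Subgroup.coe_mul, mul_inv_rev, MulAut.mul_apply,
          MulAut.inv_apply_self])
    exact this.symm
  have hσ1 : q (σ 1) = 1 := by rw [hσKn 1 K.one_mem, map_one, one_pow]
  let L : Subgroup A :=
    { carrier := {a | a ∈ H ∧ σ a ∈ P}
      one_mem' := ⟨H.one_mem, (hq1 _).1 hσ1⟩
      mul_mem' := by
        rintro a b ⟨ha, hsa⟩ ⟨hb, hsb⟩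
        refine ⟨H.mul_mem ha hb, ?_⟩
        rw [← hq1, hσmul a ha b hb, (hq1 _).2 hsa, (hq1 _).2 hsb, one_mul]
      inv_mem' := by
        rintro a ⟨ha, hsa⟩
        refine ⟨H.inv_mem ha, ?_⟩
        have h1 := hσmul a⁻¹ (H.inv_mem ha) a ha
        rw [inv_mul_cancel, hσ1, (hq1 _).2 hsa, mul_one] at h1
        exact (hq1 _).1 h1.symm }
  have hLmem : ∀ a, a ∈ L ↔ a ∈ H ∧ σ a ∈ P := fun a => Iff.rfl
  refine ⟨L, ?_, ?_, ?_, ?_, ?_⟩
  · intro y hy a ha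
    rw [hLmem] at ha ⊢
    refine ⟨hH y hy a ha.1, ?_⟩
    rw [hσeq y hy]
    exact hP y hy _ ha.2
  · intro a ha
    rw [hLmem]
    refine ⟨hKH (hPK ha), ?_⟩
    rw [← hq1, hσKn a (hPK ha), (hq1 a).2 ha, one_pow]
  · intro a ha
    exact ha.1
  · rintro a ⟨haL, haK⟩
    have haK' : a ∈ K := haK
    have h1 : q (σ a) = 1 := (hq1 _).2 ((hLmem a).1 haL).2
    rw [hσKn a haK'] at h1
    have h2 : q a = 1 := by
      have : q a = (q a ^ n) ^ m := by rw [← map_pow, ← map_pow, hm]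
      rw [this, h1, one_pow]
    exact (hq1 a).1 h2
  · intro a ha
    set k := (σ a) ^ m with hk
    have hkK : k ∈ K := K.pow_mem (hσK a ha) _
    have hakL : a * k⁻¹ ∈ L := by
      rw [hLmem]
      have hakH : a * k⁻¹ ∈ H := H.mul_mem ha (H.inv_mem (hKH hkK))
      refine ⟨hakH, ?_⟩
      rw [← hq1, hσmul a ha _ (H.inv_mem (hKH hkK)), hσKn _ (K.inv_mem hkK), hk, map_inv,
        inv_pow, map_pow, ← pow_mul, mul_comm m n, pow_mul, ← map_pow, ← map_pow, hm,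
        mul_inv_cancel]
    have : a = a * k⁻¹ * k := by rw [inv_mul_cancel_right]
    rw [this]
    exact Subgroup.mul_mem_sup hakL hkK


/-- (i) ⟹ (iii) -/
theorem one_three (hA : IsPGroup p A) (X : Subgroup (MulAut A)) (hX : (Nat.card X).Coprime p)
    (h1 : ¬ ∃ B C : Subgroup A, B ≠ ⊥ ∧ C ≠ ⊥ ∧ Inv X B ∧ Inv X C ∧ B ⊓ C = ⊥ ∧ B ⊔ C = ⊤) :
    ∀ B : Subgroup A, Inv X B → (∀ b ∈ B, b ^ p = 1) → B = ⊥ ∨ ∀ a : A, a ∈ B ↔ a ^ p = 1 := by
  classical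
  by_cases htriv : ∀ a : A, a = 1
  · intro B _ _
    left
    rw [eq_bot_iff]
    intro b _
    rw [Subgroup.mem_bot]
    exact htriv b
  push Not at htriv
  have hex : ∃ i : ℕ, ∀ a : A, a ^ p ^ i = 1 := by
    obtain ⟨s, hs⟩ := IsPGroup.iff_card.mp hA
    refine ⟨s, fun a => ?_⟩
    rw [← hs]; exact pow_card_eq_one'
  have hi1 := Nat.find_spec hex
  have hipos : 0 < Nat.find hex := by
    by_contra hcon
    have h0 : Nat.find hex = 0 := by omega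
    obtain ⟨a, ha⟩ := htriv
    have := hi1 a
    rw [h0, pow_zero, pow_one] at this
    exact ha this
  obtain ⟨e, he⟩ : ∃ e, Nat.find hex = e + 1 := ⟨Nat.find hex - 1, by omega⟩
  have hexpA : ∀ a : A, a ^ p ^ (e + 1) = 1 := by rw [← he]; exact hi1
  have hmin : ¬ ∀ a : A, a ^ p ^ e = 1 := Nat.find_min hex (by omega)
  set ψ : A →* A := powMonoidHom (p ^ e) with hψ
  have hψapp : ∀ a, ψ a = a ^ p ^ e := fun a => rfl
  have hrange_ne : ψ.range ≠ ⊥ := by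
    intro h
    apply hmin
    intro a
    have : ψ a ∈ ψ.range := ⟨a, rfl⟩
    rw [h, Subgroup.mem_bot] at this
    exact this
  have hrange_inv : Inv X ψ.range := by
    rw [MonoidHom.range_eq_map]
    exact inv_map_pow X ⊤ (inv_top X) _
  let 𝒩 : Set (Subgroup A) := {N | N ≠ ⊥ ∧ Inv X N ∧ N ≤ ψ.range}
  have h𝒩 : ψ.range ∈ 𝒩 := ⟨hrange_ne, hrange_inv, le_rfl⟩
  obtain ⟨N, hN⟩ := Set.Finite.exists_minimal (Set.toFinite 𝒩) ⟨_, h𝒩⟩
  obtain ⟨hNne, hNi, hNr⟩ := hN.1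
  let ℋ : Set (Subgroup A) := {H | Inv X H ∧ H.map ψ = N}
  have hℋ : N.comap ψ ∈ ℋ :=
    ⟨inv_comap_pow X N hNi _, by rw [Subgroup.map_comap_eq, inf_eq_right.2 hNr]⟩
  obtain ⟨H, hH⟩ := Set.Finite.exists_minimal (Set.toFinite ℋ) ⟨_, hℋ⟩
  obtain ⟨hHi, hHN⟩ := hH.1
  set K := H ⊓ ψ.ker with hK
  set P := H.map (powMonoidHom p : A →* A) with hP
  have hPK : P ≤ K := by
    rintro _ ⟨h, hh, rfl⟩
    refine ⟨H.pow_mem hh _, ?_⟩
    show (powMonoidHom p : A →* A) h ∈ ψ.ker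
    rw [MonoidHom.mem_ker, hψapp, powMonoidHom_apply, ← pow_mul, ← pow_succ']
    exact hexpA h
  have hKH : K ≤ H := inf_le_left
  obtain ⟨L₀, -, -, hL₀K, hsup₀⟩ :=
    exists_compl_mod (p := p) P K H hPK hKH (fun h hh => ⟨h, hh, rfl⟩)
  obtain ⟨L, hLi, hPL, hLH, hLK, hsup⟩ := avg hA X hX P K H L₀ (inv_map_pow X H hHi _)
    (inv_inf X _ _ hHi (inv_ker_pow X _)) hHi hPK hKH hL₀K hsup₀
  have hLN : L.map ψ = N := by
    apply le_antisymm
    · rw [← hHN]; exact Subgroup.map_mono hLH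
    · rw [← hHN]
      rintro _ ⟨h, hh, rfl⟩
      obtain ⟨l, hl, k, hk, rfl⟩ := Subgroup.mem_sup.1 (hsup hh)
      refine ⟨l, hl, ?_⟩
      rw [map_mul, (MonoidHom.mem_ker).1 hk.2, mul_one]
  have hLeq : H ≤ L := hH.2 ⟨hLi, hLN⟩ hLH
  have hKP : K ≤ P := fun k hk => hLK ⟨hLeq hk.1, hk⟩
  have hhom : ∀ h ∈ H, h ^ p ^ e = 1 → ∃ h₁ ∈ H, h₁ ^ p = h := by
    intro h hh h1
    obtain ⟨h₁, hh₁, hh₁p⟩ := hKP ⟨hh, MonoidHom.mem_ker.2 h1⟩
    exact ⟨h₁, hh₁, hh₁p⟩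
  obtain ⟨C₀, hHC₀, hHC₀'⟩ := exists_compl_of_homocyclic e hexpA H hhom
  obtain ⟨C, hCi, -, -, hCH, hCsup⟩ := avg hA X hX ⊥ H ⊤ C₀ (inv_bot X) hHi (inv_top X) bot_le
    le_top (by rw [inf_comm, hHC₀]) (by rw [sup_comm, hHC₀'])
  have hHne : H ≠ ⊥ := by
    intro h
    apply hNne
    rw [← hHN, h, Subgroup.map_bot]
  have hCbot : C = ⊥ := by
    by_contra hC
    exact h1 ⟨H, C, hHne, hC, hHi, hCi, by rw [inf_comm]; exact le_bot_iff.1 hCH,
      by rw [sup_comm]; exact top_le_iff.1 hCsup⟩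
  have hHtop : H = ⊤ := by
    rw [hCbot, bot_sup_eq] at hCsup
    exact top_le_iff.1 hCsup
  have hhomA : ∀ a : A, a ^ p ^ e = 1 → ∃ b : A, b ^ p = a := by
    intro a ha
    obtain ⟨b, -, hb⟩ := hhom a (by rw [hHtop]; exact Subgroup.mem_top a) ha
    exact ⟨b, hb⟩
  have hrange : ψ.range = N := by rw [MonoidHom.range_eq_map, ← hHtop, hHN]
  have hF : ∀ k : ℕ, k ≤ e → ∀ a : A, a ^ p ^ (e + 1 - k) = 1 → ∃ b : A, b ^ p ^ k = a := by
    intro k
    induction k with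
    | zero =>
      intro _ a _
      exact ⟨a, by rw [pow_zero, pow_one]⟩
    | succ k ih =>
      intro hk a ha
      have h2 : a ^ p ^ (e + 1 - k) = 1 := by
        have : e + 1 - k = (e + 1 - (k + 1)) + 1 := by omega
        rw [this, pow_succ, pow_mul, ha, one_pow]
      obtain ⟨b, hb⟩ := ih (by omega) a h2
      have h3 : b ^ p ^ e = 1 := by
        have : e = k + (e + 1 - (k + 1)) := by omega
        rw [this, pow_add, pow_mul, hb]
        exact ha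
      obtain ⟨c, hc⟩ := hhomA b h3
      refine ⟨c, ?_⟩
      rw [pow_succ', pow_mul, hc, hb]
  have hΩ : ∀ a : A, a ^ p = 1 → a ∈ N := by
    intro a ha
    obtain ⟨b, hb⟩ := hF e le_rfl a (by
      have : e + 1 - e = 1 := by omega
      rw [this, pow_one]; exact ha)
    rw [← hrange]
    exact ⟨b, hb⟩
  intro B hBi hBexp
  by_cases hB : B = ⊥
  · exact Or.inl hB
  · right
    have hBN : B ≤ N := fun b hb => hΩ b (hBexp b hb)
    have hNB : N ≤ B := hN.2 ⟨hB, hBi, hBN.trans hNr⟩ hBN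
    intro a
    exact ⟨hBexp a, fun ha => hNB (hΩ a ha)⟩

end

/-- Let A be a finite abelian p-group and X a group of automorphisms of A of order prime to p. Call a subgroup of A invariant when every element of X maps it onto itself. Then the following are equivalent: (i) A is not the direct product of two nontrivial invariant subgroups; (ii) every invariant subgroup of A is one of the subgroups Ω_i(A) = {a : a^(p^i) = 1}; (iii) the subgroup Ω₁(A) of elements of order dividing p has no invariant subgroups other than 1 and itself. -/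
theorem result {A : Type*} [CommGroup A] [Finite A] {p : ℕ} [Fact p.Prime] (hA : IsPGroup p A) (X : Subgroup (MulAut A)) (hX : (Nat.card X).Coprime p) : ((¬ ∃ B C : Subgroup A, B ≠ ⊥ ∧ C ≠ ⊥ ∧ (∀ x ∈ X, B.map x.toMonoidHom = B) ∧ (∀ x ∈ X, C.map x.toMonoidHom = C) ∧ B ⊓ C = ⊥ ∧ B ⊔ C = ⊤) ↔ (∀ B : Subgroup A, (∀ x ∈ X, B.map x.toMonoidHom = B) → ∃ i : ℕ, ∀ a : A, a ∈ B ↔ a ^ p ^ i = 1)) ∧ ((∀ B : Subgroup A, (∀ x ∈ X, B.map x.toMonoidHom = B) → ∃ i : ℕ, ∀ a : A, a ∈ B ↔ a ^ p ^ i = 1) ↔ (∀ B : Subgroup A, (∀ x ∈ X, B.map x.toMonoidHom = B) → (∀ b ∈ B, b ^ p = 1) → B = ⊥ ∨ ∀ a : A, a ∈ B ↔ a ^ p = 1)) := by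
  simp only [inv_iff]
  have h13 := one_three hA X hX
  have h32 := three_two hA X
  have h21 := two_one (p := p) X
  have h23 := two_three (p := p) X
  exact ⟨⟨fun h => h32 (h13 h), h21⟩, ⟨h23, h32⟩⟩


end Cfsg.Agent.S3775
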