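import Cfsg.Statements.S3776
import Cfsg.Agent.HSz.WrapC
import Cfsg.Agent.HSz.Hyp
import Cfsg.Agent.HSz.Main
import Cfsg.Agent.Helper5.FrattiniLe
import Cfsg.Agent.Helper4.FrattiniQuotient

set_option autoImplicit false
open Cfsg
open scoped commutatorElement

namespace Cfsg.Agent.S3776

/-- Let G be a finite non-abelian 2-group with more than one involution admitting a solvable group of automorphisms that permutes its involutions transitively. Then the derived subgroup, the Frattini subgroup and the centre of G coincide and consist exactly of the elements x with x² = 1. -/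
theorem result {G : Type*} [Group G] [Finite G] (hG : IsPGroup 2 G) (hna : ¬ IsMulCommutative G) (htwo : ∃ x y : G, x ≠ y ∧ x ≠ 1 ∧ x ^ 2 = 1 ∧ y ≠ 1 ∧ y ^ 2 = 1) (hY : ∃ Y : Subgroup (MulAut G), Group.IsSolvable Y ∧ ∀ x y : G, x ≠ 1 → x ^ 2 = 1 → y ≠ 1 → y ^ 2 = 1 → ∃ a ∈ Y, a x = y) : commutator G = frattini G ∧ frattini G = Subgroup.center G ∧ ∀ x : G, x ∈ Subgroup.center G ↔ x ^ 2 = 1 := by
  haveI : Fact (Nat.Prime 2) := ⟨Nat.prime_two⟩
  obtain ⟨Y, hYs, hYt⟩ := hY
  obtain ⟨A, hAY, hAodd, hAC⟩ := Cfsg.Agent.HSz.hsz_wrap_class hG htwo Y hYs hYt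
  have hAs : Group.IsSolvable A :=
    Group.isSolvable_of_isSolvable_injective (Subgroup.inclusion_injective hAY)
  have hna' : ∃ x y : G, x * y ≠ y * x := by
    by_contra hcon
    push Not at hcon
    exact hna ⟨⟨hcon⟩⟩
  have good := Cfsg.Agent.HSz.hsz_main hAodd (Cfsg.Agent.HSz.hsz_hyp hAs) A.subtype hAC hna'
  obtain ⟨g1, g2, g3⟩ := good
  -- the centre is the set of the elements of order at most two
  have hcen : ∀ x : G, x ∈ Subgroup.center G ↔ x ^ 2 = 1 :=
    fun x => ⟨g1 x, hAC.cent x⟩
  -- the derived subgroup lies in the centre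
  have hcomm_mem : ∀ x y : G, ⁅x, y⁆ ∈ Subgroup.center G := fun x y => (hcen _).2 (g3 x y)
  have h1 : commutator G ≤ Subgroup.center G := by
    rw [commutator_eq_closure, Subgroup.closure_le]
    rintro _ ⟨x, y, rfl⟩
    exact hcomm_mem x y
  -- the derived subgroup is invariant and nontrivial, so it contains the centre
  have hinv : Cfsg.Agent.HSz.hsz_Inv A.subtype (commutator G) := by
    intro a x hx
    have hchar : (commutator G).Characteristic := by
      rw [commutator_def]
      infer_instance
    have h2 := hchar.fixed ((a : MulAut G)⁻¹)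
    rw [← h2, Subgroup.mem_comap]
    show ((a : MulAut G)⁻¹ : MulAut G) ((a : MulAut G) x) ∈ commutator G
    rw [← MulAut.mul_apply, inv_mul_cancel, MulAut.one_apply]
    exact hx
  have hne : ∃ x ∈ commutator G, x ≠ 1 := by
    obtain ⟨x, y, hxy⟩ := hna'
    refine ⟨⁅x, y⁆, Subgroup.commutator_mem_commutator (Subgroup.mem_top x) (Subgroup.mem_top y), ?_⟩
    intro h
    exact hxy (commutatorElement_eq_one_iff_mul_comm.1 h)
  have h3 : Subgroup.center G ≤ commutator G := by
    intro x hx
    exact hAC.V_le (commutator G) hinv hne ⟨hx, (hcen x).1 hx⟩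
  have hcz : commutator G = Subgroup.center G := le_antisymm h1 h3
  -- the Frattini subgroup
  have h4 : frattini G ≤ Subgroup.center G := by
    apply Cfsg.Agent.Helper5.frattini_le_of_forall (p := 2)
    · intro x
      exact (hcen _).2 (g2 x)
    · intro x y
      exact hcomm_mem x y
  have h5 : commutator G ≤ frattini G := by
    rw [commutator_eq_closure, Subgroup.closure_le]
    rintro _ ⟨x, y, rfl⟩
    exact Cfsg.Agent.Helper4.pgroup_commutator_mem_frattini hG x y
  have hfz : frattini G = Subgroup.center G := le_antisymm h4 (hcz ▸ h5)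
  exact ⟨hcz.trans hfz.symm, hfz, hcen⟩

end Cfsg.Agent.S3776
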