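import Mathlib
import Cfsg.Statements.S3779
import Cfsg.Agent.S0033
import Cfsg.Agent.Helper3.HKAssocD
-- import your own Cfsg.Agent.* helpers here

set_option autoImplicit false
open Cfsg

namespace Cfsg.Agent.S3779

open Cfsg.Agent.Helper3.HK

lemma coprime_card_of_fpf {G : Type*} [Group G] [Finite G] {p : ℕ} (hp : p.Prime) (α : MulAut G)
    (hα : orderOf α = p) (hfpf : ∀ g : G, α g = g → g = 1) : (Nat.card G).Coprime p := by
  haveI : Fact p.Prime := ⟨hp⟩
  have hZ : IsPGroup p (Subgroup.zpowers α) := by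
    apply IsPGroup.of_card (n := 1)
    rw [Nat.card_zpowers, hα, pow_one]
  have hmod := hZ.card_modEq_card_fixedPoints G
  have hfix : MulAction.fixedPoints (Subgroup.zpowers α) G = {1} := by
    ext w
    constructor
    · intro hw
      have := hw ⟨α, Subgroup.mem_zpowers α⟩
      exact hfpf w this
    · rintro rfl
      intro g
      show (g : MulAut G) 1 = 1
      exact map_one _
  rw [hfix] at hmod
  have h1 : Nat.card ({1} : Set G) = 1 := by simp
  rw [h1] at hmod
  rw [Nat.coprime_comm, Nat.Prime.coprime_iff_not_dvd hp]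
  intro hdvd
  have : Nat.card G % p = 0 := Nat.mod_eq_zero_of_dvd hdvd
  rw [Nat.ModEq, this, Nat.mod_eq_of_lt hp.one_lt] at hmod
  exact zero_ne_one hmod

/-- Let G be a finite group with an automorphism of prime order p fixing only the identity. Then G is nilpotent; if p = 2 then G is abelian, if p = 3 then G has class at most 2, and in general the class of G is at most ξ = 1 + (p−1) + (p−1)² + ⋯ + (p−1)^(n−1) with n = 2^(p−1) − 1 (the Higman–Kreknin–Kostrikin bound). -/
theorem result {G : Type*} [Group G] [Finite G] {p : ℕ} (hp : p.Prime) (α : MulAut G) (hα : orderOf α = p) (hfpf : ∀ g : G, α g = g → g = 1) : (p = 2 → (⊤ : Subgroup G).lowerCentralSeries 1 = ⊥) ∧ (p = 3 → (⊤ : Subgroup G).lowerCentralSeries 2 = ⊥) ∧ (⊤ : Subgroup G).lowerCentralSeries (Finset.sum (Finset.range (2 ^ (p - 1) - 1)) (fun i => (p - 1) ^ i)) = ⊥ := by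
  haveI : Fact p.Prime := ⟨hp⟩
  haveI hnil : Group.IsNilpotent G := Cfsg.Agent.S0033.result α hfpf p hp hα
  have hcop := coprime_card_of_fpf hp α hα hfpf
  have hαp : α ^ p = 1 := by rw [← hα]; exact pow_orderOf_eq_one α
  let φ : LG G →+ LG G := phiD α
  have hφ : ∀ x y : LG G, φ ⁅x, y⁆ = ⁅φ x, φ y⁆ := fun x y => phiD_mul α x y
  have hsum : ∀ x : LG G, ∑ k ∈ Finset.range p, φ^[k] x = 0 :=
    fun x => sum_phiD_iterate α hαp hfpf x
  have he : ∀ x : LG G, (Nat.card G) • x = 0 := fun x => card_nsmul_LG x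
  have main : (⊤ : Subgroup G).lowerCentralSeries (hkk p) = ⊥ :=
    lcs_eq_bot_of_lcsA (lcsA_top_eq_bot_of_aut p φ hφ hsum (Nat.card G) hcop he)
  refine ⟨?_, ?_, main⟩
  · intro h2
    subst h2
    have : hkk 2 = 1 := by simp [hkk]
    rw [this] at main
    exact main
  · intro h3
    subst h3
    exact lcs_eq_bot_of_lcsA (lcsA_top_eq_bot_of_aut_three φ hφ hsum (Nat.card G) hcop he)


end Cfsg.Agent.S3779
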