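import Mathlib
import Cfsg.Statements.S3780

set_option autoImplicit false
open Cfsg

namespace Cfsg.Agent.S3780

/-- a group of order `p ^ n` is generated by at most `n` elements -/
theorem exists_generators_of_card {Q : Type*} [Group Q] [Finite Q] {p : ℕ} [hp : Fact p.Prime]
    (n : ℕ) (hQ : Nat.card Q = p ^ n) :
    ∃ T : Finset Q, T.card ≤ n ∧ Subgroup.closure (T : Set Q) = ⊤ := by
  classical
  have hQp : IsPGroup p Q := IsPGroup.of_card hQ
  have key : ∀ k : ℕ, k ≤ n → ∃ T : Finset Q, T.card ≤ k ∧
      (p ^ k ≤ Nat.card (Subgroup.closure (T : Set Q)) ∨ Subgroup.closure (T : Set Q) = ⊤) := by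
    intro k
    induction k with
    | zero =>
      intro _
      exact ⟨∅, by simp, Or.inl (by rw [pow_zero]; exact Nat.card_pos)⟩
    | succ k ih =>
      intro hk
      obtain ⟨T, hTc, hT⟩ := ih (by omega)
      by_cases htop : Subgroup.closure (T : Set Q) = ⊤
      · exact ⟨T, by omega, Or.inr htop⟩
      · have hT' : p ^ k ≤ Nat.card (Subgroup.closure (T : Set Q)) := hT.resolve_right htop
        obtain ⟨x, hx⟩ : ∃ x : Q, x ∉ Subgroup.closure (T : Set Q) := by
          by_contra hall
          push Not at hall
          exact htop (eq_top_iff.2 fun y _ => hall y)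
        refine ⟨insert x T, (Finset.card_insert_le x T).trans (by omega), Or.inl ?_⟩
        have hle : Subgroup.closure (T : Set Q) ≤ Subgroup.closure ((insert x T : Finset Q) : Set Q) :=
          Subgroup.closure_mono (by simp)
        have hne : Subgroup.closure (T : Set Q) ≠ Subgroup.closure ((insert x T : Finset Q) : Set Q) := by
          intro h
          apply hx
          rw [h]
          exact Subgroup.subset_closure (by simp)
        have hlt : Nat.card (Subgroup.closure (T : Set Q)) <
            Nat.card (Subgroup.closure ((insert x T : Finset Q) : Set Q)) := by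
          rcases (Subgroup.card_le_of_le hle).lt_or_eq with h | h
          · exact h
          · exact absurd (Subgroup.eq_of_le_of_card_ge hle h.ge) hne
        obtain ⟨a, ha⟩ := IsPGroup.iff_card.1 (hQp.to_subgroup (Subgroup.closure ((insert x T : Finset Q) : Set Q)))
        rw [ha] at hlt ⊢
        have : k < a := by
          by_contra hak
          push Not at hak
          have := Nat.pow_le_pow_right hp.out.pos hak
          omega
        exact Nat.pow_le_pow_right hp.out.pos this
  obtain ⟨T, hTc, hT⟩ := key n le_rfl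
  refine ⟨T, hTc, ?_⟩
  rcases hT with h | h
  · apply Subgroup.eq_top_of_le_card
    rw [hQ]; exact h
  · exact h

/-- Let V be a finite abelian p-group and α an automorphism of V of order p whose fixed-point subgroup has order p^n. Then V can be generated by pn elements: some subset of V with at most pn elements generates V. -/
theorem result {V : Type*} [CommGroup V] [Finite V] {p : ℕ} [Fact p.Prime] (hV : IsPGroup p V) (α : MulAut V) (hα : orderOf α = p) (n : ℕ) (hfix : Nat.card {v : V // α v = v} = p ^ n) : ∃ S : Finset V, S.card ≤ p * n ∧ Subgroup.closure (S : Set V) = ⊤ := by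
  classical
  have hp : p.Prime := Fact.out
  have hαp : α ^ p = 1 := by rw [← hα]; exact pow_orderOf_eq_one α
  set N : V →* V := α.toMonoidHom / MonoidHom.id V with hN
  have hNapp : ∀ v, N v = α v / v := fun v => rfl
  have hker : Nat.card N.ker = p ^ n := by
    rw [← hfix]
    apply Nat.card_congr
    apply Equiv.subtypeEquivRight
    intro v
    rw [MonoidHom.mem_ker, hNapp, div_eq_one]
  have h2 : Nat.card N.ker * Nat.card N.range = Nat.card V := by
    have := Subgroup.card_eq_card_quotient_mul_card_subgroup N.ker
    rw [this, Nat.card_congr (QuotientGroup.quotientKerEquivRange N).toEquiv, mul_comm]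
  have h3 : Nat.card (V ⧸ N.range) * Nat.card N.range = Nat.card V :=
    (Subgroup.card_eq_card_quotient_mul_card_subgroup N.range).symm
  have hQcard : Nat.card (V ⧸ N.range) = p ^ n := by
    rw [← hker]
    exact (Nat.eq_of_mul_eq_mul_right Nat.card_pos (h2.trans h3.symm)).symm
  obtain ⟨T, hTc, hT⟩ := exists_generators_of_card n hQcard
  set T' : Finset V := T.image Quotient.out with hT'
  have hT'c : T'.card ≤ n := Finset.card_image_le.trans hTc
  set S : Finset V := (Finset.range p ×ˢ T').image (fun jv => (α ^ jv.1) jv.2) with hS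
  have hSc : S.card ≤ p * n := by
    refine Finset.card_image_le.trans ?_
    rw [Finset.card_product, Finset.card_range]
    exact Nat.mul_le_mul_left p hT'c
  refine ⟨S, hSc, ?_⟩
  set M := Subgroup.closure (S : Set V) with hM
  -- (a) M is α-invariant
  have hMα : ∀ m ∈ M, α m ∈ M := by
    have : M ≤ M.comap α.toMonoidHom := by
      rw [hM, Subgroup.closure_le]
      intro s hs
      rw [Finset.mem_coe, hS, Finset.mem_image] at hs
      obtain ⟨⟨j, v⟩, hjv, rfl⟩ := hs
      rw [Finset.mem_product, Finset.mem_range] at hjv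
      change α ((α ^ j) v) ∈ Subgroup.closure (S : Set V)
      apply Subgroup.subset_closure
      rw [Finset.mem_coe, hS, Finset.mem_image]
      by_cases hj : j + 1 < p
      · refine ⟨(j + 1, v), Finset.mem_product.2 ⟨Finset.mem_range.2 hj, hjv.2⟩, ?_⟩
        change (α ^ (j + 1)) v = α ((α ^ j) v)
        rw [pow_succ']; rfl
      · have hj' : j + 1 = p := by omega
        refine ⟨(0, v), Finset.mem_product.2 ⟨Finset.mem_range.2 hp.pos, hjv.2⟩, ?_⟩
        change (α ^ 0) v = α ((α ^ j) v)
        have : α ((α ^ j) v) = (α ^ (j + 1)) v := by rw [pow_succ']; rfl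
        rw [this, hj', hαp, pow_zero]
    intro m hm
    exact this hm
  have hNM : M.map N ≤ M := by
    rintro _ ⟨m, hm, rfl⟩
    rw [hNapp]
    exact M.div_mem (hMα m hm) hm
  -- (b) M ⊔ N.range = ⊤
  have hb : M ⊔ N.range = ⊤ := by
    rw [eq_top_iff]
    intro v _
    have hv : (QuotientGroup.mk' N.range v) ∈ Subgroup.closure (T : Set (V ⧸ N.range)) := by
      rw [hT]; trivial
    have hle : Subgroup.closure (T : Set (V ⧸ N.range)) ≤ M.map (QuotientGroup.mk' N.range) := by
      rw [Subgroup.closure_le]
      intro t ht
      refine ⟨Quotient.out t, ?_, ?_⟩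
      · apply Subgroup.subset_closure
        rw [Finset.mem_coe, hS, Finset.mem_image]
        refine ⟨(0, Quotient.out t), Finset.mem_product.2 ⟨Finset.mem_range.2 hp.pos, ?_⟩, ?_⟩
        · rw [hT', Finset.mem_image]; exact ⟨t, ht, rfl⟩
        · simp
      · exact Quotient.out_eq' t
    obtain ⟨m, hm, hmv⟩ := hle hv
    have h4 : m⁻¹ * v ∈ N.range := by
      rw [← QuotientGroup.eq]
      exact hmv
    have : v = m * (m⁻¹ * v) := by group
    rw [this]
    exact Subgroup.mul_mem _ (Subgroup.mem_sup_left hm) (Subgroup.mem_sup_right h4)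
  -- the chain
  let R : ℕ → Subgroup V := fun k => (fun r : Subgroup V => r.map N)^[k] ⊤
  have hR0 : R 0 = ⊤ := rfl
  have hRs : ∀ k, R (k + 1) = (R k).map N :=
    fun k => Function.iterate_succ_apply' (fun r : Subgroup V => r.map N) k ⊤
  have hR1 : R 1 = N.range := by
    rw [hRs 0, hR0, MonoidHom.range_eq_map]
  have hanti : ∀ k, R (k + 1) ≤ R k := by
    intro k
    induction k with
    | zero => rw [hR0]; exact le_top
    | succ k ih =>
      calc R (k + 1 + 1) = (R (k + 1)).map N := hRs (k + 1)
        _ ≤ (R k).map N := Subgroup.map_mono ih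
        _ = R (k + 1) := (hRs k).symm
  have hc : ∀ k, M ⊔ R k = ⊤ := by
    intro k
    induction k with
    | zero => rw [hR0]; simp
    | succ k ih =>
      have e1 : (⊤ : Subgroup V) = M ⊔ (M ⊔ R k).map N := by
        rw [ih, ← MonoidHom.range_eq_map, hb]
      rw [eq_top_iff, e1, Subgroup.map_sup, ← hRs]
      exact sup_le le_sup_left (sup_le (hNM.trans le_sup_left) le_sup_right)
  -- stabilization
  obtain ⟨k, hk⟩ : ∃ k, R (k + 1) = R k := by
    by_contra hall
    push Not at hall
    have hlt : ∀ k, Nat.card (R k) + k ≤ Nat.card V := by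
      intro k
      induction k with
      | zero => rw [hR0, Subgroup.card_top]; omega
      | succ k ih =>
        have h5 : Nat.card (R (k + 1)) < Nat.card (R k) := by
          rcases (Subgroup.card_le_of_le (hanti k)).lt_or_eq with h | h
          · exact h
          · exact absurd (Subgroup.eq_of_le_of_card_ge (hanti k) h.ge) (hall k)
        omega
    have := hlt (Nat.card V + 1)
    omega
  set U := R k with hU
  have hUN : U.map N = U := by rw [← hRs]; exact hk
  -- U is α-invariant
  have hαN : ∀ v, α (N v) = N (α v) := by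
    intro v
    rw [hNapp, hNapp, map_div]
  have hRα : ∀ j, ∀ u ∈ R j, α u ∈ R j := by
    intro j
    induction j with
    | zero => intro u _; rw [hR0]; trivial
    | succ j ih =>
      intro u hu
      rw [hRs] at hu ⊢
      obtain ⟨w, hw, rfl⟩ := hu
      rw [hαN]
      exact ⟨α w, ih w hw, rfl⟩
  have hUα : ∀ u ∈ U, α u ∈ U := hRα k
  -- N is injective on U
  have hNU : ∀ u ∈ U, N u ∈ U := fun u hu => hUN ▸ Subgroup.mem_map_of_mem N hu
  let NU : U → U := fun u => ⟨N u, hNU u u.2⟩
  have hsurj : Function.Surjective NU := by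
    rintro ⟨w, hw⟩
    rw [← hUN] at hw
    obtain ⟨u, hu, rfl⟩ := hw
    exact ⟨⟨u, hu⟩, rfl⟩
  have hfinU : Finite ↥U := inferInstance
  have hinj : Function.Injective NU := (@Finite.injective_iff_surjective ↥U hfinU NU).2 hsurj
  have hfixU : ∀ u ∈ U, α u = u → u = 1 := by
    intro u hu hαu
    have h6 : NU ⟨u, hu⟩ = NU ⟨1, U.one_mem⟩ := by
      apply Subtype.ext
      change N u = N 1
      rw [hNapp, hαu, div_self', map_one]
    exact congrArg Subtype.val (hinj h6)
  -- counting
  have hUbot : U = ⊥ := by
    let σ : Function.End U := fun u => ⟨α u, hUα u u.2⟩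
    have hσpow : ∀ j : ℕ, ∀ u : U, ((σ ^ j) u : V) = (α ^ j) u := by
      intro j
      induction j with
      | zero => intro u; rfl
      | succ j ih =>
        intro u
        rw [pow_succ', pow_succ']
        change α ((σ ^ j) u : V) = α ((α ^ j) u)
        rw [ih]
    have hσp : σ ^ p ^ 1 = 1 := by
      rw [pow_one]
      funext u
      apply Subtype.ext
      rw [hσpow, hαp]
      rfl
    have _ : Fintype U := Fintype.ofFinite U
    have hmod := Equiv.Perm.card_fixedPoints_modEq (p := p) (n := 1) hσp
    have hfixcard : Fintype.card (Function.fixedPoints σ) = 1 := by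
      rw [Fintype.card_eq_one_iff]
      refine ⟨⟨1, ?_⟩, ?_⟩
      · change σ 1 = 1
        apply Subtype.ext
        change α 1 = 1
        exact map_one α
      · rintro ⟨u, hu⟩
        apply Subtype.ext
        apply Subtype.ext
        have : σ u = u := hu
        have h7 : α (u : V) = u := congrArg Subtype.val this
        exact hfixU u u.2 h7
    rw [hfixcard, ← Nat.card_eq_fintype_card] at hmod
    obtain ⟨a, ha⟩ := IsPGroup.iff_card.1 (hV.to_subgroup U)
    rw [ha] at hmod
    have ha0 : a = 0 := by
      by_contra hne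
      have h8 : p ^ a ≡ 0 [MOD p] := (Nat.modEq_zero_iff_dvd).2 (dvd_pow_self p hne)
      have h9 : (1 : ℕ) ≡ 0 [MOD p] := hmod.symm.trans h8
      rw [Nat.modEq_zero_iff_dvd, Nat.dvd_one] at h9
      exact hp.ne_one h9
    rw [ha0, pow_zero] at ha
    exact Subgroup.card_eq_one.1 ha
  have := hc k
  rwa [← hU, hUbot, sup_bot_eq] at this

end Cfsg.Agent.S3780
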