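import Mathlib
import Cfsg.Statements.S3784

set_option autoImplicit false
open Cfsg

namespace Cfsg.Agent.S3784

/-- `2 ^ a % 4 = 2` forces `a = 1`. -/
lemma two_pow_mod_four {a : ℕ} (h : 2 ^ a % 4 = 2) : a = 1 := by
  rcases a with _ | _ | a
  · simp at h
  · rfl
  · exfalso
    have : 2 ^ (a + 1 + 1) = 4 * 2 ^ a := by ring
    rw [this] at h
    omega

/-- an odd square is `1 mod 4`. -/
lemma odd_sq_mod_four {x : ℕ} (hx : Odd x) : x ^ 2 % 4 = 1 := by
  obtain ⟨k, rfl⟩ := hx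
  have : (2 * k + 1) ^ 2 = 4 * (k * k + k) + 1 := by ring
  rw [this]; omega

/-- In `ZMod (2^(c+1))`, if `x^2 = 1` then odd powers of `x` equal `x`. -/
lemma pow_odd_of_sq {R : Type*} [CommRing R] (x : R) (hx : x ^ 2 = 1) {n : ℕ} (hn : Odd n) :
    x ^ n = x := by
  obtain ⟨k, rfl⟩ := hn
  rw [pow_succ, pow_mul, hx, one_pow, one_mul]

lemma two_pow_zero (c : ℕ) : (2 : ZMod (2 ^ (c + 1))) ^ (c + 1) = 0 := by
  have := ZMod.natCast_self (2 ^ (c + 1))
  push_cast at this
  exact this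

lemma two_pow_zero' (c a : ℕ) (h : c + 1 ≤ a) : (2 : ZMod (2 ^ (c + 1))) ^ a = 0 := by
  obtain ⟨d, rfl⟩ := Nat.exists_eq_add_of_le h
  have h0 := two_pow_zero c
  rw [pow_add (2 : ZMod (2 ^ (c + 1))) (c + 1) d, h0, zero_mul]

lemma two_pow_c_ne (c : ℕ) : (2 : ZMod (2 ^ (c + 1))) ^ c ≠ 0 := by
  intro h
  have h1 : ((2 ^ c : ℕ) : ZMod (2 ^ (c + 1))) = 0 := by push_cast; exact h
  rw [ZMod.natCast_eq_zero_iff] at h1
  have h2 : 2 ^ (c + 1) ≤ 2 ^ c := Nat.le_of_dvd (by positivity) h1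
  have h3 : 2 ^ c < 2 ^ (c + 1) := Nat.pow_lt_pow_right (by norm_num) (Nat.lt_succ_self c)
  omega

/-- `q^b + 1` is not a power of two for odd `q ≥ 3`, `b ≥ 2`. -/
lemma case_p2 (q a b : ℕ) (hq : Odd q) (hq3 : 3 ≤ q) (hb : 2 ≤ b) (h : 2 ^ a = q ^ b + 1) : False := by
  rcases Nat.even_or_odd b with hbe | hbo
  · obtain ⟨c, hc⟩ := hbe
    have h1 : q ^ b = (q ^ c) ^ 2 := by rw [hc, ← pow_mul]; ring_nf
    have h2 : (q ^ c) ^ 2 % 4 = 1 := odd_sq_mod_four hq.pow
    have h3 : 2 ^ a % 4 = 2 := by rw [h, h1]; omega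
    have ha := two_pow_mod_four h3
    rw [ha] at h
    have : 2 ≤ q ^ b := by
      calc 2 ≤ q := by omega
        _ = q ^ 1 := (pow_one q).symm
        _ ≤ q ^ b := Nat.pow_le_pow_right (by omega) (by omega)
    omega
  · have hdvd : q + 1 ∣ 2 ^ a := by
      have := Odd.nat_add_dvd_pow_add_pow q 1 hbo
      rwa [one_pow, ← h] at this
    obtain ⟨c, hca, hc⟩ := (Nat.dvd_prime_pow Nat.prime_two).1 hdvd
    have hc1 : 1 ≤ c := by
      rcases c with _ | c
      · simp at hc; omega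
      · omega
    obtain ⟨c', rfl⟩ := Nat.exists_eq_add_of_le hc1
    -- a > c
    have hlt : q < q ^ b := by
      calc q = q ^ 1 := (pow_one q).symm
        _ < q ^ b := Nat.pow_lt_pow_right (by omega) (by omega)
    have hac : 2 ^ (1 + c') < 2 ^ a := by rw [← hc, h]; omega
    have hac' : 1 + c' < a := (Nat.pow_lt_pow_iff_right (by norm_num)).1 hac
    -- work in ZMod (2^(c+1))
    set c := 1 + c' with hcdef
    have hqR : (q : ZMod (2 ^ (c + 1))) = 2 ^ c - 1 := by
      have : ((q + 1 : ℕ) : ZMod (2 ^ (c + 1))) = ((2 ^ c : ℕ) : ZMod (2 ^ (c + 1))) := by rw [hc]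
      push_cast at this
      linear_combination this
    have hsq : (q : ZMod (2 ^ (c + 1))) ^ 2 = 1 := by
      have h0 := two_pow_zero c
      have h2c : (2 : ZMod (2 ^ (c + 1))) ^ (2 * c) = 0 := two_pow_zero' c (2 * c) (by omega)
      rw [hqR]
      have : ((2 : ZMod (2 ^ (c + 1))) ^ c - 1) ^ 2 = 2 ^ (2 * c) - 2 ^ (c + 1) + 1 := by ring
      rw [this, h0, h2c]; ring
    have hqb : (q : ZMod (2 ^ (c + 1))) ^ b = q := pow_odd_of_sq _ hsq hbo
    have hcast : ((2 ^ a : ℕ) : ZMod (2 ^ (c + 1))) = ((q ^ b + 1 : ℕ) : ZMod (2 ^ (c + 1))) := by rw [h]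
    push_cast at hcast
    rw [two_pow_zero' c a (by omega), hqb, hqR] at hcast
    have : (2 : ZMod (2 ^ (c + 1))) ^ c = 0 := by linear_combination -hcast
    exact two_pow_c_ne c this

/-- `p^a = 2^b + 1` with `p` odd, `a ≥ 2` forces `p^a = 9`. -/
lemma case_q2 (p a b : ℕ) (hp : p.Prime) (hpo : Odd p) (ha : 2 ≤ a) (h : p ^ a = 2 ^ b + 1) :
    p ^ a = 9 ∧ 2 ^ b = 8 := by
  have hp3 : 3 ≤ p := by
    have := hp.two_le
    rcases hpo with ⟨k, hk⟩
    omega
  rcases Nat.even_or_odd a with hae | hao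
  · obtain ⟨c, hc⟩ := hae
    have hc1 : 1 ≤ c := by omega
    set x := p ^ c with hx
    have hxa : p ^ a = x ^ 2 := by rw [hx, hc, ← pow_mul]; ring_nf
    have hx3 : 3 ≤ x := by
      calc 3 ≤ p := hp3
        _ = p ^ 1 := (pow_one p).symm
        _ ≤ p ^ c := Nat.pow_le_pow_right (by omega) hc1
    have hprod : (x - 1) * (x + 1) = 2 ^ b := by
      have : x ^ 2 = 2 ^ b + 1 := by rw [← hxa, h]
      zify [show 1 ≤ x by omega]
      zify at this
      linear_combination this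
    have hd1 : x - 1 ∣ 2 ^ b := Dvd.intro _ hprod
    have hd2 : x + 1 ∣ 2 ^ b := Dvd.intro_left _ hprod
    obtain ⟨u, -, hu⟩ := (Nat.dvd_prime_pow Nat.prime_two).1 hd1
    obtain ⟨v, -, hv⟩ := (Nat.dvd_prime_pow Nat.prime_two).1 hd2
    have huv : 2 ^ v = 2 ^ u + 2 := by omega
    have hx3' : x = 3 := by
      rcases u with _ | _ | u
      · simp at hu; omega
      · simp at hu; omega
      · exfalso
        have h4 : 2 ^ (u + 1 + 1) = 4 * 2 ^ u := by ring
        have hv2 : 2 ^ v % 4 = 2 := by rw [huv, h4]; omega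
        have := two_pow_mod_four hv2
        rw [this] at huv
        have : 0 < 2 ^ (u + 1 + 1) := by positivity
        omega
    have hpc : p ^ c = 3 := by rw [← hx, hx3']
    have := (Nat.Prime.pow_eq_iff Nat.prime_three).1 hpc
    obtain ⟨rfl, rfl⟩ := this
    have ha2 : a = 2 := by omega
    subst ha2
    constructor
    · norm_num
    · omega
  · exfalso
    have hdvd : p - 1 ∣ 2 ^ b := by
      have h1 : p - 1 ∣ p ^ a - 1 := Nat.sub_one_dvd_pow_sub_one p a
      have h2 : p ^ a - 1 = 2 ^ b := by rw [h]; simp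
      rwa [h2] at h1
    obtain ⟨c, hcb, hc⟩ := (Nat.dvd_prime_pow Nat.prime_two).1 hdvd
    have hc1 : 1 ≤ c := by
      rcases c with _ | c
      · simp at hc; omega
      · omega
    have hlt : p < p ^ a := by
      calc p = p ^ 1 := (pow_one p).symm
        _ < p ^ a := Nat.pow_lt_pow_right (by omega) (by omega)
    have hac : 2 ^ c < 2 ^ b := by rw [← hc]; omega
    have hac' : c < b := (Nat.pow_lt_pow_iff_right (by norm_num)).1 hac
    have hpR : (p : ZMod (2 ^ (c + 1))) = 2 ^ c + 1 := by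
      have : ((p : ℕ) : ZMod (2 ^ (c + 1))) = ((2 ^ c + 1 : ℕ) : ZMod (2 ^ (c + 1))) := by
        congr 1; omega
      push_cast at this
      exact this
    have hsq : (p : ZMod (2 ^ (c + 1))) ^ 2 = 1 := by
      have h0 := two_pow_zero c
      have h2c : (2 : ZMod (2 ^ (c + 1))) ^ (2 * c) = 0 := two_pow_zero' c (2 * c) (by omega)
      rw [hpR]
      have : ((2 : ZMod (2 ^ (c + 1))) ^ c + 1) ^ 2 = 2 ^ (2 * c) + 2 ^ (c + 1) + 1 := by ring
      rw [this, h0, h2c]; ring
    have hpa : (p : ZMod (2 ^ (c + 1))) ^ a = p := pow_odd_of_sq _ hsq hao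
    have hcast : ((p ^ a : ℕ) : ZMod (2 ^ (c + 1))) = ((2 ^ b + 1 : ℕ) : ZMod (2 ^ (c + 1))) := by rw [h]
    push_cast at hcast
    rw [two_pow_zero' c b (by omega), hpa, hpR] at hcast
    have : (2 : ZMod (2 ^ (c + 1))) ^ c = 0 := by linear_combination hcast
    exact two_pow_c_ne c this

/-- Let p, q be primes and a, b positive integers with p^a = q^b + 1. Then either p = 2, b = 1, a is prime and q = 2^a − 1; or q = 2, a = 1, b is a power of 2 and p = 2^b + 1; or p^a = 9 and q^b = 8. -/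
theorem result (p q a b : ℕ) (hp : p.Prime) (hq : q.Prime) (ha : 1 ≤ a) (hb : 1 ≤ b) (h : p ^ a = q ^ b + 1) : (p = 2 ∧ b = 1 ∧ a.Prime ∧ q + 1 = 2 ^ a) ∨ (q = 2 ∧ a = 1 ∧ (∃ m : ℕ, b = 2 ^ m) ∧ p = 2 ^ b + 1) ∨ (p ^ a = 9 ∧ q ^ b = 8) := by
  rcases hp.eq_two_or_odd' with rfl | hpo
  · -- p = 2, so q is odd
    rcases hq.eq_two_or_odd' with rfl | hqo
    · exfalso
      have h1 : Even (2 ^ a) := (Nat.even_pow.2 ⟨even_two, by omega⟩)
      have h2 : Even (2 ^ b) := (Nat.even_pow.2 ⟨even_two, by omega⟩)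
      rw [h] at h1
      rw [Nat.even_add_one] at h1
      exact h1 h2
    · have hq3 : 3 ≤ q := by
        have := hq.two_le
        rcases hqo with ⟨k, hk⟩
        omega
      by_cases hb1 : b = 1
      · subst hb1
        left
        rw [pow_one] at h
        refine ⟨rfl, rfl, ?_, h.symm⟩
        have hq' : (2 ^ a - 1).Prime := by
          have : 2 ^ a - 1 = q := by omega
          rw [this]; exact hq
        have ha1 : a ≠ 1 := by
          rintro rfl
          simp at h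
          omega
        exact (Nat.prime_of_pow_sub_one_prime ha1 hq').2
      · exfalso
        exact case_p2 q a b hqo hq3 (by omega) h
  · -- p odd, so q = 2
    rcases hq.eq_two_or_odd' with rfl | hqo
    · by_cases ha1 : a = 1
      · subst ha1
        right; left
        rw [pow_one] at h
        refine ⟨rfl, rfl, ?_, h⟩
        have hP : (2 ^ b + 1).Prime := by rw [← h]; exact hp
        exact Nat.pow_of_pow_add_prime (by norm_num) (by omega) hP
      · right; right
        have := case_q2 p a b hp hpo (by omega) h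
        exact this
    · exfalso
      have h1 : Odd (p ^ a) := hpo.pow
      have h2 : Odd (q ^ b) := hqo.pow
      rw [h] at h1
      have : Even (q ^ b + 1) := h2.add_one
      exact (Nat.not_even_iff_odd.2 h1) this

end Cfsg.Agent.S3784
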