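import Mathlib
import Cfsg.Statements.S3785
import Cfsg.Prelude.Def_Solvable
import Cfsg.Agent.Helper1.OmegaOdd
import Cfsg.Agent.Helper1.Fitting
import Cfsg.Agent.Helper1.Fitting2
import Cfsg.Agent.Helper4.FittingChar
-- import your own Cfsg.Agent.* helpers here

set_option autoImplicit false
open Cfsg

namespace Cfsg.Agent.S3785
universe u
open Cfsg.Agent.Helper1 Cfsg.Agent.Helper4

/-- Elements of the normal subgroup `K` (commuting with all prime-order elements of `F(G)`)
of order prime to `p` centralize `O_p(G)`. -/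
theorem cent_pcore {G : Type u} [Group G] [Finite G]
    (hodd : Odd (Nat.card (Cfsg.fittingSubgroup G))) (k : G)
    (hk : ∀ x ∈ Cfsg.fittingSubgroup G, (orderOf x).Prime → k * x = x * k) (p : ℕ) (hp : p.Prime)
    (hcop : (orderOf k).Coprime p) : ∀ r ∈ Cfsg.pCore p G, k * r = r * k := by
  have : Fact p.Prime := ⟨hp⟩
  have hle : Cfsg.pCore p G ≤ Cfsg.fittingSubgroup G := pCore_le_fittingSubgroup p
  by_cases hp2 : p = 2
  · subst hp2
    intro r hr
    obtain ⟨n, hn⟩ := IsPGroup.iff_card.mp (pCore_isPGroup (G := G) 2)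
    have hdvd : Nat.card (Cfsg.pCore 2 G) ∣ Nat.card (Cfsg.fittingSubgroup G) :=
      Subgroup.card_dvd_of_le hle
    have hn0 : n = 0 := by
      by_contra h
      have : 2 ∣ Nat.card (Cfsg.fittingSubgroup G) :=
        dvd_trans (by rw [hn]; exact dvd_pow_self 2 h) hdvd
      rcases hodd with ⟨j, hj⟩
      omega
    rw [hn0, pow_zero, Subgroup.card_eq_one] at hn
    rw [hn, Subgroup.mem_bot] at hr
    rw [hr, mul_one, one_mul]
  · apply centralizes_of_centralizes_order_p hp2 k hcop (Cfsg.pCore p G) (pCore_isPGroup p)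
    · rw [Subgroup.normalizer_eq_top]; exact Subgroup.mem_top k
    · intro r hr hor
      exact hk r (hle hr) (by rw [hor]; exact hp)

theorem key {G : Type u} [Group G] [Finite G] [hG : Group.IsSolvable G]
    (hodd : Odd (Nat.card (Cfsg.fittingSubgroup G))) (q : ℕ) (hq : q.Prime) (x : G)
    (hx : ∀ y ∈ Cfsg.fittingSubgroup G, (orderOf y).Prime → x * y = y * x) (e : ℕ)
    (hox : orderOf x = q ^ e) : x ∈ Cfsg.fittingSubgroup G := by
  have hqf : Fact q.Prime := ⟨hq⟩
  set F := Cfsg.fittingSubgroup G with hF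
  let K : Subgroup G :=
    { carrier := {k | ∀ y ∈ F, (orderOf y).Prime → k * y = y * k}
      one_mem' := fun y _ _ => by rw [one_mul, mul_one]
      mul_mem' := by
        intro a b ha hb y hy hyo
        rw [mul_assoc, hb y hy hyo, ← mul_assoc, ha y hy hyo, mul_assoc]
      inv_mem' := by
        intro a ha y hy hyo
        have := ha y hy hyo
        calc a⁻¹ * y = a⁻¹ * (y * a) * a⁻¹ := by group
          _ = a⁻¹ * (a * y) * a⁻¹ := by rw [this]
          _ = y * a⁻¹ := by group }
  have hKmem : ∀ k : G, k ∈ K ↔ ∀ y ∈ F, (orderOf y).Prime → k * y = y * k := fun k => Iff.rfl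
  let S : Set G := {y | ∃ p : ℕ, p.Prime ∧ p ≠ q ∧ y ∈ Cfsg.pCore p G}
  set L : Subgroup G := K ⊓ Subgroup.centralizer S with hL
  have hLn : L.Normal := by
    refine ⟨fun n hn g => ?_⟩
    obtain ⟨hnK, hnS⟩ := Subgroup.mem_inf.mp hn
    refine Subgroup.mem_inf.mpr ⟨?_, ?_⟩
    · rw [hKmem] at hnK ⊢
      intro y hy hyo
      have hy' : g⁻¹ * y * g ∈ F := by
        have := (inferInstance : F.Normal).conj_mem y hy g⁻¹
        rwa [inv_inv] at this
      have hyo' : (orderOf (g⁻¹ * y * g)).Prime := by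
        have : g⁻¹ * y * g = g⁻¹ * y * g⁻¹⁻¹ := by rw [inv_inv]
        rw [this, ← MulAut.conj_apply, MulEquiv.orderOf_eq]; exact hyo
      have := hnK _ hy' hyo'
      calc g * n * g⁻¹ * y = g * (n * (g⁻¹ * y * g)) * g⁻¹ := by group
        _ = g * ((g⁻¹ * y * g) * n) * g⁻¹ := by rw [this]
        _ = y * (g * n * g⁻¹) := by group
    · rw [Subgroup.mem_centralizer_iff] at hnS ⊢
      rintro y ⟨p, hp, hpq, hy⟩
      have hy' : g⁻¹ * y * g ∈ S := by
        refine ⟨p, hp, hpq, ?_⟩
        have := (inferInstance : (Cfsg.pCore p G).Normal).conj_mem y hy g⁻¹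
        rwa [inv_inv] at this
      have := hnS _ hy'
      calc y * (g * n * g⁻¹) = g * ((g⁻¹ * y * g) * n) * g⁻¹ := by group
        _ = g * (n * (g⁻¹ * y * g)) * g⁻¹ := by rw [this]
        _ = g * n * g⁻¹ * y := by group
  -- x ∈ L
  have hxL : x ∈ L := by
    refine Subgroup.mem_inf.mpr ⟨hx, ?_⟩
    rw [Subgroup.mem_centralizer_iff]
    rintro y ⟨p, hp, hpq, hy⟩
    have hcop : (orderOf x).Coprime p := by
      rw [hox]
      exact Nat.Coprime.pow_left _ ((Nat.coprime_primes hq hp).mpr hpq.symm)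
    exact (cent_pcore hodd x hx p hp hcop y hy).symm
  -- claim A
  have hA : ∀ y ∈ L, (orderOf y).Coprime q → ∀ l ∈ L, l * y = y * l := by
    intro y hy hcop l hl
    obtain ⟨hyK, hyS⟩ := Subgroup.mem_inf.mp hy
    obtain ⟨hlK, hlS⟩ := Subgroup.mem_inf.mp hl
    rw [Subgroup.mem_centralizer_iff] at hyS hlS
    -- y centralizes every p-core
    have hyall : ∀ p : ℕ, p.Prime → ∀ r ∈ Cfsg.pCore p G, y * r = r * y := by
      intro p hp r hr
      by_cases hpq : p = q
      · subst hpq
        exact cent_pcore hodd y hyK p hp hcop r hr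
      · exact (hyS r ⟨p, hp, hpq, hr⟩).symm
    have hyF : y ∈ F := by
      apply centralizer_fittingSubgroup_le
      rw [Subgroup.mem_centralizer_iff]
      have hle : Cfsg.fittingSubgroup G ≤ Subgroup.centralizer {y} := by
        rw [fittingSubgroup_eq_fitJoin]
        apply iSup_le
        intro p r hr
        rw [Subgroup.mem_centralizer_singleton_iff]
        exact (hyall p p.2 r hr).symm
      intro h hh
      have := hle hh
      rw [Subgroup.mem_centralizer_singleton_iff] at this
      exact this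
    have hmem : y ∈ Subgroup.centralizer {l} := by
      apply mem_of_forall_prime_exists_pow_mem _ y (orderOf_pos y)
      intro p hp
      by_cases hpq : p = q
      · subst hpq
        refine ⟨orderOf y, ?_, ?_⟩
        · intro hdvd
          have := Nat.Coprime.eq_one_of_dvd hcop.symm hdvd
          exact hp.ne_one this
        · rw [pow_orderOf_eq_one]; exact Subgroup.one_mem _
      · obtain ⟨m, hpm, hm⟩ := fitting_exists_pow_mem_pCore hyF p hp
        refine ⟨m, hpm, ?_⟩
        rw [Subgroup.mem_centralizer_singleton_iff]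
        exact hlS _ ⟨p, hp, hpq, hm⟩
    rw [Subgroup.mem_centralizer_singleton_iff] at hmem
    exact hmem.symm
  -- L / Z(L) is a q-group
  have hLq : IsPGroup q (L ⧸ Subgroup.center L) := by
    intro lbar
    obtain ⟨l, rfl⟩ := QuotientGroup.mk_surjective lbar
    obtain ⟨e', m, hqm, hn⟩ :=
      Nat.exists_eq_pow_mul_and_not_dvd (orderOf_pos (l : G)).ne' q hq.ne_one
    refine ⟨e', ?_⟩
    rw [← QuotientGroup.mk_pow, QuotientGroup.eq_one_iff, Subgroup.mem_center_iff]
    intro l'
    apply Subtype.ext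
    rw [Subgroup.coe_mul, Subgroup.coe_mul, Subgroup.coe_pow]
    apply hA _ (L.pow_mem l.2 _) _ _ l'.2
    have hdvd : q ^ e' ∣ orderOf (l : G) := ⟨m, hn⟩
    rw [orderOf_pow_of_dvd (pow_ne_zero _ hq.ne_zero) hdvd, hn,
      Nat.mul_div_cancel_left _ (pow_pos hq.pos _)]
    exact (Nat.Prime.coprime_iff_not_dvd hq).mpr hqm |>.symm
  have hLnil : Group.IsNilpotent L :=
    Group.of_quotient_center_nilpotent hLq.isNilpotent
  exact le_fittingSubgroup hLn hLnil hxL

/-- Let G be a finite solvable group whose Fitting subgroup F(G) has odd order. If an element g of G commutes with every element of prime order of F(G), then g ∈ F(G). -/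
theorem result {G : Type*} [Group G] [Finite G] (hG : Group.IsSolvable G) (hodd : Odd (Nat.card (Cfsg.fittingSubgroup G))) (g : G) (hg : ∀ x ∈ Cfsg.fittingSubgroup G, (orderOf x).Prime → g * x = x * g) : g ∈ Cfsg.fittingSubgroup G := by
  apply mem_of_forall_prime_exists_pow_mem _ g (orderOf_pos g)
  intro q hq
  obtain ⟨e, m, hqm, hn⟩ := Nat.exists_eq_pow_mul_and_not_dvd (orderOf_pos g).ne' q hq.ne_one
  refine ⟨m, hqm, ?_⟩
  have hm0 : m ≠ 0 := by
    rintro rfl
    exact hqm (dvd_zero q)
  apply key hodd q hq (g ^ m) _ e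
  · have hdvd : m ∣ orderOf g := ⟨q ^ e, by rw [hn, mul_comm]⟩
    rw [orderOf_pow_of_dvd hm0 hdvd, hn, Nat.mul_div_cancel _ (Nat.pos_of_ne_zero hm0)]
  · intro y hy hyo
    have := hg y hy hyo
    have hc : Commute g y := this
    exact (hc.pow_left m).eq


end Cfsg.Agent.S3785
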