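import Mathlib
import Cfsg.Statements.S3787
import Cfsg.Agent.Helper3.WrMain
import Cfsg.Agent.Helper3.PLen
-- import your own Cfsg.Agent.* helpers here

set_option autoImplicit false
open Cfsg

namespace Cfsg.Agent.S3787

open Cfsg.Agent.Helper3.Wr Cfsg.Agent.Helper3.PLen

set_option maxHeartbeats 1000000 in
/-- Let G be a finite p-soluble group, p an odd prime not of the form 2^k + 1, and suppose the wreath product C_p ≀ C_p (of order p^(p+1)) is not involved in a Sylow p-subgroup of G: no section of a Sylow p-subgroup is isomorphic to it. Then G has p-length at most 1. -/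
theorem result {G : Type*} [Group G] [Finite G] {p : ℕ} [Fact p.Prime] (hp2 : p ≠ 2) (hnf : (¬ ∃ k : ℕ, p = 2 ^ k + 1)) (hG : Cfsg.IsPSolvable p G) (P : Sylow p G) (hwr : ∀ (W : Type) [Group W] [Finite W], (∃ (B : Subgroup W) (t : W), B.Normal ∧ IsMulCommutative B ∧ (∀ b ∈ B, b ^ p = 1) ∧ Nat.card B = p ^ p ∧ orderOf t = p ∧ t ∉ B ∧ Nat.card W = p ^ (p + 1) ∧ Nat.card ↥(B ⊓ Subgroup.centralizer ({t} : Set W)) = p) → ¬ Cfsg.Involves W ↥(P : Subgroup G)) : Cfsg.PLengthLE p 1 G := by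
  classical
  have hp : p.Prime := Fact.out
  -- the wreath product is not involved in G
  have hWp : IsPGroup p (WrP p) := by
    apply IsPGroup.of_card (n := p + 1)
    obtain ⟨B, t, -, -, -, -, -, -, hcard, -⟩ := wr_prop p
    exact hcard
  have hWG : ¬ Cfsg.Involves (WrP p) G := by
    intro h
    exact hwr (WrP p) (wr_prop p) (Cfsg.Agent.Lead.involves_sylow_of_isPGroup p hWp P h)
  have hWGb : ¬ Cfsg.Involves (WrP p) (G ⧸ Cfsg.pPrimeCore p G) := by
    intro h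
    exact hWG (involves_of_surjective' (QuotientGroup.mk' (Cfsg.pPrimeCore p G))
      (QuotientGroup.mk'_surjective _) h)
  have hGb : Cfsg.IsPSolvable p (G ⧸ Cfsg.pPrimeCore p G) :=
    Cfsg.Agent.Helper4.isPSolvable_quotient hG _
  have hOb : Cfsg.pPrimeCore p (G ⧸ Cfsg.pPrimeCore p G) = ⊥ :=
    Cfsg.Agent.Helper4.pPrimeCore_quotient_eq_bot p
  have hcop := coprime_card_quotient_pCore hp2 hnf hGb hOb hWGb
  have hPp : IsPGroup p (Cfsg.pCore p (G ⧸ Cfsg.pPrimeCore p G)) :=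
    Cfsg.Agent.Helper4.pCore_isPGroup
  obtain ⟨m, hm⟩ := IsPGroup.iff_card.1 hPp
  have h1 : Cfsg.PLengthLE p 1 (Cfsg.pCore p (G ⧸ Cfsg.pPrimeCore p G)) :=
    pLengthLE_one_of_card p hm
  have h0 : Cfsg.PLengthLE p 0
      ((G ⧸ Cfsg.pPrimeCore p G) ⧸ Cfsg.pCore p (G ⧸ Cfsg.pPrimeCore p G)) :=
    pLengthLE_zero_of_coprime p hcop
  have h2 : Cfsg.PLengthLE p (1 + 0) (G ⧸ Cfsg.pPrimeCore p G) :=
    pLengthLE_add p (Cfsg.pCore p (G ⧸ Cfsg.pPrimeCore p G)) h1 h0
  exact pLengthLE_of_quotient_coprime p (Cfsg.pPrimeCore p G)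
    (Cfsg.Agent.Helper1.card_pPrimeCore_coprime p) h2


end Cfsg.Agent.S3787
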