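import Mathlib
import Cfsg.Statements.S3790
import Cfsg.Agent.Helper3.PLen
-- import your own Cfsg.Agent.* helpers here

set_option autoImplicit false
open Cfsg

namespace Cfsg.Agent.S3790
open Cfsg

universe u

open Cfsg.Agent.Helper3.PLen

theorem main (p : ℕ) [hp : Fact p.Prime] : ∀ r : ℕ, ∀ (G : Type u) [Group G] [Finite G]
    (q : Fin r → ℕ), (∀ i, (q i).Prime ∧ q i ≠ p) →
    (∀ s : ℕ, s.Prime → s ∣ Nat.card G → s ≠ p → ∃ i, q i = s) →
    ∀ l : Fin r → ℕ, (∀ i, Cfsg.PLengthLE (q i) (l i) G) →
    Cfsg.PLengthLE p (Finset.univ.prod fun i => 1 + l i) G := by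
  intro r
  induction r with
  | zero =>
    intro G _ _ q hq hcover l hl
    have hcard : ∃ m, Nat.card G = p ^ m := by
      refine ⟨_, Nat.eq_prime_pow_of_unique_prime_dvd Nat.card_pos.ne' ?_⟩
      intro s hs hsd
      by_contra hne
      obtain ⟨i, _⟩ := hcover s hs hsd hne
      exact Fin.elim0 i
    obtain ⟨m, hm⟩ := hcard
    simpa using pLengthLE_one_of_card p hm
  | succ r IHr =>
    intro G _ _ q hq hcover l hl
    rw [Fin.prod_univ_castSucc]
    set t := q (Fin.last r) with ht
    set m := Finset.univ.prod fun i : Fin r => 1 + l i.castSucc with hm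
    have htp : t.Prime := (hq _).1
    haveI : Fact t.Prime := ⟨htp⟩
    have htne : t ≠ p := (hq _).2
    -- groups of order prime to `t`
    have H1 : ∀ (X : Type u) [Group X] [Finite X], (Nat.card X).Coprime t →
        (∀ s : ℕ, s.Prime → s ∣ Nat.card X → s ≠ p → ∃ i, q i = s) →
        (∀ i : Fin r, Cfsg.PLengthLE (q i.castSucc) (l i.castSucc) X) →
        Cfsg.PLengthLE p m X := by
      intro X _ _ hXt hXc hXl
      refine IHr X (fun i => q i.castSucc) (fun i => hq _) ?_ (fun i => l i.castSucc) hXl
      intro s hs hsd hsp
      obtain ⟨i, hi⟩ := hXc s hs hsd hsp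
      rcases Fin.eq_castSucc_or_eq_last i with ⟨j, rfl⟩ | rfl
      · exact ⟨j, hi⟩
      · exfalso
        have h3 : s ∣ Nat.gcd (Nat.card X) t := Nat.dvd_gcd hsd (by rw [ht, hi])
        rw [hXt] at h3
        exact hs.one_lt.ne' (Nat.dvd_one.1 h3)
    have key : ∀ L : ℕ, ∀ (X : Type u) [Group X] [Finite X],
        (∀ s : ℕ, s.Prime → s ∣ Nat.card X → s ≠ p → ∃ i, q i = s) →
        (∀ i : Fin r, Cfsg.PLengthLE (q i.castSucc) (l i.castSucc) X) →
        Cfsg.PLengthLE t L X → Cfsg.PLengthLE p (m * (1 + L)) X := by
      intro L
      induction L with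
      | zero =>
        intro X _ _ hXc hXl hXt
        rw [add_zero, mul_one]
        refine H1 X ?_ hXc hXl
        rw [pLengthLE_iff] at hXt
        have := factor (G := X) t 0
        unfold Good at this
        rw [if_pos (by decide), U_zero, Subgroup.relIndex_bot_left] at this
        rw [show 2 * 0 + 1 = 0 + 1 by norm_num] at hXt
        rw [hXt, Subgroup.card_top] at this
        exact this
      | succ L IHL =>
        intro X _ _ hXc hXl hXt
        -- the quotient by `O_{t',t}`
        have hq1 : Cfsg.PLengthLE p (m * (1 + L)) (X ⧸ U t X 2) := by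
          refine IHL (X ⧸ U t X 2) ?_ ?_ ?_
          · intro s hs hsd hsp
            exact hXc s hs (hsd.trans (Subgroup.card_quotient_dvd_card _)) hsp
          · intro i
            haveI : Fact (q i.castSucc).Prime := ⟨(hq _).1⟩
            exact pLengthLE_of_surjective _ (QuotientGroup.mk' _)
              (QuotientGroup.mk'_surjective _) (hXl i)
          · rw [pLengthLE_iff] at hXt ⊢
            have h1 := U_add_even (G := X) t (show Even 2 by decide) (2 * L + 1)
            rw [show 2 * L + 1 + 2 = 2 * (L + 1) + 1 by ring, hXt] at h1
            have h3 : (⊤ : Subgroup (X ⧸ U t X 2)).comap (QuotientGroup.mk' (U t X 2)) = ⊤ :=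
              Subgroup.comap_top _
            rw [← h3] at h1
            exact (Subgroup.comap_injective (QuotientGroup.mk'_surjective _) h1).symm
        -- `O_{t',t}` itself
        have hN : Cfsg.PLengthLE p (m + 0) (U t X 2) := by
          haveI : ((U t X 1).subgroupOf (U t X 2)).Normal :=
            Subgroup.Normal.subgroupOf inferInstance _
          refine pLengthLE_add p ((U t X 1).subgroupOf (U t X 2)) ?_ ?_
          · have hc : Nat.card ((U t X 1).subgroupOf (U t X 2)) = Nat.card (U t X 1) :=
              Nat.card_congr (Subgroup.subgroupOfEquivOfLe (U_le_succ t 1)).toEquiv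
            have hdvd : Nat.card ((U t X 1).subgroupOf (U t X 2)) ∣ Nat.card X := by
              rw [hc]; exact Subgroup.card_subgroup_dvd_card _
            refine H1 _ ?_ ?_ ?_
            · rw [hc]
              have := factor (G := X) t 0
              unfold Good at this
              rw [if_pos (by decide), U_zero, Subgroup.relIndex_bot_left] at this
              exact this
            · intro s hs hsd hsp
              exact hXc s hs (hsd.trans hdvd) hsp
            · intro i
              haveI : Fact (q i.castSucc).Prime := ⟨(hq _).1⟩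
              exact pLengthLE_subgroup _ _ (pLengthLE_subgroup _ _ (hXl i))
          · apply pLengthLE_zero_of_coprime
            have h1 : Nat.card ((U t X 2) ⧸ (U t X 1).subgroupOf (U t X 2)) =
                (U t X 1).relIndex (U t X 2) := by
              rw [← Subgroup.index_eq_card]; rfl
            rw [h1]
            have := factor (G := X) t 1
            unfold Good at this
            rw [if_neg (by decide)] at this
            obtain ⟨j, hj⟩ := this
            rw [hj]
            apply Nat.Coprime.pow_left
            exact (Nat.coprime_primes htp hp.out).2 htne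
        rw [add_zero] at hN
        have := pLengthLE_add p (U t X 2) hN hq1
        rw [show m * (1 + (L + 1)) = m + m * (1 + L) by ring]
        exact this
    exact key (l (Fin.last r)) G hcover (fun i => hl _) (hl _)

/-- Let G be a finite solvable group and p a prime. Suppose p₁, …, p_r are distinct primes, all different from p, that include every prime dividing the order of G other than p, and that G has p_i-length at most l_i for each i. Then G has p-length at most the product of the numbers 1 + l_i. -/
theorem result {G : Type*} [Group G] [Finite G] (hG : Group.IsSolvable G) (p : ℕ) [Fact p.Prime] (r : ℕ) (q : Fin r → ℕ) (hq : ∀ i, (q i).Prime ∧ q i ≠ p) (hinj : Function.Injective q) (hcover : ∀ s : ℕ, s.Prime → s ∣ Nat.card G → s ≠ p → ∃ i, q i = s) (l : Fin r → ℕ) (hl : ∀ i, Cfsg.PLengthLE (q i) (l i) G) : Cfsg.PLengthLE p (Finset.univ.prod fun i => 1 + l i) G := by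
  exact main p r G q hq hcover l hl


end Cfsg.Agent.S3790
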