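import Mathlib
import Cfsg.Statements.S3791
import Cfsg.Agent.Helper3.PLen
-- import your own Cfsg.Agent.* helpers here

set_option autoImplicit false
open Cfsg

namespace Cfsg.Agent.S3791
open Cfsg

universe u

open Cfsg.Agent.Helper3.PLen

/-- derived series of a group through a subgroup -/
theorem derived_le {G : Type u} [Group G] (H : Subgroup G) (a : ℕ) (h : derivedSeries G a ≤ H)
    (b : ℕ) : derivedSeries G (a + b) ≤ (derivedSeries H b).map H.subtype := by
  induction b with
  | zero =>
    rw [derivedSeries_zero, ← MonoidHom.range_eq_map, Subgroup.range_subtype]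
    exact h
  | succ b ih =>
    rw [← add_assoc, derivedSeries_succ, derivedSeries_succ, Subgroup.map_commutator]
    exact Subgroup.commutator_mono ih ih

/-- Sylow subgroups of bounded derived length pass to quotients -/
theorem sylow_image {G : Type u} [Group G] [Finite G] {H : Type u} [Group H] (p : ℕ)
    [Fact p.Prime] (f : G →* H) (hf : Function.Surjective f) (d : ℕ)
    (h : ∃ S : Sylow p G, derivedSeries S d = ⊥) : ∃ S : Sylow p H, derivedSeries S d = ⊥ := by
  obtain ⟨S, hS⟩ := h
  refine ⟨S.mapSurjective hf, ?_⟩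
  have h1 := map_derivedSeries_eq (f := f.subgroupMap (S : Subgroup G))
    (f.subgroupMap_surjective (S : Subgroup G)) d
  rw [hS, Subgroup.map_bot] at h1
  exact h1.symm

theorem main (r : ℕ) (q : Fin r → ℕ) (hq : ∀ i, (q i).Prime) (d : Fin r → ℕ) :
    ∀ n : ℕ, ∀ (G : Type u) [Group G] [Finite G] (l : Fin r → ℕ),
      Nat.card G + (Finset.univ.sum fun i => l i) = n →
      (∀ s : ℕ, s.Prime → s ∣ Nat.card G → ∃ i, q i = s) →
      (∀ i, ∃ S : Sylow (q i) G, derivedSeries S (d i) = ⊥) →
      (∀ i, Cfsg.PLengthLE (q i) (l i) G) →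
      derivedSeries G (Finset.univ.sum fun i => d i * l i) = ⊥ := by
  intro n
  induction n using Nat.strong_induction_on with
  | _ n IH =>
  intro G _ _ l hn hcover hS hl
  by_cases hsub : Subsingleton G
  · exact Subsingleton.elim _ _
  have hnt : Nontrivial G := not_subsingleton_iff_nontrivial.1 hsub
  have hquot : ∀ (N : Subgroup G) [N.Normal], ∀ i, ∃ S : Sylow (q i) (G ⧸ N),
      derivedSeries S (d i) = ⊥ := by
    intro N _ i
    have : Fact (q i).Prime := ⟨hq i⟩
    exact sylow_image (q i) (QuotientGroup.mk' N) (QuotientGroup.mk'_surjective N) (d i) (hS i)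
  have hcovq : ∀ (N : Subgroup G) [N.Normal], ∀ s : ℕ, s.Prime → s ∣ Nat.card (G ⧸ N) →
      ∃ i, q i = s := by
    intro N _ s hs hdvd
    exact hcover s hs (hdvd.trans (Subgroup.card_quotient_dvd_card N))
  have hker : ∀ (N : Subgroup G) [N.Normal] (k : ℕ), derivedSeries (G ⧸ N) k = ⊥ →
      derivedSeries G k ≤ N := by
    intro N _ k hk
    have h1 := map_derivedSeries_eq (QuotientGroup.mk'_surjective N) k
    rw [hk] at h1
    have h2 := (Subgroup.map_eq_bot_iff _).1 h1
    rwa [QuotientGroup.ker_mk'] at h2
  by_cases hcase : ∃ i, Cfsg.pPrimeCore (q i) G = ⊥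
  · obtain ⟨i, hi⟩ := hcase
    have : Fact (q i).Prime := ⟨hq i⟩
    -- `U 1 = ⊥`
    have hU1 : U (q i) G 1 = ⊥ := by
      have h1 : U (q i) G 1 ≤ Cfsg.pPrimeCore (q i) G := by
        apply Cfsg.Agent.Helper1.le_pPrimeCore inferInstance
        have := factor (G := G) (q i) 0
        unfold Good at this
        rw [if_pos (by decide), U_zero, Subgroup.relIndex_bot_left] at this
        exact this
      rw [hi] at h1
      exact le_bot_iff.1 h1
    have hli : 1 ≤ l i := by
      by_contra hcon
      have h0 : l i = 0 := by omega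
      have := hl i
      rw [pLengthLE_iff, h0] at this
      rw [show 2 * 0 + 1 = 1 by norm_num, hU1] at this
      exact bot_ne_top this
    -- `U 2` is a `q i`-group
    have hU2 : IsPGroup (q i) (U (q i) G 2) := by
      have := factor (G := G) (q i) 1
      unfold Good at this
      rw [if_neg (by decide), hU1, Subgroup.relIndex_bot_left] at this
      obtain ⟨m, hm⟩ := this
      exact IsPGroup.of_card hm
    obtain ⟨S, hSd⟩ := hS i
    have hU2S : U (q i) G 2 ≤ (S : Subgroup G) :=
      Cfsg.Agent.Helper4.normal_pgroup_le_sylow _ hU2 S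
    have hU2d : derivedSeries (U (q i) G 2) (d i) = ⊥ := by
      have h1 := map_derivedSeries_le_derivedSeries (Subgroup.inclusion hU2S) (d i)
      rw [hSd, le_bot_iff] at h1
      exact (Subgroup.map_eq_bot_iff_of_injective _ (Subgroup.inclusion_injective hU2S)).1 h1
    -- the quotient
    set l' : Fin r → ℕ := Function.update l i (l i - 1) with hl'
    have hl'i : l' i = l i - 1 := by rw [hl', Function.update_self]
    have hl'j : ∀ j, j ≠ i → l' j = l j := fun j hj => by rw [hl', Function.update_of_ne hj]
    have hsum : (Finset.univ.sum fun j => l j) = (Finset.univ.sum fun j => l' j) + 1 := by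
      have : ∀ j, l j = l' j + (if j = i then 1 else 0) := by
        intro j
        by_cases hj : j = i
        · subst hj; rw [hl'i, if_pos rfl]; omega
        · rw [hl'j j hj, if_neg hj]; rfl
      rw [Finset.sum_congr rfl (fun j _ => this j), Finset.sum_add_distrib,
        Finset.sum_ite_eq' Finset.univ i]
      simp
    have hsumd : (Finset.univ.sum fun j => d j * l j) =
        (Finset.univ.sum fun j => d j * l' j) + d i := by
      have : ∀ j, d j * l j = d j * l' j + (if j = i then d i else 0) := by
        intro j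
        by_cases hj : j = i
        · subst hj
          rw [hl'i, if_pos rfl]
          have : l j = (l j - 1) + 1 := by omega
          conv_lhs => rw [this]
          ring
        · rw [hl'j j hj, if_neg hj]; rfl
      rw [Finset.sum_congr rfl (fun j _ => this j), Finset.sum_add_distrib,
        Finset.sum_ite_eq' Finset.univ i]
      simp
    have hlq : ∀ j, Cfsg.PLengthLE (q j) (l' j) (G ⧸ U (q i) G 2) := by
      intro j
      by_cases hj : j = i
      · subst hj
        rw [hl'i, pLengthLE_iff]
        have h1 := U_add_even (G := G) (q j) (show Even 2 by decide) (2 * (l j - 1) + 1)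
        have h2 := hl j
        rw [pLengthLE_iff] at h2
        rw [show 2 * (l j - 1) + 1 + 2 = 2 * l j + 1 by omega, h2] at h1
        have h3 : (⊤ : Subgroup (G ⧸ U (q j) G 2)).comap (QuotientGroup.mk' (U (q j) G 2)) = ⊤ :=
          Subgroup.comap_top _
        rw [← h3] at h1
        exact (Subgroup.comap_injective (QuotientGroup.mk'_surjective _) h1).symm
      · rw [hl'j j hj]
        have : Fact (q j).Prime := ⟨hq j⟩
        exact pLengthLE_of_surjective (q j) (QuotientGroup.mk' _)
          (QuotientGroup.mk'_surjective _) (hl j)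
    have hcard : Nat.card (G ⧸ U (q i) G 2) ≤ Nat.card G :=
      Nat.le_of_dvd Nat.card_pos (Subgroup.card_quotient_dvd_card _)
    have hIH := IH (Nat.card (G ⧸ U (q i) G 2) + Finset.univ.sum fun j => l' j)
      (by rw [← hn, hsum]; omega) (G ⧸ U (q i) G 2) l' rfl (hcovq _) (hquot _) hlq
    have h1 := hker _ _ hIH
    have h2 := derived_le (U (q i) G 2) _ h1 (d i)
    rw [hU2d, Subgroup.map_bot, le_bot_iff] at h2
    rw [hsumd]
    exact h2
  · push Not at hcase
    have hall : ∀ i, derivedSeries G (Finset.univ.sum fun j => d j * l j) ≤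
        Cfsg.pPrimeCore (q i) G := by
      intro i
      apply hker
      have hlt : Nat.card (G ⧸ Cfsg.pPrimeCore (q i) G) < Nat.card G := by
        rw [← Subgroup.index_eq_card, ← Subgroup.card_mul_index (Cfsg.pPrimeCore (q i) G)]
        have h1 : 1 < Nat.card (Cfsg.pPrimeCore (q i) G) :=
          (Subgroup.one_lt_card_iff_ne_bot _).2 (hcase i)
        have h2 : 0 < (Cfsg.pPrimeCore (q i) G).index := Nat.pos_of_ne_zero Subgroup.index_ne_zero_of_finite
        nlinarith
      refine IH (Nat.card (G ⧸ Cfsg.pPrimeCore (q i) G) + Finset.univ.sum fun j => l j)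
        (by rw [← hn]; omega) (G ⧸ Cfsg.pPrimeCore (q i) G) l rfl (hcovq _) (hquot _) ?_
      intro j
      have : Fact (q j).Prime := ⟨hq j⟩
      exact pLengthLE_of_surjective (q j) (QuotientGroup.mk' _)
        (QuotientGroup.mk'_surjective _) (hl j)
    have hI : derivedSeries G (Finset.univ.sum fun j => d j * l j) ≤
        ⨅ i, Cfsg.pPrimeCore (q i) G := le_iInf hall
    have hcardI : Nat.card (⨅ i, Cfsg.pPrimeCore (q i) G : Subgroup G) = 1 := by
      by_contra hne
      obtain ⟨s, hs, hsd⟩ := Nat.exists_prime_and_dvd hne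
      obtain ⟨i, rfl⟩ := hcover s hs (hsd.trans (Subgroup.card_subgroup_dvd_card _))
      have h1 : Nat.card (⨅ i, Cfsg.pPrimeCore (q i) G : Subgroup G) ∣
          Nat.card (Cfsg.pPrimeCore (q i) G) := Subgroup.card_dvd_of_le (iInf_le _ i)
      have h2 := Cfsg.Agent.Helper1.card_pPrimeCore_coprime (G := G) (q i)
      have h3 : q i ∣ Nat.gcd (Nat.card (Cfsg.pPrimeCore (q i) G)) (q i) :=
        Nat.dvd_gcd (hsd.trans h1) dvd_rfl
      rw [h2] at h3
      exact hs.one_lt.ne' (Nat.dvd_one.1 h3)
    rw [Subgroup.card_eq_one] at hcardI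
    rw [hcardI] at hI
    exact le_bot_iff.1 hI

/-- The Hall–Higman bound on derived length: let G be a finite solvable group, let p₁, …, p_r be distinct primes that include every prime dividing the order of G, and suppose that for each i the Sylow p_i-subgroups of G have derived length at most d_i and G has p_i-length at most l_i. Then G has derived length at most Σ d_i l_i. -/
theorem result {G : Type*} [Group G] [Finite G] (hG : Group.IsSolvable G) (r : ℕ) (q : Fin r → ℕ) (hq : ∀ i, (q i).Prime) (hinj : Function.Injective q) (hcover : ∀ s : ℕ, s.Prime → s ∣ Nat.card G → ∃ i, q i = s) (d l : Fin r → ℕ) (hd : ∀ i, ∀ P : Subgroup G, (haveI := Fact.mk (hq i); ∃ S : Sylow (q i) G, (S : Subgroup G) = P) → derivedSeries ↥P (d i) = ⊥) (hl : ∀ i, Cfsg.PLengthLE (q i) (l i) G) : derivedSeries G (Finset.univ.sum fun i => d i * l i) = ⊥ := by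
  refine main r q hq d _ G l rfl hcover ?_ hl
  intro i
  have : Fact (q i).Prime := ⟨hq i⟩
  obtain ⟨S⟩ : Nonempty (Sylow (q i) G) := inferInstance
  exact ⟨S, hd i S ⟨S, rfl⟩⟩


end Cfsg.Agent.S3791
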