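import Mathlib
import Cfsg.Statements.S3794
import Cfsg.Agent.Helper3.Fpf4C
-- import your own Cfsg.Agent.* helpers here

set_option autoImplicit false
open Cfsg

namespace Cfsg.Agent.S3794

open Cfsg.Agent.Helper3.Fpf4
open scoped Pointwise commutatorElement

theorem exists_inv_sylow {G : Type*} [Group G] [Finite G] {φ : MulAut G} (h : IsFpf4 φ) (q : ℕ)
    [Fact q.Prime] : ∃ S : Sylow q G, ∀ s ∈ S, φ s ∈ S := by
  classical
  have : Fintype (Sylow q G) := Fintype.ofFinite _
  have : Fact (Nat.Prime 2) := ⟨Nat.prime_two⟩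
  have hodd := h.odd_card
  obtain ⟨S0⟩ : Nonempty (Sylow q G) := inferInstance
  have hnd : ¬ 2 ∣ Fintype.card (Sylow q G) := by
    intro h2
    rw [← Nat.card_eq_fintype_card] at h2
    have h3 := h2.trans ((Sylow.card_dvd_index S0).trans (Subgroup.index_dvd_card _))
    rw [Nat.odd_iff] at hodd
    omega
  have hpow : (MulAction.toPerm φ : Equiv.Perm (Sylow q G)) ^ 2 ^ 2 = 1 := by
    have h4 : (2 : ℕ) ^ 2 = 4 := by norm_num
    rw [h4]
    have : (MulAction.toPerm φ : Equiv.Perm (Sylow q G)) ^ 4 = MulAction.toPerm (φ ^ 4) := by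
      ext S : 1
      simp only [Equiv.Perm.coe_pow, MulAction.toPerm_apply]
      rw [pow_succ, pow_succ, pow_succ, pow_one]
      simp only [Function.iterate_succ, Function.iterate_zero, Function.comp_apply,
        MulAction.toPerm_apply, mul_smul, id]
    rw [this, h.pow4]
    ext S : 1
    simp
  obtain ⟨S, hS⟩ := Equiv.Perm.exists_fixed_point_of_prime hnd hpow
  refine ⟨S, ?_⟩
  intro s hs
  have h1 : φ • s ∈ φ • (S : Subgroup G) := Subgroup.smul_mem_pointwise_smul _ _ _ hs
  have h2 : (φ • S : Sylow q G) = S := hS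
  have h3 : φ • (S : Subgroup G) = S := by
    rw [← Sylow.pointwise_smul_def, h2]
  rw [h3] at h1
  exact h1

/-- Let G be a finite solvable group with an automorphism σ satisfying σ⁴ = 1 and fixing only the identity. Then the derived subgroup G' is nilpotent. -/
theorem result {G : Type*} [Group G] [Finite G] (hG : Group.IsSolvable G) (σ : MulAut G) (hσ : σ ^ 4 = 1) (hfpf : ∀ g : G, σ g = g → g = 1) : Group.IsNilpotent (commutator G) := by
  have h : IsFpf4 σ := ⟨hσ, hfpf⟩
  have hFn : (Cfsg.fittingSubgroup G).Normal := inferInstance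
  -- every invariant Sylow subgroup lies in `F ⊔ H`
  have hle : ∀ (q : ℕ) [Fact q.Prime] (S : Sylow q G), (∀ s ∈ S, σ s ∈ S) →
      (S : Subgroup G) ≤ Cfsg.fittingSubgroup G ⊔ fixSq σ := by
    intro q _ S hS s hs
    obtain ⟨c, _, i, hiS, hc2, hi2, rfl⟩ := h.decomp (S : Subgroup G) hS s hs
    have h1 := main_lemma hG h q (S : Subgroup G) S.isPGroup' hS i hiS hi2
    have h2 : i ∈ Cfsg.fittingSubgroup G := Helper4.pCore_le_fittingSubgroup q h1
    exact Subgroup.mul_mem _ (Subgroup.mem_sup_right hc2) (Subgroup.mem_sup_left h2)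
  have htop : Cfsg.fittingSubgroup G ⊔ fixSq σ = ⊤ := by
    rw [← Subgroup.index_eq_one]
    by_contra hne
    obtain ⟨q, hq, hqd⟩ := Nat.exists_prime_and_dvd hne
    have : Fact q.Prime := ⟨hq⟩
    obtain ⟨S, hS⟩ := exists_inv_sylow h q
    have h1 := Subgroup.index_dvd_of_le (hle q S hS)
    exact S.not_dvd_index (hqd.trans h1)
  -- the quotient by `F` is abelian
  have hcomm : commutator G ≤ Cfsg.fittingSubgroup G := by
    rw [commutator_def, Subgroup.commutator_le]
    intro g₁ _ g₂ _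
    have hrep : ∀ g : G, ∃ k ∈ fixSq σ, (QuotientGroup.mk g : G ⧸ Cfsg.fittingSubgroup G)
        = QuotientGroup.mk k := by
      intro g
      have hg : g ∈ ((Cfsg.fittingSubgroup G ⊔ fixSq σ : Subgroup G) : Set G) := by
        rw [htop]; trivial
      rw [Subgroup.normal_mul] at hg
      obtain ⟨f, hf, k, hk, rfl⟩ := hg
      refine ⟨k, hk, ?_⟩
      rw [QuotientGroup.mk_mul, (QuotientGroup.eq_one_iff f).2 hf, one_mul]
    obtain ⟨k₁, hk₁, e₁⟩ := hrep g₁
    obtain ⟨k₂, hk₂, e₂⟩ := hrep g₂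
    rw [← QuotientGroup.eq_one_iff]
    have : (QuotientGroup.mk ⁅g₁, g₂⁆ : G ⧸ Cfsg.fittingSubgroup G)
        = ⁅(QuotientGroup.mk g₁ : G ⧸ Cfsg.fittingSubgroup G), QuotientGroup.mk g₂⁆ := by
      simp [commutatorElement_def]
    rw [this, e₁, e₂, commutatorElement_eq_one_iff_commute]
    show (QuotientGroup.mk k₁ : G ⧸ Cfsg.fittingSubgroup G) * QuotientGroup.mk k₂
      = QuotientGroup.mk k₂ * QuotientGroup.mk k₁
    rw [← QuotientGroup.mk_mul, ← QuotientGroup.mk_mul, h.comm_of_fixed hk₁ hk₂]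
  have hFnil : Group.IsNilpotent (Cfsg.fittingSubgroup G) := Helper1.fittingSubgroup_isNilpotent
  exact Group.nilpotent_of_mulEquiv (Subgroup.subgroupOfEquivOfLe hcomm)


end Cfsg.Agent.S3794
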