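import Mathlib
import Cfsg.Statements.S3799
import Cfsg.Agent.Helper3.Heis
-- import your own Cfsg.Agent.* helpers here

set_option autoImplicit false
open Cfsg

namespace Cfsg.Agent.S3799
open Cfsg

open Cfsg.Agent.Helper3

/-- For every odd prime p and every n ≥ 1 there is an extraspecial p-group of order p^(1+2n) and exponent p; concretely, the general linear group of degree n + 2 over the field with p elements contains such a subgroup. -/
theorem result (p : ℕ) [Fact p.Prime] (hp : p ≠ 2) (n : ℕ) (hn : 1 ≤ n) : ∃ E : Subgroup (Matrix.GeneralLinearGroup (Fin (n + 2)) (ZMod p)), Cfsg.IsExtraspecial p ↥E ∧ Nat.card E = p ^ (1 + 2 * n) ∧ ∀ x ∈ E, x ^ p = 1 := by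
  have hp' := (Fact.out : p.Prime)
  have : NeZero p := ⟨hp'.ne_zero⟩
  have : Fact (1 < p) := ⟨hp'.one_lt⟩
  have hinj : Function.Injective (Heis.matHom n p) := Heis.matHom_injective
  let e : Heis n p ≃* (Heis.matHom n p).range := MonoidHom.ofInjective hinj
  have hcard : Nat.card (Heis.matHom n p).range = p ^ (1 + 2 * n) := by
    rw [← Nat.card_congr e.toEquiv, Heis.card]
  refine ⟨(Heis.matHom n p).range, ?_, hcard, ?_⟩
  · have hc : Extra.InClass p (Heis.matHom n p).range :=
      Extra.InClass.of_mulEquiv e (Heis.inClass hp)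
    apply hc.isExtraspecial
    rw [hcard]
    calc p = p ^ 1 := (pow_one p).symm
      _ < p ^ (1 + 2 * n) := Nat.pow_lt_pow_right hp'.one_lt (by omega)
  · rintro x ⟨y, rfl⟩
    rw [← map_pow, Heis.pow_prime hp, map_one]


end Cfsg.Agent.S3799
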