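import Mathlib
import Cfsg.Statements.S3800
import Cfsg.Agent.Helper5.PPrimeCore

set_option autoImplicit false
open Cfsg

namespace Cfsg.Agent.S3800

open scoped Pointwise

variable {G : Type*} [Group G] [Finite G]

/-- `P` has index prime to `p` in `P ⊔ N`. -/
lemma not_dvd_relIndex {p : ℕ} [Fact p.Prime] (N : Subgroup G) [N.Normal]
    (hN : (Nat.card N).Coprime p) (P : Subgroup G) : ¬ p ∣ P.relIndex (P ⊔ N) := by
  intro hd
  have h1 : P.relIndex (P ⊔ N) * Nat.card P = Nat.card ↥(P ⊔ N) := by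
    have := Subgroup.card_mul_index (P.subgroupOf (P ⊔ N))
    rw [Nat.card_congr (Subgroup.subgroupOfEquivOfLe (le_sup_left : P ≤ P ⊔ N)).toEquiv] at this
    rw [mul_comm]; exact this
  have h2 := Cfsg.Agent.Helper5.card_sup_dvd_of_normal P N
  rw [← h1, mul_comm] at h2
  have h3 : P.relIndex (P ⊔ N) ∣ Nat.card N :=
    (Nat.mul_dvd_mul_iff_left Nat.card_pos).1 h2
  have h4 : p ∣ Nat.card N := hd.trans h3
  have := Nat.Coprime.eq_one_of_dvd hN.symm h4
  exact (Fact.out : p.Prime).one_lt.ne' this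

/-- Sylow conjugacy inside `P ⊔ N`. -/
lemma exists_conj {p : ℕ} [Fact p.Prime] (N : Subgroup G) [N.Normal]
    (hN : (Nat.card N).Coprime p) (P Q : Subgroup G) (hP : IsPGroup p P) (hQ : IsPGroup p Q)
    (hcard : Nat.card Q = Nat.card P) (hQle : Q ≤ P ⊔ N) :
    ∃ m ∈ P ⊔ N, ∀ x ∈ P, m * x * m⁻¹ ∈ Q := by
  set H := P ⊔ N with hH
  have hP' : IsPGroup p (P.subgroupOf H) := hP.comap_of_injective H.subtype H.subtype_injective
  have hQ' : IsPGroup p (Q.subgroupOf H) := hQ.comap_of_injective H.subtype H.subtype_injective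
  have hidxP : ¬ p ∣ (P.subgroupOf H).index := not_dvd_relIndex N hN P
  have hidxQ : ¬ p ∣ (Q.subgroupOf H).index := by
    have e1 := Subgroup.card_mul_index (P.subgroupOf H)
    have e2 := Subgroup.card_mul_index (Q.subgroupOf H)
    rw [Nat.card_congr (Subgroup.subgroupOfEquivOfLe (le_sup_left : P ≤ H)).toEquiv] at e1
    rw [Nat.card_congr (Subgroup.subgroupOfEquivOfLe hQle).toEquiv, hcard, ← e1] at e2
    have : (Q.subgroupOf H).index = (P.subgroupOf H).index :=
      Nat.eq_of_mul_eq_mul_left Nat.card_pos e2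
    rw [this]; exact hidxP
  let SP : Sylow p ↥H := hP'.toSylow hidxP
  let SQ : Sylow p ↥H := hQ'.toSylow hidxQ
  obtain ⟨m, hm⟩ := MulAction.exists_smul_eq ↥H SP SQ
  refine ⟨(m : G), m.2, ?_⟩
  intro x hx
  have hxH : x ∈ H := le_sup_left (a := P) hx
  have h1 : (⟨x, hxH⟩ : ↥H) ∈ SP := by
    show (⟨x, hxH⟩ : ↥H) ∈ P.subgroupOf H
    rw [Subgroup.mem_subgroupOf]; exact hx
  have h2 : m * ⟨x, hxH⟩ * m⁻¹ ∈ ((m • SP : Sylow p ↥H) : Subgroup ↥H) := by
    rw [Sylow.coe_subgroup_smul]
    have := Subgroup.smul_mem_pointwise_smul (⟨x, hxH⟩ : ↥H) (MulAut.conj m) (SP : Subgroup ↥H) h1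
    simpa [MulAut.smul_def] using this
  rw [hm] at h2
  have h3 : m * ⟨x, hxH⟩ * m⁻¹ ∈ Q.subgroupOf H := h2
  rw [Subgroup.mem_subgroupOf] at h3
  simpa using h3

/-- Let G be a finite group, N a normal subgroup of G whose order is prime to p, and P a p-subgroup of G. Then in G/N the normalizer of the image of P is the image of N_G(P), and the centralizer of the image of P is the image of C_G(P). -/
theorem result {G : Type*} [Group G] [Finite G] {p : ℕ} [Fact p.Prime] (N : Subgroup G) [N.Normal] (hN : (Nat.card N).Coprime p) (P : Subgroup G) (hP : IsPGroup p P) : Subgroup.normalizer ((P.map (QuotientGroup.mk' N)) : Set (G ⧸ N)) = (Subgroup.normalizer (P : Set G)).map (QuotientGroup.mk' N) ∧ Subgroup.centralizer ((P.map (QuotientGroup.mk' N)) : Set (G ⧸ N)) = (Subgroup.centralizer (P : Set G)).map (QuotientGroup.mk' N) := by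
  -- P ∩ N = 1
  have hPN : P ⊓ N = ⊥ := by
    apply Subgroup.inf_eq_bot_of_coprime
    obtain ⟨k, hk⟩ := IsPGroup.iff_card.1 hP
    rw [hk]
    exact (Nat.Coprime.pow_right k hN).symm
  have part1 : Subgroup.normalizer ((P.map (QuotientGroup.mk' N)) : Set (G ⧸ N)) ≤
      (Subgroup.normalizer (P : Set G)).map (QuotientGroup.mk' N) := by
    intro q hq
    obtain ⟨g, rfl⟩ := QuotientGroup.mk'_surjective N q
    -- Q = g P g⁻¹ lies in P ⊔ N
    set Q := P.map (MulAut.conj g).toMonoidHom with hQ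
    have hQle : Q ≤ P ⊔ N := by
      rintro _ ⟨x, hx, rfl⟩
      have h1 : QuotientGroup.mk' N (g * x * g⁻¹) ∈ P.map (QuotientGroup.mk' N) := by
        have := (Subgroup.mem_normalizer_iff.1 hq (QuotientGroup.mk' N x)).1
          (Subgroup.mem_map_of_mem _ hx)
        simpa using this
      obtain ⟨y, hy, hyx⟩ := h1
      have h2 : y⁻¹ * (g * x * g⁻¹) ∈ N := by
        rw [← QuotientGroup.eq]
        exact hyx
      have : g * x * g⁻¹ = y * (y⁻¹ * (g * x * g⁻¹)) := by group
      show g * x * g⁻¹ ∈ P ⊔ N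
      rw [this]
      exact Subgroup.mul_mem_sup hy h2
    have hQp : IsPGroup p Q := hP.map _
    have hcard : Nat.card Q = Nat.card P :=
      Subgroup.card_map_of_injective (MulAut.conj g).injective
    obtain ⟨m, hm, hmx⟩ := exists_conj N hN P Q hP hQp hcard hQle
    -- m = u * n
    rw [← SetLike.mem_coe, Subgroup.mul_normal, Set.mem_mul] at hm
    obtain ⟨u, hu, n, hn, rfl⟩ := hm
    -- (u n)⁻¹ g normalizes P
    have hcardeq : ∀ h : G, (∀ x ∈ P, h * x * h⁻¹ ∈ P) → h ∈ Subgroup.normalizer (P : Set G) := by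
      intro h hh
      rw [Subgroup.mem_normalizer_iff]
      intro x
      refine ⟨hh x, ?_⟩
      intro hx
      have hinj : Function.Injective (fun y : P => (⟨h * y * h⁻¹, hh y y.2⟩ : P)) := by
        intro a b hab
        have := congrArg Subtype.val hab
        simp only [mul_left_inj, mul_right_inj] at this
        exact Subtype.ext this
      have hsurj := Finite.surjective_of_injective hinj
      obtain ⟨y, hy⟩ := hsurj ⟨h * x * h⁻¹, hx⟩
      have := congrArg Subtype.val hy
      simp only [mul_left_inj, mul_right_inj] at this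
      rw [← this]; exact y.2
    have hk : (u * n)⁻¹ * g ∈ Subgroup.normalizer (P : Set G) := by
      apply hcardeq
      intro x hx
      have h1 : g * x * g⁻¹ ∈ Q := ⟨x, hx, rfl⟩
      -- Q = m P m⁻¹ by cardinality: every element of Q is m y m⁻¹
      have hinj : Function.Injective (fun y : P => (⟨u * n * y * (u * n)⁻¹, hmx y y.2⟩ : Q)) := by
        intro a b hab
        have := congrArg Subtype.val hab
        simp only [mul_left_inj, mul_right_inj] at this
        exact Subtype.ext this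
      have hbij : Function.Bijective (fun y : P => (⟨u * n * y * (u * n)⁻¹, hmx y y.2⟩ : Q)) := by
        rw [Nat.bijective_iff_injective_and_card]
        exact ⟨hinj, hcard.symm⟩
      obtain ⟨y, hy⟩ := hbij.2 ⟨g * x * g⁻¹, h1⟩
      have := congrArg Subtype.val hy
      simp only at this
      have e : (u * n)⁻¹ * g * x * ((u * n)⁻¹ * g)⁻¹ = (u * n)⁻¹ * (g * x * g⁻¹) * (u * n) := by group
      rw [e, ← this]
      have e2 : (u * n)⁻¹ * (u * n * ↑y * (u * n)⁻¹) * (u * n) = (y : G) := by group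
      rw [e2]; exact y.2
    have huN : u ∈ Subgroup.normalizer (P : Set G) := Subgroup.le_normalizer hu
    refine ⟨u * ((u * n)⁻¹ * g), mul_mem huN hk, ?_⟩
    rw [QuotientGroup.mk'_apply, QuotientGroup.mk'_apply, QuotientGroup.eq]
    have : (u * ((u * n)⁻¹ * g))⁻¹ * g = g⁻¹ * (u * n * u⁻¹) * g⁻¹⁻¹ := by group
    rw [this]
    exact ‹N.Normal›.conj_mem _ (‹N.Normal›.conj_mem n hn u) g⁻¹
  constructor
  · exact le_antisymm part1 (Subgroup.le_normalizer_map _)
  · apply le_antisymm
    · intro q hq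
      have hqN : q ∈ Subgroup.normalizer ((P.map (QuotientGroup.mk' N)) : Set (G ⧸ N)) :=
        Subgroup.centralizer_le_normalizer _ hq
      obtain ⟨h, hh, rfl⟩ := part1 hqN
      refine ⟨h, ?_, rfl⟩
      rw [SetLike.mem_coe, Subgroup.mem_centralizer_iff]
      intro x hx
      have hx' : x ∈ P := hx
      have h1 : h * x * h⁻¹ * x⁻¹ ∈ P :=
        P.mul_mem ((Subgroup.mem_normalizer_iff.1 hh x).1 hx') (P.inv_mem hx')
      have h2 : h * x * h⁻¹ * x⁻¹ ∈ N := by
        rw [← QuotientGroup.eq_one_iff, ← QuotientGroup.mk'_apply]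
        rw [Subgroup.mem_centralizer_iff] at hq
        have := hq (QuotientGroup.mk' N x) (Subgroup.mem_map_of_mem _ hx')
        simp only [map_mul, map_inv]
        rw [← this]; group
      have h3 : h * x * h⁻¹ * x⁻¹ ∈ P ⊓ N := ⟨h1, h2⟩
      rw [hPN, Subgroup.mem_bot] at h3
      calc x * h = (h * x * h⁻¹ * x⁻¹)⁻¹ * (h * x) := by group
        _ = h * x := by rw [h3]; group
    · rintro _ ⟨h, hh, rfl⟩
      rw [Subgroup.mem_centralizer_iff]
      rintro _ ⟨x, hx, rfl⟩
      rw [SetLike.mem_coe, Subgroup.mem_centralizer_iff] at hh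
      rw [← map_mul, ← map_mul, hh x hx]

end Cfsg.Agent.S3800
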