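import Mathlib
import Cfsg.Statements.S3802
import Cfsg.Agent.Helper3.Wielandt
import Cfsg.Agent.Helper4.MaxSolvable

set_option autoImplicit false
open Cfsg

namespace Cfsg.Agent.S3802

open scoped Pointwise
open Cfsg.Agent.Helper1 Cfsg.Agent.Helper3

/-- core-free case. -/
theorem corefree_case {G : Type*} [Group G] [Finite G] (M N : Subgroup G) (hM : IsCoatom M)
    (hcore : Subgroup.normalCore M = ⊥) (hN : N.IsSubnormal) (hNM : N ≤ M) : N = ⊥ := by
  have hnt : Nontrivial G := by
    by_contra h
    rw [not_nontrivial_iff_subsingleton] at h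
    apply hM.1
    rw [eq_top_iff]
    intro x _
    rw [Subsingleton.elim x 1]; exact M.one_mem
  obtain ⟨A, hAn, hA1, hAmin⟩ := Helper4.exists_minimal_normal (G := G)
  have hA : IsMinNormal A := ⟨hAn, hA1, hAmin⟩
  have hAM : ¬ A ≤ M := by
    intro h
    have : A ≤ Subgroup.normalCore M := (Subgroup.normal_le_normalCore).2 h
    rw [hcore, le_bot_iff] at this
    exact hA1 this
  have hsup : A ⊔ M = ⊤ := by
    apply hM.2
    apply lt_of_le_of_ne le_sup_right
    intro h
    apply hAM
    rw [h]; exact le_sup_left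
  have hNG : Subgroup.normalClosure (N : Set G) ≤ M := by
    rw [Subgroup.normalClosure, Subgroup.closure_le]
    intro y hy
    rw [Group.mem_conjugatesOfSet_iff] at hy
    obtain ⟨x, hx, hxy⟩ := hy
    obtain ⟨g, hg⟩ := isConj_iff.1 hxy
    have hgtop : g ∈ A ⊔ M := by rw [hsup]; exact Subgroup.mem_top g
    rw [← SetLike.mem_coe, Subgroup.normal_mul, Set.mem_mul] at hgtop
    obtain ⟨a, ha, m, hm, rfl⟩ := hgtop
    set Nm := MulAut.conj m • N with hNm
    have hNmsub : Nm.IsSubnormal := hN.smul (MulAut.conj m)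
    have hNmM : Nm ≤ M := by
      intro z hz
      rw [hNm, Subgroup.mem_pointwise_smul_iff_inv_smul_mem, MulAut.smul_def,
        MulAut.conj_inv_apply] at hz
      have : z = m * (m⁻¹ * z * m) * m⁻¹ := by group
      rw [this]
      exact M.mul_mem (M.mul_mem hm (hNM hz)) (M.inv_mem hm)
    have hmx : m * x * m⁻¹ ∈ Nm := by
      rw [hNm, Subgroup.mem_pointwise_smul_iff_inv_smul_mem, MulAut.smul_def,
        MulAut.conj_inv_apply]
      have : m⁻¹ * (m * x * m⁻¹) * m = x := by group
      rw [this]; exact hx
    have haN := hA.le_normalizer_of_isSubnormal hNmsub ha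
    have := (Subgroup.mem_normalizer_iff.1 haN (m * x * m⁻¹)).1 hmx
    rw [SetLike.mem_coe, ← hg]
    have e : a * m * x * (a * m)⁻¹ = a * (m * x * m⁻¹) * a⁻¹ := by group
    rw [e]
    exact hNmM this
  have h2 : Subgroup.normalClosure (N : Set G) ≤ Subgroup.normalCore M :=
    (Subgroup.normal_le_normalCore).2 hNG
  rw [hcore, le_bot_iff] at h2
  rw [eq_bot_iff, ← h2]
  exact Subgroup.le_normalClosure

theorem quotient_step {G : Type*} [Group G] [Finite G] (C M N : Subgroup G) [C.Normal]
    (hCM : C ≤ M) (hCcore : ∀ x : G, (∀ g : G, g * x * g⁻¹ ∈ M) → x ∈ C)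
    (hM : IsCoatom M) (hN : N.IsSubnormal) (hNM : N ≤ M) : N ≤ C := by
  have hker : (QuotientGroup.mk' C).ker ≤ M := by rw [QuotientGroup.ker_mk']; exact hCM
  have hsurj : Function.Surjective (QuotientGroup.mk' C) := QuotientGroup.mk'_surjective C
  have hcm : (M.map (QuotientGroup.mk' C)).comap (QuotientGroup.mk' C) = M :=
    Subgroup.comap_map_eq_self hker
  have hcoatom : IsCoatom (M.map (QuotientGroup.mk' C)) := by
    refine ⟨?_, ?_⟩
    · intro h
      apply hM.1
      rw [← hcm, h, Subgroup.comap_top]
    · intro L hL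
      have h1 : M < L.comap (QuotientGroup.mk' C) := by
        rw [← hcm]
        apply lt_of_le_of_ne (Subgroup.comap_mono hL.le)
        intro h
        apply hL.ne
        rw [← Subgroup.map_comap_eq_self_of_surjective hsurj L, ← h,
          Subgroup.map_comap_eq_self_of_surjective hsurj]
      have h2 := hM.2 _ h1
      rw [← Subgroup.map_comap_eq_self_of_surjective hsurj L, h2,
        Subgroup.map_top_of_surjective _ hsurj]
  have hcore : Subgroup.normalCore (M.map (QuotientGroup.mk' C)) = ⊥ := by
    rw [eq_bot_iff]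
    intro y hy
    obtain ⟨x, rfl⟩ := hsurj y
    rw [Subgroup.mem_bot, QuotientGroup.mk'_apply, QuotientGroup.eq_one_iff]
    apply hCcore
    intro g
    have := hy (QuotientGroup.mk' C g)
    rw [← map_mul, ← map_inv, ← map_mul, ← Subgroup.mem_comap, hcm] at this
    exact this
  have hbot := corefree_case (M.map (QuotientGroup.mk' C)) (N.map (QuotientGroup.mk' C)) hcoatom
    hcore (hN.map hsurj) (Subgroup.map_mono hNM)
  intro x hx
  have : QuotientGroup.mk' C x ∈ N.map (QuotientGroup.mk' C) := Subgroup.mem_map_of_mem _ hx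
  rw [hbot, Subgroup.mem_bot, QuotientGroup.mk'_apply, QuotientGroup.eq_one_iff] at this
  exact this

/-- Let G be a finite group, M a maximal subgroup of G and N a subnormal subgroup of G contained in M. Then N is contained in every conjugate of M, that is, N lies in the core of M in G. -/
theorem result {G : Type*} [Group G] [Finite G] (M N : Subgroup G) (hM : IsCoatom M) (hN : N.IsSubnormal) (hNM : N ≤ M) :
    N ≤ Subgroup.normalCore M :=
  quotient_step (Subgroup.normalCore M) M N (Subgroup.normalCore_le M) (fun _ hx => hx) hM hN hNM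

end Cfsg.Agent.S3802
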