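import Mathlib
import Cfsg.Statements.S3804
import Cfsg.Agent.Helper5.ProdCard
-- import your own Cfsg.Agent.* helpers here

set_option autoImplicit false
open Cfsg

namespace Cfsg.Agent.S3804
universe u
open scoped Pointwise
open Cfsg.Agent.Helper5

variable {X : Type u} [Group X]

/-- product-set bound -/
theorem card_mul_le [Finite X] (S T K : Subgroup X) (hS : S ≤ K) (hT : T ≤ K) :
    Nat.card S * Nat.card T ≤ Nat.card K * Nat.card ↥(S ⊓ T) ∧
    (Nat.card S * Nat.card T = Nat.card K * Nat.card ↥(S ⊓ T) →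
      ∀ k ∈ K, ∃ s ∈ S, ∃ t ∈ T, k = s * t) := by
  have h1 := card_mul_set_mul_card_inf S T
  have hsub : ((S : Set X) * (T : Set X) : Set X) ⊆ (K : Set X) := by
    rintro _ ⟨s, hs, t, ht, rfl⟩
    exact K.mul_mem (hS hs) (hT ht)
  have h2 : Nat.card ((S : Set X) * (T : Set X) : Set X) ≤ Nat.card K :=
    Nat.card_mono (Set.toFinite _) hsub
  refine ⟨?_, ?_⟩
  · rw [← h1]
    exact Nat.mul_le_mul_right _ h2
  · intro heq k hk
    rw [← h1] at heq
    have hpos : 0 < Nat.card ↥(S ⊓ T) := Nat.card_pos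
    have h3 : Nat.card ((S : Set X) * (T : Set X) : Set X) = Nat.card K :=
      Nat.eq_of_mul_eq_mul_right hpos heq
    have h4 : ((S : Set X) * (T : Set X) : Set X) = (K : Set X) := by
      apply Set.eq_of_subset_of_ncard_le hsub _ (Set.toFinite _)
      rw [← Nat.card_coe_set_eq, ← Nat.card_coe_set_eq, h3]
      rfl
    have h5 : k ∈ ((S : Set X) * (T : Set X) : Set X) := by rw [h4]; exact hk
    obtain ⟨s, hs, t, ht, rfl⟩ := h5
    exact ⟨s, hs, t, ht, rfl⟩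

theorem centralizer_sup_eq (H A B : Subgroup X) :
    H ⊓ Subgroup.centralizer ((A ⊔ B : Subgroup X) : Set X) =
      (H ⊓ Subgroup.centralizer (A : Set X)) ⊓ (H ⊓ Subgroup.centralizer (B : Set X)) := by
  apply le_antisymm
  · intro x hx
    refine Subgroup.mem_inf.2 ⟨Subgroup.mem_inf.2 ⟨hx.1, ?_⟩, Subgroup.mem_inf.2 ⟨hx.1, ?_⟩⟩
    · exact Subgroup.centralizer_le (show (A : Set X) ⊆ ((A ⊔ B : Subgroup X) : Set X) from
        fun y hy => (le_sup_left : A ≤ A ⊔ B) hy) hx.2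
    · exact Subgroup.centralizer_le (show (B : Set X) ⊆ ((A ⊔ B : Subgroup X) : Set X) from
        fun y hy => (le_sup_right : B ≤ A ⊔ B) hy) hx.2
  · intro x hx
    obtain ⟨⟨hxH, hxA⟩, ⟨-, hxB⟩⟩ := hx
    refine Subgroup.mem_inf.2 ⟨hxH, ?_⟩
    have hle : A ⊔ B ≤ Subgroup.centralizer ({x} : Set X) := by
      apply sup_le
      · intro y hy
        rw [Subgroup.mem_centralizer_singleton_iff]
        exact Subgroup.mem_centralizer_iff.1 hxA y hy
      · intro y hy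
        rw [Subgroup.mem_centralizer_singleton_iff]
        exact Subgroup.mem_centralizer_iff.1 hxB y hy
    rw [Subgroup.mem_centralizer_iff]
    intro y hy
    have := hle hy
    rw [Subgroup.mem_centralizer_singleton_iff] at this
    exact this

theorem real_aux {M x1 x2 y1 y2 u v : ℝ} (hM : 0 < M) (hx1 : 0 < x1) (hx2 : 0 < x2)
    (hu : 0 < u) (hv : 0 < v)
    (h1 : M * M = x1 * x2) (h2 : u * v = y1 * y2) (h3 : x1 ≤ y1) (h4 : x2 ≤ y2)
    (h5 : u ≤ M) (h6 : v ≤ M) : x1 = y1 ∧ x2 = y2 ∧ u = M ∧ v = M := by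
  have hy1 : 0 < y1 := lt_of_lt_of_le hx1 h3
  have e1 : x1 * x2 ≤ y1 * y2 := mul_le_mul h3 h4 hx2.le hy1.le
  have e2 : u * v ≤ M * M := mul_le_mul h5 h6 hv.le hM.le
  have e3 : y1 * y2 = x1 * x2 := le_antisymm (by rw [← h2, ← h1]; exact e2) e1
  have e4 : u * v = M * M := by rw [h2, e3, h1]
  have hx2' : x2 = y2 := by
    by_contra hne
    have hlt : x2 < y2 := lt_of_le_of_ne h4 hne
    have : x1 * x2 < y1 * y2 := by
      calc x1 * x2 < x1 * y2 := mul_lt_mul_of_pos_left hlt hx1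
        _ ≤ y1 * y2 := mul_le_mul_of_nonneg_right h3 (lt_of_lt_of_le hx2 h4).le
    linarith
  have hx1' : x1 = y1 := by
    by_contra hne
    have hlt : x1 < y1 := lt_of_le_of_ne h3 hne
    have : x1 * x2 < y1 * y2 := by
      calc x1 * x2 < y1 * x2 := mul_lt_mul_of_pos_right hlt hx2
        _ ≤ y1 * y2 := mul_le_mul_of_nonneg_left h4 hy1.le
    linarith
  have hu' : u = M := by
    by_contra hne
    have hlt : u < M := lt_of_le_of_ne h5 hne
    have : u * v < M * M := by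
      calc u * v < M * v := mul_lt_mul_of_pos_right hlt hv
        _ ≤ M * M := mul_le_mul_of_nonneg_left h6 hM.le
    linarith
  have hv' : v = M := by
    by_contra hne
    have hlt : v < M := lt_of_le_of_ne h6 hne
    have : u * v < M * M := by
      calc u * v < u * M := mul_lt_mul_of_pos_left hlt hu
        _ ≤ M * M := mul_le_mul_of_nonneg_right h5 hM.le
    linarith
  exact ⟨hx1', hx2', hu', hv'⟩

/-- Let G and H be subgroups of a finite group with G normalizing H, fix a real number α > 0, and for a subgroup A of G put m(A) = |A|^α · |C_H(A)|. Let A and B be nontrivial subgroups of G at which m attains its maximum over all nontrivial subgroups of G, and assume that A ∩ B ≠ 1 or that this maximum is at least |H|. Then AB = BA is a subgroup at which m is again maximal, C_H(A ∩ B) = C_H(A) C_H(B), and if A ∩ B ≠ 1 then m is maximal at A ∩ B as well. -/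
theorem result {X : Type*} [Group X] [Finite X] (G H : Subgroup X) (hGH : G ≤ Subgroup.normalizer (H : Set X)) (α : ℝ) (hα : 0 < α)
    (A B : Subgroup X) (hA : A ≤ G) (hB : B ≤ G) (hA1 : A ≠ ⊥) (hB1 : B ≠ ⊥)
    (hAmax : ∀ A' : Subgroup X, A' ≤ G → A' ≠ ⊥ → (fun A : Subgroup X => ((Nat.card A : ℝ) ^ α) * (Nat.card ↥(H ⊓ Subgroup.centralizer (A : Set X)) : ℝ)) A' ≤ (fun A : Subgroup X => ((Nat.card A : ℝ) ^ α) * (Nat.card ↥(H ⊓ Subgroup.centralizer (A : Set X)) : ℝ)) A)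
    (hBmax : ∀ A' : Subgroup X, A' ≤ G → A' ≠ ⊥ → (fun A : Subgroup X => ((Nat.card A : ℝ) ^ α) * (Nat.card ↥(H ⊓ Subgroup.centralizer (A : Set X)) : ℝ)) A' ≤ (fun A : Subgroup X => ((Nat.card A : ℝ) ^ α) * (Nat.card ↥(H ⊓ Subgroup.centralizer (A : Set X)) : ℝ)) B)
    (hcase : A ⊓ B ≠ ⊥ ∨ (Nat.card H : ℝ) ≤ (fun A : Subgroup X => ((Nat.card A : ℝ) ^ α) * (Nat.card ↥(H ⊓ Subgroup.centralizer (A : Set X)) : ℝ)) A) :
    (∀ a ∈ A, ∀ b ∈ B, ∃ b' ∈ B, ∃ a' ∈ A, a * b = b' * a') ∧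
    (∀ A' : Subgroup X, A' ≤ G → A' ≠ ⊥ → (fun A : Subgroup X => ((Nat.card A : ℝ) ^ α) * (Nat.card ↥(H ⊓ Subgroup.centralizer (A : Set X)) : ℝ)) A' ≤ (fun A : Subgroup X => ((Nat.card A : ℝ) ^ α) * (Nat.card ↥(H ⊓ Subgroup.centralizer (A : Set X)) : ℝ)) (A ⊔ B)) ∧
    (∀ h ∈ H ⊓ Subgroup.centralizer ((A ⊓ B : Subgroup X) : Set X), ∃ u ∈ H ⊓ Subgroup.centralizer (A : Set X), ∃ v ∈ H ⊓ Subgroup.centralizer (B : Set X), h = u * v) ∧
    (A ⊓ B ≠ ⊥ → ∀ A' : Subgroup X, A' ≤ G → A' ≠ ⊥ → (fun A : Subgroup X => ((Nat.card A : ℝ) ^ α) * (Nat.card ↥(H ⊓ Subgroup.centralizer (A : Set X)) : ℝ)) A' ≤ (fun A : Subgroup X => ((Nat.card A : ℝ) ^ α) * (Nat.card ↥(H ⊓ Subgroup.centralizer (A : Set X)) : ℝ)) (A ⊓ B)) := by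
  have hAmax' : ∀ A' : Subgroup X, A' ≤ G → A' ≠ ⊥ →
      ((Nat.card A' : ℝ) ^ α) * (Nat.card ↥(H ⊓ Subgroup.centralizer (A' : Set X)) : ℝ) ≤
      ((Nat.card A : ℝ) ^ α) * (Nat.card ↥(H ⊓ Subgroup.centralizer (A : Set X)) : ℝ) := hAmax
  have hBmax' : ∀ A' : Subgroup X, A' ≤ G → A' ≠ ⊥ →
      ((Nat.card A' : ℝ) ^ α) * (Nat.card ↥(H ⊓ Subgroup.centralizer (A' : Set X)) : ℝ) ≤
      ((Nat.card B : ℝ) ^ α) * (Nat.card ↥(H ⊓ Subgroup.centralizer (B : Set X)) : ℝ) := hBmax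
  have hcase' : A ⊓ B ≠ ⊥ ∨ (Nat.card H : ℝ) ≤
      ((Nat.card A : ℝ) ^ α) * (Nat.card ↥(H ⊓ Subgroup.centralizer (A : Set X)) : ℝ) := hcase
  clear hAmax hBmax hcase
  set J := A ⊔ B with hJ
  set D := A ⊓ B with hD
  have hJG : J ≤ G := sup_le hA hB
  have hJ1 : J ≠ ⊥ := by
    intro h; apply hA1; rw [eq_bot_iff, ← h]; exact le_sup_left
  have hCJ := centralizer_sup_eq H A B
  -- natural number inequalities
  obtain ⟨hn1, hn1'⟩ := card_mul_le A B J le_sup_left le_sup_right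
  have hCAD : H ⊓ Subgroup.centralizer (A : Set X) ≤ H ⊓ Subgroup.centralizer (D : Set X) :=
    inf_le_inf_left _ (Subgroup.centralizer_le (fun y hy => (inf_le_left : A ⊓ B ≤ A) hy))
  have hCBD : H ⊓ Subgroup.centralizer (B : Set X) ≤ H ⊓ Subgroup.centralizer (D : Set X) :=
    inf_le_inf_left _ (Subgroup.centralizer_le (fun y hy => (inf_le_right : A ⊓ B ≤ B) hy))
  obtain ⟨hn2, hn2'⟩ := card_mul_le (H ⊓ Subgroup.centralizer (A : Set X))
    (H ⊓ Subgroup.centralizer (B : Set X)) (H ⊓ Subgroup.centralizer (D : Set X)) hCAD hCBD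
  rw [← hCJ] at hn2 hn2'
  -- real numbers
  set a : ℝ := (Nat.card A : ℝ) with ha
  set b : ℝ := (Nat.card B : ℝ) with hb
  set j : ℝ := (Nat.card J : ℝ) with hj
  set d : ℝ := (Nat.card D : ℝ) with hd
  set cA : ℝ := (Nat.card ↥(H ⊓ Subgroup.centralizer (A : Set X)) : ℝ) with hcA
  set cB : ℝ := (Nat.card ↥(H ⊓ Subgroup.centralizer (B : Set X)) : ℝ) with hcB
  set cJ : ℝ := (Nat.card ↥(H ⊓ Subgroup.centralizer (J : Set X)) : ℝ) with hcJ
  set cD : ℝ := (Nat.card ↥(H ⊓ Subgroup.centralizer (D : Set X)) : ℝ) with hcD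
  have hapos : 0 < a := by rw [ha]; exact_mod_cast Nat.card_pos
  have hbpos : 0 < b := by rw [hb]; exact_mod_cast Nat.card_pos
  have hjpos : 0 < j := by rw [hj]; exact_mod_cast Nat.card_pos
  have hdpos : 0 < d := by rw [hd]; exact_mod_cast Nat.card_pos
  have hcApos : 0 < cA := by rw [hcA]; exact_mod_cast Nat.card_pos
  have hcBpos : 0 < cB := by rw [hcB]; exact_mod_cast Nat.card_pos
  have hcJpos : 0 < cJ := by rw [hcJ]; exact_mod_cast Nat.card_pos
  have hcDpos : 0 < cD := by rw [hcD]; exact_mod_cast Nat.card_pos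
  have hr1 : a * b ≤ j * d := by
    rw [ha, hb, hj, hd]; exact_mod_cast hn1
  have hr2 : cA * cB ≤ cD * cJ := by
    rw [hcA, hcB, hcD, hcJ]; exact_mod_cast hn2
  -- maxima
  have hMB : b ^ α * cB = a ^ α * cA :=
    le_antisymm (hAmax' B hB hB1) (hBmax' A hA hA1)
  have hJle : j ^ α * cJ ≤ a ^ α * cA := hAmax' J hJG hJ1
  have hDle : d ^ α * cD ≤ a ^ α * cA := by
    by_cases hD1 : D = ⊥
    · rcases hcase' with h | h
      · exact absurd hD1 h
      · have h1 : d = 1 := by rw [hd, hD1, Subgroup.card_bot]; norm_num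
        have h2 : H ⊓ Subgroup.centralizer (D : Set X) = H := by
          apply inf_eq_left.2
          intro x _
          rw [Subgroup.mem_centralizer_iff]
          intro y hy
          have : y = 1 := by
            have : y ∈ (⊥ : Subgroup X) := hD1 ▸ hy
            exact Subgroup.mem_bot.1 this
          rw [this, one_mul, mul_one]
        rw [h1, Real.one_rpow, one_mul, hcD, h2]
        exact h
    · exact hAmax' D (inf_le_left.trans hA) hD1
  set M := a ^ α * cA with hM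
  have hMpos : 0 < M := mul_pos (Real.rpow_pos_of_pos hapos α) hcApos
  have e1 : M * M = (a * b) ^ α * (cA * cB) := by
    rw [Real.mul_rpow hapos.le hbpos.le]
    calc M * M = (a ^ α * cA) * (b ^ α * cB) := by rw [hMB]
      _ = a ^ α * b ^ α * (cA * cB) := by ring
  have e2 : (j ^ α * cJ) * (d ^ α * cD) = (j * d) ^ α * (cD * cJ) := by
    rw [Real.mul_rpow hjpos.le hdpos.le]; ring
  have e3 : (a * b) ^ α ≤ (j * d) ^ α :=
    Real.rpow_le_rpow (mul_pos hapos hbpos).le hr1 hα.le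
  obtain ⟨E1, E2, E3, E4⟩ := real_aux hMpos (Real.rpow_pos_of_pos (mul_pos hapos hbpos) α)
    (mul_pos hcApos hcBpos) (mul_pos (Real.rpow_pos_of_pos hjpos α) hcJpos)
    (mul_pos (Real.rpow_pos_of_pos hdpos α) hcDpos) e1 e2 e3 hr2 hJle hDle
  -- back to naturals
  have hab : a * b = j * d := by
    by_contra hne
    have hlt : a * b < j * d := lt_of_le_of_ne hr1 hne
    have := Real.rpow_lt_rpow (mul_pos hapos hbpos).le hlt hα
    linarith
  have hN1 : Nat.card A * Nat.card B = Nat.card J * Nat.card ↥(A ⊓ B) := by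
    rw [ha, hb, hj, hd] at hab; exact_mod_cast hab
  have hN2 : Nat.card ↥(H ⊓ Subgroup.centralizer (A : Set X)) *
      Nat.card ↥(H ⊓ Subgroup.centralizer (B : Set X)) =
      Nat.card ↥(H ⊓ Subgroup.centralizer (D : Set X)) *
      Nat.card ↥(H ⊓ Subgroup.centralizer (J : Set X)) := by
    rw [hcA, hcB, hcD, hcJ] at E2; exact_mod_cast E2
  refine ⟨?_, ?_, ?_, ?_⟩
  · intro x hx y hy
    have hmem : (x * y)⁻¹ ∈ J :=
      J.inv_mem (J.mul_mem ((le_sup_left : A ≤ J) hx) ((le_sup_right : B ≤ J) hy))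
    obtain ⟨s, hs, t, ht, hst⟩ := hn1' hN1 _ hmem
    refine ⟨t⁻¹, B.inv_mem ht, s⁻¹, A.inv_mem hs, ?_⟩
    have : x * y = (s * t)⁻¹ := by rw [← hst, inv_inv]
    rw [this]; group
  · intro A' hA' hA'1
    show ((Nat.card A' : ℝ) ^ α) * (Nat.card ↥(H ⊓ Subgroup.centralizer (A' : Set X)) : ℝ) ≤
      j ^ α * cJ
    rw [E3]
    exact hAmax' A' hA' hA'1
  · intro h hh
    exact hn2' hN2 h hh
  · intro _ A' hA' hA'1
    show ((Nat.card A' : ℝ) ^ α) * (Nat.card ↥(H ⊓ Subgroup.centralizer (A' : Set X)) : ℝ) ≤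
      d ^ α * cD
    rw [E4]
    exact hAmax' A' hA' hA'1


end Cfsg.Agent.S3804
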