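import Mathlib
import Cfsg.Statements.S3807
import Cfsg.Agent.Helper3.AbIndexP
import Cfsg.Statements.S3807
-- import your own Cfsg.Agent.* helpers here

set_option autoImplicit false
open Cfsg

namespace Cfsg.Agent.S3807
open Cfsg
universe u
open Cfsg.Agent.Helper3.AbIndexP
open scoped commutatorElement

section lemmas

variable {S : Type u} [Group S] [Finite S] {p : ℕ} [hp : Fact p.Prime]

theorem eq_of_le_of_index_eq' {H K : Subgroup S} (hle : H ≤ K) (h : H.index = K.index) : H = K := by
  have h1 : H.relIndex K * K.index = H.index := Subgroup.relIndex_mul_index hle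
  have h0 : K.index ≠ 0 := Subgroup.index_ne_zero_of_finite
  have h2 : H.relIndex K = 1 := by
    have : H.relIndex K * K.index = 1 * K.index := by rw [h1, one_mul, h]
    exact Nat.eq_of_mul_eq_mul_right (Nat.pos_of_ne_zero h0) this
  exact le_antisymm hle (Subgroup.relIndex_eq_one.1 h2)

omit [Finite S] in
theorem comm_of_top (h : IsMulCommutative ↥(⊤ : Subgroup S)) : IsMulCommutative S :=
  ⟨⟨fun a b => setLike_mul_comm (s := (⊤ : Subgroup S)) (Subgroup.mem_top a) (Subgroup.mem_top b)⟩⟩

omit [Finite S] in
theorem sup_index (hna : ¬ IsMulCommutative S) (hZ : (Subgroup.center S).index = p ^ 2) {g : S}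
    (hg : g ∉ Subgroup.center S) :
    IsMulCommutative ↥(Subgroup.center S ⊔ Subgroup.zpowers g) ∧
      (Subgroup.center S ⊔ Subgroup.zpowers g).index = p := by
  have hcomm : IsMulCommutative ↥(Subgroup.center S ⊔ Subgroup.zpowers g) :=
    isMulCommutative_sup_zpowers inferInstance
      (fun a ha => (Subgroup.mem_center_iff.1 ha g).symm)
  refine ⟨hcomm, ?_⟩
  have hle : Subgroup.center S ≤ Subgroup.center S ⊔ Subgroup.zpowers g := le_sup_left
  have h1 := Subgroup.relIndex_mul_index hle
  rw [hZ] at h1
  have hdvd : (Subgroup.center S ⊔ Subgroup.zpowers g).index ∣ p ^ 2 := Dvd.intro_left _ h1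
  obtain ⟨k, hk, hBk⟩ := (Nat.dvd_prime_pow hp.out).1 hdvd
  interval_cases k
  · exfalso
    rw [pow_zero, Subgroup.index_eq_one] at hBk
    apply hna
    rw [hBk] at hcomm
    exact comm_of_top hcomm
  · rw [hBk, pow_one]
  · exfalso
    rw [hBk] at h1
    have h2 : (Subgroup.center S).relIndex (Subgroup.center S ⊔ Subgroup.zpowers g) = 1 := by
      have : (Subgroup.center S).relIndex (Subgroup.center S ⊔ Subgroup.zpowers g) * p ^ 2
          = 1 * p ^ 2 := by rw [h1, one_mul]
      exact Nat.eq_of_mul_eq_mul_right (pow_pos hp.out.pos 2) this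
    exact hg (Subgroup.relIndex_eq_one.1 h2
      ((le_sup_right : Subgroup.zpowers g ≤ _) (Subgroup.mem_zpowers g)))

theorem card_compl (H : Subgroup S) : Nat.card {g : S // g ∉ H} = Nat.card S - Nat.card H := by
  classical
  let _ : Fintype S := Fintype.ofFinite S
  rw [Nat.card_eq_fintype_card, Nat.card_eq_fintype_card, Nat.card_eq_fintype_card]
  exact Fintype.card_subtype_compl (fun g => g ∈ H)

theorem count (hna : ¬ IsMulCommutative S) (hZ : (Subgroup.center S).index = p ^ 2) :
    Nat.card {B : Subgroup S // IsMulCommutative ↥B ∧ B.index = p} = p + 1 := by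
  classical
  let f : {g : S // g ∉ Subgroup.center S} → {B : Subgroup S // IsMulCommutative ↥B ∧ B.index = p} :=
    fun g => ⟨Subgroup.center S ⊔ Subgroup.zpowers g.1, sup_index hna hZ g.2⟩
  set n := Nat.card (Subgroup.center S) with hn
  have hn0 : 0 < n := Nat.card_pos
  have hScard : Nat.card S = p ^ 2 * n := by
    rw [← hZ, mul_comm]; exact (Subgroup.card_mul_index (Subgroup.center S)).symm
  have hBcard : ∀ B : {B : Subgroup S // IsMulCommutative ↥B ∧ B.index = p},
      Nat.card B.1 = p * n := by
    intro B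
    have h1 := Subgroup.card_mul_index B.1
    rw [B.2.2, hScard] at h1
    have h2 : Nat.card B.1 * p = (p * n) * p := by rw [h1]; ring
    exact Nat.eq_of_mul_eq_mul_right hp.out.pos h2
  have hY : Nat.card {g : S // g ∉ Subgroup.center S} = p ^ 2 * n - n := by
    rw [card_compl, hScard]
  have hfib : ∀ B : {B : Subgroup S // IsMulCommutative ↥B ∧ B.index = p},
      Nat.card {y : {g : S // g ∉ Subgroup.center S} // f y = B} = p * n - n := by
    intro B
    have hZB : Subgroup.center S ≤ B.1 := center_le hna B.2.1 (by rw [B.2.2]; exact hp.out)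
    have e : {y : {g : S // g ∉ Subgroup.center S} // f y = B} ≃
        {g : B.1 // g ∉ (Subgroup.center S).subgroupOf B.1} :=
      { toFun := fun y => ⟨⟨y.1.1, by
            have h1 : Subgroup.center S ⊔ Subgroup.zpowers y.1.1 = B.1 := congrArg Subtype.val y.2
            rw [← h1]
            exact (le_sup_right : Subgroup.zpowers y.1.1 ≤ _) (Subgroup.mem_zpowers _)⟩,
            fun h => y.1.2 (Subgroup.mem_subgroupOf.1 h)⟩
        invFun := fun g => ⟨⟨g.1.1, fun h => g.2 (Subgroup.mem_subgroupOf.2 h)⟩, by
            apply Subtype.ext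
            show Subgroup.center S ⊔ Subgroup.zpowers g.1.1 = B.1
            apply eq_of_le_of_index_eq'
            · exact sup_le hZB ((Subgroup.zpowers_le).2 g.1.2)
            · rw [B.2.2]
              exact (sup_index hna hZ (fun h => g.2 (Subgroup.mem_subgroupOf.2 h))).2⟩
        left_inv := fun y => Subtype.ext (Subtype.ext rfl)
        right_inv := fun g => Subtype.ext (Subtype.ext rfl) }
    rw [Nat.card_congr e, card_compl, hBcard B,
      Nat.card_congr (Subgroup.subgroupOfEquivOfLe hZB).toEquiv]
  have h1 : Nat.card {g : S // g ∉ Subgroup.center S}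
      = Nat.card {B : Subgroup S // IsMulCommutative ↥B ∧ B.index = p} * (p * n - n) := by
    rw [← Nat.card_congr (Equiv.sigmaFiberEquiv f)]
    let _ : Fintype {B : Subgroup S // IsMulCommutative ↥B ∧ B.index = p} := Fintype.ofFinite _
    rw [Nat.card_sigma]
    simp only [hfib]
    rw [Finset.sum_const, smul_eq_mul, Finset.card_univ, Nat.card_eq_fintype_card]
  rw [hY] at h1
  obtain ⟨q, hq⟩ := Nat.exists_eq_succ_of_ne_zero hp.out.ne_zero
  have hq0 : 0 < q := by
    have := hp.out.two_le
    omega
  have e1 : p * n - n = q * n := by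
    rw [hq, Nat.succ_eq_add_one]; apply Nat.sub_eq_of_eq_add; ring
  have e2 : p ^ 2 * n - n = (q + 2) * (q * n) := by
    rw [hq, Nat.succ_eq_add_one]; apply Nat.sub_eq_of_eq_add; ring
  rw [e1, e2] at h1
  have h2 := Nat.eq_of_mul_eq_mul_right (Nat.mul_pos hq0 hn0) h1
  rw [← h2, hq]

end lemmas

/-- Let S be a non-abelian finite p-group with an abelian subgroup A of index p. Then [S : Z(S)] = p·#[S,S], and either [S,S] has order p, S/Z(S) is elementary abelian of order p², and S has exactly p + 1 abelian subgroups of index p; or [S,S] has order at least p² and A is the only abelian subgroup of index p in S. -/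
theorem result {S : Type*} [Group S] [Finite S] (p : ℕ) [Fact p.Prime] (hS : IsPGroup p S) (hna : ¬ IsMulCommutative S)
    (A : Subgroup S) (hA : IsMulCommutative ↥A) (hAi : A.index = p) :
    (Subgroup.center S).index = p * Nat.card (commutator S) ∧
      ((Nat.card (commutator S) = p ∧ Cfsg.IsElementaryAbelian p (⊤ : Subgroup (S ⧸ Subgroup.center S)) ∧
          Nat.card (S ⧸ Subgroup.center S) = p ^ 2 ∧
          Nat.card {B : Subgroup S // IsMulCommutative ↥B ∧ B.index = p} = p + 1) ∨
        (p ^ 2 ≤ Nat.card (commutator S) ∧ ∀ B : Subgroup S, IsMulCommutative ↥B → B.index = p → B = A)) := by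
  have hp : Fact p.Prime := inferInstance
  have hidx := index_center hS hna hA hAi
  refine ⟨hidx, ?_⟩
  obtain ⟨n, hn⟩ := IsPGroup.iff_card.1 (hS.to_subgroup (commutator S))
  have hn0 : n ≠ 0 := by
    rintro rfl
    rw [pow_zero, Subgroup.card_eq_one] at hn
    apply hna
    refine ⟨⟨fun a b => ?_⟩⟩
    rw [← commutatorElement_eq_one_iff_mul_comm]
    have h1 : ⁅a, b⁆ ∈ commutator S := by
      rw [commutator_def]
      exact Subgroup.commutator_mem_commutator (Subgroup.mem_top a) (Subgroup.mem_top b)
    rw [hn] at h1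
    exact Subgroup.mem_bot.1 h1
  by_cases h1 : n = 1
  · left
    subst h1
    rw [pow_one] at hn
    have hZ : (Subgroup.center S).index = p ^ 2 := by rw [hidx, hn, sq]
    have hQ : Nat.card (S ⧸ Subgroup.center S) = p ^ 2 := by
      rw [← Subgroup.index_eq_card]; exact hZ
    refine ⟨hn, ⟨?_, ?_⟩, hQ, count hna hZ⟩
    · have := IsPGroup.isMulCommutative_of_card_eq_prime_sq hQ
      exact ⟨⟨fun a b => Subtype.ext (this.is_comm.comm a.1 b.1)⟩⟩
    · intro q _
      have hd : orderOf q ∣ p ^ 2 := hQ ▸ orderOf_dvd_natCard q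
      obtain ⟨k, hk, hqk⟩ := (Nat.dvd_prime_pow hp.out).1 hd
      have hk2 : k ≠ 2 := by
        rintro rfl
        have hcyc : IsCyclic (S ⧸ Subgroup.center S) :=
          isCyclic_of_orderOf_eq_card q (hqk.trans hQ.symm)
        apply hna
        exact MonoidHom.isMulCommutative_of_isCyclic_of_ker_le_center
          (QuotientGroup.mk' (Subgroup.center S)) (by rw [QuotientGroup.ker_mk'])
      have hk1 : k ≤ 1 := by omega
      rw [← orderOf_dvd_iff_pow_eq_one, hqk]
      exact (pow_dvd_pow p hk1).trans (by rw [pow_one])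
  · right
    have h2 : 2 ≤ n := by omega
    refine ⟨hn ▸ Nat.pow_le_pow_right hp.out.pos h2, ?_⟩
    intro B hB hBi
    by_contra hne
    have h3 := index_center_le hA hAi hB hBi hne
    rw [hidx, hn] at h3
    have h4 : p ^ (n + 1) ≤ p ^ 2 := by rw [pow_succ, mul_comm]; exact h3
    have h5 := (Nat.pow_le_pow_iff_right hp.out.one_lt).1 h4
    omega


end Cfsg.Agent.S3807
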