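import Mathlib
import Cfsg.Statements.S3809
import Cfsg.Prelude.Def_Transfer
import Cfsg.Agent.S0095
-- import your own Cfsg.Agent.* helpers here

set_option autoImplicit false
open Cfsg

namespace Cfsg.Agent.S3809
universe u
open scoped commutatorElement

/-- in an extraspecial group, `p`-th powers are central and central elements have order dividing `p`. -/
theorem pow_p_mem_center {Q : Type u} [Group Q] [Finite Q] (p : ℕ) [hp : Fact p.Prime]
    (hQ : Cfsg.IsExtraspecial p Q) (y : Q) : y ^ p ∈ Subgroup.center Q := by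
  obtain ⟨⟨hP, hfr, hcomm⟩, hcard⟩ := hQ
  have hc : commutator Q ≤ Subgroup.center Q := hcomm.le
  rw [Subgroup.mem_center_iff]
  intro g
  have h1 : Cfsg.Agent.S0095.cHom hc g (y ^ p) = 1 := by
    rw [map_pow]
    have : Nat.card (commutator Q) = p := by rw [hcomm, hcard]
    rw [← this]
    exact pow_card_eq_one'
  exact (Cfsg.Agent.S0095.cHom_eq_one_iff hc g (y ^ p)).1 h1

theorem pow_p_sq {Q : Type u} [Group Q] [Finite Q] (p : ℕ) [hp : Fact p.Prime]
    (hQ : Cfsg.IsExtraspecial p Q) (y : Q) : (y ^ p) ^ p = 1 := by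
  have h1 := pow_p_mem_center p hQ y
  have h2 : ∀ c : Subgroup.center Q, c ^ p = 1 := by
    intro c
    have h3 : c ^ Nat.card (Subgroup.center Q) = 1 := pow_card_eq_one'
    rwa [hQ.2] at h3
  exact congrArg Subtype.val (h2 ⟨y ^ p, h1⟩)

/-- Let S be a finite p-group with an extraspecial subgroup of index p. Then S has order p^(2+2n) for some n ≥ 1, derived length at most 3, and exponent dividing p³. -/
theorem result {S : Type*} [Group S] [Finite S] (p : ℕ) [Fact p.Prime] (hS : IsPGroup p S) (Q : Subgroup S) (hQ : Cfsg.IsExtraspecial p ↥Q) (hQi : Q.index = p) :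
    (∃ n : ℕ, 1 ≤ n ∧ Nat.card S = p ^ (2 + 2 * n)) ∧ derivedSeries S 3 = ⊥ ∧ ∀ x : S, x ^ (p ^ 3) = 1 := by
  have hp : p.Prime := Fact.out
  obtain ⟨n, hn1, hn⟩ := Cfsg.Agent.S0095.result hQ
  have hcardS : Nat.card S = p ^ (2 + 2 * n) := by
    rw [← Q.card_mul_index, hQi, hn]; ring
  have hQn : Q.Normal := by
    apply Subgroup.normal_of_index_eq_minFac_card
    rw [hQi, hcardS, Nat.Prime.pow_minFac hp (by omega)]
  have hcardq : Nat.card (S ⧸ Q) = p := by rw [← Subgroup.index_eq_card]; exact hQi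
  have hpowQ : ∀ x : S, x ^ p ∈ Q := by
    intro x
    rw [← QuotientGroup.eq_one_iff, QuotientGroup.mk_pow, ← hcardq]
    exact pow_card_eq_one'
  refine ⟨⟨n, hn1, hcardS⟩, ?_, ?_⟩
  · -- derived length
    have hcyc : IsCyclic (S ⧸ Q) := isCyclic_of_card_dvd_prime (p := p) (by rw [hcardq])
    let _ : CommGroup (S ⧸ Q) := IsCyclic.commGroup
    have h1 : derivedSeries S 1 ≤ Q := by
      have := Abelianization.commutator_subset_ker (QuotientGroup.mk' Q)
      rw [QuotientGroup.ker_mk'] at this
      rw [derivedSeries_one]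
      exact this
    have h2 : derivedSeries S 2 ≤ (Subgroup.center ↥Q).map Q.subtype := by
      rw [derivedSeries_succ]
      calc ⁅derivedSeries S 1, derivedSeries S 1⁆ ≤ ⁅Q, Q⁆ := Subgroup.commutator_mono h1 h1
        _ = (commutator ↥Q).map Q.subtype := by
          rw [commutator_def, Subgroup.map_commutator, ← MonoidHom.range_eq_map, Subgroup.range_subtype]
        _ = (Subgroup.center ↥Q).map Q.subtype := by rw [hQ.1.2.2]
    rw [derivedSeries_succ, eq_bot_iff]
    calc ⁅derivedSeries S 2, derivedSeries S 2⁆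
        ≤ ⁅(Subgroup.center ↥Q).map Q.subtype, (Subgroup.center ↥Q).map Q.subtype⁆ :=
          Subgroup.commutator_mono h2 h2
      _ = ⊥ := by
        rw [← Subgroup.map_commutator, Subgroup.commutator_eq_bot_iff_le_centralizer.2, Subgroup.map_bot]
        intro a ha
        rw [Subgroup.mem_centralizer_iff]
        intro b _
        exact (Subgroup.mem_center_iff.1 ha b)
  · intro x
    have h1 := pow_p_sq p hQ ⟨x ^ p, hpowQ x⟩
    have h2 : ((x ^ p) ^ p) ^ p = 1 := by
      have := congrArg (fun t : ↥Q => (t : S)) h1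
      simp only [Subgroup.coe_pow, Subgroup.coe_one] at this
      exact this
    rw [← h2, ← pow_mul, ← pow_mul]
    ring_nf

end Cfsg.Agent.S3809
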