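import Mathlib
import Cfsg.Statements.S3811
import Cfsg.Agent.Helper3.SoftC
-- import your own Cfsg.Agent.* helpers here

set_option autoImplicit false
open Cfsg

namespace Cfsg.Agent.S3811
open Cfsg Cfsg.Agent.Helper3.Soft

/-- Let P be a finite p-group and E an abelian subgroup of P that contains its centralizer, has index p in its normalizer, and has index at least p² in P. Then the subgroups of P containing E are totally ordered by inclusion, each proper one has index p in its normalizer (so they form the normalizer tower of E, with all steps of index p), and the i-th member of the tower above E has nilpotency class i + 1 whenever it is a proper subgroup of P. -/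
theorem result {P : Type*} [Group P] [Finite P] (p : ℕ) [Fact p.Prime] (hP : IsPGroup p P)
    (E : Subgroup P) (hEab : IsMulCommutative ↥E) (hC : Subgroup.centralizer (E : Set P) ≤ E)
    (hN : (E.subgroupOf (Subgroup.normalizer (E : Set P))).index = p) (hidx : p ^ 2 ≤ E.index) :
    (∀ K L : Subgroup P, E ≤ K → E ≤ L → K ≤ L ∨ L ≤ K) ∧
      (∀ K : Subgroup P, E ≤ K → K ≠ ⊤ → (K.subgroupOf (Subgroup.normalizer (K : Set P))).index = p) ∧
      ∀ (i : ℕ) (K : Subgroup P) [Group.IsNilpotent ↥K], E ≤ K → K ≠ ⊤ → K.index * p ^ i = E.index →
        Group.nilpotencyClass ↥K = i + 1 := by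
  have hsoft : IsSoft p E := by
    refine ⟨?_, hC, ?_⟩
    · intro a ha b hb
      have := hEab.is_comm.comm (⟨a, ha⟩ : E) ⟨b, hb⟩
      exact congrArg Subtype.val this
    · have h1 := Subgroup.card_mul_index (E.subgroupOf (Subgroup.normalizer (E : Set P)))
      rw [hN, card_subgroupOf_of_le Subgroup.le_normalizer] at h1
      rw [← h1, mul_comm]
  refine ⟨?_, ?_, ?_⟩
  · intro K L hK hL
    exact chain hP hsoft hK hL
  · intro K hK hKtop
    have h1 := ni hP hsoft hK hKtop
    have h2 := Subgroup.card_mul_index (K.subgroupOf (Subgroup.normalizer (K : Set P)))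
    rw [card_subgroupOf_of_le Subgroup.le_normalizer, h1, mul_comm] at h2
    have hpos : 0 < Nat.card K := Nat.card_pos
    exact Nat.eq_of_mul_eq_mul_right hpos h2
  · intro i K _ hK hKtop hidxK
    apply class_of_tower hP hsoft hK hKtop
    have h1 := Subgroup.card_mul_index K
    have h2 := Subgroup.card_mul_index E
    have hpos : 0 < K.index := Nat.pos_of_ne_zero Subgroup.index_ne_zero_of_finite
    apply Nat.eq_of_mul_eq_mul_right hpos
    calc Nat.card K * K.index = Nat.card P := h1
      _ = Nat.card E * E.index := h2.symm
      _ = Nat.card E * (K.index * p ^ i) := by rw [hidxK]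
      _ = p ^ i * Nat.card E * K.index := by ring


end Cfsg.Agent.S3811
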