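import Cfsg.Statements.S3815
import Mathlib

set_option autoImplicit false
open Cfsg

namespace Cfsg.Agent.S3815

/-- Let G be a finite group, p a prime and d ∈ G an element of order prime to p. If dg has order prime to p for every element g ∈ G of order prime to p, then d ∈ O_{p'}(G). -/
theorem result {G : Type*} [Group G] [Finite G] {p : ℕ} [Fact p.Prime]
    (d : G) (hd : (orderOf d).Coprime p)
    (h : ∀ g : G, (orderOf g).Coprime p → (orderOf (d * g)).Coprime p) :
    d ∈ Cfsg.pPrimeCore p G := by
  -- the submonoid of all elements with the property of `d`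
  let M : Submonoid G :=
    { carrier := {e | ∀ g : G, (orderOf g).Coprime p → (orderOf (e * g)).Coprime p}
      one_mem' := by
        intro g hg
        simpa using hg
      mul_mem' := by
        intro a b ha hb g hg
        rw [mul_assoc]
        exact ha _ (hb g hg) }
  have hMinv : ∀ a ∈ M, a⁻¹ ∈ M := by
    intro a ha
    have : a⁻¹ = a ^ (orderOf a - 1) := by
      rw [inv_eq_iff_mul_eq_one, ← pow_succ', Nat.sub_add_cancel (orderOf_pos a), pow_orderOf_eq_one]
    rw [this]
    exact M.pow_mem ha _
  let D : Subgroup G := { M with inv_mem' := fun {a} ha => hMinv a ha }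
  have hDmem : ∀ e : G, e ∈ D ↔ ∀ g : G, (orderOf g).Coprime p → (orderOf (e * g)).Coprime p :=
    fun e => Iff.rfl
  have hDnormal : D.Normal := by
    constructor
    intro e he c
    rw [hDmem] at he ⊢
    intro g hg
    have h1 : c * e * c⁻¹ * g = c * (e * (c⁻¹ * g * c)) * c⁻¹ := by group
    have h2 : orderOf (c⁻¹ * g * c) = orderOf g := by
      have := orderOf_injective (MulAut.conj c⁻¹).toMonoidHom (MulAut.conj c⁻¹).injective g
      simpa using this
    have h3 : orderOf (c * (e * (c⁻¹ * g * c)) * c⁻¹) = orderOf (e * (c⁻¹ * g * c)) := by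
      have := orderOf_injective (MulAut.conj c).toMonoidHom (MulAut.conj c).injective
        (e * (c⁻¹ * g * c))
      simpa using this
    rw [h1, h3]
    apply he
    rw [h2]; exact hg
  have hDcop : (Nat.card D).Coprime p := by
    rw [Nat.coprime_comm, Nat.Prime.coprime_iff_not_dvd (Fact.out : p.Prime)]
    intro hdvd
    obtain ⟨x, hx⟩ := exists_prime_orderOf_dvd_card' p hdvd
    have hx' : orderOf (x : G) = p := by rw [Subgroup.orderOf_coe]; exact hx
    have := (hDmem (x : G)).mp x.2 1 (by simp)
    rw [mul_one, hx', Nat.coprime_self] at this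
    exact (Fact.out : p.Prime).one_lt.ne' this
  have hDle : D ≤ Cfsg.pPrimeCore p G := le_sSup ⟨hDnormal, hDcop⟩
  exact hDle ((hDmem d).mpr h)

end Cfsg.Agent.S3815
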