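import Cfsg.Statements.S3816
import Cfsg.Agent.Flav.NonCentral
import Cfsg.Agent.Flav.Glue
import Cfsg.Agent.Flav.Central

set_option autoImplicit false
open Cfsg

namespace Cfsg.Agent.S3816

/-- Let p be an odd prime, H a finite solvable group of order prime to p, and x an automorphism of H of order p (so P = ⟨x⟩ has prime order p > 2 and acts coprimely on H). For h ∈ H let [h, P] be the subgroup generated by the commutators h⁻¹·xⁱ(h), and let [H, P] be the subgroup generated by all of these. Then the fixed points of x in [H, P] are generated by the fixed points of x in the subgroups [h, P], h ∈ H. -/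
theorem result {H : Type*} [Group H] [Finite H]
    [Group.IsSolvable H] {p : ℕ} [Fact p.Prime] (hp : p ≠ 2) (hcop : (Nat.card H).Coprime p)
    (x : MulAut H) (hx : orderOf x = p) :
    Subgroup.closure {c : H | ∃ h : H, ∃ i : ℕ, c = h⁻¹ * (x ^ i) h} ⊓ (x : H →* H).eqLocus (MonoidHom.id H) =
      ⨆ h : H, Subgroup.closure {c : H | ∃ i : ℕ, c = h⁻¹ * (x ^ i) h} ⊓ (x : H →* H).eqLocus (MonoidHom.id H) := by
  classical
  have hpp : p.Prime := Fact.out
  have hxp : x ^ p = 1 := by rw [← hx]; exact pow_orderOf_eq_one x
  have hfalse : ∀ {H : Type _} [Group H] (x : MulAut H), Flav.FlCtx H p x → False := by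
    intro H' _ x' c
    haveI := c.fin
    by_cases htriv : Nontrivial H'
    · by_cases hall : ∀ V : Subgroup H', Flav.flMin x' V → V ≤ Subgroup.center H'
      · exact Flav.fl_central c hall
      · push Not at hall
        obtain ⟨V, hV, hnc⟩ := hall
        exact Flav.fl_noncentral c V hV hnc
    · rw [not_nontrivial_iff_subsingleton] at htriv
      apply c.cex
      intro f _
      rw [Subsingleton.elim f 1]
      exact Subgroup.one_mem _
  have hmain := Flav.fl_induction hfalse hpp hp hcop x hxp
  rw [Flav.flC_top_eq]
  change Flav.flC x ⊤ ⊓ Flav.flFix x = Flav.flK x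
  apply le_antisymm hmain
  unfold Flav.flK
  apply iSup_le
  intro h
  exact inf_le_inf_right _ (Flav.flD_le_flC x (Subgroup.mem_top h))

end Cfsg.Agent.S3816
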