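import Cfsg.Statements.S3819
import Cfsg.Agent.Helper1.QCoreC
import Cfsg.Agent.Helper1.Coprime

set_option autoImplicit false
open Cfsg

namespace Cfsg.Agent.S3819

/-- Let G be a finite group with Sylow p-subgroup P and H = O_{p'}(G), and suppose G = PH and the commutator subgroup [H, P] is solvable. Let q be a prime and z an element of q-power order of C_H(P). Then (O_{q'}(C_H(z)) ∩ O_{q'}(C_H(P))) · [O_{q'}(C_H(z)), P] ≤ O_{q'}(H). -/
theorem result {G : Type*} [Group G] [Finite G] {p : ℕ} [Fact p.Prime]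
    (P : Sylow p G) (hPH : Cfsg.pPrimeCore p G ⊔ (P : Subgroup G) = ⊤)
    (hsol : Group.IsSolvable ↥⁅Cfsg.pPrimeCore p G, (P : Subgroup G)⁆)
    {q : ℕ} [Fact q.Prime] (z : G) (hzH : z ∈ Cfsg.pPrimeCore p G) (hzP : z ∈ Subgroup.centralizer ((P : Subgroup G) : Set G))
    (hz : ∃ k : ℕ, orderOf z = q ^ k) :
    ((Cfsg.pPrimeCore q ↥(Cfsg.pPrimeCore p G ⊓ Subgroup.centralizer ({z} : Set G))).map
        (Cfsg.pPrimeCore p G ⊓ Subgroup.centralizer ({z} : Set G)).subtype ⊓
      (Cfsg.pPrimeCore q ↥(Cfsg.pPrimeCore p G ⊓ Subgroup.centralizer ((P : Subgroup G) : Set G))).map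
        (Cfsg.pPrimeCore p G ⊓ Subgroup.centralizer ((P : Subgroup G) : Set G)).subtype) ⊔
    ⁅(Cfsg.pPrimeCore q ↥(Cfsg.pPrimeCore p G ⊓ Subgroup.centralizer ({z} : Set G))).map
        (Cfsg.pPrimeCore p G ⊓ Subgroup.centralizer ({z} : Set G)).subtype, (P : Subgroup G)⁆ ≤
    (Cfsg.pPrimeCore q ↥(Cfsg.pPrimeCore p G)).map (Cfsg.pPrimeCore p G).subtype := by
  classical
  haveI hp : Fact p.Prime := inferInstance
  set K := Cfsg.pPrimeCore p G with hK
  haveI hKn : K.Normal := Cfsg.pPrimeCore_normal p G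
  set A : Subgroup G := (P : Subgroup G) with hA
  have hAK : A ≤ Subgroup.normalizer (K : Set G) := by
    rw [Subgroup.normalizer_eq_top K]; exact le_top
  have hKc : (Nat.card K).Coprime p := Cfsg.Agent.Helper1.card_pPrimeCore_coprime p
  have hcop : (Nat.card A).Coprime (Nat.card K) := by
    obtain ⟨m, hm⟩ := (P.2 : IsPGroup p ↥A).exists_card_eq
    rw [hm]
    exact Nat.Coprime.pow_left _ hKc.symm
  have hAsolv : Group.IsSolvable ↥A := by
    haveI := (P.2 : IsPGroup p ↥A).isNilpotent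
    infer_instance
  set R := ⁅K, A⁆ with hR
  have hRK : R ≤ K := Subgroup.le_normalizer_iff_commutator_le_left.1 hAK
  have hKR : K ≤ Subgroup.normalizer (R : Set G) := Subgroup.normalizer_commutator_ge_left K A
  have hRq : Cfsg.IsPSolvable q ↥R :=
    Cfsg.Agent.Helper4.SolvPSolv.isPSolvable_of_isSolvable q hsol
  set Cz := K ⊓ Subgroup.centralizer ({z} : Set G) with hCz
  set CP := K ⊓ Subgroup.centralizer (A : Set G) with hCP
  have hXdef : (Cfsg.pPrimeCore q ↥Cz).map Cz.subtype = Cfsg.Agent.Helper1.FFact.ppc q Cz := rfl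
  have hYdef : (Cfsg.pPrimeCore q ↥CP).map CP.subtype = Cfsg.Agent.Helper1.FFact.ppc q CP := rfl
  have hKdef : (Cfsg.pPrimeCore q ↥K).map K.subtype = Cfsg.Agent.Helper1.FFact.ppc q K := rfl
  rw [hXdef, hYdef, hKdef]
  set X := Cfsg.Agent.Helper1.FFact.ppc q Cz with hX
  set Y₁ := Cfsg.Agent.Helper1.FFact.ppc q CP with hY₁
  have hXK : X ≤ K := (Cfsg.Agent.Helper1.FFact.ppc_le q Cz).trans inf_le_left
  have hY₁K : Y₁ ≤ K := (Cfsg.Agent.Helper1.FFact.ppc_le q CP).trans inf_le_left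
  apply sup_le
  · -- the part inside `O_{q'}(C_K(P))`
    set N' := R ⊔ Y₁ with hN'
    have hN'K : N' ≤ K := sup_le hRK hY₁K
    have hCPn : CP ≤ Subgroup.normalizer (N' : Set G) := by
      intro c hc
      have h1 : c ∈ Subgroup.normalizer (R : Set G) := hKR hc.1
      have h2 : c ∈ Subgroup.normalizer (Y₁ : Set G) :=
        Cfsg.Agent.Helper1.FFact.le_normalizer_ppc q CP hc
      rw [Subgroup.mem_normalizer_iff_map_conj_eq] at h1 h2 ⊢
      rw [hN', Subgroup.map_sup, h1, h2]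
    have hKN' : K ≤ Subgroup.normalizer (N' : Set G) := by
      have hsup := Cfsg.Agent.Helper1.coprime_commutator_sup_centralizer A K hAK hcop
        (Or.inl hAsolv)
      calc K = R ⊔ CP := hsup.symm
        _ ≤ Subgroup.normalizer (N' : Set G) :=
          sup_le ((le_sup_left : R ≤ N').trans Subgroup.le_normalizer) hCPn
    have hY₁R : Y₁ ≤ Subgroup.normalizer (R : Set G) := hY₁K.trans hKR
    have hN'q : Cfsg.IsPSolvable q ↥N' :=
      Cfsg.Agent.Helper1.QCore.isPSolvable_sup hRq hY₁R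
        (Cfsg.Agent.Helper1.QCore.isPSolvable_of_coprime
          (Cfsg.Agent.Helper1.FFact.card_ppc_coprime q CP))
    have key := Cfsg.Agent.Helper1.QCore.inf_le_ppc hN'K hKN' hN'q hzH hz
    exact (inf_le_inf_left X (le_sup_right : Y₁ ≤ N')).trans key
  · -- the commutator part
    have hAz : A ≤ Subgroup.centralizer ({z} : Set G) := by
      intro a ha
      rw [Subgroup.mem_centralizer_iff]
      intro y hy
      have hyz : y = z := hy
      rw [hyz]
      exact (Subgroup.mem_centralizer_iff.1 hzP a ha).symm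
    have hACz : A ≤ Subgroup.normalizer (Cz : Set G) :=
      Cfsg.Agent.Helper1.le_normalizer_inf hAK (hAz.trans Subgroup.le_normalizer)
    have hAX : A ≤ Subgroup.normalizer (X : Set G) :=
      hACz.trans (Cfsg.Agent.Helper1.QCore.normalizer_le_normalizer_ppc q Cz)
    have h1 : ⁅X, A⁆ ≤ X := Subgroup.le_normalizer_iff_commutator_le_left.1 hAX
    have h2 : ⁅X, A⁆ ≤ R := Subgroup.commutator_mono hXK le_rfl
    have key := Cfsg.Agent.Helper1.QCore.inf_le_ppc hRK hKR hRq hzH hz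
    exact (le_inf h1 h2).trans key

end Cfsg.Agent.S3819
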