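import Mathlib
import Cfsg.Statements.S3821
import Cfsg.Agent.Helper5.Basic

set_option autoImplicit false
open Cfsg

namespace Cfsg.Agent.S3821

open Cfsg.Agent.Helper5

lemma map_subtype_conj {G : Type*} [Group G] (A : Subgroup G) (K : Subgroup A) (a : A) :
    (K.map (MulAut.conj a).toMonoidHom).map A.subtype =
      (K.map A.subtype).map (MulAut.conj (a : G)).toMonoidHom := by
  rw [Subgroup.map_map, Subgroup.map_map]
  congr 1

lemma map_conj_le_of_mem {G : Type*} [Group G] (J X : Subgroup G) (hX : X ≤ J) (a : G) (ha : a ∈ J) :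
    X.map (MulAut.conj a).toMonoidHom ≤ J := by
  rw [map_conj_le_iff]
  intro x hx
  exact J.mul_mem (J.mul_mem ha (hX hx)) (J.inv_mem ha)

/-- pronormality in a subgroup, stated in the ambient group. -/
lemma pron_sub_iff {G : Type*} [Group G] (A H : Subgroup G) (hHA : H ≤ A) :
    Cfsg.IsPronormal (H.subgroupOf A) ↔
      ∀ a ∈ A, ∃ x ∈ H ⊔ H.map (MulAut.conj a).toMonoidHom,
        H.map (MulAut.conj a).toMonoidHom = H.map (MulAut.conj x).toMonoidHom := by
  have hmap : (H.subgroupOf A).map A.subtype = H := Subgroup.map_subgroupOf_eq_of_le hHA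
  constructor
  · intro h a ha
    obtain ⟨x, hx, hxe⟩ := h ⟨a, ha⟩
    refine ⟨(x : G), ?_, ?_⟩
    · have := Subgroup.mem_map_of_mem A.subtype hx
      rw [Subgroup.map_sup, map_subtype_conj, hmap] at this
      exact this
    · have := congrArg (Subgroup.map A.subtype) hxe
      rw [map_subtype_conj, map_subtype_conj, hmap] at this
      exact this
  · intro h a
    obtain ⟨x, hx, hxe⟩ := h (a : G) a.2
    have hxA : x ∈ A := by
      have : H ⊔ H.map (MulAut.conj (a : G)).toMonoidHom ≤ A :=
        sup_le hHA (map_conj_le_of_mem A H hHA _ a.2)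
      exact this hx
    refine ⟨⟨x, hxA⟩, ?_, ?_⟩
    · rw [← Subgroup.mem_map_iff_mem A.subtype_injective, Subgroup.map_sup, map_subtype_conj, hmap]
      exact hx
    · apply Subgroup.map_injective A.subtype_injective
      rw [map_subtype_conj, map_subtype_conj, hmap]
      exact hxe

/-- Let A be a normal subgroup of the finite group G and H a subgroup of A. Then H is pronormal in G (H and gHg⁻¹ conjugate inside ⟨H, gHg⁻¹⟩ for every g ∈ G) if and only if H is pronormal in A and G = A · N_G(H). -/
theorem result {G : Type*} [Group G] [Finite G] (A H : Subgroup G) [A.Normal] (hHA : H ≤ A) :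
    Cfsg.IsPronormal H ↔ (Cfsg.IsPronormal (H.subgroupOf A) ∧ A ⊔ Subgroup.normalizer (H : Set G) = ⊤) := by
  rw [pron_sub_iff A H hHA]
  have hconjA : ∀ g : G, H.map (MulAut.conj g).toMonoidHom ≤ A := by
    intro g
    rw [map_conj_le_iff]
    intro x hx
    exact ‹A.Normal›.conj_mem x (hHA hx) g
  constructor
  · intro h
    refine ⟨fun a _ => h a, ?_⟩
    rw [eq_top_iff]
    intro g _
    obtain ⟨w, hw, hwe⟩ := h g
    have hwA : w ∈ A := (sup_le hHA (hconjA g)) hw
    have hn : w⁻¹ * g ∈ Subgroup.normalizer (H : Set G) := by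
      rw [mem_normalizer_iff_map_conj, ← map_conj_map_conj, hwe, map_conj_map_conj,
        inv_mul_cancel, map_conj_one]
    have : g = w * (w⁻¹ * g) := by group
    rw [this]
    exact Subgroup.mul_mem_sup hwA hn
  · rintro ⟨h, hsup⟩ g
    have hg : g ∈ A ⊔ Subgroup.normalizer (H : Set G) := hsup ▸ Subgroup.mem_top g
    rw [← SetLike.mem_coe, Subgroup.normal_mul, Set.mem_mul] at hg
    obtain ⟨a, ha, n, hn, rfl⟩ := hg
    have hnH : H.map (MulAut.conj n).toMonoidHom = H := (mem_normalizer_iff_map_conj H n).1 hn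
    have hgH : H.map (MulAut.conj (a * n)).toMonoidHom = H.map (MulAut.conj a).toMonoidHom := by
      rw [← map_conj_map_conj, hnH]
    rw [hgH]
    exact h a ha

end Cfsg.Agent.S3821
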