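import Mathlib
import Cfsg.Statements.S3824
import Cfsg.Agent.Helper6.BurnsidePQ
import Cfsg.Agent.Helper4.Subnormal

set_option autoImplicit false
open Cfsg

namespace Cfsg.Agent.S3824

universe u

theorem aux (n : ℕ) :
    ∀ (G : Type u) [Group G] [Finite G], Nat.card G = n →
      (∃ A : Subgroup G, IsMulCommutative A ∧ ∃ k : ℕ, A.index = 2 ^ k) →
      Group.IsSolvable G := by
  induction n using Nat.strong_induction_on with
  | _ n ih =>
    intro G _ _ hn hA
    obtain ⟨A, hAc, k, hk⟩ := hA
    by_cases hsub : Subsingleton G
    · infer_instance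
    rw [not_subsingleton_iff_nontrivial] at hsub
    by_cases hex : ∃ N : Subgroup G, N.Normal ∧ N ≠ ⊥ ∧ N ≠ ⊤
    · obtain ⟨N, hN, hNbot, hNtop⟩ := hex
      have := hN
      have hNcard : Nat.card N < n := by
        rw [← hn]
        apply lt_of_le_of_ne (Subgroup.card_le_card_group N)
        intro h
        exact hNtop (Subgroup.card_eq_iff_eq_top N |>.mp h)
      have hQcard : Nat.card (G ⧸ N) < n := by
        rw [← hn, ← Subgroup.index_eq_card, ← N.index_mul_card]
        have h1 : 1 < Nat.card N := by
          rw [Finite.one_lt_card_iff_nontrivial]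
          exact (Subgroup.nontrivial_iff_ne_bot N).mpr hNbot
        have h2 : 0 < N.index := Nat.pos_of_ne_zero Subgroup.index_ne_zero_of_finite
        nlinarith
      have hN1 : Group.IsSolvable N := by
        apply ih _ hNcard N rfl
        refine ⟨A.subgroupOf N, ?_, ?_⟩
        · exact Subgroup.subgroupOf_isMulCommutative N A
        · have hd : A.relIndex N ∣ 2 ^ k := hk ▸ Helper4.relIndex_dvd_index_of_normal_right N A
          obtain ⟨j, -, hj⟩ := (Nat.dvd_prime_pow Nat.prime_two).1 hd
          exact ⟨j, hj⟩
      have hN2 : Group.IsSolvable (G ⧸ N) := by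
        apply ih _ hQcard (G ⧸ N) rfl
        refine ⟨A.map (QuotientGroup.mk' N), ?_, ?_⟩
        · exact Subgroup.map_isMulCommutative A _
        · have hd : (A.map (QuotientGroup.mk' N)).index ∣ 2 ^ k :=
            hk ▸ Subgroup.index_map_dvd A (QuotientGroup.mk'_surjective N)
          obtain ⟨j, -, hj⟩ := (Nat.dvd_prime_pow Nat.prime_two).1 hd
          exact ⟨j, hj⟩
      exact (Group.isSolvable_iff_subgroup_quotient N).mpr ⟨hN1, hN2⟩
    · push Not at hex
      have : IsSimpleGroup G :=
        { exists_pair_ne := exists_pair_ne G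
          eq_bot_or_eq_top_of_normal := by
            intro N hN
            by_cases h : N = ⊥
            · exact Or.inl h
            · exact Or.inr (hex N hN h) }
      by_cases hAbot : A = ⊥
      · -- G is a 2-group
        have hcard : Nat.card G = 2 ^ k := by
          rw [← hk, hAbot, Subgroup.index_bot]
        have : Fact (Nat.Prime 2) := ⟨Nat.prime_two⟩
        have hP : IsPGroup 2 G := IsPGroup.of_card hcard
        have : Group.IsNilpotent G := hP.isNilpotent
        infer_instance
      · obtain ⟨g, hgA, hg1'⟩ := (A.bot_or_exists_ne_one).resolve_left hAbot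
        have hAC : A ≤ Subgroup.centralizer ({g} : Set G) := by
          intro a ha
          rw [Subgroup.mem_centralizer_iff]
          intro z hz
          rw [Set.mem_singleton_iff] at hz
          subst hz
          have := hAc.is_comm.comm (⟨z, hgA⟩ : A) ⟨a, ha⟩
          exact congrArg Subtype.val this
        have hd : (Subgroup.centralizer ({g} : Set G)).index ∣ 2 ^ k :=
          hk ▸ Subgroup.index_dvd_of_le hAC
        obtain ⟨j, -, hj⟩ := (Nat.dvd_prime_pow Nat.prime_two).1 hd
        have hprime := Helper6.prime_card_of_simple_of_class_prime_pow 2 j Nat.prime_two g hg1' hj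
        have : Fact (Nat.card G).Prime := ⟨hprime⟩
        have : IsCyclic G := isCyclic_of_prime_card rfl
        exact Group.isSolvable_of_comm (fun a b => IsCyclic.commGroup.mul_comm a b)

/-- Every finite group having an abelian subgroup whose index is a power of 2 is solvable. -/
theorem result {G : Type*} [Group G] [Finite G]
    (A : Subgroup G) (hA : IsMulCommutative A) (hidx : ∃ k : ℕ, A.index = 2 ^ k) : Group.IsSolvable G :=
  aux _ G rfl ⟨A, hA, hidx⟩

end Cfsg.Agent.S3824
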