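import Mathlib
import Cfsg.Statements.S3825
import Cfsg.Prelude.Def_Transfer
-- import your own Cfsg.Agent.* helpers here

set_option autoImplicit false
open Cfsg

namespace Cfsg.Agent.S3825
open Cfsg
universe u
open scoped commutatorElement

variable {G : Type u} [Group G]

/-- a fixed-point-free involution inverts. -/
theorem inverts_of_fpf [Finite G] (K : Subgroup G) (s : G)
    (hsK : s ∈ Subgroup.normalizer (K : Set G))
    (hss : s * s = 1) (hfpf : ∀ k ∈ K, s * k = k * s → k = 1) :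
    ∀ k ∈ K, s * k * s⁻¹ = k⁻¹ := by
  have hsinv : s⁻¹ = s := inv_eq_of_mul_eq_one_left hss
  have hconj : ∀ k ∈ K, s * k * s⁻¹ ∈ K := fun k hk => (Subgroup.mem_normalizer_iff.1 hsK k).1 hk
  let φ : K → K := fun k => ⟨(k : G)⁻¹ * (s * k * s⁻¹),
    K.mul_mem (K.inv_mem k.2) (hconj _ k.2)⟩
  have hinj : Function.Injective φ := by
    intro a b hab
    have h1 : (a : G)⁻¹ * (s * a * s⁻¹) = (b : G)⁻¹ * (s * b * s⁻¹) := congrArg Subtype.val hab
    have h2 : (b : G) * (a : G)⁻¹ = 1 := by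
      apply hfpf _ (K.mul_mem b.2 (K.inv_mem a.2))
      have h3 : s * a * s⁻¹ = (a : G) * (b : G)⁻¹ * (s * b * s⁻¹) := by
        rw [mul_assoc (a : G), ← h1]; group
      have h4 : s * ((b : G) * (a : G)⁻¹) * s⁻¹ = (b : G) * (a : G)⁻¹ := by
        have : s * ((b : G) * (a : G)⁻¹) * s⁻¹ = (s * b * s⁻¹) * (s * a * s⁻¹)⁻¹ := by group
        rw [this, h3]; group
      calc s * ((b : G) * (a : G)⁻¹) = (s * ((b : G) * (a : G)⁻¹) * s⁻¹) * s := by group
        _ = (b : G) * (a : G)⁻¹ * s := by rw [h4]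
    apply Subtype.ext
    have : (b : G) = (b : G) * (a : G)⁻¹ * a := by group
    rw [this, h2, one_mul]
  have hsurj : Function.Surjective φ := Finite.surjective_of_injective hinj
  intro k hk
  obtain ⟨k0, hk0⟩ := hsurj ⟨k, hk⟩
  have h1 : (k0 : G)⁻¹ * (s * k0 * s⁻¹) = k := congrArg Subtype.val hk0
  rw [← h1]
  have e1 : s * ((k0 : G)⁻¹ * (s * k0 * s⁻¹)) * s⁻¹ = s * (k0 : G)⁻¹ * s * k0 * (s * s)⁻¹ := by
    group
  have e2 : ((k0 : G)⁻¹ * (s * k0 * s⁻¹))⁻¹ = s * (k0 : G)⁻¹ * s⁻¹ * k0 := by group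
  rw [e1, e2, hss, inv_one, mul_one, hsinv]

/-- structure of `V`: order 4 and an element `a` with `a * (w a w⁻¹) = y`. -/
theorem structure_V [Finite G] (w : G) (hww : w * w = 1) (y : G) (hy : y ≠ 1)
    (V : Subgroup G) (hVw : ∀ v ∈ V, w * v * w⁻¹ ∈ V)
    (hVe : Cfsg.IsElementaryAbelian 2 V) (hVc : ¬ IsCyclic ↥V) (hyV : y ∈ V)
    (hfix : ∀ v ∈ V, w * v * w⁻¹ = v → (v = 1 ∨ v = y)) :
    Nat.card ↥V = 4 ∧ ∃ a ∈ V, a * (w * a * w⁻¹) = y := by
  obtain ⟨hVcomm, hVexp⟩ := hVe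
  have hwinv : w⁻¹ = w := inv_eq_of_mul_eq_one_left hww
  have hcomm : ∀ a b : G, a ∈ V → b ∈ V → a * b = b * a := fun a b ha hb =>
    congrArg Subtype.val (hVcomm.is_comm.comm ⟨a, ha⟩ ⟨b, hb⟩)
  let δ : ↥V →* ↥V := MonoidHom.mk' (fun v => ⟨(v : G) * (w * v * w⁻¹), V.mul_mem v.2 (hVw v v.2)⟩)
    (by
      intro a b
      apply Subtype.ext
      show ((a * b : ↥V) : G) * (w * ((a * b : ↥V) : G) * w⁻¹) =
        ((a : G) * (w * a * w⁻¹)) * ((b : G) * (w * b * w⁻¹))
      have h1 : w * ((a * b : ↥V) : G) * w⁻¹ = (w * a * w⁻¹) * (w * b * w⁻¹) := by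
        rw [Subgroup.coe_mul]; group
      rw [h1, Subgroup.coe_mul]
      have h2 := hcomm (b : G) (w * a * w⁻¹) b.2 (hVw a a.2)
      calc (a : G) * b * (w * a * w⁻¹ * (w * b * w⁻¹))
          = (a : G) * (b * (w * a * w⁻¹)) * (w * b * w⁻¹) := by group
        _ = (a : G) * ((w * a * w⁻¹) * b) * (w * b * w⁻¹) := by rw [h2]
        _ = (a : G) * (w * a * w⁻¹) * (b * (w * b * w⁻¹)) := by group)
  have hδ : ∀ v : ↥V, ((δ v : ↥V) : G) = (v : G) * (w * v * w⁻¹) := fun v => rfl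
  set y' : ↥V := ⟨y, hyV⟩ with hy'
  have hy'ord : orderOf y' = 2 := by
    apply orderOf_eq_prime
    · apply Subtype.ext
      simpa using hVexp y hyV
    · intro h
      exact hy (congrArg Subtype.val h)
  have hZcard : Nat.card (Subgroup.zpowers y') = 2 := by rw [Nat.card_zpowers, hy'ord]
  have hmemZ : ∀ v : ↥V, ((v : G) = 1 ∨ (v : G) = y) → v ∈ Subgroup.zpowers y' := by
    intro v hv
    rcases hv with h | h
    · have : v = 1 := Subtype.ext h
      rw [this]; exact Subgroup.one_mem _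
    · have : v = y' := Subtype.ext h
      rw [this]; exact Subgroup.mem_zpowers _
  have hker : δ.ker ≤ Subgroup.zpowers y' := by
    intro v hv
    rw [MonoidHom.mem_ker] at hv
    have h1 : (v : G) * (w * v * w⁻¹) = 1 := by
      rw [← hδ, hv]; rfl
    apply hmemZ
    apply hfix v v.2
    -- w v w⁻¹ = v⁻¹ = v
    have h2 : (v : G) * v = 1 := by
      have := hVexp v v.2
      rwa [pow_two] at this
    have : w * v * w⁻¹ = (v : G)⁻¹ := eq_inv_of_mul_eq_one_right h1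
    rw [this]
    exact inv_eq_of_mul_eq_one_left h2
  have hrange : δ.range ≤ Subgroup.zpowers y' := by
    rintro _ ⟨v, rfl⟩
    apply hmemZ
    apply hfix _ (δ v).2
    rw [hδ]
    have h1 : w * ((v : G) * (w * v * w⁻¹)) * w⁻¹ = (w * v * w⁻¹) * ((w * w) * v * (w * w)⁻¹) := by
      group
    rw [h1, hww]
    simp only [one_mul, inv_one, mul_one]
    exact hcomm _ _ (hVw v v.2) v.2
  have hcardV : Nat.card ↥V = Nat.card δ.ker * Nat.card δ.range := by
    rw [← Subgroup.index_ker, Subgroup.card_mul_index]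
  have hk2 : Nat.card δ.ker ≤ 2 := hZcard ▸ Subgroup.card_le_of_le hker
  have hr2 : Nat.card δ.range ≤ 2 := hZcard ▸ Subgroup.card_le_of_le hrange
  have hVp : IsPGroup 2 ↥V := by
    intro v
    refine ⟨1, ?_⟩
    apply Subtype.ext
    simpa using hVexp v v.2
  have : Fact (Nat.Prime 2) := ⟨Nat.prime_two⟩
  obtain ⟨k, hk⟩ := hVp.exists_card_eq
  have hk4 : 2 ^ k ≤ 4 := by
    rw [← hk, hcardV]
    calc Nat.card δ.ker * Nat.card δ.range ≤ 2 * 2 := Nat.mul_le_mul hk2 hr2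
      _ = 4 := by norm_num
  have hkle : k ≤ 2 := by
    by_contra hlt
    have hlt' : 3 ≤ k := by omega
    have : 2 ^ 3 ≤ 2 ^ k := Nat.pow_le_pow_right (by norm_num) hlt'
    omega
  have hk' : k = 0 ∨ k = 1 ∨ k = 2 := by omega
  rcases hk' with rfl | rfl | rfl
  · exfalso; apply hVc
    rw [pow_zero] at hk
    have : Subsingleton ↥V := (Nat.card_eq_one_iff_unique.1 hk).1
    infer_instance
  · exfalso; apply hVc
    rw [pow_one] at hk
    exact isCyclic_of_prime_card hk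
  · have hV4 : Nat.card ↥V = 4 := by rw [hk]; norm_num
    refine ⟨hV4, ?_⟩
    have hr : Nat.card δ.range = 2 := by
      rw [hV4] at hcardV
      have h1 : 0 < Nat.card δ.ker := Nat.card_pos
      have h2 : 0 < Nat.card δ.range := Nat.card_pos
      nlinarith
    have hreq : δ.range = Subgroup.zpowers y' :=
      Subgroup.eq_of_le_of_card_ge hrange (by rw [hr, hZcard])
    have : y' ∈ δ.range := by rw [hreq]; exact Subgroup.mem_zpowers _
    obtain ⟨a, ha⟩ := this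
    refine ⟨a, a.2, ?_⟩
    have := congrArg Subtype.val ha
    rw [hδ] at this
    exact this

/-- Let U be a subgroup of a finite group H and w an involution of H normalizing U and commuting with exactly two elements of U, the identity and y. If V is a non-cyclic elementary abelian 2-subgroup of U containing y which is normal in U and invariant under w, then V is a Sylow 2-subgroup of U, V has order 4, and U/V is abelian. -/
theorem result {H : Type*} [Group H] [Finite H] (U : Subgroup H) (w : H) (hw : orderOf w = 2)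
    (hwU : w ∈ Subgroup.normalizer (U : Set H)) (y : H) (hy : y ≠ 1) (hyU : y ∈ U)
    (hfix : ∀ u ∈ U, w * u * w⁻¹ = u ↔ (u = 1 ∨ u = y))
    (V : Subgroup H) (hVU : V ≤ U) (hVn : (V.subgroupOf U).Normal) (hVw : ∀ v ∈ V, w * v * w⁻¹ ∈ V)
    (hVe : Cfsg.IsElementaryAbelian 2 V) (hVc : ¬ IsCyclic ↥V) (hyV : y ∈ V) :
    ¬ 2 ∣ V.relIndex U ∧ Nat.card ↥V = 4 ∧ ⁅U, U⁆ ≤ V := by
  have hww : w * w = 1 := by
    have := pow_orderOf_eq_one w
    rwa [hw, pow_two] at this
  have hwinv : w⁻¹ = w := inv_eq_of_mul_eq_one_left hww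
  obtain ⟨hV4, a, haV, hay⟩ := structure_V w hww y hy V hVw hVe hVc hyV
    (fun v hv h => (hfix v (hVU hv)).1 h)
  have hsq : ∀ v ∈ V, v⁻¹ = v := by
    intro v hv
    have h1 := hVe.2 v hv
    rw [pow_two] at h1
    exact inv_eq_of_mul_eq_one_left h1
  have key : ∀ u ∈ U, u⁻¹ * (w * u * w⁻¹) ∈ V → u ∈ V := by
    intro u hu hv
    have h1 : w * (u⁻¹ * (w * u * w⁻¹)) * w⁻¹ = (u⁻¹ * (w * u * w⁻¹))⁻¹ := by
      have e1 : w * (u⁻¹ * (w * u * w⁻¹)) * w⁻¹ = (w * u * w⁻¹)⁻¹ * ((w * w) * u * (w * w)⁻¹) := by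
        group
      rw [e1, hww]; group
    rw [hsq _ hv] at h1
    rcases (hfix _ (hVU hv)).1 h1 with h | h
    · have h2 : w * u * w⁻¹ = u := by
        calc w * u * w⁻¹ = u * (u⁻¹ * (w * u * w⁻¹)) := by group
          _ = u := by rw [h, mul_one]
      rcases (hfix u hu).1 h2 with h3 | h3
      · rw [h3]; exact V.one_mem
      · rw [h3]; exact hyV
    · have h2 : w * u * w⁻¹ = u * y := by
        calc w * u * w⁻¹ = u * (u⁻¹ * (w * u * w⁻¹)) := by group
          _ = u * y := by rw [h]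
      have h3 : w * a * w⁻¹ = a⁻¹ * y := by
        calc w * a * w⁻¹ = a⁻¹ * (a * (w * a * w⁻¹)) := by group
          _ = a⁻¹ * y := by rw [hay]
      have h4 : w * (u * a⁻¹) * w⁻¹ = u * a⁻¹ := by
        have e1 : w * (u * a⁻¹) * w⁻¹ = (w * u * w⁻¹) * (w * a * w⁻¹)⁻¹ := by group
        rw [e1, h2, h3]
        have e2 : u * y * (a⁻¹ * y)⁻¹ = u * a := by group
        rw [e2, hsq a haV]
      rcases (hfix _ (U.mul_mem hu (U.inv_mem (hVU haV)))).1 h4 with h5 | h5
      · have : u = a := by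
          calc u = (u * a⁻¹) * a := by group
            _ = a := by rw [h5, one_mul]
        rw [this]; exact haV
      · have : u = y * a := by
          calc u = (u * a⁻¹) * a := by group
            _ = y * a := by rw [h5]
        rw [this]; exact V.mul_mem hyV haV
  -- the quotient `N(V)/V`
  set L := Subgroup.normalizer (V : Set H) with hL
  have hUL : U ≤ L := (Subgroup.normal_subgroupOf_iff_le_normalizer hVU).1 hVn
  have hwL : w ∈ L := by
    rw [hL, Subgroup.mem_normalizer_iff]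
    intro v
    refine ⟨hVw v, ?_⟩
    intro h
    have h1 := hVw _ h
    have h2 : w * (w * v * w⁻¹) * w⁻¹ = (w * w) * v * (w * w)⁻¹ := by group
    rw [h2, hww] at h1
    simpa using h1
  have hVLn : (V.subgroupOf L).Normal := Subgroup.normal_in_normalizer
  set π := QuotientGroup.mk' (V.subgroupOf L) with hπ
  have hker : ∀ n : ↥L, π n = 1 ↔ (n : H) ∈ V := by
    intro n
    rw [hπ, QuotientGroup.mk'_apply, QuotientGroup.eq_one_iff, Subgroup.mem_subgroupOf]
  set Ub := (U.subgroupOf L).map π with hUb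
  set wb := π ⟨w, hwL⟩ with hwb
  have hwb2 : wb * wb = 1 := by
    rw [hwb, ← map_mul]
    have : (⟨w, hwL⟩ : ↥L) * ⟨w, hwL⟩ = 1 := Subtype.ext hww
    rw [this, map_one]
  have hconj : ∀ q ∈ Ub, wb * q * wb⁻¹ ∈ Ub := by
    rintro _ ⟨r, hr, rfl⟩
    refine ⟨⟨w, hwL⟩ * r * ⟨w, hwL⟩⁻¹, ?_, ?_⟩
    · rw [SetLike.mem_coe, Subgroup.mem_subgroupOf] at hr ⊢
      exact (Subgroup.mem_normalizer_iff.1 hwU _).1 hr
    · rw [map_mul, map_mul, map_inv]
  have hwbN : wb ∈ Subgroup.normalizer (Ub : Set (↥L ⧸ V.subgroupOf L)) := by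
    rw [Subgroup.mem_normalizer_iff]
    intro q
    refine ⟨hconj q, ?_⟩
    intro h
    have h1 := hconj _ h
    have h2 : wb * (wb * q * wb⁻¹) * wb⁻¹ = (wb * wb) * q * (wb * wb)⁻¹ := by group
    rw [h2, hwb2] at h1
    simpa using h1
  have hfpf : ∀ k ∈ Ub, wb * k = k * wb → k = 1 := by
    rintro _ ⟨r, hr, rfl⟩ hc
    rw [SetLike.mem_coe, Subgroup.mem_subgroupOf] at hr
    rw [hker]
    apply key _ hr
    have h1 : π (r⁻¹ * (⟨w, hwL⟩ * r * ⟨w, hwL⟩⁻¹)) = 1 := by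
      rw [map_mul, map_mul, map_mul, map_inv, map_inv, ← hwb, hc]
      group
    have h2 := (hker _).1 h1
    simpa using h2
  have hinv := inverts_of_fpf Ub wb hwbN hwb2 hfpf
  have hcomm : ∀ a ∈ Ub, ∀ b ∈ Ub, a * b = b * a := by
    intro a ha b hb
    have h1 := hinv (a * b) (Ub.mul_mem ha hb)
    have h2 : wb * (a * b) * wb⁻¹ = (wb * a * wb⁻¹) * (wb * b * wb⁻¹) := by group
    rw [h2, hinv a ha, hinv b hb, mul_inv_rev] at h1
    have h3 := congrArg Inv.inv h1
    simpa using h3.symm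
  refine ⟨?_, hV4, ?_⟩
  · intro h2dvd
    have : Fact (Nat.Prime 2) := ⟨Nat.prime_two⟩
    have h1 : 2 ∣ Nat.card (↥U ⧸ V.subgroupOf U) := by
      rw [← Subgroup.index_eq_card]; exact h2dvd
    obtain ⟨tb, htb⟩ := exists_prime_orderOf_dvd_card' 2 h1
    obtain ⟨t, rfl⟩ := QuotientGroup.mk_surjective tb
    have ht1 : (t : H) ∉ V := by
      intro h
      have : (QuotientGroup.mk t : ↥U ⧸ V.subgroupOf U) = 1 := by
        rw [QuotientGroup.eq_one_iff, Subgroup.mem_subgroupOf]; exact h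
      rw [this, orderOf_one] at htb
      omega
    have ht2 : (t : H) * t ∈ V := by
      have h3 : (QuotientGroup.mk t : ↥U ⧸ V.subgroupOf U) ^ 2 = 1 := by
        rw [← htb]; exact pow_orderOf_eq_one _
      rw [← QuotientGroup.mk_pow, QuotientGroup.eq_one_iff, Subgroup.mem_subgroupOf, pow_two] at h3
      simpa using h3
    set τ := π ⟨(t : H), hUL t.2⟩ with hτ
    have hτU : τ ∈ Ub := ⟨⟨(t : H), hUL t.2⟩, Subgroup.mem_subgroupOf.2 t.2, rfl⟩
    have hτ2 : τ * τ = 1 := by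
      rw [hτ, ← map_mul, hker]
      exact ht2
    have hτ1 : τ ≠ 1 := by
      intro h
      exact ht1 ((hker _).1 h)
    apply hτ1
    apply hfpf τ hτU
    have h3 := hinv τ hτU
    have h4 : τ⁻¹ = τ := inv_eq_of_mul_eq_one_left hτ2
    rw [h4] at h3
    calc wb * τ = (wb * τ * wb⁻¹) * wb := by group
      _ = τ * wb := by rw [h3]
  · rw [Subgroup.commutator_le]
    intro u1 hu1 u2 hu2
    have h1 : π ⁅(⟨u1, hUL hu1⟩ : ↥L), ⟨u2, hUL hu2⟩⁆ = 1 := by
      rw [map_commutatorElement, commutatorElement_eq_one_iff_mul_comm]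
      exact hcomm _ ⟨⟨u1, hUL hu1⟩, Subgroup.mem_subgroupOf.2 hu1, rfl⟩ _
        ⟨⟨u2, hUL hu2⟩, Subgroup.mem_subgroupOf.2 hu2, rfl⟩
    have h2 := (hker _).1 h1
    have h3 : ((⁅(⟨u1, hUL hu1⟩ : ↥L), ⟨u2, hUL hu2⟩⁆ : ↥L) : H) = ⁅u1, u2⁆ := by
      simp [commutatorElement_def]
    rwa [h3] at h2


end Cfsg.Agent.S3825
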