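import Mathlib
import Cfsg.Statements.S3838
import Cfsg.Agent.Helper1.Tate
import Cfsg.Agent.Helper1.NormalPCompl
-- import your own Cfsg.Agent.* helpers here

set_option autoImplicit false
open Cfsg

namespace Cfsg.Agent.S3838
open Cfsg
universe u
open Cfsg.Agent.Helper1
open scoped commutatorElement

theorem abstract_lemma {N : Type u} [Group N] [Finite N] {p : ℕ} [hp : Fact p.Prime]
    (P : Sylow p N) (Q : Subgroup N) [hQn : Q.Normal] (hQP : Q ≤ (P : Subgroup N))
    (hfr : Q ≤ (frattini ↥(P : Subgroup N)).map (P : Subgroup N).subtype)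
    (hact : ∀ x ∈ Subgroup.normalizer ((P : Subgroup N) : Set N), ∀ z ∈ (P : Subgroup N),
      x * z * x⁻¹ * z⁻¹ ∈ Q) :
    Cfsg.HasNormalPComplement p N := by
  set π := QuotientGroup.mk' Q with hπ
  have hπs : Function.Surjective π := QuotientGroup.mk'_surjective Q
  have hker : ∀ y : N, π y = 1 ↔ y ∈ Q := fun y => QuotientGroup.eq_one_iff y
  set Pb : Sylow p (N ⧸ Q) := P.mapSurjective hπs with hPb
  have hPbmem : ∀ y : N, π y ∈ (Pb : Subgroup (N ⧸ Q)) ↔ y ∈ (P : Subgroup N) := by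
    intro y
    constructor
    · rintro ⟨z, hz, hzy⟩
      have h1 : π (z⁻¹ * y) = 1 := by rw [map_mul, map_inv, hzy, inv_mul_cancel]
      have h2 := hQP ((hker _).1 h1)
      have : y = z * (z⁻¹ * y) := by group
      rw [this]
      exact Subgroup.mul_mem _ hz h2
    · intro hy
      exact ⟨y, hy, rfl⟩
  have hB : Subgroup.normalizer ((Pb : Subgroup (N ⧸ Q)) : Set (N ⧸ Q)) ≤
      Subgroup.centralizer ((Pb : Subgroup (N ⧸ Q)) : Set (N ⧸ Q)) := by
    intro xb hxb
    obtain ⟨x, rfl⟩ := hπs xb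
    have hxN : x ∈ Subgroup.normalizer ((P : Subgroup N) : Set N) := by
      rw [Subgroup.mem_normalizer_iff]
      intro z
      rw [← hPbmem z, ← hPbmem (x * z * x⁻¹), map_mul, map_mul, map_inv]
      exact Subgroup.mem_normalizer_iff.1 hxb (π z)
    rw [Subgroup.mem_centralizer_iff]
    rintro _ ⟨z, hz, rfl⟩
    have h1 := hact x hxN z hz
    have h2 : π (x * z * x⁻¹ * z⁻¹) = 1 := (hker _).2 h1
    rw [map_mul, map_mul, map_mul, map_inv, map_inv] at h2
    -- π x π z (π x)⁻¹ (π z)⁻¹ = 1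
    have h3 : π x * π z = π z * π x := by
      have := mul_eq_one_iff_eq_inv.1 h2
      rw [inv_inv] at this
      calc π x * π z = (π x * π z * (π x)⁻¹) * π x := by group
        _ = π z * π x := by rw [this]
    exact h3.symm
  obtain ⟨Mb, hMbn, hMbc⟩ := (hasNormalPComplement_iff Pb).1
    (hasNormalPComplement_of_normalizer_le_centralizer Pb hB)
  set M := Mb.comap π with hM
  have hMn : M.Normal := hMbn.comap π
  have hMP : M ⊓ (P : Subgroup N) ≤ Q := by
    intro x hx
    have h1 : π x ∈ Mb ⊓ (Pb : Subgroup (N ⧸ Q)) :=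
      Subgroup.mem_inf.2 ⟨hx.1, (hPbmem x).2 hx.2⟩
    rw [hMbc.disjoint.eq_bot, Subgroup.mem_bot] at h1
    exact (hker x).1 h1
  have hT : Cfsg.HasNormalPComplement p ↥M := tate_normal_pcomplement P M (hMP.trans hfr)
  obtain ⟨k, hk⟩ := IsPGroup.iff_card.1 Pb.2
  have hidx : M.index = p ^ k := by
    rw [hM, Subgroup.index_comap_of_surjective Mb hπs, hMbc.symm.index_eq_card, hk]
  exact hasNormalPComplement_of_normal_ppow_index M hidx hT

/-- if `N_G(P)` has a normal `p`-complement, it acts on `P` by inner automorphisms of `P` -/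
theorem normalizer_acts_inner {G : Type u} [Group G] [Finite G] {p : ℕ} [hp : Fact p.Prime]
    (P : Sylow p G)
    (hN : Cfsg.HasNormalPComplement p ↥(Subgroup.normalizer ((P : Subgroup G) : Set G)))
    (x : G) (hx : x ∈ Subgroup.normalizer ((P : Subgroup G) : Set G)) (z : G)
    (hz : z ∈ (P : Subgroup G)) : ∃ y ∈ (P : Subgroup G), x * z * x⁻¹ = y * z * y⁻¹ := by
  set NP := Subgroup.normalizer ((P : Subgroup G) : Set G) with hNP
  set P1 : Sylow p ↥NP := P.subtype Subgroup.le_normalizer with hP1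
  have hP1coe : (P1 : Subgroup ↥NP) = (P : Subgroup G).subgroupOf NP := Sylow.coe_subtype _ _
  have hP1n : (P1 : Subgroup ↥NP).Normal := by
    rw [hP1coe]; exact Subgroup.normal_in_normalizer
  obtain ⟨K, hKn, hKc⟩ := (hasNormalPComplement_iff P1).1 hN
  have hsup : K ⊔ (P1 : Subgroup ↥NP) = ⊤ := hKc.sup_eq_top
  have hinf : K ⊓ (P1 : Subgroup ↥NP) = ⊥ := hKc.disjoint.eq_bot
  have hxmem : (⟨x, hx⟩ : ↥NP) ∈ ((K ⊔ (P1 : Subgroup ↥NP) : Subgroup ↥NP) : Set ↥NP) := by
    rw [hsup]; trivial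
  rw [Subgroup.normal_mul] at hxmem
  obtain ⟨k, hk, y, hy, hky⟩ := hxmem
  have hyP : (y : G) ∈ (P : Subgroup G) := by
    have : y ∈ (P : Subgroup G).subgroupOf NP := hP1coe ▸ hy
    exact Subgroup.mem_subgroupOf.1 this
  refine ⟨(y : G), hyP, ?_⟩
  -- `k` centralizes `P1`
  have hcomm : ∀ w ∈ (P1 : Subgroup ↥NP), k * w = w * k := by
    intro w hw
    have h1 : k * w * k⁻¹ * w⁻¹ ∈ K ⊓ (P1 : Subgroup ↥NP) := by
      refine Subgroup.mem_inf.2 ⟨?_, ?_⟩
      · have : k * w * k⁻¹ * w⁻¹ = k * (w * k⁻¹ * w⁻¹) := by group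
        rw [this]
        exact K.mul_mem hk (hKn.conj_mem _ (K.inv_mem hk) w)
      · exact Subgroup.mul_mem _ (hP1n.conj_mem _ hw k) (Subgroup.inv_mem _ hw)
    rw [hinf, Subgroup.mem_bot] at h1
    calc k * w = (k * w * k⁻¹ * w⁻¹) * (w * k) := by group
      _ = w * k := by rw [h1, one_mul]
  have hw : (⟨(y : G) * z * (y : G)⁻¹, NP.mul_mem (NP.mul_mem y.2 (Subgroup.le_normalizer hz))
      (NP.inv_mem y.2)⟩ : ↥NP) ∈ (P1 : Subgroup ↥NP) := by
    rw [hP1coe, Subgroup.mem_subgroupOf]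
    exact Subgroup.mul_mem _ (Subgroup.mul_mem _ hyP hz) (Subgroup.inv_mem _ hyP)
  have h2 := hcomm _ hw
  have h3 := congrArg Subtype.val h2
  simp only [Subgroup.coe_mul] at h3
  have hx' : x = (k : G) * (y : G) := by
    have := congrArg Subtype.val hky
    simpa using this.symm
  rw [hx']
  calc (k : G) * (y : G) * z * ((k : G) * (y : G))⁻¹
      = ((k : G) * ((y : G) * z * (y : G)⁻¹)) * (k : G)⁻¹ := by group
    _ = (((y : G) * z * (y : G)⁻¹) * (k : G)) * (k : G)⁻¹ := by rw [h3]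
    _ = (y : G) * z * (y : G)⁻¹ := by group

theorem frattini_map_equiv {A B : Type*} [Group A] [Group B] (e : A ≃* B) :
    (frattini A).map e.toMonoidHom = frattini B :=
  e.mapSubgroup.map_radical

/-- Let G be a finite group with Sylow p-subgroup P such that N_G(P) has a normal p-complement. Then N_G(Q) has a normal p-complement for every subgroup Q with [P, P] ≤ Q ≤ Φ(P). -/
theorem result {G : Type*} [Group G] [Finite G] {p : ℕ} [Fact p.Prime] (P : Sylow p G) (hN : Cfsg.HasNormalPComplement p ↥(Subgroup.normalizer ((P : Subgroup G) : Set G))) (Q : Subgroup G) (h1 : (commutator ↥(P : Subgroup G)).map (P : Subgroup G).subtype ≤ Q) (h2 : Q ≤ (frattini ↥(P : Subgroup G)).map (P : Subgroup G).subtype) : Cfsg.HasNormalPComplement p ↥(Subgroup.normalizer (Q : Set G)) := by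
  have hQP : Q ≤ (P : Subgroup G) := h2.trans (Subgroup.map_subtype_le _)
  have hcomm : ∀ a ∈ (P : Subgroup G), ∀ b ∈ (P : Subgroup G), a * b * a⁻¹ * b⁻¹ ∈ Q := by
    intro a ha b hb
    apply h1
    refine ⟨⁅(⟨a, ha⟩ : ↥(P : Subgroup G)), ⟨b, hb⟩⁆, ?_, ?_⟩
    · exact Subgroup.commutator_mem_commutator (Subgroup.mem_top _) (Subgroup.mem_top _)
    · simp [commutatorElement_def]
  set NQ := Subgroup.normalizer (Q : Set G) with hNQ
  have hPNQ : (P : Subgroup G) ≤ NQ := by
    intro a ha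
    rw [hNQ, Subgroup.mem_normalizer_iff]
    intro q
    constructor
    · intro hq
      have := hcomm a ha q (hQP hq)
      have e : a * q * a⁻¹ = (a * q * a⁻¹ * q⁻¹) * q := by group
      rw [e]; exact Q.mul_mem this hq
    · intro hq
      have := hcomm a⁻¹ (Subgroup.inv_mem _ ha) (a * q * a⁻¹) (hQP hq)
      have e : q = (a⁻¹ * (a * q * a⁻¹) * a⁻¹⁻¹ * (a * q * a⁻¹)⁻¹) * (a * q * a⁻¹) := by group
      rw [e]; exact Q.mul_mem this hq
  set P' : Sylow p ↥NQ := P.subtype hPNQ with hP'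
  have hP'coe : (P' : Subgroup ↥NQ) = (P : Subgroup G).subgroupOf NQ := Sylow.coe_subtype _ _
  have hQ'n : (Q.subgroupOf NQ).Normal := Subgroup.normal_in_normalizer
  apply abstract_lemma P' (Q.subgroupOf NQ)
  · intro a ha
    rw [hP'coe, Subgroup.mem_subgroupOf]
    exact hQP (Subgroup.mem_subgroupOf.1 ha)
  · rw [hP'coe]
    intro a ha
    rw [Subgroup.mem_subgroupOf] at ha
    obtain ⟨f, hf, hfa⟩ := h2 ha
    set e := Subgroup.subgroupOfEquivOfLe hPNQ with he
    have h3 := frattini_map_equiv e.symm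
    have h4 : e.symm f ∈ frattini ↥((P : Subgroup G).subgroupOf NQ) := by
      rw [← h3]
      exact ⟨f, hf, rfl⟩
    refine ⟨e.symm f, h4, ?_⟩
    apply Subtype.ext
    have h5 : ((e (e.symm f) : ↥(P : Subgroup G)) : G) = (((e.symm f : ↥((P : Subgroup G).subgroupOf NQ)) : ↥NQ) : G) := rfl
    rw [e.apply_symm_apply] at h5
    rw [← hfa]
    exact h5.symm
  · intro x hx z hz
    rw [Subgroup.mem_subgroupOf]
    have hzP : (z : G) ∈ (P : Subgroup G) := by
      rw [hP'coe, Subgroup.mem_subgroupOf] at hz; exact hz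
    have hxN : (x : G) ∈ Subgroup.normalizer ((P : Subgroup G) : Set G) := by
      rw [Subgroup.mem_normalizer_iff]
      intro w
      constructor
      · intro hw
        have := (Subgroup.mem_normalizer_iff.1 hx ⟨w, hPNQ hw⟩).1
          (by rw [hP'coe, Subgroup.mem_subgroupOf]; exact hw)
        rw [hP'coe, Subgroup.mem_subgroupOf] at this
        simpa using this
      · intro hw
        have hwN : w ∈ NQ := by
          have h3 : (x : G)⁻¹ * ((x : G) * w * (x : G)⁻¹) * (x : G) ∈ NQ :=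
            NQ.mul_mem (NQ.mul_mem (NQ.inv_mem x.2) (hPNQ hw)) x.2
          have e : (x : G)⁻¹ * ((x : G) * w * (x : G)⁻¹) * (x : G) = w := by group
          rwa [e] at h3
        have := (Subgroup.mem_normalizer_iff.1 hx ⟨w, hwN⟩).2
          (by rw [hP'coe, Subgroup.mem_subgroupOf]; simpa using hw)
        rw [hP'coe, Subgroup.mem_subgroupOf] at this
        exact this
    obtain ⟨y, hy, hxy⟩ := normalizer_acts_inner P hN (x : G) hxN (z : G) hzP
    have : ((x * z * x⁻¹ * z⁻¹ : ↥NQ) : G) = (y * (z : G) * y⁻¹) * (z : G)⁻¹ := by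
      simp only [Subgroup.coe_mul, Subgroup.coe_inv]
      rw [hxy]
    rw [this]
    exact hcomm y hy z hzP


end Cfsg.Agent.S3838
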