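import Mathlib
import Cfsg.Statements.S4001
import Cfsg.Agent.Helper1.FrobKernelNilp
import Cfsg.Agent.Helper1.FrobComplCenter
import Cfsg.Agent.Helper1.FrobEven
import Cfsg.Agent.Helper1.FrobComplSylow
import Cfsg.Agent.Helper1.Frobenius3
import Cfsg.Agent.Helper1.Frobenius2
import Cfsg.Statements.S4001
-- import your own Cfsg.Agent.* helpers here

set_option autoImplicit false
open Cfsg

namespace Cfsg.Agent.S4001
open Cfsg

universe u

open scoped Pointwise

theorem quaternion_not_comm (n : ℕ) (hn : 1 ≤ n)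
    (h : ∀ x y : QuaternionGroup (2 ^ n), x * y = y * x) : False := by
  have h1 := h (QuaternionGroup.a 1) (QuaternionGroup.xa 0)
  rw [QuaternionGroup.a_mul_xa, QuaternionGroup.xa_mul_a] at h1
  have h2 : (0 : ZMod (2 * 2 ^ n)) - 1 = 0 + 1 := by
    injection h1
  have h3 : (2 : ZMod (2 * 2 ^ n)) = 0 := by
    have : (2 : ZMod (2 * 2 ^ n)) = (0 + 1) - (0 - 1) := by ring
    rw [this, h2]; ring
  have h4 : ((2 : ℕ) : ZMod (2 * 2 ^ n)) = 0 := by exact_mod_cast h3
  rw [ZMod.natCast_eq_zero_iff] at h4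
  have h5 : 2 * 2 ^ n ≤ 2 := Nat.le_of_dvd (by norm_num) h4
  have h6 : 2 ^ 1 ≤ 2 ^ n := Nat.pow_le_pow_right (by norm_num) hn
  omega

section abstract0

variable {X : Type u} [Group X] [Finite X] (C N : Subgroup X)

theorem zgroup_of_sylow
    (hs : ∀ (p : ℕ) [Fact p.Prime] (P : Sylow p C),
      IsCyclic P ∨ ∃ n : ℕ, Nonempty (P ≃* QuaternionGroup (2 ^ n)))
    (hor : Odd (Nat.card C) ∨ ∀ x y : C, x * y = y * x) : IsZGroup C := by
  refine ⟨fun p hp P => ?_⟩
  haveI := Fact.mk hp
  rcases hs p P with h | ⟨n, ⟨e⟩⟩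
  · exact h
  · rcases hor with hodd | hcomm
    · exfalso
      have h1 : Nat.card P = 4 * 2 ^ n := by
        rw [Nat.card_congr e.toEquiv, Nat.card_eq_fintype_card, QuaternionGroup.card]
      have h2 : Nat.card P ∣ Nat.card C := Subgroup.card_subgroup_dvd_card _
      rw [h1] at h2
      have : 2 ∣ Nat.card C := Dvd.dvd.trans ⟨2 * 2 ^ n, by ring⟩ h2
      exact (Nat.not_even_iff_odd.2 hodd) (even_iff_two_dvd.2 this)
    · rcases Nat.eq_zero_or_pos n with h0 | hpos
      · subst h0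
        have : IsCyclic (QuaternionGroup (2 ^ 0)) := by
          rw [pow_zero]; exact QuaternionGroup.quaternionGroup_one_isCyclic
        exact isCyclic_of_surjective e.symm.toMonoidHom e.symm.surjective
      · exfalso
        refine quaternion_not_comm n hpos ?_
        intro x y
        have := hcomm (e.symm x : C) (e.symm y : C)
        have h2 : e.symm x * e.symm y = e.symm y * e.symm x := Subtype.ext (by
          have := congrArg (fun t : C => t) this
          exact_mod_cast this)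
        have := congrArg e h2
        simpa using this

end abstract0


section abstract

variable {X : Type u} [Group X] [Finite X] (C N : Subgroup X)
  (hC : Cfsg.IsFrobeniusComplement C) (hN : (N : Set X) = Cfsg.frobeniusKernel C)

include hC hN in
theorem kernel_data : N.Normal ∧ Subgroup.IsComplement' N C ∧ Group.IsNilpotent N := by
  obtain ⟨N', h1, h2, h3⟩ := Cfsg.Agent.Helper1.frobenius_kernel_nilpotent C hC
  obtain ⟨N'', h1', h2', h3'⟩ := Cfsg.Agent.Helper6.frobenius_kernel_theorem C hC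
  have e1 : N' = N := SetLike.coe_injective (h1.trans hN.symm)
  have e2 : N'' = N := SetLike.coe_injective (h1'.trans hN.symm)
  subst e1
  subst e2
  exact ⟨h2, h3', h3⟩

include hC hN in
theorem fpf_of_not_mem {x n : X} (hx : x ∉ N) (hn : n ∈ N) (hcomm : x * n = n * x) : n = 1 := by
  have hx' : x ∉ Cfsg.frobeniusKernel C := by rw [← hN]; exact hx
  have hn' : n ∈ Cfsg.frobeniusKernel C := by rw [← hN]; exact hn
  simp only [Cfsg.frobeniusKernel, Set.mem_ofPred_eq, not_or, not_forall, not_not] at hx' hn'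
  obtain ⟨hx1, g, hg⟩ := hx'
  rcases hn' with h | h
  · exact h
  · exfalso
    have hC' := Cfsg.Agent.Helper1.frobenius_conj C hC g
    have hnC : n ∉ MulAut.conj g • C := h g
    have h2 := hC'.2.2 n hnC
    have hx2 : x ∈ MulAut.conj n • (MulAut.conj g • C) := by
      rw [Subgroup.mem_pointwise_smul_iff_inv_smul_mem]
      have : (MulAut.conj n)⁻¹ • x = x := by
        rw [← map_inv, MulAut.smul_def, MulAut.conj_apply, inv_inv]
        rw [mul_assoc, hcomm, ← mul_assoc, inv_mul_cancel, one_mul]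
      rw [this]; exact hg
    have : x ∈ (MulAut.conj g • C) ⊓ MulAut.conj n • (MulAut.conj g • C) := ⟨hg, hx2⟩
    rw [h2, Subgroup.mem_bot] at this
    exact hx1 this

include hC hN in
theorem disjoint_NC : N ⊓ C = ⊥ := (kernel_data C N hC hN).2.1.disjoint.eq_bot

include hC hN in
theorem N_ne_bot : N ≠ ⊥ := by
  intro h
  have hc := (kernel_data C N hC hN).2.1
  have := hc.sup_eq_top
  rw [h, bot_sup_eq] at this
  exact hC.2.1 this

include hC hN in
theorem hfpf : ∀ h ∈ C, h ≠ 1 → N ⊓ Subgroup.centralizer {h} = ⊥ := by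
  intro h hh h1
  rw [eq_bot_iff]
  intro n hn
  rw [Subgroup.mem_bot]
  have hhN : h ∉ N := by
    intro hhN
    have : h ∈ N ⊓ C := ⟨hhN, hh⟩
    rw [disjoint_NC C N hC hN, Subgroup.mem_bot] at this
    exact h1 this
  refine fpf_of_not_mem C N hC hN hhN hn.1 ?_
  have := Subgroup.mem_centralizer_iff.1 hn.2 h rfl
  exact this

include hC hN in
theorem card_mul : Nat.card N * Nat.card C = Nat.card X :=
  (kernel_data C N hC hN).2.1.card_mul_card

include hC hN in
theorem coprime_card : (Nat.card C).Coprime (Nat.card N) := by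
  have h := Cfsg.Agent.Helper1.frobenius_coprime C hC
  have h1 := card_mul C N hC hN
  have h2 := C.card_mul_index
  have hpos : 0 < Nat.card C := Nat.card_pos
  have : C.index = Nat.card N := by
    have : Nat.card C * C.index = Nat.card C * Nat.card N := by rw [h2, mul_comm, h1]
    exact Nat.eq_of_mul_eq_mul_left hpos this
  rwa [this] at h

include hC hN in
theorem exists_mul (x : X) : ∃ n ∈ N, ∃ c ∈ C, x = n * c := by
  have hc := (kernel_data C N hC hN).2.1
  obtain ⟨⟨n, c⟩, h⟩ := hc.2 x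
  exact ⟨n.1, n.2, c.1, c.2, h.symm⟩

include hC hN in
theorem sylow_data (p : ℕ) [Fact p.Prime] (P : Sylow p C) :
    IsCyclic P ∨ ∃ n : ℕ, Nonempty (P ≃* QuaternionGroup (2 ^ n)) := by
  haveI := (kernel_data C N hC hN).1
  exact Cfsg.Agent.Helper1.frobenius_complement_sylow N C (N_ne_bot C N hC hN)
    (hfpf C N hC hN) p P

end abstract

section main

variable {G : Type u} [Group G] [Finite G] (H K : Subgroup G) [H.Normal] [K.Normal] (hlt : H < K)
  (C : Subgroup ↥K) (hC : Cfsg.IsFrobeniusComplement C)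
  (hCk : Cfsg.frobeniusKernel C = (H.subgroupOf K : Set ↥K))
  (D : Subgroup (G ⧸ H)) (hD : Cfsg.IsFrobeniusComplement D)
  (hDk : Cfsg.frobeniusKernel D = (K.map (QuotientGroup.mk' H) : Set (G ⧸ H)))

include hlt hC hCk in
theorem F1 {x n : G} (hx : x ∈ K) (hxH : x ∉ H) (hn : n ∈ H) (hcomm : x * n = n * x) : n = 1 := by
  have := fpf_of_not_mem C (H.subgroupOf K) hC hCk.symm (x := ⟨x, hx⟩) (n := ⟨n, hlt.le hn⟩)
    (by simpa [Subgroup.mem_subgroupOf] using hxH) (by simpa [Subgroup.mem_subgroupOf] using hn)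
    (Subtype.ext hcomm)
  exact congrArg Subtype.val this

include hlt in
theorem mem_Kb_iff (g : G) : (QuotientGroup.mk' H g) ∈ K.map (QuotientGroup.mk' H) ↔ g ∈ K := by
  constructor
  · intro h
    obtain ⟨k, hk, hkg⟩ := Subgroup.mem_map.1 h
    have h1 : k⁻¹ * g ∈ H := by
      have := (QuotientGroup.eq (s := H) (a := k) (b := g)).1 hkg
      exact this
    have h2 : g = k * (k⁻¹ * g) := by group
    rw [h2]
    exact K.mul_mem hk (hlt.le h1)
  · intro h
    exact Subgroup.mem_map_of_mem _ h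

include hlt hD hDk in
theorem F2 {g k : G} (hg : g ∉ K) (hk : k ∈ K) (hcomm : g * k = k * g) : k ∈ H := by
  have := fpf_of_not_mem D (K.map (QuotientGroup.mk' H)) hD hDk.symm
    (x := QuotientGroup.mk' H g) (n := QuotientGroup.mk' H k)
    (by rw [mem_Kb_iff H K hlt]; exact hg) (by rw [mem_Kb_iff H K hlt]; exact hk)
    (by rw [← map_mul, ← map_mul, hcomm])
  exact (QuotientGroup.eq_one_iff k).1 this

/-- the map `C → G ⧸ H`. -/
noncomputable def phi : C →* G ⧸ H := (QuotientGroup.mk' H).comp (K.subtype.comp C.subtype)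

omit [Finite G] [K.Normal] in
theorem phi_apply (x : C) : phi H K C x = QuotientGroup.mk' H ((x : ↥K) : G) := rfl

include hlt hC hCk in
theorem phi_injective : Function.Injective (phi H K C) := by
  rw [injective_iff_map_eq_one]
  intro x hx
  rw [phi_apply] at hx
  have h1 : ((x : ↥K) : G) ∈ H := (QuotientGroup.eq_one_iff _).1 hx
  have h2 : (x : ↥K) ∈ H.subgroupOf K ⊓ C :=
    Subgroup.mem_inf.2 ⟨Subgroup.mem_subgroupOf.2 h1, x.2⟩
  rw [disjoint_NC C (H.subgroupOf K) hC hCk.symm, Subgroup.mem_bot] at h2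
  exact Subtype.ext h2

include hlt hC hCk in
theorem phi_range : (phi H K C).range = K.map (QuotientGroup.mk' H) := by
  apply le_antisymm
  · rintro _ ⟨x, rfl⟩
    rw [phi_apply]
    exact Subgroup.mem_map_of_mem _ (x : ↥K).2
  · rintro _ ⟨k, hk, rfl⟩
    obtain ⟨n, hn, c, hc, h⟩ := exists_mul C (H.subgroupOf K) hC hCk.symm ⟨k, hk⟩
    refine ⟨⟨c, hc⟩, ?_⟩
    rw [phi_apply]
    have h1 : k = (n : G) * (c : G) := congrArg Subtype.val h
    rw [h1, map_mul]
    have h2 : QuotientGroup.mk' H (n : G) = 1 := by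
      rw [QuotientGroup.mk'_apply, QuotientGroup.eq_one_iff]
      exact Subgroup.mem_subgroupOf.1 hn
    rw [h2, one_mul]

include hlt hC hCk in
theorem card_Kb : Nat.card (K.map (QuotientGroup.mk' H)) = Nat.card C := by
  rw [← phi_range H K hlt C hC hCk]
  exact (Nat.card_congr (MonoidHom.ofInjective (phi_injective H K hlt C hC hCk)).toEquiv).symm

include hlt in
theorem card_sub : Nat.card (H.subgroupOf K) = Nat.card H :=
  Nat.card_congr (Subgroup.subgroupOfEquivOfLe hlt.le).toEquiv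

include hlt hC hCk in
theorem card_K : Nat.card K = Nat.card H * Nat.card C := by
  rw [← card_mul C (H.subgroupOf K) hC hCk.symm, card_sub H K hlt]

include hlt hC hCk in
theorem card_Q : Nat.card (↥K ⧸ H.subgroupOf K) = Nat.card C := by
  have hc := (kernel_data C (H.subgroupOf K) hC hCk.symm).2.1
  exact Nat.card_congr (hc.symm.QuotientMulEquiv).toEquiv

include hlt hD hDk in
theorem card_D : Nat.card (G ⧸ K) = Nat.card D := by
  have hc := (kernel_data D (K.map (QuotientGroup.mk' H)) hD hDk.symm).2.1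
  have e1 := (hc.symm.QuotientMulEquiv)
  have e2 := QuotientGroup.quotientQuotientEquivQuotient H K hlt.le
  exact Nat.card_congr (e2.symm.trans e1).toEquiv

include hlt hC hCk hD hDk in
theorem card_G : Nat.card G = Nat.card H * Nat.card C * Nat.card D := by
  rw [Subgroup.card_eq_card_quotient_mul_card_subgroup H,
    ← card_mul D (K.map (QuotientGroup.mk' H)) hD hDk.symm, card_Kb H K hlt C hC hCk]
  ring

include hlt hC hCk in
theorem coprime_CH : (Nat.card C).Coprime (Nat.card H) := by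
  have := coprime_card C (H.subgroupOf K) hC hCk.symm
  rwa [card_sub H K hlt] at this

include hlt hC hCk hD hDk in
theorem coprime_DC : (Nat.card D).Coprime (Nat.card C) := by
  have := coprime_card D (K.map (QuotientGroup.mk' H)) hD hDk.symm
  rwa [card_Kb H K hlt C hC hCk] at this

include hlt hC hCk hD hDk in
theorem odd_C : Odd (Nat.card C) := by
  by_contra hnot
  have heven : 2 ∣ Nat.card C := even_iff_two_dvd.1 (Nat.not_odd_iff_even.1 hnot)
  haveI := (kernel_data C (H.subgroupOf K) hC hCk.symm).1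
  obtain ⟨⟨s, hsC, hs2, huniq, -⟩, -⟩ :=
    Cfsg.Agent.Helper1.frobenius_even_complement (H.subgroupOf K) C
      (N_ne_bot C (H.subgroupOf K) hC hCk.symm) (hfpf C (H.subgroupOf K) hC hCk.symm) heven
  set t := phi H K C ⟨s, hsC⟩ with ht
  have hinj := phi_injective H K hlt C hC hCk
  have hs1 : (⟨s, hsC⟩ : C) ≠ 1 := by
    intro h
    have : s = 1 := congrArg Subtype.val h
    rw [this, orderOf_one] at hs2
    norm_num at hs2
  have ht1 : t ≠ 1 := by
    intro h
    rw [ht, ← map_one (phi H K C)] at h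
    exact hs1 (hinj h)
  have htK : t ∈ K.map (QuotientGroup.mk' H) := by
    rw [← phi_range H K hlt C hC hCk]; exact ⟨_, rfl⟩
  haveI hKbn := (kernel_data D (K.map (QuotientGroup.mk' H)) hD hDk.symm).1
  -- a nontrivial element of `D`
  obtain ⟨d, hdD, hd1⟩ := (D.bot_or_exists_ne_one).resolve_left hD.1
  have hdK : d ∉ K.map (QuotientGroup.mk' H) := by
    intro h
    have : d ∈ K.map (QuotientGroup.mk' H) ⊓ D := ⟨h, hdD⟩
    rw [disjoint_NC D _ hD hDk.symm, Subgroup.mem_bot] at this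
    exact hd1 this
  have hconj : d * t * d⁻¹ ∈ K.map (QuotientGroup.mk' H) := hKbn.conj_mem t htK d
  rw [← phi_range H K hlt C hC hCk] at hconj
  obtain ⟨c', hc'⟩ := hconj
  have hss : s * s = 1 := by
    have := pow_orderOf_eq_one s
    rwa [hs2, pow_two] at this
  have htt : t * t = 1 := by
    rw [ht, ← map_mul]
    have : (⟨s, hsC⟩ : C) * ⟨s, hsC⟩ = 1 := Subtype.ext hss
    rw [this, map_one]
  have hc2 : c' * c' = 1 := by
    apply hinj
    rw [map_mul, hc', map_one]
    calc d * t * d⁻¹ * (d * t * d⁻¹) = d * (t * t) * d⁻¹ := by group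
      _ = 1 := by rw [htt]; group
  have hc1 : c' ≠ 1 := by
    intro h
    rw [h, map_one] at hc'
    have : t = d⁻¹ * (d * t * d⁻¹) * d := by group
    rw [this, ← hc'] at ht1
    exact ht1 (by group)
  have hc'o : orderOf (c' : ↥K) = 2 := by
    refine orderOf_eq_prime ?_ ?_
    · rw [pow_two]; exact congrArg Subtype.val hc2
    · intro h; exact hc1 (Subtype.ext h)
  have hc's : (c' : ↥K) = s := huniq _ c'.2 hc'o
  have hc'' : c' = ⟨s, hsC⟩ := Subtype.ext hc's
  rw [hc'', ← ht] at hc'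
  -- so `d` commutes with `t`
  have hcomm : d * t = t * d := by
    calc d * t = (d * t * d⁻¹) * d := by group
      _ = t * d := by rw [← hc']
  exact ht1 (fpf_of_not_mem D _ hD hDk.symm hdK htK hcomm)

include hlt hC hCk hD hDk in
theorem isCyclic_C : IsCyclic C := by
  haveI : IsZGroup C := zgroup_of_sylow C
    (fun p _ P => sylow_data C (H.subgroupOf K) hC hCk.symm p P)
    (Or.inl (odd_C H K hlt C hC hCk D hD hDk))
  have hinj := phi_injective H K hlt C hC hCk
  haveI : Group.IsNilpotent (phi H K C).range := by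
    rw [phi_range H K hlt C hC hCk]
    exact (kernel_data D (K.map (QuotientGroup.mk' H)) hD hDk.symm).2.2
  haveI : Group.IsNilpotent C := Group.nilpotent_of_mulEquiv (MonoidHom.ofInjective hinj).symm
  infer_instance

include hlt hC hCk hD hDk in
theorem isCyclic_Kb : IsCyclic (K.map (QuotientGroup.mk' H)) := by
  haveI := isCyclic_C H K hlt C hC hCk D hD hDk
  rw [← phi_range H K hlt C hC hCk]
  exact isCyclic_of_surjective (phi H K C).rangeRestrict (phi H K C).rangeRestrict_surjective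

include hlt hC hCk hD hDk in
theorem comm_D : ∀ x y : D, x * y = y * x := by
  haveI hKbn := (kernel_data D (K.map (QuotientGroup.mk' H)) hD hDk.symm).1
  haveI := isCyclic_Kb H K hlt C hC hCk D hD hDk
  obtain ⟨g, hg⟩ := IsCyclic.exists_generator (α := K.map (QuotientGroup.mk' H))
  have hg1 : (g : G ⧸ H) ≠ 1 := by
    intro h
    apply N_ne_bot D (K.map (QuotientGroup.mk' H)) hD hDk.symm
    rw [eq_bot_iff]
    intro k hk
    obtain ⟨i, hi⟩ := Subgroup.mem_zpowers_iff.1 (hg ⟨k, hk⟩)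
    have h2 : (g : G ⧸ H) ^ i = k := by
      have := congrArg Subtype.val hi
      simpa using this
    rw [h, one_zpow] at h2
    rw [Subgroup.mem_bot, ← h2]
  have hconj : ∀ w : G ⧸ H, ∃ i : ℤ, w * (g : G ⧸ H) * w⁻¹ = (g : G ⧸ H) ^ i := by
    intro w
    have h1 : w * (g : G ⧸ H) * w⁻¹ ∈ K.map (QuotientGroup.mk' H) := hKbn.conj_mem _ g.2 w
    obtain ⟨i, hi⟩ := Subgroup.mem_zpowers_iff.1 (hg ⟨_, h1⟩)
    refine ⟨i, ?_⟩
    have := congrArg Subtype.val hi
    simpa using this.symm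
  intro x y
  obtain ⟨i, hi⟩ := hconj (x : G ⧸ H)
  obtain ⟨j, hj⟩ := hconj (y : G ⧸ H)
  have h1 : ((x : G ⧸ H) * y) * (g : G ⧸ H) * ((x : G ⧸ H) * y)⁻¹ = (g : G ⧸ H) ^ (i * j) := by
    calc ((x : G ⧸ H) * y) * (g : G ⧸ H) * ((x : G ⧸ H) * y)⁻¹
        = (x : G ⧸ H) * ((y : G ⧸ H) * g * (y : G ⧸ H)⁻¹) * (x : G ⧸ H)⁻¹ := by group
      _ = (x : G ⧸ H) * ((g : G ⧸ H) ^ j) * (x : G ⧸ H)⁻¹ := by rw [hj]
      _ = ((x : G ⧸ H) * g * (x : G ⧸ H)⁻¹) ^ j := by rw [conj_zpow]
      _ = (g : G ⧸ H) ^ (i * j) := by rw [hi, zpow_mul]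
  have h2 : ((y : G ⧸ H) * x) * (g : G ⧸ H) * ((y : G ⧸ H) * x)⁻¹ = (g : G ⧸ H) ^ (i * j) := by
    calc ((y : G ⧸ H) * x) * (g : G ⧸ H) * ((y : G ⧸ H) * x)⁻¹
        = (y : G ⧸ H) * ((x : G ⧸ H) * g * (x : G ⧸ H)⁻¹) * (y : G ⧸ H)⁻¹ := by group
      _ = (y : G ⧸ H) * ((g : G ⧸ H) ^ i) * (y : G ⧸ H)⁻¹ := by rw [hi]
      _ = ((y : G ⧸ H) * g * (y : G ⧸ H)⁻¹) ^ i := by rw [conj_zpow]
      _ = (g : G ⧸ H) ^ (i * j) := by rw [hj, mul_comm i j, zpow_mul]
  set z : G ⧸ H := ((y : G ⧸ H) * x)⁻¹ * ((x : G ⧸ H) * y) with hz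
  have hzD : z ∈ D := D.mul_mem (D.inv_mem (D.mul_mem y.2 x.2)) (D.mul_mem x.2 y.2)
  have hzg : z * (g : G ⧸ H) = (g : G ⧸ H) * z := by
    have h3 : ((x : G ⧸ H) * y) * (g : G ⧸ H) * ((x : G ⧸ H) * y)⁻¹ =
        ((y : G ⧸ H) * x) * (g : G ⧸ H) * ((y : G ⧸ H) * x)⁻¹ := by rw [h1, h2]
    rw [hz]
    calc ((y : G ⧸ H) * x)⁻¹ * ((x : G ⧸ H) * y) * (g : G ⧸ H)
        = ((y : G ⧸ H) * x)⁻¹ * (((x : G ⧸ H) * y) * (g : G ⧸ H) * ((x : G ⧸ H) * y)⁻¹) *
            ((x : G ⧸ H) * y) := by group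
      _ = (g : G ⧸ H) * (((y : G ⧸ H) * x)⁻¹ * ((x : G ⧸ H) * y)) := by rw [h3]; group
  by_contra hxy
  have hz1 : z ≠ 1 := by
    intro h
    apply hxy
    apply Subtype.ext
    have : (x : G ⧸ H) * y = ((y : G ⧸ H) * x) * z := by rw [hz]; group
    rw [h, mul_one] at this
    exact this
  have hzK : z ∉ K.map (QuotientGroup.mk' H) := by
    intro h
    have : z ∈ K.map (QuotientGroup.mk' H) ⊓ D := ⟨h, hzD⟩
    rw [disjoint_NC D _ hD hDk.symm, Subgroup.mem_bot] at this
    exact hz1 this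
  exact hg1 (fpf_of_not_mem D _ hD hDk.symm hzK g.2 hzg)

include hlt hC hCk hD hDk in
theorem isCyclic_D : IsCyclic D := by
  have hcomm := comm_D H K hlt C hC hCk D hD hDk
  haveI : IsZGroup D := zgroup_of_sylow D
    (fun p _ P => sylow_data D (K.map (QuotientGroup.mk' H)) hD hDk.symm p P)
    (Or.inr hcomm)
  letI : CommGroup D := { (inferInstance : Group D) with mul_comm := hcomm }
  haveI : Group.IsNilpotent D := CommGroup.isNilpotent
  infer_instance

/-- `G ⧸ K ≃* D`. -/
noncomputable def equivD (hc : Subgroup.IsComplement' (K.map (QuotientGroup.mk' H)) D)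
    [(K.map (QuotientGroup.mk' H)).Normal] (hle : H ≤ K) : G ⧸ K ≃* D :=
  (QuotientGroup.quotientQuotientEquivQuotient H K hle).symm.trans hc.symm.QuotientMulEquiv

include hlt hC hCk hD hDk in
theorem isCyclic_GK : IsCyclic (G ⧸ K) := by
  haveI := isCyclic_D H K hlt C hC hCk D hD hDk
  haveI hKbn := (kernel_data D (K.map (QuotientGroup.mk' H)) hD hDk.symm).1
  have hc := (kernel_data D (K.map (QuotientGroup.mk' H)) hD hDk.symm).2.1
  exact isCyclic_of_surjective (equivD H K D hc hlt.le).symm (equivD H K D hc hlt.le).symm.surjective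

include hlt hC hCk hD hDk in
theorem solvable_G : Group.IsSolvable G := by
  haveI hKbn := (kernel_data D (K.map (QuotientGroup.mk' H)) hD hDk.symm).1
  have hc := (kernel_data D (K.map (QuotientGroup.mk' H)) hD hDk.symm).2.1
  haveI := isCyclic_D H K hlt C hC hCk D hD hDk
  haveI := isCyclic_Kb H K hlt C hC hCk D hD hDk
  haveI : Group.IsNilpotent (H.subgroupOf K) := (kernel_data C (H.subgroupOf K) hC hCk.symm).2.2
  haveI : Group.IsNilpotent H :=
    Group.nilpotent_of_mulEquiv (Subgroup.subgroupOfEquivOfLe hlt.le)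
  haveI : Group.IsSolvable H := inferInstance
  haveI : Group.IsSolvable (K.map (QuotientGroup.mk' H)) :=
    Group.isSolvable_of_comm (fun a b => (IsCyclic.commGroup).mul_comm a b)
  haveI : Group.IsSolvable D := Group.isSolvable_of_comm (fun a b => (IsCyclic.commGroup).mul_comm a b)
  haveI : Group.IsSolvable ((G ⧸ H) ⧸ (K.map (QuotientGroup.mk' H))) :=
    Group.isSolvable_of_isSolvable_injective (f := (hc.symm.QuotientMulEquiv).toMonoidHom)
      (hc.symm.QuotientMulEquiv).injective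
  haveI : Group.IsSolvable (G ⧸ H) :=
    Group.isSolvable_of_ker_le_range (K.map (QuotientGroup.mk' H)).subtype
      (QuotientGroup.mk' (K.map (QuotientGroup.mk' H))) (by simp)
  exact Group.isSolvable_of_ker_le_range H.subtype (QuotientGroup.mk' H) (by simp)

end main

section generic

variable {A : Type u} [Group A] [Finite A]

theorem mem_of_coprime_order (N : Subgroup A) [N.Normal] (x : A)
    (h : (orderOf x).Coprime (Nat.card (A ⧸ N))) : x ∈ N := by
  have h1 : orderOf (QuotientGroup.mk' N x) ∣ orderOf x := orderOf_map_dvd _ x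
  have h2 : orderOf (QuotientGroup.mk' N x) ∣ Nat.card (A ⧸ N) := orderOf_dvd_natCard _
  have h3 : orderOf (QuotientGroup.mk' N x) = 1 := Nat.eq_one_of_dvd_coprimes h h1 h2
  rw [orderOf_eq_one_iff] at h3
  exact (QuotientGroup.eq_one_iff x).1 h3

theorem exists_orderOf_eq_of_dvd (g : A) {n : ℕ} (hn : n ∣ orderOf g) :
    ∃ x : A, orderOf x = n :=
  ⟨g ^ (orderOf g / n), orderOf_pow_orderOf_div (orderOf_pos g).ne' hn⟩

theorem exists_orderOf_of_cyclic [IsCyclic A] {n : ℕ} (hn : n ∣ Nat.card A) :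
    ∃ x : A, orderOf x = n := by
  obtain ⟨g, hg⟩ := IsCyclic.exists_ofOrder_eq_natCard (α := A)
  exact exists_orderOf_eq_of_dvd g (hg ▸ hn)

theorem exists_orderOf_mul_of_commute {p q : ℕ} (hp : p.Prime) (hq : q.Prime) (hpq : p ≠ q)
    (u f : A) (hcomm : u * f = f * u) (hpu : p ∣ orderOf u) (hqf : q ∣ orderOf f) :
    ∃ g : A, orderOf g = p * q := by
  refine ⟨u ^ (orderOf u / p) * f ^ (orderOf f / q), ?_⟩
  have h1 : orderOf (u ^ (orderOf u / p)) = p :=
    orderOf_pow_orderOf_div (orderOf_pos u).ne' hpu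
  have h2 : orderOf (f ^ (orderOf f / q)) = q :=
    orderOf_pow_orderOf_div (orderOf_pos f).ne' hqf
  have hc : Commute (u ^ (orderOf u / p)) (f ^ (orderOf f / q)) :=
    Commute.pow_pow (show Commute u f from hcomm) _ _
  rw [hc.orderOf_mul_eq_mul_orderOf_of_coprime, h1, h2]
  rw [h1, h2]
  exact (Nat.coprime_primes hp hq).2 hpq

theorem exists_orderOf_of_nilpotent [Group.IsNilpotent A] {p q : ℕ} (hp : p.Prime) (hq : q.Prime)
    (hpq : p ≠ q) (hpa : p ∣ Nat.card A) (hqa : q ∣ Nat.card A) :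
    ∃ g : A, orderOf g = p * q := by
  haveI := Fact.mk hp
  haveI := Fact.mk hq
  obtain ⟨x, hx⟩ := exists_prime_orderOf_dvd_card' p hpa
  obtain ⟨y, hy⟩ := exists_prime_orderOf_dvd_card' q hqa
  obtain ⟨P, hP⟩ := (IsPGroup.of_card (p := p) (n := 1)
    (by rw [Nat.card_zpowers, hx, pow_one]) : IsPGroup p (Subgroup.zpowers x)).exists_le_sylow
  obtain ⟨Q, hQ⟩ := (IsPGroup.of_card (p := q) (n := 1)
    (by rw [Nat.card_zpowers, hy, pow_one]) : IsPGroup q (Subgroup.zpowers y)).exists_le_sylow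
  have hPn : (P : Subgroup A).Normal := inferInstance
  have hQn : (Q : Subgroup A).Normal := inferInstance
  have hdis : Disjoint (P : Subgroup A) (Q : Subgroup A) := IsPGroup.disjoint_of_ne p q hpq _ _ P.2 Q.2
  have hc : Commute x y := Subgroup.commute_of_normal_of_disjoint _ _ hPn hQn hdis x y
    (hP (Subgroup.mem_zpowers x)) (hQ (Subgroup.mem_zpowers y))
  exact exists_orderOf_mul_of_commute hp hq hpq x y hc.eq (hx ▸ dvd_rfl) (hy ▸ dvd_rfl)

end generic

section main2

variable {G : Type u} [Group G] [Finite G] (H K : Subgroup G) [H.Normal] [K.Normal] (hlt : H < K)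
  (C : Subgroup ↥K) (hC : Cfsg.IsFrobeniusComplement C)
  (hCk : Cfsg.frobeniusKernel C = (H.subgroupOf K : Set ↥K))
  (D : Subgroup (G ⧸ H)) (hD : Cfsg.IsFrobeniusComplement D)
  (hDk : Cfsg.frobeniusKernel D = (K.map (QuotientGroup.mk' H) : Set (G ⧸ H)))

include hlt hC hCk in
/-- elements of `K` whose order is coprime to `|K/H|` lie in `H`. -/
theorem mem_H_of_coprime {w : G} (hw : w ∈ K) (hco : (orderOf w).Coprime (Nat.card C)) : w ∈ H := by
  haveI := (kernel_data C (H.subgroupOf K) hC hCk.symm).1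
  have h1 : orderOf (⟨w, hw⟩ : ↥K) = orderOf w := by
    rw [← Subgroup.orderOf_coe]
  have := mem_of_coprime_order (H.subgroupOf K) (⟨w, hw⟩ : ↥K)
    (by rw [h1, card_Q H K hlt C hC hCk]; exact hco)
  exact Subgroup.mem_subgroupOf.1 this

include hlt hD hDk in
theorem mem_K_of_coprime {w : G} (hco : (orderOf w).Coprime (Nat.card D)) : w ∈ K :=
  mem_of_coprime_order K w (by rw [card_D H K hlt D hD hDk]; exact hco)

include hlt hC hCk hD hDk in
theorem no_mixed {p q : ℕ} (hp : p.Prime) (hq : q.Prime)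
    (hpb : p ∣ Nat.card C) (hqb : ¬ q ∣ Nat.card C) (g : G) (hg : orderOf g = p * q) : False := by
  set uu := g ^ q with hu
  set w := g ^ p with hw
  have huo : orderOf uu = p := by
    rw [hu, orderOf_pow_of_dvd hq.ne_zero (hg ▸ Dvd.intro_left p rfl), hg,
      Nat.mul_div_cancel _ hq.pos]
  have hwo : orderOf w = q := by
    rw [hw, orderOf_pow_of_dvd hp.ne_zero (hg ▸ Dvd.intro q rfl), hg,
      Nat.mul_div_cancel_left _ hp.pos]
  have hcomm : w * uu = uu * w := (Commute.pow_pow (Commute.refl g) p q).eq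
  have hpD : ¬ p ∣ Nat.card D := by
    intro h
    have := Nat.dvd_gcd h hpb
    rw [(coprime_DC H K hlt C hC hCk D hD hDk)] at this
    exact hp.one_lt.ne' (Nat.dvd_one.1 this)
  have hpH : ¬ p ∣ Nat.card H := by
    intro h
    have := Nat.dvd_gcd hpb h
    rw [(coprime_CH H K hlt C hC hCk)] at this
    exact hp.one_lt.ne' (Nat.dvd_one.1 this)
  have huK : uu ∈ K := mem_K_of_coprime H K hlt D hD hDk
    (by rw [huo]; exact (Nat.Prime.coprime_iff_not_dvd hp).2 hpD)
  have huH : uu ∉ H := by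
    intro h
    apply hpH
    rw [← huo]
    exact Subgroup.orderOf_dvd_natCard H h
  have hw1 : w ≠ 1 := by
    intro h
    rw [h, orderOf_one] at hwo
    exact hq.one_lt.ne hwo
  by_cases hwK : w ∈ K
  · have hwH : w ∈ H := mem_H_of_coprime H K hlt C hC hCk hwK
      (by rw [hwo]; exact (Nat.Prime.coprime_iff_not_dvd hq).2 hqb)
    exact hw1 (F1 H K hlt C hC hCk huK huH hwH hcomm.symm)
  · exact huH (F2 H K hlt D hD hDk hwK huK hcomm)

include hlt hC hCk hD hDk in
theorem exists_of_C {p q : ℕ} (hp : p.Prime) (hq : q.Prime) (hpq : p ≠ q)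
    (hpb : p ∣ Nat.card C) (hqb : q ∣ Nat.card C) : ∃ g : G, orderOf g = p * q := by
  haveI := isCyclic_C H K hlt C hC hCk D hD hDk
  obtain ⟨x, hx⟩ := exists_orderOf_of_cyclic (A := C)
    (((Nat.coprime_primes hp hq).2 hpq).mul_dvd_of_dvd_of_dvd hpb hqb)
  refine ⟨((x : ↥K) : G), ?_⟩
  rw [Subgroup.orderOf_coe, Subgroup.orderOf_coe, hx]

include hlt hC hCk hD hDk in
theorem exists_of_D {p q : ℕ} (hp : p.Prime) (hq : q.Prime) (hpq : p ≠ q)
    (hpb : p ∣ Nat.card D) (hqb : q ∣ Nat.card D) : ∃ g : G, orderOf g = p * q := by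
  haveI := isCyclic_GK H K hlt C hC hCk D hD hDk
  obtain ⟨x, hx⟩ := exists_orderOf_of_cyclic (A := G ⧸ K) (n := p * q)
    (by rw [card_D H K hlt D hD hDk]
        exact ((Nat.coprime_primes hp hq).2 hpq).mul_dvd_of_dvd_of_dvd hpb hqb)
  obtain ⟨g, rfl⟩ := QuotientGroup.mk'_surjective K x
  exact exists_orderOf_eq_of_dvd g (hx ▸ orderOf_map_dvd _ g)

include hlt hC hCk in
theorem exists_of_H {p q : ℕ} (hp : p.Prime) (hq : q.Prime) (hpq : p ≠ q)
    (hpb : p ∣ Nat.card H) (hqb : q ∣ Nat.card H) : ∃ g : G, orderOf g = p * q := by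
  haveI : Group.IsNilpotent (H.subgroupOf K) := (kernel_data C (H.subgroupOf K) hC hCk.symm).2.2
  haveI : Group.IsNilpotent H :=
    Group.nilpotent_of_mulEquiv (Subgroup.subgroupOfEquivOfLe hlt.le)
  obtain ⟨x, hx⟩ := exists_orderOf_of_nilpotent (A := H) hp hq hpq hpb hqb
  exact ⟨(x : G), by rw [Subgroup.orderOf_coe, hx]⟩

include hlt hC hCk hD hDk in
theorem exists_mixed {p q : ℕ} (hp : p.Prime) (hq : q.Prime) (hpq : p ≠ q)
    (hpa : p ∣ Nat.card H) (hqd : q ∣ Nat.card D) (hqb : ¬ q ∣ Nat.card C) :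
    ∃ g : G, orderOf g = p * q := by
  by_contra hno
  haveI := Fact.mk hp
  haveI := Fact.mk hq
  have hHn : H.Normal := inferInstance
  -- a prime `r` dividing `|C|`
  have hCcard : Nat.card C ≠ 1 := fun h => hC.1 (Subgroup.card_eq_one.1 h)
  obtain ⟨r, hr, hrC⟩ := Nat.exists_prime_and_dvd hCcard
  haveI := Fact.mk hr
  have hrH : (r).Coprime (Nat.card H) :=
    Nat.Coprime.coprime_dvd_left hrC (coprime_CH H K hlt C hC hCk)
  have hrK : r ∣ Nat.card K := by
    rw [card_K H K hlt C hC hCk]; exact Dvd.dvd.mul_left hrC _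
  -- Sylow `r`-subgroup of `K`
  obtain ⟨R⟩ : Nonempty (Sylow r ↥K) := inferInstance
  set RG : Subgroup G := (R : Subgroup ↥K).map K.subtype with hRG
  have hRGK : RG ≤ K := by rintro _ ⟨x, -, rfl⟩; exact x.2
  have hfr : Subgroup.normalizer (RG : Set G) ⊔ K = ⊤ := Sylow.normalizer_sup_eq_top R
  have hRGp : IsPGroup r RG := R.2.map _
  have hRH : ∀ z ∈ RG, z ∈ H → z = 1 := by
    intro z hz hzH
    obtain ⟨k, hk⟩ := (IsPGroup.iff_orderOf.1 hRGp) ⟨z, hz⟩
    rw [Subgroup.orderOf_mk] at hk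
    have h1 : orderOf z ∣ Nat.card H := Subgroup.orderOf_dvd_natCard H hzH
    have h2 : (orderOf z).Coprime (Nat.card H) := by rw [hk]; exact Nat.Coprime.pow_left k hrH
    have h3 : orderOf z = 1 := Nat.Coprime.eq_one_of_dvd h2 h1
    exact orderOf_eq_one_iff.1 h3
  -- `RG` is cyclic
  haveI hKbc := isCyclic_Kb H K hlt C hC hCk D hD hDk
  have hRGc : IsCyclic RG := by
    let f : RG →* (K.map (QuotientGroup.mk' H) : Subgroup (G ⧸ H)) :=
      ((QuotientGroup.mk' H).comp RG.subtype).codRestrict _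
        (fun z => Subgroup.mem_map_of_mem _ (hRGK z.2))
    refine isCyclic_of_injective f ?_
    rw [injective_iff_map_eq_one]
    intro z hz
    have h1 : QuotientGroup.mk' H (z : G) = 1 := congrArg Subtype.val hz
    have h2 : (z : G) ∈ H := (QuotientGroup.eq_one_iff _).1 h1
    exact Subtype.ext (hRH _ z.2 h2)
  obtain ⟨x₀, hx₀⟩ := IsCyclic.exists_generator (α := RG)
  -- an element of order `r` in `RG`
  have hrR : r ∣ Nat.card RG := by
    have h1 : Nat.card RG = Nat.card (R : Subgroup ↥K) :=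
      Subgroup.card_map_of_injective K.subtype_injective
    rw [h1]
    exact R.dvd_card_of_dvd_card hrK
  obtain ⟨x₁, hx₁⟩ := exists_prime_orderOf_dvd_card' r hrR
  set x : G := (x₁ : G) with hx
  have hxo : orderOf x = r := by rw [hx, Subgroup.orderOf_coe, hx₁]
  have hxRG : x ∈ RG := x₁.2
  have hxK : x ∈ K := hRGK hxRG
  have hx1 : x ≠ 1 := by
    intro h
    rw [h, orderOf_one] at hxo
    exact hr.one_lt.ne hxo
  have hxH : x ∉ H := fun h => hx1 (hRH x hxRG h)
  -- the normalizer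
  set M' : Subgroup G := Subgroup.normalizer (RG : Set G) with hM'
  have hqM : q ∣ Nat.card M' := by
    have h1 : K.index = K.relIndex M' := by
      rw [← Subgroup.relIndex_sup_right (H := M') (K := K), hfr, Subgroup.relIndex_top_right]
    have h2 : Nat.card D = K.index := by
      rw [← card_D H K hlt D hD hDk, Subgroup.index_eq_card]
    rw [h2, h1] at hqd
    exact hqd.trans (Subgroup.relIndex_dvd_card K M')
  obtain ⟨y', hy'⟩ := exists_prime_orderOf_dvd_card' q hqM
  set y : G := (y' : G) with hy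
  have hyo : orderOf y = q := by rw [hy, Subgroup.orderOf_coe, hy']
  have hyM : y ∈ M' := y'.2
  have hy1 : y ≠ 1 := by
    intro h
    rw [h, orderOf_one] at hyo
    exact hq.one_lt.ne hyo
  -- `M' ∩ H = 1`
  have hMH : ∀ f ∈ M', f ∈ H → f = 1 := by
    intro f hfM hfH
    have h1 : f * x * f⁻¹ ∈ RG := (Subgroup.mem_normalizer_iff.1 hfM x).1 hxRG
    have h2 : f * x * f⁻¹ * x⁻¹ ∈ RG := RG.mul_mem h1 (RG.inv_mem hxRG)
    have h3 : f * x * f⁻¹ * x⁻¹ ∈ H := by
      have : f * x * f⁻¹ * x⁻¹ = f * (x * f⁻¹ * x⁻¹) := by group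
      rw [this]
      exact H.mul_mem hfH (hHn.conj_mem f⁻¹ (H.inv_mem hfH) x)
    have h4 := hRH _ h2 h3
    have h5 : x * f = f * x := by
      calc x * f = (f * x * f⁻¹ * x⁻¹)⁻¹ * (f * x) := by group
        _ = f * x := by rw [h4]; group
    exact F1 H K hlt C hC hCk hxK hxH hfH h5
  have hyK : y ∉ K := by
    intro h
    have hyH : y ∈ H := mem_H_of_coprime H K hlt C hC hCk h
      (by rw [hyo]; exact (Nat.Prime.coprime_iff_not_dvd hq).2 hqb)
    exact hy1 (hMH y hyM hyH)
  -- `y` normalizes `⟨x⟩`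
  have hn : y * x * y⁻¹ ∈ Subgroup.zpowers x := by
    obtain ⟨i, hi⟩ := Subgroup.mem_zpowers_iff.1 (hx₀ x₁)
    have h1 : y * (x₀ : G) * y⁻¹ ∈ RG := (Subgroup.mem_normalizer_iff.1 hyM _).1 x₀.2
    obtain ⟨m, hm⟩ := Subgroup.mem_zpowers_iff.1 (hx₀ ⟨_, h1⟩)
    have hi' : (x₀ : G) ^ i = x := by
      have := congrArg Subtype.val hi
      simpa using this
    have hm' : (x₀ : G) ^ m = y * (x₀ : G) * y⁻¹ := by
      have := congrArg Subtype.val hm
      simpa using this
    rw [Subgroup.mem_zpowers_iff]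
    refine ⟨m, ?_⟩
    rw [← hi', ← zpow_mul, mul_comm, zpow_mul, hm', conj_zpow]
  -- the normal `p`-subgroup
  haveI : Group.IsNilpotent (H.subgroupOf K) := (kernel_data C (H.subgroupOf K) hC hCk.symm).2.2
  haveI : Group.IsNilpotent H :=
    Group.nilpotent_of_mulEquiv (Subgroup.subgroupOfEquivOfLe hlt.le)
  obtain ⟨P₀⟩ : Nonempty (Sylow p ↥H) := inferInstance
  haveI hP₀n : (P₀ : Subgroup ↥H).Normal := inferInstance
  haveI hP₀c : (P₀ : Subgroup ↥H).Characteristic := Sylow.characteristic_of_normal P₀ hP₀n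
  set PG : Subgroup G := (P₀ : Subgroup ↥H).map H.subtype with hPG
  haveI hPGn : PG.Normal := ConjAct.normal_of_characteristic_of_normal
  have hPGH : PG ≤ H := by rintro _ ⟨x, -, rfl⟩; exact x.2
  have hPG1 : PG ≠ ⊥ := by
    rw [hPG, Ne, Subgroup.map_eq_bot_iff_of_injective _ H.subtype_injective]
    exact P₀.ne_bot_of_dvd_card hpa
  have hPGp : IsPGroup p PG := P₀.2.map _
  -- the group `F`
  set F : Subgroup G := Subgroup.zpowers x ⊔ Subgroup.zpowers y with hF
  have hFM : F ≤ M' := sup_le (Subgroup.zpowers_le.2 (Subgroup.le_normalizer hxRG))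
    (Subgroup.zpowers_le.2 hyM)
  have hfpfF : ∀ f ∈ F, f ≠ 1 → PG ⊓ Subgroup.centralizer {f} = ⊥ := by
    intro f hfF hf1
    rw [eq_bot_iff]
    intro uu huu
    rw [Subgroup.mem_bot]
    have huP : uu ∈ PG := huu.1
    have hcomm : f * uu = uu * f := Subgroup.mem_centralizer_iff.1 huu.2 f rfl
    by_cases hqf : q ∣ orderOf f
    · by_contra hu1
      apply hno
      obtain ⟨k, hk⟩ := (IsPGroup.iff_orderOf.1 hPGp) ⟨uu, huP⟩
      rw [Subgroup.orderOf_mk] at hk
      have hk0 : k ≠ 0 := by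
        rintro rfl
        rw [pow_zero, orderOf_eq_one_iff] at hk
        exact hu1 hk
      have hpu : p ∣ orderOf uu := by rw [hk]; exact dvd_pow_self p hk0
      exact exists_orderOf_mul_of_commute hp hq hpq uu f hcomm.symm hpu hqf
    · -- `f ∈ K`
      have hle : F ≤ (Subgroup.zpowers (QuotientGroup.mk' K y)).comap (QuotientGroup.mk' K) := by
        refine sup_le (Subgroup.zpowers_le.2 ?_) (Subgroup.zpowers_le.2 ?_)
        · rw [Subgroup.mem_comap]
          have : QuotientGroup.mk' K x = 1 := (QuotientGroup.eq_one_iff x).2 hxK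
          rw [this]; exact Subgroup.one_mem _
        · rw [Subgroup.mem_comap]; exact Subgroup.mem_zpowers _
      obtain ⟨i, hi⟩ := Subgroup.mem_zpowers_iff.1 (Subgroup.mem_comap.1 (hle hfF))
      have h1 : (QuotientGroup.mk' K f) ^ q = 1 := by
        rw [← hi, ← zpow_natCast, ← zpow_mul, mul_comm, zpow_mul, zpow_natCast, ← map_pow,
          ← hyo, pow_orderOf_eq_one, map_one, one_zpow]
      have h2 : orderOf (QuotientGroup.mk' K f) ∣ q := orderOf_dvd_of_pow_eq_one h1
      have h3 : orderOf (QuotientGroup.mk' K f) ∣ orderOf f := orderOf_map_dvd _ f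
      have h4 : orderOf (QuotientGroup.mk' K f) = 1 := by
        rcases (Nat.dvd_prime hq).1 h2 with h | h
        · exact h
        · exact absurd (h ▸ h3) hqf
      have hfK : f ∈ K := (QuotientGroup.eq_one_iff f).1 (orderOf_eq_one_iff.1 h4)
      have hfH : f ∉ H := fun h => hf1 (hMH f (hFM hfF) h)
      exact F1 H K hlt C hC hCk hfK hfH (hPGH huP) hcomm
  have hxy := Cfsg.Agent.Helper1.frobenius_complement_commute_of_normalizes PG F hPG1 hfpfF x y
    ((le_sup_left : Subgroup.zpowers x ≤ F) (Subgroup.mem_zpowers x))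
    ((le_sup_right : Subgroup.zpowers y ≤ F) (Subgroup.mem_zpowers y))
    (hxo ▸ hr) (hyo ▸ hq) hn
  exact hxH (F2 H K hlt D hD hDk hyK hxK hxy.symm)

end main2

/-- Let G be a 2-Frobenius group: it has normal subgroups H < K with K a Frobenius group with kernel H and G/H a Frobenius group with kernel K/H. Then G is solvable; K/H has odd order coprime to the order of H and to the order of G/K (it is the image of an odd-order Hall subgroup); G/K is cyclic; and the prime graph of G has exactly two connected components, both complete: for distinct primes p, q dividing the order of G, G has an element of order pq exactly when p and q either both divide the order of K/H or both do not. -/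
theorem result {G : Type*} [Group G] [Finite G] (H K : Subgroup G) [H.Normal] [K.Normal] (hlt : H < K)
    (hK : ∃ C : Subgroup ↥K, Cfsg.IsFrobeniusComplement C ∧ Cfsg.frobeniusKernel C = (H.subgroupOf K : Set ↥K))
    (hGH : ∃ C : Subgroup (G ⧸ H), Cfsg.IsFrobeniusComplement C ∧ Cfsg.frobeniusKernel C = (K.map (QuotientGroup.mk' H) : Set (G ⧸ H))) :
    Group.IsSolvable G ∧ Odd (Nat.card (↥K ⧸ H.subgroupOf K)) ∧
      Nat.Coprime (Nat.card (↥K ⧸ H.subgroupOf K)) (Nat.card ↥H * Nat.card (G ⧸ K)) ∧ IsCyclic (G ⧸ K) ∧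
      ∀ p q : ℕ, p.Prime → q.Prime → p ≠ q → p ∣ Nat.card G → q ∣ Nat.card G →
        ((∃ g : G, orderOf g = p * q) ↔ (p ∣ Nat.card (↥K ⧸ H.subgroupOf K) ↔ q ∣ Nat.card (↥K ⧸ H.subgroupOf K))) := by
  obtain ⟨C, hC, hCk⟩ := hK
  obtain ⟨D, hD, hDk⟩ := hGH
  rw [card_Q H K hlt C hC hCk, card_D H K hlt D hD hDk]
  refine ⟨solvable_G H K hlt C hC hCk D hD hDk, odd_C H K hlt C hC hCk D hD hDk, ?_,
    isCyclic_GK H K hlt C hC hCk D hD hDk, ?_⟩
  · exact Nat.Coprime.mul_right (coprime_CH H K hlt C hC hCk)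
      (coprime_DC H K hlt C hC hCk D hD hDk).symm
  · intro p q hp hq hpq hpG hqG
    rw [card_G H K hlt C hC hCk D hD hDk] at hpG hqG
    constructor
    · rintro ⟨g, hg⟩
      constructor
      · intro hpb
        by_contra hqb
        exact no_mixed H K hlt C hC hCk D hD hDk hp hq hpb hqb g hg
      · intro hqb
        by_contra hpb
        exact no_mixed H K hlt C hC hCk D hD hDk hq hp hqb hpb g (by rw [hg, mul_comm])
    · intro hiff
      by_cases hpb : p ∣ Nat.card C
      · exact exists_of_C H K hlt C hC hCk D hD hDk hp hq hpq hpb (hiff.1 hpb)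
      · have hqb : ¬ q ∣ Nat.card C := fun h => hpb (hiff.2 h)
        have hp' : p ∣ Nat.card H ∨ p ∣ Nat.card D := by
          rcases (Nat.Prime.dvd_mul hp).1 hpG with h | h
          · rcases (Nat.Prime.dvd_mul hp).1 h with h | h
            · exact Or.inl h
            · exact absurd h hpb
          · exact Or.inr h
        have hq' : q ∣ Nat.card H ∨ q ∣ Nat.card D := by
          rcases (Nat.Prime.dvd_mul hq).1 hqG with h | h
          · rcases (Nat.Prime.dvd_mul hq).1 h with h | h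
            · exact Or.inl h
            · exact absurd h hqb
          · exact Or.inr h
        rcases hp' with hpa | hpd <;> rcases hq' with hqa | hqd
        · exact exists_of_H H K hlt C hC hCk hp hq hpq hpa hqa
        · exact exists_mixed H K hlt C hC hCk D hD hDk hp hq hpq hpa hqd hqb
        · obtain ⟨g, hg⟩ := exists_mixed H K hlt C hC hCk D hD hDk hq hp hpq.symm hqa hpd hpb
          exact ⟨g, by rw [hg, mul_comm]⟩
        · exact exists_of_D H K hlt C hC hCk D hD hDk hp hq hpq hpd hqd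


end Cfsg.Agent.S4001
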