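import Mathlib
import Cfsg.Statements.S3857
import Cfsg.Agent.S4001
import Cfsg.Agent.Helper1.Hall
import Cfsg.Agent.Helper1.ThompsonFPF2
import Cfsg.Agent.Helper1.Fitting
import Cfsg.Agent.Helper1.CoreFree
import Cfsg.Statements.S3857
-- import your own Cfsg.Agent.* helpers here

set_option autoImplicit false
open Cfsg

namespace Cfsg.Agent.S3857
open Cfsg

universe u

open scoped Pointwise

open Cfsg.Agent.S4001 (fpf_of_not_mem kernel_data disjoint_NC N_ne_bot sylow_data zgroup_of_sylow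
  phi phi_apply phi_injective phi_range exists_orderOf_mul_of_commute exists_orderOf_eq_of_dvd)

/-- no commuting nontrivial `m`-element and `n`-element. -/
def Star (m n : ℕ) (X : Type u) [Group X] : Prop :=
  ∀ x y : X, x * y = y * x → x ^ m = 1 → y ^ n = 1 → x = 1 ∨ y = 1

section generic

variable {X : Type u} [Group X] [Finite X]

theorem exists_prime_dvd_orderOf {x : X} (hx : x ≠ 1) : ∃ a : ℕ, a.Prime ∧ a ∣ orderOf x := by
  have : orderOf x ≠ 1 := fun h => hx (orderOf_eq_one_iff.1 h)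
  exact Nat.exists_prime_and_dvd this

theorem star_quot {m n : ℕ} (hcop : m.Coprime n) (N : Subgroup X) [N.Normal]
    (hstar : Star m n X) : Star m n (X ⧸ N) := by
  intro x y hcomm hx hy
  by_contra hcon
  push Not at hcon
  obtain ⟨hx1, hy1⟩ := hcon
  obtain ⟨a, ha, hax⟩ := exists_prime_dvd_orderOf hx1
  obtain ⟨b, hb, hby⟩ := exists_prime_dvd_orderOf hy1
  have ham : a ∣ m := hax.trans (orderOf_dvd_of_pow_eq_one hx)
  have hbn : b ∣ n := hby.trans (orderOf_dvd_of_pow_eq_one hy)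
  have hab : a ≠ b := by
    rintro rfl
    have := Nat.dvd_gcd ham hbn
    rw [hcop] at this
    exact ha.one_lt.ne' (Nat.dvd_one.1 this)
  obtain ⟨z, hz⟩ := exists_orderOf_mul_of_commute ha hb hab x y hcomm hax hby
  obtain ⟨g, rfl⟩ := QuotientGroup.mk'_surjective N z
  obtain ⟨g₁, hg₁⟩ := exists_orderOf_eq_of_dvd g (hz ▸ orderOf_map_dvd _ g)
  have h1 : orderOf (g₁ ^ b) = a := by
    rw [orderOf_pow_of_dvd hb.ne_zero (hg₁ ▸ Dvd.intro_left a rfl), hg₁,
      Nat.mul_div_cancel _ hb.pos]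
  have h2 : orderOf (g₁ ^ a) = b := by
    rw [orderOf_pow_of_dvd ha.ne_zero (hg₁ ▸ Dvd.intro b rfl), hg₁,
      Nat.mul_div_cancel_left _ ha.pos]
  have h3 : (g₁ ^ b) ^ m = 1 := orderOf_dvd_iff_pow_eq_one.1 (h1 ▸ ham)
  have h4 : (g₁ ^ a) ^ n = 1 := orderOf_dvd_iff_pow_eq_one.1 (h2 ▸ hbn)
  rcases hstar (g₁ ^ b) (g₁ ^ a) (Commute.pow_pow (Commute.refl g₁) b a).eq h3 h4 with h | h
  · rw [h, orderOf_one] at h1
    exact ha.one_lt.ne h1
  · rw [h, orderOf_one] at h2
    exact hb.one_lt.ne h2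

/-- a complement acting fixed-point-freely on a normal subgroup is a Frobenius complement with that
kernel. -/
theorem frob_of_fpf (N C : Subgroup X) [hNn : N.Normal] (hc : Subgroup.IsComplement' N C)
    (hN : N ≠ ⊥) (hC : C ≠ ⊥)
    (hfpf : ∀ c ∈ C, c ≠ 1 → ∀ x ∈ N, c * x = x * c → x = 1) :
    Cfsg.IsFrobeniusComplement C ∧ Cfsg.frobeniusKernel C = (N : Set X) := by
  have hF : Cfsg.IsFrobeniusComplement C := by
    rw [Cfsg.Agent.Helper1.frobenius_iff_fpf N C hc hN hC]
    intro h hh h1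
    rw [eq_bot_iff]
    intro x hx
    rw [Subgroup.mem_bot]
    exact hfpf h hh h1 x hx.1 (Subgroup.mem_centralizer_iff.1 hx.2 h rfl)
  refine ⟨hF, ?_⟩
  obtain ⟨N', hN', hN'n, hN'c⟩ := Cfsg.Agent.Helper6.frobenius_kernel_theorem C hF
  have hdisj : N ⊓ C = ⊥ := hc.disjoint.eq_bot
  have hle : N ≤ N' := by
    intro x hx
    have : x ∈ (N' : Set X) := by
      rw [hN']
      by_cases hx1 : x = 1
      · exact Or.inl hx1
      · right
        intro g hg
        rw [Subgroup.mem_pointwise_smul_iff_inv_smul_mem] at hg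
        have h2 : (MulAut.conj g)⁻¹ • x ∈ N := by
          rw [← map_inv, MulAut.smul_def, MulAut.conj_apply]
          have := hNn.conj_mem x hx g⁻¹
          simpa using this
        have h3 : (MulAut.conj g)⁻¹ • x ∈ N ⊓ C := ⟨h2, hg⟩
        rw [hdisj, Subgroup.mem_bot] at h3
        apply hx1
        have h4 : x = MulAut.conj g • ((MulAut.conj g)⁻¹ • x) := (smul_inv_smul _ _).symm
        rw [h4, h3, smul_one]
    exact this
  have hcard : Nat.card N' = Nat.card N := by
    have h1 := hN'c.card_mul_card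
    have h2 := hc.card_mul_card
    have hpos : 0 < Nat.card C := Nat.card_pos
    exact Nat.eq_of_mul_eq_mul_right hpos (h1.trans h2.symm)
  have heq : N = N' := Subgroup.eq_of_le_of_card_ge hle (le_of_eq hcard)
  rw [← hN', heq]

end generic

theorem exists_hall {X : Type u} [Group X] [Finite X] [Group.IsSolvable X] (a b : ℕ)
    (hcard : Nat.card X = a * b) (hcop : a.Coprime b) (K' : Subgroup X)
    (hK' : (Nat.card K').Coprime b) : ∃ H' : Subgroup X, Nat.card H' = a ∧ K' ≤ H' :=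
  ((Cfsg.Agent.Helper1.hallProp_of_solvable (Nat.card X) X rfl) a b hcard hcop).2 K' hK'

theorem pow_card_eq_one_of_dvd {X : Type u} [Group X] [Finite X] {S : Subgroup X} {k : ℕ}
    (hk : Nat.card S ∣ k) {x : X} (hx : x ∈ S) : x ^ k = 1 := by
  have h1 : orderOf x ∣ Nat.card S := Subgroup.orderOf_dvd_natCard S hx
  exact orderOf_dvd_iff_pow_eq_one.1 (h1.trans hk)

section main

variable {G : Type u} [Group G] [Finite G]

theorem main_aux [Group.IsSolvable G] (m n : ℕ) (hcard : Nat.card G = m * n) (hcop : m.Coprime n)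
    (hn1 : n ≠ 1) (hstar : Star m n G) (hH : Cfsg.pPrimeCore n G ≠ ⊥) :
    (∃ C : Subgroup G, Cfsg.IsFrobeniusComplement C) ∨
    (∃ (H K : Subgroup G) (_ : H.Normal), K.Normal ∧ H < K ∧
      (∃ C : Subgroup ↥K, Cfsg.IsFrobeniusComplement C ∧ Cfsg.frobeniusKernel C = (H.subgroupOf K : Set ↥K)) ∧
      (∃ C : Subgroup (G ⧸ H), Cfsg.IsFrobeniusComplement C ∧ Cfsg.frobeniusKernel C = (K.map (QuotientGroup.mk' H) : Set (G ⧸ H)))) := by
  classical
  set H := Cfsg.pPrimeCore n G with hHdef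
  haveI hHn : H.Normal := Cfsg.Agent.Helper1.pPrimeCore_normal n
  have hHcop : (Nat.card H).Coprime n := Cfsg.Agent.Helper1.card_pPrimeCore_coprime n
  have hHm : Nat.card H ∣ m := by
    have h1 : Nat.card H ∣ m * n := hcard ▸ Subgroup.card_subgroup_dvd_card H
    exact Nat.Coprime.dvd_of_dvd_mul_right hHcop h1
  have hm0 : m ≠ 0 := by
    rintro rfl
    rw [zero_mul] at hcard
    exact Nat.card_pos.ne' hcard
  have hn0 : n ≠ 0 := by
    rintro rfl
    rw [mul_zero] at hcard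
    exact Nat.card_pos.ne' hcard
  -- the quotient
  have hGbar : Nat.card (G ⧸ H) * Nat.card H = Nat.card G :=
    (Subgroup.card_eq_card_quotient_mul_card_subgroup H).symm
  obtain ⟨m₁, hm₁⟩ := hHm
  have hGbar' : Nat.card (G ⧸ H) = m₁ * n := by
    have hpos : 0 < Nat.card H := Nat.card_pos
    have : Nat.card (G ⧸ H) * Nat.card H = (m₁ * n) * Nat.card H := by
      rw [hGbar, hcard, hm₁]; ring
    exact Nat.eq_of_mul_eq_mul_right hpos this
  have hm₁m : m₁ ∣ m := ⟨Nat.card H, by rw [hm₁, mul_comm]⟩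
  have hm₁cop : m₁.Coprime n := Nat.Coprime.coprime_dvd_left hm₁m hcop
  have hstar' : Star m n (G ⧸ H) := star_quot hcop H hstar
  haveI : Nontrivial (G ⧸ H) := by
    rw [← Finite.one_lt_card_iff_nontrivial, hGbar']
    have h1 : 0 < m₁ := Nat.pos_of_ne_zero (by rintro rfl; rw [mul_zero] at hm₁; exact hm0 hm₁)
    have h2 : 1 < n := by omega
    calc 1 < n := h2
      _ ≤ m₁ * n := Nat.le_mul_of_pos_left n h1
  -- `K̄`
  set Kb : Subgroup (G ⧸ H) := Cfsg.pPrimeCore m (G ⧸ H) with hKbdef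
  haveI hKbn : Kb.Normal := Cfsg.Agent.Helper1.pPrimeCore_normal m
  have hKbcop : (Nat.card Kb).Coprime m := Cfsg.Agent.Helper1.card_pPrimeCore_coprime m
  have hKbne : Kb ≠ ⊥ := by
    obtain ⟨s, hs, Nb, hNbn, hNbne, hNbp, -, -⟩ :=
      Cfsg.Agent.Helper1.exists_minimal_normal_abelian (G ⧸ H)
    obtain ⟨j, hj⟩ := IsPGroup.iff_card.1 hNbp
    by_cases hsm : s ∣ m
    · exfalso
      have hsn : ¬ s ∣ n := by
        intro h
        have := Nat.dvd_gcd hsm h
        rw [hcop] at this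
        exact hs.out.one_lt.ne' (Nat.dvd_one.1 this)
      have h1 : (Nat.card Nb).Coprime n := by
        rw [hj]; exact Nat.Coprime.pow_left j ((Nat.Prime.coprime_iff_not_dvd hs.out).2 hsn)
      have h2 : (Nat.card (Nb.comap (QuotientGroup.mk' H))).Coprime n := by
        rw [Cfsg.Agent.Helper1.card_comap_mk']
        exact Nat.Coprime.mul_left h1 hHcop
      have h3 : Nb.comap (QuotientGroup.mk' H) ≤ H :=
        Cfsg.Agent.Helper1.le_pPrimeCore (hNbn.comap _) h2
      apply hNbne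
      rw [eq_bot_iff]
      intro x hx
      obtain ⟨g, rfl⟩ := QuotientGroup.mk'_surjective H x
      have : g ∈ H := h3 (Subgroup.mem_comap.2 hx)
      rw [Subgroup.mem_bot, QuotientGroup.mk'_apply, QuotientGroup.eq_one_iff]
      exact this
    · have h1 : (Nat.card Nb).Coprime m := by
        rw [hj]; exact Nat.Coprime.pow_left j ((Nat.Prime.coprime_iff_not_dvd hs.out).2 hsm)
      have h2 : Nb ≤ Kb := Cfsg.Agent.Helper1.le_pPrimeCore hNbn h1
      intro h
      rw [h, le_bot_iff] at h2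
      exact hNbne h2
  -- `K`
  set K : Subgroup G := Kb.comap (QuotientGroup.mk' H) with hKdef
  haveI hKn : K.Normal := hKbn.comap _
  have hHK : H ≤ K := by
    intro x hx
    rw [hKdef, Subgroup.mem_comap, QuotientGroup.mk'_apply, (QuotientGroup.eq_one_iff x).2 hx]
    exact Kb.one_mem
  have hKmap : K.map (QuotientGroup.mk' H) = Kb :=
    Subgroup.map_comap_eq_self_of_surjective (QuotientGroup.mk'_surjective H) Kb
  have hlt : H < K := by
    refine lt_of_le_of_ne hHK ?_
    intro h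
    apply hKbne
    rw [← hKmap, ← h, eq_bot_iff]
    rintro _ ⟨x, hx, rfl⟩
    rw [Subgroup.mem_bot, QuotientGroup.mk'_apply, QuotientGroup.eq_one_iff]
    exact hx
  have hKcard : Nat.card K = Nat.card Kb * Nat.card H := Cfsg.Agent.Helper1.card_comap_mk' H Kb
  set n₀ := Nat.card Kb with hn₀
  have hn₀n : n₀ ∣ n := by
    have h1 : n₀ ∣ m₁ * n := hGbar' ▸ Subgroup.card_subgroup_dvd_card Kb
    have h2 : n₀.Coprime m₁ := Nat.Coprime.coprime_dvd_right hm₁m hKbcop
    exact Nat.Coprime.dvd_of_dvd_mul_left h2 h1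
  have hn₀1 : n₀ ≠ 1 := fun h => hKbne (Subgroup.card_eq_one.1 h)
  have hn₀H : n₀.Coprime (Nat.card H) := Nat.Coprime.coprime_dvd_left hn₀n hHcop.symm
  -- Hall subgroup of `K`
  obtain ⟨C, hCcard, -⟩ := exists_hall (X := ↥K) n₀ (Nat.card H) hKcard hn₀H ⊥
    (by rw [Subgroup.card_bot]; exact Nat.coprime_one_left _)
  have hsubcard : Nat.card (H.subgroupOf K) = Nat.card H :=
    Cfsg.Agent.Helper1.card_subgroupOf_of_le hHK
  haveI hsubn : (H.subgroupOf K).Normal := inferInstance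
  have hcompl : Subgroup.IsComplement' (H.subgroupOf K) C :=
    Subgroup.isComplement'_of_coprime (by rw [hsubcard, hCcard, mul_comm]; exact hKcard.symm)
      (by rw [hsubcard, hCcard]; exact hn₀H.symm)
  have hsubne : H.subgroupOf K ≠ ⊥ := by
    intro h
    have h1 := hsubcard
    rw [h, Subgroup.card_bot] at h1
    exact hH (Subgroup.card_eq_one.1 h1.symm)
  have hCne : C ≠ ⊥ := by
    intro h
    rw [h, Subgroup.card_bot] at hCcard
    exact hn₀1 hCcard.symm
  have hCfpf : ∀ c ∈ C, c ≠ 1 → ∀ x ∈ H.subgroupOf K, c * x = x * c → x = 1 := by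
    intro c hc hc1 x hx hcomm
    have h1 : ((x : ↥K) : G) ^ m = 1 :=
      pow_card_eq_one_of_dvd ⟨m₁, hm₁⟩ (Subgroup.mem_subgroupOf.1 hx)
    have h2 : c ^ n = 1 := pow_card_eq_one_of_dvd (hCcard ▸ hn₀n) hc
    have h2' : ((c : ↥K) : G) ^ n = 1 := by
      have := congrArg Subtype.val h2
      simpa using this
    have h3 : ((x : ↥K) : G) * (c : G) = (c : G) * (x : G) := by
      have := congrArg Subtype.val hcomm
      simpa using this.symm
    rcases hstar _ _ h3 h1 h2' with h | h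
    · exact Subtype.ext h
    · exact absurd (Subtype.ext h) hc1
  obtain ⟨hCF, hCker⟩ := frob_of_fpf (H.subgroupOf K) C hcompl hsubne hCne hCfpf
  by_cases hKtop : K = ⊤
  · -- Frobenius group
    left
    refine ⟨C.map K.subtype, ?_⟩
    have hc2 : Subgroup.IsComplement' H (C.map K.subtype) := by
      refine Subgroup.isComplement'_of_coprime ?_ ?_
      · rw [Cfsg.Agent.Helper1.card_map_subtype, hCcard, mul_comm, ← hKcard, hKtop,
          Subgroup.card_top]
      · rw [Cfsg.Agent.Helper1.card_map_subtype, hCcard]; exact hn₀H.symm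
    have hne2 : C.map K.subtype ≠ ⊥ := by
      rw [Ne, Subgroup.map_eq_bot_iff_of_injective _ K.subtype_injective]
      exact hCne
    refine (frob_of_fpf H (C.map K.subtype) hc2 hH hne2 ?_).1
    rintro _ ⟨c, hc, rfl⟩ hc1 x hx hcomm
    have h1 : x ^ m = 1 := pow_card_eq_one_of_dvd ⟨m₁, hm₁⟩ hx
    have h2 : c ^ n = 1 := pow_card_eq_one_of_dvd (hCcard ▸ hn₀n) hc
    have h2' : ((c : ↥K) : G) ^ n = 1 := by
      have := congrArg Subtype.val h2
      simpa using this
    rcases hstar _ _ hcomm.symm h1 h2' with h | h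
    · exact h
    · exact absurd h hc1
  -- now `K ≠ ⊤`
  right
  have hm₁1 : m₁ ≠ 1 := by
    rintro rfl
    apply hKtop
    have h1 : (Nat.card (⊤ : Subgroup (G ⧸ H))).Coprime m := by
      rw [Subgroup.card_top, hGbar', one_mul]; exact hcop.symm
    have h2 : (⊤ : Subgroup (G ⧸ H)) ≤ Kb := Cfsg.Agent.Helper1.le_pPrimeCore inferInstance h1
    rw [eq_top_iff]
    intro x _
    rw [hKdef, Subgroup.mem_comap]
    exact h2 (Subgroup.mem_top _)
  obtain ⟨Ab, hAbcard, -⟩ := exists_hall (X := G ⧸ H) m₁ n hGbar' hm₁cop ⊥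
    (by rw [Subgroup.card_bot]; exact Nat.coprime_one_left _)
  have hAbne : Ab ≠ ⊥ := by
    intro h
    rw [h, Subgroup.card_bot] at hAbcard
    exact hm₁1 hAbcard.symm
  have hfpfbar : ∀ a ∈ Ab, a ≠ 1 → ∀ k ∈ Kb, a * k = k * a → k = 1 := by
    intro a ha ha1 k hk hcomm
    have h1 : a ^ m = 1 := pow_card_eq_one_of_dvd (hAbcard ▸ hm₁m) ha
    have h2 : k ^ n = 1 := pow_card_eq_one_of_dvd hn₀n hk
    rcases hstar' a k hcomm h1 h2 with h | h
    · exact absurd h ha1
    · exact h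
  -- Thompson: `Kb` is nilpotent
  have hKbnil : Group.IsNilpotent Kb := by
    obtain ⟨s, hs, hsm⟩ := Nat.exists_prime_and_dvd hm₁1
    haveI := Fact.mk hs
    obtain ⟨a, ha⟩ := exists_prime_orderOf_dvd_card' s (hAbcard ▸ hsm)
    have ha1 : (a : G ⧸ H) ≠ 1 := by
      intro h
      have : a = 1 := Subtype.ext h
      rw [this, orderOf_one] at ha
      exact hs.one_lt.ne ha
    set φ : Kb ≃* Kb := MulAut.conjNormal (a : G ⧸ H) with hφ
    have hfix : MonoidHom.FixedPointFree (φ : Kb →* Kb) := by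
      intro k hk
      have h1 : (a : G ⧸ H) * (k : G ⧸ H) * (a : G ⧸ H)⁻¹ = k := by
        have := congrArg Subtype.val hk
        simpa [hφ] using this
      have h2 : (a : G ⧸ H) * (k : G ⧸ H) = k * a := by
        calc (a : G ⧸ H) * (k : G ⧸ H) = ((a : G ⧸ H) * k * (a : G ⧸ H)⁻¹) * a := by group
          _ = k * a := by rw [h1]
      exact Subtype.ext (hfpfbar a a.2 ha1 k k.2 h2)
    have hpow : φ ^ s = 1 := by
      rw [hφ, ← map_pow]
      have : (a : G ⧸ H) ^ s = 1 := by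
        have h1 := pow_orderOf_eq_one a
        rw [ha] at h1
        have := congrArg Subtype.val h1
        simpa using this
      rw [this, map_one]
    have hne : φ ≠ 1 := by
      intro h
      apply hKbne
      rw [eq_bot_iff]
      intro k hk
      have h1 : φ ⟨k, hk⟩ = ⟨k, hk⟩ := by rw [h]; rfl
      have h2 := hfix ⟨k, hk⟩ h1
      rw [Subgroup.mem_bot]
      exact congrArg Subtype.val h2
    exact Cfsg.Agent.Helper1.TFPF.thompson_fpf φ hfix s hs (orderOf_eq_prime hpow hne)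
  -- the isomorphism `C ≃ Kb`
  have hinj := phi_injective H K hlt C hCF hCker
  have hrange : (phi H K C).range = Kb := by rw [phi_range H K hlt C hCF hCker, hKmap]
  -- `|Kb|` is odd
  have hodd : Odd (Nat.card C) := by
    by_contra hnot
    have heven : 2 ∣ Nat.card C := even_iff_two_dvd.1 (Nat.not_odd_iff_even.1 hnot)
    obtain ⟨⟨s, hsC, hs2, huniq, -⟩, -⟩ :=
      Cfsg.Agent.Helper1.frobenius_even_complement (H.subgroupOf K) C hsubne
        (Cfsg.Agent.S4001.hfpf C (H.subgroupOf K) hCF hCker.symm) heven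
    set t := phi H K C ⟨s, hsC⟩ with ht
    have hs1 : (⟨s, hsC⟩ : C) ≠ 1 := by
      intro h
      have : s = 1 := congrArg Subtype.val h
      rw [this, orderOf_one] at hs2
      norm_num at hs2
    have ht1 : t ≠ 1 := by
      intro h
      rw [ht, ← map_one (phi H K C)] at h
      exact hs1 (hinj h)
    have htK : t ∈ Kb := by rw [← hrange]; exact ⟨_, rfl⟩
    have hss : s * s = 1 := by
      have := pow_orderOf_eq_one s
      rwa [hs2, pow_two] at this
    have htt : t * t = 1 := by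
      rw [ht, ← map_mul]
      have : (⟨s, hsC⟩ : C) * ⟨s, hsC⟩ = 1 := Subtype.ext hss
      rw [this, map_one]
    have huniq' : ∀ w ∈ Kb, w * w = 1 → w ≠ 1 → w = t := by
      intro w hw hww hw1
      rw [← hrange] at hw
      obtain ⟨c', rfl⟩ := hw
      have hc2 : c' * c' = 1 := by
        apply hinj
        rw [map_mul, hww, map_one]
      have hc1 : c' ≠ 1 := by
        intro h
        rw [h, map_one] at hw1
        exact hw1 rfl
      have hc'o : orderOf (c' : ↥K) = 2 := by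
        refine orderOf_eq_prime ?_ ?_
        · rw [pow_two]; exact congrArg Subtype.val hc2
        · intro h; exact hc1 (Subtype.ext h)
      have hc's : (c' : ↥K) = s := huniq _ c'.2 hc'o
      have hc'' : c' = ⟨s, hsC⟩ := Subtype.ext hc's
      rw [hc'']
    obtain ⟨a, haA, ha1⟩ := (Ab.bot_or_exists_ne_one).resolve_left hAbne
    have hconj : a * t * a⁻¹ = t := by
      refine huniq' _ (hKbn.conj_mem t htK a) ?_ ?_
      · calc a * t * a⁻¹ * (a * t * a⁻¹) = a * (t * t) * a⁻¹ := by group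
          _ = 1 := by rw [htt]; group
      · intro h
        apply ht1
        calc t = a⁻¹ * (a * t * a⁻¹) * a := by group
          _ = 1 := by rw [h]; group
    have hcomm : a * t = t * a := by
      calc a * t = (a * t * a⁻¹) * a := by group
        _ = t * a := by rw [hconj]
    exact ht1 (hfpfbar a haA ha1 t htK hcomm)
  -- `Kb` is cyclic
  have hCcyc : IsCyclic C := by
    haveI : IsZGroup C := zgroup_of_sylow C
      (fun p _ P => sylow_data C (H.subgroupOf K) hCF hCker.symm p P) (Or.inl hodd)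
    haveI : Group.IsNilpotent (phi H K C).range := by
      rw [hrange]; exact hKbnil
    haveI : Group.IsNilpotent C := Group.nilpotent_of_mulEquiv (MonoidHom.ofInjective hinj).symm
    infer_instance
  have hKbcyc : IsCyclic Kb := by
    rw [← hrange]
    exact isCyclic_of_surjective (phi H K C).rangeRestrict (phi H K C).rangeRestrict_surjective
  obtain ⟨g₀, hg₀⟩ := IsCyclic.exists_generator (α := Kb)
  have hgen : ∀ k ∈ Kb, ∃ i : ℤ, (g₀ : G ⧸ H) ^ i = k := by
    intro k hk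
    obtain ⟨i, hi⟩ := Subgroup.mem_zpowers_iff.1 (hg₀ ⟨k, hk⟩)
    refine ⟨i, ?_⟩
    have := congrArg Subtype.val hi
    simpa using this
  have hg₀1 : (g₀ : G ⧸ H) ≠ 1 := by
    intro h
    apply hKbne
    rw [eq_bot_iff]
    intro k hk
    obtain ⟨i, hi⟩ := hgen k hk
    rw [h, one_zpow] at hi
    rw [Subgroup.mem_bot, ← hi]
  have hg₀n : (g₀ : G ⧸ H) ^ n = 1 := pow_card_eq_one_of_dvd hn₀n g₀.2
  -- the centralizer of `Kb` lies in `Kb`
  have hcent : ∀ z : G ⧸ H, z * (g₀ : G ⧸ H) = (g₀ : G ⧸ H) * z → z ∈ Kb := by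
    set Cb : Subgroup (G ⧸ H) := Subgroup.centralizer (Kb : Set (G ⧸ H)) with hCb
    haveI hCbn : Cb.Normal := Subgroup.normal_centralizer
    have hCbcop : (Nat.card Cb).Coprime m := by
      refine Nat.coprime_of_dvd ?_
      intro a ha haC ham
      haveI := Fact.mk ha
      obtain ⟨x, hx⟩ := exists_prime_orderOf_dvd_card' a haC
      have hx1 : (x : G ⧸ H) ≠ 1 := by
        intro h
        have : x = 1 := Subtype.ext h
        rw [this, orderOf_one] at hx
        exact ha.one_lt.ne hx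
      have hxm : (x : G ⧸ H) ^ m = 1 := by
        have h1 : orderOf (x : G ⧸ H) = a := by rw [Subgroup.orderOf_coe, hx]
        exact orderOf_dvd_iff_pow_eq_one.1 (h1 ▸ ham)
      have hcomm : (x : G ⧸ H) * (g₀ : G ⧸ H) = (g₀ : G ⧸ H) * x :=
        (Subgroup.mem_centralizer_iff.1 x.2 g₀ g₀.2).symm
      rcases hstar' _ _ hcomm hxm hg₀n with h | h
      · exact hx1 h
      · exact hg₀1 h
    have hCbK : Cb ≤ Kb := Cfsg.Agent.Helper1.le_pPrimeCore hCbn hCbcop
    intro z hz
    apply hCbK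
    rw [hCb, Subgroup.mem_centralizer_iff]
    intro k hk
    obtain ⟨i, hi⟩ := hgen k hk
    rw [← hi]
    exact ((Commute.zpow_right (show Commute z (g₀ : G ⧸ H) from hz) i).eq).symm
  -- commutators lie in `Kb`
  have hconj : ∀ w : G ⧸ H, ∃ i : ℤ, w * (g₀ : G ⧸ H) * w⁻¹ = (g₀ : G ⧸ H) ^ i := by
    intro w
    obtain ⟨i, hi⟩ := hgen _ (hKbn.conj_mem _ g₀.2 w)
    exact ⟨i, hi.symm⟩
  have hcommK : ∀ x y : G ⧸ H, (y * x)⁻¹ * (x * y) ∈ Kb := by
    intro x y
    obtain ⟨i, hi⟩ := hconj x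
    obtain ⟨j, hj⟩ := hconj y
    have h1 : (x * y) * (g₀ : G ⧸ H) * (x * y)⁻¹ = (g₀ : G ⧸ H) ^ (i * j) := by
      calc (x * y) * (g₀ : G ⧸ H) * (x * y)⁻¹
          = x * (y * g₀ * y⁻¹) * x⁻¹ := by group
        _ = x * ((g₀ : G ⧸ H) ^ j) * x⁻¹ := by rw [hj]
        _ = (x * g₀ * x⁻¹) ^ j := by rw [conj_zpow]
        _ = (g₀ : G ⧸ H) ^ (i * j) := by rw [hi, zpow_mul]
    have h2 : (y * x) * (g₀ : G ⧸ H) * (y * x)⁻¹ = (g₀ : G ⧸ H) ^ (i * j) := by
      calc (y * x) * (g₀ : G ⧸ H) * (y * x)⁻¹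
          = y * (x * g₀ * x⁻¹) * y⁻¹ := by group
        _ = y * ((g₀ : G ⧸ H) ^ i) * y⁻¹ := by rw [hi]
        _ = (y * g₀ * y⁻¹) ^ i := by rw [conj_zpow]
        _ = (g₀ : G ⧸ H) ^ (i * j) := by rw [hj, mul_comm i j, zpow_mul]
    apply hcent
    have h3 : (x * y) * (g₀ : G ⧸ H) * (x * y)⁻¹ = (y * x) * (g₀ : G ⧸ H) * (y * x)⁻¹ := by
      rw [h1, h2]
    calc (y * x)⁻¹ * (x * y) * (g₀ : G ⧸ H)
        = (y * x)⁻¹ * ((x * y) * (g₀ : G ⧸ H) * (x * y)⁻¹) * (x * y) := by group
      _ = (g₀ : G ⧸ H) * ((y * x)⁻¹ * (x * y)) := by rw [h3]; group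
  -- a Hall subgroup of order `n` containing `Kb` is normal, hence equals `Kb`
  have hGbar'' : Nat.card (G ⧸ H) = n * m₁ := by rw [hGbar', mul_comm]
  obtain ⟨Bb, hBbcard, hKbBb⟩ := exists_hall (X := G ⧸ H) n m₁ hGbar'' hm₁cop.symm Kb
    (Nat.Coprime.coprime_dvd_right hm₁m hKbcop)
  have hBbn : Bb.Normal := by
    refine ⟨fun b hb g => ?_⟩
    have h2 : g * b * g⁻¹ = (g * b * g⁻¹ * b⁻¹) * b := by group
    have h3 : g * b * g⁻¹ * b⁻¹ = (b⁻¹ * g⁻¹)⁻¹ * (g⁻¹ * b⁻¹) := by group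
    rw [h2]
    refine Bb.mul_mem (hKbBb ?_) hb
    rw [h3]
    exact hcommK _ _
  have hBbK : Bb ≤ Kb := Cfsg.Agent.Helper1.le_pPrimeCore hBbn (by rw [hBbcard]; exact hcop.symm)
  have hKbeq : Kb = Bb := le_antisymm hKbBb hBbK
  have hKbcard : Nat.card Kb = n := by rw [hKbeq, hBbcard]
  have hcompl2 : Subgroup.IsComplement' Kb Ab :=
    Subgroup.isComplement'_of_coprime (by rw [hKbcard, hAbcard, hGbar', mul_comm])
      (by rw [hKbcard, hAbcard]; exact hm₁cop.symm)
  obtain ⟨hAF, hAker⟩ := frob_of_fpf Kb Ab hcompl2 hKbne hAbne hfpfbar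
  exact ⟨H, K, hHn, hKn, hlt, ⟨C, hCF, hCker⟩, ⟨Ab, hAF, by rw [hAker, hKmap]⟩⟩

end main

/-- A finite solvable group whose prime graph (prime divisors of the order, two distinct primes joined when there is an element of order their product) is disconnected is a Frobenius group or a 2-Frobenius group (it has normal subgroups H < K with K a Frobenius group with kernel H and G/H a Frobenius group with kernel K/H). -/
theorem result {G : Type*} [Group G] [Finite G] (hsol : Group.IsSolvable G)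
    (hdisc : (∃ A : Set ℕ, (∃ a ∈ A, a.Prime ∧ a ∣ Nat.card G) ∧ (∃ b ∉ A, b.Prime ∧ b ∣ Nat.card G) ∧
      ∀ a ∈ A, ∀ b ∉ A, a.Prime → b.Prime → a ∣ Nat.card G → b ∣ Nat.card G → ¬ ∃ g : G, orderOf g = a * b)) :
    (∃ C : Subgroup G, Cfsg.IsFrobeniusComplement C) ∨
    (∃ (H K : Subgroup G) (_ : H.Normal), K.Normal ∧ H < K ∧
      (∃ C : Subgroup ↥K, Cfsg.IsFrobeniusComplement C ∧ Cfsg.frobeniusKernel C = (H.subgroupOf K : Set ↥K)) ∧
      (∃ C : Subgroup (G ⧸ H), Cfsg.IsFrobeniusComplement C ∧ Cfsg.frobeniusKernel C = (K.map (QuotientGroup.mk' H) : Set (G ⧸ H)))) := by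
  classical
  obtain ⟨A, ⟨a₀, ha₀A, ha₀p, ha₀d⟩, ⟨b₀, hb₀A, hb₀p, hb₀d⟩, hno⟩ := hdisc
  have hN0 : Nat.card G ≠ 0 := Nat.card_pos.ne'
  set m := ∏ p ∈ (Nat.card G).primeFactors.filter (· ∈ A), p ^ (Nat.card G).factorization p with hm
  set n := ∏ p ∈ (Nat.card G).primeFactors.filter (· ∉ A), p ^ (Nat.card G).factorization p with hn
  have hmn : Nat.card G = m * n := by
    rw [hm, hn, Finset.prod_filter_mul_prod_filter_not]
    have := Nat.factorization_prod_pow_eq_self hN0
    rw [Finsupp.prod, Nat.support_factorization] at this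
    exact this.symm
  have hmA : ∀ q : ℕ, q.Prime → q ∣ m → q ∈ A := by
    intro q hq hqm
    obtain ⟨p, hp, hqp⟩ := (Prime.dvd_finset_prod_iff hq.prime _).1 hqm
    rw [Finset.mem_filter] at hp
    have hpp : p.Prime := Nat.prime_of_mem_primeFactors hp.1
    have : q = p := (Nat.prime_dvd_prime_iff_eq hq hpp).1 (hq.dvd_of_dvd_pow hqp)
    rw [this]; exact hp.2
  have hnA : ∀ q : ℕ, q.Prime → q ∣ n → q ∉ A := by
    intro q hq hqn
    obtain ⟨p, hp, hqp⟩ := (Prime.dvd_finset_prod_iff hq.prime _).1 hqn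
    rw [Finset.mem_filter] at hp
    have hpp : p.Prime := Nat.prime_of_mem_primeFactors hp.1
    have : q = p := (Nat.prime_dvd_prime_iff_eq hq hpp).1 (hq.dvd_of_dvd_pow hqp)
    rw [this]; exact hp.2
  have hcop : m.Coprime n := Nat.coprime_of_dvd (fun k hk hkm hkn => hnA k hk hkn (hmA k hk hkm))
  have hm1 : m ≠ 1 := by
    intro h
    have h1 : a₀ ∣ m * n := hmn ▸ ha₀d
    rw [h, one_mul] at h1
    exact hnA a₀ ha₀p h1 ha₀A
  have hn1 : n ≠ 1 := by
    intro h
    have h1 : b₀ ∣ m * n := hmn ▸ hb₀d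
    rw [h, mul_one] at h1
    exact hb₀A (hmA b₀ hb₀p h1)
  have hstar : Star m n G := by
    intro x y hcomm hx hy
    by_contra hcon
    push Not at hcon
    obtain ⟨hx1, hy1⟩ := hcon
    obtain ⟨a, ha, hax⟩ := exists_prime_dvd_orderOf hx1
    obtain ⟨b, hb, hby⟩ := exists_prime_dvd_orderOf hy1
    have ham : a ∣ m := hax.trans (orderOf_dvd_of_pow_eq_one hx)
    have hbn : b ∣ n := hby.trans (orderOf_dvd_of_pow_eq_one hy)
    have haA : a ∈ A := hmA a ha ham
    have hbA : b ∉ A := hnA b hb hbn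
    have hab : a ≠ b := by rintro rfl; exact hbA haA
    have had : a ∣ Nat.card G := hax.trans (orderOf_dvd_natCard x)
    have hbd : b ∣ Nat.card G := hby.trans (orderOf_dvd_natCard y)
    exact hno a haA b hbA ha hb had hbd
      (exists_orderOf_mul_of_commute ha hb hab x y hcomm hax hby)
  have hstar2 : Star n m G := by
    intro x y hcomm hx hy
    exact (hstar y x hcomm.symm hy hx).symm
  haveI : Nontrivial G := by
    rw [← Finite.one_lt_card_iff_nontrivial, hmn]
    have h1 : 0 < m := Nat.pos_of_ne_zero (by rintro h; rw [h, zero_mul] at hmn; exact hN0 hmn)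
    have h2 : 0 < n := Nat.pos_of_ne_zero (by rintro h; rw [h, mul_zero] at hmn; exact hN0 hmn)
    have h3 : 2 ≤ m := by omega
    have h4 : 2 ≤ n := by omega
    nlinarith
  obtain ⟨s, hs, T, hTn, hTne, hTp, -, -⟩ := Cfsg.Agent.Helper1.exists_minimal_normal_abelian G
  obtain ⟨j, hj⟩ := IsPGroup.iff_card.1 hTp
  by_cases hsn : s ∣ n
  · have hsm : ¬ s ∣ m := by
      intro h
      have := Nat.dvd_gcd h hsn
      rw [hcop] at this
      exact hs.out.one_lt.ne' (Nat.dvd_one.1 this)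
    have h1 : (Nat.card T).Coprime m := by
      rw [hj]; exact Nat.Coprime.pow_left j ((Nat.Prime.coprime_iff_not_dvd hs.out).2 hsm)
    have h2 : T ≤ Cfsg.pPrimeCore m G := Cfsg.Agent.Helper1.le_pPrimeCore hTn h1
    have h3 : Cfsg.pPrimeCore m G ≠ ⊥ := by
      intro h
      rw [h, le_bot_iff] at h2
      exact hTne h2
    exact main_aux n m (by rw [hmn, mul_comm]) hcop.symm hm1 hstar2 h3
  · have h1 : (Nat.card T).Coprime n := by
      rw [hj]; exact Nat.Coprime.pow_left j ((Nat.Prime.coprime_iff_not_dvd hs.out).2 hsn)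
    have h2 : T ≤ Cfsg.pPrimeCore n G := Cfsg.Agent.Helper1.le_pPrimeCore hTn h1
    have h3 : Cfsg.pPrimeCore n G ≠ ⊥ := by
      intro h
      rw [h, le_bot_iff] at h2
      exact hTne h2
    exact main_aux m n hmn hcop hn1 hstar h3


end Cfsg.Agent.S3857
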