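import Mathlib
import Cfsg.Statements.S3859
import Cfsg.Agent.Helper1.Subnormal
import Cfsg.Agent.Helper1.Basic
import Cfsg.Statements.S3859
-- import your own Cfsg.Agent.* helpers here

set_option autoImplicit false
open Cfsg

namespace Cfsg.Agent.S3859
open Cfsg
universe u

variable {G : Type u} [Group G] [Finite G]

/-- The normalizer of `R ∩ T` is proper. -/
theorem normalizer_ne_top (T : Subgroup G) [T.Normal] (hT : IsSimpleGroup T)
    (hna : ¬ IsMulCommutative T) {r : ℕ} [Fact r.Prime] (R : Sylow r G)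
    (hR0 : (R : Subgroup G) ⊓ T ≠ ⊥) :
    Subgroup.normalizer (((R : Subgroup G) ⊓ T : Subgroup G) : Set G) ≠ ⊤ := by
  intro htop
  have hDn : ((R : Subgroup G) ⊓ T).Normal := Subgroup.normalizer_eq_top_iff.1 htop
  have hDn' : (((R : Subgroup G) ⊓ T).subgroupOf T).Normal := hDn.subgroupOf T
  rcases hT.eq_bot_or_eq_top_of_normal _ hDn' with h1 | h1
  · apply hR0
    rw [Subgroup.subgroupOf_eq_bot] at h1
    exact disjoint_self.1 (h1.mono_right inf_le_right) |>.symm ▸ rfl
  · rw [Subgroup.subgroupOf_eq_top] at h1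
    have hTR : T ≤ (R : Subgroup G) := h1.trans inf_le_left
    have hTp : IsPGroup r T := R.2.to_le hTR
    have hnt : Nontrivial T := hT.toNontrivial
    have hcen : Nontrivial (Subgroup.center T) := hTp.center_nontrivial
    have hcn : (Subgroup.center T).Normal := inferInstance
    rcases hT.eq_bot_or_eq_top_of_normal _ hcn with h2 | h2
    · rw [Subgroup.nontrivial_iff_ne_bot] at hcen
      exact hcen h2
    · apply hna
      refine ⟨⟨fun a b => ?_⟩⟩
      have : b ∈ Subgroup.center T := by rw [h2]; trivial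
      exact (Subgroup.mem_center_iff.1 this a)

/-- Let G be a finite group with a normal non-abelian simple subgroup T whose centralizer is trivial (G almost simple with socle T), r a prime and R a Sylow r-subgroup of G meeting T nontrivially. If R lies in exactly one maximal subgroup of G, then G/T is an r-group. -/
theorem result {G : Type*} [Group G] [Finite G] (T : Subgroup G) [T.Normal] (hT : IsSimpleGroup T) (hna : ¬ IsMulCommutative T)
    (hC : Subgroup.centralizer (T : Set G) = ⊥) {r : ℕ} [Fact r.Prime] (R : Sylow r G) (hR0 : (R : Subgroup G) ⊓ T ≠ ⊥)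
    (huniq : ∃! M : Subgroup G, IsCoatom M ∧ (R : Subgroup G) ≤ M) : IsPGroup r (G ⧸ T) := by
  obtain ⟨M, ⟨hMco, hRM⟩, hMuniq⟩ := huniq
  have hNtop := normalizer_ne_top T hT hna R hR0
  have hRN : (R : Subgroup G) ≤ Subgroup.normalizer (((R : Subgroup G) ⊓ T : Subgroup G) : Set G) :=
    Cfsg.Agent.Helper1.le_normalizer_inf_normal _ T
  -- the normalizer lies in M
  have hNM : Subgroup.normalizer (((R : Subgroup G) ⊓ T : Subgroup G) : Set G) ≤ M := by
    rcases eq_top_or_exists_le_coatom
      (Subgroup.normalizer (((R : Subgroup G) ⊓ T : Subgroup G) : Set G)) with h | ⟨M', hM', hle⟩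
    · exact absurd h hNtop
    · have := hMuniq M' ⟨hM', hRN.trans hle⟩
      rw [← this]; exact hle
  -- Frattini
  obtain ⟨Q, hQ⟩ := Cfsg.Agent.Helper1.sylow_inf_subnormal r T
    (Subgroup.Normal.isSubnormal inferInstance) R
  have hQmap : (Q : Subgroup T).map T.subtype = (R : Subgroup G) ⊓ T := by
    rw [hQ, Subgroup.subgroupOf_map_subtype]
  have hfr := Sylow.normalizer_sup_eq_top Q
  rw [hQmap] at hfr
  have hRT : (R : Subgroup G) ⊔ T = ⊤ := by
    rcases eq_top_or_exists_le_coatom ((R : Subgroup G) ⊔ T) with h | ⟨M', hM', hle⟩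
    · exact h
    · exfalso
      have h1 := hMuniq M' ⟨hM', le_sup_left.trans hle⟩
      rw [h1] at hle
      have hTM : T ≤ M := le_sup_right.trans hle
      have : (⊤ : Subgroup G) ≤ M := by
        rw [← hfr]; exact sup_le hNM hTM
      exact hMco.1 (top_le_iff.1 this)
  intro q
  obtain ⟨g, rfl⟩ := QuotientGroup.mk'_surjective T q
  have hg : g ∈ (R : Subgroup G) ⊔ T := by rw [hRT]; trivial
  obtain ⟨a, ha, t, ht, rfl⟩ := Subgroup.mem_sup_of_normal_right.1 hg
  obtain ⟨k, hk⟩ := R.2 ⟨a, ha⟩
  refine ⟨k, ?_⟩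
  have h1 : (QuotientGroup.mk' T) (a * t) = (QuotientGroup.mk' T) a := by
    have h0 : (QuotientGroup.mk' T) t = 1 := (QuotientGroup.eq_one_iff t).2 ht
    rw [map_mul, h0, mul_one]
  rw [h1, ← map_pow]
  have h2 : a ^ r ^ k = 1 := congrArg Subtype.val hk
  rw [h2, map_one]


end Cfsg.Agent.S3859
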