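import Mathlib
import Cfsg.Statements.S3858
import Cfsg.Agent.S3859
import Cfsg.Agent.Helper2.SylowConj
import Cfsg.Statements.S3858
-- import your own Cfsg.Agent.* helpers here

set_option autoImplicit false
open Cfsg

namespace Cfsg.Agent.S3858
open Cfsg
universe u
open scoped Pointwise

variable {G : Type u} [Group G]

theorem mem_map_conj (M : Subgroup G) (g x : G) :
    x ∈ M.map (MulAut.conj g).toMonoidHom ↔ g⁻¹ * x * g ∈ M := by
  constructor
  · rintro ⟨y, hy, rfl⟩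
    simp only [MulEquiv.coe_toMonoidHom, MulAut.conj_apply]
    have : g⁻¹ * (g * y * g⁻¹) * g = y := by group
    rw [this]; exact hy
  · intro h
    refine ⟨g⁻¹ * x * g, h, ?_⟩
    simp only [MulEquiv.coe_toMonoidHom, MulAut.conj_apply]
    group

theorem isCoatom_map_conj {M : Subgroup G} (hM : IsCoatom M) (g : G) :
    IsCoatom (M.map (MulAut.conj g).toMonoidHom) :=
  (OrderIso.isCoatom_iff (MulEquiv.mapSubgroup (MulAut.conj g)) M).2 hM

variable [Finite G]

theorem not_dvd_index_of_le {r : ℕ} [Fact r.Prime] (R : Sylow r G) {M : Subgroup G}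
    (h : (R : Subgroup G) ≤ M) : ¬ r ∣ M.index := fun hd =>
  R.not_dvd_index (hd.trans (Subgroup.index_dvd_of_le h))

omit [Finite G] in
theorem exists_conj_le {r : ℕ} [Fact r.Prime] (R : Sylow r G) (M : Subgroup G)
    (h : ¬ r ∣ M.index) : ∃ g : G, ∀ x ∈ (R : Subgroup G), g⁻¹ * x * g ∈ M := by
  have hfix := R.2.nonempty_fixed_point_of_prime_not_dvd_card (G ⧸ M)
    (by rw [← Subgroup.index_eq_card]; exact h)
  obtain ⟨q, hq⟩ := hfix
  obtain ⟨g, rfl⟩ := QuotientGroup.mk_surjective q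
  refine ⟨g, fun x hx => ?_⟩
  have h1 := hq ⟨x, hx⟩
  have h2 : ((x * g : G) : G ⧸ M) = (g : G ⧸ M) := h1
  rw [eq_comm, QuotientGroup.eq] at h2
  rw [mul_assoc]; exact h2

/-- Let G be a finite group with a normal non-abelian simple subgroup T whose centralizer is trivial (G almost simple with socle T), r a prime and R a Sylow r-subgroup of G meeting T nontrivially. Then R lies in exactly one maximal subgroup of G if and only if G has exactly one conjugacy class of maximal subgroups whose index is prime to r. -/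
theorem result {G : Type*} [Group G] [Finite G] (T : Subgroup G) [T.Normal] (hT : IsSimpleGroup T) (hna : ¬ IsMulCommutative T)
    (hC : Subgroup.centralizer (T : Set G) = ⊥) {r : ℕ} [Fact r.Prime] (R : Sylow r G) (hR0 : (R : Subgroup G) ⊓ T ≠ ⊥) :
    (∃! M : Subgroup G, IsCoatom M ∧ (R : Subgroup G) ≤ M) ↔
      ((∃ M : Subgroup G, IsCoatom M ∧ ¬ r ∣ M.index) ∧
        ∀ M₁ M₂ : Subgroup G, IsCoatom M₁ → ¬ r ∣ M₁.index → IsCoatom M₂ → ¬ r ∣ M₂.index → ∃ g : G, M₂ = M₁.map (MulAut.conj g).toMonoidHom) := by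
  constructor
  · rintro ⟨M, ⟨hMco, hRM⟩, hMuniq⟩
    refine ⟨⟨M, hMco, not_dvd_index_of_le R hRM⟩, ?_⟩
    have key : ∀ M₁ : Subgroup G, IsCoatom M₁ → ¬ r ∣ M₁.index →
        ∃ g : G, M = M₁.map (MulAut.conj g).toMonoidHom := by
      intro M₁ h1 h2
      obtain ⟨g, hg⟩ := exists_conj_le R M₁ h2
      refine ⟨g, (hMuniq _ ⟨isCoatom_map_conj h1 g, ?_⟩).symm⟩
      intro x hx
      rw [mem_map_conj]
      exact hg x hx
    intro M₁ M₂ h1 h1' h2 h2'
    obtain ⟨g₁, hg₁⟩ := key M₁ h1 h1'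
    obtain ⟨g₂, hg₂⟩ := key M₂ h2 h2'
    refine ⟨g₂⁻¹ * g₁, ?_⟩
    ext x
    rw [mem_map_conj]
    have e1 : ∀ y, y ∈ M ↔ g₁⁻¹ * y * g₁ ∈ M₁ := fun y => by
      rw [← mem_map_conj, ← hg₁]
    have e2 : ∀ y, y ∈ M ↔ g₂⁻¹ * y * g₂ ∈ M₂ := fun y => by
      rw [← mem_map_conj, ← hg₂]
    have h3 := e2 (g₂ * x * g₂⁻¹)
    have h4 : g₂⁻¹ * (g₂ * x * g₂⁻¹) * g₂ = x := by group
    rw [h4] at h3
    rw [← h3, e1]
    have h5 : g₁⁻¹ * (g₂ * x * g₂⁻¹) * g₁ = (g₂⁻¹ * g₁)⁻¹ * x * (g₂⁻¹ * g₁) := by group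
    rw [h5]
  · rintro ⟨⟨Ma, hMa, hMa'⟩, hconj⟩
    -- a maximal subgroup containing the normalizer of R
    have hNtop := Cfsg.Agent.S3859.normalizer_ne_top T hT hna R hR0
    have hNN : Subgroup.normalizer ((R : Subgroup G) : Set G) ≤
        Subgroup.normalizer (((R : Subgroup G) ⊓ T : Subgroup G) : Set G) := by
      intro g hg
      rw [Subgroup.mem_normalizer_iff] at hg ⊢
      intro x
      have hTn : T.Normal := inferInstance
      constructor
      · rintro ⟨hx1, hx2⟩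
        exact ⟨(hg x).1 hx1, hTn.conj_mem x hx2 g⟩
      · rintro ⟨hx1, hx2⟩
        refine ⟨(hg x).2 hx1, ?_⟩
        have := hTn.conj_mem _ hx2 g⁻¹
        have e : g⁻¹ * (g * x * g⁻¹) * g⁻¹⁻¹ = x := by group
        rwa [e] at this
    obtain ⟨M₀, hM₀, hle⟩ : ∃ M₀ : Subgroup G, IsCoatom M₀ ∧
        Subgroup.normalizer (((R : Subgroup G) ⊓ T : Subgroup G) : Set G) ≤ M₀ := by
      rcases eq_top_or_exists_le_coatom
        (Subgroup.normalizer (((R : Subgroup G) ⊓ T : Subgroup G) : Set G)) with h | h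
      · exact absurd h hNtop
      · exact h
    have hNR : Subgroup.normalizer ((R : Subgroup G) : Set G) ≤ M₀ := hNN.trans hle
    have hRM₀ : (R : Subgroup G) ≤ M₀ := Subgroup.le_normalizer.trans hNR
    refine ⟨M₀, ⟨hM₀, hRM₀⟩, ?_⟩
    rintro M₁ ⟨hM₁, hRM₁⟩
    obtain ⟨g, hg⟩ := hconj M₀ M₁ hM₀ (not_dvd_index_of_le R hRM₀) hM₁
      (not_dvd_index_of_le R hRM₁)
    have e1 : ∀ y, y ∈ M₁ ↔ g⁻¹ * y * g ∈ M₀ := fun y => by
      rw [← mem_map_conj, ← hg]
    -- the conjugate Sylow subgroup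
    have hR'M₀ : ((g⁻¹ • R : Sylow r G) : Subgroup G) ≤ M₀ := by
      intro x hx
      rw [Cfsg.Agent.Helper2.mem_smul_sylow_iff, inv_inv] at hx
      have h1 := (e1 _).1 (hRM₁ hx)
      have h2 : g⁻¹ * (g * x * g⁻¹) * g = x := by group
      rwa [h2] at h1
    obtain ⟨m, hm⟩ := MulAction.exists_smul_eq M₀ (R.subtype hRM₀)
      ((g⁻¹ • R : Sylow r G).subtype hR'M₀)
    -- n = g * m normalizes R
    have hn : ((g * (m : G))⁻¹ • R : Sylow r G) = R := by
      have hle' : (((g * (m : G))⁻¹ • R : Sylow r G) : Subgroup G) ≤ (R : Subgroup G) := by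
        intro x hx
        rw [Cfsg.Agent.Helper2.mem_smul_sylow_iff, inv_inv] at hx
        -- y := g m x m⁻¹ g⁻¹ ∈ R ; then m x m⁻¹ ∈ g⁻¹ • R
        have h1 : (m : G) * x * (m : G)⁻¹ ∈ ((g⁻¹ • R : Sylow r G) : Subgroup G) := by
          rw [Cfsg.Agent.Helper2.mem_smul_sylow_iff, inv_inv]
          have e : g * ((m : G) * x * (m : G)⁻¹) * g⁻¹ = g * (m : G) * x * (g * (m : G))⁻¹ := by
            group
          rw [e]; exact hx
        have h2 : (⟨(m : G) * x * (m : G)⁻¹, hR'M₀ h1⟩ : M₀) ∈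
            (((g⁻¹ • R : Sylow r G).subtype hR'M₀ : Sylow r M₀) : Subgroup M₀) := by
          rw [Sylow.coe_subtype, Subgroup.mem_subgroupOf]; exact h1
        rw [← hm, Cfsg.Agent.Helper2.mem_smul_sylow_iff, Sylow.coe_subtype,
          Subgroup.mem_subgroupOf] at h2
        have e : ((m⁻¹ * (⟨(m : G) * x * (m : G)⁻¹, hR'M₀ h1⟩ : M₀) * m : M₀) : G) = x := by
          simp only [Subgroup.coe_mul, Subgroup.coe_inv]; group
        rwa [e] at h2
      have := ((g * (m : G))⁻¹ • R : Sylow r G).is_maximal' R.isPGroup' hle'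
      exact Sylow.ext this.symm
    rw [Sylow.smul_eq_iff_mem_normalizer] at hn
    have hnM : (g * (m : G))⁻¹ ∈ M₀ := hNR hn
    have hgM : g ∈ M₀ := by
      have h1 : g * (m : G) ∈ M₀ := by
        have := M₀.inv_mem hnM
        rwa [inv_inv] at this
      have h2 : g = g * (m : G) * (m : G)⁻¹ := by group
      rw [h2]; exact M₀.mul_mem h1 (M₀.inv_mem m.2)
    ext y
    rw [e1]
    constructor
    · intro h
      have h2 : y = g * (g⁻¹ * y * g) * g⁻¹ := by group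
      rw [h2]; exact M₀.mul_mem (M₀.mul_mem hgM h) (M₀.inv_mem hgM)
    · intro h
      exact M₀.mul_mem (M₀.mul_mem (M₀.inv_mem hgM) h) hgM


end Cfsg.Agent.S3858
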