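import Mathlib
import Cfsg.Statements.S3861
import Cfsg.Agent.Helper2.BaerSuzuki
import Cfsg.Agent.Helper1.Coprime
import Cfsg.Agent.Helper1.Cores

set_option autoImplicit false
open Cfsg

namespace Cfsg.Agent.S3861

open Cfsg.Agent.Helper2 in
/-- Lemma A: if no nonidentity odd-order element is real, every involution lies in a normal
2-subgroup (Baer–Suzuki). -/
theorem invol_mem_normal_two {G : Type*} [Group G] [Finite G]
    (h : ∀ x : G, x ≠ 1 → Odd (orderOf x) → ¬ IsConj x x⁻¹) (t : G) (ht : t * t = 1) :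
    ∃ M : Subgroup G, M.Normal ∧ IsPGroup 2 M ∧ t ∈ M := by
  have : Fact (Nat.Prime 2) := ⟨Nat.prime_two⟩
  have htinv : t⁻¹ = t := inv_eq_of_mul_eq_one_left ht
  have hX : IsPGroup 2 (Subgroup.zpowers t) := by
    have hd : orderOf t ∣ 2 := orderOf_dvd_of_pow_eq_one (by rw [pow_two, ht])
    rcases (Nat.dvd_prime Nat.prime_two).1 hd with h1 | h2
    · exact IsPGroup.of_card (n := 0) (by rw [Nat.card_zpowers, h1, pow_zero])
    · exact IsPGroup.of_card (n := 1) (by rw [Nat.card_zpowers, h2, pow_one])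
  obtain ⟨M, hMn, hMp, hXM⟩ := baer_suzuki (p := 2) (Subgroup.zpowers t) hX (by
    intro g
    set s := g * t * g⁻¹ with hs
    have hss : s * s = 1 := by
      rw [hs]
      calc g * t * g⁻¹ * (g * t * g⁻¹) = g * (t * t) * g⁻¹ := by group
        _ = 1 := by rw [ht]; group
    have hsinv : s⁻¹ = s := inv_eq_of_mul_eq_one_left hss
    set y := t * s with hy
    have hconj : t * y * t⁻¹ = y⁻¹ := by
      rw [hy, mul_inv_rev, hsinv, htinv]
      calc t * (t * s) * t = (t * t) * s * t := by group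
        _ = s * t := by rw [ht, one_mul]
    -- order of y is a power of 2
    have ho : orderOf y ≠ 0 := (orderOf_pos y).ne'
    obtain ⟨a, m, hm, hom⟩ := Nat.exists_eq_two_pow_mul_odd ho
    have hz : orderOf (y ^ (2 ^ a)) = m := by
      rw [orderOf_pow_of_dvd (by positivity) (Dvd.intro _ hom.symm), hom,
        Nat.mul_div_cancel_left _ (by positivity)]
    have hzreal : IsConj (y ^ (2 ^ a)) (y ^ (2 ^ a))⁻¹ := by
      rw [isConj_iff]
      refine ⟨t, ?_⟩
      rw [← conj_pow, hconj, inv_pow]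
    have hz1 : y ^ (2 ^ a) = 1 := by
      by_contra hne
      exact h _ hne (hz ▸ hm) hzreal
    have hm1 : m = 1 := by rw [← hz, hz1, orderOf_one]
    have hyP : IsPGroup 2 (Subgroup.zpowers y) :=
      IsPGroup.of_card (n := a) (by rw [Nat.card_zpowers, hom, hm1, mul_one])
    have hnorm : Subgroup.zpowers t ≤ Subgroup.normalizer (Subgroup.zpowers y : Set G) := by
      rw [Subgroup.zpowers_le]
      have hfwd : ∀ u ∈ Subgroup.zpowers y, t * u * t⁻¹ ∈ Subgroup.zpowers y := by
        rintro u ⟨k, rfl⟩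
        have : t * y ^ k * t⁻¹ = (y⁻¹) ^ k := by
          rw [← hconj]
          exact (conj_zpow (a := t) (b := y) (i := k)).symm
        rw [this]
        exact Subgroup.zpow_mem _ (Subgroup.inv_mem _ (Subgroup.mem_zpowers y)) k
      rw [Subgroup.mem_normalizer_iff]
      intro u
      refine ⟨hfwd u, fun hu => ?_⟩
      have := hfwd _ hu
      rw [htinv] at this
      have e : t * (t * u * t) * t = u := by
        calc t * (t * u * t) * t = (t * t) * u * (t * t) := by group
          _ = u := by rw [ht, one_mul, mul_one]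
      rwa [e] at this
    have hsup : IsPGroup 2 ↥(Subgroup.zpowers t ⊔ Subgroup.zpowers y) :=
      IsPGroup.to_sup_of_normal_right' hX hyP hnorm
    refine hsup.to_le (sup_le le_sup_left ?_)
    rw [cj_le_iff]
    rintro u ⟨k, rfl⟩
    have hsmem : s ∈ Subgroup.zpowers t ⊔ Subgroup.zpowers y := by
      have : s = t * y := by
        rw [hy, ← mul_assoc, ht, one_mul]
      rw [this]
      exact Subgroup.mul_mem_sup (Subgroup.mem_zpowers t) (Subgroup.mem_zpowers y)
    have : g * t ^ k * g⁻¹ = s ^ k := by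
      rw [hs]
      exact (conj_zpow (a := g) (b := t) (i := k)).symm
    rw [this]
    exact Subgroup.zpow_mem _ hsmem k)
  exact ⟨M, hMn, hMp, hXM (Subgroup.mem_zpowers t)⟩


open Cfsg.Agent.Helper1 in
open scoped Pointwise in
/-- Lemma B: the hypothesis passes to quotients by normal 2-subgroups. -/
theorem noReal_quot {G : Type*} [Group G] [Finite G]
    (h : ∀ x : G, x ≠ 1 → Odd (orderOf x) → ¬ IsConj x x⁻¹) (N : Subgroup G) [N.Normal]
    (hN : IsPGroup 2 N) :
    ∀ x : G ⧸ N, x ≠ 1 → Odd (orderOf x) → ¬ IsConj x x⁻¹ := by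
  have : Fact (Nat.Prime 2) := ⟨Nat.prime_two⟩
  intro xbar hx1 hodd hconj
  obtain ⟨x0, rfl⟩ := QuotientGroup.mk_surjective xbar
  obtain ⟨gbar, hg⟩ := isConj_iff.1 hconj
  obtain ⟨g, rfl⟩ := QuotientGroup.mk_surjective gbar
  set k := orderOf (x0 : G ⧸ N) with hk
  have hk0 : k ≠ 0 := (orderOf_pos _).ne'
  have hk1 : k ≠ 1 := by
    intro h1
    exact hx1 (orderOf_eq_one_iff.1 h1)
  have ho : orderOf x0 ≠ 0 := (orderOf_pos x0).ne'
  obtain ⟨a, m, hm, hom⟩ := Nat.exists_eq_two_pow_mul_odd ho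
  have hcop : Nat.Coprime (2 ^ a) k := Nat.Coprime.pow_left a (Nat.coprime_two_left.2 hodd)
  obtain ⟨c, -, hc⟩ := Nat.exists_mul_mod_eq_one_of_coprime hcop (by omega)
  set x := x0 ^ (2 ^ a * c) with hx
  have hxbar : (x : G ⧸ N) = (x0 : G ⧸ N) := by
    rw [hx, QuotientGroup.mk_pow, ← pow_mod_orderOf, ← hk, hc, pow_one]
  have hxm : x ^ m = 1 := by
    rw [hx, ← pow_mul, mul_right_comm, ← hom, pow_mul, pow_orderOf_eq_one, one_pow]
  have hxodd : Odd (orderOf x) := Odd.of_dvd_nat hm (orderOf_dvd_of_pow_eq_one hxm)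
  have hxne : x ≠ 1 := by
    intro h1
    apply hx1
    rw [← hxbar, h1, QuotientGroup.mk_one]
  set w := g * x * g⁻¹ with hw
  have hwx : w * x ∈ N := by
    rw [← QuotientGroup.eq_one_iff, QuotientGroup.mk_mul, hw, QuotientGroup.mk_mul,
      QuotientGroup.mk_mul, QuotientGroup.mk_inv, hxbar, hg, inv_mul_cancel]
  have hcardN : ∃ b, Nat.card N = 2 ^ b := IsPGroup.iff_card.1 hN
  obtain ⟨b, hb⟩ := hcardN
  have hcopNx : (Nat.card N).Coprime (Nat.card (Subgroup.zpowers x)) := by
    rw [hb, Nat.card_zpowers]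
    exact Nat.Coprime.pow_left b (Nat.coprime_two_left.2 hxodd)
  obtain ⟨n, hn, hnconj⟩ := sz_conj_internal N (Subgroup.zpowers x) (Subgroup.zpowers w)
    (by rw [Subgroup.normalizer_eq_top]; exact le_top)
    (by
      rw [Subgroup.zpowers_le]
      have : w = (w * x) * x⁻¹ := by group
      rw [this]
      exact Subgroup.mul_mem_sup hwx (Subgroup.inv_mem _ (Subgroup.mem_zpowers x)))
    (by
      rw [Nat.card_zpowers, Nat.card_zpowers, hw]
      exact (SemiconjBy.orderOf_eq g (x := x) (y := g * x * g⁻¹) (by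
        unfold SemiconjBy; group)).symm)
    hcopNx (Or.inr inferInstance)
  have hwmem : w ∈ MulAut.conj n • Subgroup.zpowers x := by
    rw [hnconj]; exact Subgroup.mem_zpowers w
  rw [Helper1.mem_conj_smul_iff] at hwmem
  obtain ⟨j, hj⟩ := hwmem
  replace hj : x ^ j = n⁻¹ * w * n := hj
  have hmemN : x ^ j * x ∈ N := by
    have e : x ^ j * x = n⁻¹ * (w * x) * (x⁻¹ * n * x⁻¹⁻¹) := by
      rw [hj]; group
    rw [e]
    exact N.mul_mem (N.mul_mem (N.inv_mem hn) hwx) (‹N.Normal›.conj_mem n hn x⁻¹)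
  have hbot : Subgroup.zpowers x ⊓ N = ⊥ := (Subgroup.disjoint_of_coprime_natCard hcopNx.symm).eq_bot
  have hmemZ : x ^ j * x ∈ Subgroup.zpowers x :=
    Subgroup.mul_mem _ (Subgroup.zpow_mem _ (Subgroup.mem_zpowers x) j) (Subgroup.mem_zpowers x)
  have h1 : x ^ j * x = 1 := by
    have : x ^ j * x ∈ Subgroup.zpowers x ⊓ N := ⟨hmemZ, hmemN⟩
    rwa [hbot, Subgroup.mem_bot] at this
  have hxj : x ^ j = x⁻¹ := eq_inv_of_mul_eq_one_left h1
  apply h x hxne hxodd
  rw [isConj_iff]
  refine ⟨n⁻¹ * g, ?_⟩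
  rw [← hxj, hj, hw]
  group


open Cfsg.Agent.Helper1 in
/-- The forward direction: no real odd-order elements implies the Sylow 2-subgroups are normal. -/
theorem normal_of_noReal {G : Type*} [Group G] [Finite G]
    (h : ∀ x : G, x ≠ 1 → Odd (orderOf x) → ¬ IsConj x x⁻¹) (P : Sylow 2 G) :
    (P : Subgroup G).Normal := by
  have : Fact (Nat.Prime 2) := ⟨Nat.prime_two⟩
  set N : Subgroup G := Cfsg.pCore 2 G with hNdef
  have hNn : N.Normal := by
    rw [hNdef, pCore_eq_iInf_sylow]; exact iInf_sylow_normal 2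
  have hNp : IsPGroup 2 N := pCore_isPGroup 2
  have hNP : N ≤ (P : Subgroup G) := pCore_le_sylow P
  have hq := noReal_quot h N hNp
  -- the quotient has no involutions
  have hnoinv : ∀ t : G ⧸ N, t * t = 1 → t = 1 := by
    intro t ht
    obtain ⟨M, hMn, hMp, htM⟩ := invol_mem_normal_two hq t ht
    have hcomap : M.comap (QuotientGroup.mk' N) ≤ N := by
      apply le_pCore (hMn.comap _)
      apply IsPGroup.comap_of_ker_isPGroup hMp
      rw [QuotientGroup.ker_mk']
      exact hNp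
    obtain ⟨t0, rfl⟩ := QuotientGroup.mk_surjective t
    have : t0 ∈ N := hcomap htM
    exact (QuotientGroup.eq_one_iff t0).2 this
  have hodd : ¬ 2 ∣ N.index := by
    intro hdvd
    rw [Subgroup.index_eq_card] at hdvd
    obtain ⟨t, ht⟩ := exists_prime_orderOf_dvd_card' (G := G ⧸ N) 2 hdvd
    have h1 : t = 1 := hnoinv t (by rw [← pow_two, ← ht, pow_orderOf_eq_one])
    rw [h1, orderOf_one] at ht
    omega
  have hcard : Nat.card (P : Subgroup G) ≤ Nat.card N := by
    have h1 := (hNp.toSylow hodd).card_eq_multiplicity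
    have h2 := P.card_eq_multiplicity
    rw [IsPGroup.toSylow_coe] at h1
    rw [h1, h2]
  have : (P : Subgroup G) = N := (Subgroup.eq_of_le_of_card_ge hNP hcard).symm
  rw [this]
  exact hNn

/-- A finite group G has no non-identity element of odd order that is conjugate to its inverse if and only if the Sylow 2-subgroups of G are normal. -/
theorem result {G : Type*} [Group G] [Finite G] (P : Sylow 2 G) : (∀ x : G, x ≠ 1 → Odd (orderOf x) → ¬ IsConj x x⁻¹) ↔ (P : Subgroup G).Normal := by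
  have : Fact (Nat.Prime 2) := ⟨Nat.prime_two⟩
  constructor
  · intro h
    exact normal_of_noReal h P
  · intro hP x hx1 hodd hconj
    obtain ⟨g, hg⟩ := isConj_iff.1 hconj
    have hidx : Odd (P : Subgroup G).index := by
      rw [← Nat.not_even_iff_odd, even_iff_two_dvd]
      exact P.not_dvd_index
    obtain ⟨j, hj⟩ := hidx
    -- g^2 commutes with x
    have hg2 : Commute (g ^ 2) x := by
      have e : g ^ 2 * x * (g ^ 2)⁻¹ = x := by
        calc g ^ 2 * x * (g ^ 2)⁻¹ = g * (g * x * g⁻¹) * g⁻¹ := by rw [pow_two]; group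
          _ = g * x⁻¹ * g⁻¹ := by rw [hg]
          _ = (g * x * g⁻¹)⁻¹ := by group
          _ = x := by rw [hg, inv_inv]
      unfold Commute SemiconjBy
      calc g ^ 2 * x = (g ^ 2 * x * (g ^ 2)⁻¹) * g ^ 2 := by group
        _ = x * g ^ 2 := by rw [e]
    set u := g ^ (P : Subgroup G).index with hu
    have huP : u ∈ (P : Subgroup G) := Subgroup.pow_index_mem _ g
    have hux : u * x * u⁻¹ = x⁻¹ := by
      have hc : Commute ((g ^ 2) ^ j) x := hg2.pow_left j
      have e : u = (g ^ 2) ^ j * g := by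
        rw [hu, hj, pow_succ, pow_mul]
      rw [e]
      calc (g ^ 2) ^ j * g * x * ((g ^ 2) ^ j * g)⁻¹
          = (g ^ 2) ^ j * (g * x * g⁻¹) * ((g ^ 2) ^ j)⁻¹ := by group
        _ = (g ^ 2) ^ j * x⁻¹ * ((g ^ 2) ^ j)⁻¹ := by rw [hg]
        _ = x⁻¹ := by rw [(hc.inv_right).eq]; group
    have hx2 : x ^ 2 ∈ (P : Subgroup G) := by
      have e : (x ^ 2)⁻¹ = u * (x * u⁻¹ * x⁻¹) := by
        calc (x ^ 2)⁻¹ = x⁻¹ * x⁻¹ := by group
          _ = (u * x * u⁻¹) * x⁻¹ := by rw [hux]
          _ = u * (x * u⁻¹ * x⁻¹) := by group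
      have : (x ^ 2)⁻¹ ∈ (P : Subgroup G) := by
        rw [e]
        exact Subgroup.mul_mem _ huP (hP.conj_mem _ (Subgroup.inv_mem _ huP) x)
      simpa using Subgroup.inv_mem _ this
    obtain ⟨k, hk⟩ := (IsPGroup.iff_orderOf.1 P.isPGroup') ⟨x ^ 2, hx2⟩
    rw [Subgroup.orderOf_mk] at hk
    have hodd2 : Odd (orderOf (x ^ 2)) := Odd.of_dvd_nat hodd (orderOf_pow_dvd 2)
    have hk0 : k = 0 := by
      by_contra hne
      rw [hk] at hodd2
      exact (Nat.not_even_iff_odd.2 hodd2) ((Nat.even_pow' hne).2 even_two)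
    rw [hk0, pow_zero, orderOf_eq_one_iff] at hk
    have hd : orderOf x ∣ 2 := orderOf_dvd_of_pow_eq_one hk
    rcases (Nat.dvd_prime Nat.prime_two).1 hd with h1 | h2
    · exact hx1 (orderOf_eq_one_iff.1 h1)
    · rw [h2] at hodd
      exact absurd hodd (by decide)

end Cfsg.Agent.S3861
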