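import Mathlib
import Cfsg.Statements.S3862
import Cfsg.Agent.Helper1.Coprime
import Cfsg.Agent.Helper1.FrobPCompl

set_option autoImplicit false
open Cfsg
open scoped Pointwise commutatorElement

namespace Cfsg.Agent.S3862

open Cfsg.Agent.Helper1

variable {G : Type*} [Group G]

theorem mem_normalizer_closure {S : Set G} {g : G} (h1 : ∀ x ∈ S, g * x * g⁻¹ ∈ S)
    (h2 : ∀ x ∈ S, g⁻¹ * x * g ∈ S) :
    g ∈ Subgroup.normalizer ((Subgroup.closure S : Subgroup G) : Set G) := by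
  have key : ∀ a : G, (∀ x ∈ S, a * x * a⁻¹ ∈ S) → ∀ x ∈ Subgroup.closure S,
      a * x * a⁻¹ ∈ Subgroup.closure S := by
    intro a ha
    have : Subgroup.closure S ≤ (Subgroup.closure S).comap (MulAut.conj a).toMonoidHom := by
      rw [Subgroup.closure_le]
      intro x hx
      exact Subgroup.subset_closure (ha x hx)
    intro x hx
    exact this hx
  rw [Subgroup.mem_normalizer_iff]
  intro x
  constructor
  · exact key g h1 x
  · intro hx
    have := key g⁻¹ (by simpa using h2) _ hx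
    simpa [mul_assoc] using this

theorem normalizer_le_normalizer_commutator (Q : Subgroup G) :
    Subgroup.normalizer (Q : Set G) ≤ Subgroup.normalizer ((⁅Q, Q⁆ : Subgroup G) : Set G) := by
  intro g hg
  apply mem_normalizer_of_conj_smul_eq
  have h1 : MulAut.conj g • Q = Q := conj_smul_eq_of_mem_normalizer hg
  rw [conj_smul_eq_map, Subgroup.map_commutator, ← conj_smul_eq_map, h1]

theorem zpowers_le_centralizer {g : G} {R : Subgroup G}
    (h : g ∈ Subgroup.centralizer (R : Set G)) :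
    Subgroup.zpowers g ≤ Subgroup.centralizer (R : Set G) :=
  Subgroup.zpowers_le.2 h

/-- the minimal configuration is impossible -/
theorem key [Finite G] (Q : Subgroup G) (hQ : IsPGroup 2 Q) (g : G)
    (hgQ : g ∈ Subgroup.normalizer (Q : Set G)) (hodd : (orderOf g).Coprime 2)
    (hmin : ∀ R : Subgroup G, R ≤ Q → R ≠ Q → g ∈ Subgroup.normalizer (R : Set G) →
      g ∈ Subgroup.centralizer (R : Set G))
    (hinv : ∀ x ∈ Q, IsConj x x⁻¹ → g * x = x * g) :
    g ∈ Subgroup.centralizer (Q : Set G) := by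
  by_contra hne
  set A := Subgroup.zpowers g with hA
  have hgA : g ∈ A := Subgroup.mem_zpowers g
  have hAQ : A ≤ Subgroup.normalizer (Q : Set G) := Subgroup.zpowers_le.2 hgQ
  obtain ⟨k, hk⟩ := IsPGroup.iff_card.1 hQ
  have hcop : (Nat.card A).Coprime (Nat.card Q) := by
    rw [hA, Nat.card_zpowers, hk]
    exact Nat.Coprime.pow_right k hodd
  have hsolv : Group.IsSolvable A ∨ Group.IsSolvable Q := by
    right
    have : Group.IsNilpotent Q := hQ.isNilpotent
    infer_instance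
  -- Step 1
  have hQA_le : ⁅Q, A⁆ ≤ Q := Subgroup.le_normalizer_iff_commutator_le_left.1 hAQ
  have hQA : ⁅Q, A⁆ = Q := by
    by_contra hlt
    have h1 : g ∈ Subgroup.normalizer ((⁅Q, A⁆ : Subgroup G) : Set G) :=
      Subgroup.normalizer_commutator_ge_right Q A hgA
    have h2 := hmin _ hQA_le hlt h1
    have h3 : ⁅Q, A⁆ ≤ Subgroup.centralizer (A : Set G) :=
      Subgroup.le_centralizer_iff.1 (zpowers_le_centralizer h2)
    have h4 : ⁅⁅Q, A⁆, A⁆ = ⊥ := Subgroup.commutator_eq_bot_iff_le_centralizer.2 h3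
    rw [coprime_commutator_commutator A Q hAQ hcop hsolv] at h4
    have h5 : Q ≤ Subgroup.centralizer (A : Set G) :=
      Subgroup.commutator_eq_bot_iff_le_centralizer.1 h4
    exact hne (Subgroup.le_centralizer_iff.1 h5 hgA)
  have hQne : Q ≠ ⊥ := by
    intro h
    apply hne
    rw [h]
    simp [Subgroup.mem_centralizer_iff]
  -- Step 2
  set Q' : Subgroup G := ⁅Q, Q⁆ with hQ'
  have hQ'Q : Q' ≤ Q := Subgroup.commutator_le_self Q
  have hQ'ne : Q' ≠ Q := by
    have : Nontrivial Q := (Subgroup.nontrivial_iff_ne_bot Q).2 hQne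
    have : Group.IsNilpotent Q := hQ.isNilpotent
    have hlt := Group.IsSolvable.commutator_lt_top_of_nontrivial Q
    intro h
    have h1 : (_root_.commutator Q).map Q.subtype = Q := by rw [Subgroup.map_subtype_commutator]; exact h
    have h2 : (_root_.commutator Q).map Q.subtype = (⊤ : Subgroup Q).map Q.subtype := by
      rw [h1, ← MonoidHom.range_eq_map, Subgroup.range_subtype]
    exact hlt.ne (Subgroup.map_injective Q.subtype_injective h2)
  have hgQ' : g ∈ Subgroup.normalizer (Q' : Set G) := normalizer_le_normalizer_commutator Q hgQ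
  have hgQ'c : g ∈ Subgroup.centralizer (Q' : Set G) := hmin Q' hQ'Q hQ'ne hgQ'
  have hAQ'c : A ≤ Subgroup.centralizer (Q' : Set G) := zpowers_le_centralizer hgQ'c
  have hQnQ' : Q ≤ Subgroup.normalizer (Q' : Set G) :=
    Subgroup.le_normalizer.trans (normalizer_le_normalizer_commutator Q)
  have hclass : ⁅Q, Q'⁆ = ⊥ := by
    have h1 : ⁅⁅A, Q'⁆, Q⁆ = ⊥ := by
      rw [Subgroup.commutator_eq_bot_iff_le_centralizer.2 hAQ'c, Subgroup.commutator_bot_left]
    have h2 : ⁅⁅Q', Q⁆, A⁆ = ⊥ := by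
      rw [Subgroup.commutator_eq_bot_iff_le_centralizer]
      have : ⁅Q', Q⁆ ≤ Q' := Subgroup.le_normalizer_iff_commutator_le_left.1 hQnQ'
      exact this.trans (Subgroup.le_centralizer_iff.1 hAQ'c)
    have h3 := Subgroup.commutator_commutator_eq_bot_of_rotate h1 h2
    rwa [hQA] at h3
  have hcentral : ∀ q ∈ Q, ∀ c ∈ Q', c * q = q * c := by
    intro q hq c hc
    have := Subgroup.commutator_eq_bot_iff_le_centralizer.1 hclass hq
    exact Subgroup.mem_centralizer_iff.1 this c hc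
  have hAcent : ∀ a ∈ A, ∀ c ∈ Q', c * a = a * c := by
    intro a ha c hc
    exact Subgroup.mem_centralizer_iff.1 (hAQ'c ha) c hc
  -- Step 3: squares
  set T : Subgroup G := Subgroup.closure {x : G | ∃ u ∈ Q, x = u ^ 2} with hT
  have hTQ : T ≤ Q := by
    rw [hT, Subgroup.closure_le]
    rintro x ⟨u, hu, rfl⟩
    exact Q.pow_mem hu 2
  have hTne : T ≠ Q := by
    have hk0 : k ≠ 0 := by
      intro h0
      rw [h0, pow_zero] at hk
      exact hQne (Subgroup.card_eq_one.1 hk)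
    obtain ⟨M, hM⟩ := Sylow.exists_subgroup_card_pow_prime (G := Q) 2 (n := k - 1)
      (by rw [hk]; exact pow_dvd_pow 2 (Nat.sub_le k 1))
    have hidx : M.index = 2 := by
      have h1 := M.card_mul_index
      rw [hM, hk] at h1
      have h2 : (2:ℕ) ^ k = 2 ^ (k - 1) * 2 := by
        rw [← pow_succ]; congr 1; omega
      rw [h2] at h1
      exact Nat.eq_of_mul_eq_mul_left (pow_pos (by norm_num) _) h1
    intro hTQeq
    have hle : T ≤ M.map Q.subtype := by
      rw [hT, Subgroup.closure_le]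
      rintro x ⟨u, hu, rfl⟩
      refine ⟨⟨u, hu⟩ ^ 2, Subgroup.sq_mem_of_index_two hidx _, ?_⟩
      simp
    rw [hTQeq] at hle
    have h3 : Nat.card Q ≤ Nat.card (M.map Q.subtype) := Subgroup.card_le_of_le hle
    rw [Subgroup.card_map_of_injective Q.subtype_injective, hM, hk] at h3
    have h4 : (2:ℕ) ^ (k - 1) < 2 ^ k := Nat.pow_lt_pow_right (by norm_num) (by omega)
    omega
  have hAT : ∀ a ∈ A, a ∈ Subgroup.normalizer (T : Set G) := by
    intro a ha
    apply mem_normalizer_closure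
    · rintro x ⟨u, hu, rfl⟩
      refine ⟨a * u * a⁻¹, (Subgroup.mem_normalizer_iff.1 (hAQ ha) u).1 hu, ?_⟩
      rw [conj_pow]
    · rintro x ⟨u, hu, rfl⟩
      refine ⟨a⁻¹ * u * a, ?_, ?_⟩
      · have := (Subgroup.mem_normalizer_iff.1 (hAQ (A.inv_mem ha)) u).1 hu
        simpa using this
      · have := conj_pow (a := a⁻¹) (b := u) (i := 2)
        simpa using this.symm
  have hgTc : g ∈ Subgroup.centralizer (T : Set G) := hmin T hTQ hTne (hAT g hgA)
  have hATc : A ≤ Subgroup.centralizer (T : Set G) := zpowers_le_centralizer hgTc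
  have hsqcomm : ∀ a ∈ A, ∀ u ∈ Q, u ^ 2 * a = a * u ^ 2 := by
    intro a ha u hu
    exact Subgroup.mem_centralizer_iff.1 (hATc ha) _ (Subgroup.subset_closure ⟨u, hu, rfl⟩)
  -- Step 4: u ^ 2 ∈ Q' for all u ∈ Q
  have hmulsq : ∀ x y : G, (x * y) ^ 2 = x ^ 2 * ⁅x⁻¹, y⁆ * y ^ 2 := by
    intro x y
    rw [commutatorElement_def, pow_two, pow_two, pow_two]; group
  let S : Subgroup G :=
    { carrier := {u | u ∈ Q ∧ u ^ 2 ∈ Q'}
      mul_mem' := by
        rintro x y ⟨hx, hx2⟩ ⟨hy, hy2⟩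
        refine ⟨Q.mul_mem hx hy, ?_⟩
        rw [hmulsq]
        exact Q'.mul_mem (Q'.mul_mem hx2 (Subgroup.commutator_mem_commutator (Q.inv_mem hx) hy)) hy2
      one_mem' := ⟨Q.one_mem, by rw [one_pow]; exact Q'.one_mem⟩
      inv_mem' := by
        rintro x ⟨hx, hx2⟩
        exact ⟨Q.inv_mem hx, by rw [inv_pow]; exact Q'.inv_mem hx2⟩ }
  have hQS : ⁅Q, A⁆ ≤ S := by
    rw [Subgroup.commutator_le]
    intro q hq a ha
    have hr : a * q⁻¹ * a⁻¹ ∈ Q := (Subgroup.mem_normalizer_iff.1 (hAQ ha) q⁻¹).1 (Q.inv_mem hq)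
    have hw : ⁅q, a⁆ = q * (a * q⁻¹ * a⁻¹) := by rw [commutatorElement_def]; group
    refine ⟨hw ▸ Q.mul_mem hq hr, ?_⟩
    rw [hw, hmulsq]
    have h1 : (a * q⁻¹ * a⁻¹) ^ 2 = (q ^ 2)⁻¹ := by
      rw [conj_pow, inv_pow]
      have := hsqcomm a ha q hq
      have h2 : (q ^ 2)⁻¹ * a = a * (q ^ 2)⁻¹ := by
        rw [eq_mul_inv_iff_mul_eq, mul_assoc, ← this, ← mul_assoc, inv_mul_cancel, one_mul]
      rw [← h2, mul_inv_cancel_right]
    rw [h1]
    have hc : ⁅q⁻¹, a * q⁻¹ * a⁻¹⁆ ∈ Q' := Subgroup.commutator_mem_commutator (Q.inv_mem hq) hr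
    have h3 := hcentral (q ^ 2) (Q.pow_mem hq 2) _ hc
    rw [← h3, mul_inv_cancel_right]
    exact hc
  have hsq : ∀ u ∈ Q, u ^ 2 ∈ Q' := by
    intro u hu
    have : u ∈ S := hQS (hQA.symm ▸ hu)
    exact this.2
  -- Step 5
  obtain ⟨u, hu, hgu⟩ : ∃ u ∈ Q, g * u ≠ u * g := by
    by_contra hall
    push Not at hall
    apply hne
    rw [Subgroup.mem_centralizer_iff]
    intro x hx
    exact (hall x hx).symm
  have hcomm_mul : ∀ v ∈ Q, ∀ w ∈ Q, ∀ z ∈ Q, ⁅v * w, z⁆ = ⁅w, z⁆ * ⁅v, z⁆ := by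
    intro v hv w hw z hz
    rw [commutatorElement_mul_left_eq_conj_mul]
    have hc : ⁅w, z⁆ ∈ Q' := Subgroup.commutator_mem_commutator hw hz
    rw [← hcentral v hv _ hc, mul_inv_cancel_right]
  have hcomm_inv : ∀ v ∈ Q, ∀ z ∈ Q, ⁅v⁻¹, z⁆ = ⁅v, z⁆⁻¹ := by
    intro v hv z hz
    have h1 := hcomm_mul v hv v⁻¹ (Q.inv_mem hv) z hz
    rw [mul_inv_cancel, commutatorElement_one_left] at h1
    exact eq_inv_of_mul_eq_one_left h1.symm
  let D : Subgroup G :=
    { carrier := {d | ∃ v ∈ Q, d = ⁅v, u⁆}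
      mul_mem' := by
        rintro _ _ ⟨v, hv, rfl⟩ ⟨w, hw, rfl⟩
        exact ⟨w * v, Q.mul_mem hw hv, (hcomm_mul w hw v hv u hu).symm⟩
      one_mem' := ⟨1, Q.one_mem, (commutatorElement_one_left u).symm⟩
      inv_mem' := by
        rintro _ ⟨v, hv, rfl⟩
        exact ⟨v⁻¹, Q.inv_mem hv, (hcomm_inv v hv u hu).symm⟩ }
  have hDQ' : D ≤ Q' := by
    rintro _ ⟨v, hv, rfl⟩
    exact Subgroup.commutator_mem_commutator hv hu
  let R : Subgroup G :=
    { carrier := {x | x ∈ Q ∧ ∀ v ∈ Q, ⁅x, v⁆ ∈ D}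
      mul_mem' := by
        rintro x y ⟨hx, hx2⟩ ⟨hy, hy2⟩
        refine ⟨Q.mul_mem hx hy, fun v hv => ?_⟩
        rw [hcomm_mul x hx y hy v hv]
        exact D.mul_mem (hy2 v hv) (hx2 v hv)
      one_mem' := ⟨Q.one_mem, fun v _ => by rw [commutatorElement_one_left]; exact D.one_mem⟩
      inv_mem' := by
        rintro x ⟨hx, hx2⟩
        refine ⟨Q.inv_mem hx, fun v hv => ?_⟩
        rw [hcomm_inv x hx v hv]
        exact D.inv_mem (hx2 v hv) }
  have hRQ : R ≤ Q := fun x hx => hx.1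
  have huR : u ∈ R := by
    refine ⟨hu, fun v hv => ?_⟩
    have : ⁅u, v⁆ = ⁅v, u⁆⁻¹ := (commutatorElement_inv v u).symm
    rw [this]
    exact D.inv_mem ⟨v, hv, rfl⟩
  have hAR : ∀ a ∈ A, ∀ x ∈ R, a * x * a⁻¹ ∈ R := by
    rintro a ha x ⟨hx, hx2⟩
    refine ⟨(Subgroup.mem_normalizer_iff.1 (hAQ ha) x).1 hx, fun v hv => ?_⟩
    have hv' : a⁻¹ * v * a ∈ Q := by
      have := (Subgroup.mem_normalizer_iff.1 (hAQ (A.inv_mem ha)) v).1 hv
      simpa using this
    have h1 : ⁅a * x * a⁻¹, v⁆ = a * ⁅x, a⁻¹ * v * a⁆ * a⁻¹ := by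
      rw [conjugate_commutatorElement]
      congr 1
      group
    have hd : ⁅x, a⁻¹ * v * a⁆ ∈ D := hx2 _ hv'
    have h2 : a * ⁅x, a⁻¹ * v * a⁆ * a⁻¹ = ⁅x, a⁻¹ * v * a⁆ := by
      rw [← hAcent a ha _ (hDQ' hd), mul_inv_cancel_right]
    rw [h1, h2]
    exact hd
  have hgR : g ∈ Subgroup.normalizer (R : Set G) := by
    rw [Subgroup.mem_normalizer_iff]
    intro x
    constructor
    · exact hAR g hgA x
    · intro hx
      have := hAR g⁻¹ (A.inv_mem hgA) _ hx
      simpa [mul_assoc] using this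
  have hReq : R = Q := by
    by_contra hRne
    have h1 := hmin R hRQ hRne hgR
    exact hgu (Subgroup.mem_centralizer_iff.1 h1 u huR).symm
  have hQ'D : Q' ≤ D := by
    rw [hQ', Subgroup.commutator_le]
    intro x hx v hv
    have hxR : x ∈ R := hReq.symm ▸ hx
    exact hxR.2 v hv
  obtain ⟨v, hv, hvu⟩ := D.inv_mem (hQ'D (hsq u hu))
  apply hgu
  apply hinv u hu
  rw [isConj_iff]
  refine ⟨v, ?_⟩
  rw [commutatorElement_def] at hvu
  have : v * u * v⁻¹ = (u ^ 2)⁻¹ * u := by rw [hvu]; group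
  rw [this]; group

/-- If every 2-element of the finite group G that is conjugate to its inverse lies in the centre of G, then G has a normal 2-complement. -/
theorem result {G : Type*} [Group G] [Finite G] (h : ∀ x : G, (∃ j : ℕ, orderOf x = 2 ^ j) → IsConj x x⁻¹ → x ∈ Subgroup.center G) : Cfsg.HasNormalPComplement 2 G := by
  apply frobenius_pcomplement
  intro Q hQ g hg hcop
  induction' hn : Nat.card Q using Nat.strong_induction_on with n ih generalizing Q
  apply key Q hQ g hg hcop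
  · intro R hRQ hRne hgR
    refine ih (Nat.card R) ?_ R (hQ.to_le hRQ) hgR rfl
    rw [← hn]
    exact card_lt_card_of_lt (lt_of_le_of_ne hRQ hRne)
  · intro x hx hconj
    have hord : ∃ j : ℕ, orderOf x = 2 ^ j := by
      obtain ⟨j, hj⟩ := (IsPGroup.iff_orderOf.1 hQ) ⟨x, hx⟩
      exact ⟨j, by rw [← hj, Subgroup.orderOf_mk]⟩
    exact Subgroup.mem_center_iff.1 (h x hord hconj) g

end Cfsg.Agent.S3862
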