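import Cfsg.Statements.S3863
import Mathlib
import Cfsg.Agent.Helper3.Basic

set_option autoImplicit false
open Cfsg

namespace Cfsg.Agent.S3863

/-- If `g` inverts `x` then so does every odd power of `g`. -/
theorem odd_pow_inverts {G : Type*} [Group G] (x g : G) (h : g * x * g⁻¹ = x⁻¹) (m : ℕ) (hm : Odd m) :
    g ^ m * x * (g ^ m)⁻¹ = x⁻¹ := by
  obtain ⟨k, rfl⟩ := hm
  have h2 : g ^ 2 * x * (g ^ 2)⁻¹ = x := by
    have : g ^ 2 * x * (g ^ 2)⁻¹ = g * (g * x * g⁻¹) * g⁻¹ := by
      rw [pow_two]; group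
    rw [this, h]
    have h' : g * x⁻¹ * g⁻¹ = (g * x * g⁻¹)⁻¹ := by group
    rw [h', h, inv_inv]
  have h2k : ∀ k : ℕ, (g ^ 2) ^ k * x * ((g ^ 2) ^ k)⁻¹ = x := by
    intro k
    induction k with
    | zero => simp
    | succ k ih =>
      have : (g ^ 2) ^ (k + 1) * x * ((g ^ 2) ^ (k + 1))⁻¹ =
          g ^ 2 * ((g ^ 2) ^ k * x * ((g ^ 2) ^ k)⁻¹) * (g ^ 2)⁻¹ := by
        rw [pow_succ']; group
      rw [this, ih, h2]
  have : g ^ (2 * k + 1) * x * (g ^ (2 * k + 1))⁻¹ =
      g * ((g ^ 2) ^ k * x * ((g ^ 2) ^ k)⁻¹) * g⁻¹ := by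
    rw [pow_succ', pow_mul]; group
  rw [this, h2k, h]

/-- Let x be an element of the finite group G that is conjugate to its inverse. Then some 2-element conjugates x to its inverse; if the conjugacy class of x has odd size then x ^ 2 = 1; and x lies in, and is conjugate to its inverse inside, every normal subgroup of odd index. -/
theorem result {G : Type*} [Group G] [Finite G] (x : G) (hx : IsConj x x⁻¹) : (∃ t : G, (∃ j : ℕ, orderOf t = 2 ^ j) ∧ t * x * t⁻¹ = x⁻¹) ∧ (Odd (Subgroup.centralizer ({x} : Set G)).index → x ^ 2 = 1) ∧ ∀ (N : Subgroup G) [N.Normal], Odd N.index → ∃ hxN : x ∈ N, IsConj (⟨x, hxN⟩ : N) (⟨x, hxN⟩ : N)⁻¹ := by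
  classical
  -- part 1
  have part1 : ∃ t : G, (∃ j : ℕ, orderOf t = 2 ^ j) ∧ t * x * t⁻¹ = x⁻¹ := by
    obtain ⟨g, hg⟩ := isConj_iff.mp hx
    obtain ⟨j, m, hm, hjm⟩ := Nat.exists_eq_two_pow_mul_odd (orderOf_pos g).ne'
    refine ⟨g ^ m, ⟨j, ?_⟩, odd_pow_inverts x g hg m hm⟩
    rw [orderOf_pow, hjm, Nat.gcd_eq_right (Dvd.intro_left _ rfl)]
    exact Nat.mul_div_cancel _ hm.pos
  refine ⟨part1, ?_, ?_⟩
  · -- part 2
    intro hodd
    by_contra hne
    have : Fintype G := Fintype.ofFinite G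
    rw [Helper3.index_centralizer_singleton_eq_card_conj] at hodd
    have hcard : Nat.card {y : G // IsConj x y} = (Finset.univ.filter (fun y => IsConj x y)).card := by
      rw [Nat.card_eq_fintype_card, Fintype.card_subtype]
    rw [hcard] at hodd
    have heven : Even (Finset.univ.filter (fun y => IsConj x y)).card := by
      apply Helper3.even_card_of_involution _ (fun y => y⁻¹)
      · intro a ha
        rw [Finset.mem_filter] at ha ⊢
        refine ⟨Finset.mem_univ _, ?_⟩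
        -- x ~ x⁻¹ ~ a⁻¹
        have : IsConj x⁻¹ a⁻¹ := by
          obtain ⟨c, hc⟩ := isConj_iff.mp ha.2
          exact isConj_iff.mpr ⟨c, by rw [← hc]; group⟩
        exact hx.trans this
      · intro a _; exact inv_inv a
      · intro a ha h
        rw [Finset.mem_filter] at ha
        apply hne
        obtain ⟨c, hc⟩ := isConj_iff.mp ha.2
        have ha2 : a ^ 2 = 1 := by
          rw [pow_two]
          calc a * a = a⁻¹ * a := by rw [h]
            _ = 1 := inv_mul_cancel a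
        have : x = c⁻¹ * a * c := by rw [← hc]; group
        rw [this]
        calc (c⁻¹ * a * c) ^ 2 = c⁻¹ * a ^ 2 * c := by
              rw [pow_two, pow_two]; group
          _ = 1 := by rw [ha2]; group
    exact (Nat.not_even_iff_odd.mpr hodd) heven
  · -- part 3
    intro N _ hN
    obtain ⟨t, ⟨j, hj⟩, ht⟩ := part1
    have htN : t ∈ N := by
      have h1 : orderOf (QuotientGroup.mk t : G ⧸ N) ∣ 2 ^ j := by
        rw [← hj]; exact orderOf_map_dvd (QuotientGroup.mk' N) t
      have h2 : orderOf (QuotientGroup.mk t : G ⧸ N) ∣ N.index := by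
        rw [Subgroup.index_eq_card]; exact orderOf_dvd_natCard _
      have hcop : Nat.Coprime (2 ^ j) N.index := Nat.Coprime.pow_left _ (Nat.coprime_two_left.mpr hN)
      have h3 : orderOf (QuotientGroup.mk t : G ⧸ N) = 1 :=
        Nat.eq_one_of_dvd_coprimes hcop h1 h2
      rw [orderOf_eq_one_iff] at h3
      exact (QuotientGroup.eq_one_iff t).mp h3
    have hx2 : x ^ 2 ∈ N := by
      have h1 : x⁻¹ * (t * x * t⁻¹) ∈ N := by
        have : x⁻¹ * (t * x * t⁻¹) = (x⁻¹ * t * x⁻¹⁻¹) * t⁻¹ := by group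
        rw [this]
        exact N.mul_mem (‹N.Normal›.conj_mem t htN x⁻¹) (N.inv_mem htN)
      rw [ht] at h1
      have : x ^ 2 = (x⁻¹ * x⁻¹)⁻¹ := by group
      rw [this]
      exact N.inv_mem h1
    have hxN : x ∈ N := by
      obtain ⟨k, hk⟩ := hN
      have h1 : x ^ N.index ∈ N := N.pow_index_mem x
      rw [hk, pow_succ, pow_mul] at h1
      have h2 : (x ^ 2) ^ k ∈ N := N.pow_mem hx2 k
      have : x = ((x ^ 2) ^ k)⁻¹ * ((x ^ 2) ^ k * x) := by group
      rw [this]
      exact N.mul_mem (N.inv_mem h2) h1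
    refine ⟨hxN, isConj_iff.mpr ⟨⟨t, htN⟩, ?_⟩⟩
    apply Subtype.ext
    simpa using ht

end Cfsg.Agent.S3863
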