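import Mathlib
import Cfsg.Statements.S3864
import Cfsg.Agent.Helper2.SylowConj
import Cfsg.Agent.Helper1.FrobPCompl
-- import your own Cfsg.Agent.* helpers here

set_option autoImplicit false
open Cfsg

namespace Cfsg.Agent.S3864

open DihedralGroup
open scoped commutatorElement

universe u

/-- reflection detector -/
def refl (m : ℕ) : DihedralGroup m →* Multiplicative (ZMod 2) where
  toFun g := match g with
    | r _ => 1
    | sr _ => Multiplicative.ofAdd 1
  map_one' := rfl
  map_mul' a b := by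
    cases a <;> cases b <;> simp only [r_mul_r, r_mul_sr, sr_mul_r, sr_mul_sr, mul_one, one_mul]
    decide

@[simp] theorem refl_r (m : ℕ) (i : ZMod m) : refl m (r i) = 1 := rfl
@[simp] theorem refl_sr (m : ℕ) (i : ZMod m) : refl m (sr i) = Multiplicative.ofAdd 1 := rfl

/-- index parity -/
def par (m : ℕ) (h2 : 2 ∣ m) : DihedralGroup m →* Multiplicative (ZMod 2) where
  toFun g := match g with
    | r i => Multiplicative.ofAdd (ZMod.castHom h2 (ZMod 2) i)
    | sr i => Multiplicative.ofAdd (ZMod.castHom h2 (ZMod 2) i)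
  map_one' := by
    show Multiplicative.ofAdd (ZMod.castHom h2 (ZMod 2) 0) = 1
    rw [map_zero]; rfl
  map_mul' a b := by
    have hneg : ∀ x : ZMod 2, -x = x := by decide
    cases a with
    | r x =>
      cases b with
      | r y => simp only [r_mul_r, map_add, ofAdd_add]
      | sr y =>
        simp only [r_mul_sr, sub_eq_add_neg]
        rw [map_add, map_neg, hneg, ofAdd_add, mul_comm]
    | sr x =>
      cases b with
      | r y => simp only [sr_mul_r, map_add, ofAdd_add]
      | sr y =>
        simp only [sr_mul_sr, sub_eq_add_neg]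
        rw [map_add, map_neg, hneg, ofAdd_add, mul_comm]

theorem par_r (m : ℕ) (h2 : 2 ∣ m) (i : ZMod m) :
    par m h2 (r i) = Multiplicative.ofAdd (ZMod.castHom h2 (ZMod 2) i) := rfl
theorem par_sr (m : ℕ) (h2 : 2 ∣ m) (i : ZMod m) :
    par m h2 (sr i) = Multiplicative.ofAdd (ZMod.castHom h2 (ZMod 2) i) := rfl

theorem castHom_eq_val {m : ℕ} [NeZero m] (h2 : 2 ∣ m) (i : ZMod m) :
    ZMod.castHom h2 (ZMod 2) i = ((i.val : ℕ) : ZMod 2) := by
  conv_lhs => rw [← ZMod.natCast_zmod_val i]
  rw [map_natCast]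

theorem two_torsion (n : ℕ) [NeZero n] (t : ZMod n) (h : 2 * t = 0) :
    t = 0 ∨ (2 ∣ n ∧ t = ((n / 2 : ℕ) : ZMod n)) := by
  have hv : t.val < n := ZMod.val_lt t
  have h1 : ((2 * t.val : ℕ) : ZMod n) = 0 := by
    push_cast
    rw [ZMod.natCast_zmod_val]
    exact h
  rw [ZMod.natCast_eq_zero_iff] at h1
  obtain ⟨c, hc⟩ := h1
  have hc' : c = 0 ∨ c = 1 := by
    have : n * c < n * 2 := by omega
    have : c < 2 := lt_of_mul_lt_mul_left this (Nat.zero_le n)
    omega
  rcases hc' with rfl | rfl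
  · left
    have : t.val = 0 := by omega
    exact (ZMod.val_eq_zero t).1 this
  · right
    refine ⟨⟨t.val, by omega⟩, ?_⟩
    have : t.val = n / 2 := by omega
    rw [← this, ZMod.natCast_zmod_val]

/-- the central involution -/
def zz (m : ℕ) : DihedralGroup m := r ((m / 2 : ℕ) : ZMod m)

theorem invol_cases (m : ℕ) [NeZero m] (d : DihedralGroup m) (hd : orderOf d = 2) :
    d = zz m ∨ ∃ i, d = sr i := by
  cases d with
  | r i =>
    left
    have h1 : (r i : DihedralGroup m) ^ 2 = 1 := by rw [← hd]; exact pow_orderOf_eq_one _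
    rw [pow_two, r_mul_r, one_def] at h1
    have h2 : 2 * i = 0 := by rw [two_mul]; exact r.inj h1
    rcases two_torsion m i h2 with h | ⟨_, h⟩
    · exfalso
      rw [h, ← one_def, orderOf_one] at hd
      omega
    · rw [h]; rfl
  | sr i => exact Or.inr ⟨i, rfl⟩

/-- every involution is conjugate in `D_m` to one of three representatives -/
theorem exists_rep (m : ℕ) [NeZero m] (d : DihedralGroup m) (hd : orderOf d = 2) :
    ∃ c : DihedralGroup m, c * d * c⁻¹ = zz m ∨ c * d * c⁻¹ = sr 0 ∨ c * d * c⁻¹ = sr 1 := by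
  rcases invol_cases m d hd with rfl | ⟨i, rfl⟩
  · exact ⟨1, Or.inl (by simp)⟩
  · obtain ⟨q, b, hb, hi⟩ : ∃ q b : ℕ, (b = 0 ∨ b = 1) ∧ i = ((2 * q + b : ℕ) : ZMod m) := by
      refine ⟨i.val / 2, i.val % 2, Nat.mod_two_eq_zero_or_one i.val, ?_⟩
      rw [Nat.div_add_mod, ZMod.natCast_zmod_val]
    refine ⟨r ((q : ℕ) : ZMod m), ?_⟩
    have h1 : r ((q : ℕ) : ZMod m) * sr i * (r ((q : ℕ) : ZMod m))⁻¹ = sr ((b : ℕ) : ZMod m) := by
      rw [inv_r, r_mul_sr, sr_mul_r, hi]
      congr 1
      push_cast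
      ring
    rw [h1]
    rcases hb with h | h
    · right; left; rw [h]; simp
    · right; right; rw [h]; simp

theorem nat_key (k : ℕ) (hk : k ≠ 0) (v : ℕ) :
    2 ^ k / Nat.gcd (2 ^ k) v = 2 ^ k ↔ v % 2 = 1 := by
  have hmpos : 0 < 2 ^ k := by positivity
  have hgpos : 0 < Nat.gcd (2 ^ k) v := Nat.gcd_pos_of_pos_left _ hmpos
  have hgd : Nat.gcd (2 ^ k) v ∣ 2 ^ k := Nat.gcd_dvd_left _ _
  constructor
  · intro h1
    have h3 : Nat.gcd (2 ^ k) v = 1 := by
      obtain ⟨c, hc⟩ := hgd
      have h5 : 2 ^ k / Nat.gcd (2 ^ k) v = c := Nat.div_eq_of_eq_mul_right hgpos hc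
      rw [h5] at h1
      rw [h1] at hc
      have h6 : 2 ^ k * 1 = 2 ^ k * Nat.gcd (2 ^ k) v := by
        rw [mul_one, mul_comm]; exact hc
      exact (Nat.eq_of_mul_eq_mul_left hmpos h6).symm
    have h4 : Nat.Coprime 2 v := (Nat.coprime_pow_left_iff (Nat.pos_of_ne_zero hk) 2 v).1 h3
    rw [Nat.coprime_two_left] at h4
    exact Nat.odd_iff.1 h4
  · intro h1
    have h4 : Nat.Coprime 2 v := Nat.coprime_two_left.2 (Nat.odd_iff.2 h1)
    have h3 : Nat.gcd (2 ^ k) v = 1 := Nat.Coprime.pow_left k h4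
    rw [h3, Nat.div_one]

/-- equal orders of rotations give equal parity -/
theorem par_eq_of_orderOf_eq {m k : ℕ} [NeZero m] (hm : m = 2 ^ k) (h2 : 2 ∣ m) (i j : ZMod m)
    (h : orderOf (r i : DihedralGroup m) = orderOf (r j : DihedralGroup m)) :
    par m h2 (r i) = par m h2 (r j) := by
  subst hm
  have hk : k ≠ 0 := by
    rintro rfl
    rw [pow_zero] at h2
    omega
  rw [orderOf_r, orderOf_r] at h
  rw [par_r, par_r, castHom_eq_val, castHom_eq_val]
  congr 1
  rw [ZMod.natCast_eq_natCast_iff']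
  have hi := nat_key k hk i.val
  have hj := nat_key k hk j.val
  rw [h] at hi
  rcases Nat.mod_two_eq_zero_or_one i.val with h0 | h1
  · rcases Nat.mod_two_eq_zero_or_one j.val with h0' | h1'
    · rw [h0, h0']
    · exfalso
      have := hi.1 (hj.2 h1')
      omega
  · have := hj.1 (hi.2 h1)
    rw [h1, this]

section
variable {G : Type u} [Group G]

/-- counting classes among three representatives -/
theorem card_classes (Z S T : G) (hZ : orderOf Z = 2) (hS : orderOf S = 2) (hT : orderOf T = 2)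
    (hall : ∀ g : G, orderOf g = 2 → ∃ c : G, c * g * c⁻¹ = Z ∨ c * g * c⁻¹ = S ∨ c * g * c⁻¹ = T) :
    {C : ConjClasses G | ∃ g : G, ConjClasses.mk g = C ∧ orderOf g = 2} =
      {ConjClasses.mk Z, ConjClasses.mk S, ConjClasses.mk T} := by
  ext C
  simp only [Set.mem_ofPred_eq, Set.mem_insert_iff, Set.mem_singleton_iff]
  constructor
  · rintro ⟨g, rfl, hg⟩
    obtain ⟨c, hc⟩ := hall g hg
    have key : ∀ y : G, c * g * c⁻¹ = y → ConjClasses.mk g = ConjClasses.mk y := by
      intro y hy
      rw [ConjClasses.mk_eq_mk_iff_isConj, isConj_iff]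
      exact ⟨c, hy⟩
    rcases hc with h | h | h
    · exact Or.inl (key _ h)
    · exact Or.inr (Or.inl (key _ h))
    · exact Or.inr (Or.inr (key _ h))
  · rintro (rfl | rfl | rfl)
    · exact ⟨Z, rfl, hZ⟩
    · exact ⟨S, rfl, hS⟩
    · exact ⟨T, rfl, hT⟩

theorem natCard_classes (Z S T : G)
    (h : {C : ConjClasses G | ∃ g : G, ConjClasses.mk g = C ∧ orderOf g = 2} =
      {ConjClasses.mk Z, ConjClasses.mk S, ConjClasses.mk T}) :
    Nat.card {C : ConjClasses G // ∃ g : G, ConjClasses.mk g = C ∧ orderOf g = 2} =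
      ({ConjClasses.mk Z, ConjClasses.mk S, ConjClasses.mk T} : Set (ConjClasses G)).ncard := by
  rw [← h]
  exact Nat.card_coe_set_eq _

end

section
variable {G : Type u} [Group G] (P : Sylow 2 G) {m : ℕ}
  (e : ↥(P : Subgroup G) ≃* DihedralGroup m)

/-- inclusion of `D_m` into `G` -/
def iota : DihedralGroup m →* G := (P : Subgroup G).subtype.comp e.symm.toMonoidHom

theorem iota_apply (d : DihedralGroup m) : iota P e d = ((e.symm d : ↥(P : Subgroup G)) : G) := rfl

theorem iota_injective : Function.Injective (iota P e) :=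
  (Subgroup.subtype_injective _).comp e.symm.injective

theorem iota_mem (d : DihedralGroup m) : iota P e d ∈ (P : Subgroup G) := (e.symm d).2

theorem exists_iota {x : G} (hx : x ∈ (P : Subgroup G)) : ∃ d, iota P e d = x :=
  ⟨e ⟨x, hx⟩, by rw [iota_apply, MulEquiv.symm_apply_apply]⟩

theorem orderOf_iota (d : DihedralGroup m) : orderOf (iota P e d) = orderOf d :=
  orderOf_injective (iota P e) (iota_injective P e) d

theorem invol_conj [Finite G] [NeZero m] (g : G) (hg : orderOf g = 2) :
    ∃ c : G, c * g * c⁻¹ = iota P e (zz m) ∨ c * g * c⁻¹ = iota P e (sr 0) ∨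
      c * g * c⁻¹ = iota P e (sr 1) := by
  have hK : IsPGroup 2 (Subgroup.zpowers g) := by
    apply IsPGroup.of_card (n := 1)
    rw [Nat.card_zpowers, hg, pow_one]
  obtain ⟨h, hh⟩ := Cfsg.Agent.Helper2.exists_conj_le_sylow P (Subgroup.zpowers g) hK
  have h1 : h * g * h⁻¹ ∈ (P : Subgroup G) := hh g (Subgroup.mem_zpowers g)
  obtain ⟨d, hd⟩ := exists_iota P e h1
  have hord : orderOf d = 2 := by
    rw [← orderOf_iota P e, hd]
    have : orderOf (h * g * h⁻¹) = orderOf g :=
      orderOf_injective (MulAut.conj h).toMonoidHom (MulAut.conj h).injective g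
    rw [this, hg]
  obtain ⟨c, hc⟩ := exists_rep m d hord
  refine ⟨iota P e c * h, ?_⟩
  have h2 : iota P e c * h * g * (iota P e c * h)⁻¹ = iota P e (c * d * c⁻¹) := by
    rw [map_mul, map_mul, map_inv, hd]
    group
  rw [h2]
  rcases hc with hc | hc | hc
  · left; rw [hc]
  · right; left; rw [hc]
  · right; right; rw [hc]

theorem mem_focal {x u : G} (hx : x ∈ (P : Subgroup G)) (hy : u * x * u⁻¹ ∈ (P : Subgroup G)) :
    x * (u * x * u⁻¹)⁻¹ ∈ (P : Subgroup G).focalSubgroup := by
  apply Subgroup.subset_closure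
  refine ⟨Subgroup.mul_mem _ hx (Subgroup.inv_mem _ hy), x, hx, u, ?_⟩
  rw [commutatorElement_def]
  group

/-- Upper bound for the focal subgroup from a fusion-invariant character. -/
theorem focal_le_ker [Finite G] [NeZero m] (χ : DihedralGroup m →* Multiplicative (ZMod 2))
    (hrot : ∀ i j : ZMod m, orderOf (r i : DihedralGroup m) = orderOf (r j : DihedralGroup m) →
      χ (r i) = χ (r j))
    (hinv : ∀ a b : DihedralGroup m, (a = zz m ∨ a = sr 0 ∨ a = sr 1) →
      (b = zz m ∨ b = sr 0 ∨ b = sr 1) → (∃ u : G, u * iota P e a * u⁻¹ = iota P e b) → χ a = χ b)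
    (g : G) (hg : g ∈ (P : Subgroup G).focalSubgroup) : ∃ d, χ d = 1 ∧ iota P e d = g := by
  have hclass : ∀ c d : DihedralGroup m, χ (c * d * c⁻¹) = χ d := by
    intro c d
    rw [map_mul, map_mul, map_inv, mul_comm, ← mul_assoc, inv_mul_cancel, one_mul]
  induction hg using Subgroup.closure_induction with
  | mem g hg =>
    obtain ⟨hgP, x, hxP, u, rfl⟩ := hg
    have hyP : u * x * u⁻¹ ∈ (P : Subgroup G) := by
      have h1 : u * x * u⁻¹ = ⁅x, u⁆⁻¹ * x := by rw [commutatorElement_def]; group
      rw [h1]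
      exact Subgroup.mul_mem _ (Subgroup.inv_mem _ hgP) hxP
    obtain ⟨a, ha⟩ := exists_iota P e hxP
    obtain ⟨b, hb⟩ := exists_iota P e hyP
    have hconj : u * iota P e a * u⁻¹ = iota P e b := by rw [ha, hb]
    have hord : orderOf a = orderOf b := by
      rw [← orderOf_iota P e a, ← orderOf_iota P e b, ← hconj]
      exact (orderOf_injective (MulAut.conj u).toMonoidHom (MulAut.conj u).injective _).symm
    refine ⟨a * b⁻¹, ?_, ?_⟩
    · have hab : χ a = χ b := by
        by_cases h2 : orderOf a = 2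
        · obtain ⟨c₁, hc₁⟩ := exists_rep m a h2
          obtain ⟨c₂, hc₂⟩ := exists_rep m b (hord ▸ h2)
          rw [← hclass c₁ a, ← hclass c₂ b]
          apply hinv _ _ hc₁ hc₂
          refine ⟨iota P e c₂ * u * (iota P e c₁)⁻¹, ?_⟩
          have h3 : iota P e c₂ * u * (iota P e c₁)⁻¹ * iota P e (c₁ * a * c₁⁻¹) *
              (iota P e c₂ * u * (iota P e c₁)⁻¹)⁻¹ =
              iota P e c₂ * (u * iota P e a * u⁻¹) * (iota P e c₂)⁻¹ := by
            rw [map_mul, map_mul, map_inv]
            group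
          rw [h3, hconj, map_mul, map_mul, map_inv]
        · cases a with
          | r i =>
            cases b with
            | r j => exact hrot i j hord
            | sr j =>
              exfalso
              rw [orderOf_sr] at hord
              exact h2 hord
          | sr i =>
            exfalso
            exact h2 (orderOf_sr i)
      rw [map_mul, map_inv, hab, mul_inv_cancel]
    · rw [map_mul, map_inv, ha, hb, commutatorElement_def]
      group
  | one => exact ⟨1, map_one _, map_one _⟩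
  | mul g₁ g₂ _ _ ih₁ ih₂ =>
    obtain ⟨d₁, h₁, rfl⟩ := ih₁
    obtain ⟨d₂, h₂, rfl⟩ := ih₂
    exact ⟨d₁ * d₂, by rw [map_mul, h₁, h₂, one_mul], map_mul _ _ _⟩
  | inv g _ ih =>
    obtain ⟨d, h, rfl⟩ := ih
    exact ⟨d⁻¹, by rw [map_inv, h, inv_one], map_inv _ _⟩

theorem exists_index_two [Finite G] (χ : DihedralGroup m →* Multiplicative (ZMod 2))
    (hker : ∀ g ∈ (P : Subgroup G).focalSubgroup, ∃ d, χ d = 1 ∧ iota P e d = g)
    (hne : ∃ d₁, χ d₁ ≠ 1) : ∃ N : Subgroup G, N.Normal ∧ N.index = 2 := by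
  have hle : (P : Subgroup G).focalSubgroupOf ≤ (χ.comp e.toMonoidHom).ker := by
    intro x hx
    rw [Subgroup.focalSubgroupOf_def, Subgroup.mem_subgroupOf] at hx
    obtain ⟨d, hd, hdx⟩ := hker _ hx
    rw [MonoidHom.mem_ker, MonoidHom.comp_apply]
    have : e.symm d = x := Subtype.ext hdx
    rw [← this]
    simpa using hd
  let L : ↥(P : Subgroup G) ⧸ (P : Subgroup G).focalSubgroupOf →* Multiplicative (ZMod 2) :=
    QuotientGroup.lift _ (χ.comp e.toMonoidHom) hle
  let Θ : G →* Multiplicative (ZMod 2) := L.comp (P : Subgroup G).transferFocal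
  obtain ⟨d₁, hd₁⟩ := hne
  have hΘne : ∃ g : G, Θ g ≠ 1 := by
    obtain ⟨g, hg⟩ := Subgroup.transferFocal_surjective P
      (QuotientGroup.mk' _ (e.symm d₁))
    refine ⟨g, ?_⟩
    show L ((P : Subgroup G).transferFocal g) ≠ 1
    rw [hg]
    show χ (e (e.symm d₁)) ≠ 1
    rw [MulEquiv.apply_symm_apply]
    exact hd₁
  have hsurj : Function.Surjective Θ := by
    obtain ⟨g, hg⟩ := hΘne
    intro y
    have h2 : ∀ a : Multiplicative (ZMod 2), a = 1 ∨ a = Multiplicative.ofAdd 1 := by decide
    rcases h2 y with rfl | rfl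
    · exact ⟨1, map_one _⟩
    · rcases h2 (Θ g) with h | h
      · exact absurd h hg
      · exact ⟨g, h⟩
  refine ⟨Θ.ker, MonoidHom.normal_ker Θ, ?_⟩
  rw [Subgroup.index_ker, MonoidHom.range_eq_top.2 hsurj, Subgroup.card_top]
  simp

theorem iota_r_two_mem : iota P e (r 2) ∈ (P : Subgroup G).focalSubgroup := by
  have h := mem_focal P (x := iota P e (r 1)) (u := iota P e (sr 0)) (iota_mem P e _)
    (by rw [← map_inv, ← map_mul, ← map_mul]; exact iota_mem P e _)
  rw [← map_inv, ← map_mul, ← map_mul, ← map_inv, ← map_mul] at h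
  convert h using 2
  simp only [sr_mul_r, inv_sr, sr_mul_sr, inv_r, r_mul_r]
  congr 1
  ring

theorem focal_le_of_normal_comm [Finite G] (N : Subgroup G) [N.Normal]
    (hc : IsMulCommutative (G ⧸ N)) : (P : Subgroup G).focalSubgroup ≤ N :=
  (Subgroup.focalSubgroup_le_commutator _).trans
    (Subgroup.Normal.quotient_commutative_iff_commutator_le.1 hc)

theorem no_index_four [Finite G] [NeZero m] (h2 : 2 ∣ m) (h3 : 2 < m)
    (χ' : DihedralGroup m →* Multiplicative (ZMod 2)) (hχ' : χ' (r 2) = 1)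
    (d : DihedralGroup m) (hd : χ' d ≠ 1) (hdF : iota P e d ∈ (P : Subgroup G).focalSubgroup)
    (N : Subgroup G) (hN : N.Normal) : N.index ≠ 4 := by
  intro hidx
  have : Fact (Nat.Prime 2) := ⟨Nat.prime_two⟩
  set F := (P : Subgroup G).focalSubgroup with hF
  have hcomm : IsMulCommutative (G ⧸ N) :=
    IsPGroup.isMulCommutative_of_card_eq_prime_sq (p := 2) (by
      show N.index = 2 ^ 2
      rw [hidx]; norm_num)
  have hFN : F ≤ N := focal_le_of_normal_comm P N hcomm
  have hFP : F ≤ (P : Subgroup G) := Subgroup.focalSubgroup_le _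
  -- |N ⊓ P| * 4 = |P|
  have hsup : (P : Subgroup G) ⊔ N = ⊤ := by
    rw [← Subgroup.index_eq_one]
    have h1 : ((P : Subgroup G) ⊔ N).index ∣ (P : Subgroup G).index :=
      Subgroup.index_dvd_of_le le_sup_left
    have h2' : ((P : Subgroup G) ⊔ N).index ∣ 4 := hidx ▸ Subgroup.index_dvd_of_le le_sup_right
    have h3' : ¬ 2 ∣ (P : Subgroup G).index := P.not_dvd_index
    have h4 : ¬ 2 ∣ ((P : Subgroup G) ⊔ N).index := fun h => h3' (h.trans h1)
    have h5 : ((P : Subgroup G) ⊔ N).index ∣ 2 ^ 2 := h2'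
    obtain ⟨k, hk, hk'⟩ := (Nat.dvd_prime_pow Nat.prime_two).1 h5
    rcases Nat.eq_zero_or_pos k with rfl | hk0
    · simpa using hk'
    · exfalso
      apply h4
      rw [hk']
      exact dvd_pow_self 2 hk0.ne'
  have hrel : (N ⊓ (P : Subgroup G)).relIndex (P : Subgroup G) = 4 := by
    rw [Subgroup.inf_relIndex_right, ← Subgroup.relIndex_sup_right, hsup,
      Subgroup.relIndex_top_right, hidx]
  have hcardP : Nat.card (P : Subgroup G) = 2 * m := by
    rw [Nat.card_congr e.toEquiv, DihedralGroup.nat_card]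
  have hcardNP : Nat.card (N ⊓ (P : Subgroup G) : Subgroup G) * 4 = 2 * m := by
    rw [← hcardP, ← hrel, mul_comm]
    exact Cfsg.Agent.Helper1.relIndex_mul_card_of_le inf_le_right
  -- R2
  set R2 : Subgroup G := Subgroup.zpowers (iota P e (r 2)) with hR2
  have hR2F : R2 ≤ F := by
    rw [hR2, Subgroup.zpowers_le]; exact iota_r_two_mem P e
  have hcardR2 : Nat.card R2 = m / 2 := by
    rw [hR2, Nat.card_zpowers, orderOf_injective (iota P e) (iota_injective P e), orderOf_r]
    have hv : ((2 : ZMod m)).val = 2 := by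
      have : ((2 : ℕ) : ZMod m).val = 2 % m := ZMod.val_natCast m 2
      rw [Nat.mod_eq_of_lt h3] at this
      exact_mod_cast this
    rw [hv, Nat.gcd_eq_right h2]
  have hdR2 : iota P e d ∉ R2 := by
    intro hmem
    rw [hR2, ← MonoidHom.map_zpowers] at hmem
    obtain ⟨d', hd', hdd⟩ := hmem
    have : d' = d := iota_injective P e hdd
    subst this
    apply hd
    have hle : Subgroup.zpowers (r 2 : DihedralGroup m) ≤ χ'.ker := by
      rw [Subgroup.zpowers_le]; exact hχ'
    exact hle hd'
  have hlt : R2 < F := lt_of_le_of_ne hR2F (fun h => hdR2 (h ▸ hdF))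
  have h1 : Nat.card R2 < Nat.card F := Cfsg.Agent.Helper1.card_lt_card_of_lt hlt
  have h2'' : Nat.card F ≤ Nat.card (N ⊓ (P : Subgroup G) : Subgroup G) :=
    Subgroup.card_le_of_le (le_inf hFN hFP)
  omega

theorem no_index_two [Finite G] [NeZero m] (j : ZMod m)
    (h1 : iota P e (r 1) ∈ (P : Subgroup G).focalSubgroup)
    (h2 : iota P e (sr j) ∈ (P : Subgroup G).focalSubgroup)
    (N : Subgroup G) (hN : N.Normal) : N.index ≠ 2 := by
  intro hidx
  have : Fact (Nat.Prime 2) := ⟨Nat.prime_two⟩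
  have hcomm : IsMulCommutative (G ⧸ N) := by
    have hc : Nat.card (G ⧸ N) = 2 := hidx
    have : IsCyclic (G ⧸ N) := isCyclic_of_prime_card hc
    infer_instance
  have hFN := focal_le_of_normal_comm P N hcomm
  have hPN : (P : Subgroup G) ≤ N := by
    intro x hx
    obtain ⟨d, rfl⟩ := exists_iota P e hx
    have hr : ∀ i : ZMod m, iota P e (r i) ∈ N := by
      intro i
      have : (r i : DihedralGroup m) = (r 1) ^ i.val := by
        rw [r_one_pow, ZMod.natCast_zmod_val]
      rw [this, map_pow]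
      exact Subgroup.pow_mem _ (hFN h1) _
    cases d with
    | r i => exact hr i
    | sr i =>
      have : (sr i : DihedralGroup m) = sr j * r (i - j) := by
        rw [sr_mul_r]; congr 1; ring
      rw [this, map_mul]
      exact Subgroup.mul_mem _ (hFN h2) (hr _)
  have h3 : N.index ∣ (P : Subgroup G).index := Subgroup.index_dvd_of_le hPN
  rw [hidx] at h3
  exact P.not_dvd_index h3

theorem normal_compl [Finite G] [NeZero m]
    (hker : ∀ g ∈ (P : Subgroup G).focalSubgroup, ∃ d, refl m d = 1 ∧ iota P e d = g) :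
    Cfsg.HasNormalPComplement 2 G := by
  have : Fact (Nat.Prime 2) := ⟨Nat.prime_two⟩
  set c : G := iota P e (r 1) with hc
  have hFc : (P : Subgroup G).focalSubgroup ≤ Subgroup.zpowers c := by
    intro g hg
    obtain ⟨d, hd, rfl⟩ := hker g hg
    cases d with
    | r i =>
      have : (r i : DihedralGroup m) = (r 1) ^ i.val := by
        rw [r_one_pow, ZMod.natCast_zmod_val]
      rw [this, map_pow]
      exact Subgroup.pow_mem _ (Subgroup.mem_zpowers c) _
    | sr i =>
      exfalso
      rw [refl_sr] at hd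
      exact absurd hd (by decide)
  set K : Subgroup G := (P : Subgroup G).transferFocal.ker with hK
  have hKn : K.Normal := MonoidHom.normal_ker _
  have hKP : K ⊓ (P : Subgroup G) = (P : Subgroup G).focalSubgroup :=
    Subgroup.ker_transferFocal_inf_eq_focalSubgroup P
  -- index of K
  have hidx : ∃ k : ℕ, K.index = 2 ^ k := by
    have hQ : IsPGroup 2 (↥(P : Subgroup G) ⧸ (P : Subgroup G).focalSubgroupOf) :=
      P.2.to_quotient _
    obtain ⟨k, hk⟩ := hQ.exists_card_eq
    refine ⟨k, ?_⟩
    rw [hK, Subgroup.index_ker, MonoidHom.range_eq_top.2 (Subgroup.transferFocal_surjective P),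
      Subgroup.card_top, hk]
  obtain ⟨k, hk⟩ := hidx
  -- Sylow 2-subgroups of K are cyclic
  have hcyc : ∀ Q : Sylow 2 K, IsCyclic (Q : Subgroup K) := by
    intro Q
    have hQ' : IsPGroup 2 ((Q : Subgroup K).map K.subtype) := Q.2.map _
    obtain ⟨h, hh⟩ := Cfsg.Agent.Helper2.exists_conj_le_sylow P _ hQ'
    have hmem : ∀ y : (Q : Subgroup K),
        ((MulAut.conj h).toMonoidHom.comp (K.subtype.comp (Q : Subgroup K).subtype)) y ∈
          Subgroup.zpowers c := by
      intro y
      apply hFc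
      rw [← hKP]
      constructor
      · exact hKn.conj_mem _ (y : K).2 h
      · exact hh _ (Subgroup.mem_map.2 ⟨(y : K), y.2, rfl⟩)
    let φ : (Q : Subgroup K) →* Subgroup.zpowers c :=
      ((MulAut.conj h).toMonoidHom.comp (K.subtype.comp (Q : Subgroup K).subtype)).codRestrict
        (Subgroup.zpowers c) hmem
    have hφ : Function.Injective φ := by
      rw [MonoidHom.injective_codRestrict]
      exact (MulAut.conj h).injective.comp
        ((Subgroup.subtype_injective K).comp (Subgroup.subtype_injective _))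
    exact isCyclic_of_injective φ hφ
  have hKc : Cfsg.HasNormalPComplement 2 K := by
    obtain ⟨Q⟩ : Nonempty (Sylow 2 K) := inferInstance
    by_cases heven : 2 ∣ Nat.card K
    · have hmin : (Nat.card K).minFac = 2 := (Nat.minFac_eq_two_iff _).2 heven
      exact ⟨Q, _, MonoidHom.normal_ker _, IsCyclic.isComplement' hmin (hcyc Q)⟩
    · refine ⟨Q, ⊤, inferInstance, ?_⟩
      have hQbot : (Q : Subgroup K) = ⊥ := by
        rw [← Subgroup.card_eq_one, Q.card_eq_multiplicity,
          Nat.factorization_eq_zero_of_not_dvd heven, pow_zero]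
      rw [hQbot]
      exact Subgroup.isComplement'_top_bot
  exact Cfsg.Agent.Helper1.hasNormalPComplement_of_normal_ppow_index K hk hKc

theorem orderOf_zz (h2 : 2 ∣ m) [NeZero m] : orderOf (zz m) = 2 := by
  have hmpos : 0 < m := Nat.pos_of_ne_zero (NeZero.ne m)
  obtain ⟨q, hq⟩ := h2
  have hq0 : 0 < q := by
    rcases Nat.eq_zero_or_pos q with h | h
    · rw [h] at hq; omega
    · exact h
  have hm2 : m / 2 = q := by rw [hq]; exact Nat.mul_div_cancel_left q (by norm_num)
  apply orderOf_eq_prime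
  · rw [zz, pow_two, r_mul_r, one_def]
    congr 1
    rw [hm2, ← Nat.cast_add]
    have : q + q = m := by omega
    rw [this, ZMod.natCast_self]
  · rw [zz, one_def]
    intro h
    have h0 : ((m / 2 : ℕ) : ZMod m) = 0 := r.inj h
    rw [ZMod.natCast_eq_zero_iff, hm2] at h0
    have := Nat.le_of_dvd hq0 h0
    omega

theorem par_zz (h2 : 2 ∣ m) (h4 : 4 ∣ m) : par m h2 (zz m) = 1 := by
  rw [zz, par_r, map_natCast]
  have : ((m / 2 : ℕ) : ZMod 2) = 0 := by
    rw [ZMod.natCast_eq_zero_iff]
    obtain ⟨q, hq⟩ := h4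
    exact ⟨q, by omega⟩
  rw [this]; rfl

theorem par_sr_zero (h2 : 2 ∣ m) : par m h2 (sr 0) = 1 := by
  rw [par_sr, map_zero]; rfl

theorem par_sr_one (h2 : 2 ∣ m) : par m h2 (sr 1) = Multiplicative.ofAdd 1 := by
  rw [par_sr, map_one]

theorem par_r_one (h2 : 2 ∣ m) : par m h2 (r 1) = Multiplicative.ofAdd 1 := by
  rw [par_r, map_one]

theorem par_r_two (h2 : 2 ∣ m) : par m h2 (r 2) = 1 := by
  rw [par_r]
  have : (2 : ZMod m) = 1 + 1 := by norm_num
  rw [this, map_add, map_one]
  decide

theorem lb {a b : DihedralGroup m}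
    (h : ∃ u : G, u * iota P e a * u⁻¹ = iota P e b) :
    iota P e (a * b⁻¹) ∈ (P : Subgroup G).focalSubgroup := by
  obtain ⟨u, hu⟩ := h
  have := mem_focal P (x := iota P e a) (u := u) (iota_mem P e a) (by rw [hu]; exact iota_mem P e b)
  rw [hu, ← map_inv, ← map_mul] at this
  exact this

theorem hinv_of (χ : DihedralGroup m →* Multiplicative (ZMod 2))
    (hzs : (∃ u : G, u * iota P e (zz m) * u⁻¹ = iota P e (sr 0)) → χ (zz m) = χ (sr 0))
    (hzt : (∃ u : G, u * iota P e (zz m) * u⁻¹ = iota P e (sr 1)) → χ (zz m) = χ (sr 1))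
    (hst : (∃ u : G, u * iota P e (sr 0) * u⁻¹ = iota P e (sr 1)) → χ (sr 0) = χ (sr 1)) :
    ∀ a b : DihedralGroup m, (a = zz m ∨ a = sr 0 ∨ a = sr 1) →
      (b = zz m ∨ b = sr 0 ∨ b = sr 1) → (∃ u : G, u * iota P e a * u⁻¹ = iota P e b) →
      χ a = χ b := by
  have symm : ∀ x y : G, (∃ u : G, u * x * u⁻¹ = y) → ∃ u : G, u * y * u⁻¹ = x := by
    rintro x y ⟨u, rfl⟩; exact ⟨u⁻¹, by group⟩
  rintro a b (rfl | rfl | rfl) (rfl | rfl | rfl) h
  · rfl
  · exact hzs h
  · exact hzt h
  · exact (hzs (symm _ _ h)).symm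
  · rfl
  · exact hst h
  · exact (hzt (symm _ _ h)).symm
  · exact (hst (symm _ _ h)).symm
  · rfl

theorem main [Finite G] [NeZero m] (P : Sylow 2 G) (e : ↥(P : Subgroup G) ≃* DihedralGroup m)
    (k : ℕ) (hm : m = 2 ^ k) (h4 : 4 ∣ m) :
    (Nat.card {C : ConjClasses G // ∃ g : G, ConjClasses.mk g = C ∧ orderOf g = 2} = 1 ∧ ∀ N : Subgroup G, N.Normal → N.index ≠ 2) ∨ (Nat.card {C : ConjClasses G // ∃ g : G, ConjClasses.mk g = C ∧ orderOf g = 2} = 2 ∧ (∃ N : Subgroup G, N.Normal ∧ N.index = 2) ∧ ∀ N : Subgroup G, N.Normal → N.index ≠ 4) ∨ (Nat.card {C : ConjClasses G // ∃ g : G, ConjClasses.mk g = C ∧ orderOf g = 2} = 3 ∧ Cfsg.HasNormalPComplement 2 G) := by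
  have h2 : 2 ∣ m := (by norm_num : 2 ∣ 4).trans h4
  have h3 : 2 < m := by
    have := Nat.le_of_dvd (Nat.pos_of_ne_zero (NeZero.ne m)) h4
    omega
  set Z := iota P e (zz m) with hZdef
  set S := iota P e (sr 0) with hSdef
  set T := iota P e (sr 1) with hTdef
  have hZ : orderOf Z = 2 := by rw [hZdef, orderOf_iota, orderOf_zz h2]
  have hS : orderOf S = 2 := by rw [hSdef, orderOf_iota, orderOf_sr]
  have hT : orderOf T = 2 := by rw [hTdef, orderOf_iota, orderOf_sr]
  have hset := card_classes Z S T hZ hS hT (invol_conj P e)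
  have hcard := natCard_classes Z S T hset
  have conj_iff : ∀ x y : G, ConjClasses.mk x = ConjClasses.mk y ↔ ∃ u, u * x * u⁻¹ = y := by
    intro x y
    rw [ConjClasses.mk_eq_mk_iff_isConj, isConj_iff]
  have hne1 : (Multiplicative.ofAdd (1 : ZMod 2)) ≠ 1 := by decide
  -- data for the three characters
  have hrot_refl : ∀ i j : ZMod m, orderOf (r i : DihedralGroup m) = orderOf (r j : DihedralGroup m) →
      refl m (r i) = refl m (r j) := fun _ _ _ => rfl
  have hrot_par : ∀ i j : ZMod m, orderOf (r i : DihedralGroup m) = orderOf (r j : DihedralGroup m) →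
      par m h2 (r i) = par m h2 (r j) := fun i j h => par_eq_of_orderOf_eq hm h2 i j h
  have hrot_mul : ∀ i j : ZMod m, orderOf (r i : DihedralGroup m) = orderOf (r j : DihedralGroup m) →
      (refl m * par m h2) (r i) = (refl m * par m h2) (r j) := by
    intro i j h
    rw [MonoidHom.mul_apply, MonoidHom.mul_apply, hrot_refl i j h, hrot_par i j h]
  have hzs_val : zz m * (sr (0 : ZMod m))⁻¹ = sr (0 - ((m / 2 : ℕ) : ZMod m)) := by
    rw [zz, inv_sr, r_mul_sr]
  have hzt_val : zz m * (sr (1 : ZMod m))⁻¹ = sr (1 - ((m / 2 : ℕ) : ZMod m)) := by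
    rw [zz, inv_sr, r_mul_sr]
  have hst_val : sr (0 : ZMod m) * (sr (1 : ZMod m))⁻¹ = r 1 := by
    rw [inv_sr, sr_mul_sr, sub_zero]
  by_cases hZS : ConjClasses.mk Z = ConjClasses.mk S
  · by_cases hZT : ConjClasses.mk Z = ConjClasses.mk T
    · -- one class
      left
      refine ⟨?_, ?_⟩
      · rw [hcard, ← hZS, ← hZT]
        simp
      · intro N hN
        have hST : ConjClasses.mk S = ConjClasses.mk T := hZS.symm.trans hZT
        have l1 := lb P e ((conj_iff _ _).1 hST)
        have l2 := lb P e ((conj_iff _ _).1 hZS)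
        rw [hst_val] at l1
        rw [hzs_val] at l2
        exact no_index_two P e _ l1 l2 N hN
    · -- classes {Z,S},{T}
      right; left
      have hST : ConjClasses.mk S ≠ ConjClasses.mk T := fun h => hZT (hZS.trans h)
      refine ⟨?_, ?_, ?_⟩
      · rw [hcard, ← hZS, Set.insert_eq_of_mem (Set.mem_insert _ _)]
        exact Set.ncard_pair hZT
      · apply exists_index_two P e (par m h2)
        · apply focal_le_ker P e (par m h2) hrot_par
          apply hinv_of P e
          · intro _; rw [par_zz h2 h4, par_sr_zero]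
          · intro h; exact absurd ((conj_iff _ _).2 h) hZT
          · intro h; exact absurd ((conj_iff _ _).2 h) hST
        · exact ⟨sr 1, by rw [par_sr_one]; exact hne1⟩
      · intro N hN
        have l2 := lb P e ((conj_iff _ _).1 hZS)
        exact no_index_four P e h2 h3 (refl m) (refl_r m 2) _
          (by rw [hzs_val, refl_sr]; exact hne1) l2 N hN
  · by_cases hZT : ConjClasses.mk Z = ConjClasses.mk T
    · -- classes {Z,T},{S}
      right; left
      have hST : ConjClasses.mk S ≠ ConjClasses.mk T := fun h => hZS (hZT.trans h.symm)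
      refine ⟨?_, ?_, ?_⟩
      · rw [hcard, ← hZT]
        have hs : ({ConjClasses.mk Z, ConjClasses.mk S, ConjClasses.mk Z} : Set (ConjClasses G)) =
            {ConjClasses.mk S, ConjClasses.mk Z} := Set.insert_eq_of_mem (by simp)
        rw [hs]
        exact Set.ncard_pair (Ne.symm hZS)
      · apply exists_index_two P e (refl m * par m h2)
        · apply focal_le_ker P e (refl m * par m h2) hrot_mul
          apply hinv_of P e
          · intro h; exact absurd ((conj_iff _ _).2 h) hZS
          · intro _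
            rw [MonoidHom.mul_apply, MonoidHom.mul_apply, par_zz h2 h4, par_sr_one, zz, refl_r,
              refl_sr]
            decide
          · intro h; exact absurd ((conj_iff _ _).2 h) hST
        · refine ⟨sr 0, ?_⟩
          rw [MonoidHom.mul_apply, par_sr_zero, refl_sr, mul_one]
          exact hne1
      · intro N hN
        have l2 := lb P e ((conj_iff _ _).1 hZT)
        exact no_index_four P e h2 h3 (refl m) (refl_r m 2) _
          (by rw [hzt_val, refl_sr]; exact hne1) l2 N hN
    · have hker_refl : ∀ g ∈ (P : Subgroup G).focalSubgroup, ∃ d, refl m d = 1 ∧ iota P e d = g := by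
        apply focal_le_ker P e (refl m) hrot_refl
        apply hinv_of P e
        · intro h; exact absurd ((conj_iff _ _).2 h) hZS
        · intro h; exact absurd ((conj_iff _ _).2 h) hZT
        · intro _; rfl
      by_cases hST : ConjClasses.mk S = ConjClasses.mk T
      · -- classes {Z},{S,T}
        right; left
        refine ⟨?_, ?_, ?_⟩
        · rw [hcard, ← hST, Set.pair_eq_singleton]
          exact Set.ncard_pair hZS
        · exact exists_index_two P e (refl m) hker_refl ⟨sr 0, by rw [refl_sr]; exact hne1⟩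
        · intro N hN
          have l1 := lb P e ((conj_iff _ _).1 hST)
          rw [hst_val] at l1
          exact no_index_four P e h2 h3 (par m h2) (par_r_two h2) (r 1)
            (by rw [par_r_one]; exact hne1) l1 N hN
      · -- three classes
        right; right
        refine ⟨?_, normal_compl P e hker_refl⟩
        rw [hcard]
        exact Set.ncard_eq_three.2 ⟨_, _, _, hZS, hZT, hST, rfl⟩

end

/-- Let G be a finite group whose Sylow 2-subgroups are dihedral of order 2 ^ n with n ≥ 3, and count the conjugacy classes of involutions of G. Then exactly one of the following holds: there is one class of involutions and no normal subgroup of index 2; there are two classes of involutions, a normal subgroup of index 2 and none of index 4; there are three classes of involutions and G has a normal 2-complement. -/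
theorem result {G : Type*} [Group G] [Finite G] (P : Sylow 2 G) (n : ℕ) (hn : 3 ≤ n) (hdih : Nonempty (↥(P : Subgroup G) ≃* DihedralGroup (2 ^ (n - 1)))) : (Nat.card {C : ConjClasses G // ∃ g : G, ConjClasses.mk g = C ∧ orderOf g = 2} = 1 ∧ ∀ N : Subgroup G, N.Normal → N.index ≠ 2) ∨ (Nat.card {C : ConjClasses G // ∃ g : G, ConjClasses.mk g = C ∧ orderOf g = 2} = 2 ∧ (∃ N : Subgroup G, N.Normal ∧ N.index = 2) ∧ ∀ N : Subgroup G, N.Normal → N.index ≠ 4) ∨ (Nat.card {C : ConjClasses G // ∃ g : G, ConjClasses.mk g = C ∧ orderOf g = 2} = 3 ∧ Cfsg.HasNormalPComplement 2 G) := by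
  obtain ⟨e⟩ := hdih
  have : NeZero (2 ^ (n - 1)) := ⟨by positivity⟩
  refine main P e (n - 1) rfl ?_
  obtain ⟨j, rfl⟩ : ∃ j, n = j + 3 := ⟨n - 3, by omega⟩
  exact ⟨2 ^ j, by rw [show j + 3 - 1 = j + 2 by omega, pow_add]; ring⟩


end Cfsg.Agent.S3864
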