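import Cfsg.Statements.S3866
import Mathlib
import Cfsg.Agent.Helper3.CyclicExt

set_option autoImplicit false
open Cfsg

namespace Cfsg.Agent.S3866

/-- Let A be a commutative normal subgroup of the finite group G with G generated by A and an element x. Then a ↦ x a x⁻¹ a⁻¹ is a surjective homomorphism from A onto the commutator subgroup of G whose kernel is the centralizer of x in A; in particular the commutator subgroup has order equal to the index in A of that centralizer. -/
theorem result {G : Type*} [Group G] [Finite G] (A : Subgroup G) [A.Normal] (hA : IsMulCommutative A) (x : G) (hgen : A ⊔ Subgroup.zpowers x = ⊤) : (∀ a ∈ A, x * a * x⁻¹ * a⁻¹ ∈ commutator G) ∧ (∀ c ∈ commutator G, ∃ a ∈ A, x * a * x⁻¹ * a⁻¹ = c) ∧ (∀ a ∈ A, ∀ b ∈ A, x * (a * b) * x⁻¹ * (a * b)⁻¹ = (x * a * x⁻¹ * a⁻¹) * (x * b * x⁻¹ * b⁻¹)) ∧ Nat.card (commutator G) * Nat.card ↥(A ⊓ Subgroup.centralizer ({x} : Set G)) = Nat.card A := by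
  have hcomm := Helper3.commutator_eq_commImage A hA x hgen
  refine ⟨?_, ?_, ?_, ?_⟩
  · intro a ha
    rw [hcomm]
    exact (Helper3.mem_commImage A hA x _).mpr ⟨a, ha, rfl⟩
  · intro c hc
    rw [hcomm] at hc
    exact (Helper3.mem_commImage A hA x _).mp hc
  · intro a ha b hb
    have := congrArg Subtype.val ((Helper3.commMap A hA x).map_mul ⟨a, ha⟩ ⟨b, hb⟩)
    simpa [Helper3.commMap_apply] using this
  · set θ := Helper3.commMap A hA x with hθ
    have h1 : Nat.card θ.ker * Nat.card θ.range = Nat.card A := by
      rw [← Subgroup.index_ker]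
      exact Subgroup.card_mul_index _
    have h2 : Nat.card (commutator G) = Nat.card θ.range := by
      rw [hcomm]
      unfold Helper3.commImage
      exact Nat.card_congr (θ.range.equivMapOfInjective A.subtype A.subtype_injective).symm.toEquiv
    have h3 : Nat.card ↥(A ⊓ Subgroup.centralizer ({x} : Set G)) = Nat.card θ.ker := by
      have hk : θ.ker.map A.subtype = A ⊓ Subgroup.centralizer ({x} : Set G) := by
        ext g
        constructor
        · rintro ⟨a, ha, rfl⟩
          refine ⟨a.2, ?_⟩
          show A.subtype a ∈ Subgroup.centralizer ({x} : Set G)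
          rw [Subgroup.mem_centralizer_iff]
          intro y hy
          rw [Set.mem_singleton_iff] at hy
          subst hy
          have ha' : θ a = 1 := MonoidHom.mem_ker.mp ha
          have := congrArg Subtype.val ha'
          rw [hθ, Helper3.commMap_apply] at this
          simp only [Subgroup.coe_subtype, Subgroup.coe_one] at this ⊢
          calc y * (a : G) = (y * a * y⁻¹ * (a : G)⁻¹) * (a * y) := by group
            _ = a * y := by rw [this, one_mul]
        · rintro ⟨hgA, hgc⟩
          refine ⟨⟨g, hgA⟩, ?_, rfl⟩
          rw [SetLike.mem_coe, MonoidHom.mem_ker]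
          apply Subtype.ext
          rw [hθ, Helper3.commMap_apply]
          have hgc' : g ∈ Subgroup.centralizer ({x} : Set G) := hgc
          rw [Subgroup.mem_centralizer_iff] at hgc'
          have := hgc' x rfl
          simp only [Subgroup.coe_one]
          rw [this]; group
      rw [← hk]
      exact Nat.card_congr (θ.ker.equivMapOfInjective A.subtype A.subtype_injective).symm.toEquiv
    rw [h2, h3, mul_comm]
    exact h1

end Cfsg.Agent.S3866
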