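import Mathlib
import Cfsg.Statements.S3867
import Cfsg.Agent.Helper1.Coprime
import Cfsg.Agent.Helper4.SylowProduct

set_option autoImplicit false
open Cfsg
open scoped Pointwise

namespace Cfsg.Agent.S3867

open Cfsg.Agent.Helper1 in
theorem normalizer_sup_le' {G : Type*} [Group G] {A X Y : Subgroup G}
    (hX : A ≤ Subgroup.normalizer (X : Set G)) (hY : A ≤ Subgroup.normalizer (Y : Set G)) :
    A ≤ Subgroup.normalizer ((X ⊔ Y : Subgroup G) : Set G) := by
  intro a ha
  apply mem_normalizer_of_conj_smul_eq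
  rw [Subgroup.smul_sup, conj_smul_eq_of_mem_normalizer (hX ha),
    conj_smul_eq_of_mem_normalizer (hY ha)]

theorem key {G : Type*} [Group G] [Finite G] (p : ℕ) [Fact p.Prime] (P : Sylow p G) (M N : Subgroup G)
    [M.Normal] [N.Normal] (hMN : M ⊓ N = ⊥) : ((P : Subgroup G) ⊔ N) ⊓ M ≤ (P : Subgroup G) := by
  set R := ((P : Subgroup G) ⊔ N) ⊓ M with hR
  have hRp : IsPGroup p R := by
    rintro ⟨r, hr⟩
    obtain ⟨x, hx, n, hn, hxn⟩ := Subgroup.mem_sup_of_normal_right.mp hr.1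
    obtain ⟨k, hk⟩ := P.2 ⟨x, hx⟩
    have hk' : x ^ p ^ k = 1 := by
      have := congrArg Subtype.val hk
      simpa using this
    refine ⟨k, ?_⟩
    apply Subtype.ext
    rw [Subgroup.coe_pow, Subgroup.coe_one]
    change r ^ p ^ k = 1
    have h1 : (r : G ⧸ N) = (x : G ⧸ N) := by
      rw [eq_comm, QuotientGroup.eq, ← hxn, inv_mul_cancel_left]
      exact hn
    have h2 : r ^ p ^ k ∈ N := by
      rw [← QuotientGroup.eq_one_iff, QuotientGroup.mk_pow, h1, ← QuotientGroup.mk_pow, hk']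
      rfl
    have h3 : r ^ p ^ k ∈ M := Subgroup.pow_mem _ hr.2 _
    have : r ^ p ^ k ∈ M ⊓ N := ⟨h3, h2⟩
    rw [hMN, Subgroup.mem_bot] at this
    exact this
  have hPR : (P : Subgroup G) ≤ Subgroup.normalizer (R : Set G) := by
    apply Cfsg.Agent.Helper1.le_normalizer_inf
    · exact le_sup_left.trans Subgroup.le_normalizer
    · rw [Subgroup.normalizer_eq_top_iff.mpr inferInstance]; exact le_top
  have hsup : IsPGroup p ((P : Subgroup G) ⊔ R : Subgroup G) := IsPGroup.to_sup_of_normal_right' P.2 hRp hPR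
  have heq := P.is_maximal' hsup le_sup_left
  exact le_sup_right.trans (le_of_eq heq)

theorem inf_eq {G : Type*} [Group G] [Finite G] (p : ℕ) [Fact p.Prime] (P : Sylow p G) (M N : Subgroup G)
    [M.Normal] [N.Normal] (hMN : M ⊓ N = ⊥) :
    ((P : Subgroup G) ⊔ M) ⊓ ((P : Subgroup G) ⊔ N) = (P : Subgroup G) := by
  apply le_antisymm
  · rintro g ⟨hg1, hg2⟩
    obtain ⟨x, hx, m, hm, hxm⟩ := Subgroup.mem_sup_of_normal_right.mp hg1
    have hm2 : m ∈ (P : Subgroup G) ⊔ N := by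
      have : m = x⁻¹ * g := by rw [← hxm, inv_mul_cancel_left]
      rw [this]
      exact Subgroup.mul_mem _ (Subgroup.inv_mem _ (Subgroup.mem_sup_left hx)) hg2
    have hmP := key p P M N hMN ⟨hm2, hm⟩
    rw [← hxm]
    exact Subgroup.mul_mem _ hx hmP
  · exact le_inf le_sup_left le_sup_left

theorem normalizer_inf_eq {G : Type*} [Group G] [Finite G] (p : ℕ) [Fact p.Prime] (P : Sylow p G) (M N : Subgroup G)
    [M.Normal] [N.Normal] (hMN : M ⊓ N = ⊥) :
    Subgroup.normalizer (((P : Subgroup G) ⊔ N : Subgroup G) : Set G) ⊓ ((P : Subgroup G) ⊔ M) =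
      Subgroup.normalizer ((P : Subgroup G) : Set G) ⊓ ((P : Subgroup G) ⊔ M) := by
  apply le_antisymm
  · refine le_inf ?_ inf_le_right
    have h1 : Subgroup.normalizer (((P : Subgroup G) ⊔ N : Subgroup G) : Set G) ⊓ ((P : Subgroup G) ⊔ M) ≤
        Subgroup.normalizer (((((P : Subgroup G) ⊔ M) ⊓ ((P : Subgroup G) ⊔ N) : Subgroup G)) : Set G) :=
      Cfsg.Agent.Helper1.le_normalizer_inf (inf_le_right.trans Subgroup.le_normalizer) inf_le_left
    rwa [inf_eq p P M N hMN] at h1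
  · refine le_inf ?_ inf_le_right
    refine inf_le_left.trans ?_
    apply normalizer_sup_le' le_rfl
    rw [Subgroup.normalizer_eq_top_iff.mpr (inferInstance : N.Normal)]; exact le_top

/-- Let M and N be nontrivial normal subgroups of the finite group G with M ⊓ N trivial, and let p be a prime. Writing n(X) for the number of Sylow p-subgroups of a group X, one has n(G) · n(G/MN) = n(G/M) · n(G/N). -/
theorem result {G : Type*} [Group G] [Finite G] (p : ℕ) [Fact p.Prime] (M N : Subgroup G) [M.Normal] [N.Normal] (hM : M ≠ ⊥) (hN : N ≠ ⊥) (hMN : M ⊓ N = ⊥) : Nat.card (Sylow p G) * Nat.card (Sylow p (G ⧸ (M ⊔ N))) = Nat.card (Sylow p (G ⧸ M)) * Nat.card (Sylow p (G ⧸ N)) := by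
  have _ := hM
  have _ := hN
  obtain ⟨P⟩ : Nonempty (Sylow p G) := inferInstance
  have hsurj := QuotientGroup.mk'_surjective N
  set Pb : Sylow p (G ⧸ N) := P.mapSurjective hsurj with hPb
  have hPbcoe : (Pb : Subgroup (G ⧸ N)) = (P : Subgroup G).map (QuotientGroup.mk' N) := rfl
  set Mb : Subgroup (G ⧸ N) := (M ⊔ N).map (QuotientGroup.mk' N) with hMb
  have hMbn : Mb.Normal := Subgroup.Normal.map inferInstance _ hsurj
  have e1 := Cfsg.Agent.Helper4.card_sylow_eq_mul M P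
  have e2 := Cfsg.Agent.Helper4.card_sylow_eq_mul Mb Pb
  have e3 : Nat.card (Sylow p ((G ⧸ N) ⧸ Mb)) = Nat.card (Sylow p (G ⧸ (M ⊔ N))) :=
    Cfsg.Agent.Helper4.card_sylow_congr p (QuotientGroup.quotientQuotientEquivQuotient N (M ⊔ N) le_sup_right)
  -- the two middle factors agree
  have hsupb : (Pb : Subgroup (G ⧸ N)) ⊔ Mb = ((P : Subgroup G) ⊔ M).map (QuotientGroup.mk' N) := by
    rw [hPbcoe, hMb, Subgroup.map_sup, Subgroup.map_sup, QuotientGroup.map_mk'_self, sup_bot_eq]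
  have k1 : Nat.card (Sylow p ↥((P : Subgroup G) ⊔ M)) =
      (Subgroup.normalizer ((P : Subgroup G) : Set G)).relIndex ((P : Subgroup G) ⊔ M) :=
    Cfsg.Agent.Helper4.card_sylow_subgroup_eq_relIndex P _ le_sup_left
  have k2 : Nat.card (Sylow p ↥((Pb : Subgroup (G ⧸ N)) ⊔ Mb)) =
      (Subgroup.normalizer ((Pb : Subgroup (G ⧸ N)) : Set (G ⧸ N))).relIndex ((Pb : Subgroup (G ⧸ N)) ⊔ Mb) :=
    Cfsg.Agent.Helper4.card_sylow_subgroup_eq_relIndex Pb _ le_sup_left
  have k3 : (Subgroup.normalizer ((Pb : Subgroup (G ⧸ N)) : Set (G ⧸ N))).relIndex ((Pb : Subgroup (G ⧸ N)) ⊔ Mb) =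
      (Subgroup.normalizer ((P : Subgroup G) : Set G)).relIndex ((P : Subgroup G) ⊔ M) := by
    rw [hsupb, ← Subgroup.relIndex_comap, Subgroup.comap_normalizer_eq_of_surjective _ hsurj, hPbcoe,
      QuotientGroup.comap_map_mk', ← Subgroup.inf_relIndex_right, sup_comm, normalizer_inf_eq p P M N hMN,
      Subgroup.inf_relIndex_right]
  have k4 : Nat.card (Sylow p ↥((Pb : Subgroup (G ⧸ N)) ⊔ Mb)) = Nat.card (Sylow p ↥((P : Subgroup G) ⊔ M)) := by
    rw [k2, k3, k1]
  rw [e1, e2, e3, k4]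
  ring

end Cfsg.Agent.S3867
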