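import Mathlib
import Cfsg.Statements.S3869
import Cfsg.Prelude.Def_Transfer
import Cfsg.Prelude.Def_LocalStructure
import Cfsg.Agent.Helper3.IrrCyclic
import Cfsg.Agent.Helper1.Basic
-- import your own Cfsg.Agent.* helpers here

set_option autoImplicit false
open Cfsg

namespace Cfsg.Agent.S3869
universe u

theorem eq_top_of_index_prime {G : Type u} [Group G] {p : ℕ} (hp : p.Prime)
    {M K : Subgroup G} (hM : M.index = p) (hMK : M ≤ K) (y : G) (hyK : y ∈ K) (hyM : y ∉ M) :
    K = ⊤ := by
  have h := Subgroup.relIndex_mul_index hMK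
  rw [hM] at h
  rcases (Nat.dvd_prime hp).mp ⟨_, h.symm⟩ with h1 | h1
  · exact absurd (Subgroup.relIndex_eq_one.mp h1 hyK) hyM
  · rw [h1] at h
    have h2 : K.index = 1 := by
      have hp0 : 0 < p := hp.pos
      exact Nat.eq_of_mul_eq_mul_left hp0 (by rw [h, mul_one])
    exact Subgroup.index_eq_one.1 h2

/-- a subgroup of the abelian normal subgroup `A` of prime index normalized by some `y ∉ A` is
normal. -/
theorem normal_of_invariant {G : Type u} [Group G] {p : ℕ} (hp : p.Prime) (A : Subgroup G)
    (hAc : IsMulCommutative A) (hidx : A.index = p) (y : G) (hyA : y ∉ A) (B : Subgroup G)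
    (hBA : B ≤ A) (hyB : y ∈ Subgroup.normalizer (B : Set G)) : B.Normal := by
  have hAN : A ≤ Subgroup.normalizer (B : Set G) := by
    intro a ha
    rw [Subgroup.mem_normalizer_iff]
    intro b
    constructor
    · intro hb
      have : a * b * a⁻¹ = b := by
        have h1 := mul_comm' (⟨a, ha⟩ : ↥A) ⟨b, hBA hb⟩
        have h2 : a * b = b * a := congrArg Subtype.val h1
        rw [h2, mul_inv_cancel_right]
      rw [this]; exact hb
    · intro hb
      have hbA : b ∈ A := by
        have := A.mul_mem (A.mul_mem (A.inv_mem ha) (hBA hb)) ha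
        simpa [mul_assoc] using this
      have : a * b * a⁻¹ = b := by
        have h1 := mul_comm' (⟨a, ha⟩ : ↥A) ⟨b, hbA⟩
        have h2 : a * b = b * a := congrArg Subtype.val h1
        rw [h2, mul_inv_cancel_right]
      rw [this] at hb; exact hb
  have := eq_top_of_index_prime hp hidx hAN y hyB hyA
  exact Subgroup.normalizer_eq_top_iff.1 this

theorem isPClosed_of_card_dvd {H : Type u} [Group H] [Finite H] {p : ℕ} [hp : Fact p.Prime]
    (h : Nat.card H ∣ p) : Cfsg.IsPClosed p H := by
  intro P
  have hcard := P.card_eq_multiplicity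
  rcases (Nat.dvd_prime hp.out).1 h with h1 | h1
  · have : Subsingleton H := (Nat.card_eq_one_iff_unique.1 h1).1
    have : (P : Subgroup H) = ⊤ := Subsingleton.elim _ _
    rw [this]; infer_instance
  · have hcard' : Nat.card (P : Subgroup H) = Nat.card H := by
      rw [hcard, h1, hp.out.factorization_self, pow_one]
    rw [(Subgroup.card_eq_iff_eq_top _).1 hcard']
    infer_instance

/-- Let p and q be distinct primes and G a finite non-abelian group with a normal elementary abelian q-subgroup A that is a minimal normal subgroup of G and has index p. Then A has order q^e with e the multiplicative order of q modulo p, and G is minimal non-p-closed: its Sylow p-subgroups are not normal, while in every proper subgroup and in every proper quotient of G the Sylow p-subgroups are normal. -/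
theorem result {G : Type*} [Group G] [Finite G] {p q : ℕ} [Fact p.Prime] (hq : q.Prime) (hpq : q ≠ p)
    (hna : ¬ IsMulCommutative G) (A : Subgroup G) [A.Normal] (hA : Cfsg.IsElementaryAbelian q A) (hidx : A.index = p)
    (hmin : ∀ B : Subgroup G, B.Normal → B ≤ A → B = ⊥ ∨ B = A) :
    Nat.card ↥A = q ^ orderOf (q : ZMod p) ∧ ¬ Cfsg.IsPClosed p G ∧ (∀ H : Subgroup G, H ≠ ⊤ → Cfsg.IsPClosed p ↥H) ∧
      ∀ (N : Subgroup G) [N.Normal], N ≠ ⊥ → Cfsg.IsPClosed p (G ⧸ N) := by
  classical
  have hp : p.Prime := Fact.out
  have : Fact q.Prime := ⟨hq⟩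
  obtain ⟨hAc, hAq⟩ := hA
  have hAqg : IsPGroup q A := by
    intro a
    refine ⟨1, ?_⟩
    rw [pow_one]
    exact Subtype.ext (by rw [Subgroup.coe_pow, Subgroup.coe_one]; exact hAq _ a.2)
  obtain ⟨d, hd⟩ := IsPGroup.iff_card.1 hAqg
  have hcardG : Nat.card G = q ^ d * p := by rw [← A.card_mul_index, hd, hidx]
  -- elements of order p are outside A
  have hnotA : ∀ y : G, orderOf y = p → y ∉ A := by
    intro y hy hyA
    have h1 : y ^ q = 1 := hAq y hyA
    have h2 := orderOf_dvd_of_pow_eq_one h1
    rw [hy] at h2
    exact hpq ((Nat.prime_dvd_prime_iff_eq hp hq).1 h2).symm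
  -- centralizers
  have hcent : ∀ y : G, orderOf y = p → A ⊓ Subgroup.centralizer {y} = ⊥ := by
    intro y hy
    have hyA := hnotA y hy
    have hyN : y ∈ Subgroup.normalizer ((A ⊓ Subgroup.centralizer {y} : Subgroup G) : Set G) := by
      rw [Subgroup.mem_normalizer_iff]
      intro c
      have key : ∀ c : G, c ∈ Subgroup.centralizer {y} → y * c * y⁻¹ = c := by
        intro c hc
        have := Subgroup.mem_centralizer_iff.1 hc y rfl
        rw [this, mul_inv_cancel_right]
      constructor
      · intro hc
        rw [key c hc.2]; exact hc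
      · intro hc
        have h1 : c = y⁻¹ * (y * c * y⁻¹) * y := by group
        have h2 : y * c * y⁻¹ ∈ Subgroup.centralizer {y} := hc.2
        have h3 := key _ h2
        have h4 : y * c * y⁻¹ = c := by
          have := congrArg (fun t => y⁻¹ * t * y) h3
          rw [← h1] at this
          have e : y⁻¹ * (y * (y * c * y⁻¹) * y⁻¹) * y = y * c * y⁻¹ := by group
          rw [e] at this
          exact this
        rw [h4] at hc
        exact hc
    have hn := normal_of_invariant hp A hAc hidx y hyA _ inf_le_left hyN
    rcases hmin _ hn inf_le_left with h | h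
    · exact h
    · exfalso
      apply hna
      have hAle : A ≤ Subgroup.centralizer {y} := by
        rw [← h]; exact inf_le_right
      -- centralizer of y contains A and y, hence is everything
      have htop := eq_top_of_index_prime hp hidx hAle y
        (by rw [Subgroup.mem_centralizer_iff]; intro h hh; rw [Set.mem_singleton_iff] at hh; rw [hh]) hyA
      -- centralizer of A contains A and y
      have hAle2 : A ≤ Subgroup.centralizer (A : Set G) := by
        intro a ha
        rw [Subgroup.mem_centralizer_iff]
        intro b hb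
        have h1 := mul_comm' (⟨b, hb⟩ : ↥A) ⟨a, ha⟩
        exact congrArg Subtype.val h1
      have hy2 : y ∈ Subgroup.centralizer (A : Set G) := by
        rw [Subgroup.mem_centralizer_iff]
        intro b hb
        exact (Subgroup.mem_centralizer_iff.1 (hAle hb) y rfl).symm
      have htop2 := eq_top_of_index_prime hp hidx hAle2 y hy2 hyA
      -- so A is central, and G/A is cyclic
      have hAZ : A ≤ Subgroup.center G := by
        intro a ha
        rw [Subgroup.mem_center_iff]
        intro g
        have : g ∈ Subgroup.centralizer (A : Set G) := htop2 ▸ Subgroup.mem_top g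
        exact (Subgroup.mem_centralizer_iff.1 this a ha).symm
      have hcyc : IsCyclic (G ⧸ A) := by
        apply isCyclic_of_prime_card (p := p)
        rw [← Subgroup.index_eq_card]; exact hidx
      exact MonoidHom.isMulCommutative_of_isCyclic_of_ker_le_center (QuotientGroup.mk' A)
        (by rw [QuotientGroup.ker_mk']; exact hAZ)
  -- an element of order p
  have hpG : p ∣ Nat.card G := by rw [hcardG]; exact dvd_mul_left _ _
  obtain ⟨x, hx⟩ := exists_prime_orderOf_dvd_card' p hpG
  have hxA := hnotA x hx
  have hxc := hcent x hx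
  -- A nontrivial
  have hAne : A ≠ ⊥ := by
    intro h
    apply hna
    have hcyc : IsCyclic G := by
      apply isCyclic_of_prime_card (p := p)
      rw [hcardG]
      have : d = 0 := by
        by_contra hd0
        have h1 : Nat.card A = 1 := by rw [h]; simp
        rw [hd] at h1
        have := Nat.one_lt_pow hd0 hq.one_lt
        omega
      rw [this]; simp
    exact ⟨⟨fun a b => by
      obtain ⟨g, hg⟩ := hcyc.exists_generator
      obtain ⟨i, rfl⟩ := Subgroup.mem_zpowers_iff.1 (hg a)
      obtain ⟨j, rfl⟩ := Subgroup.mem_zpowers_iff.1 (hg b)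
      rw [← zpow_add, ← zpow_add, add_comm]⟩⟩
  have hd0 : d ≠ 0 := by
    rintro rfl
    apply hAne
    rw [← Subgroup.card_eq_one, hd, pow_zero]
  -- (a)
  set e := orderOf (q : ZMod p) with he
  have hqunit : (q : ZMod p) ≠ 0 := by
    rw [Ne, ZMod.natCast_eq_zero_iff]
    intro h
    exact hpq ((Nat.prime_dvd_prime_iff_eq hp hq).1 h).symm
  have hepos : 0 < e := by
    apply orderOf_pos_iff.mpr
    rw [isOfFinOrder_iff_pow_eq_one]
    exact ⟨p - 1, Nat.sub_pos_of_lt hp.one_lt, ZMod.pow_card_sub_one_eq_one hqunit⟩
  have hmodeq : ∀ k : ℕ, (q : ZMod p) ^ k = 1 ↔ q ^ k ≡ 1 [MOD p] := by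
    intro k
    rw [← Nat.cast_pow, ← Nat.cast_one (R := ZMod p), ZMod.natCast_eq_natCast_iff]
  have hqe : q ^ e ≡ 1 [MOD p] := (hmodeq e).1 (pow_orderOf_eq_one _)
  have hxpow : x ^ (q ^ e) = x := by
    have h1 : p ∣ q ^ e - 1 := (Nat.modEq_iff_dvd' (Nat.one_le_pow _ _ hq.pos)).1 hqe.symm
    obtain ⟨k, hk⟩ := h1
    have h2 : q ^ e = p * k + 1 := by
      have := Nat.one_le_pow e q hq.pos
      omega
    rw [h2, pow_succ, pow_mul, ← hx, pow_orderOf_eq_one, one_pow, one_mul]
  have hle : Nat.card A ≤ q ^ e := by
    apply Cfsg.Agent.Helper3.IrrCyclic.card_le_of_minimal_invariant A ⟨hAc, hAq⟩ x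
      (by rw [Subgroup.normalizer_eq_top]; exact Subgroup.mem_top x) e hepos hxpow
    intro B hBA hxB
    exact hmin B (normal_of_invariant hp A hAc hidx x hxA B hBA hxB) hBA
  have hmod : q ^ d ≡ 1 [MOD p] := by
    have : Fintype A := Fintype.ofFinite A
    let f : Function.End ↥A := fun a => ⟨x * a * x⁻¹, (inferInstance : A.Normal).conj_mem a a.2 x⟩
    have hfpow : ∀ (k : ℕ) (a : ↥A), (((f ^ k) a : ↥A) : G) = x ^ k * a * (x ^ k)⁻¹ := by
      intro k
      induction k with
      | zero =>
        intro a
        show ((a : ↥A) : G) = x ^ 0 * a * (x ^ 0)⁻¹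
        simp
      | succ k ih =>
        intro a
        rw [pow_succ']
        show x * (((f ^ k) a : ↥A) : G) * x⁻¹ = _
        rw [ih, pow_succ']; group
    have hfp : f ^ p ^ 1 = 1 := by
      funext a
      apply Subtype.ext
      rw [pow_one, hfpow, ← hx, pow_orderOf_eq_one]
      show (1 : G) * (a : G) * (1 : G)⁻¹ = ((a : ↥A) : G)
      simp
    have h1 := Equiv.Perm.card_fixedPoints_modEq (p := p) (n := 1) hfp
    have h2 : Fintype.card (Function.fixedPoints f) = 1 := by
      rw [Fintype.card_eq_one_iff]
      refine ⟨⟨1, ?_⟩, ?_⟩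
      · show f 1 = 1
        apply Subtype.ext
        show x * ((1 : ↥A) : G) * x⁻¹ = ((1 : ↥A) : G)
        simp
      · rintro ⟨a, ha⟩
        apply Subtype.ext
        have ha' : x * (a : G) * x⁻¹ = a := congrArg Subtype.val ha
        have : (a : G) ∈ A ⊓ Subgroup.centralizer {x} := by
          refine Subgroup.mem_inf.2 ⟨a.2, ?_⟩
          rw [Subgroup.mem_centralizer_iff]
          intro h hh
          rw [Set.mem_singleton_iff] at hh
          rw [hh]
          have := congrArg (fun t => t * x) ha'
          simpa [mul_assoc] using this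
        rw [hxc, Subgroup.mem_bot] at this
        exact Subtype.ext this
    rw [h2, ← Nat.card_eq_fintype_card, hd] at h1
    exact h1
  have hed : e ∣ d := orderOf_dvd_of_pow_eq_one ((hmodeq d).2 hmod)
  have hde : d ≤ e := by
    rw [hd] at hle
    exact (Nat.pow_le_pow_iff_right hq.one_lt).1 hle
  have hdeq : d = e := le_antisymm hde (Nat.le_of_dvd (Nat.pos_of_ne_zero hd0) hed)
  have hnotclosed : ¬ Cfsg.IsPClosed p G := by
    intro hcl
    have hxp : IsPGroup p (Subgroup.zpowers x) := by
      apply IsPGroup.of_card (n := 1)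
      rw [Nat.card_zpowers, hx, pow_one]
    obtain ⟨P, hP⟩ := hxp.exists_le_sylow
    have hPn := hcl P
    have hdis : Disjoint (P : Subgroup G) A := by
      rw [Subgroup.disjoint_def]
      intro g hgP hgA
      have h1 := P.2.to_le (Subgroup.zpowers_le.2 hgP : Subgroup.zpowers g ≤ P)
      have h2 := hAqg.to_le (Subgroup.zpowers_le.2 hgA : Subgroup.zpowers g ≤ A)
      obtain ⟨i, hi⟩ := IsPGroup.iff_card.1 h1
      obtain ⟨j, hj⟩ := IsPGroup.iff_card.1 h2
      rw [Nat.card_zpowers] at hi hj
      have hcop : Nat.Coprime (p ^ i) (q ^ j) :=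
        Nat.Coprime.pow _ _ ((Nat.coprime_primes hp hq).2 (Ne.symm hpq))
      rw [← hi, ← hj, Nat.coprime_self] at hcop
      exact orderOf_eq_one_iff.1 hcop
    have hAle : A ≤ A ⊓ Subgroup.centralizer {x} := by
      intro a ha
      refine Subgroup.mem_inf.2 ⟨ha, ?_⟩
      rw [Subgroup.mem_centralizer_iff]
      intro h hh
      rw [Set.mem_singleton_iff] at hh
      rw [hh]
      exact (Subgroup.commute_of_normal_of_disjoint _ _ hPn inferInstance hdis x a
        (hP (Subgroup.mem_zpowers x)) ha).eq
    rw [hxc] at hAle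
    exact hAne (le_bot_iff.1 hAle)
  refine ⟨by rw [hd, hdeq], hnotclosed, ?_, ?_⟩
  · -- proper subgroups
    intro H hH P
    by_cases hpH : p ∣ Nat.card H
    · obtain ⟨y, hy⟩ := exists_prime_orderOf_dvd_card' p hpH
      have hy' : orderOf (y : G) = p := by rw [Subgroup.orderOf_coe]; exact hy
      have hyA := hnotA _ hy'
      have hyN : (y : G) ∈ Subgroup.normalizer ((H ⊓ A : Subgroup G) : Set G) := by
        have h1 : (y : G) ∈ Subgroup.normalizer (H : Set G) := Subgroup.le_normalizer y.2
        have h2 : (y : G) ∈ Subgroup.normalizer (A : Set G) := by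
          rw [Subgroup.normalizer_eq_top]; exact Subgroup.mem_top _
        rw [Subgroup.mem_normalizer_iff] at h1 h2 ⊢
        intro c
        exact ⟨fun hc => ⟨(h1 c).1 hc.1, (h2 c).1 hc.2⟩, fun hc => ⟨(h1 c).2 hc.1, (h2 c).2 hc.2⟩⟩
      have hn := normal_of_invariant hp A hAc hidx y hyA _ inf_le_right hyN
      rcases hmin _ hn inf_le_right with h | h
      · -- H ∩ A = 1, so |H| divides p
        have hcardH : Nat.card H ∣ p := by
          rw [← Cfsg.Agent.Helper1.card_map_mk'_of_disjoint A H h, ← hidx, Subgroup.index_eq_card]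
          exact Subgroup.card_subgroup_dvd_card _
        exact isPClosed_of_card_dvd hcardH P
      · exfalso
        apply hH
        have hAH : A ≤ H := by rw [← h]; exact inf_le_left
        exact eq_top_of_index_prime hp hidx hAH y y.2 hyA
    · have hcard := P.card_eq_multiplicity
      rw [Nat.factorization_eq_zero_of_not_dvd hpH, pow_zero] at hcard
      rw [Subgroup.card_eq_one.1 hcard]
      infer_instance
  · -- proper quotients
    intro N hN hN1
    have hn : (N ⊓ A).Normal := inferInstance
    rcases hmin _ hn inf_le_right with h | h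
    · exfalso
      have hcardN : Nat.card N ∣ p := by
        rw [← Cfsg.Agent.Helper1.card_map_mk'_of_disjoint A N h, ← hidx, Subgroup.index_eq_card]
        exact Subgroup.card_subgroup_dvd_card _
      have hcardN' : Nat.card N = p := by
        rcases (Nat.dvd_prime hp).1 hcardN with h1 | h1
        · exact absurd (Subgroup.card_eq_one.1 h1) hN1
        · exact h1
      obtain ⟨y, hy⟩ := exists_prime_orderOf_dvd_card' (G := N) p (by rw [hcardN'])
      have hy' : orderOf (y : G) = p := by rw [Subgroup.orderOf_coe]; exact hy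
      have hyc := hcent _ hy'
      have hAle : A ≤ A ⊓ Subgroup.centralizer {(y : G)} := by
        intro a ha
        refine Subgroup.mem_inf.2 ⟨ha, ?_⟩
        rw [Subgroup.mem_centralizer_iff]
        intro h' hh
        rw [Set.mem_singleton_iff] at hh
        rw [hh]
        exact (Subgroup.commute_of_normal_of_disjoint _ _ hN inferInstance (disjoint_iff.2 h) y a
          y.2 ha).eq
      rw [hyc] at hAle
      exact hAne (le_bot_iff.1 hAle)
    · have hAN : A ≤ N := by rw [← h]; exact inf_le_left
      apply isPClosed_of_card_dvd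
      rw [← Subgroup.index_eq_card, ← hidx]
      exact Subgroup.index_dvd_of_le hAN

end Cfsg.Agent.S3869
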