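import Mathlib
import Cfsg.Statements.S3868
import Cfsg.Prelude.Def_Transfer
import Cfsg.Prelude.Def_LocalStructure
import Cfsg.Agent.Helper5.PClosedQuot
import Cfsg.Agent.Helper5.PIrreducible
import Cfsg.Agent.Helper1.EPPO
import Cfsg.Agent.Helper1.Coprime
import Cfsg.Agent.S3869
-- import your own Cfsg.Agent.* helpers here

set_option autoImplicit false
open Cfsg

namespace Cfsg.Agent.S3868
universe u
open scoped Pointwise commutatorElement
open Cfsg.Agent.Helper5

section
variable {G : Type u} [Group G] [Finite G] {p : ℕ} [hp : Fact p.Prime]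

/-- `O_p(G) = 1` in a minimal non-`p`-closed group. -/
theorem pCore_eq_bot (hnc : ¬ Cfsg.IsPClosed p G)
    (hquo : ∀ (N : Subgroup G) [N.Normal], N ≠ ⊥ → Cfsg.IsPClosed p (G ⧸ N)) :
    Cfsg.pCore p G = ⊥ := by
  by_contra h
  have hn : (Cfsg.pCore p G).Normal := Cfsg.Agent.Helper4.pCore_normal
  exact hnc ((isPClosed_quotient_iff (Cfsg.pCore p G) (isPGroup_pCore p)).2 (hquo _ h))

/-- proper normal subgroups are `p'`-groups. -/
theorem pgroup_le_normal_eq_bot (hnc : ¬ Cfsg.IsPClosed p G)
    (hsub : ∀ H : Subgroup G, H ≠ ⊤ → Cfsg.IsPClosed p ↥H)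
    (hquo : ∀ (N : Subgroup G) [N.Normal], N ≠ ⊥ → Cfsg.IsPClosed p (G ⧸ N))
    (N : Subgroup G) [N.Normal] (hN : N ≠ ⊤) (Y : Subgroup G) (hY : IsPGroup p Y) (hYN : Y ≤ N) :
    Y = ⊥ := by
  have := le_pCore_of_le_pClosed_normal N (hsub N hN) Y hY hYN
  rw [pCore_eq_bot hnc hquo] at this
  exact le_bot_iff.1 this

/-- the quotient by a nontrivial proper normal subgroup is a `p`-group. -/
theorem quotient_isPGroup (hnc : ¬ Cfsg.IsPClosed p G)
    (hsub : ∀ H : Subgroup G, H ≠ ⊤ → Cfsg.IsPClosed p ↥H)
    (hquo : ∀ (N : Subgroup G) [N.Normal], N ≠ ⊥ → Cfsg.IsPClosed p (G ⧸ N))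
    (N : Subgroup G) [N.Normal] (hN1 : N ≠ ⊥) : IsPGroup p (G ⧸ N) := by
  set M := (Cfsg.pCore p (G ⧸ N)).comap (QuotientGroup.mk' N) with hM
  have hMn : M.Normal := by
    have : (Cfsg.pCore p (G ⧸ N)).Normal := Cfsg.Agent.Helper4.pCore_normal
    exact Subgroup.Normal.comap this _
  obtain ⟨P⟩ := (inferInstance : Nonempty (Sylow p G))
  have hPM : (P : Subgroup G) ≤ M := by
    rw [hM, ← Subgroup.map_le_iff_le_comap]
    exact le_pCore_of_isPClosed (hquo N hN1) _ (P.2.map _)
  have hMtop : M = ⊤ := by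
    by_contra hne
    have h1 := pgroup_le_normal_eq_bot hnc hsub hquo M hne P P.2 hPM
    apply hnc
    apply isPClosed_of_sylow_le_pCore P
    rw [h1]; exact bot_le
  have htop : Cfsg.pCore p (G ⧸ N) = ⊤ := by
    rw [eq_top_iff]
    intro x _
    obtain ⟨g, rfl⟩ := QuotientGroup.mk'_surjective N x
    have : g ∈ M := hMtop ▸ Subgroup.mem_top g
    exact this
  have h2 : IsPGroup p (Cfsg.pCore p (G ⧸ N)) := isPGroup_pCore p
  rw [htop] at h2
  exact IsPGroup.of_equiv h2 Subgroup.topEquiv


/-- an element `x` of order `p` centralizes `S' ≤ N` when `⟨x⟩ S'` is proper. -/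
theorem centralizes_of_proper (hnc : ¬ Cfsg.IsPClosed p G)
    (hsub : ∀ H : Subgroup G, H ≠ ⊤ → Cfsg.IsPClosed p ↥H)
    (hquo : ∀ (N : Subgroup G) [N.Normal], N ≠ ⊥ → Cfsg.IsPClosed p (G ⧸ N))
    (N : Subgroup G) [hNn : N.Normal] (hN : N ≠ ⊤) (x : G) (hx : orderOf x = p) (S' : Subgroup G)
    (hS'N : S' ≤ N) (hQ : Subgroup.zpowers x ⊔ S' ≠ ⊤) : S' ≤ Subgroup.centralizer {x} := by
  obtain ⟨P₁, hP₁Q, hP₁p, hQP₁, hmax⟩ := pClosedSub_of_isPClosed _ (hsub _ hQ)
  have hxp : IsPGroup p (Subgroup.zpowers x) := by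
    apply IsPGroup.of_card (n := 1)
    rw [Nat.card_zpowers, hx, pow_one]
  have hxP₁ : x ∈ P₁ := hmax _ le_sup_left hxp (Subgroup.mem_zpowers x)
  have hdis : P₁ ⊓ N = ⊥ :=
    pgroup_le_normal_eq_bot hnc hsub hquo N hN _ (hP₁p.to_le inf_le_left) inf_le_right
  intro s hs
  rw [Subgroup.mem_centralizer_iff]
  intro y hy
  rw [Set.mem_singleton_iff] at hy
  subst hy
  have hsN : s ∈ Subgroup.normalizer (P₁ : Set G) := hQP₁ (Subgroup.mem_sup_right hs)
  have h1 : ⁅y, s⁆ ∈ P₁ ⊓ N := by
    refine Subgroup.mem_inf.2 ⟨?_, ?_⟩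
    · have h2 : s * y⁻¹ * s⁻¹ ∈ P₁ := (Subgroup.mem_normalizer_iff.1 hsN y⁻¹).1 (P₁.inv_mem hxP₁)
      have : ⁅y, s⁆ = y * (s * y⁻¹ * s⁻¹) := by rw [commutatorElement_def]; group
      rw [this]; exact P₁.mul_mem hxP₁ h2
    · have h2 : y * s * y⁻¹ ∈ N := hNn.conj_mem s (hS'N hs) y
      rw [commutatorElement_def]
      exact N.mul_mem h2 (N.inv_mem (hS'N hs))
  rw [hdis, Subgroup.mem_bot, commutatorElement_eq_one_iff_mul_comm] at h1
  exact h1

end

/-- Structure of the non-simple minimal non-p-closed groups. Call a finite group p-closed when its Sylow p-subgroups are normal, and minimal non-p-closed when it is not p-closed but every proper subgroup and every proper quotient is. If such a group G is not simple, then there is a prime q ≠ p such that G has order p · q^e, where e is the multiplicative order of q modulo p, and G has a normal subgroup A of order q^e that is elementary abelian and is a minimal normal subgroup of G (so G is the semidirect product of A by a group of order p acting irreducibly).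 -/
theorem result {G : Type*} [Group G] [Finite G] {p : ℕ} [Fact p.Prime]
    (hnc : ¬ Cfsg.IsPClosed p G) (hsub : ∀ H : Subgroup G, H ≠ ⊤ → Cfsg.IsPClosed p ↥H)
    (hquo : ∀ (N : Subgroup G) [N.Normal], N ≠ ⊥ → Cfsg.IsPClosed p (G ⧸ N)) (hns : ¬ IsSimpleGroup G) :
    ∃ q : ℕ, q.Prime ∧ q ≠ p ∧ Nat.card G = p * q ^ orderOf (q : ZMod p) ∧
      ∃ A : Subgroup G, A.Normal ∧ Nat.card ↥A = q ^ orderOf (q : ZMod p) ∧ Cfsg.IsElementaryAbelian q A ∧
        ∀ B : Subgroup G, B.Normal → B ≤ A → B = ⊥ ∨ B = A := by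
  classical
  have hp : p.Prime := Fact.out
  -- G is nontrivial and has a proper nontrivial normal subgroup
  have hnt : Nontrivial G := by
    by_contra h
    rw [not_nontrivial_iff_subsingleton] at h
    apply hnc
    intro P
    have : (P : Subgroup G) = ⊤ := Subsingleton.elim _ _
    rw [this]; infer_instance
  obtain ⟨N, hNn, hN1, hNtop⟩ : ∃ N : Subgroup G, N.Normal ∧ N ≠ ⊥ ∧ N ≠ ⊤ := by
    by_contra hcon
    push Not at hcon
    apply hns
    exact { toNontrivial := hnt
            eq_bot_or_eq_top_of_normal := fun H hH => by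
              by_cases h : H = ⊥
              · exact Or.inl h
              · exact Or.inr (hcon H hH h) }
  have hpsub : ∀ Y : Subgroup G, IsPGroup p Y → Y ≤ N → Y = ⊥ :=
    fun Y hY hYN => pgroup_le_normal_eq_bot hnc hsub hquo N hNtop Y hY hYN
  have hquoP : IsPGroup p (G ⧸ N) := quotient_isPGroup hnc hsub hquo N hN1
  obtain ⟨a, ha⟩ := IsPGroup.iff_card.1 hquoP
  rw [← Subgroup.index_eq_card] at ha
  have hpgen : ∀ x : G, orderOf x = p → IsPGroup p (Subgroup.zpowers x) := by
    intro x hx
    apply IsPGroup.of_card (n := 1)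
    rw [Nat.card_zpowers, hx, pow_one]
  have hzne : ∀ x : G, orderOf x = p → Subgroup.zpowers x ≠ ⊥ := by
    intro x hx h
    rw [Subgroup.zpowers_eq_bot] at h
    rw [h, orderOf_one] at hx
    exact hp.one_lt.ne hx
  have hpN : ¬ p ∣ Nat.card N := by
    intro h
    obtain ⟨y, hy⟩ := exists_prime_orderOf_dvd_card' (G := N) p h
    have hy' : orderOf (y : G) = p := by rw [Subgroup.orderOf_coe]; exact hy
    exact hzne _ hy' (hpsub _ (hpgen _ hy') (Subgroup.zpowers_le.2 y.2))
  have hcopN : (Nat.card N).Coprime p := (Nat.Coprime.symm ((Nat.Prime.coprime_iff_not_dvd hp).2 hpN))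
  have ha0 : a ≠ 0 := by
    rintro rfl
    rw [pow_zero, Subgroup.index_eq_one] at ha
    exact hNtop ha
  have hpG : p ∣ Nat.card G := by
    rw [← N.card_mul_index, ha]
    exact dvd_mul_of_dvd_right (dvd_pow_self p ha0) _
  -- the centralizer of N is proper
  set K := Subgroup.centralizer (N : Set G) with hK
  have hKn : K.Normal := inferInstance
  have hKtop : K ≠ ⊤ := by
    intro hKt
    obtain ⟨P⟩ := (inferInstance : Nonempty (Sylow p G))
    have hsup : (P : Subgroup G) ⊔ N = ⊤ := by
      rw [← Subgroup.index_eq_one]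
      have h1 : ((P : Subgroup G) ⊔ N).index ∣ p ^ a := ha ▸ Subgroup.index_dvd_of_le le_sup_right
      have h2 : ((P : Subgroup G) ⊔ N).index ∣ (P : Subgroup G).index := Subgroup.index_dvd_of_le le_sup_left
      obtain ⟨j, -, hj⟩ := (Nat.dvd_prime_pow hp).1 h1
      rcases Nat.eq_zero_or_pos j with rfl | hjpos
      · rw [hj, pow_zero]
      · exfalso
        apply P.not_dvd_index
        exact (dvd_pow_self p hjpos.ne').trans (hj ▸ h2)
    have hPn : (P : Subgroup G).Normal := by
      rw [← Subgroup.normalizer_eq_top_iff, eq_top_iff, ← hsup]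
      apply sup_le Subgroup.le_normalizer
      intro n hn
      have hnK : n ∈ K := hKt ▸ Subgroup.mem_top n
      -- n is central
      have hcent : ∀ g : G, g * n = n * g := by
        intro g
        have : g ∈ K := hKt ▸ Subgroup.mem_top g
        exact (Subgroup.mem_centralizer_iff.1 this n hn).symm
      rw [Subgroup.mem_normalizer_iff]
      intro g
      have : n * g * n⁻¹ = g := by rw [← hcent g, mul_inv_cancel_right]
      rw [this]
    have hPbot : (P : Subgroup G) = ⊥ := by
      have := le_pCore hPn P.2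
      rw [pCore_eq_bot hnc hquo] at this
      exact le_bot_iff.1 this
    obtain ⟨y, hy⟩ := exists_prime_orderOf_dvd_card' p hpG
    obtain ⟨Q, hQ⟩ := (hpgen y hy).exists_le_sylow
    have hQbot : (Q : Subgroup G) = ⊥ := by
      obtain ⟨g, hg⟩ := MulAction.exists_smul_eq G P Q
      rw [← hg, Sylow.coe_subgroup_smul, hPbot]
      simp
    rw [hQbot] at hQ
    exact hzne y hy (le_bot_iff.1 hQ)
  -- every element of order p generates G modulo N
  have hF3 : ∀ x : G, orderOf x = p → Subgroup.zpowers x ⊔ N = ⊤ := by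
    intro x hx
    by_contra hne
    have h1 := centralizes_of_proper hnc hsub hquo N hNtop x hx N le_rfl hne
    have hxK : x ∈ K := by
      rw [hK, Subgroup.mem_centralizer_iff]
      intro n hn
      exact Subgroup.mem_centralizer_iff.1 (h1 hn) x rfl |>.symm
    exact hzne x hx (pgroup_le_normal_eq_bot hnc hsub hquo K hKtop _ (hpgen x hx)
      (Subgroup.zpowers_le.2 hxK))
  obtain ⟨x, hx⟩ := exists_prime_orderOf_dvd_card' p hpG
  have hxN : Subgroup.zpowers x ⊓ N = ⊥ := hpsub _ ((hpgen x hx).to_le inf_le_left) inf_le_right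
  have hcardG : Nat.card G = p * Nat.card N := by
    have h1 := Cfsg.Agent.Helper1.card_sup_of_le_normalizer (N := N) (A := Subgroup.zpowers x)
      (by rw [Subgroup.normalizer_eq_top]; exact le_top) hxN
    rw [sup_comm, hF3 x hx, Subgroup.card_top, Nat.card_zpowers, hx] at h1
    exact h1
  have hidx : N.index = p := by
    have h1 := N.card_mul_index
    rw [hcardG] at h1
    exact Nat.eq_of_mul_eq_mul_left Nat.card_pos (h1.trans (mul_comm _ _))
  -- minimality of N
  have hminN : ∀ B : Subgroup G, B.Normal → B ≤ N → B = ⊥ ∨ B = N := by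
    intro B hBn hBN
    by_cases hB1 : B = ⊥
    · exact Or.inl hB1
    right
    have hBquo : IsPGroup p (G ⧸ B) := quotient_isPGroup hnc hsub hquo B hB1
    obtain ⟨b, hb⟩ := IsPGroup.iff_card.1 hBquo
    rw [← Subgroup.index_eq_card] at hb
    have h1 := Subgroup.relIndex_mul_index hBN
    have h2 : B.relIndex N ∣ p ^ b := hb ▸ Dvd.intro _ h1
    have h3 : B.relIndex N ∣ Nat.card N := Subgroup.relIndex_dvd_card B N
    have h4 : B.relIndex N = 1 :=
      Nat.Coprime.eq_one_of_dvd (Nat.Coprime.coprime_dvd_left h3 (Nat.Coprime.pow_right b hcopN)) h2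
    exact le_antisymm hBN (Subgroup.relIndex_eq_one.1 h4)
  -- x does not centralize N
  set C := N ⊓ Subgroup.centralizer {x} with hC
  have hCN : C ≠ N := by
    intro h
    have hxK : x ∈ K := by
      rw [hK, Subgroup.mem_centralizer_iff]
      intro n hn
      have : n ∈ C := h ▸ hn
      exact (Subgroup.mem_centralizer_iff.1 this.2 x rfl).symm
    exact hzne x hx (pgroup_le_normal_eq_bot hnc hsub hquo K hKtop _ (hpgen x hx)
      (Subgroup.zpowers_le.2 hxK))
  have hfactG : (Nat.card G).factorization p = 1 := by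
    rw [hcardG, Nat.factorization_mul hp.ne_zero Nat.card_pos.ne', Finsupp.add_apply,
      hp.factorization_self, Nat.factorization_eq_zero_of_not_dvd hpN]
  -- N is a q-group for some prime q
  obtain ⟨q, hq, hNq⟩ : ∃ q : ℕ, q.Prime ∧ IsPGroup q N := by
    by_contra hcon
    push Not at hcon
    apply hCN
    have hdvd : Nat.card N ∣ Nat.card C := by
      rw [← Nat.factorization_prime_le_iff_dvd Nat.card_pos.ne' Nat.card_pos.ne']
      intro q hq
      have : Fact q.Prime := ⟨hq⟩
      rw [← Nat.Prime.pow_dvd_iff_le_factorization hq Nat.card_pos.ne']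
      obtain ⟨S⟩ := (inferInstance : Nonempty (Sylow q ↥N))
      set SG := (S : Subgroup ↥N).map N.subtype with hSG
      have hSGN : SG ≤ N := Subgroup.map_subtype_le _
      have hSGcard : Nat.card SG = q ^ (Nat.card N).factorization q := by
        rw [hSG, Subgroup.card_map_of_injective N.subtype_injective, S.card_eq_multiplicity]
      set L := Subgroup.normalizer (SG : Set G) with hL
      have hLN : L ⊔ N = ⊤ := Sylow.normalizer_sup_eq_top S
      have hpL : p ∣ Nat.card L := by
        have h1 := Subgroup.relIndex_sup_left L N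
        rw [sup_comm, hLN, Subgroup.relIndex_top_right, hidx] at h1
        rw [h1]
        exact Subgroup.relIndex_dvd_card N L
      obtain ⟨y, hy⟩ := exists_prime_orderOf_dvd_card' (G := L) p hpL
      have hy' : orderOf (y : G) = p := by rw [Subgroup.orderOf_coe]; exact hy
      -- Sylow conjugacy
      have hcx : Nat.card (Subgroup.zpowers x) = p ^ (Nat.card G).factorization p := by
        rw [hfactG, pow_one, Nat.card_zpowers, hx]
      have hcy : Nat.card (Subgroup.zpowers (y : G)) = p ^ (Nat.card G).factorization p := by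
        rw [hfactG, pow_one, Nat.card_zpowers, hy']
      obtain ⟨g, hg⟩ := MulAction.exists_smul_eq G (Sylow.ofCard _ hcx) (Sylow.ofCard _ hcy)
      have hg' : MulAut.conj g • Subgroup.zpowers x = Subgroup.zpowers (y : G) := by
        have := congrArg (fun P : Sylow p G => (P : Subgroup G)) hg
        simpa [Sylow.coe_subgroup_smul, Sylow.coe_ofCard] using this
      set S' := MulAut.conj g⁻¹ • SG with hS'
      have hS'N : S' ≤ N := by
        intro s hs
        rw [hS', Cfsg.Agent.Helper1.mem_conj_smul, inv_inv] at hs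
        have := hNn.conj_mem _ (hSGN hs) g⁻¹
        simpa [mul_assoc] using this
      have hS'card : Nat.card S' = q ^ (Nat.card N).factorization q := by
        rw [hS', Cfsg.Agent.Helper1.card_conj_smul, hSGcard]
      have hgx : g * x * g⁻¹ ∈ L := by
        have : g * x * g⁻¹ ∈ MulAut.conj g • Subgroup.zpowers x :=
          Cfsg.Agent.Helper1.conj_mem_conj_smul (Subgroup.mem_zpowers x)
        rw [hg'] at this
        exact (Subgroup.zpowers_le.2 y.2) this
      have hxS' : x ∈ Subgroup.normalizer (S' : Set G) := by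
        apply Cfsg.Agent.Helper1.mem_normalizer_of_conj_smul_eq
        rw [hS', ← mul_smul, ← map_mul]
        have h1 : MulAut.conj (g * x * g⁻¹) • SG = SG :=
          Cfsg.Agent.Helper1.conj_smul_eq_of_mem_normalizer hgx
        have h2 : x * g⁻¹ = g⁻¹ * (g * x * g⁻¹) := by group
        rw [h2, map_mul, mul_smul, h1]
      by_cases hQ : Subgroup.zpowers x ⊔ S' = ⊤
      · exfalso
        have hdis : Subgroup.zpowers x ⊓ S' = ⊥ := by
          rw [eq_bot_iff, ← hxN]
          exact inf_le_inf_left _ hS'N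
        have h1 := Cfsg.Agent.Helper1.card_sup_of_le_normalizer (N := S') (A := Subgroup.zpowers x)
          (Subgroup.zpowers_le.2 hxS') hdis
        rw [sup_comm, hQ, Subgroup.card_top, Nat.card_zpowers, hx, hcardG] at h1
        have h2 : Nat.card N = Nat.card S' := Nat.eq_of_mul_eq_mul_left hp.pos h1
        have h3 : S' = N := by
          apply Subgroup.eq_of_le_of_card_ge hS'N
          rw [h2]
        apply hcon q hq
        rw [← h3]
        exact IsPGroup.of_card hS'card
      · have h1 := centralizes_of_proper hnc hsub hquo N hNtop x hx S' hS'N hQ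
        have h2 : S' ≤ C := le_inf hS'N h1
        rw [← hS'card]
        exact Subgroup.card_dvd_of_le h2
    apply Subgroup.eq_of_le_of_card_ge inf_le_left
    exact Nat.le_of_dvd Nat.card_pos hdvd
  have : Fact q.Prime := ⟨hq⟩
  have hqp : q ≠ p := by
    rintro rfl
    exact hN1 (hpsub N hNq le_rfl)
  -- N is abelian
  have hNc : IsMulCommutative ↥N := by
    have hNnt : Nontrivial ↥N := (Subgroup.nontrivial_iff_ne_bot N).2 hN1
    have hZnt := hNq.center_nontrivial
    have hZn : ((Subgroup.center ↥N).map N.subtype).Normal :=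
      ConjAct.normal_of_characteristic_of_normal
    rcases hminN _ hZn (Subgroup.map_subtype_le _) with h | h
    · exfalso
      have : Subgroup.center ↥N = ⊥ := by
        rw [eq_bot_iff]
        intro z hz
        have : (z : G) ∈ (Subgroup.center ↥N).map N.subtype := Subgroup.mem_map_of_mem _ hz
        rw [h, Subgroup.mem_bot] at this
        rw [Subgroup.mem_bot]
        exact Subtype.ext this
      exact (Subgroup.nontrivial_iff_ne_bot _).1 hZnt this
    · refine ⟨⟨fun a b => ?_⟩⟩
      have : (a : G) ∈ (Subgroup.center ↥N).map N.subtype := by rw [h]; exact a.2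
      obtain ⟨z, hz, hza⟩ := this
      have hza' : z = a := Subtype.ext hza
      rw [← hza']
      exact (Subgroup.mem_center_iff.1 hz b).symm
  have hexp := Cfsg.Agent.Helper1.minimal_normal_abelian_pow_eq_one N hN1 hNq hNc hminN
  have hna : ¬ IsMulCommutative G := by
    intro h
    apply hnc
    intro P
    exact ⟨fun n hn g => by rw [mul_comm' g n, mul_inv_cancel_right]; exact hn⟩
  have hres := Cfsg.Agent.S3869.result hq hqp hna N ⟨hNc, hexp⟩ hidx hminN
  refine ⟨q, hq, hqp, ?_, N, hNn, hres.1, ⟨hNc, hexp⟩, hminN⟩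
  rw [hcardG, hres.1]

end Cfsg.Agent.S3868
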