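import Mathlib
import Cfsg.Statements.S3870

set_option autoImplicit false
open Cfsg

namespace Cfsg.Agent.S3870

open scoped Pointwise

/-- In a `p`-closed subgroup `H`, two `p`-subgroups lie in a common Sylow subgroup of `G`. -/
lemma common_sylow {G : Type*} [Group G] [Finite G] {p : ℕ} [Fact p.Prime] (H : Subgroup G)
    (hH : Cfsg.IsPClosed p ↥H) (A B : Subgroup G) (hA : IsPGroup p A) (hB : IsPGroup p B)
    (hAH : A ≤ H) (hBH : B ≤ H) : ∃ R : Sylow p G, A ≤ R ∧ B ≤ R := by
  obtain ⟨T⟩ : Nonempty (Sylow p ↥H) := inferInstance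
  have hTn := hH T
  haveI : Subsingleton (Sylow p ↥H) := (Sylow.unique_of_normal T hTn).instSubsingleton
  have hA' : IsPGroup p (A.subgroupOf H) := hA.comap_of_injective H.subtype H.subtype_injective
  have hB' : IsPGroup p (B.subgroupOf H) := hB.comap_of_injective H.subtype H.subtype_injective
  obtain ⟨TA, hTA⟩ := hA'.exists_le_sylow
  obtain ⟨TB, hTB⟩ := hB'.exists_le_sylow
  have e1 : TA = T := Subsingleton.elim _ _
  have e2 : TB = T := Subsingleton.elim _ _
  rw [e1] at hTA
  rw [e2] at hTB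
  have hTp : IsPGroup p ((T : Subgroup ↥H).map H.subtype) := T.isPGroup'.map H.subtype
  obtain ⟨R, hR⟩ := hTp.exists_le_sylow
  refine ⟨R, ?_, ?_⟩
  · intro a ha
    apply hR
    refine ⟨⟨a, hAH ha⟩, hTA ?_, rfl⟩
    rw [Subgroup.mem_subgroupOf]; exact ha
  · intro b hb
    apply hR
    refine ⟨⟨b, hBH hb⟩, hTB ?_, rfl⟩
    rw [Subgroup.mem_subgroupOf]; exact hb

/-- a proper subgroup `D` of a Sylow subgroup `P` is properly contained in `N_P(D)`. -/
lemma normalizer_grows {G : Type*} [Group G] [Finite G] {p : ℕ} [Fact p.Prime] (P : Sylow p G)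
    (D : Subgroup G) (hDP : D ≤ P) (hne : D ≠ P) :
    ∃ x ∈ (P : Subgroup G), x ∈ Subgroup.normalizer (D : Set G) ∧ x ∉ D := by
  haveI : Group.IsNilpotent ↥(P : Subgroup G) := P.isPGroup'.isNilpotent
  have hnc := normalizerCondition_of_isNilpotent (G := ↥(P : Subgroup G))
  have hlt : D.subgroupOf (P : Subgroup G) < ⊤ := by
    rw [lt_top_iff_ne_top, Ne, Subgroup.subgroupOf_eq_top]
    intro h
    exact hne (le_antisymm hDP h)
  have h2 := hnc _ hlt
  rw [← Subgroup.subgroupOf_normalizer_eq hDP] at h2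
  obtain ⟨x, hx, hxD⟩ := SetLike.exists_of_lt h2
  refine ⟨x, x.2, ?_, ?_⟩
  · rwa [Subgroup.mem_subgroupOf] at hx
  · rwa [Subgroup.mem_subgroupOf] at hxD

/-- Let G be a finite simple group whose Sylow p-subgroups are not normal but such that every proper subgroup of G has a normal Sylow p-subgroup. Then any two distinct Sylow p-subgroups of G intersect trivially, and for every Sylow p-subgroup P the normalizer of every non-identity subgroup of P lies in the normalizer of P. -/
theorem result {G : Type*} [Group G] [Finite G] [IsSimpleGroup G] {p : ℕ} [Fact p.Prime]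
    (hnc : ¬ Cfsg.IsPClosed p G) (hsub : ∀ H : Subgroup G, H ≠ ⊤ → Cfsg.IsPClosed p ↥H) :
    (∀ P Q : Sylow p G, P ≠ Q → (P : Subgroup G) ⊓ (Q : Subgroup G) = ⊥) ∧
      ∀ (P : Sylow p G) (R : Subgroup G), R ≤ P → R ≠ ⊥ →
        Subgroup.normalizer (R : Set G) ≤ Subgroup.normalizer ((P : Subgroup G) : Set G) := by
  classical
  -- no Sylow subgroup is the whole group
  have hPtop : ∀ P : Sylow p G, (P : Subgroup G) ≠ ⊤ := by
    intro P hP
    apply hnc
    intro Q
    have : Q = P := by
      apply Sylow.ext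
      have hle : (Q : Subgroup G) ≤ P := by rw [hP]; exact le_top
      exact (Q.is_maximal' P.isPGroup' hle).symm
    rw [this, hP]
    infer_instance
  -- a nontrivial subgroup of a Sylow subgroup has proper normalizer
  have hNtop : ∀ (P : Sylow p G) (D : Subgroup G), D ≤ P → D ≠ ⊥ →
      Subgroup.normalizer (D : Set G) ≠ ⊤ := by
    intro P D hDP hD1 hN
    have hDn : D.Normal := Subgroup.normalizer_eq_top_iff.1 hN
    rcases hDn.eq_bot_or_eq_top with h | h
    · exact hD1 h
    · apply hPtop P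
      rw [eq_top_iff, ← h]; exact hDP
  have part1 : ∀ P Q : Sylow p G, P ≠ Q → (P : Subgroup G) ⊓ (Q : Subgroup G) = ⊥ := by
    by_contra hcon
    push Not at hcon
    obtain ⟨P₀, Q₀, hne₀, hD₀⟩ := hcon
    let α := {PQ : Sylow p G × Sylow p G // PQ.1 ≠ PQ.2 ∧ (PQ.1 : Subgroup G) ⊓ (PQ.2 : Subgroup G) ≠ ⊥}
    haveI : Nonempty α := ⟨⟨(P₀, Q₀), hne₀, hD₀⟩⟩
    obtain ⟨⟨⟨P, Q⟩, hne, hD⟩, hmax⟩ :=
      Finite.exists_max (fun x : α => Nat.card ↥((x.1.1 : Subgroup G) ⊓ (x.1.2 : Subgroup G)))
    simp only at hne hD hmax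
    set D := (P : Subgroup G) ⊓ (Q : Subgroup G) with hDdef
    have hDP : D ≠ P := by
      intro h
      apply hne
      apply Sylow.ext
      have hle : (P : Subgroup G) ≤ Q := by rw [← h]; exact inf_le_right
      exact (P.is_maximal' Q.isPGroup' hle).symm
    have hDQ : D ≠ Q := by
      intro h
      apply hne
      apply Sylow.ext
      have hle : (Q : Subgroup G) ≤ P := by rw [← h]; exact inf_le_left
      exact (Q.is_maximal' P.isPGroup' hle)
    obtain ⟨x, hxP, hxN, hxD⟩ := normalizer_grows P D inf_le_left hDP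
    obtain ⟨y, hyQ, hyN, hyD⟩ := normalizer_grows Q D inf_le_right hDQ
    have hH := hsub _ (hNtop P D inf_le_left hD)
    set A := (P : Subgroup G) ⊓ Subgroup.normalizer (D : Set G) with hA
    set B := (Q : Subgroup G) ⊓ Subgroup.normalizer (D : Set G) with hB
    obtain ⟨R, hAR, hBR⟩ := common_sylow _ hH A B (P.isPGroup'.to_inf_left) (Q.isPGroup'.to_inf_left)
      inf_le_right inf_le_right
    have hDA : D ≤ A := le_inf inf_le_left Subgroup.le_normalizer
    have hDB : D ≤ B := le_inf inf_le_right Subgroup.le_normalizer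
    -- R = P
    have key : ∀ (S : Sylow p G) (z : G), z ∈ (S : Subgroup G) → z ∈ (R : Subgroup G) → z ∉ D →
        D ≤ (S : Subgroup G) ⊓ R → S = R := by
      intro S z hzS hzR hzD hDle
      by_contra hSR
      have hne' : (S : Subgroup G) ⊓ (R : Subgroup G) ≠ ⊥ := by
        intro h
        apply hD
        rw [eq_bot_iff, ← h]
        exact hDle
      have := hmax ⟨(S, R), hSR, hne'⟩
      simp only at this
      have hlt : D < (S : Subgroup G) ⊓ (R : Subgroup G) := by
        refine lt_of_le_of_ne hDle ?_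
        intro h
        apply hzD
        rw [h]
        exact ⟨hzS, hzR⟩
      exact hlt.ne (Subgroup.eq_of_le_of_card_ge hlt.le this)
    have hRP : P = R := key P x hxP (hAR ⟨hxP, hxN⟩) hxD (le_inf inf_le_left (hDA.trans hAR))
    have hRQ : Q = R := key Q y hyQ (hBR ⟨hyQ, hyN⟩) hyD (le_inf inf_le_right (hDB.trans hBR))
    exact hne (hRP.trans hRQ.symm)
  refine ⟨part1, ?_⟩
  intro P R hRP hR1 g hg
  by_contra hgP
  have hne : g • P ≠ P := by
    intro h
    apply hgP
    exact Sylow.smul_eq_iff_mem_normalizer.1 h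
  have h0 := part1 (g • P) P hne
  apply hR1
  rw [eq_bot_iff, ← h0]
  intro r hr
  have hr' : r ∈ ((g • P : Sylow p G) : Subgroup G) := by
    rw [Sylow.coe_subgroup_smul, Subgroup.mem_pointwise_smul_iff_inv_smul_mem]
    apply hRP
    have hg' : g⁻¹ ∈ Subgroup.normalizer (R : Set G) := inv_mem hg
    have := (Subgroup.mem_normalizer_iff.1 hg' r).1 hr
    simpa [MulAut.smul_def] using this
  exact ⟨hr', hRP hr⟩

end Cfsg.Agent.S3870
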