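import Cfsg.Statements.S4209
import Cfsg.Agent.Helper4.PolySeqC

set_option autoImplicit false
open Cfsg

namespace Cfsg.Agent.S4209

/-- A finite `p`-group of nilpotency class less than `p` (the term of index `p - 1` of the lower central series of the whole group, indexed from `0`, is trivial) is a regular `p`-group. -/
theorem result {G : Type*} [Group G] [Finite G] {p : ℕ} [Fact p.Prime] (hG : IsPGroup p G) (hcl : (⊤ : Subgroup G).lowerCentralSeries (p - 1) = ⊥) : Cfsg.IsRegularPGroup p G := by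
  refine ⟨hG, fun a b n => ?_⟩
  set K := Subgroup.closure ({a, b} : Set G) with hK
  have haK : a ∈ K := Subgroup.subset_closure (by simp)
  have hbK : b ∈ K := Subgroup.subset_closure (by simp)
  have hclK : (⊤ : Subgroup K).lowerCentralSeries (p - 1) = ⊥ := by
    have h1 : ((⊤ : Subgroup K).lowerCentralSeries (p - 1)).map K.subtype
        = K.lowerCentralSeries (p - 1) := Subgroup.top_subtype_lowerCentralSeries K _
    have h2 : K.lowerCentralSeries (p - 1) ≤ (⊤ : Subgroup G).lowerCentralSeries (p - 1) :=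
      Subgroup.lowerCentralSeries_mono _ le_top
    rw [hcl, le_bot_iff] at h2
    rw [h2] at h1
    exact (Subgroup.map_eq_bot_iff_of_injective _ K.subtype_injective).1 h1
  have key := Cfsg.Agent.Helper4.PolySeq.pow_mul_expansion (Fact.out : p.Prime) hclK
    ⟨a, haK⟩ ⟨b, hbK⟩ n
  refine ⟨(((⟨a, haK⟩ : K) ^ (p ^ n) * (⟨b, hbK⟩ : K) ^ (p ^ n))⁻¹ *
    ((⟨a, haK⟩ : K) * ⟨b, hbK⟩) ^ (p ^ n) : K), ?_, ?_⟩
  · have h3 := Subgroup.mem_map_of_mem K.subtype key
    rw [MonoidHom.map_closure] at h3
    refine Subgroup.closure_mono ?_ h3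
    rintro _ ⟨y, ⟨x, hx, rfl⟩, rfl⟩
    refine ⟨(x : G), ?_, by simp⟩
    have h4 := Subgroup.mem_map_of_mem K.subtype hx
    rw [Subgroup.top_subtype_lowerCentralSeries] at h4
    exact h4
  · simp only [Subgroup.coe_mul, Subgroup.coe_inv, Subgroup.coe_pow]
    group

end Cfsg.Agent.S4209
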