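import Cfsg.Statements.S3872
import Cfsg.Agent.S4209
import Cfsg.Agent.S4225
import Cfsg.Agent.Helper5.Generation
import Cfsg.Agent.Helper1.MaxClassBasic

set_option autoImplicit false
open Cfsg

namespace Cfsg.Agent.S3872

/-- Say that a finite group is p-exponent closed when its elements of order dividing p form a subgroup. Let G be a finite p-group that is not p-exponent closed, but all of whose proper subgroups and proper quotients are. Then G is generated by two elements, has nilpotency class at least p, has exponent p², has cyclic center, and has order at least p^(p+1). -/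
theorem result {G : Type*} [Group G] [Finite G] {p : ℕ} [Fact p.Prime] (hG : IsPGroup p G)
    (hnc : ¬ (∃ H : Subgroup G, (H : Set G) = {g : G | g ^ p = 1})) (hsub : ∀ K : Subgroup G, K ≠ ⊤ → (∃ H : Subgroup ↥K, (H : Set ↥K) = {g : ↥K | g ^ p = 1}))
    (hquo : ∀ (N : Subgroup G) [N.Normal], N ≠ ⊥ → (∃ H : Subgroup (G ⧸ N), (H : Set (G ⧸ N)) = {g : (G ⧸ N) | g ^ p = 1})) :
    (∃ x y : G, Subgroup.closure ({x, y} : Set G) = ⊤) ∧ (⊤ : Subgroup G).lowerCentralSeries (p - 1) ≠ ⊥ ∧
      Monoid.exponent G = p ^ 2 ∧ IsCyclic ↥(Subgroup.center G) ∧ p ^ (p + 1) ≤ Nat.card G := by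
  classical
  have hpp : p.Prime := Fact.out
  haveI hnil : Group.IsNilpotent G := hG.isNilpotent
  -- Step 1: two elements of order dividing p with product not of order dividing p
  have hxy : ∃ x y : G, x ^ p = 1 ∧ y ^ p = 1 ∧ (x * y) ^ p ≠ 1 := by
    by_contra hcon
    push Not at hcon
    apply hnc
    exact ⟨{ carrier := {g : G | g ^ p = 1}
             mul_mem' := fun {a b} ha hb => hcon a b ha hb
             one_mem' := one_pow _
             inv_mem' := fun {a} ha => by
               show (a⁻¹) ^ p = 1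
               rw [inv_pow, show a ^ p = 1 from ha, inv_one] }, rfl⟩
  obtain ⟨x, y, hx, hy, hxy⟩ := hxy
  -- Step 2: generation
  have hgen : Subgroup.closure ({x, y} : Set G) = ⊤ := by
    by_contra hK
    obtain ⟨H, hH⟩ := hsub _ hK
    have hxK : x ∈ Subgroup.closure ({x, y} : Set G) := Subgroup.subset_closure (by simp)
    have hyK : y ∈ Subgroup.closure ({x, y} : Set G) := Subgroup.subset_closure (by simp)
    have h1 : (⟨x, hxK⟩ : Subgroup.closure ({x, y} : Set G)) ∈ H := by
      rw [← SetLike.mem_coe, hH]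
      exact Subtype.ext (by simpa using hx)
    have h2 : (⟨y, hyK⟩ : Subgroup.closure ({x, y} : Set G)) ∈ H := by
      rw [← SetLike.mem_coe, hH]
      exact Subtype.ext (by simpa using hy)
    have h3 := H.mul_mem h1 h2
    rw [← SetLike.mem_coe, hH] at h3
    apply hxy
    have := congrArg Subtype.val (show (_ : Subgroup.closure ({x, y} : Set G)) ^ p = 1 from h3)
    simpa using this
  -- generic quotient argument
  have hquot : ∀ (N : Subgroup G) [N.Normal], N ≠ ⊥ → ∀ g : G, g ^ p ∈ N := by
    intro N _ hN g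
    obtain ⟨H, hH⟩ := hquo N hN
    have h1 : ((x : G) : G ⧸ N) ∈ H := by
      rw [← SetLike.mem_coe, hH]
      show ((x : G) : G ⧸ N) ^ p = 1
      rw [← QuotientGroup.mk_pow, hx]; rfl
    have h2 : ((y : G) : G ⧸ N) ∈ H := by
      rw [← SetLike.mem_coe, hH]
      show ((y : G) : G ⧸ N) ^ p = 1
      rw [← QuotientGroup.mk_pow, hy]; rfl
    have h3 : (⊤ : Subgroup G).map (QuotientGroup.mk' N) ≤ H := by
      rw [← hgen, MonoidHom.map_closure, Subgroup.closure_le]
      rintro _ ⟨z, hz, rfl⟩
      rcases hz with rfl | hz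
      · exact h1
      · rw [Set.mem_singleton_iff] at hz; subst hz; exact h2
    have h4 : ((g : G) : G ⧸ N) ∈ H := h3 (Subgroup.mem_map_of_mem _ (Subgroup.mem_top g))
    rw [← SetLike.mem_coe, hH] at h4
    have h5 : ((g : G) : G ⧸ N) ^ p = 1 := h4
    rw [← QuotientGroup.mk_pow, QuotientGroup.eq_one_iff] at h5
    exact h5
  -- Step 3: class
  have hclass : (⊤ : Subgroup G).lowerCentralSeries (p - 1) ≠ ⊥ := by
    intro hcl
    have hreg := Cfsg.Agent.S4209.result hG hcl
    obtain ⟨H, -, hH⟩ := Cfsg.Agent.S4225.result hreg 1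
    apply hnc
    refine ⟨H, ?_⟩
    rw [hH, pow_one]
  -- nontrivial
  have hnt : Nontrivial G := by
    by_contra hnt
    rw [not_nontrivial_iff_subsingleton] at hnt
    exact hxy (Subsingleton.elim _ _)
  -- Step 4: cyclic centre
  have hcyc : IsCyclic ↥(Subgroup.center G) := by
    by_contra hnc'
    letI : CommGroup ↥(Subgroup.center G) :=
      { (inferInstance : Group ↥(Subgroup.center G)) with mul_comm := mul_comm' }
    have hnc'' : ¬ IsCyclic ↥(Subgroup.center G) := fun h => hnc' ⟨h.1⟩
    obtain ⟨q, hq, a, b, haq, hbq, hind⟩ :=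
      Cfsg.Agent.Helper5.exists_rank_two_of_not_isCyclic (B := ↥(Subgroup.center G)) hnc''
    have ha1 : (a : G) ≠ 1 := by
      intro h
      have : a = 1 := Subtype.ext h
      have h2 := hind 1 0 (by rw [this]; simp)
      exact hq.one_lt.ne' (Nat.dvd_one.1 h2.1)
    have hb1 : (b : G) ≠ 1 := by
      intro h
      have : b = 1 := Subtype.ext h
      have h2 := hind 0 1 (by rw [this]; simp)
      exact hq.one_lt.ne' (Nat.dvd_one.1 h2.2)
    have hNa : (Subgroup.zpowers (a : G)).Normal := by
      refine ⟨fun n hn g => ?_⟩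
      have := Subgroup.mem_center_iff.1 ((Subgroup.zpowers_le (H := Subgroup.center G)).2 a.2 hn) g
      rw [this, mul_inv_cancel_right]; exact hn
    have hNb : (Subgroup.zpowers (b : G)).Normal := by
      refine ⟨fun n hn g => ?_⟩
      have := Subgroup.mem_center_iff.1 ((Subgroup.zpowers_le (H := Subgroup.center G)).2 b.2 hn) g
      rw [this, mul_inv_cancel_right]; exact hn
    have hNa1 : Subgroup.zpowers (a : G) ≠ ⊥ := by
      rw [Ne, Subgroup.zpowers_eq_bot]; exact ha1
    have hNb1 : Subgroup.zpowers (b : G) ≠ ⊥ := by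
      rw [Ne, Subgroup.zpowers_eq_bot]; exact hb1
    have h1 := hquot _ hNa1 (x * y)
    have h2 := hquot _ hNb1 (x * y)
    obtain ⟨s, hs⟩ := (mem_powers_iff_mem_zpowers.2 h1)
    obtain ⟨t, ht⟩ := (mem_powers_iff_mem_zpowers.2 h2)
    -- a^s = b^t
    have h3 : a ^ s * b ^ ((q - 1) * t) = 1 := by
      apply Subtype.ext
      have e1 : ((a : G)) ^ s = (b : G) ^ t := by
        have hs' : (a : G) ^ s = (x * y) ^ p := hs
        have ht' : (b : G) ^ t = (x * y) ^ p := ht
        rw [hs', ht']
      simp only [Subgroup.coe_mul, Subgroup.coe_pow, Subgroup.coe_one]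
      rw [e1, ← pow_add]
      have e2 : t + (q - 1) * t = q * t := by
        have := hq.one_lt
        calc t + (q - 1) * t = (1 + (q - 1)) * t := by ring
          _ = q * t := by congr 1; omega
      rw [e2, pow_mul]
      have : (b : G) ^ q = 1 := by
        have := congrArg Subtype.val hbq
        simpa using this
      rw [this, one_pow]
    obtain ⟨k, rfl⟩ := (hind _ _ h3).1
    apply hxy
    have hs' : (a : G) ^ (q * k) = (x * y) ^ p := hs
    rw [← hs', pow_mul]
    have : (a : G) ^ q = 1 := by
      have := congrArg Subtype.val haq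
      simpa using this
    rw [this, one_pow]
  -- a central subgroup of order p
  have hexp : Monoid.exponent G = p ^ 2 := by
    haveI : Nontrivial (Subgroup.center G) := by
      haveI : Fintype G := Fintype.ofFinite G
      exact (hG.center_nontrivial)
    have hcard : p ∣ Nat.card (Subgroup.center G) := by
      obtain ⟨n, hn⟩ := IsPGroup.iff_card.1 (hG.to_subgroup (Subgroup.center G))
      rw [hn]
      have : n ≠ 0 := by
        rintro rfl
        rw [pow_zero] at hn
        have := (Nat.card_eq_one_iff_unique.1 hn).1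
        exact not_subsingleton _ this
      exact dvd_pow_self p this
    obtain ⟨z, hz⟩ := exists_prime_orderOf_dvd_card' p hcard
    have hz1 : (z : G) ≠ 1 := by
      intro h
      have : z = 1 := Subtype.ext h
      rw [this, orderOf_one] at hz
      exact hpp.one_lt.ne hz
    have hNz : (Subgroup.zpowers (z : G)).Normal := by
      refine ⟨fun n hn g => ?_⟩
      have := Subgroup.mem_center_iff.1 ((Subgroup.zpowers_le (H := Subgroup.center G)).2 z.2 hn) g
      rw [this, mul_inv_cancel_right]; exact hn
    have hNz1 : Subgroup.zpowers (z : G) ≠ ⊥ := by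
      rw [Ne, Subgroup.zpowers_eq_bot]; exact hz1
    have hzp : (z : G) ^ p = 1 := by
      have := pow_orderOf_eq_one z
      rw [hz] at this
      have := congrArg Subtype.val this
      simpa using this
    have hall : ∀ g : G, g ^ (p ^ 2) = 1 := by
      intro g
      obtain ⟨s, hs⟩ := mem_powers_iff_mem_zpowers.2 (hquot _ hNz1 g)
      have hs' : (z : G) ^ s = g ^ p := hs
      rw [pow_two, pow_mul, ← hs', ← pow_mul, mul_comm, pow_mul, hzp, one_pow]
    have hdvd : Monoid.exponent G ∣ p ^ 2 := Monoid.exponent_dvd_of_forall_pow_eq_one hall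
    obtain ⟨j, hj, hej⟩ := (Nat.dvd_prime_pow hpp).1 hdvd
    have hj2 : j = 2 := by
      by_contra hne
      have hj1 : j ≤ 1 := by omega
      apply hxy
      have h1 : (x * y) ^ Monoid.exponent G = 1 := Monoid.pow_exponent_eq_one _
      rw [hej] at h1
      rcases Nat.le_one_iff_eq_zero_or_eq_one.1 hj1 with rfl | rfl
      · rw [pow_zero, pow_one] at h1
        rw [h1, one_pow]
      · rwa [pow_one] at h1
    rw [hej, hj2]
  -- Step 6: order
  have hord : p ^ (p + 1) ≤ Nat.card G := by
    obtain ⟨n, hn⟩ := IsPGroup.iff_card.1 hG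
    rw [hn]
    apply Nat.pow_le_pow_right hpp.pos
    have hc : ¬ Group.nilpotencyClass G ≤ p - 1 := fun h =>
      hclass (Subgroup.lowerCentralSeries_eq_bot_iff_nilpotencyClass_le.2 h)
    by_cases hn2 : 2 ≤ n
    · have := Cfsg.Agent.Helper1.nilpotencyClass_le_pred n G hn hn2
      omega
    · exfalso
      have hcycG : IsCyclic G := Cfsg.Agent.Helper1.isCyclic_of_card_le_prime hn (by omega)
      apply hxy
      have hcomm : Commute x y := by
        obtain ⟨g, hg⟩ := hcycG
        obtain ⟨i, rfl⟩ := Subgroup.mem_zpowers_iff.1 (hg x)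
        obtain ⟨j, rfl⟩ := Subgroup.mem_zpowers_iff.1 (hg y)
        exact (Commute.refl g).zpow_zpow i j
      rw [hcomm.mul_pow, hx, hy, one_mul]
  exact ⟨⟨x, y, hgen⟩, hclass, hexp, hcyc, hord⟩

end Cfsg.Agent.S3872
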