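import Mathlib
import Cfsg.Statements.S3873
import Cfsg.Prelude.Def_Transfer
import Cfsg.Agent.Helper1.EPPO
import Cfsg.Agent.Helper3.InvariantSylow
import Cfsg.Agent.S3869
-- import your own Cfsg.Agent.* helpers here

set_option autoImplicit false
open Cfsg

namespace Cfsg.Agent.S3873
universe u
open scoped Pointwise commutatorElement

/-- an element of `N` (with `p ∤ |N|`) whose `p`-th power is trivial is trivial. -/
theorem eq_one_of_pow_of_not_dvd {G : Type u} [Group G] [Finite G] {p : ℕ} (hp : p.Prime)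
    (N : Subgroup G) (hpN : ¬ p ∣ Nat.card N) (g : G) (hg : g ∈ N) (hgp : g ^ p = 1) : g = 1 := by
  have h1 : orderOf g ∣ p := orderOf_dvd_of_pow_eq_one hgp
  have h2 : orderOf g ∣ Nat.card N := by
    have := Subgroup.card_dvd_of_le (Subgroup.zpowers_le.2 hg : Subgroup.zpowers g ≤ N)
    rwa [Nat.card_zpowers] at this
  rcases (Nat.dvd_prime hp).1 h1 with h3 | h3
  · exact orderOf_eq_one_iff.1 h3
  · exact absurd (h3 ▸ h2) hpN

/-- Say that a finite group is p-exponent closed when its elements of order dividing p form a subgroup. Let G be a finite group that is not p-exponent closed, but all of whose proper subgroups and proper quotients are, and suppose G is neither simple nor a p-group. Then there is a prime q ≠ p such that G has order p · q^e, where e is the multiplicative order of q modulo p, and G has a normal elementary abelian subgroup of order q^e that is a minimal normal subgroup of G. -/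
theorem result {G : Type*} [Group G] [Finite G] {p : ℕ} [Fact p.Prime]
    (hnc : ¬ (∃ H : Subgroup G, (H : Set G) = {g : G | g ^ p = 1})) (hsub : ∀ K : Subgroup G, K ≠ ⊤ → (∃ H : Subgroup ↥K, (H : Set ↥K) = {g : ↥K | g ^ p = 1}))
    (hquo : ∀ (N : Subgroup G) [N.Normal], N ≠ ⊥ → (∃ H : Subgroup (G ⧸ N), (H : Set (G ⧸ N)) = {g : (G ⧸ N) | g ^ p = 1}))
    (hns : ¬ IsSimpleGroup G) (hnp : ¬ IsPGroup p G) :
    ∃ q : ℕ, q.Prime ∧ q ≠ p ∧ Nat.card G = p * q ^ orderOf (q : ZMod p) ∧
      ∃ A : Subgroup G, A.Normal ∧ Nat.card ↥A = q ^ orderOf (q : ZMod p) ∧ Cfsg.IsElementaryAbelian q A ∧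
        ∀ B : Subgroup G, B.Normal → B ≤ A → B = ⊥ ∨ B = A := by
  classical
  have hp : p.Prime := Fact.out
  -- (L1) generated by elements of order dividing p
  have hgen : Subgroup.closure {g : G | g ^ p = 1} = ⊤ := by
    by_contra hT
    obtain ⟨H, hH⟩ := hsub _ hT
    apply hnc
    refine ⟨H.map (Subgroup.subtype _), ?_⟩
    ext g
    simp only [Subgroup.coe_map, Set.mem_image, SetLike.mem_coe, Set.mem_ofPred_eq]
    constructor
    · rintro ⟨t, ht, rfl⟩
      have : t ∈ (H : Set _) := ht
      rw [hH] at this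
      have h2 : t ^ p = 1 := this
      have := congrArg Subtype.val h2
      simpa using this
    · intro hg
      refine ⟨⟨g, Subgroup.subset_closure hg⟩, ?_, rfl⟩
      have : (⟨g, Subgroup.subset_closure hg⟩ : ↥(Subgroup.closure {g : G | g ^ p = 1})) ∈ (H : Set _) := by
        rw [hH]
        show (⟨g, _⟩ : ↥(Subgroup.closure {g : G | g ^ p = 1})) ^ p = 1
        apply Subtype.ext
        simpa using hg
      exact this
  -- (L2) proper quotients have exponent p
  have hquoexp : ∀ (N : Subgroup G) [N.Normal], N ≠ ⊥ → ∀ g : G ⧸ N, g ^ p = 1 := by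
    intro N _ hN g
    obtain ⟨H, hH⟩ := hquo N hN
    have hle : Subgroup.closure {g : G | g ^ p = 1} ≤ H.comap (QuotientGroup.mk' N) := by
      rw [Subgroup.closure_le]
      intro a ha
      have ha' : a ^ p = 1 := ha
      show QuotientGroup.mk' N a ∈ H
      have : QuotientGroup.mk' N a ∈ (H : Set _) := by
        rw [hH]
        show (QuotientGroup.mk' N a) ^ p = 1
        rw [← map_pow, ha', map_one]
      exact this
    rw [hgen] at hle
    obtain ⟨a, rfl⟩ := QuotientGroup.mk'_surjective N g
    have : QuotientGroup.mk' N a ∈ (H : Set _) := hle (Subgroup.mem_top a)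
    rw [hH] at this
    exact this
  -- (L3) nontrivial normal subgroups are not p-groups
  have hnotp : ∀ (N : Subgroup G) [N.Normal], N ≠ ⊥ → ¬ IsPGroup p N := by
    intro N _ hN hNp
    apply hnp
    intro g
    have h1 : (QuotientGroup.mk' N g) ^ p = 1 := hquoexp N hN _
    rw [← map_pow] at h1
    have h2 : g ^ p ∈ N := (QuotientGroup.eq_one_iff _).1 h1
    obtain ⟨k, hk⟩ := hNp ⟨g ^ p, h2⟩
    refine ⟨k + 1, ?_⟩
    have := congrArg Subtype.val hk
    rw [pow_succ', pow_mul]
    simpa using this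
  -- (L4) proper normal subgroups are p'-groups
  have hp' : ∀ (H : Subgroup G) [H.Normal], H ≠ ⊤ → ¬ p ∣ Nat.card H := by
    intro H hHn hH hdvd
    obtain ⟨x, hx⟩ := exists_prime_orderOf_dvd_card' (G := H) p hdvd
    obtain ⟨Ω, hΩ⟩ := hsub H hH
    have hΩmem : ∀ t : ↥H, t ∈ Ω ↔ t ^ p = 1 := by
      intro t
      have : t ∈ (Ω : Set _) ↔ t ∈ {g : ↥H | g ^ p = 1} := by rw [hΩ]
      exact this
    have hΩc : Ω.Characteristic := by
      rw [Subgroup.characteristic_iff_comap_le]
      intro φ t ht
      rw [Subgroup.mem_comap, hΩmem] at ht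
      rw [hΩmem]
      have : φ (t ^ p) = 1 := by rw [map_pow]; exact ht
      exact (map_eq_one_iff φ φ.injective).1 this
    have hMn : (Ω.map H.subtype).Normal := ConjAct.normal_of_characteristic_of_normal
    have hM1 : Ω.map H.subtype ≠ ⊥ := by
      intro h
      have hxΩ : x ∈ Ω := by rw [hΩmem, ← hx]; exact pow_orderOf_eq_one x
      have : (x : G) ∈ Ω.map H.subtype := Subgroup.mem_map_of_mem _ hxΩ
      rw [h, Subgroup.mem_bot] at this
      have hx1 : x = 1 := Subtype.ext this
      rw [hx1, orderOf_one] at hx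
      exact hp.one_lt.ne hx
    apply hnotp _ hM1
    rintro ⟨m, hm⟩
    obtain ⟨t, ht, htm⟩ := hm
    refine ⟨1, ?_⟩
    apply Subtype.ext
    rw [pow_one]
    show m ^ p = 1
    rw [← htm]
    have := (hΩmem t).1 ht
    have := congrArg Subtype.val this
    simpa using this
  -- G nontrivial, proper nontrivial normal subgroup
  have hnt : Nontrivial G := by
    by_contra h
    rw [not_nontrivial_iff_subsingleton] at h
    apply hnc
    refine ⟨⊥, ?_⟩
    ext g
    have : g = 1 := Subsingleton.elim _ _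
    simp [this]
  obtain ⟨N, hNn, hN1, hNtop⟩ : ∃ N : Subgroup G, N.Normal ∧ N ≠ ⊥ ∧ N ≠ ⊤ := by
    by_contra hcon
    push Not at hcon
    apply hns
    exact { toNontrivial := hnt
            eq_bot_or_eq_top_of_normal := fun H hH => by
              by_cases h : H = ⊥
              · exact Or.inl h
              · exact Or.inr (hcon H hH h) }
  have hpN : ¬ p ∣ Nat.card N := hp' N hNtop
  have hquoP : ∀ (B : Subgroup G) [B.Normal], B ≠ ⊥ → IsPGroup p (G ⧸ B) := by
    intro B _ hB g
    exact ⟨1, by rw [pow_one]; exact hquoexp B hB g⟩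
  -- (L6) index p
  have hidx : N.index = p := by
    have hQP := hquoP N hN1
    have hQnt : Nontrivial (G ⧸ N) := by
      rw [← Finite.one_lt_card_iff_nontrivial, ← Subgroup.index_eq_card]
      by_contra h
      have h0 : N.index ≠ 0 := Subgroup.index_ne_zero_of_finite
      have : N.index = 1 := by omega
      exact hNtop (Subgroup.index_eq_one.1 this)
    have hZnt := hQP.center_nontrivial
    obtain ⟨⟨z, hz⟩, hz1⟩ := exists_ne (1 : Subgroup.center (G ⧸ N))
    have hz1' : z ≠ 1 := fun h => hz1 (Subtype.ext h)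
    have hzp : z ^ p = 1 := hquoexp N hN1 z
    have hzo : orderOf z = p := by
      rcases (Nat.dvd_prime hp).1 (orderOf_dvd_of_pow_eq_one hzp) with h | h
      · exact absurd (orderOf_eq_one_iff.1 h) hz1'
      · exact h
    have hZn : (Subgroup.zpowers z).Normal := by
      constructor
      intro n hn g
      have hnc : n ∈ Subgroup.center (G ⧸ N) := by
        obtain ⟨i, rfl⟩ := Subgroup.mem_zpowers_iff.1 hn
        exact Subgroup.zpow_mem _ hz i
      have := Subgroup.mem_center_iff.1 hnc g
      rw [this, mul_inv_cancel_right]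
      exact hn
    set H := (Subgroup.zpowers z).comap (QuotientGroup.mk' N) with hH
    have hHn : H.Normal := Subgroup.Normal.comap hZn _
    have hHtop : H = ⊤ := by
      by_contra hne
      apply hp' H hne
      obtain ⟨g, hg⟩ := QuotientGroup.mk'_surjective N z
      have hgH : g ∈ H := by
        show QuotientGroup.mk' N g ∈ Subgroup.zpowers z
        rw [hg]; exact Subgroup.mem_zpowers z
      have h1 : p ∣ orderOf g := by
        have := orderOf_map_dvd (QuotientGroup.mk' N) g
        rwa [hg, hzo] at this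
      have h2 : orderOf (⟨g, hgH⟩ : ↥H) ∣ Nat.card H := orderOf_dvd_natCard _
      rw [← Subgroup.orderOf_coe] at h2
      exact h1.trans h2
    have hZtop : Subgroup.zpowers z = ⊤ := by
      rw [eq_top_iff]
      intro q _
      obtain ⟨g, rfl⟩ := QuotientGroup.mk'_surjective N q
      have : g ∈ H := hHtop ▸ Subgroup.mem_top g
      exact this
    rw [Subgroup.index_eq_card, ← Nat.card_congr (Subgroup.topEquiv (G := G ⧸ N)).toEquiv, ← hZtop,
      Nat.card_zpowers, hzo]
  have hcardG : Nat.card G = p * Nat.card N := by rw [← N.card_mul_index, hidx, mul_comm]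
  have hpG : p ∣ Nat.card G := by rw [hcardG]; exact dvd_mul_right _ _
  obtain ⟨x, hx⟩ := exists_prime_orderOf_dvd_card' p hpG
  have hxp : x ^ p = 1 := by rw [← hx]; exact pow_orderOf_eq_one x
  have hxN : x ∉ N := by
    intro h
    have := eq_one_of_pow_of_not_dvd hp N hpN x h hxp
    rw [this, orderOf_one] at hx
    exact hp.one_lt.ne hx
  have hxNtop : Subgroup.zpowers x ⊔ N = ⊤ :=
    Cfsg.Agent.S3869.eq_top_of_index_prime hp hidx le_sup_right x
      (Subgroup.mem_sup_left (Subgroup.mem_zpowers x)) hxN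
  -- (L8)
  have hcent : ∀ S' : Subgroup G, S' ≤ N → x ∈ Subgroup.normalizer (S' : Set G) →
      Subgroup.zpowers x ⊔ S' ≠ ⊤ → S' ≤ Subgroup.centralizer {x} := by
    intro S' hS'N _ hQ
    obtain ⟨Ω, hΩ⟩ := hsub _ hQ
    have hΩmem : ∀ t : ↥(Subgroup.zpowers x ⊔ S'), t ∈ Ω ↔ t ^ p = 1 := by
      intro t
      have : t ∈ (Ω : Set _) ↔ t ∈ {g : ↥(Subgroup.zpowers x ⊔ S') | g ^ p = 1} := by rw [hΩ]
      exact this
    intro s hs
    rw [Subgroup.mem_centralizer_iff]
    intro y hy
    rw [Set.mem_singleton_iff] at hy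
    subst hy
    have hyQ : y ∈ Subgroup.zpowers y ⊔ S' := Subgroup.mem_sup_left (Subgroup.mem_zpowers y)
    have hsQ : s ∈ Subgroup.zpowers y ⊔ S' := Subgroup.mem_sup_right hs
    have h1 : (⟨y, hyQ⟩ : ↥(Subgroup.zpowers y ⊔ S')) ∈ Ω := by
      rw [hΩmem]; exact Subtype.ext (by simpa using hxp)
    have h2 : (⟨s, hsQ⟩ * ⟨y, hyQ⟩⁻¹ * ⟨s, hsQ⟩⁻¹ : ↥(Subgroup.zpowers y ⊔ S')) ∈ Ω := by
      rw [hΩmem, conj_pow, inv_pow]
      have : (⟨y, hyQ⟩ : ↥(Subgroup.zpowers y ⊔ S')) ^ p = 1 := Subtype.ext (by simpa using hxp)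
      rw [this]; simp
    have h3 := (hΩmem _).1 (Ω.mul_mem h1 h2)
    have h4 : ⁅y, s⁆ ^ p = 1 := by
      have := congrArg Subtype.val h3
      simp only [Subgroup.coe_pow, Subgroup.coe_mul, Subgroup.coe_inv, Subgroup.coe_one] at this
      rw [commutatorElement_def]
      rw [← this]
      congr 1
      group
    have h5 : ⁅y, s⁆ ∈ N := by
      rw [commutatorElement_def]
      exact N.mul_mem (hNn.conj_mem s (hS'N hs) y) (N.inv_mem (hS'N hs))
    have h6 := eq_one_of_pow_of_not_dvd hp N hpN _ h5 h4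
    rw [commutatorElement_eq_one_iff_mul_comm] at h6
    exact h6
  -- (L9)
  have hC : N ⊓ Subgroup.centralizer {x} ≠ N := by
    intro h
    have hxc : ∀ n ∈ N, x * n = n * x := by
      intro n hn
      have : n ∈ N ⊓ Subgroup.centralizer {x} := by rw [h]; exact hn
      exact Subgroup.mem_centralizer_iff.1 this.2 x rfl
    apply hnc
    refine ⟨Subgroup.zpowers x, ?_⟩
    ext g
    simp only [SetLike.mem_coe, Set.mem_ofPred_eq]
    constructor
    · intro hg
      obtain ⟨i, rfl⟩ := Subgroup.mem_zpowers_iff.1 hg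
      rw [← zpow_natCast, ← zpow_mul, mul_comm, zpow_mul, zpow_natCast, hxp, one_zpow]
    · intro hg
      have hgtop : g ∈ Subgroup.zpowers x ⊔ N := hxNtop ▸ Subgroup.mem_top g
      obtain ⟨a, ha, n, hn, rfl⟩ := Subgroup.mem_sup_of_normal_right.1 hgtop
      have hcomm : Commute a n := by
        obtain ⟨i, rfl⟩ := Subgroup.mem_zpowers_iff.1 ha
        exact (Commute.zpow_left (hxc n hn) i)
      rw [hcomm.mul_pow] at hg
      have hap : a ^ p = 1 := by
        obtain ⟨i, rfl⟩ := Subgroup.mem_zpowers_iff.1 ha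
        rw [← zpow_natCast, ← zpow_mul, mul_comm, zpow_mul, zpow_natCast, hxp, one_zpow]
      rw [hap, one_mul] at hg
      rw [eq_one_of_pow_of_not_dvd hp N hpN n hn hg, mul_one]
      exact ha
  obtain ⟨q, hq, hNq⟩ :=
    Cfsg.Agent.Helper3.InvariantSylow.exists_prime_isPGroup N hidx hpN x hx hcent hC
  have : Fact q.Prime := ⟨hq⟩
  have hqp : q ≠ p := by
    rintro rfl
    exact hnotp N hN1 hNq
  have hcopN : (Nat.card N).Coprime p := (Nat.Coprime.symm ((Nat.Prime.coprime_iff_not_dvd hp).2 hpN))
  -- minimality of N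
  have hminN : ∀ B : Subgroup G, B.Normal → B ≤ N → B = ⊥ ∨ B = N := by
    intro B hBn hBN
    by_cases hB1 : B = ⊥
    · exact Or.inl hB1
    right
    obtain ⟨b, hb⟩ := IsPGroup.iff_card.1 (hquoP B hB1)
    rw [← Subgroup.index_eq_card] at hb
    have h1 := Subgroup.relIndex_mul_index hBN
    have h2 : B.relIndex N ∣ p ^ b := hb ▸ Dvd.intro _ h1
    have h3 : B.relIndex N ∣ Nat.card N := Subgroup.relIndex_dvd_card B N
    have h4 : B.relIndex N = 1 :=
      Nat.Coprime.eq_one_of_dvd (Nat.Coprime.coprime_dvd_left h3 (Nat.Coprime.pow_right b hcopN)) h2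
    exact le_antisymm hBN (Subgroup.relIndex_eq_one.1 h4)
  -- N is abelian
  have hNc : IsMulCommutative ↥N := by
    have hNnt : Nontrivial ↥N := (Subgroup.nontrivial_iff_ne_bot N).2 hN1
    have hZnt := hNq.center_nontrivial
    have hZn : ((Subgroup.center ↥N).map N.subtype).Normal :=
      ConjAct.normal_of_characteristic_of_normal
    rcases hminN _ hZn (Subgroup.map_subtype_le _) with h | h
    · exfalso
      have : Subgroup.center ↥N = ⊥ := by
        rw [eq_bot_iff]
        intro z hz
        have : (z : G) ∈ (Subgroup.center ↥N).map N.subtype := Subgroup.mem_map_of_mem _ hz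
        rw [h, Subgroup.mem_bot] at this
        rw [Subgroup.mem_bot]
        exact Subtype.ext this
      exact (Subgroup.nontrivial_iff_ne_bot _).1 hZnt this
    · refine ⟨⟨fun a b => ?_⟩⟩
      have : (a : G) ∈ (Subgroup.center ↥N).map N.subtype := by rw [h]; exact a.2
      obtain ⟨z, hz, hza⟩ := this
      have hza' : z = a := Subtype.ext hza
      rw [← hza']
      exact (Subgroup.mem_center_iff.1 hz b).symm
  have hexp := Cfsg.Agent.Helper1.minimal_normal_abelian_pow_eq_one N hN1 hNq hNc hminN
  have hna : ¬ IsMulCommutative G := by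
    intro h
    apply hnc
    refine ⟨{ carrier := {g | g ^ p = 1}
              mul_mem' := fun {a b} ha hb => by
                show (a * b) ^ p = 1
                have hc : Commute a b := mul_comm' a b
                rw [hc.mul_pow, (ha : a ^ p = 1), (hb : b ^ p = 1), one_mul]
              one_mem' := one_pow p
              inv_mem' := fun {a} ha => by
                show a⁻¹ ^ p = 1
                rw [inv_pow, (ha : a ^ p = 1), inv_one] }, rfl⟩
  have hres := Cfsg.Agent.S3869.result hq hqp hna N ⟨hNc, hexp⟩ hidx hminN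
  refine ⟨q, hq, hqp, ?_, N, hNn, hres.1, ⟨hNc, hexp⟩, hminN⟩
  rw [hcardG, hres.1]

end Cfsg.Agent.S3873
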