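import Cfsg.Statements.S3875
import Cfsg.Agent.Lead.NpcB
import Cfsg.Agent.Lead.NpcC

set_option autoImplicit false
open Cfsg

namespace Cfsg.Agent.S3875

/-- Let p be an odd prime and let m be the least prime power congruent to 1 modulo p. Then the least order of a finite group whose Sylow p-subgroups are not normal is the smaller of p · m and p(p² − 1)/2: every finite group whose Sylow p-subgroups are not normal has at least that order, and some group of exactly that order has non-normal Sylow p-subgroups. -/
theorem result (p : ℕ) [Fact p.Prime] (hp : p ≠ 2) (m : ℕ) (hm : IsPrimePow m) (hm1 : m % p = 1)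
    (hleast : ∀ k : ℕ, IsPrimePow k → k % p = 1 → m ≤ k) :
    (∀ (H : Type) [Group H] [Finite H], ¬ Cfsg.IsPClosed p H → min (p * m) (p * (p ^ 2 - 1) / 2) ≤ Nat.card H) ∧
      ∃ (H : Type) (_ : Group H) (_ : Finite H), Nat.card H = min (p * m) (p * (p ^ 2 - 1) / 2) ∧ ¬ Cfsg.IsPClosed p H := by
  refine ⟨fun H _ _ hnc => Cfsg.Agent.Lead.Npc.npc_lower p hp m hleast _ H rfl hnc, ?_⟩
  by_cases hcmp : p * m ≤ p * (p ^ 2 - 1) / 2
  · rw [min_eq_left hcmp]
    obtain ⟨q, k, hq, hk, rfl⟩ := (isPrimePow_nat_iff m).mp hm
    have : Fact q.Prime := ⟨hq⟩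
    exact Cfsg.Agent.Lead.Npc.npc_affine p q k hk hm1
  · rw [min_eq_right (le_of_not_ge hcmp)]
    have hp5 : 5 ≤ p := by
      by_contra h
      have hpp : p.Prime := Fact.out
      have h3 : p = 3 := by
        have h2 : 2 ≤ p := hpp.two_le
        have h4 : p ≠ 4 := by
          intro h4
          rw [h4] at hpp
          exact absurd hpp (by norm_num)
        omega
      subst h3
      have hm4 : m ≤ 4 :=
        hleast 4 ((isPrimePow_nat_iff 4).mpr ⟨2, 2, Nat.prime_two, by norm_num, by norm_num⟩)
          (by norm_num)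
      apply hcmp
      norm_num
      omega
    exact Cfsg.Agent.Lead.Npc.npc_psl p hp5

end Cfsg.Agent.S3875
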