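import Mathlib
import Cfsg.Statements.S3880
import Cfsg.Agent.Helper3.MetaOdd5
import Cfsg.Statements.S3880
-- import your own Cfsg.Agent.* helpers here

set_option autoImplicit false
open Cfsg

namespace Cfsg.Agent.S3880
open Cfsg

universe u

open Cfsg.Agent.Helper3.MetaOdd
open scoped commutatorElement

theorem comm_iff_n {G : Type u} [Group G] {p : ℕ} [hp : Fact p.Prime] (D : Data G p) :
    IsMulCommutative G ↔ D.n = 0 := by
  constructor
  · intro h
    rw [isMulCommutative_iff] at h
    have h1 : commutator G = ⊥ := by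
      rw [eq_bot_iff, commutator_def, Subgroup.commutator_le]
      intro x _ y _
      rw [Subgroup.mem_bot, commutatorElement_eq_one_iff_mul_comm]
      exact h x y
    have hc := D.card_commutator
    rw [h1, Subgroup.card_bot] at hc
    by_contra hn
    have : 1 < p ^ D.n := Nat.one_lt_pow hn hp.out.one_lt
    omega
  · intro h0
    have hc := D.card_commutator
    rw [h0, pow_zero, Subgroup.card_eq_one] at hc
    rw [isMulCommutative_iff]
    intro x y
    have h1 : ⁅x, y⁆ ∈ commutator G := by
      rw [commutator_def]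
      exact Subgroup.commutator_mem_commutator (Subgroup.mem_top _) (Subgroup.mem_top _)
    rw [hc, Subgroup.mem_bot, commutatorElement_eq_one_iff_mul_comm] at h1
    exact h1

/-- the numerical core -/
theorem key {G : Type u} [Group G] [Finite G] {p : ℕ} [hp : Fact p.Prime] (hp2 : p ≠ 2)
    (hG : IsPGroup p G) (D : Data G p) (L : Subgroup G) :
    (IsMulCommutative ↥L ↔ D.n ≤ D.alpha L + D.beta hG L) ∧
    Nat.card ↥L * p ^ (D.alpha L + D.beta hG L) = (commutator G).index * p ^ D.n := by
  constructor
  · rw [comm_iff_n (D.subData hG L), D.subData_n hp2 hG L]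
    omega
  · rw [← D.index_eq hG L, Subgroup.card_mul_index, ← D.card_commutator, mul_comm,
      Subgroup.card_mul_index]

theorem part1 {G : Type u} [Group G] [Finite G] {p : ℕ} [hp : Fact p.Prime] (hp2 : p ≠ 2)
    (hG : IsPGroup p G) (D : Data G p) (L : Subgroup G) :
    (IsMulCommutative ↥L ↔ Nat.card ↥L ≤ (commutator G).index) := by
  obtain ⟨h1, h2⟩ := key hp2 hG D L
  rw [h1]
  have hidx : 0 < (commutator G).index := Nat.pos_of_ne_zero Subgroup.index_ne_zero_of_finite
  have hL : 0 < Nat.card ↥L := Nat.card_pos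
  generalize D.alpha L + D.beta hG L = s at h2 ⊢
  generalize D.n = n at h2 ⊢
  generalize Nat.card ↥L = X at h2 hL ⊢
  generalize (commutator G).index = I at h2 hidx ⊢
  have hpp : ∀ k, 0 < p ^ k := fun k => pow_pos hp.out.pos _
  constructor
  · intro hle
    obtain ⟨d, rfl⟩ : ∃ d, s = n + d := ⟨s - n, by omega⟩
    have h3 : (X * p ^ d) * p ^ n = I * p ^ n := by rw [← h2, pow_add]; ring
    have h4 := Nat.eq_of_mul_eq_mul_right (hpp n) h3
    rw [← h4]
    exact Nat.le_mul_of_pos_right _ (hpp d)
  · intro hle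
    by_contra hcon
    push Not at hcon
    obtain ⟨d, rfl⟩ : ∃ d, n = s + d + 1 := ⟨n - s - 1, by omega⟩
    have h3 : X * p ^ s = (I * (p ^ d * p)) * p ^ s := by rw [h2, pow_add, pow_add, pow_one]; ring
    have h4 := Nat.eq_of_mul_eq_mul_right (hpp s) h3
    have h5 : I * 2 ≤ I * (p ^ d * p) := by
      apply Nat.mul_le_mul_left
      calc 2 ≤ p := hp.out.two_le
        _ ≤ p ^ d * p := Nat.le_mul_of_pos_left _ (hpp d)
    omega

/-- Let p be an odd prime and G a finite metacyclic p-group (G has a cyclic normal subgroup with cyclic quotient). Then a subgroup L of G is abelian if and only if |L| ≤ |G : G'|, and L is a maximal abelian subgroup of G if and only if |L| = |G : G'|. -/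
theorem result {G : Type*} [Group G] [Finite G] {p : ℕ} [Fact p.Prime] (hp : p ≠ 2) (hG : IsPGroup p G) (hmc : Cfsg.IsMetacyclic G) (L : Subgroup G) :
    (IsMulCommutative ↥L ↔ Nat.card ↥L ≤ (commutator G).index) ∧
      (Maximal (fun K : Subgroup G => IsMulCommutative ↥K) L ↔ Nat.card ↥L = (commutator G).index) := by
  obtain ⟨D⟩ := exists_data hG hmc
  have hp' : Fact p.Prime := inferInstance
  refine ⟨part1 hp hG D L, ?_⟩
  constructor
  · intro hmax
    have hle := (part1 hp hG D L).1 hmax.1
    by_contra hne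
    have hlt : Nat.card ↥L < (commutator G).index := lt_of_le_of_ne hle hne
    obtain ⟨c, hc⟩ := (IsPGroup.iff_card.1 (hG.to_subgroup L))
    obtain ⟨c', hc'⟩ := hG.index (commutator G)
    obtain ⟨N, hN⟩ := (IsPGroup.iff_card.1 hG)
    rw [hc, hc'] at hlt
    have hcc : c < c' := (Nat.pow_lt_pow_iff_right hp'.out.one_lt).1 hlt
    have hc'N : p ^ c' ∣ Nat.card G := by rw [← hc']; exact Subgroup.index_dvd_card _
    have hdvd : p ^ (c + 1) ∣ Nat.card G := (pow_dvd_pow p (by omega)).trans hc'N
    obtain ⟨K, hK, hLK⟩ := Sylow.exists_subgroup_card_pow_succ hdvd hc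
    have hKab : IsMulCommutative ↥K := by
      rw [part1 hp hG D K, hK, hc']
      exact Nat.pow_le_pow_right hp'.out.pos (by omega)
    have hKL := hmax.2 hKab hLK
    have := Subgroup.card_le_of_le hKL
    rw [hK, hc, Nat.pow_le_pow_iff_right hp'.out.one_lt] at this
    omega
  · intro heq
    refine ⟨(part1 hp hG D L).2 heq.le, ?_⟩
    intro K hK hLK
    have hKle := (part1 hp hG D K).1 hK
    rw [← heq] at hKle
    have := Subgroup.eq_of_le_of_card_ge hLK hKle
    rw [this]


end Cfsg.Agent.S3880
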