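import Mathlib
import Cfsg.Statements.S3881
import Cfsg.Agent.Helper3.MetaOdd4
import Cfsg.Statements.S3881
-- import your own Cfsg.Agent.* helpers here

set_option autoImplicit false
open Cfsg

namespace Cfsg.Agent.S3881
open Cfsg

universe u

open Cfsg.Agent.Helper3.MetaOdd

/-- Let p be an odd prime and G a finite metacyclic p-group (G has a cyclic normal subgroup with cyclic quotient). Suppose G is non-abelian with |G'| = p^n. Then for 1 ≤ i ≤ n the number of elements of G whose conjugacy class has exactly p^i elements is |Z(G)| · (p^(2i) − p^(2i−2)). -/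
theorem result {G : Type*} [Group G] [Finite G] {p : ℕ} [Fact p.Prime] (hp : p ≠ 2) (hG : IsPGroup p G) (hmc : Cfsg.IsMetacyclic G) (n : ℕ) (hn : n ≠ 0) (hGn : Nat.card ↥(commutator G) = p ^ n) (i : ℕ) (hi : 1 ≤ i) (hin : i ≤ n) :
    Nat.card {g : G // (Subgroup.centralizer ({g} : Set G)).index = p ^ i} =
      Nat.card ↥(Subgroup.center G) * (p ^ (2 * i) - p ^ (2 * i - 2)) := by
  obtain ⟨D⟩ := exists_data hG hmc
  have hp' : Fact p.Prime := inferInstance
  have hDn := D.n_eq n hGn
  subst hDn
  have h1 := D.card_cls_le hG hp i hin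
  have h2 := D.card_cls_le hG hp (i - 1) (by omega)
  have hunion : {g : G | (Subgroup.centralizer ({g} : Set G)).index ≤ p ^ i} =
      {g : G | (Subgroup.centralizer ({g} : Set G)).index = p ^ i} ∪
      {g : G | (Subgroup.centralizer ({g} : Set G)).index ≤ p ^ (i - 1)} := by
    ext g
    simp only [Set.mem_ofPred_eq, Set.mem_union]
    obtain ⟨c, hc⟩ := hG.index (Subgroup.centralizer ({g} : Set G))
    rw [hc, Nat.pow_le_pow_iff_right hp'.out.one_lt, Nat.pow_le_pow_iff_right hp'.out.one_lt,
      Nat.pow_right_injective hp'.out.two_le |>.eq_iff]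
    omega
  have hdisj : Disjoint {g : G | (Subgroup.centralizer ({g} : Set G)).index = p ^ i}
      {g : G | (Subgroup.centralizer ({g} : Set G)).index ≤ p ^ (i - 1)} := by
    rw [Set.disjoint_left]
    intro g hg1 hg2
    simp only [Set.mem_ofPred_eq] at hg1 hg2
    rw [hg1, Nat.pow_le_pow_iff_right hp'.out.one_lt] at hg2
    omega
  have h3 := Set.ncard_union_eq hdisj (Set.toFinite _) (Set.toFinite _)
  rw [← hunion] at h3
  have e1 : Nat.card {g : G // (Subgroup.centralizer ({g} : Set G)).index ≤ p ^ i} =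
      {g : G | (Subgroup.centralizer ({g} : Set G)).index ≤ p ^ i}.ncard := rfl
  have e2 : Nat.card {g : G // (Subgroup.centralizer ({g} : Set G)).index ≤ p ^ (i - 1)} =
      {g : G | (Subgroup.centralizer ({g} : Set G)).index ≤ p ^ (i - 1)}.ncard := rfl
  have e3 : Nat.card {g : G // (Subgroup.centralizer ({g} : Set G)).index = p ^ i} =
      {g : G | (Subgroup.centralizer ({g} : Set G)).index = p ^ i}.ncard := rfl
  rw [e1] at h1
  rw [e2] at h2
  rw [e3]
  rw [h1, h2] at h3
  have e4 : p ^ (2 * i) = p ^ i * p ^ i := by rw [← pow_add]; congr 1; omega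
  have e5 : p ^ (2 * i - 2) = p ^ (i - 1) * p ^ (i - 1) := by rw [← pow_add]; congr 1; omega
  rw [e4, e5, Nat.mul_sub]
  omega


end Cfsg.Agent.S3881
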