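import Mathlib
import Cfsg.Statements.S3882
import Cfsg.Agent.Helper3.MetaOdd2
import Cfsg.Statements.S3882
-- import your own Cfsg.Agent.* helpers here

set_option autoImplicit false
open Cfsg

namespace Cfsg.Agent.S3882
open Cfsg

universe u

open Cfsg.Agent.Helper3.MetaOdd in
theorem part1 {G : Type u} [Group G] [Finite G] {p : ℕ} [Fact p.Prime] (hp : p ≠ 2) (D : Data G p)
    (s : ℕ) (hs : s ≤ D.n) (g : G) :
    g ∈ Subgroup.closure {x : G | ∃ y : G, y ^ p ^ s = x} ↔
      (Subgroup.centralizer ({g} : Set G)).index ≤ p ^ (D.n - s) := by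
  rw [D.mem_agemo_iff hp]
  constructor
  · rintro ⟨j, i, rfl⟩
    exact D.cls_le_of_dvd hp s _ _ (dvd_mul_right _ _) (dvd_mul_right _ _)
  · intro h
    obtain ⟨J, I, rfl⟩ := D.hgen g
    obtain ⟨⟨j, rfl⟩, ⟨i, rfl⟩⟩ := (D.cls_le_iff hp s J I hs).1 h
    exact ⟨j, i, rfl⟩

/-- Let p be an odd prime and G a finite metacyclic p-group (G has a cyclic normal subgroup with cyclic quotient). Suppose |G'| = p^n and 0 ≤ s ≤ n. Then an element g lies in the subgroup generated by the p^s-th powers if and only if its conjugacy class has at most p^(n−s) elements; in particular the subgroup generated by the p^n-th powers is the center of G. -/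
theorem result {G : Type*} [Group G] [Finite G] {p : ℕ} [Fact p.Prime] (hp : p ≠ 2) (hG : IsPGroup p G) (hmc : Cfsg.IsMetacyclic G) (n : ℕ) (hGn : Nat.card ↥(commutator G) = p ^ n) (s : ℕ) (hs : s ≤ n) (g : G) :
    (g ∈ Subgroup.closure {x : G | ∃ y : G, y ^ p ^ s = x} ↔ (Subgroup.centralizer ({g} : Set G)).index ≤ p ^ (n - s)) ∧
      Subgroup.closure {x : G | ∃ y : G, y ^ p ^ n = x} = Subgroup.center G := by
  obtain ⟨D⟩ := Cfsg.Agent.Helper3.MetaOdd.exists_data hG hmc
  have hn := D.n_eq n hGn
  subst hn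
  refine ⟨part1 hp D s hs g, ?_⟩
  ext z
  rw [part1 hp D D.n le_rfl z, Nat.sub_self, pow_zero]
  have hpos : 0 < (Subgroup.centralizer ({z} : Set G)).index :=
    Nat.pos_of_ne_zero Subgroup.index_ne_zero_of_finite
  constructor
  · intro h
    have h1 : (Subgroup.centralizer ({z} : Set G)).index = 1 := by omega
    rw [Subgroup.index_eq_one] at h1
    rw [Subgroup.mem_center_iff]
    intro x
    have : x ∈ Subgroup.centralizer ({z} : Set G) := by rw [h1]; trivial
    rw [Subgroup.mem_centralizer_singleton_iff] at this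
    exact this
  · intro h
    have h1 : Subgroup.centralizer ({z} : Set G) = ⊤ := by
      rw [eq_top_iff]
      intro x _
      rw [Subgroup.mem_centralizer_singleton_iff]
      exact (Subgroup.mem_center_iff.1 h x)
    rw [h1, Subgroup.index_top]


end Cfsg.Agent.S3882
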