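import Mathlib
import Cfsg.Statements.S3883
import Cfsg.Agent.Helper3.MetaOdd3
import Cfsg.Agent.S3882
import Cfsg.Statements.S3883
-- import your own Cfsg.Agent.* helpers here

set_option autoImplicit false
open Cfsg

namespace Cfsg.Agent.S3883
open Cfsg

universe u

open Cfsg.Agent.Helper3.MetaOdd
open scoped commutatorElement

theorem n_pos {G : Type u} [Group G] {p : ℕ} [hp : Fact p.Prime] (D : Data G p)
    (hna : ¬ IsMulCommutative G) : 1 ≤ D.n := by
  by_contra h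
  have h0 : D.n = 0 := by omega
  apply hna
  have hc := D.card_commutator
  rw [h0, pow_zero, Subgroup.card_eq_one] at hc
  rw [isMulCommutative_iff]
  intro x y
  have h1 : ⁅x, y⁆ ∈ commutator G := by
    rw [commutator_def]
    exact Subgroup.commutator_mem_commutator (Subgroup.mem_top _) (Subgroup.mem_top _)
  rw [hc, Subgroup.mem_bot, commutatorElement_eq_one_iff_mul_comm] at h1
  exact h1

theorem pow_dvd_cancel {p : ℕ} (hp : p.Prime) (n s x : ℕ) (hs : s ≤ n)
    (h : p ^ n ∣ p ^ (n - s) * x) : p ^ s ∣ x := by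
  obtain ⟨d, rfl⟩ : ∃ d, n = s + d := ⟨n - s, by omega⟩
  rw [Nat.add_sub_cancel_left, pow_add, mul_comm (p ^ s)] at h
  exact (Nat.mul_dvd_mul_iff_left (pow_pos hp.pos d)).1 h

theorem abelian_of {G : Type u} [Group G] [Finite G] {p : ℕ} [hp : Fact p.Prime] (hp2 : p ≠ 2)
    (D : Data G p) (J I : ℕ) (h : ¬ (p ∣ J ∧ p ∣ I)) :
    IsMulCommutative ↥(Subgroup.centralizer ({D.a ^ J * D.b ^ I} : Set G)) := by
  rw [isMulCommutative_iff]
  rintro ⟨x, hx⟩ ⟨y, hy⟩
  apply Subtype.ext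
  obtain ⟨l, k, rfl⟩ := D.hgen x
  obtain ⟨l', k', rfl⟩ := D.hgen y
  rw [D.mem_centralizer_iff] at hx hy
  show D.a ^ l * D.b ^ k * (D.a ^ l' * D.b ^ k') = D.a ^ l' * D.b ^ k' * (D.a ^ l * D.b ^ k)
  rw [D.commute_iff]
  have hcop : ∀ c : ℕ, ¬ p ∣ c → Nat.gcd (p ^ D.n) c = 1 := fun c hc =>
    Nat.Coprime.pow_left _ ((Nat.Prime.coprime_iff_not_dvd hp.out).2 hc)
  by_cases hI : p ∣ I
  · have hJ : ¬ p ∣ J := fun hJ => h ⟨hJ, hI⟩
    apply Nat.ModEq.cancel_left_of_coprime (hcop J hJ)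
    calc J * (l' * sig D.t k) = l' * (J * sig D.t k) := by ring
      _ ≡ l' * (l * sig D.t I) [MOD p ^ D.n] := (hx.symm).mul_left _
      _ = l * (l' * sig D.t I) := by ring
      _ ≡ l * (J * sig D.t k') [MOD p ^ D.n] := hy.mul_left _
      _ = J * (l * sig D.t k') := by ring
  · have hσ : ¬ p ∣ sig D.t I := by
      intro h1
      apply hI
      have := (pow_dvd_sig_iff hp2 D.ht 1 I).1 (by rwa [pow_one])
      rwa [pow_one] at this
    apply Nat.ModEq.cancel_left_of_coprime (hcop _ hσ)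
    calc sig D.t I * (l' * sig D.t k) = (l' * sig D.t I) * sig D.t k := by ring
      _ ≡ (J * sig D.t k') * sig D.t k [MOD p ^ D.n] := hy.mul_right _
      _ = (J * sig D.t k) * sig D.t k' := by ring
      _ ≡ (l * sig D.t I) * sig D.t k' [MOD p ^ D.n] := (hx.symm).mul_right _
      _ = sig D.t I * (l * sig D.t k') := by ring

theorem not_abelian_of {G : Type u} [Group G] [Finite G] {p : ℕ} [hp : Fact p.Prime] (hp2 : p ≠ 2)
    (D : Data G p) (s J' I' : ℕ) (hs1 : 1 ≤ s) (hsn : s ≤ D.n) (h : ¬ (p ∣ J' ∧ p ∣ I'))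
    (hab : IsMulCommutative ↥(Subgroup.centralizer ({D.a ^ (p ^ s * J') * D.b ^ (p ^ s * I')} : Set G))) :
    False := by
  rw [isMulCommutative_iff] at hab
  have hn1 : 1 ≤ D.n := hs1.trans hsn
  obtain ⟨u, hu, hpu⟩ := sig_pow_eq hp2 (D.t_pow_mod I') s
  obtain ⟨u₂, hu₂, hpu₂⟩ := sig_pow_eq hp2 D.ht (D.n - s)
  have h1lt : 1 < p ^ D.n := Nat.one_lt_pow (by omega) hp.out.one_lt
  have hcopu : Nat.Coprime u (p ^ D.n) :=
    (Nat.Coprime.pow_left _ ((Nat.Prime.coprime_iff_not_dvd hp.out).2 hpu)).symm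
  obtain ⟨ū, -, hū⟩ := Nat.exists_mul_mod_eq_one_of_coprime hcopu h1lt
  have hū' : u * ū ≡ 1 [MOD p ^ D.n] := by
    unfold Nat.ModEq
    rw [hū, Nat.mod_eq_of_lt h1lt]
  have hpū : ¬ p ∣ ū := by
    intro hd
    have h2 : (u * ū) % p = 1 % p := (hū'.of_dvd (dvd_pow_self p (by omega)))
    rw [Nat.mod_eq_of_lt hp.out.one_lt, Nat.mul_mod, Nat.mod_eq_zero_of_dvd hd, mul_zero,
      Nat.zero_mod] at h2
    omega
  have hσI : sig D.t (p ^ s * I') = sig D.t I' * (p ^ s * u) := by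
    rw [mul_comm (p ^ s) I', sig_mul_comp, hu]
  have hpn : p ^ D.n = p ^ (D.n - s) * p ^ s := by rw [← pow_add]; congr 1; omega
  -- the three elements
  have hx : D.a ^ (J' * ū) * D.b ^ I' ∈
      Subgroup.centralizer ({D.a ^ (p ^ s * J') * D.b ^ (p ^ s * I')} : Set G) := by
    rw [D.mem_centralizer_iff, hσI]
    calc J' * ū * (sig D.t I' * (p ^ s * u)) = (p ^ s * J' * sig D.t I') * (u * ū) := by ring
      _ ≡ (p ^ s * J' * sig D.t I') * 1 [MOD p ^ D.n] := hū'.mul_left _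
      _ = p ^ s * J' * sig D.t I' := by ring
  have hx' : D.a ^ (p ^ (D.n - s)) * D.b ^ 0 ∈
      Subgroup.centralizer ({D.a ^ (p ^ s * J') * D.b ^ (p ^ s * I')} : Set G) := by
    rw [D.mem_centralizer_iff, hσI, sig_zero, mul_zero]
    apply (Nat.modEq_zero_iff_dvd).2
    rw [hpn]
    exact ⟨sig D.t I' * u, by ring⟩
  have hx'' : D.a ^ 0 * D.b ^ (p ^ (D.n - s)) ∈
      Subgroup.centralizer ({D.a ^ (p ^ s * J') * D.b ^ (p ^ s * I')} : Set G) := by
    rw [D.mem_centralizer_iff, zero_mul, hu₂]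
    apply Nat.ModEq.symm
    apply (Nat.modEq_zero_iff_dvd).2
    rw [hpn]
    exact ⟨J' * u₂, by ring⟩
  apply h
  constructor
  · -- from commuting with x''
    have hc := congrArg Subtype.val (hab ⟨_, hx⟩ ⟨_, hx''⟩)
    simp only [Subgroup.coe_mul] at hc
    rw [D.commute_iff, zero_mul, hu₂] at hc
    have h3 : p ^ D.n ∣ J' * ū * (p ^ (D.n - s) * u₂) := (Nat.modEq_zero_iff_dvd).1 hc.symm
    have h4 : p ^ D.n ∣ p ^ (D.n - s) * (J' * ū * u₂) := by
      have : J' * ū * (p ^ (D.n - s) * u₂) = p ^ (D.n - s) * (J' * ū * u₂) := by ring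
      rwa [this] at h3
    have h5 := pow_dvd_cancel hp.out _ _ _ hsn h4
    have h6 : p ∣ J' * ū * u₂ := (dvd_pow_self p (by omega)).trans h5
    rcases (Nat.Prime.dvd_mul hp.out).1 h6 with h7 | h7
    · rcases (Nat.Prime.dvd_mul hp.out).1 h7 with h8 | h8
      · exact h8
      · exact absurd h8 hpū
    · exact absurd h7 hpu₂
  · -- from commuting with x'
    have hc := congrArg Subtype.val (hab ⟨_, hx⟩ ⟨_, hx'⟩)
    simp only [Subgroup.coe_mul] at hc
    rw [D.commute_iff, sig_zero, mul_zero] at hc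
    have h3 : p ^ D.n ∣ p ^ (D.n - s) * sig D.t I' := (Nat.modEq_zero_iff_dvd).1 hc
    have h5 := pow_dvd_cancel hp.out _ _ _ hsn h3
    rw [pow_dvd_sig_iff hp2 D.ht] at h5
    exact (dvd_pow_self p (by omega)).trans h5

/-- Let p be an odd prime and G a finite metacyclic p-group (G has a cyclic normal subgroup with cyclic quotient). Suppose G is non-abelian. Then an element g of G lies outside the Frattini subgroup if and only if its centralizer C_G(g) is abelian. -/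
theorem result {G : Type*} [Group G] [Finite G] {p : ℕ} [Fact p.Prime] (hp : p ≠ 2) (hG : IsPGroup p G) (hmc : Cfsg.IsMetacyclic G) (hna : ¬ IsMulCommutative G) (g : G) :
    g ∉ frattini G ↔ IsMulCommutative ↥(Subgroup.centralizer ({g} : Set G)) := by
  obtain ⟨D⟩ := exists_data hG hmc
  have hp' : Fact p.Prime := inferInstance
  have hn1 := n_pos D hna
  obtain ⟨J, I, rfl⟩ := D.hgen g
  have hΦ : D.a ^ J * D.b ^ I ∈ frattini G ↔ p ∣ J ∧ p ∣ I := by
    rw [D.frattini_eq hG, Cfsg.Agent.S3882.part1 hp D 1 hn1, D.cls_le_iff hp 1 J I hn1, pow_one]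
  rw [hΦ]
  constructor
  · exact abelian_of hp D J I
  · intro hab hJI
    obtain ⟨c, hc⟩ := hG.index (Subgroup.centralizer ({D.a ^ J * D.b ^ I} : Set G))
    have hle : c ≤ D.n - 1 := by
      have := (D.cls_le_iff hp 1 J I hn1).2 (by rwa [pow_one])
      rw [hc] at this
      exact (Nat.pow_le_pow_iff_right hp'.out.one_lt).1 this
    rcases Nat.eq_zero_or_pos c with rfl | hcpos
    · rw [pow_zero, Subgroup.index_eq_one] at hc
      apply hna
      rw [isMulCommutative_iff] at hab ⊢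
      intro x y
      have hx : x ∈ Subgroup.centralizer ({D.a ^ J * D.b ^ I} : Set G) := by rw [hc]; trivial
      have hy : y ∈ Subgroup.centralizer ({D.a ^ J * D.b ^ I} : Set G) := by rw [hc]; trivial
      exact congrArg Subtype.val (hab ⟨x, hx⟩ ⟨y, hy⟩)
    · have hs1 : 1 ≤ D.n - c := by omega
      have hsn : D.n - c ≤ D.n := Nat.sub_le _ _
      have h1 : p ^ (D.n - c) ∣ J ∧ p ^ (D.n - c) ∣ I := by
        rw [← D.cls_le_iff hp (D.n - c) J I hsn, hc]
        apply Nat.pow_le_pow_right hp'.out.pos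
        omega
      have h2 : ¬ (p ^ (D.n - c + 1) ∣ J ∧ p ^ (D.n - c + 1) ∣ I) := by
        rw [← D.cls_le_iff hp (D.n - c + 1) J I (by omega), hc,
          Nat.pow_le_pow_iff_right hp'.out.one_lt]
        omega
      obtain ⟨⟨J', rfl⟩, ⟨I', rfl⟩⟩ := h1
      apply not_abelian_of hp D (D.n - c) J' I' hs1 hsn _ hab
      intro h3
      apply h2
      rw [pow_succ]
      exact ⟨Nat.mul_dvd_mul_left _ h3.1, Nat.mul_dvd_mul_left _ h3.2⟩


end Cfsg.Agent.S3883
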