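import Mathlib
import Cfsg.Statements.S3885
import Cfsg.Agent.Helper3.MetaOdd6
import Cfsg.Statements.S3885
-- import your own Cfsg.Agent.* helpers here

set_option autoImplicit false
open Cfsg

namespace Cfsg.Agent.S3885
open Cfsg

universe u

open Cfsg.Agent.Helper3.MetaOdd

/-- Let p be an odd prime and G a finite metacyclic p-group (G has a cyclic normal subgroup with cyclic quotient). Then every abelian subgroup K of G containing the center of G is the center of its own centralizer: K = Z(C_G(K)). -/
theorem result {G : Type*} [Group G] [Finite G] {p : ℕ} [Fact p.Prime] (hp : p ≠ 2) (hG : IsPGroup p G) (hmc : Cfsg.IsMetacyclic G) (K : Subgroup G) (hK : IsMulCommutative ↥K) (hZ : Subgroup.center G ≤ K) :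
    K = Subgroup.centralizer (K : Set G) ⊓ Subgroup.centralizer (Subgroup.centralizer (K : Set G) : Set G) := by
  obtain ⟨D⟩ := exists_data hG hmc
  have hKC : K ≤ Subgroup.centralizer (K : Set G) := by
    intro x hx
    rw [Subgroup.mem_centralizer_iff]
    intro y hy
    rw [isMulCommutative_iff] at hK
    exact congrArg Subtype.val (hK ⟨y, hy⟩ ⟨x, hx⟩)
  have hKCC : K ≤ Subgroup.centralizer (Subgroup.centralizer (K : Set G) : Set G) := by
    rw [Subgroup.le_centralizer_iff]
  have hZC : Subgroup.center G ≤ Subgroup.centralizer (K : Set G) :=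
    Subgroup.center_le_centralizer _
  have h1 := D.measure_eq hp hG K hZ
  have h2 := D.measure_eq hp hG (Subgroup.centralizer (K : Set G)) hZC
  have hCpos : 0 < Nat.card ↥(Subgroup.centralizer (K : Set G)) := Nat.card_pos
  have h3 : Nat.card ↥(Subgroup.centralizer (Subgroup.centralizer (K : Set G) : Set G)) =
      Nat.card ↥K := by
    have : Nat.card ↥(Subgroup.centralizer (K : Set G)) *
        Nat.card ↥(Subgroup.centralizer (Subgroup.centralizer (K : Set G) : Set G)) =
        Nat.card ↥(Subgroup.centralizer (K : Set G)) * Nat.card ↥K := by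
      rw [h2, ← h1, mul_comm]
    exact Nat.eq_of_mul_eq_mul_left hCpos this
  have h4 := Subgroup.eq_of_le_of_card_ge hKCC h3.le
  apply le_antisymm
  · exact le_inf hKC hKCC
  · rw [← h4]
    exact inf_le_right


end Cfsg.Agent.S3885
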