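import Mathlib
import Cfsg.Statements.S3886
import Cfsg.Agent.Helper3.MetaOdd5
import Cfsg.Agent.S3880
import Cfsg.Statements.S3886
-- import your own Cfsg.Agent.* helpers here

set_option autoImplicit false
open Cfsg

namespace Cfsg.Agent.S3886
open Cfsg

universe u

open Cfsg.Agent.Helper3.MetaOdd

/-- value of `|R| |Z(R)|` -/
theorem value {G : Type u} [Group G] [Finite G] {p : ℕ} [hp : Fact p.Prime] (hp2 : p ≠ 2)
    (hG : IsPGroup p G) (D : Data G p) (R : Subgroup G) :
    (IsMulCommutative ↥R → Nat.card ↥R * Nat.card ↥(Subgroup.center ↥R) = Nat.card ↥R ^ 2) ∧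
    (¬ IsMulCommutative ↥R →
      Nat.card ↥R * Nat.card ↥(Subgroup.center ↥R) = (commutator G).index ^ 2) := by
  obtain ⟨h1, h2⟩ := Cfsg.Agent.S3880.key hp2 hG D R
  have hidx := (D.subData hG R).index_center (hG.to_subgroup R) hp2
  have hcm := Subgroup.card_mul_index (Subgroup.center ↥R)
  rw [hidx, D.subData_n hp2 hG R] at hcm
  have hpp : ∀ k, 0 < p ^ k := fun k => pow_pos hp.out.pos _
  constructor
  · intro hab
    have hle := h1.1 hab
    rw [Nat.sub_eq_zero_of_le hle, pow_zero, mul_one, mul_one] at hcm
    rw [hcm, sq]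
  · intro hnab
    have hlt : ¬ D.n ≤ D.alpha R + D.beta hG R := fun h => hnab (h1.2 h)
    generalize D.alpha R + D.beta hG R = s at h2 hcm hlt
    generalize D.n = n at h2 hcm hlt
    generalize Nat.card ↥R = X at h2 hcm
    generalize (commutator G).index = I at h2
    generalize Nat.card ↥(Subgroup.center ↥R) = Z at hcm
    obtain ⟨d, rfl⟩ : ∃ d, n = s + d := ⟨n - s, by omega⟩
    rw [Nat.add_sub_cancel_left] at hcm
    have h3 : X * p ^ s = (I * p ^ d) * p ^ s := by rw [h2, pow_add]; ring
    have h4 := Nat.eq_of_mul_eq_mul_right (hpp s) h3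
    have h5 : (X * Z) * (p ^ d * p ^ d) = I ^ 2 * (p ^ d * p ^ d) := by
      calc (X * Z) * (p ^ d * p ^ d) = X * (Z * (p ^ d * p ^ d)) := by ring
        _ = X * X := by rw [hcm]
        _ = I ^ 2 * (p ^ d * p ^ d) := by rw [h4]; ring
    exact Nat.eq_of_mul_eq_mul_right (Nat.mul_pos (hpp d) (hpp d)) h5

/-- Let p be an odd prime and G a finite metacyclic p-group (G has a cyclic normal subgroup with cyclic quotient). Then the largest value of |R| · |Z(R)| over subgroups R of G is |G : G'|², and the subgroups attaining it (the centrally large subgroups) are exactly the non-abelian subgroups together with the maximal abelian subgroups of G. -/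
theorem result {G : Type*} [Group G] [Finite G] {p : ℕ} [Fact p.Prime] (hp : p ≠ 2) (hG : IsPGroup p G) (hmc : Cfsg.IsMetacyclic G) : Cfsg.maxCentralProduct G = (commutator G).index ^ 2 ∧
    ∀ R : Subgroup G, Cfsg.IsCentrallyLarge R ↔ (¬ IsMulCommutative ↥R ∨ Maximal (fun K : Subgroup G => IsMulCommutative ↥K) R) := by
  obtain ⟨D⟩ := exists_data hG hmc
  have hval := fun R => value hp hG D R
  have h80 := fun R => Cfsg.Agent.S3880.result hp hG hmc R
  -- characterisation of the value
  have hchar : ∀ R : Subgroup G,
      Nat.card ↥R * Nat.card ↥(Subgroup.center ↥R) ≤ (commutator G).index ^ 2 ∧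
      (Nat.card ↥R * Nat.card ↥(Subgroup.center ↥R) = (commutator G).index ^ 2 ↔
        (¬ IsMulCommutative ↥R ∨ Maximal (fun K : Subgroup G => IsMulCommutative ↥K) R)) := by
    intro R
    by_cases hab : IsMulCommutative ↥R
    · rw [(hval R).1 hab, (h80 R).2]
      have hle := (h80 R).1.1 hab
      refine ⟨Nat.pow_le_pow_left hle 2, ?_⟩
      constructor
      · intro h
        right
        exact Nat.pow_left_injective (by norm_num : 2 ≠ 0) h
      · rintro (h | h)
        · exact absurd hab h
        · rw [h]
    · rw [(hval R).2 hab]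
      exact ⟨le_rfl, ⟨fun _ => Or.inl hab, fun _ => rfl⟩⟩
  have hmax : Cfsg.maxCentralProduct G = (commutator G).index ^ 2 := by
    unfold Cfsg.maxCentralProduct
    apply IsGreatest.csSup_eq
    constructor
    · refine ⟨⊤, ?_⟩
      by_cases hab : IsMulCommutative ↥(⊤ : Subgroup G)
      · rw [(hchar ⊤).2]
        right
        rw [(h80 ⊤).2]
        -- |G| = index of commutator since G abelian
        have habG : IsMulCommutative G := by
          rw [isMulCommutative_iff] at hab ⊢
          intro x y
          exact congrArg Subtype.val (hab ⟨x, trivial⟩ ⟨y, trivial⟩)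
        have hn0 := (Cfsg.Agent.S3880.comm_iff_n D).1 habG
        have hc := D.card_commutator
        rw [hn0, pow_zero] at hc
        have := Subgroup.card_mul_index (commutator G)
        rw [hc, one_mul] at this
        rw [this, Subgroup.card_top]
      · rw [(hchar ⊤).2]
        left; exact hab
    · rintro k ⟨R, rfl⟩
      exact (hchar R).1
  refine ⟨hmax, ?_⟩
  intro R
  unfold Cfsg.IsCentrallyLarge
  rw [hmax]
  exact (hchar R).2


end Cfsg.Agent.S3886
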