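import Mathlib
import Cfsg.Statements.S3887
import Cfsg.Agent.Helper3.MetaOdd6
import Cfsg.Statements.S3887
-- import your own Cfsg.Agent.* helpers here

set_option autoImplicit false
open Cfsg

namespace Cfsg.Agent.S3887
open Cfsg

universe u

open Cfsg.Agent.Helper3.MetaOdd

theorem centralizer_sup_center {G : Type u} [Group G] (R : Subgroup G) :
    Subgroup.centralizer ((R ⊔ Subgroup.center G : Subgroup G) : Set G) =
      Subgroup.centralizer (R : Set G) := by
  apply le_antisymm
  · exact Subgroup.centralizer_le (show (R : Set G) ⊆ ((R ⊔ Subgroup.center G : Subgroup G) : Set G) from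
      SetLike.coe_subset_coe.2 le_sup_left)
  · rw [Subgroup.le_centralizer_iff]
    apply sup_le
    · rw [← Subgroup.le_centralizer_iff]
    · exact Subgroup.center_le_centralizer _

/-- Let p be an odd prime and G a finite metacyclic p-group (G has a cyclic normal subgroup with cyclic quotient). Then a subgroup R of G maximizes |R| · |C_G(R)| over all subgroups of G if and only if R contains the center of G. -/
theorem result {G : Type*} [Group G] [Finite G] {p : ℕ} [Fact p.Prime] (hp : p ≠ 2) (hG : IsPGroup p G) (hmc : Cfsg.IsMetacyclic G) (R : Subgroup G) : Cfsg.IsCentralizerLarge R ↔ Subgroup.center G ≤ R := by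
  obtain ⟨D⟩ := exists_data hG hmc
  have hmeas := fun R hZ => D.measure_eq hp hG R hZ
  have hle : ∀ R : Subgroup G, Nat.card ↥R * Nat.card ↥(Subgroup.centralizer (R : Set G)) ≤
      Nat.card G * Nat.card ↥(Subgroup.center G) ∧
      (Nat.card ↥R * Nat.card ↥(Subgroup.centralizer (R : Set G)) =
        Nat.card G * Nat.card ↥(Subgroup.center G) ↔ Subgroup.center G ≤ R) := by
    intro R
    have h1 := hmeas (R ⊔ Subgroup.center G) le_sup_right
    rw [centralizer_sup_center] at h1
    have h2 : Nat.card ↥R ≤ Nat.card ↥(R ⊔ Subgroup.center G : Subgroup G) :=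
      Subgroup.card_le_of_le le_sup_left
    have hCpos : 0 < Nat.card ↥(Subgroup.centralizer (R : Set G)) := Nat.card_pos
    rw [← h1]
    refine ⟨Nat.mul_le_mul_right _ h2, ?_⟩
    constructor
    · intro h
      have h3 := Nat.eq_of_mul_eq_mul_right hCpos h
      have h4 := Subgroup.eq_of_le_of_card_ge (le_sup_left : R ≤ R ⊔ Subgroup.center G) h3.ge
      rw [h4]
      exact le_sup_right
    · intro h
      have : R ⊔ Subgroup.center G = R := sup_eq_left.2 h
      rw [this]
  have hmax : Cfsg.maxCentralizerProduct G = Nat.card G * Nat.card ↥(Subgroup.center G) := by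
    unfold Cfsg.maxCentralizerProduct
    apply IsGreatest.csSup_eq
    constructor
    · exact ⟨⊤, hmeas ⊤ le_top⟩
    · rintro k ⟨R, rfl⟩
      exact (hle R).1
  unfold Cfsg.IsCentralizerLarge
  rw [hmax]
  exact (hle R).2


end Cfsg.Agent.S3887
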