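import Mathlib
import Cfsg.Statements.S3892
import Cfsg.Agent.Helper1.NilpCoprime
-- import your own Cfsg.Agent.* helpers here

set_option autoImplicit false
open Cfsg

namespace Cfsg.Agent.S3892
universe u

section abstract
variable {G : Type u} [Group G]

theorem merge (𝓐 : Finset (Subgroup G))
    (hcov : (∀ A ∈ 𝓐, A ≠ ⊤) ∧ (∀ g : G, ∃ A ∈ 𝓐, g ∈ A))
    (hmin : ∀ 𝓑 : Finset (Subgroup G), (∀ A ∈ 𝓑, A ≠ ⊤) ∧ (∀ g : G, ∃ A ∈ 𝓑, g ∈ A) →
      𝓐.card ≤ 𝓑.card)
    {H H' : Subgroup G} (hH : H ∈ 𝓐) (hH' : H' ∈ 𝓐) (hne : H ≠ H') : H ⊔ H' = ⊤ := by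
  classical
  by_contra htop
  let 𝓑 := insert (H ⊔ H') ((𝓐.erase H).erase H')
  have h1 : ∀ A ∈ 𝓑, A ≠ ⊤ := by
    intro A hA
    rcases Finset.mem_insert.1 hA with rfl | hA
    · exact htop
    · exact hcov.1 A (Finset.mem_of_mem_erase (Finset.mem_of_mem_erase hA))
  have h2 : ∀ g : G, ∃ A ∈ 𝓑, g ∈ A := by
    intro g
    obtain ⟨A, hA, hg⟩ := hcov.2 g
    by_cases hAH : A = H
    · exact ⟨H ⊔ H', Finset.mem_insert_self _ _, (le_sup_left : H ≤ H ⊔ H') (hAH ▸ hg)⟩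
    by_cases hAH' : A = H'
    · exact ⟨H ⊔ H', Finset.mem_insert_self _ _, (le_sup_right : H' ≤ H ⊔ H') (hAH' ▸ hg)⟩
    · exact ⟨A, Finset.mem_insert_of_mem
        (Finset.mem_erase.2 ⟨hAH', Finset.mem_erase.2 ⟨hAH, hA⟩⟩), hg⟩
  have hcard : 𝓑.card < 𝓐.card := by
    have e1 : (𝓐.erase H).card = 𝓐.card - 1 := Finset.card_erase_of_mem hH
    have hH'2 : H' ∈ 𝓐.erase H := Finset.mem_erase.2 ⟨hne.symm, hH'⟩
    have e2 : ((𝓐.erase H).erase H').card = (𝓐.erase H).card - 1 :=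
      Finset.card_erase_of_mem hH'2
    have e3 : 𝓑.card ≤ ((𝓐.erase H).erase H').card + 1 := Finset.card_insert_le _ _
    have h2 : 2 ≤ 𝓐.card := by
      have hsub : ({H, H'} : Finset (Subgroup G)) ⊆ 𝓐 := by
        intro A hA
        simp only [Finset.mem_insert, Finset.mem_singleton] at hA
        rcases hA with rfl | rfl <;> assumption
      have := Finset.card_le_card hsub
      rw [Finset.card_pair hne] at this; exact this
    omega
  have := hmin 𝓑 ⟨h1, h2⟩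
  omega

theorem nilp_member [Finite G] {p : ℕ} [hp : Fact p.Prime] (hp2 : ¬ p ^ 2 ∣ Nat.card G)
    (H : Subgroup G) [hn : Group.IsNilpotent H] {x : G} (hx : x ∈ H) (hox : orderOf x = p) :
    (∀ h ∈ H, h * x = x * h) ∧ (∀ x' ∈ H, orderOf x' = p → x' ∈ Subgroup.zpowers x) := by
  obtain ⟨P⟩ : Nonempty (Sylow p H) := inferInstance
  set xH : H := ⟨x, hx⟩ with hxH
  have hoxH : orderOf xH = p ^ 1 := by rw [pow_one, hxH, Subgroup.orderOf_mk]; exact hox
  have hxP : xH ∈ P := Cfsg.Agent.Helper1.mem_sylow_of_isNilpotent P xH 1 hoxH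
  obtain ⟨k, hk⟩ := IsPGroup.iff_card.1 P.2
  have hdvd : p ^ k ∣ Nat.card G := by
    rw [← hk]
    exact ((P : Subgroup H).card_subgroup_dvd_card).trans H.card_subgroup_dvd_card
  have hk1 : k ≤ 1 := by
    by_contra hcon
    push Not at hcon
    exact hp2 ((pow_dvd_pow p hcon).trans hdvd)
  have hk0 : k ≠ 0 := by
    rintro rfl
    rw [pow_zero] at hk
    have : (P : Subgroup H) = ⊥ := Subgroup.card_eq_one.1 hk
    have h1 : xH = 1 := by
      have h0 : xH ∈ (P : Subgroup H) := hxP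
      rw [this, Subgroup.mem_bot] at h0
      exact h0
    rw [h1, orderOf_one, pow_one] at hoxH
    exact hp.out.one_lt.ne hoxH
  have hkeq : k = 1 := by omega
  have hcardP : Nat.card (P : Subgroup H) = p := by rw [hk, hkeq, pow_one]
  have hPz : Subgroup.zpowers xH = (P : Subgroup H) := by
    apply Subgroup.eq_of_le_of_card_ge
    · rw [Subgroup.zpowers_le]; exact hxP
    · rw [Nat.card_zpowers, hoxH, pow_one, hcardP]
  constructor
  · intro h hh
    have : (⟨h, hh⟩ : H) ∈ Subgroup.centralizer ({xH} : Set H) := by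
      apply Cfsg.Agent.Helper1.mem_of_forall_primePow_mem
      intro y hy hyp
      rw [isPrimePow_nat_iff] at hyp
      obtain ⟨q, j, hq, hj, hqj⟩ := hyp
      rw [Subgroup.mem_centralizer_iff]
      intro g hg
      rw [Set.mem_singleton_iff] at hg
      subst hg
      by_cases hqp : q = p
      · subst hqp
        have hyP : y ∈ P := Cfsg.Agent.Helper1.mem_sylow_of_isNilpotent P y j hqj.symm
        have hyz : y ∈ Subgroup.zpowers xH := by rw [hPz]; exact hyP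
        obtain ⟨m, rfl⟩ := Subgroup.mem_zpowers_iff.1 hyz
        exact (Commute.zpow_right (Commute.refl xH) m).eq
      · have hcop : (orderOf y).Coprime (orderOf xH) := by
          rw [← hqj, hoxH, pow_one]
          apply Nat.Coprime.pow_left
          exact (Nat.coprime_primes hq hp.out).2 hqp
        exact (Cfsg.Agent.Helper1.commute_of_coprime_orderOf y xH hcop).symm
    have h3 := Subgroup.mem_centralizer_iff.1 this xH rfl
    have := congrArg (fun s : H => (s : G)) h3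
    simpa using this.symm
  · intro x' hx' hox'
    have h1 : (⟨x', hx'⟩ : H) ∈ P := by
      apply Cfsg.Agent.Helper1.mem_sylow_of_isNilpotent P _ 1
      rw [pow_one, Subgroup.orderOf_mk]; exact hox'
    have h2 : (⟨x', hx'⟩ : H) ∈ Subgroup.zpowers xH := by rw [hPz]; exact h1
    obtain ⟨m, hm⟩ := Subgroup.mem_zpowers_iff.1 h2
    rw [Subgroup.mem_zpowers_iff]
    refine ⟨m, ?_⟩
    have := congrArg (fun s : H => (s : G)) hm
    simpa using this

theorem no_nilp_min_cover [Finite G] {p : ℕ} [Fact p.Prime] (hp2 : ¬ p ^ 2 ∣ Nat.card G)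
    (x x' : G) (hx : orderOf x = p) (hx' : orderOf x' = p) (hne : x' ∉ Subgroup.zpowers x)
    (M : Subgroup G) (hM : M ≠ ⊤) (hcx : ∀ g, g * x = x * g → g ∈ M)
    (hcx' : ∀ g, g * x' = x' * g → g ∈ M) :
    ¬ ∃ 𝓐 : Finset (Subgroup G), ((∀ A ∈ 𝓐, A ≠ ⊤) ∧ (∀ g : G, ∃ A ∈ 𝓐, g ∈ A)) ∧
      (∀ 𝓑 : Finset (Subgroup G), (∀ A ∈ 𝓑, A ≠ ⊤) ∧ (∀ g : G, ∃ A ∈ 𝓑, g ∈ A) →
        𝓐.card ≤ 𝓑.card) ∧ (∀ A ∈ 𝓐, Group.IsNilpotent ↥A) := by
  rintro ⟨𝓐, hcov, hmin, hnil⟩
  obtain ⟨H, hH, hxH⟩ := hcov.2 x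
  obtain ⟨H', hH', hxH'⟩ := hcov.2 x'
  have := hnil H hH
  have := hnil H' hH'
  have hB := nilp_member hp2 H hxH hx
  have hB' := nilp_member hp2 H' hxH' hx'
  have hne2 : H ≠ H' := by
    rintro rfl
    exact hne (hB.2 x' hxH' hx')
  have htop := merge 𝓐 hcov hmin hH hH' hne2
  apply hM
  rw [eq_top_iff, ← htop]
  apply sup_le
  · intro h hh; exact hcx h (hB.1 h hh)
  · intro h hh; exact hcx' h (hB'.1 h hh)

end abstract


open Equiv Equiv.Perm

section perm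
variable {n p : ℕ}

/-- The stabiliser of the set of points `i` with `i < p`. -/
def stabLT (n p : ℕ) : Subgroup (Equiv.Perm (Fin n)) where
  carrier := {g | ∀ i, ((g i).val < p ↔ i.val < p)}
  one_mem' := by intro i; simp
  mul_mem' := by
    intro a b ha hb i
    rw [Perm.mul_apply, ha, hb]
  inv_mem' := by
    intro a ha i
    have := ha (a⁻¹ i)
    have e : a (a⁻¹ i) = i := by simp
    rw [e] at this
    exact this.symm

theorem mem_stabLT {g : Perm (Fin n)} : g ∈ stabLT n p ↔ ∀ i, ((g i).val < p ↔ i.val < p) :=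
  Iff.rfl

theorem commute_mem_stabLT {x g : Perm (Fin n)} (hsupp : ∀ i, x i ≠ i ↔ i.val < p)
    (hc : g * x = x * g) : g ∈ stabLT n p := by
  intro i
  rw [← hsupp, ← hsupp]
  have h1 : x (g i) = g (x i) := by
    have := congrArg (fun f : Perm (Fin n) => f i) hc
    simp only [Perm.mul_apply] at this
    exact this.symm
  rw [h1]
  exact g.injective.ne_iff

theorem swap_mem_stabLT (a b : Fin n) (ha : a.val < p) (hb : b.val < p) :
    swap a b ∈ stabLT n p := by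
  intro i
  by_cases hia : i = a
  · subst hia; rw [swap_apply_left]; exact ⟨fun _ => ha, fun _ => hb⟩
  by_cases hib : i = b
  · subst hib; rw [swap_apply_right]; exact ⟨fun _ => hb, fun _ => ha⟩
  rw [swap_apply_of_ne_of_ne hia hib]

/-- a `p`-cycle on the first `p` points -/
def cyc (n p : ℕ) (h : p ≤ n) : Perm (Fin n) :=
  (finRotate p).viaFintypeEmbedding (Fin.castLEEmb h)

theorem cyc_apply (h : p ≤ n) (j : ℕ) (hj : j + 1 < p) :
    cyc n p h ⟨j, by omega⟩ = ⟨j + 1, by omega⟩ := by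
  obtain ⟨m, rfl⟩ : ∃ m, p = m + 1 := ⟨p - 1, by omega⟩
  have e : (⟨j, by omega⟩ : Fin n) = Fin.castLEEmb h ⟨j, by omega⟩ := rfl
  rw [cyc, e, Equiv.Perm.viaFintypeEmbedding_apply_image]
  have hjm : j < m := by omega
  rw [finRotate_of_lt hjm]
  rfl

theorem cyc_moved (h : p ≤ n) (hp : 2 ≤ p) (i : Fin n) : cyc n p h i ≠ i ↔ i.val < p := by
  constructor
  · intro hne
    by_contra hi
    apply hne
    apply Equiv.Perm.viaFintypeEmbedding_apply_notMem_range
    rintro ⟨j, rfl⟩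
    exact hi j.2
  · intro hi
    have e : i = Fin.castLEEmb h ⟨i.val, hi⟩ := rfl
    rw [cyc, e, Equiv.Perm.viaFintypeEmbedding_apply_image]
    intro heq
    have h2 := (Fin.castLEEmb h).injective heq
    have h3 : (⟨i.val, hi⟩ : Fin p) ∈ (finRotate p).support := by
      rw [support_finRotate_of_le hp]; exact Finset.mem_univ _
    exact (Equiv.Perm.mem_support.1 h3) h2

theorem orderOf_cyc (h : p ≤ n) (hp : 2 ≤ p) : orderOf (cyc n p h) = p := by
  have e : cyc n p h = extendDomainHom (Fin.castLEEmb h).toEquivRange (finRotate p) := rfl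
  rw [e, orderOf_injective _ (extendDomainHom_injective _), (isCycle_finRotate_of_le hp).orderOf,
    support_finRotate_of_le hp, Finset.card_univ, Fintype.card_fin]

theorem sign_cyc (h : p ≤ n) (hodd : Odd p) : Perm.sign (cyc n p h) = 1 := by
  rw [cyc, viaFintypeEmbedding_sign, sign_finRotate]
  apply Even.neg_one_pow
  obtain ⟨k, rfl⟩ := hodd
  exact ⟨k, by omega⟩

/-- the second cycle : conjugate by the transposition `(0 1)` -/
def cyc' (n p : ℕ) (h : p ≤ n) (hp : 2 ≤ p) : Perm (Fin n) :=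
  swap (⟨0, by omega⟩ : Fin n) ⟨1, by omega⟩ * cyc n p h * (swap (⟨0, by omega⟩ : Fin n) ⟨1, by omega⟩)⁻¹

theorem cyc'_moved (h : p ≤ n) (hp : 2 ≤ p) (i : Fin n) : cyc' n p h hp i ≠ i ↔ i.val < p := by
  set y := swap (⟨0, by omega⟩ : Fin n) ⟨1, by omega⟩ with hy
  have hyM : y⁻¹ ∈ stabLT n p :=
    (stabLT n p).inv_mem (swap_mem_stabLT _ _ (by simp; omega) (by simp; omega))
  rw [← hyM i, ← cyc_moved h hp (y⁻¹ i)]
  unfold cyc'
  rw [← hy, Perm.mul_apply, Perm.mul_apply]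
  constructor
  · intro h1 h2; apply h1; rw [h2]; simp
  · intro h1 h2; apply h1
    have := congrArg (fun t => y⁻¹ t) h2
    simpa using this

theorem orderOf_cyc' (h : p ≤ n) (hp : 2 ≤ p) : orderOf (cyc' n p h hp) = p := by
  have := orderOf_injective (MulAut.conj (swap (⟨0, by omega⟩ : Fin n) ⟨1, by omega⟩)).toMonoidHom
    (MulAut.conj (swap (⟨0, by omega⟩ : Fin n) ⟨1, by omega⟩)).injective (cyc n p h)
  rw [orderOf_cyc h hp] at this
  exact this

theorem sign_cyc' (h : p ≤ n) (hp : 2 ≤ p) (hodd : Odd p) : Perm.sign (cyc' n p h hp) = 1 := by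
  unfold cyc'
  rw [map_mul, map_mul, map_inv, sign_cyc h hodd]
  simp

theorem cyc'_notMem (h : p ≤ n) (hp : 4 ≤ p) :
    cyc' n p h (by omega) ∉ Subgroup.zpowers (cyc n p h) := by
  intro hmem
  obtain ⟨m, hm⟩ := Subgroup.mem_zpowers_iff.1 hmem
  have hcomm : cyc' n p h (by omega) * cyc n p h = cyc n p h * cyc' n p h (by omega) := by
    rw [← hm]
    exact ((Commute.refl (cyc n p h)).zpow_left m).eq
  have e0 : cyc n p h ⟨0, by omega⟩ = ⟨1, by omega⟩ := cyc_apply h 0 (by omega)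
  have e1 : cyc n p h ⟨1, by omega⟩ = ⟨2, by omega⟩ := cyc_apply h 1 (by omega)
  have e2 : cyc n p h ⟨2, by omega⟩ = ⟨3, by omega⟩ := cyc_apply h 2 (by omega)
  have hsw : (swap (⟨0, by omega⟩ : Fin n) ⟨1, by omega⟩)⁻¹ = swap (⟨0, by omega⟩ : Fin n) ⟨1, by omega⟩ :=
    swap_inv _ _
  have h20 : (⟨2, by omega⟩ : Fin n) ≠ ⟨0, by omega⟩ := by simp [Fin.ext_iff]
  have h21 : (⟨2, by omega⟩ : Fin n) ≠ ⟨1, by omega⟩ := by simp [Fin.ext_iff]
  have := congrArg (fun f : Perm (Fin n) => f ⟨0, by omega⟩) hcomm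
  simp only [Perm.mul_apply, cyc', hsw, e0, swap_apply_left, swap_apply_right, e1,
    swap_apply_of_ne_of_ne h20 h21, e2] at this
  simp [Fin.ext_iff] at this

end perm


section final

theorem not_sq_dvd_factorial {p n : ℕ} (hp : p.Prime) (h2 : n < 2 * p) :
    ¬ p ^ 2 ∣ n.factorial := by
  have hlt : n < p ^ 2 := by
    have := hp.two_le
    nlinarith
  rw [Nat.Prime.pow_dvd_factorial_iff hp (b := 2) (Nat.log_lt_of_lt_pow' (by norm_num) hlt)]
  have e : Finset.Ico 1 2 = {1} := by decide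
  rw [e, Finset.sum_singleton, pow_one, not_le]
  exact Nat.div_lt_of_lt_mul (by omega)

theorem exists_prime (n : ℕ) (hn : 6 ≤ n) :
    ∃ p, p.Prime ∧ n < 2 * p ∧ p + 1 ≤ n ∧ 5 ≤ p := by
  obtain ⟨p, hp, h1, h2⟩ := Nat.exists_prime_lt_and_le_two_mul (n / 2) (by omega)
  refine ⟨p, hp, by omega, ?_, ?_⟩
  · by_contra hcon
    have hpn : p = n := by omega
    have heven : 2 ∣ p := by omega
    have := (Nat.prime_dvd_prime_iff_eq Nat.prime_two hp).1 heven
    omega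
  · have h4 : 4 ≤ p := by omega
    rcases Nat.lt_or_ge p 5 with h | h
    · have : p = 4 := by omega
      subst this
      norm_num at hp
    · exact h

theorem card_perm_fin (n : ℕ) : Nat.card (Perm (Fin n)) = n.factorial := by
  rw [Nat.card_eq_fintype_card, Fintype.card_perm, Fintype.card_fin]

theorem symm_general (n : ℕ) (hn : 6 ≤ n) :
    ¬ ∃ 𝓐 : Finset (Subgroup (Equiv.Perm (Fin n))), ((∀ A ∈ 𝓐, A ≠ ⊤) ∧ (∀ g : (Equiv.Perm (Fin n)), ∃ A ∈ 𝓐, g ∈ A)) ∧ (∀ 𝓑 : Finset (Subgroup (Equiv.Perm (Fin n))), (∀ A ∈ 𝓑, A ≠ ⊤) ∧ (∀ g : (Equiv.Perm (Fin n)), ∃ A ∈ 𝓑, g ∈ A) → 𝓐.card ≤ 𝓑.card) ∧ (∀ A ∈ 𝓐, Group.IsNilpotent ↥A) := by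
  obtain ⟨p, hp, h1, h2, h5⟩ := exists_prime n hn
  have := Fact.mk hp
  have hle : p ≤ n := by omega
  apply no_nilp_min_cover (p := p) ?_ (cyc n p hle) (cyc' n p hle (by omega))
    (orderOf_cyc hle (by omega)) (orderOf_cyc' hle (by omega)) (cyc'_notMem hle (by omega))
    (stabLT n p) ?_ (fun g hg => commute_mem_stabLT (cyc_moved hle (by omega)) hg)
    (fun g hg => commute_mem_stabLT (cyc'_moved hle (by omega)) hg)
  · rw [card_perm_fin]; exact not_sq_dvd_factorial hp h1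
  · intro htop
    have hmem : swap (⟨0, by omega⟩ : Fin n) ⟨p, by omega⟩ ∈ stabLT n p := by rw [htop]; trivial
    have h3 := hmem ⟨0, by omega⟩
    rw [swap_apply_left] at h3
    simp only [lt_self_iff_false, false_iff, not_lt] at h3
    omega

theorem alt_general (n : ℕ) (hn : 6 ≤ n) :
    ¬ ∃ 𝓐 : Finset (Subgroup ↥(alternatingGroup (Fin n))), ((∀ A ∈ 𝓐, A ≠ ⊤) ∧ (∀ g : ↥(alternatingGroup (Fin n)), ∃ A ∈ 𝓐, g ∈ A)) ∧ (∀ 𝓑 : Finset (Subgroup ↥(alternatingGroup (Fin n))), (∀ A ∈ 𝓑, A ≠ ⊤) ∧ (∀ g : ↥(alternatingGroup (Fin n)), ∃ A ∈ 𝓑, g ∈ A) → 𝓐.card ≤ 𝓑.card) ∧ (∀ A ∈ 𝓐, Group.IsNilpotent ↥A) := by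
  obtain ⟨p, hp, h1, h2, h5⟩ := exists_prime n hn
  have := Fact.mk hp
  have hle : p ≤ n := by omega
  have hodd : Odd p := hp.odd_of_ne_two (by omega)
  have hxA : cyc n p hle ∈ alternatingGroup (Fin n) := mem_alternatingGroup.2 (sign_cyc hle hodd)
  have hxA' : cyc' n p hle (by omega) ∈ alternatingGroup (Fin n) :=
    mem_alternatingGroup.2 (sign_cyc' hle (by omega) hodd)
  apply no_nilp_min_cover (p := p) ?_ (⟨cyc n p hle, hxA⟩ : ↥(alternatingGroup (Fin n)))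
    ⟨cyc' n p hle (by omega), hxA'⟩ ?_ ?_ ?_
    ((stabLT n p).subgroupOf (alternatingGroup (Fin n))) ?_ ?_ ?_
  · intro hdvd
    apply not_sq_dvd_factorial hp h1
    rw [← card_perm_fin]
    exact hdvd.trans (alternatingGroup (Fin n)).card_subgroup_dvd_card
  · rw [Subgroup.orderOf_mk]; exact orderOf_cyc hle (by omega)
  · rw [Subgroup.orderOf_mk]; exact orderOf_cyc' hle (by omega)
  · intro hmem
    obtain ⟨m, hm⟩ := Subgroup.mem_zpowers_iff.1 hmem
    apply cyc'_notMem hle (by omega)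
    rw [Subgroup.mem_zpowers_iff]
    refine ⟨m, ?_⟩
    have := congrArg (fun s : ↥(alternatingGroup (Fin n)) => (s : Perm (Fin n))) hm
    simpa using this
  · intro htop
    have hg0 : swap (⟨0, by omega⟩ : Fin n) ⟨p, by omega⟩ * swap (⟨1, by omega⟩ : Fin n) ⟨2, by omega⟩
        ∈ alternatingGroup (Fin n) := by
      rw [mem_alternatingGroup, map_mul, sign_swap (by simp [Fin.ext_iff]; omega),
        sign_swap (by simp [Fin.ext_iff])]
      simp
    have hmem : (⟨_, hg0⟩ : ↥(alternatingGroup (Fin n))) ∈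
        (stabLT n p).subgroupOf (alternatingGroup (Fin n)) := by rw [htop]; trivial
    rw [Subgroup.mem_subgroupOf] at hmem
    have h3 := hmem ⟨0, by omega⟩
    have h01 : (⟨0, by omega⟩ : Fin n) ≠ ⟨1, by omega⟩ := by simp [Fin.ext_iff]
    have h02 : (⟨0, by omega⟩ : Fin n) ≠ ⟨2, by omega⟩ := by simp [Fin.ext_iff]
    simp only [Perm.mul_apply, swap_apply_of_ne_of_ne h01 h02, swap_apply_left] at h3
    simp only [lt_self_iff_false, false_iff, not_lt] at h3
    omega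
  · intro g hg
    rw [Subgroup.mem_subgroupOf]
    apply commute_mem_stabLT (cyc_moved hle (by omega))
    have := congrArg (fun s : ↥(alternatingGroup (Fin n)) => (s : Perm (Fin n))) hg
    simpa using this
  · intro g hg
    rw [Subgroup.mem_subgroupOf]
    apply commute_mem_stabLT (cyc'_moved hle (by omega))
    have := congrArg (fun s : ↥(alternatingGroup (Fin n)) => (s : Perm (Fin n))) hg
    simpa using this

theorem symm_four :
    ¬ ∃ 𝓐 : Finset (Subgroup (Equiv.Perm (Fin 4))), ((∀ A ∈ 𝓐, A ≠ ⊤) ∧ (∀ g : (Equiv.Perm (Fin 4)), ∃ A ∈ 𝓐, g ∈ A)) ∧ (∀ 𝓑 : Finset (Subgroup (Equiv.Perm (Fin 4))), (∀ A ∈ 𝓑, A ≠ ⊤) ∧ (∀ g : (Equiv.Perm (Fin 4)), ∃ A ∈ 𝓑, g ∈ A) → 𝓐.card ≤ 𝓑.card) ∧ (∀ A ∈ 𝓐, Group.IsNilpotent ↥A) := by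
  have := Fact.mk Nat.prime_three
  apply no_nilp_min_cover (p := 3) ?_ (swap 0 1 * swap 1 2 : Perm (Fin 4)) (swap 0 1 * swap 1 3)
    ?_ ?_ ?_ (alternatingGroup (Fin 4)) ?_ ?_ ?_
  · rw [card_perm_fin]; decide
  · exact orderOf_eq_prime (by decide) (by decide)
  · exact orderOf_eq_prime (by decide) (by decide)
  · intro hmem
    obtain ⟨m, hm⟩ := Subgroup.mem_zpowers_iff.1 hmem
    have hcomm : (swap 0 1 * swap 1 3 : Perm (Fin 4)) * (swap 0 1 * swap 1 2) =
        (swap 0 1 * swap 1 2) * (swap 0 1 * swap 1 3) := by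
      rw [← hm]
      exact ((Commute.refl (swap 0 1 * swap 1 2 : Perm (Fin 4))).zpow_left m).eq
    revert hcomm
    decide
  · intro htop
    have hmem : (swap 0 1 : Perm (Fin 4)) ∈ alternatingGroup (Fin 4) := by rw [htop]; trivial
    rw [mem_alternatingGroup] at hmem
    revert hmem
    decide
  · intro g hg
    rw [mem_alternatingGroup]
    revert g
    decide
  · intro g hg
    rw [mem_alternatingGroup]
    revert g
    decide

set_option maxRecDepth 100000 in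
theorem symm_five :
    ¬ ∃ 𝓐 : Finset (Subgroup (Equiv.Perm (Fin 5))), ((∀ A ∈ 𝓐, A ≠ ⊤) ∧ (∀ g : (Equiv.Perm (Fin 5)), ∃ A ∈ 𝓐, g ∈ A)) ∧ (∀ 𝓑 : Finset (Subgroup (Equiv.Perm (Fin 5))), (∀ A ∈ 𝓑, A ≠ ⊤) ∧ (∀ g : (Equiv.Perm (Fin 5)), ∃ A ∈ 𝓑, g ∈ A) → 𝓐.card ≤ 𝓑.card) ∧ (∀ A ∈ 𝓐, Group.IsNilpotent ↥A) := by
  have := Fact.mk Nat.prime_five
  apply no_nilp_min_cover (p := 5) ?_ (swap 0 1 * swap 1 2 * swap 2 3 * swap 3 4 : Perm (Fin 5))
    (swap 0 2 * swap 2 1 * swap 1 3 * swap 3 4)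
    ?_ ?_ ?_ (alternatingGroup (Fin 5)) ?_ ?_ ?_
  · rw [card_perm_fin]; decide
  · exact orderOf_eq_prime (by decide) (by decide)
  · exact orderOf_eq_prime (by decide) (by decide)
  · intro hmem
    obtain ⟨m, hm⟩ := Subgroup.mem_zpowers_iff.1 hmem
    have hcomm : (swap 0 2 * swap 2 1 * swap 1 3 * swap 3 4 : Perm (Fin 5)) *
        (swap 0 1 * swap 1 2 * swap 2 3 * swap 3 4) =
        (swap 0 1 * swap 1 2 * swap 2 3 * swap 3 4) * (swap 0 2 * swap 2 1 * swap 1 3 * swap 3 4) := by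
      rw [← hm]
      exact ((Commute.refl (swap 0 1 * swap 1 2 * swap 2 3 * swap 3 4 : Perm (Fin 5))).zpow_left m).eq
    revert hcomm
    decide
  · intro htop
    have hmem : (swap 0 1 : Perm (Fin 5)) ∈ alternatingGroup (Fin 5) := by rw [htop]; trivial
    rw [mem_alternatingGroup] at hmem
    revert hmem
    decide
  · intro g hg
    rw [mem_alternatingGroup]
    revert g
    decide
  · intro g hg
    rw [mem_alternatingGroup]
    revert g
    decide

set_option maxRecDepth 100000 in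
theorem alt_five :
    ¬ ∃ 𝓐 : Finset (Subgroup ↥(alternatingGroup (Fin 5))), ((∀ A ∈ 𝓐, A ≠ ⊤) ∧ (∀ g : ↥(alternatingGroup (Fin 5)), ∃ A ∈ 𝓐, g ∈ A)) ∧ (∀ 𝓑 : Finset (Subgroup ↥(alternatingGroup (Fin 5))), (∀ A ∈ 𝓑, A ≠ ⊤) ∧ (∀ g : ↥(alternatingGroup (Fin 5)), ∃ A ∈ 𝓑, g ∈ A) → 𝓐.card ≤ 𝓑.card) ∧ (∀ A ∈ 𝓐, Group.IsNilpotent ↥A) := by
  have := Fact.mk Nat.prime_three
  have hx : (swap 0 1 * swap 1 2 : Perm (Fin 5)) ∈ alternatingGroup (Fin 5) := by
    rw [mem_alternatingGroup]; decide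
  have hx' : (swap 0 1 * swap 1 3 : Perm (Fin 5)) ∈ alternatingGroup (Fin 5) := by
    rw [mem_alternatingGroup]; decide
  have key : ∀ g : Perm (Fin 5), Perm.sign g = 1 →
      g * (swap 0 1 * swap 1 2) = (swap 0 1 * swap 1 2) * g → g 4 = 4 := by decide
  have key' : ∀ g : Perm (Fin 5), Perm.sign g = 1 →
      g * (swap 0 1 * swap 1 3) = (swap 0 1 * swap 1 3) * g → g 4 = 4 := by decide
  apply no_nilp_min_cover (p := 3) ?_ (⟨_, hx⟩ : ↥(alternatingGroup (Fin 5))) ⟨_, hx'⟩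
    ?_ ?_ ?_ ((MulAction.stabilizer (Perm (Fin 5)) (4 : Fin 5)).subgroupOf (alternatingGroup (Fin 5)))
    ?_ ?_ ?_
  · intro hdvd
    have h2 : 3 ^ 2 ∣ Nat.card (Perm (Fin 5)) :=
      hdvd.trans (alternatingGroup (Fin 5)).card_subgroup_dvd_card
    rw [card_perm_fin] at h2
    revert h2
    decide
  · rw [Subgroup.orderOf_mk]; exact orderOf_eq_prime (by decide) (by decide)
  · rw [Subgroup.orderOf_mk]; exact orderOf_eq_prime (by decide) (by decide)
  · intro hmem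
    obtain ⟨m, hm⟩ := Subgroup.mem_zpowers_iff.1 hmem
    have hm' : (swap 0 1 * swap 1 2 : Perm (Fin 5)) ^ m = swap 0 1 * swap 1 3 := by
      have := congrArg (fun s : ↥(alternatingGroup (Fin 5)) => (s : Perm (Fin 5))) hm
      simpa using this
    have hcomm : (swap 0 1 * swap 1 3 : Perm (Fin 5)) * (swap 0 1 * swap 1 2) =
        (swap 0 1 * swap 1 2) * (swap 0 1 * swap 1 3) := by
      rw [← hm']
      exact ((Commute.refl (swap 0 1 * swap 1 2 : Perm (Fin 5))).zpow_left m).eq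
    revert hcomm
    decide
  · intro htop
    have hg0 : (swap 0 4 * swap 1 2 : Perm (Fin 5)) ∈ alternatingGroup (Fin 5) := by
      rw [mem_alternatingGroup]; decide
    have hmem : (⟨_, hg0⟩ : ↥(alternatingGroup (Fin 5))) ∈
        (MulAction.stabilizer (Perm (Fin 5)) (4 : Fin 5)).subgroupOf (alternatingGroup (Fin 5)) := by
      rw [htop]; trivial
    rw [Subgroup.mem_subgroupOf, MulAction.mem_stabilizer_iff, Perm.smul_def] at hmem
    have hmem2 : (swap 0 4 * swap 1 2 : Perm (Fin 5)) 4 = 4 := hmem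
    revert hmem2
    decide
  · intro g hg
    rw [Subgroup.mem_subgroupOf, MulAction.mem_stabilizer_iff, Perm.smul_def]
    apply key g.1 (mem_alternatingGroup.1 g.2)
    have := congrArg (fun s : ↥(alternatingGroup (Fin 5)) => (s : Perm (Fin 5))) hg
    simpa using this
  · intro g hg
    rw [Subgroup.mem_subgroupOf, MulAction.mem_stabilizer_iff, Perm.smul_def]
    apply key' g.1 (mem_alternatingGroup.1 g.2)
    have := congrArg (fun s : ↥(alternatingGroup (Fin 5)) => (s : Perm (Fin 5))) hg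
    simpa using this

/-- A cover of a group is a finite set of proper subgroups whose union is the whole group; it is minimal when no cover has fewer members, and nilpotent when all its members are nilpotent. The alternating groups of degree at least 5 and the symmetric groups of degree at least 4 have no nilpotent minimal cover. -/
theorem result (n : ℕ) :
    (5 ≤ n → ¬ ∃ 𝓐 : Finset (Subgroup ↥(alternatingGroup (Fin n))), ((∀ A ∈ 𝓐, A ≠ ⊤) ∧ (∀ g : ↥(alternatingGroup (Fin n)), ∃ A ∈ 𝓐, g ∈ A)) ∧ (∀ 𝓑 : Finset (Subgroup ↥(alternatingGroup (Fin n))), (∀ A ∈ 𝓑, A ≠ ⊤) ∧ (∀ g : ↥(alternatingGroup (Fin n)), ∃ A ∈ 𝓑, g ∈ A) → 𝓐.card ≤ 𝓑.card) ∧ (∀ A ∈ 𝓐, Group.IsNilpotent ↥A)) ∧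
    (4 ≤ n → ¬ ∃ 𝓐 : Finset (Subgroup (Equiv.Perm (Fin n))), ((∀ A ∈ 𝓐, A ≠ ⊤) ∧ (∀ g : (Equiv.Perm (Fin n)), ∃ A ∈ 𝓐, g ∈ A)) ∧ (∀ 𝓑 : Finset (Subgroup (Equiv.Perm (Fin n))), (∀ A ∈ 𝓑, A ≠ ⊤) ∧ (∀ g : (Equiv.Perm (Fin n)), ∃ A ∈ 𝓑, g ∈ A) → 𝓐.card ≤ 𝓑.card) ∧ (∀ A ∈ 𝓐, Group.IsNilpotent ↥A)) := by
  constructor
  · intro hn
    rcases Nat.lt_or_ge n 6 with h | h
    · have : n = 5 := by omega
      subst this
      exact alt_five
    · exact alt_general n h
  · intro hn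
    rcases Nat.lt_or_ge n 6 with h | h
    · have : n = 4 ∨ n = 5 := by omega
      rcases this with rfl | rfl
      · exact symm_four
      · exact symm_five
    · exact symm_general n h

end final


end Cfsg.Agent.S3892
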