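import Mathlib
import Cfsg.Agent.S0016
import Cfsg.Agent.S3977
import Cfsg.Agent.Helper1.Coprime
import Cfsg.Statements.S3908
-- import your own Cfsg.Agent.* helpers here

set_option autoImplicit false
open Cfsg

namespace Cfsg.Agent.S3908

/-- Under the conjugacy hypothesis a Sylow `p`-subgroup has exponent `p` or a unique subgroup of
order `p`. -/
theorem lemmaA {G : Type*} [Group G] [Finite G] (hB : ∀ A B : Subgroup G, IsMulCommutative ↥A → IsMulCommutative ↥B → Nat.card ↥A = Nat.card ↥B → ∃ g : G, B = A.map (MulAut.conj g).toMonoidHom)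
    (p : ℕ) [hp : Fact p.Prime] (P : Sylow p G) :
    (∀ x ∈ (P : Subgroup G), x ^ p = 1) ∨
    (∀ H K : Subgroup G, H ≤ P → K ≤ P → Nat.card H = p → Nat.card K = p → H = K) := by
  by_cases hexp : ∀ x ∈ (P : Subgroup G), x ^ p = 1
  · exact Or.inl hexp
  right
  push Not at hexp
  obtain ⟨y0, hy0P, hy0⟩ := hexp
  -- an element of order p^2
  obtain ⟨k, hk⟩ := (IsPGroup.iff_orderOf.mp P.isPGroup') ⟨y0, hy0P⟩
  rw [Subgroup.orderOf_mk] at hk
  have hk2 : 2 ≤ k := by
    by_contra h
    apply hy0
    have : orderOf y0 ∣ p := by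
      rw [hk]
      have : k ≤ 1 := by omega
      calc p ^ k ∣ p ^ 1 := pow_dvd_pow p this
        _ = p := pow_one p
    exact orderOf_dvd_iff_pow_eq_one.mp this
  set y := y0 ^ (p ^ (k - 2)) with hy
  have hoy : orderOf y = p ^ (1 + 1) := by
    rw [hy, orderOf_pow_of_dvd (pow_pos hp.out.pos _).ne' (by rw [hk]; exact pow_dvd_pow p (Nat.sub_le k 2)),
      hk, Nat.pow_div (Nat.sub_le k 2) hp.out.pos]
    congr 1; omega
  -- a central element of order p
  have hPnt : Nontrivial ↥(P : Subgroup G) := by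
    refine ⟨⟨⟨y0, hy0P⟩, 1, fun h => hy0 ?_⟩⟩
    have : y0 = 1 := congrArg Subtype.val h
    rw [this, one_pow]
  have hcn : Nontrivial (Subgroup.center ↥(P : Subgroup G)) := P.isPGroup'.center_nontrivial
  obtain ⟨j, hj0, hj⟩ := (P.isPGroup'.to_subgroup (Subgroup.center ↥(P : Subgroup G))).nontrivial_iff_card.mp hcn
  have hdvd : p ∣ Nat.card (Subgroup.center ↥(P : Subgroup G)) := by
    rw [hj]; exact dvd_pow_self p (Nat.pos_iff_ne_zero.mp hj0)
  obtain ⟨z, hz⟩ := exists_prime_orderOf_dvd_card' p hdvd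
  set z0 : G := ((z : ↥(P : Subgroup G)) : G) with hz0
  have hz0P : z0 ∈ (P : Subgroup G) := (z : ↥(P : Subgroup G)).2
  have hoz : orderOf z0 = p := by
    rw [hz0, Subgroup.orderOf_coe, Subgroup.orderOf_coe]; exact hz
  have hzcomm : ∀ x ∈ (P : Subgroup G), x * z0 = z0 * x := by
    intro x hx
    have := Subgroup.mem_center_iff.mp z.2 ⟨x, hx⟩
    exact congrArg Subtype.val this
  have key : ∀ U : Subgroup G, U ≤ P → Nat.card U = p → U = Subgroup.zpowers z0 := by
    intro U hUP hU
    by_contra hne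
    have hZcard : Nat.card (Subgroup.zpowers z0) = p := by rw [Nat.card_zpowers, hoz]
    have hdisj : U ⊓ Subgroup.zpowers z0 = ⊥ := by
      have h1 : Nat.card ↥(U ⊓ Subgroup.zpowers z0) ∣ p := by
        rw [← hU]; exact Subgroup.card_dvd_of_le inf_le_left
      rcases (Nat.dvd_prime hp.out).mp h1 with h | h
      · exact Subgroup.card_eq_one.mp h
      · exfalso
        apply hne
        have h2 : U ⊓ Subgroup.zpowers z0 = U :=
          Subgroup.eq_of_le_of_card_ge inf_le_left (by rw [h, hU])
        have h3 : U ≤ Subgroup.zpowers z0 := by rw [← h2]; exact inf_le_right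
        exact Subgroup.eq_of_le_of_card_ge h3 (by rw [hZcard, hU])
    have hnorm : U ≤ Subgroup.normalizer (Subgroup.zpowers z0 : Set G) := by
      intro u hu
      rw [Subgroup.mem_normalizer_iff]
      have hc : Commute u z0 := hzcomm u (hUP hu)
      intro h
      constructor
      · intro hh
        obtain ⟨t, rfl⟩ := Subgroup.mem_zpowers_iff.mp hh
        have : u * z0 ^ t * u⁻¹ = z0 ^ t := by
          rw [(hc.zpow_right t).eq, mul_inv_cancel_right]
        rw [this]; exact hh
      · intro hh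
        obtain ⟨t, ht⟩ := Subgroup.mem_zpowers_iff.mp hh
        have : h = z0 ^ t := by
          have h5 : h = u⁻¹ * (u * h * u⁻¹) * u := by group
          rw [h5, ← ht, mul_assoc, ← (hc.zpow_right t).eq, inv_mul_cancel_left]
        rw [this]; exact Subgroup.zpow_mem_zpowers z0 t
    have hEcard : Nat.card (Subgroup.zpowers z0 ⊔ U : Subgroup G) = p ^ 2 := by
      rw [Cfsg.Agent.Helper1.card_sup_of_le_normalizer hnorm hdisj, hU, hZcard, pow_two]
    have hEcomm : IsMulCommutative ↥(Subgroup.zpowers z0 ⊔ U : Subgroup G) :=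
      IsPGroup.isMulCommutative_of_card_eq_prime_sq hEcard
    obtain ⟨g, hg⟩ := hB (Subgroup.zpowers y) (Subgroup.zpowers z0 ⊔ U) inferInstance hEcomm
      (by rw [hEcard, Nat.card_zpowers, hoy])
    rw [MonoidHom.map_zpowers] at hg
    set w := (MulAut.conj g).toMonoidHom y with hw
    have how : orderOf w = p ^ (1 + 1) := by
      rw [hw, ← hoy]
      exact (MulAut.conj g).orderOf_eq y
    have hZle : Subgroup.zpowers z0 ≤ Subgroup.zpowers (w ^ (p ^ 1)) := by
      rw [Subgroup.zpowers_le]
      apply Cfsg.Agent.S3977.mem_zpowers_pow hp.out how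
      · rw [← hg]; exact (le_sup_left : _ ≤ Subgroup.zpowers z0 ⊔ U) (Subgroup.mem_zpowers z0)
      · rw [← hoz]; exact pow_orderOf_eq_one z0
    have hUle : U ≤ Subgroup.zpowers (w ^ (p ^ 1)) := by
      intro u hu
      apply Cfsg.Agent.S3977.mem_zpowers_pow hp.out how
      · rw [← hg]; exact (le_sup_right : _ ≤ Subgroup.zpowers z0 ⊔ U) hu
      · have : (⟨u, hu⟩ : U) ^ p = 1 := by rw [← hU]; exact pow_card_eq_one'
        simpa using congrArg Subtype.val this
    have hWcard : Nat.card (Subgroup.zpowers (w ^ (p ^ 1))) = p := by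
      rw [Nat.card_zpowers, orderOf_pow_of_dvd (pow_pos hp.out.pos _).ne'
        (by rw [how]; exact pow_dvd_pow p (Nat.le_succ 1)), how, pow_succ,
        Nat.mul_div_cancel_left _ (pow_pos hp.out.pos _)]
    have e1 : Subgroup.zpowers z0 = Subgroup.zpowers (w ^ (p ^ 1)) :=
      Subgroup.eq_of_le_of_card_ge hZle (by rw [hWcard, hZcard])
    have e2 : U = Subgroup.zpowers (w ^ (p ^ 1)) :=
      Subgroup.eq_of_le_of_card_ge hUle (by rw [hWcard, hU])
    exact hne (e2.trans e1.symm)
  intro H K hH hK hHc hKc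
  rw [key H hH hHc, key K hK hKc]

/-- Let G be a finite group in which any two abelian subgroups of the same order are conjugate. Then a Sylow 2-subgroup of G is cyclic, elementary abelian or generalized quaternion, and for an odd prime p a Sylow p-subgroup of G is cyclic or has exponent dividing p. -/
theorem result {G : Type*} [Group G] [Finite G] (hB : ∀ A B : Subgroup G, IsMulCommutative ↥A → IsMulCommutative ↥B → Nat.card ↥A = Nat.card ↥B → ∃ g : G, B = A.map (MulAut.conj g).toMonoidHom) :
    (∀ P : Sylow 2 G, IsCyclic ↥(P : Subgroup G) ∨ Cfsg.IsElementaryAbelian 2 (P : Subgroup G) ∨ ∃ k : ℕ, Nonempty (↥(P : Subgroup G) ≃* QuaternionGroup (2 ^ k))) ∧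
    ∀ (p : ℕ) [Fact p.Prime], p ≠ 2 → ∀ P : Sylow p G, IsCyclic ↥(P : Subgroup G) ∨ ∀ x ∈ (P : Subgroup G), x ^ p = 1 := by
  have huniqP : ∀ (p : ℕ) [Fact p.Prime] (P : Sylow p G),
      (∀ H K : Subgroup G, H ≤ P → K ≤ P → Nat.card H = p → Nat.card K = p → H = K) →
      ∀ H K : Subgroup ↥(P : Subgroup G), Nat.card H = p → Nat.card K = p → H = K := by
    intro p _ P h H K hH hK
    have := h (H.map (P : Subgroup G).subtype) (K.map (P : Subgroup G).subtype)
      (Subgroup.map_subtype_le _) (Subgroup.map_subtype_le _)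
      (by rw [Subgroup.card_map_of_injective (Subgroup.subtype_injective _), hH])
      (by rw [Subgroup.card_map_of_injective (Subgroup.subtype_injective _), hK])
    exact Subgroup.map_injective (Subgroup.subtype_injective _) this
  constructor
  · intro P
    have : Fact (Nat.Prime 2) := ⟨Nat.prime_two⟩
    rcases lemmaA hB 2 P with hexp | huniq
    · right; left
      refine ⟨⟨⟨fun x y => Subtype.ext ?_⟩⟩, hexp⟩
      have hx := hexp x x.2
      have hy := hexp y y.2
      have hxy := hexp (x * y) ((P : Subgroup G).mul_mem x.2 y.2)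
      have hxi : (x : G)⁻¹ = x := by rw [inv_eq_iff_mul_eq_one, ← pow_two]; exact hx
      have hyi : (y : G)⁻¹ = y := by rw [inv_eq_iff_mul_eq_one, ← pow_two]; exact hy
      have hxyi : ((x : G) * y)⁻¹ = x * y := by rw [inv_eq_iff_mul_eq_one, ← pow_two]; exact hxy
      change (x : G) * y = y * x
      rw [← hxyi, mul_inv_rev, hxi, hyi]
    · rcases Cfsg.Agent.S0016.result 2 P.isPGroup' (huniqP 2 P huniq) with h | ⟨-, h⟩
      · exact Or.inl h
      · exact Or.inr (Or.inr h)
  · intro p _ hp2 P
    rcases lemmaA hB p P with hexp | huniq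
    · exact Or.inr hexp
    · rcases Cfsg.Agent.S0016.result p P.isPGroup' (huniqP p P huniq) with h | ⟨h, -⟩
      · exact Or.inl h
      · exact absurd h hp2

end Cfsg.Agent.S3908
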