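import Mathlib
import Cfsg.Statements.S3909
import Cfsg.Agent.Helper4.PCore

set_option autoImplicit false
open Cfsg

namespace Cfsg.Agent.S3909

/-- Let G be a finite group in which any two abelian subgroups of the same order are conjugate. Let M be a normal subgroup of G. If M contains an element of the same order as a ∈ G, then a ∈ M; and if M is elementary abelian of order p^t with p prime and t ≥ 2, then M is the unique Sylow p-subgroup of G. -/
theorem result {G : Type*} [Group G] [Finite G] (hB : ∀ A B : Subgroup G, IsMulCommutative ↥A → IsMulCommutative ↥B → Nat.card ↥A = Nat.card ↥B → ∃ g : G, B = A.map (MulAut.conj g).toMonoidHom) (M : Subgroup G) [M.Normal] :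
    (∀ a : G, (∃ m ∈ M, orderOf m = orderOf a) → a ∈ M) ∧
    ∀ (p t : ℕ) [Fact p.Prime], 2 ≤ t → Nat.card ↥M = p ^ t → Cfsg.IsElementaryAbelian p M → ∀ P : Sylow p G, (P : Subgroup G) = M := by
  have hMn : M.Normal := inferInstance
  -- a conjugate of a subgroup of M is in M
  have hconjM : ∀ (A : Subgroup G) (g : G), A ≤ M → A.map (MulAut.conj g).toMonoidHom ≤ M := by
    rintro A g hA _ ⟨x, hx, rfl⟩
    exact hMn.conj_mem x (hA hx) g
  have part1 : ∀ a : G, (∃ m ∈ M, orderOf m = orderOf a) → a ∈ M := by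
    rintro a ⟨m, hm, hma⟩
    obtain ⟨g, hg⟩ := hB (Subgroup.zpowers m) (Subgroup.zpowers a) inferInstance inferInstance
      (by rw [Nat.card_zpowers, Nat.card_zpowers, hma])
    have h1 : Subgroup.zpowers a ≤ M := by
      rw [hg]
      exact hconjM _ g (Subgroup.zpowers_le.2 hm)
    exact h1 (Subgroup.mem_zpowers a)
  refine ⟨part1, ?_⟩
  intro p t hpF ht hMcard hMel P
  have hp : p.Prime := hpF.out
  obtain ⟨hMab, hMexp⟩ := hMel
  have hMp : IsPGroup p M := IsPGroup.of_card hMcard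
  have hMP : M ≤ (P : Subgroup G) := Cfsg.Agent.Helper4.normal_pgroup_le_sylow M hMp P
  apply le_antisymm _ hMP
  intro x hxP
  by_contra hxM
  -- order of x is p^j with j ≥ 2
  obtain ⟨j, hj⟩ := (IsPGroup.iff_orderOf.1 P.2) ⟨x, hxP⟩
  rw [Subgroup.orderOf_mk] at hj
  -- M contains an element of order p
  have hMnt : M ≠ ⊥ := by
    intro h
    rw [h, Subgroup.card_bot] at hMcard
    have : 1 < p ^ t := Nat.one_lt_pow (by omega) hp.one_lt
    omega
  obtain ⟨m, hmM, hm1⟩ := (Subgroup.ne_bot_iff_exists_ne_one).1 hMnt |>.imp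
    (fun m h => h) |> fun ⟨m, hm⟩ => (⟨(m : G), m.2, fun h => hm (Subtype.ext h)⟩ : ∃ m : G, m ∈ M ∧ m ≠ 1)
  have hmo : orderOf m = p := orderOf_eq_prime (hMexp m hmM) hm1
  have hj2 : 2 ≤ j := by
    by_contra hlt
    have hj01 : j = 0 ∨ j = 1 := by omega
    rcases hj01 with h0 | h1
    · rw [h0, pow_zero, orderOf_eq_one_iff] at hj
      exact hxM (hj ▸ M.one_mem)
    · rw [h1, pow_one] at hj
      exact hxM (part1 x ⟨m, hmM, hmo.trans hj.symm⟩)
  -- y = x ^ (p ^ (j - 2)) has order p ^ 2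
  set y := x ^ (p ^ (j - 2)) with hy
  have hyo : orderOf y = p ^ 2 := by
    rw [hy, orderOf_pow_of_dvd (pow_pos hp.pos _).ne' (hj ▸ pow_dvd_pow p (Nat.sub_le j 2)), hj,
      Nat.pow_div (Nat.sub_le j 2) hp.pos]
    congr 1
    omega
  -- a subgroup of M of order p ^ 2
  obtain ⟨E', hE'⟩ := Sylow.exists_subgroup_card_pow_prime (G := M) p (n := 2)
    (by rw [hMcard]; exact pow_dvd_pow p ht)
  set E : Subgroup G := E'.map M.subtype with hE
  have hEM : E ≤ M := Subgroup.map_subtype_le E'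
  have hEcard : Nat.card E = p ^ 2 := by
    rw [hE, Subgroup.card_map_of_injective M.subtype_injective, hE']
  have hEab : IsMulCommutative E :=
    ⟨⟨fun a b => Subtype.ext (by
      have := congrArg Subtype.val (hMab.is_comm.comm (⟨a, hEM a.2⟩ : M) ⟨b, hEM b.2⟩)
      exact this)⟩⟩
  obtain ⟨g, hg⟩ := hB E (Subgroup.zpowers y) hEab inferInstance
    (by rw [Nat.card_zpowers, hEcard, hyo])
  have hyM : y ∈ M := by
    have h1 : Subgroup.zpowers y ≤ M := by
      rw [hg]; exact hconjM _ g hEM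
    exact h1 (Subgroup.mem_zpowers y)
  have hyp : y ^ p = 1 := hMexp y hyM
  have h2 : p ^ 2 ∣ p := hyo ▸ orderOf_dvd_of_pow_eq_one hyp
  have h3 : p ^ 2 ≤ p := Nat.le_of_dvd hp.pos h2
  have h4 : p < p ^ 2 := by
    have := hp.one_lt
    nlinarith
  omega

end Cfsg.Agent.S3909
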