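import Mathlib
import Cfsg.Agent.S0016
import Cfsg.Agent.Helper1.MinNonPNilp
import Cfsg.Statements.S3910
-- import your own Cfsg.Agent.* helpers here

set_option autoImplicit false
open Cfsg

namespace Cfsg.Agent.S3910

universe u v

/-- Any two abelian subgroups of the same order are conjugate. -/
def PropB (H : Type u) [Group H] : Prop :=
  ∀ A B : Subgroup H, IsMulCommutative ↥A → IsMulCommutative ↥B → Nat.card ↥A = Nat.card ↥B →
    ∃ g : H, B = A.map (MulAut.conj g).toMonoidHom

theorem mem_map_conj {H : Type u} [Group H] (A : Subgroup H) (g x : H) :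
    x ∈ A.map (MulAut.conj g).toMonoidHom ↔ g⁻¹ * x * g ∈ A := by
  rw [Subgroup.mem_map]
  constructor
  · rintro ⟨a, ha, rfl⟩
    simpa [MulAut.conj_apply, mul_assoc] using ha
  · intro h
    exact ⟨g⁻¹ * x * g, h, by simp [MulAut.conj_apply, mul_assoc]⟩

theorem PropB.of_mulEquiv {H : Type u} {H' : Type v} [Group H] [Group H'] (e : H ≃* H') (h : PropB H) :
    PropB H' := by
  intro A B hA hB hcard
  have hcard' : Nat.card ↥(A.map e.symm.toMonoidHom) = Nat.card ↥(B.map e.symm.toMonoidHom) := by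
    rw [Subgroup.card_map_of_injective e.symm.injective,
      Subgroup.card_map_of_injective e.symm.injective, hcard]
  obtain ⟨g, hg⟩ := h (A.map e.symm.toMonoidHom) (B.map e.symm.toMonoidHom) inferInstance
    inferInstance hcard'
  refine ⟨e g, ?_⟩
  ext x
  rw [mem_map_conj]
  have h1 : x ∈ B ↔ e.symm x ∈ B.map e.symm.toMonoidHom := by
    rw [Subgroup.mem_map]
    constructor
    · intro hx; exact ⟨x, hx, rfl⟩
    · rintro ⟨y, hy, hyx⟩
      have : y = x := e.symm.injective hyx
      rwa [← this]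
  rw [h1, hg, mem_map_conj, Subgroup.mem_map]
  constructor
  · rintro ⟨y, hy, hyx⟩
    have : y = (e g)⁻¹ * x * e g := by
      apply e.symm.injective
      have hyx' : e.symm y = g⁻¹ * e.symm x * g := hyx
      rw [hyx']; simp
    rwa [← this]
  · intro hx
    exact ⟨_, hx, by simp⟩

/-- The property passes to a normal direct factor. -/
theorem PropB.of_factor {G : Type u} [Group G] (H K : Subgroup G) (hH : H.Normal) (hK : K.Normal)
    (hdisj : Disjoint H K) (hsup : H ⊔ K = ⊤) (hB : PropB G) : PropB ↥H := by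
  intro A B hA hB' hcard
  have hcard' : Nat.card ↥(A.map H.subtype) = Nat.card ↥(B.map H.subtype) := by
    rw [Subgroup.card_map_of_injective H.subtype_injective,
      Subgroup.card_map_of_injective H.subtype_injective, hcard]
  obtain ⟨g, hg⟩ := hB (A.map H.subtype) (B.map H.subtype) inferInstance inferInstance hcard'
  have hgmem : g ∈ H ⊔ K := by rw [hsup]; trivial
  obtain ⟨h, hh, k, hk, rfl⟩ := (Subgroup.mem_sup_of_normal_right (ht := hK)).mp hgmem
  refine ⟨⟨h, hh⟩, ?_⟩
  ext ⟨x, hxH⟩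
  rw [mem_map_conj]
  have hcomm : ∀ y ∈ H, k⁻¹ * y * k = y := by
    intro y hy
    have := Subgroup.commute_of_normal_of_disjoint H K hH hK hdisj y k hy hk
    rw [mul_assoc, this.eq, inv_mul_cancel_left]
  have h1 : (⟨x, hxH⟩ : ↥H) ∈ B ↔ x ∈ B.map H.subtype := by
    rw [Subgroup.mem_map]
    constructor
    · intro hx; exact ⟨⟨x, hxH⟩, hx, rfl⟩
    · rintro ⟨y, hy, hyx⟩
      have : y = ⟨x, hxH⟩ := Subtype.ext hyx
      rwa [← this]
  rw [h1, hg, mem_map_conj, Subgroup.mem_map]
  have h2 : (h * k)⁻¹ * x * (h * k) = h⁻¹ * x * h := by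
    have h3 : h⁻¹ * x * h ∈ H := H.mul_mem (H.mul_mem (H.inv_mem hh) hxH) hh
    calc (h * k)⁻¹ * x * (h * k) = k⁻¹ * (h⁻¹ * x * h) * k := by group
      _ = h⁻¹ * x * h := hcomm _ h3
  rw [h2]
  constructor
  · rintro ⟨y, hy, hyx⟩
    have : y = (⟨h, hh⟩ : ↥H)⁻¹ * ⟨x, hxH⟩ * ⟨h, hh⟩ := Subtype.ext hyx
    rwa [← this]
  · intro hx
    exact ⟨_, hx, rfl⟩

theorem conj_xa {N : ℕ} (g : QuaternionGroup N) (i : ZMod (2 * N)) :
    ∃ j, g⁻¹ * QuaternionGroup.xa i * g = QuaternionGroup.xa j := by
  rcases g with j | j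
  · exact ⟨_, by
      change QuaternionGroup.a (-j) * QuaternionGroup.xa i * QuaternionGroup.a j = _
      rw [QuaternionGroup.a_mul_xa, QuaternionGroup.xa_mul_a]⟩
  · exact ⟨_, by
      change QuaternionGroup.xa ((N : ZMod (2 * N)) + j) * QuaternionGroup.xa i * QuaternionGroup.xa j = _
      rw [QuaternionGroup.xa_mul_xa, QuaternionGroup.a_mul_xa]⟩

theorem not_propB_quaternion (n : ℕ) (hn : n ≠ 0) : ¬ PropB (QuaternionGroup (2 ^ n)) := by
  intro hB
  have : NeZero (2 ^ n) := ⟨(pow_pos two_pos n).ne'⟩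
  have hQ : IsPGroup 2 (QuaternionGroup (2 ^ n)) := by
    apply IsPGroup.of_card (n := n + 2)
    rw [Nat.card_eq_fintype_card, QuaternionGroup.card, pow_add]; ring
  set R := Subgroup.zpowers (QuaternionGroup.a 1 : QuaternionGroup (2 ^ n)) with hR
  have hRcard : Nat.card R = 2 * 2 ^ n := by
    rw [hR, Nat.card_zpowers, QuaternionGroup.orderOf_a_one]
  have h4 : 2 ^ 2 ≤ Nat.card R := by
    rw [hRcard]
    have : 2 ^ 1 ≤ 2 ^ n := Nat.pow_le_pow_right two_pos (Nat.one_le_iff_ne_zero.mpr hn)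
    omega
  obtain ⟨A1, hA1R, hA1card⟩ :=
    Sylow.exists_subgroup_le_card_pow_prime_of_le_card Nat.prime_two hQ h4
  have hA1comm : IsMulCommutative ↥A1 := by
    refine ⟨⟨fun x y => Subtype.ext ?_⟩⟩
    obtain ⟨s, hs⟩ := Subgroup.mem_zpowers_iff.mp (hA1R x.2)
    obtain ⟨t, ht⟩ := Subgroup.mem_zpowers_iff.mp (hA1R y.2)
    change (x : QuaternionGroup (2 ^ n)) * y = y * x
    rw [← hs, ← ht]
    exact (Commute.zpow_zpow_self _ s t).eq
  set A2 := Subgroup.zpowers (QuaternionGroup.xa 0 : QuaternionGroup (2 ^ n)) with hA2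
  have hA2card : Nat.card A2 = 2 ^ 2 := by
    rw [hA2, Nat.card_zpowers, QuaternionGroup.orderOf_xa]; norm_num
  obtain ⟨g, hg⟩ := hB A1 A2 hA1comm inferInstance (hA1card.trans hA2card.symm)
  have hmem : QuaternionGroup.xa 0 ∈ A2 := Subgroup.mem_zpowers _
  rw [hg, mem_map_conj] at hmem
  obtain ⟨j, hj⟩ := conj_xa g (0 : ZMod (2 * 2 ^ n))
  rw [hj] at hmem
  have h5 := hA1R hmem
  rw [hR, ← (isOfFinOrder_of_finite _).mem_powers_iff_mem_zpowers] at h5
  obtain ⟨t, ht⟩ := (Submonoid.mem_powers_iff _ _).mp h5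
  rw [QuaternionGroup.a_one_pow] at ht
  cases ht

theorem pgroup_cyclic_of_propB {P : Type u} [Group P] [Finite P] (p : ℕ) [hp : Fact p.Prime]
    (hP : IsPGroup p P) (hB : PropB P) : IsCyclic P := by
  by_cases htriv : Subsingleton P
  · exact isCyclic_of_subsingleton
  rw [not_subsingleton_iff_nontrivial] at htriv
  have hcn : Nontrivial (Subgroup.center P) := hP.center_nontrivial
  obtain ⟨k, hk0, hk⟩ := (hP.to_subgroup (Subgroup.center P)).nontrivial_iff_card.mp hcn
  have hdvd : p ∣ Nat.card (Subgroup.center P) := by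
    rw [hk]; exact dvd_pow_self p (Nat.pos_iff_ne_zero.mp hk0)
  obtain ⟨z, hz⟩ := exists_prime_orderOf_dvd_card' p hdvd
  have hz0 : orderOf (z : P) = p := by rw [Subgroup.orderOf_coe]; exact hz
  have hzc : ∀ x ∈ Subgroup.zpowers (z : P), ∀ g : P, g⁻¹ * x * g = x := by
    intro x hx g
    have hxc : x ∈ Subgroup.center P := by
      have : Subgroup.zpowers (z : P) ≤ Subgroup.center P := by
        rw [Subgroup.zpowers_le]; exact z.2
      exact this hx
    rw [mul_assoc, ← (Subgroup.mem_center_iff.mp hxc g), inv_mul_cancel_left]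
  have key : ∀ H : Subgroup P, Nat.card H = p → H = Subgroup.zpowers (z : P) := by
    intro H hH
    have : Fact (Nat.card H).Prime := ⟨by rw [hH]; exact hp.out⟩
    have : IsCyclic ↥H := isCyclic_of_prime_card rfl
    obtain ⟨g, hg⟩ := hB (Subgroup.zpowers (z : P)) H inferInstance inferInstance
      (by rw [Nat.card_zpowers, hz0, hH])
    rw [hg]
    ext x
    rw [mem_map_conj]
    constructor
    · intro hx
      have h1 := hzc _ hx g⁻¹
      rw [inv_inv] at h1
      have h2 : g * (g⁻¹ * x * g) * g⁻¹ = x := by group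
      rw [h2] at h1
      rw [h1]; exact hx
    · intro hx
      rw [hzc x hx g]; exact hx
  have huniq : ∀ H K : Subgroup P, Nat.card H = p → Nat.card K = p → H = K := by
    intro H K hH hK
    rw [key H hH, key K hK]
  rcases Cfsg.Agent.S0016.result p hP huniq with h | ⟨-, n, ⟨e⟩⟩
  · exact h
  by_cases hn : n = 0
  · subst hn
    have e' : P ≃* QuaternionGroup 1 := e
    have := QuaternionGroup.quaternionGroup_one_isCyclic
    exact isCyclic_of_surjective e'.symm e'.symm.surjective
  · exact absurd (hB.of_mulEquiv e) (not_propB_quaternion n hn)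

theorem main : ∀ (n : ℕ) (G : Type u) [Group G] [Finite G], Nat.card G = n →
    Group.IsNilpotent G → PropB G → IsCyclic G := by
  intro n
  induction n using Nat.strong_induction_on with
  | _ n ih =>
  intro G _ _ hn hnil hB
  by_cases htriv : Subsingleton G
  · exact isCyclic_of_subsingleton
  rw [not_subsingleton_iff_nontrivial] at htriv
  have hcard1 : Nat.card G ≠ 1 := by
    intro h
    have := (Nat.card_eq_one_iff_unique.mp h).1
    exact not_subsingleton G this
  set p := (Nat.card G).minFac with hp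
  have hpp : p.Prime := Nat.minFac_prime hcard1
  have hpdvd : p ∣ Nat.card G := Nat.minFac_dvd _
  have : Fact p.Prime := ⟨hpp⟩
  obtain ⟨P, N, hNn, hcompl⟩ := Cfsg.Agent.Helper1.hasNormalPComplement_of_isNilpotent hnil p
  have hPn : (P : Subgroup G).Normal := inferInstance
  have hdisj : Disjoint N (P : Subgroup G) := hcompl.disjoint
  have hsup : N ⊔ (P : Subgroup G) = ⊤ := hcompl.sup_eq_top
  have hBP : PropB ↥(P : Subgroup G) :=
    PropB.of_factor (P : Subgroup G) N hPn hNn hdisj.symm (by rw [sup_comm]; exact hsup) hB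
  have hBN : PropB ↥N := PropB.of_factor N (P : Subgroup G) hNn hPn hdisj hsup hB
  have hPcyc : IsCyclic ↥(P : Subgroup G) := pgroup_cyclic_of_propB p P.isPGroup' hBP
  have hmul : Nat.card N * Nat.card (P : Subgroup G) = Nat.card G := hcompl.card_mul_card
  have hP1 : 1 < Nat.card (P : Subgroup G) := by
    have hne : (P : Subgroup G) ≠ ⊥ := P.ne_bot_of_dvd_card hpdvd
    have : Nat.card (P : Subgroup G) ≠ 1 := fun h => hne (Subgroup.card_eq_one.mp h)
    have : 0 < Nat.card (P : Subgroup G) := Nat.card_pos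
    omega
  have hlt : Nat.card N < n := by
    rw [← hn, ← hmul]
    have : 0 < Nat.card N := Nat.card_pos
    nlinarith
  have hNcyc : IsCyclic ↥N := ih _ hlt ↥N rfl inferInstance hBN
  obtain ⟨⟨u, huP⟩, hu⟩ := hPcyc.exists_generator
  obtain ⟨⟨v, hvN⟩, hv⟩ := hNcyc.exists_generator
  have hou : orderOf u = Nat.card (P : Subgroup G) := by
    rw [← orderOf_eq_card_of_forall_mem_zpowers hu]
    exact (Subgroup.orderOf_mk u huP).symm
  have hov : orderOf v = Nat.card N := by
    rw [← orderOf_eq_card_of_forall_mem_zpowers hv]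
    exact (Subgroup.orderOf_mk v hvN).symm
  have hcomm : Commute u v :=
    Subgroup.commute_of_normal_of_disjoint _ _ hPn hNn hdisj.symm u v huP hvN
  have hidx : (P : Subgroup G).index = Nat.card N := by
    have h1 := (P : Subgroup G).index_mul_card
    rw [← hmul] at h1
    exact Nat.eq_of_mul_eq_mul_right (by omega) h1
  have hcop : (orderOf u).Coprime (orderOf v) := by
    rw [hou, hov, ← hidx]; exact P.card_coprime_index
  apply isCyclic_of_orderOf_eq_card (u * v)
  rw [hcomm.orderOf_mul_eq_mul_orderOf_of_coprime hcop, hou, hov, mul_comm, hmul]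

/-- A finite nilpotent group in which any two abelian subgroups of the same order are conjugate is cyclic. -/
theorem result {G : Type*} [Group G] [Finite G] (hB : ∀ A B : Subgroup G, IsMulCommutative ↥A → IsMulCommutative ↥B → Nat.card ↥A = Nat.card ↥B → ∃ g : G, B = A.map (MulAut.conj g).toMonoidHom) (hnil : Group.IsNilpotent G) : IsCyclic G :=
  main _ G rfl hnil hB

end Cfsg.Agent.S3910
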