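import Mathlib
import Cfsg.Statements.S3917
import Cfsg.Agent.Helper5.Generation
import Cfsg.Agent.Helper4.Cyclic

set_option autoImplicit false
open Cfsg

namespace Cfsg.Agent.S3917

theorem zpow_eq_pow_of_pow_eq_one {G : Type*} [Group G] (a : G) (q : ℕ) (hq : 0 < q) (ha : a ^ q = 1) (m : ℤ) :
    ∃ s : ℕ, s < q ∧ a ^ m = a ^ s := by
  refine ⟨(m % (q : ℤ)).toNat, ?_, ?_⟩
  · have h1 : m % (q : ℤ) < q := Int.emod_lt_of_pos m (by exact_mod_cast hq)
    have h0 : 0 ≤ m % (q : ℤ) := Int.emod_nonneg m (by exact_mod_cast hq.ne')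
    omega
  · have h0 : 0 ≤ m % (q : ℤ) := Int.emod_nonneg m (by exact_mod_cast hq.ne')
    rw [zpow_eq_zpow_emod' m ha, ← zpow_natCast, Int.toNat_of_nonneg h0]

/-- Say that a group has self-centralizing non-cyclic subgroups when every non-cyclic subgroup H satisfies C_G(H) ≤ H. A finite abelian group with self-centralizing non-cyclic subgroups is cyclic or elementary abelian of order p² for a prime p. -/
theorem result {G : Type*} [CommGroup G] [Finite G] (hX : (∀ H : Subgroup G, ¬ IsCyclic ↥H → Subgroup.centralizer (H : Set G) ≤ H)) :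
    IsCyclic G ∨ ∃ p : ℕ, p.Prime ∧ Nat.card G = p ^ 2 ∧ Monoid.exponent G = p := by
  by_cases hc : IsCyclic G
  · left; exact hc
  right
  obtain ⟨q, hq, a, b, haq, hbq, hind⟩ := Cfsg.Agent.Helper5.exists_rank_two_of_not_isCyclic hc
  have hq0 : 0 < q := hq.pos
  have ha1 : a ≠ 1 := by
    intro h
    have := hind 1 0 (by rw [h]; simp)
    exact hq.one_lt.ne' (Nat.dvd_one.mp this.1)
  have hqf : Fact q.Prime := ⟨hq⟩
  have hoa : orderOf a = q := orderOf_eq_prime haq ha1
  set H := Subgroup.closure ({a, b} : Set G) with hH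
  have haH : a ∈ H := Subgroup.subset_closure (by simp)
  have hbH : b ∈ H := Subgroup.subset_closure (by simp)
  have hHnc : ¬ IsCyclic H := by
    intro hcyc
    have hb := Cfsg.Agent.Helper4.mem_zpowers_of_pow_eq_one_of_isCyclic' H hcyc a b haH hbH q hq0 hoa hbq
    obtain ⟨k, hk⟩ := Subgroup.mem_zpowers_iff.mp hb
    obtain ⟨s, _, hs⟩ := zpow_eq_pow_of_pow_eq_one a q hq0 haq k
    have h1 : a ^ s * b ^ (q - 1) = 1 := by
      rw [← hs, hk, ← pow_succ', Nat.sub_add_cancel hq.one_le, hbq]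
    have h2 := (hind s (q - 1) h1).2
    have h3 : q ≤ q - 1 := Nat.le_of_dvd (Nat.sub_pos_of_lt hq.one_lt) h2
    omega
  have hHtop : H = ⊤ := by
    have h1 := hX H hHnc
    have h2 : Subgroup.centralizer (H : Set G) = ⊤ := by
      rw [Subgroup.centralizer_eq_top_iff_subset, CommGroup.center_eq_top]
      exact Set.subset_univ _
    rw [h2] at h1
    exact top_le_iff.mp h1
  have hall : ∀ g : G, ∃ s t : ℕ, s < q ∧ t < q ∧ g = a ^ s * b ^ t := by
    intro g
    have hg : g ∈ H := hHtop ▸ Subgroup.mem_top g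
    obtain ⟨m, n, hmn⟩ := Subgroup.mem_closure_pair.mp hg
    obtain ⟨s, hs, hs'⟩ := zpow_eq_pow_of_pow_eq_one a q hq0 haq m
    obtain ⟨t, ht, ht'⟩ := zpow_eq_pow_of_pow_eq_one b q hq0 hbq n
    exact ⟨s, t, hs, ht, by rw [← hmn, hs', ht']⟩
  refine ⟨q, hq, ?_, ?_⟩
  · -- cardinality
    let f : Fin q × Fin q → G := fun x => a ^ (x.1 : ℕ) * b ^ (x.2 : ℕ)
    have hf : Function.Bijective f := by
      constructor
      · rintro ⟨⟨s, hs⟩, ⟨t, ht⟩⟩ ⟨⟨s', hs'⟩, ⟨t', ht'⟩⟩ h
        change a ^ s * b ^ t = a ^ s' * b ^ t' at h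
        have ha' : a ^ (q - s') = (a ^ s')⁻¹ := by
          rw [eq_inv_iff_mul_eq_one, ← pow_add, Nat.sub_add_cancel hs'.le, haq]
        have hb' : b ^ (q - t') = (b ^ t')⁻¹ := by
          rw [eq_inv_iff_mul_eq_one, ← pow_add, Nat.sub_add_cancel ht'.le, hbq]
        have h1 : a ^ (s + (q - s')) * b ^ (t + (q - t')) = 1 := by
          rw [pow_add, pow_add, ha', hb']
          calc a ^ s * (a ^ s')⁻¹ * (b ^ t * (b ^ t')⁻¹) = (a ^ s * b ^ t) * (a ^ s' * b ^ t')⁻¹ := by
                rw [mul_inv]; exact mul_mul_mul_comm _ _ _ _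
            _ = 1 := by rw [h, mul_inv_cancel]
        obtain ⟨d1, d2⟩ := hind _ _ h1
        have e1 : s + (q - s') = q :=
          Nat.eq_of_dvd_of_lt_two_mul (by omega) d1 (by omega)
        have e2 : t + (q - t') = q :=
          Nat.eq_of_dvd_of_lt_two_mul (by omega) d2 (by omega)
        have : s = s' := by omega
        have : t = t' := by omega
        subst_vars
        rfl
      · intro g
        obtain ⟨s, t, hs, ht, hg⟩ := hall g
        exact ⟨(⟨s, hs⟩, ⟨t, ht⟩), hg.symm⟩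
    rw [← Nat.card_eq_of_bijective f hf, Nat.card_prod, Nat.card_fin, pow_two]
  · have hdvd : Monoid.exponent G ∣ q := by
      apply Monoid.exponent_dvd_of_forall_pow_eq_one
      intro g
      obtain ⟨s, t, _, _, hg⟩ := hall g
      rw [hg, mul_pow, ← pow_mul, ← pow_mul, mul_comm s, mul_comm t, pow_mul, pow_mul, haq, hbq, one_pow, one_pow,
        one_mul]
    rcases (Nat.dvd_prime hq).mp hdvd with h | h
    · exfalso
      apply ha1
      have := Monoid.pow_exponent_eq_one a
      rwa [h, pow_one] at this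
    · exact h

end Cfsg.Agent.S3917
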