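import Mathlib
import Cfsg.Statements.S3918
import Cfsg.Agent.Helper1.NormalEA2
import Cfsg.Agent.Helper5.PGroupCenter
import Cfsg.Agent.Helper3.Basic
-- import your own Cfsg.Agent.* helpers here

set_option autoImplicit false
open Cfsg

namespace Cfsg.Agent.S3918
universe u
open Cfsg.Agent.Helper1 Cfsg.Agent.Helper5

variable {G : Type u} [Group G]

/-- a group with `G/Z(G)` of order dividing `p` is abelian -/
theorem comm_of_center_index_dvd_prime [Finite G] {p : ℕ} [hp : Fact p.Prime]
    (h : (Subgroup.center G).index ∣ p) : IsMulCommutative G := by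
  have hcyc : IsCyclic (G ⧸ Subgroup.center G) := by
    rcases (Nat.dvd_prime hp.out).1 h with h1 | h1
    · have : Subsingleton (G ⧸ Subgroup.center G) := by
        apply (Nat.card_eq_one_iff_unique.1 _).1
        rw [← Subgroup.index_eq_card]; exact h1
      infer_instance
    · apply isCyclic_of_prime_card (p := p)
      rw [← Subgroup.index_eq_card]; exact h1
  exact MonoidHom.isMulCommutative_of_isCyclic_of_ker_le_center
    (QuotientGroup.mk' (Subgroup.center G)) (by rw [QuotientGroup.ker_mk'])

/-- direction `⇐` -/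
theorem of_card [Finite G] {p : ℕ} [hp : Fact p.Prime] (hna : ¬ IsMulCommutative G)
    (hcard : Nat.card G = p ^ 3) (H : Subgroup G) (hH : ¬ IsCyclic ↥H) :
    Subgroup.centralizer (H : Set G) ≤ H := by
  have hdvd : Nat.card H ∣ p ^ 3 := hcard ▸ Subgroup.card_subgroup_dvd_card H
  obtain ⟨k, hk3, hk⟩ := (Nat.dvd_prime_pow hp.out).1 hdvd
  have hk' : k = 0 ∨ k = 1 ∨ k = 2 ∨ k = 3 := by omega
  rcases hk' with rfl | rfl | rfl | rfl
  · exfalso; apply hH
    rw [pow_zero] at hk
    have : Subsingleton ↥H := (Nat.card_eq_one_iff_unique.1 hk).1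
    infer_instance
  · exfalso; apply hH
    rw [pow_one] at hk
    exact isCyclic_of_prime_card hk
  · -- `H` abelian of order `p²`
    have hHc : IsMulCommutative ↥H := IsPGroup.isMulCommutative_of_card_eq_prime_sq hk
    have hHcomm : ∀ a b : ↥H, a * b = b * a := fun a b => hHc.is_comm.comm a b
    have hHC : H ≤ Subgroup.centralizer (H : Set G) := by
      intro x hx
      rw [Subgroup.mem_centralizer_iff]
      intro y hy
      exact congrArg Subtype.val (hHcomm ⟨y, hy⟩ ⟨x, hx⟩)
    have hdvd2 : Nat.card (Subgroup.centralizer (H : Set G)) ∣ p ^ 3 :=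
      hcard ▸ Subgroup.card_subgroup_dvd_card _
    obtain ⟨j, hj3, hj⟩ := (Nat.dvd_prime_pow hp.out).1 hdvd2
    have hle : p ^ 2 ≤ p ^ j := by
      rw [← hk, ← hj]; exact Subgroup.card_le_of_le hHC
    have hj2 : 2 ≤ j := (Nat.pow_le_pow_iff_right hp.out.one_lt).1 hle
    have hj' : j = 2 ∨ j = 3 := by omega
    rcases hj' with rfl | rfl
    · have := Subgroup.eq_of_le_of_card_ge hHC (by rw [hk, hj])
      rw [← this]
    · exfalso
      have htop : Subgroup.centralizer (H : Set G) = ⊤ := by
        apply Subgroup.eq_top_of_card_eq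
        rw [hj, hcard]
      have hHZ : H ≤ Subgroup.center G := by
        intro x hx
        rw [Subgroup.mem_center_iff]
        intro g
        have hg : g ∈ Subgroup.centralizer (H : Set G) := by rw [htop]; trivial
        exact (Subgroup.mem_centralizer_iff.1 hg x hx).symm
      have h1 : p ^ 2 ∣ Nat.card (Subgroup.center G) := by
        rw [← hk]; exact Subgroup.card_dvd_of_le hHZ
      have h2 := (Subgroup.center G).card_mul_index
      rw [hcard] at h2
      have h3 : (Subgroup.center G).index ∣ p := by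
        obtain ⟨c, hc⟩ := h1
        rw [hc] at h2
        have h4 : p ^ 2 * (c * (Subgroup.center G).index) = p ^ 2 * p := by
          rw [← mul_assoc, h2]; ring
        have h5 := Nat.eq_of_mul_eq_mul_left (pow_pos hp.out.pos 2) h4
        exact Dvd.intro_left _ h5
      exact hna (comm_of_center_index_dvd_prime h3)
  · have : H = ⊤ := by
      apply Subgroup.eq_top_of_card_eq
      rw [hk, hcard]
    rw [this]; exact le_top

/-- direction `⇒` -/
theorem card_of_selfcentralizing [Finite G] {p : ℕ} [hp : Fact p.Prime] (hp2 : p ≠ 2)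
    (hG : IsPGroup p G) (hna : ¬ IsMulCommutative G)
    (h : ∀ H : Subgroup G, ¬ IsCyclic ↥H → Subgroup.centralizer (H : Set G) ≤ H) :
    Nat.card G = p ^ 3 := by
  have hnc : ¬ IsCyclic G := by
    intro hc
    apply hna
    exact ⟨⟨fun a b => IsCyclic.commGroup.mul_comm a b⟩⟩
  obtain ⟨A, hAn, ⟨hAc, hAe⟩, hAcard⟩ := exists_normal_elementary_p2_top hp2 hG hnc
  -- `A` is not cyclic
  have hAnc : ¬ IsCyclic ↥A := by
    intro hc
    obtain ⟨g, hg⟩ := hc.exists_generator
    have h1 : orderOf g = Nat.card ↥A := orderOf_eq_card_of_forall_mem_zpowers hg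
    have h2 : g ^ p = 1 := by
      apply Subtype.ext
      have := hAe g g.2
      simpa using this
    have h3 := orderOf_dvd_of_pow_eq_one h2
    rw [h1, hAcard] at h3
    have h4 := Nat.le_of_dvd hp.out.pos h3
    have := hp.out.one_lt
    nlinarith
  have hCA := h A hAnc
  have hA1 : A ≠ ⊥ := by
    intro hb
    rw [hb, Subgroup.card_bot] at hAcard
    have := hp.out.one_lt
    nlinarith
  obtain ⟨z, hzA, hz1, hzc⟩ := exists_ne_one_mem_center_of_normal hG A hA1
  have hzp : z ^ p = 1 := hAe z hzA
  have hzord : orderOf z = p := orderOf_eq_prime hzp hz1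
  have hZcard : Nat.card (Subgroup.zpowers z) = p := by rw [Nat.card_zpowers, hzord]
  have hZA : Subgroup.zpowers z ≤ A := (Subgroup.zpowers_le).2 hzA
  -- an element of `A` outside `⟨z⟩`
  obtain ⟨a, haA, haZ⟩ : ∃ a ∈ A, a ∉ Subgroup.zpowers z := by
    by_contra hcon
    have : A ≤ Subgroup.zpowers z := by
      intro x hx
      by_contra hn
      exact hcon ⟨x, hx, hn⟩
    have := Subgroup.card_le_of_le this
    rw [hAcard, hZcard] at this
    have := hp.out.one_lt
    nlinarith
  -- `A = ⟨z⟩⟨a⟩`
  have hsup : Subgroup.zpowers z ⊔ Subgroup.zpowers a = A := by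
    have hle : Subgroup.zpowers z ⊔ Subgroup.zpowers a ≤ A :=
      sup_le hZA ((Subgroup.zpowers_le).2 haA)
    have hdvd : Nat.card ↥(Subgroup.zpowers z ⊔ Subgroup.zpowers a) ∣ p ^ 2 :=
      hAcard ▸ Subgroup.card_dvd_of_le hle
    obtain ⟨j, hj2, hj⟩ := (Nat.dvd_prime_pow hp.out).1 hdvd
    have hlt : Subgroup.zpowers z < Subgroup.zpowers z ⊔ Subgroup.zpowers a := by
      refine lt_of_le_of_ne le_sup_left ?_
      intro he
      apply haZ
      rw [he]
      exact (le_sup_right : Subgroup.zpowers a ≤ _) (Subgroup.mem_zpowers a)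
    have hlt' := Cfsg.Agent.Helper1.card_lt_card_of_lt hlt
    rw [hZcard, hj] at hlt'
    have hj1 : 1 < j := by
      have : p ^ 1 < p ^ j := by rwa [pow_one]
      exact (Nat.pow_lt_pow_iff_right hp.out.one_lt).1 this
    have hj' : j = 2 := by omega
    apply Subgroup.eq_of_le_of_card_ge hle
    rw [hj, hj', hAcard]
  -- `C_G(a) ≤ C_G(A) ≤ A`
  have hCa : Subgroup.centralizer ({a} : Set G) ≤ A := by
    refine le_trans ?_ hCA
    intro x hx
    rw [Subgroup.mem_centralizer_singleton_iff] at hx
    have hle : A ≤ Subgroup.centralizer ({x} : Set G) := by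
      rw [← hsup]
      apply sup_le
      · rw [Subgroup.zpowers_le, Subgroup.mem_centralizer_singleton_iff]
        exact (hzc x).symm
      · rw [Subgroup.zpowers_le, Subgroup.mem_centralizer_singleton_iff]
        exact hx.symm
    rw [Subgroup.mem_centralizer_iff]
    intro y hy
    have := hle hy
    rw [Subgroup.mem_centralizer_singleton_iff] at this
    exact this
  -- `A ≤ C_G(a)`
  have hACa : A ≤ Subgroup.centralizer ({a} : Set G) := by
    intro x hx
    rw [Subgroup.mem_centralizer_singleton_iff]
    exact congrArg Subtype.val (hAc.is_comm.comm ⟨x, hx⟩ ⟨a, haA⟩)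
  have hCaA : Subgroup.centralizer ({a} : Set G) = A := le_antisymm hCa hACa
  -- the class of `a` lies in `A \ ⟨z⟩`
  have hidx := Cfsg.Agent.Helper3.index_centralizer_singleton_eq_card_conj a
  have hclass : Nat.card {y : G // IsConj a y} < p ^ 2 := by
    classical
    have hmemA : ∀ y : G, IsConj a y → y ∈ A := by
      intro y hy
      obtain ⟨c, hc⟩ := isConj_iff.1 hy
      rw [← hc]
      exact hAn.conj_mem a haA c
    have hinj : Function.Injective
        (fun y : {y : G // IsConj a y} => (⟨(y : G), hmemA y y.2⟩ : ↥A)) := by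
      intro y1 y2 h12
      apply Subtype.ext
      exact congrArg (fun t : ↥A => (t : G)) h12
    have hnsurj : ¬ Function.Surjective
        (fun y : {y : G // IsConj a y} => (⟨(y : G), hmemA y y.2⟩ : ↥A)) := by
      intro hs
      obtain ⟨y, hy⟩ := hs ⟨z, hzA⟩
      have hyz : (y : G) = z := congrArg (fun t : ↥A => (t : G)) hy
      obtain ⟨c, hc⟩ := isConj_iff.1 y.2
      rw [hyz] at hc
      -- c a c⁻¹ = z, z central, so a = z
      have h2 : a = z := by
        have h3 : c * a = z * c := by rw [← hc]; group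
        rw [← hzc c] at h3
        exact mul_left_cancel h3
      apply haZ
      rw [h2]; exact Subgroup.mem_zpowers z
    have : Fintype {y : G // IsConj a y} := Fintype.ofFinite _
    have : Fintype ↥A := Fintype.ofFinite _
    have h5 := Fintype.card_lt_of_injective_not_surjective _ hinj hnsurj
    rw [← Nat.card_eq_fintype_card, ← Nat.card_eq_fintype_card, hAcard] at h5
    exact h5
  obtain ⟨n, hn⟩ := hG.exists_card_eq
  have hidxdvd : (Subgroup.centralizer ({a} : Set G)).index ∣ p ^ n :=
    hn ▸ Subgroup.index_dvd_card _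
  obtain ⟨k, hkn, hk⟩ := (Nat.dvd_prime_pow hp.out).1 hidxdvd
  rw [← hidx, hk] at hclass
  have hk1 : k < 2 := (Nat.pow_lt_pow_iff_right hp.out.one_lt).1 hclass
  have hmul := (Subgroup.centralizer ({a} : Set G)).card_mul_index
  rw [hk, hCaA, hAcard] at hmul
  have hk' : k = 0 ∨ k = 1 := by omega
  rcases hk' with rfl | rfl
  · exfalso
    apply hna
    have htop : A = ⊤ := by
      apply Subgroup.eq_top_of_card_eq
      rw [hAcard, ← hmul]; ring
    constructor; constructor
    intro x y
    have hx : x ∈ A := by rw [htop]; trivial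
    have hy : y ∈ A := by rw [htop]; trivial
    exact congrArg Subtype.val (hAc.is_comm.comm ⟨x, hx⟩ ⟨y, hy⟩)
  · rw [← hmul]; ring

/-- Say that a group has self-centralizing non-cyclic subgroups when every non-cyclic subgroup H satisfies C_G(H) ≤ H. For an odd prime p, a finite non-abelian p-group has self-centralizing non-cyclic subgroups if and only if it has order p³. -/
theorem result {G : Type*} [Group G] [Finite G] {p : ℕ} [Fact p.Prime] (hp : p ≠ 2) (hG : IsPGroup p G) (hna : ¬ IsMulCommutative G) :
    (∀ H : Subgroup G, ¬ IsCyclic ↥H → Subgroup.centralizer (H : Set G) ≤ H) ↔ Nat.card G = p ^ 3 := by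
  constructor
  · intro h
    exact card_of_selfcentralizing hp hG hna h
  · intro hcard H hH
    exact of_card hna hcard H hH


end Cfsg.Agent.S3918
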