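import Mathlib
import Cfsg.Statements.S3920
-- import your own Cfsg.Agent.* helpers here

set_option autoImplicit false
open Cfsg

namespace Cfsg.Agent.S3920
open DihedralGroup

/-- the rotation homomorphism -/
def rot (n : ℕ) : Multiplicative (ZMod n) →* DihedralGroup n where
  toFun i := r (Multiplicative.toAdd i)
  map_one' := rfl
  map_mul' a b := by simp

/-- a non-cyclic subgroup contains a reflection -/
theorem exists_sr {n : ℕ} (H : Subgroup (DihedralGroup n)) (hH : ¬ IsCyclic ↥H) :
    ∃ i, sr i ∈ H := by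
  by_contra hcon
  apply hH
  have hle : H ≤ (rot n).range := by
    intro g hg
    cases g with
    | r t => exact ⟨Multiplicative.ofAdd t, rfl⟩
    | sr t => exact absurd ⟨t, hg⟩ hcon
  have hc : IsCyclic ↥(rot n).range := by
    have : IsCyclic (Multiplicative (ZMod n)) := inferInstance
    exact isCyclic_of_surjective (rot n).rangeRestrict (rot n).rangeRestrict_surjective
  exact Subgroup.isCyclic_of_le hle

/-- a non-cyclic subgroup containing `sr i` contains a nontrivial rotation -/
theorem exists_rot {n : ℕ} (H : Subgroup (DihedralGroup n)) (hH : ¬ IsCyclic ↥H) (i : ZMod n)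
    (hi : sr i ∈ H) : ∃ u : ZMod n, u ≠ 0 ∧ r u ∈ H := by
  by_contra hcon
  apply hH
  have hle : H ≤ Subgroup.zpowers (sr i) := by
    intro g hg
    cases g with
    | r t =>
      have : t = 0 := by
        by_contra ht
        exact hcon ⟨t, ht, hg⟩
      rw [this]
      exact Subgroup.one_mem _
    | sr t =>
      have h1 : sr i * sr t = r (t - i) := by simp
      have h2 : r (t - i) ∈ H := h1 ▸ H.mul_mem hi hg
      have : t - i = 0 := by
        by_contra ht
        exact hcon ⟨t - i, ht, h2⟩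
      have : t = i := sub_eq_zero.1 this
      rw [this]
      exact Subgroup.mem_zpowers _
  exact Subgroup.isCyclic_of_le hle

theorem two_torsion (n : ℕ) [NeZero n] (t : ZMod n) (h : 2 * t = 0) :
    t = 0 ∨ (2 ∣ n ∧ t = ((n / 2 : ℕ) : ZMod n)) := by
  have hv : t.val < n := ZMod.val_lt t
  have h1 : ((2 * t.val : ℕ) : ZMod n) = 0 := by
    push_cast
    rw [ZMod.natCast_zmod_val]
    exact h
  rw [ZMod.natCast_eq_zero_iff] at h1
  obtain ⟨c, hc⟩ := h1
  have hc' : c = 0 ∨ c = 1 := by
    have : n * c < n * 2 := by omega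
    have : c < 2 := lt_of_mul_lt_mul_left this (Nat.zero_le n)
    omega
  rcases hc' with rfl | rfl
  · left
    have : t.val = 0 := by omega
    exact (ZMod.val_eq_zero t).1 this
  · right
    refine ⟨⟨t.val, by omega⟩, ?_⟩
    have : t.val = n / 2 := by omega
    rw [← this, ZMod.natCast_zmod_val]

theorem mem_zpowers_sr {n : ℕ} (g : DihedralGroup n) (h : g ∈ Subgroup.zpowers (sr (0 : ZMod n))) :
    g = 1 ∨ g = sr 0 := by
  obtain ⟨k, rfl⟩ := h
  show sr (0 : ZMod n) ^ k = 1 ∨ sr (0 : ZMod n) ^ k = sr 0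
  have hsq : (sr (0 : ZMod n)) ^ (2 : ℤ) = 1 := by
    rw [zpow_ofNat, pow_two]; simp
  have hk : k = k % 2 + 2 * (k / 2) := (Int.emod_add_mul_ediv k 2).symm
  rw [hk, zpow_add, zpow_mul, hsq, one_zpow, mul_one]
  rcases Int.emod_two_eq_zero_or_one k with h0 | h1
  · left; rw [h0, zpow_zero]
  · right; rw [h1, zpow_one]

/-- multiplication by `p` -/
def mulP (n p : ℕ) : DihedralGroup n →* DihedralGroup n where
  toFun g := match g with
    | r t => r ((p : ZMod n) * t)
    | sr t => sr ((p : ZMod n) * t)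
  map_one' := by
    show r ((p : ZMod n) * 0) = 1
    rw [mul_zero]; rfl
  map_mul' a b := by
    cases a with
    | r x =>
      cases b with
      | r y => simp only [r_mul_r, mul_add]
      | sr y => simp only [r_mul_sr, mul_sub]
    | sr x =>
      cases b with
      | r y => simp only [sr_mul_r, mul_add]
      | sr y => simp only [sr_mul_sr, mul_sub]

/-- in the 2-power case a noncyclic subgroup contains the central rotation -/
theorem half_mem {n k : ℕ} [NeZero n] (hnk : n = 2 ^ k) (H : Subgroup (DihedralGroup n))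
    (u : ZMod n) (hu : u ≠ 0) (huH : r u ∈ H) : r (((n / 2 : ℕ) : ZMod n)) ∈ H := by
  have : Fact (Nat.Prime 2) := ⟨Nat.prime_two⟩
  set T := H.comap (rot n) with hT
  have hTcard : Nat.card T ∣ 2 ^ k := by
    have h1 : Nat.card T ∣ Nat.card (Multiplicative (ZMod n)) := Subgroup.card_subgroup_dvd_card T
    have h2 : Nat.card (Multiplicative (ZMod n)) = n := by
      have h3 : Nat.card (Multiplicative (ZMod n)) = Nat.card (ZMod n) :=
        Nat.card_congr Multiplicative.toAdd
      rw [h3, Nat.card_eq_fintype_card]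
      exact ZMod.card n
    rw [h2] at h1
    exact hnk ▸ h1
  obtain ⟨j, hjk, hj⟩ := (Nat.dvd_prime_pow Nat.prime_two).1 hTcard
  have hj0 : j ≠ 0 := by
    rintro rfl
    rw [pow_zero] at hj
    have hsub : Subsingleton ↥T := (Nat.card_eq_one_iff_unique.1 hj).1
    have h1 : (⟨Multiplicative.ofAdd u, huH⟩ : ↥T) = 1 := Subsingleton.elim _ _
    have h2 : Multiplicative.ofAdd u = 1 := congrArg Subtype.val h1
    exact hu h2
  have h2dvd : 2 ∣ Nat.card T := by rw [hj]; exact dvd_pow_self 2 hj0
  obtain ⟨x, hx⟩ := exists_prime_orderOf_dvd_card' 2 h2dvd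
  have hx2 : (x : Multiplicative (ZMod n)) ^ 2 = 1 := by
    have h1 : x ^ 2 = 1 := by rw [← hx]; exact pow_orderOf_eq_one x
    have := congrArg Subtype.val h1
    simpa using this
  have hx1 : (x : Multiplicative (ZMod n)) ≠ 1 := by
    intro h
    have : x = 1 := Subtype.ext h
    rw [this, orderOf_one] at hx
    omega
  set x0 : ZMod n := Multiplicative.toAdd (x : Multiplicative (ZMod n)) with hx0
  have h2x : 2 * x0 = 0 := by
    have h1 : Multiplicative.toAdd ((x : Multiplicative (ZMod n)) ^ 2) = 0 := by rw [hx2]; rfl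
    rw [toAdd_pow, nsmul_eq_mul] at h1
    have h3 : ((2 : ℕ) : ZMod n) = 2 := by norm_num
    rw [h3] at h1
    exact h1
  have hx0ne : x0 ≠ 0 := by
    intro h
    apply hx1
    exact h
  rcases two_torsion n x0 h2x with h | ⟨_, h⟩
  · exact absurd h hx0ne
  · rw [← h]
    exact x.2

theorem backward {n : ℕ} [NeZero n] (hn : Odd n ∨ ∃ k : ℕ, n = 2 ^ k)
    (H : Subgroup (DihedralGroup n)) (hH : ¬ IsCyclic ↥H) :
    Subgroup.centralizer (H : Set (DihedralGroup n)) ≤ H := by
  obtain ⟨i, hi⟩ := exists_sr H hH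
  obtain ⟨u, hu, huH⟩ := exists_rot H hH i hi
  -- the central rotation lies in `H` whenever `n` is even
  have hhalf : 2 ∣ n → r (((n / 2 : ℕ) : ZMod n)) ∈ H := by
    intro h2
    rcases hn with hodd | ⟨k, hk⟩
    · exact absurd (even_iff_two_dvd.2 h2) (Nat.not_even_iff_odd.2 hodd)
    · exact half_mem hk H u hu huH
  intro g hg
  have hc := Subgroup.mem_centralizer_iff.1 hg (sr i) hi
  cases g with
  | r t =>
    simp only [sr_mul_r, r_mul_sr, sr.injEq] at hc
    have h2t : 2 * t = 0 := by
      have : 2 * t = (i + t) - (i - t) := by ring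
      rw [this, hc]; ring
    rcases two_torsion n t h2t with h | ⟨h2, h⟩
    · rw [h]; exact H.one_mem
    · rw [h]; exact hhalf h2
  | sr t =>
    simp only [sr_mul_sr, r.injEq] at hc
    have h2t : 2 * (t - i) = 0 := by
      have : 2 * (t - i) = (t - i) - (i - t) := by ring
      rw [this, hc]; ring
    rcases two_torsion n (t - i) h2t with h | ⟨h2, h⟩
    · have : t = i := sub_eq_zero.1 h
      rw [this]; exact hi
    · have h3 : sr t = sr i * r (((n / 2 : ℕ) : ZMod n)) := by
        simp only [sr_mul_r]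
        congr 1
        rw [← h]; ring
      rw [h3]
      exact H.mul_mem hi (hhalf h2)

theorem forward {n : ℕ} [NeZero n] (hodd : ¬ Odd n) (hpow : ¬ ∃ k : ℕ, n = 2 ^ k) :
    ∃ H : Subgroup (DihedralGroup n), ¬ IsCyclic ↥H ∧
      ¬ Subgroup.centralizer (H : Set (DihedralGroup n)) ≤ H := by
  have hn0 : n ≠ 0 := NeZero.ne n
  have heven : Even n := Nat.not_odd_iff_even.1 hodd
  obtain ⟨h, hh⟩ := heven.two_dvd
  obtain ⟨k, m, hm, hkm⟩ := Nat.exists_eq_two_pow_mul_odd hn0
  have hm1 : m ≠ 1 := by
    rintro rfl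
    exact hpow ⟨k, by rw [hkm, mul_one]⟩
  obtain ⟨p, hp, hpm⟩ := Nat.exists_prime_and_dvd hm1
  have hp2 : p ≠ 2 := by
    rintro rfl
    exact (Nat.not_even_iff_odd.2 hm) (even_iff_two_dvd.2 hpm)
  have hpn : p ∣ n := hkm ▸ Dvd.dvd.mul_left hpm _
  obtain ⟨q, hq⟩ := hpn
  have hq0 : 0 < q := by
    rcases Nat.eq_zero_or_pos q with h0 | h0
    · rw [h0, mul_zero] at hq; exact absurd hq hn0
    · exact h0
  have hnot2 : ¬ 2 ∣ p := by
    intro h2
    rcases (Nat.dvd_prime hp).1 h2 with h3 | h3
    · omega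
    · exact hp2 h3.symm
  set H := (Subgroup.zpowers (sr (0 : ZMod n))).comap (mulP n p) with hH
  have hsr : sr (0 : ZMod n) ∈ H := by
    rw [hH, Subgroup.mem_comap]
    show sr ((p : ZMod n) * 0) ∈ _
    rw [mul_zero]
    exact Subgroup.mem_zpowers _
  have hrq : r ((q : ℕ) : ZMod n) ∈ H := by
    rw [hH, Subgroup.mem_comap]
    show r ((p : ZMod n) * (q : ZMod n)) ∈ _
    have : (p : ZMod n) * (q : ZMod n) = 0 := by
      rw [← Nat.cast_mul, ← hq, ZMod.natCast_self]
    rw [this]
    exact Subgroup.one_mem _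
  refine ⟨H, ?_, ?_⟩
  · intro hc
    have h1 := congrArg Subtype.val
      ((IsCyclic.commGroup (α := ↥H)).mul_comm ⟨r ((q : ℕ) : ZMod n), hrq⟩ ⟨sr 0, hsr⟩)
    simp only [Subgroup.coe_mul, r_mul_sr, sr_mul_r, sr.injEq] at h1
    have h2 : ((2 * q : ℕ) : ZMod n) = 0 := by
      push_cast
      have : (2 : ZMod n) * (q : ZMod n) = (0 + (q : ZMod n)) - (0 - (q : ZMod n)) := by ring
      rw [this, h1]; ring
    rw [ZMod.natCast_eq_zero_iff, hq] at h2
    have h3 : p ∣ 2 := by
      have : p * q ∣ 2 * q := h2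
      exact Nat.dvd_of_mul_dvd_mul_right hq0 this
    have := Nat.le_of_dvd (by norm_num) h3
    have := hp.two_le
    omega
  · intro hle
    have hhalf : ((n / 2 : ℕ) : ZMod n) * 2 = 0 := by
      have : ((n / 2 : ℕ) : ZMod n) * 2 = ((n / 2 * 2 : ℕ) : ZMod n) := by push_cast; ring
      rw [this]
      have : n / 2 * 2 = n := by omega
      rw [this, ZMod.natCast_self]
    have hcen : r (((n / 2 : ℕ) : ZMod n)) ∈ Subgroup.centralizer (H : Set (DihedralGroup n)) := by
      rw [Subgroup.mem_centralizer_iff]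
      intro g _
      cases g with
      | r t => simp only [r_mul_r, add_comm]
      | sr t =>
        simp only [sr_mul_r, r_mul_sr, sr.injEq]
        have : t + ((n / 2 : ℕ) : ZMod n) - (t - ((n / 2 : ℕ) : ZMod n)) = ((n / 2 : ℕ) : ZMod n) * 2 := by
          ring
        rw [hhalf] at this
        exact sub_eq_zero.1 this
    have hmem := hle hcen
    rw [hH, Subgroup.mem_comap] at hmem
    have hmem' : r ((p : ZMod n) * ((n / 2 : ℕ) : ZMod n)) ∈ Subgroup.zpowers (sr (0 : ZMod n)) := hmem
    rcases mem_zpowers_sr _ hmem' with h1 | h1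
    · have h2 : (p : ZMod n) * ((n / 2 : ℕ) : ZMod n) = 0 := by
        have : r ((p : ZMod n) * ((n / 2 : ℕ) : ZMod n)) = r 0 := h1
        exact r.inj this
      rw [← Nat.cast_mul, ZMod.natCast_eq_zero_iff] at h2
      have hn2 : n / 2 = h := by omega
      rw [hn2] at h2
      have h3 : 2 * h ∣ p * h := by
        have : n = 2 * h := by omega
        rw [← this]; exact h2
      have hh0 : 0 < h := by omega
      have h4 : 2 ∣ p := by
        have : 2 * h ∣ p * h := h3
        exact Nat.dvd_of_mul_dvd_mul_right hh0 this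
      exact hnot2 h4
    · exact absurd h1 (by simp)

/-- Say that a group has self-centralizing non-cyclic subgroups when every non-cyclic subgroup H satisfies C_G(H) ≤ H. For n ≥ 3, the dihedral group of order 2n has self-centralizing non-cyclic subgroups if and only if n is odd or a power of 2. -/
theorem result (n : ℕ) (hn : 3 ≤ n) : (∀ H : Subgroup (DihedralGroup n), ¬ IsCyclic ↥H → Subgroup.centralizer (H : Set (DihedralGroup n)) ≤ H) ↔ (Odd n ∨ ∃ k : ℕ, n = 2 ^ k) := by
  have : NeZero n := ⟨by omega⟩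
  constructor
  · intro h
    by_contra hcon
    rw [not_or] at hcon
    obtain ⟨H, hH, hne⟩ := forward hcon.1 hcon.2
    exact hne (h H hH)
  · intro h H hH
    exact backward h H hH


end Cfsg.Agent.S3920
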