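import Mathlib
import Cfsg.Statements.S3937
import Cfsg.Prelude.Def_Solvable
import Cfsg.Agent.Helper1.Fitting
import Cfsg.Agent.Helper2.Layer2
-- import your own Cfsg.Agent.* helpers here

set_option autoImplicit false
open Cfsg

namespace Cfsg.Agent.S3937
universe u
open Cfsg.Agent.Helper1 Cfsg.Agent.Helper2

variable {G : Type u} [Group G]

/-- The Fitting subgroup of a subgroup, as a subgroup of the ambient group. -/
def Fit (H : Subgroup G) : Subgroup G := (Cfsg.fittingSubgroup ↥H).map H.subtype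

/-- conjugation of a subgroup -/
def cjg (x : G) (H : Subgroup G) : Subgroup G := H.map (MulAut.conj x).toMonoidHom

theorem mem_cjg {x : G} {H : Subgroup G} {y : G} : y ∈ cjg x H ↔ x⁻¹ * y * x ∈ H := by
  unfold cjg
  constructor
  · rintro ⟨z, hz, rfl⟩
    have : x⁻¹ * ((MulAut.conj x).toMonoidHom z) * x = z := by
      simp [MulAut.conj_apply]; group
    rw [this]; exact hz
  · intro h
    refine ⟨x⁻¹ * y * x, h, ?_⟩
    simp [MulAut.conj_apply]; group

theorem Fit_le (H : Subgroup G) : Fit H ≤ H := by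
  unfold Fit
  exact Subgroup.map_subtype_le _

theorem Fit_isNilpotent [Finite G] (H : Subgroup G) : Group.IsNilpotent ↥(Fit H) := by
  unfold Fit
  exact isNilpotent_of_mulEquiv
    ((Cfsg.fittingSubgroup ↥H).equivMapOfInjective H.subtype H.subtype_injective)
    fittingSubgroup_isNilpotent

theorem le_normalizer_Fit (H : Subgroup G) : H ≤ Subgroup.normalizer (Fit H : Set G) := by
  intro h hh
  rw [Subgroup.mem_normalizer_iff]
  intro y
  unfold Fit
  have hn : (Cfsg.fittingSubgroup ↥H).Normal := inferInstance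
  constructor
  · rintro ⟨z, hz, rfl⟩
    refine ⟨⟨h, hh⟩ * z * ⟨h, hh⟩⁻¹, hn.conj_mem z hz _, ?_⟩
    simp
  · rintro ⟨z, hz, hzy⟩
    refine ⟨⟨h, hh⟩⁻¹ * z * ⟨h, hh⟩, ?_, ?_⟩
    · have := hn.conj_mem z hz ⟨h, hh⟩⁻¹
      rwa [inv_inv] at this
    · have : H.subtype (⟨h, hh⟩⁻¹ * z * ⟨h, hh⟩) = h⁻¹ * (H.subtype z) * h := by simp
      rw [this, hzy]; group

theorem Fit_cjg (x : G) (H : Subgroup G) : Fit (cjg x H) = cjg x (Fit H) := by
  unfold Fit cjg
  set φ := (MulAut.conj x).toMonoidHom with hφ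
  have hinj : Function.Injective φ := (MulAut.conj x).injective
  let e : ↥H ≃* ↥(H.map φ) := H.equivMapOfInjective φ hinj
  rw [← fittingSubgroup_map_equiv e, Subgroup.map_map, Subgroup.map_map]
  congr 1

theorem Fit_top_of_normal [Finite G] (M : Subgroup G) [M.Normal] : Fit M ≤ Cfsg.fittingSubgroup G :=
  fittingSubgroup_normal_le M

/-- if `T` is a proper-or-not subgroup lying in its own `Fit`, it is nilpotent -/
theorem isNilpotent_of_le_Fit_self [Finite G] (T : Subgroup G) (h : T ≤ Fit T) :
    Group.IsNilpotent ↥T := by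
  have : Fit T = T := le_antisymm (Fit_le T) h
  rw [← this]
  exact Fit_isNilpotent T

theorem cjg_mono {x : G} {H K : Subgroup G} (h : H ≤ K) : cjg x H ≤ cjg x K :=
  Subgroup.map_mono h

theorem cjg_cjg_inv (x : G) (H : Subgroup G) : cjg x (cjg x⁻¹ H) = H := by
  ext y
  rw [mem_cjg, mem_cjg, inv_inv]
  have : x * (x⁻¹ * y * x) * x⁻¹ = y := by group
  rw [this]

theorem cjg_eq_of_mem_normalizer {x : G} {H : Subgroup G}
    (hx : x ∈ Subgroup.normalizer (H : Set G)) : cjg x H = H := by
  ext y
  rw [mem_cjg]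
  have h1 := Subgroup.mem_normalizer_iff.mp hx (x⁻¹ * y * x)
  have : x * (x⁻¹ * y * x) * x⁻¹ = y := by group
  rw [this] at h1
  exact h1

theorem cjg_le_of_mem {x : G} {H K : Subgroup G} (hx : x ∈ K) (h : H ≤ K) : cjg x H ≤ K := by
  intro y hy
  rw [mem_cjg] at hy
  have := K.mul_mem (K.mul_mem hx (h hy)) (K.inv_mem hx)
  have e : x * (x⁻¹ * y * x) * x⁻¹ = y := by group
  rwa [e] at this

theorem mem_normalizer_of_cjg_le [Finite G] {x : G} {T : Subgroup G} (h : cjg x T ≤ T) :
    x ∈ Subgroup.normalizer (T : Set G) := by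
  have hcard : Nat.card (cjg x T) = Nat.card T := by
    unfold cjg
    exact Subgroup.card_map_of_injective (MulAut.conj x).injective
  have heq : cjg x T = T := Subgroup.eq_of_le_of_card_ge h (by rw [hcard])
  rw [Subgroup.mem_normalizer_iff]
  intro y
  constructor
  · intro hy
    rw [← heq, mem_cjg]
    have : x⁻¹ * (x * y * x⁻¹) * x = y := by group
    rw [this]; exact hy
  · intro hy
    rw [← heq, mem_cjg] at hy
    have : x⁻¹ * (x * y * x⁻¹) * x = y := by group
    rwa [this] at hy

theorem zipper [Finite G] : ∀ (n : ℕ) (T : Subgroup G), T.index = n → T ≠ ⊤ →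
    (∀ H : Subgroup G, T ≤ H → H ≠ ⊤ → T ≤ Fit H) → ¬ T ≤ Cfsg.fittingSubgroup G →
    ∀ M K : Subgroup G, IsCoatom M → IsCoatom K → T ≤ M → T ≤ K → M = K := by
  intro n
  induction n using Nat.strong_induction_on with
  | _ n ih =>
  intro T hTn hT hP hTF
  have hTnil : Group.IsNilpotent ↥T := isNilpotent_of_le_Fit_self T (hP T le_rfl hT)
  have hN : Subgroup.normalizer (T : Set G) ≠ ⊤ := by
    intro h
    have hTn' : T.Normal := Subgroup.normalizer_eq_top_iff.mp h
    exact hTF (le_fittingSubgroup hTn' hTnil)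
  obtain ⟨M₀, hM₀, hNM₀⟩ := (eq_top_or_exists_le_coatom (Subgroup.normalizer (T : Set G))).resolve_left hN
  have key : ∀ K : Subgroup G, IsCoatom K → T ≤ K → K = M₀ := by
    intro K hK hTK
    by_contra hne
    have hKN : ¬ K ≤ Subgroup.normalizer (T : Set G) := by
      intro h
      exact hne ((hK.le_iff_eq hM₀.1).mp (h.trans hNM₀)).symm
    set R := Fit K with hR
    have hTR : T ≤ R := hP K hTK hK.1
    have hRK : R ≤ K := Fit_le K
    have hKR : K ≤ Subgroup.normalizer (R : Set G) := le_normalizer_Fit K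
    have hRnil : Group.IsNilpotent ↥R := Fit_isNilpotent K
    -- the element x
    have hx : ∃ x ∈ K, x ∉ Subgroup.normalizer (T : Set G) ∧
        cjg x T ≤ Subgroup.normalizer (T : Set G) := by
      by_cases hRN : R ≤ Subgroup.normalizer (T : Set G)
      · obtain ⟨x, hxK, hxN⟩ := SetLike.not_le_iff_exists.mp hKN
        refine ⟨x, hxK, hxN, ?_⟩
        calc cjg x T ≤ cjg x R := cjg_mono hTR
          _ = R := cjg_eq_of_mem_normalizer (hKR hxK)
          _ ≤ _ := hRN
      · set N₁ := Subgroup.normalizer (T : Set G) ⊓ R with hN₁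
        have hN₁top : N₁.subgroupOf R ≠ ⊤ := by
          intro h
          rw [Subgroup.subgroupOf_eq_top] at h
          exact hRN (h.trans inf_le_left)
        have hnc := Group.normalizerCondition_of_isNilpotent (G := ↥R) (N₁.subgroupOf R)
          (lt_top_iff_ne_top.mpr hN₁top)
        obtain ⟨x', hx'N, hx'⟩ := SetLike.exists_of_lt hnc
        refine ⟨x'.1, hRK x'.2, ?_, ?_⟩
        · intro h
          apply hx'
          rw [Subgroup.mem_subgroupOf]
          exact Subgroup.mem_inf.mpr ⟨h, x'.2⟩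
        · intro y hy
          rw [mem_cjg] at hy
          have hyN₁ : x'.1⁻¹ * y * x'.1 ∈ N₁ :=
            Subgroup.mem_inf.mpr ⟨Subgroup.le_normalizer hy, hTR hy⟩
          have h1 := (Subgroup.mem_normalizer_iff.mp hx'N ⟨x'.1⁻¹ * y * x'.1, hyN₁.2⟩).mp
            (by rw [Subgroup.mem_subgroupOf]; exact hyN₁)
          rw [Subgroup.mem_subgroupOf] at h1
          have e : ((x' * ⟨x'.1⁻¹ * y * x'.1, hyN₁.2⟩ * x'⁻¹ : ↥R) : G) = y := by
            simp only [Subgroup.coe_mul, Subgroup.coe_inv]
            group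
          rw [e] at h1
          exact h1.1
    obtain ⟨x, hxK, hxN, hxT⟩ := hx
    set T' := T ⊔ cjg x T with hT'
    have hT'N : T' ≤ Subgroup.normalizer (T : Set G) := sup_le Subgroup.le_normalizer hxT
    have hT'K : T' ≤ K := sup_le hTK (cjg_le_of_mem hxK hTK)
    have hlt : T < T' := by
      refine lt_of_le_of_ne le_sup_left ?_
      intro h
      apply hxN
      apply mem_normalizer_of_cjg_le
      exact le_of_le_of_eq (le_sup_right : cjg x T ≤ T ⊔ cjg x T) h.symm
    have hidx : T'.index < n := by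
      rw [← hTn]
      exact Subgroup.index_strictAnti hlt
    have hT'top : T' ≠ ⊤ := fun h => hK.1 (top_le_iff.mp (h ▸ hT'K))
    have hP' : ∀ H : Subgroup G, T' ≤ H → H ≠ ⊤ → T' ≤ Fit H := by
      intro H hH hHtop
      apply sup_le (hP H (le_sup_left.trans hH) hHtop)
      have h1 : T ≤ cjg x⁻¹ H := by
        intro y hy
        rw [mem_cjg, inv_inv]
        apply hH
        apply (le_sup_right : cjg x T ≤ T')
        rw [mem_cjg]
        have : x⁻¹ * (x * y * x⁻¹) * x = y := by group
        rw [this]; exact hy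
      have h2 : cjg x⁻¹ H ≠ ⊤ := by
        intro h
        apply hHtop
        rw [← cjg_cjg_inv x H, h]
        ext y
        simp only [Subgroup.mem_top, iff_true]
        rw [mem_cjg]; exact Subgroup.mem_top _
      have h3 := hP (cjg x⁻¹ H) h1 h2
      have h4 := cjg_mono (x := x) h3
      rwa [← Fit_cjg, cjg_cjg_inv] at h4
    have hT'F : ¬ T' ≤ Cfsg.fittingSubgroup G := fun h => hTF (le_sup_left.trans h)
    exact hne (ih T'.index hidx T' rfl hT'top hP' hT'F M₀ K hM₀ hK (hT'N.trans hNM₀) hT'K).symm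
  intro M K hM hK hTM hTK
  rw [key M hM hTM, key K hK hTK]

/-- the Engel word -/
def eng (g : G) (n : ℕ) (x : G) : G := (List.replicate n g).foldl (fun a b => a * b * a⁻¹ * b⁻¹) x

theorem eng_zero (g x : G) : eng g 0 x = x := rfl

theorem eng_succ (g : G) (n : ℕ) (x : G) : eng g (n + 1) x = eng g n (x * g * x⁻¹ * g⁻¹) := by
  unfold eng
  rw [List.replicate_succ, List.foldl_cons]

theorem eng_coe (H : Subgroup G) (g : H) (n : ℕ) (x : H) :
    ((eng g n x : H) : G) = eng (g : G) n (x : G) := by
  induction n generalizing x with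
  | zero => rfl
  | succ n ih =>
    rw [eng_succ, eng_succ, ih]
    simp

theorem cjg_isCoatom {x : G} {M : Subgroup G} (hM : IsCoatom M) : IsCoatom (cjg x M) :=
  ((MulEquiv.mapSubgroup (MulAut.conj x)).isCoatom_iff M).mpr hM

theorem baer_aux : ∀ (N : ℕ) (G : Type u) [Group G] [Finite G], Nat.card G = N → ∀ g : G,
    (∀ x : G, ∃ n, eng g n x = 1) → g ∈ Cfsg.fittingSubgroup G := by
  intro N
  induction N using Nat.strong_induction_on with
  | _ N ih =>
  intro G _ _ hN g hg
  by_contra hgF
  set T := Subgroup.zpowers g with hT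
  have hgT : g ∈ T := Subgroup.mem_zpowers g
  have hTF : ¬ T ≤ Cfsg.fittingSubgroup G := fun h => hgF (h hgT)
  have hTtop : T ≠ ⊤ := by
    intro h
    apply hTF
    have hTn : T.Normal := by rw [h]; infer_instance
    let _ : CommGroup ↥T :=
      { (inferInstance : Group ↥T) with mul_comm := fun a b => mul_comm' a b }
    exact le_fittingSubgroup hTn CommGroup.isNilpotent
  have hP : ∀ H : Subgroup G, T ≤ H → H ≠ ⊤ → T ≤ Fit H := by
    intro H hTH hH
    have hcard : Nat.card ↥H < N := by
      rw [← hN]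
      refine lt_of_le_of_ne (Subgroup.card_le_card_group H) ?_
      intro h
      exact hH ((Subgroup.card_eq_iff_eq_top H).mp h)
    have hgH : g ∈ H := hTH hgT
    have heng : ∀ x : ↥H, ∃ n, eng (⟨g, hgH⟩ : ↥H) n x = 1 := by
      intro x
      obtain ⟨n, hn⟩ := hg x.1
      refine ⟨n, ?_⟩
      apply Subtype.ext
      rw [eng_coe]
      exact hn
    have h1 := ih _ hcard ↥H rfl ⟨g, hgH⟩ heng
    rw [hT, Subgroup.zpowers_le]
    exact ⟨⟨g, hgH⟩, h1, rfl⟩
  obtain ⟨M, hM, hTM⟩ := (eq_top_or_exists_le_coatom T).resolve_left hTtop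
  have huniq := zipper T.index T rfl hTtop hP hTF
  have hMN : Subgroup.normalizer (M : Set G) = M := by
    rcases hM.le_iff.mp (Subgroup.le_normalizer (H := M)) with h | h
    · exfalso
      have hMn : M.Normal := Subgroup.normalizer_eq_top_iff.mp h
      exact hTF ((hP M hTM hM.1).trans (Fit_top_of_normal M))
    · exact h
  have hstep : ∀ y : G, y * g * y⁻¹ * g⁻¹ ∈ M → y ∈ M := by
    intro y hy
    have h1 : y * g * y⁻¹ ∈ M := by
      have := M.mul_mem hy (hTM hgT)
      rwa [inv_mul_cancel_right] at this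
    have hK : IsCoatom (cjg y⁻¹ M) := cjg_isCoatom hM
    have hTK : T ≤ cjg y⁻¹ M := by
      rw [hT, Subgroup.zpowers_le, mem_cjg, inv_inv]
      exact h1
    have h2 := huniq M (cjg y⁻¹ M) hM hK hTM hTK
    have h3 : y⁻¹ ∈ Subgroup.normalizer (M : Set G) :=
      mem_normalizer_of_cjg_le (le_of_eq h2.symm)
    rw [hMN] at h3
    have := M.inv_mem h3
    rwa [inv_inv] at this
  have hall : ∀ (n : ℕ) (x : G), eng g n x ∈ M → x ∈ M := by
    intro n
    induction n with
    | zero => intro x hx; exact hx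
    | succ n ihn =>
      intro x hx
      rw [eng_succ] at hx
      exact hstep x (ihn _ hx)
  apply hM.1
  rw [eq_top_iff]
  intro x _
  obtain ⟨n, hn⟩ := hg x
  exact hall n x (by rw [hn]; exact M.one_mem)

theorem forward [Finite G] (g : G) (hg : g ∈ Cfsg.fittingSubgroup G) (x : G) :
    ∃ n, eng g n x = 1 := by
  set F := Cfsg.fittingSubgroup G with hF
  have hFn : F.Normal := inferInstance
  have hnil : Group.IsNilpotent ↥F := fittingSubgroup_isNilpotent
  obtain ⟨n, hn⟩ := (Subgroup.isNilpotent_iff_lowerCentralSeries F).mp hnil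
  have key : ∀ (m k : ℕ) (y : G), y ∈ F.lowerCentralSeries k →
      eng g m y ∈ F.lowerCentralSeries (k + m) := by
    intro m
    induction m with
    | zero => intro k y hy; exact hy
    | succ m ih =>
      intro k y hy
      have h1 : y * g * y⁻¹ * g⁻¹ ∈ F.lowerCentralSeries (k + 1) := by
        rw [Subgroup.mem_lowerCentralSeries_succ_iff]
        apply Subgroup.subset_closure
        exact ⟨y, hy, g, hg, rfl⟩
      have h2 := ih (k + 1) _ h1
      rw [eng_succ, show k + (m + 1) = k + 1 + m by omega]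
      exact h2
  have hx1 : x * g * x⁻¹ * g⁻¹ ∈ F := F.mul_mem (hFn.conj_mem g hg x) (F.inv_mem hg)
  have h3 := key n 0 _ (by rw [Subgroup.lowerCentralSeries_zero]; exact hx1)
  rw [zero_add, hn, Subgroup.mem_bot] at h3
  refine ⟨n + 1, ?_⟩
  rw [eng_succ]
  exact h3

/-- Baer's characterization of the Fitting subgroup: in a finite group G, an element g lies in the Fitting subgroup if and only if g is a left Engel element, that is, for every x there is n with [x, g, g, …, g] = 1 (n entries g, [a, b] = aba⁻¹b⁻¹). -/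
theorem result {G : Type*} [Group G] [Finite G] (g : G) :
    g ∈ Cfsg.fittingSubgroup G ↔ ∀ x : G, ∃ n : ℕ, (List.replicate n g).foldl (fun a b => a * b * a⁻¹ * b⁻¹) x = 1 := by
  constructor
  · intro hg x
    exact forward g hg x
  · intro h
    exact baer_aux _ G rfl g h


end Cfsg.Agent.S3937
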