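import Mathlib
import Cfsg.Statements.S3941
import Cfsg.Statements.S3941
-- import your own Cfsg.Agent.* helpers here

set_option autoImplicit false
open Cfsg

namespace Cfsg.Agent.S3941
open Cfsg

universe u v

/-- `p`-closedness transfers along isomorphisms. -/
theorem isPClosed_of_equiv {H : Type u} {K : Type v} [Group H] [Group K] (p : ℕ) (e : H ≃* K)
    (h : Cfsg.IsPClosed p H) : Cfsg.IsPClosed p K := by
  intro Q
  have hr : (Q : Subgroup K) ≤ e.toMonoidHom.range := by
    rw [MonoidHom.range_eq_top.2 e.surjective]; exact le_top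
  let P : Sylow p H := Q.comapOfInjective e.toMonoidHom e.injective hr
  have hP : (P : Subgroup H).Normal := h P
  have : (Q : Subgroup K) = (P : Subgroup H).map e.toMonoidHom := by
    change (Q : Subgroup K) = ((Q : Subgroup K).comap e.toMonoidHom).map e.toMonoidHom
    rw [Subgroup.map_comap_eq_self_of_surjective e.surjective]
  rw [this]; exact hP.map _ e.surjective

/-- In a `p`-closed finite group, a Sylow `p`-subgroup contains all `p`-elements. -/
theorem mem_sylow_of_isPClosed {G : Type u} [Group G] [Finite G] (p : ℕ) [Fact p.Prime]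
    (h : Cfsg.IsPClosed p G) (P : Sylow p G) (x : G) (j : ℕ) (hx : orderOf x = p ^ j) :
    x ∈ (P : Subgroup G) := by
  have hpg : IsPGroup p (Subgroup.zpowers x) := IsPGroup.of_card (n := j) (by
    rw [Nat.card_zpowers, hx])
  obtain ⟨Q, hQ⟩ := hpg.exists_le_sylow
  have hPn := h P
  have : Q = P := by
    have u := Sylow.unique_of_normal P hPn
    exact (u.uniq Q).trans (u.uniq P).symm
  rw [← this]
  exact hQ (Subgroup.mem_zpowers x)

theorem a4_not_closed : ¬ Cfsg.IsPClosed 3 (alternatingGroup (Fin 4)) := by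
  intro h
  obtain ⟨P⟩ : Nonempty (Sylow 3 (alternatingGroup (Fin 4))) := inferInstance
  let σ : alternatingGroup (Fin 4) :=
    ⟨Equiv.swap 0 1 * Equiv.swap 1 2, Equiv.Perm.mem_alternatingGroup.2 (by decide)⟩
  let τ : alternatingGroup (Fin 4) :=
    ⟨Equiv.swap 0 1 * Equiv.swap 1 3, Equiv.Perm.mem_alternatingGroup.2 (by decide)⟩
  have hσ : orderOf σ = 3 ^ 1 := by
    rw [← Subgroup.orderOf_coe, pow_one]
    exact orderOf_eq_prime (by decide) (by decide)
  have hτ : orderOf τ = 3 ^ 1 := by
    rw [← Subgroup.orderOf_coe, pow_one]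
    exact orderOf_eq_prime (by decide) (by decide)
  have hστ : orderOf (σ * τ) = 2 := by
    rw [← Subgroup.orderOf_coe]
    exact orderOf_eq_prime (by decide) (by decide)
  have h1 := mem_sylow_of_isPClosed 3 h P σ 1 hσ
  have h2 := mem_sylow_of_isPClosed 3 h P τ 1 hτ
  have h3 := (P : Subgroup (alternatingGroup (Fin 4))).mul_mem h1 h2
  obtain ⟨k, hk⟩ := P.isPGroup' ⟨σ * τ, h3⟩
  have hk' : (σ * τ) ^ 3 ^ k = 1 := by
    have := congrArg Subtype.val hk
    simpa using this
  have := orderOf_dvd_of_pow_eq_one hk'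
  rw [hστ] at this
  have := Nat.Prime.dvd_of_dvd_pow Nat.prime_two this
  omega

/-- Let n ≥ 5 and p an odd prime with p ≤ n, and suppose that every proper subgroup of the alternating group of degree n whose order is divisible by p has a normal Sylow p-subgroup. Then n = p. -/
theorem result (n p : ℕ) (hn : 5 ≤ n) [Fact p.Prime] (hp : p ≠ 2) (hpn : p ≤ n)
    (h : ∀ H : Subgroup ↥(alternatingGroup (Fin n)), H ≠ ⊤ → p ∣ Nat.card ↥H → Cfsg.IsPClosed p ↥H) : n = p := by
  have hpp : p.Prime := Fact.out
  by_contra hne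
  have hlt : p < n := lt_of_le_of_ne hpn (Ne.symm hne)
  obtain ⟨m, rfl⟩ : ∃ m, n = m + 1 := ⟨n - 1, by omega⟩
  have hm4 : 4 ≤ m := by omega
  have hpm : p ≤ m := by omega
  have : Nontrivial (Fin m) := Fin.nontrivial_iff_two_le.2 (by omega)
  have : Nontrivial (Fin (m + 1)) := Fin.nontrivial_iff_two_le.2 (by omega)
  let ι : Fin m ↪ Fin (m + 1) := Fin.castSuccEmb
  let f0 : alternatingGroup (Fin m) →* Equiv.Perm (Fin (m + 1)) :=
    (Equiv.Perm.viaEmbeddingHom ι).comp (alternatingGroup (Fin m)).subtype
  have hf0 : ∀ x, f0 x ∈ alternatingGroup (Fin (m + 1)) := by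
    intro x
    rw [Equiv.Perm.mem_alternatingGroup]
    have : f0 x = (x : Equiv.Perm (Fin m)).viaEmbedding ι := rfl
    rw [this, Equiv.Perm.viaEmbedding, Equiv.Perm.sign_extendDomain]
    exact Equiv.Perm.mem_alternatingGroup.1 x.2
  let f : alternatingGroup (Fin m) →* alternatingGroup (Fin (m + 1)) := f0.codRestrict _ hf0
  have hf : Function.Injective f := by
    intro x y hxy
    have : f0 x = f0 y := congrArg Subtype.val hxy
    exact Subtype.ext (Equiv.Perm.viaEmbeddingHom_injective ι this)
  let e : alternatingGroup (Fin m) ≃* f.range := MonoidHom.ofInjective hf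
  have h2c : 2 * Nat.card (alternatingGroup (Fin m)) = m.factorial := by
    rw [two_mul_nat_card_alternatingGroup, Nat.card_perm, Nat.card_fin]
  have h2c' : 2 * Nat.card (alternatingGroup (Fin (m + 1))) = (m + 1).factorial := by
    rw [two_mul_nat_card_alternatingGroup, Nat.card_perm, Nat.card_fin]
  have hcardH : Nat.card f.range = Nat.card (alternatingGroup (Fin m)) :=
    (Nat.card_congr e.toEquiv).symm
  have hpos : 0 < Nat.card (alternatingGroup (Fin m)) := Nat.card_pos
  have hHtop : f.range ≠ ⊤ := by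
    intro htop
    have : Nat.card f.range = Nat.card (alternatingGroup (Fin (m + 1))) := by
      rw [htop, Subgroup.card_top]
    rw [hcardH] at this
    rw [Nat.factorial_succ, ← h2c, ← this] at h2c'
    nlinarith
  have hpA : p ∣ Nat.card (alternatingGroup (Fin m)) := by
    have h1 : p ∣ m.factorial := (Nat.Prime.dvd_factorial hpp).2 hpm
    rw [← h2c] at h1
    rcases (Nat.Prime.dvd_mul hpp).1 h1 with h2 | h2
    · exact absurd ((Nat.prime_dvd_prime_iff_eq hpp Nat.prime_two).1 h2) hp
    · exact h2
  have hpH : p ∣ Nat.card f.range := by rw [hcardH]; exact hpA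
  have hcl : Cfsg.IsPClosed p (alternatingGroup (Fin m)) :=
    isPClosed_of_equiv p e.symm (h f.range hHtop hpH)
  rcases Nat.lt_or_ge m 5 with h5 | h5
  · have hm : m = 4 := by omega
    subst hm
    have hp3 : p = 3 := by
      have h2 := hpp.two_le
      interval_cases p
      · exact absurd rfl hp
      · rfl
      · exact absurd hpp (by decide)
    subst hp3
    exact a4_not_closed hcl
  · have hs : IsSimpleGroup (alternatingGroup (Fin m)) :=
      alternatingGroup.isSimpleGroup (by simpa using h5)
    obtain ⟨P⟩ : Nonempty (Sylow p (alternatingGroup (Fin m))) := inferInstance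
    have hPn := hcl P
    rcases hPn.eq_bot_or_eq_top with hb | ht
    · exact P.ne_bot_of_dvd_card hpA hb
    · have hpg : IsPGroup p (alternatingGroup (Fin m)) := by
        have := P.isPGroup'
        rw [ht] at this
        exact this.of_equiv Subgroup.topEquiv
      obtain ⟨k, hk⟩ := hpg.exists_card_eq
      have h24 : Nat.factorial 4 ∣ m.factorial := Nat.factorial_dvd_factorial hm4
      obtain ⟨t, ht'⟩ := h24
      have h4 : Nat.factorial 4 = 24 := by decide
      rw [h4, ← h2c, hk] at ht'
      have h2p : 2 ∣ p ^ k := ⟨6 * t, by omega⟩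
      have := (Nat.prime_dvd_prime_iff_eq Nat.prime_two hpp).1
        (Nat.Prime.dvd_of_dvd_pow Nat.prime_two h2p)
      exact hp this.symm


end Cfsg.Agent.S3941
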