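import Mathlib
import Cfsg.Statements.S3949

set_option autoImplicit false
open Cfsg

namespace Cfsg.Agent.S3949

/-- Let G be a finite group and α an automorphism of G of order 2 such that the elements g·α(g)⁻¹ generate G. Let j be a positive integer such that 2^j divides the order of no element inverted by α. Then the set of values of the j-th iterate of the map c ↦ c·α(c)⁻¹ is exactly the set of elements of odd order inverted by α. -/
theorem result {G : Type*} [Group G] [Finite G] (α : MulAut G) (hα : orderOf α = 2) (hG : Subgroup.closure (Set.range (fun c : G => c * (α c)⁻¹)) = ⊤)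
    (j : ℕ) (hj : ∀ g : G, α g = g⁻¹ → ¬ 2 ^ j ∣ orderOf g) :
    Set.range ((fun c : G => c * (α c)⁻¹)^[j]) = {g : G | Odd (orderOf g) ∧ α g = g⁻¹} := by
  have _ := hG
  set f : G → G := fun c => c * (α c)⁻¹ with hf
  have hα2 : ∀ g : G, α (α g) = g := by
    intro g
    have h1 : α ^ 2 = 1 := by rw [← hα]; exact pow_orderOf_eq_one α
    have h2 : (α ^ 2) g = g := by rw [h1]; rfl
    rw [pow_two] at h2
    exact h2
  have hfI : ∀ c : G, α (f c) = (f c)⁻¹ := by
    intro c
    simp only [hf, map_mul, map_inv, hα2, mul_inv_rev, inv_inv]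
  have hIf : ∀ x : G, α x = x⁻¹ → f x = x ^ 2 := by
    intro x hx
    simp only [hf, hx, inv_inv, pow_two]
  have hIpow : ∀ (x : G) (n : ℕ), α x = x⁻¹ → α (x ^ n) = (x ^ n)⁻¹ := by
    intro x n hx
    rw [map_pow, hx, inv_pow]
  have hiter : ∀ (n : ℕ) (x : G), α x = x⁻¹ → f^[n] x = x ^ (2 ^ n) := by
    intro n
    induction n with
    | zero => intro x _; simp
    | succ n ih =>
      intro x hx
      rw [Function.iterate_succ_apply, hIf x hx, ih (x ^ 2) (hIpow x 2 hx), ← pow_mul, pow_succ']
  have hj1 : 1 ≤ j := by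
    by_contra h
    have h0 : j = 0 := by omega
    have := hj 1 (by simp)
    rw [h0] at this
    exact this (one_dvd _)
  ext g
  simp only [Set.mem_range, Set.mem_ofPred_eq]
  constructor
  · rintro ⟨c, rfl⟩
    obtain ⟨i, rfl⟩ : ∃ i, j = i + 1 := ⟨j - 1, by omega⟩
    rw [Function.iterate_succ_apply, hiter i (f c) (hfI c)]
    refine ⟨?_, hIpow _ _ (hfI c)⟩
    set z := f c with hz
    have ho : orderOf z ≠ 0 := (orderOf_pos z).ne'
    obtain ⟨a, m, hm, hom⟩ := Nat.exists_eq_two_pow_mul_odd ho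
    have hai : a ≤ i := by
      by_contra h
      have h1 : i + 1 ≤ a := by omega
      apply hj z (hfI c)
      rw [hom]
      exact Dvd.dvd.mul_right (pow_dvd_pow 2 h1) m
    have h1 : (z ^ 2 ^ i) ^ m = 1 := by
      rw [← pow_mul]
      apply orderOf_dvd_iff_pow_eq_one.mp
      rw [hom]
      exact Nat.mul_dvd_mul_right (pow_dvd_pow 2 hai) m
    exact Odd.of_dvd_nat hm (orderOf_dvd_of_pow_eq_one h1)
  · rintro ⟨hodd, hinv⟩
    have hcop : Nat.Coprime (2 ^ j) (orderOf g) :=
      Nat.Coprime.pow_left j (Nat.coprime_two_left.mpr hodd)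
    obtain ⟨t, ht⟩ := exists_pow_eq_self_of_coprime hcop
    refine ⟨g ^ t, ?_⟩
    rw [hiter j (g ^ t) (hIpow g t hinv), ← pow_mul, mul_comm, pow_mul, ht]

end Cfsg.Agent.S3949
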