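import Mathlib
import Cfsg.Statements.S3950
import Cfsg.Agent.Helper3.Schur
import Cfsg.Agent.Helper3.BilinExt

set_option autoImplicit false
open Cfsg

namespace Cfsg.Agent.S3950

open Cfsg.Agent.Helper3

/-- A product of cyclic groups of pairwise coprime orders is cyclic. -/
theorem isCyclic_of_pairwise_coprime {G : Type*} [CommGroup G] {ι : Type} [Fintype ι] (n : ι → ℕ)
    (e : G ≃* ((i : ι) → Multiplicative (ZMod (n i)))) (hc : Pairwise (Function.onFun Nat.Coprime n)) :
    IsCyclic G := by
  let e1 : G ≃* Multiplicative ((i : ι) → ZMod (n i)) :=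
    e.trans (MulEquiv.piMultiplicative (fun i => ZMod (n i))).symm
  let e2 : Multiplicative ((i : ι) → ZMod (n i)) ≃* Multiplicative (ZMod (∏ i, n i)) :=
    AddEquiv.toMultiplicative (ZMod.prodEquivPi n hc).symm.toAddEquiv
  let f : Multiplicative (ZMod (∏ i, n i)) →* G := (e1.trans e2).symm.toMonoidHom
  have hf : Function.Surjective f := (e1.trans e2).symm.surjective
  exact isCyclic_of_surjective f hf

/-- A noncyclic finite abelian group has two independent homomorphisms onto `ZMod p`. -/
theorem exists_two_homs {G : Type*} [CommGroup G] [Finite G] (h : ¬ IsCyclic G) :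
    ∃ (p : ℕ) (_ : p.Prime) (φ ψ : G →* Multiplicative (ZMod p)) (g k : G),
      φ g = Multiplicative.ofAdd 1 ∧ ψ g = 1 ∧ φ k = 1 ∧ ψ k = Multiplicative.ofAdd 1 := by
  obtain ⟨ι, _, n, hn, ⟨e⟩⟩ := CommGroup.equiv_prod_multiplicative_zmod_of_finite G
  classical
  by_cases hc : Pairwise (Function.onFun Nat.Coprime n)
  · exact absurd (isCyclic_of_pairwise_coprime n e hc) h
  · rw [Pairwise] at hc
    push Not at hc
    obtain ⟨i, j, hij, hnc⟩ := hc
    have hnc' : ¬ Nat.Coprime (n i) (n j) := hnc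
    rw [Nat.Prime.not_coprime_iff_dvd] at hnc'
    replace hnc := hnc'
    obtain ⟨p, hp, hpi, hpj⟩ := hnc
    let pr : ∀ l : ι, p ∣ n l → (G →* Multiplicative (ZMod p)) := fun l hl =>
      (AddMonoidHom.toMultiplicative (ZMod.castHom hl (ZMod p)).toAddMonoidHom).comp
        ((Pi.evalMonoidHom (fun i => Multiplicative (ZMod (n i))) l).comp e.toMonoidHom)
    have hpr : ∀ (l : ι) (hl : p ∣ n l) (x : G),
        pr l hl x = Multiplicative.ofAdd (ZMod.castHom hl (ZMod p) (Multiplicative.toAdd (e x l))) := by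
      intro l hl x
      rfl
    refine ⟨p, hp, pr i hpi, pr j hpj, e.symm (Pi.mulSingle i (Multiplicative.ofAdd 1)),
      e.symm (Pi.mulSingle j (Multiplicative.ofAdd 1)), ?_, ?_, ?_, ?_⟩
    · rw [hpr, MulEquiv.apply_symm_apply, Pi.mulSingle_eq_same, toAdd_ofAdd, map_one]
    · rw [hpr, MulEquiv.apply_symm_apply, Pi.mulSingle_eq_of_ne hij.symm, toAdd_one, map_zero, ofAdd_zero]
    · rw [hpr, MulEquiv.apply_symm_apply, Pi.mulSingle_eq_of_ne hij, toAdd_one, map_zero, ofAdd_zero]
    · rw [hpr, MulEquiv.apply_symm_apply, Pi.mulSingle_eq_same, toAdd_ofAdd, map_one]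

/-- The bilinear map attached to two homomorphisms to `ZMod p`. -/
def biAddOf {G : Type*} [CommGroup G] {p : ℕ} (φ ψ : G →* Multiplicative (ZMod p)) : BiAdd G (ZMod p) where
  toFun g h := Multiplicative.toAdd (φ g) * Multiplicative.toAdd (ψ h)
  map_mul_left g h k := by
    rw [map_mul, toAdd_mul]; ring
  map_mul_right g h k := by
    rw [map_mul, toAdd_mul]; ring

/-- A finite abelian group has trivial Schur multiplier if and only if it is cyclic. -/
theorem result {G : Type*} [CommGroup G] [Finite G] : Cfsg.HasCyclicSchurMultiplier G 1 ↔ IsCyclic G := by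
  constructor
  · intro H
    by_contra hcyc
    obtain ⟨p, hp, φ, ψ, g, k, h1, h2, h3, h4⟩ := exists_two_homs hcyc
    have : Fact p.Prime := ⟨hp⟩
    have hgen : AddSubgroup.closure {a : ZMod p | ∃ g h : G, a = (biAddOf φ ψ).toFun g h - (biAddOf φ ψ).toFun h g} = ⊤ := by
      apply closure_eq_top_of_one_mem
      refine ⟨g, k, ?_⟩
      simp only [biAddOf, h1, h2, h3, h4, toAdd_ofAdd, toAdd_one]
      ring
    have hstem := BiAdd.Ext.isStemExtension_proj (β := biAddOf φ ψ) hgen
    obtain ⟨π, hπ⟩ := H.2 (BiAdd.Ext (biAddOf φ ψ)) BiAdd.Ext.proj hstem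
    obtain ⟨y, hy⟩ := hπ (BiAdd.Ext.kerEquiv.symm (Multiplicative.ofAdd (1 : ZMod p)))
    have hy1 : y = 1 := Subsingleton.elim _ _
    rw [hy1, map_one] at hy
    have h5 := congrArg BiAdd.Ext.kerEquiv hy
    rw [map_one, MulEquiv.apply_symm_apply] at h5
    have h6 : (1 : ZMod p) = 0 := by
      have := congrArg Multiplicative.toAdd h5
      simpa using this.symm
    exact one_ne_zero h6
  · intro hcyc
    apply hasCyclicSchurMultiplier_one_of
    intro Γ _ _ σ hσ
    have hcomm : ∀ a b : Γ, a * b = b * a := by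
      have := MonoidHom.isMulCommutative_of_isCyclic_of_ker_le_center σ hσ.2.1
      exact fun a b => mul_comm' a b
    rw [eq_bot_iff]
    intro x hx
    have hx' := hσ.2.2 hx
    have hbot : commutator Γ = ⊥ := by
      rw [commutator_eq_closure, Subgroup.closure_eq_bot_iff]
      rintro _ ⟨a, b, rfl⟩
      rw [Set.mem_singleton_iff, commutatorElement_def, hcomm a b, mul_inv_cancel_right, mul_inv_cancel]
    rw [hbot] at hx'
    exact hx'
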