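import Mathlib
import Cfsg.Statements.S3951
import Cfsg.Agent.Helper3.BilinExt
import Cfsg.Agent.Helper3.StemTwoGen

set_option autoImplicit false
open Cfsg

namespace Cfsg.Agent.S3951

open Cfsg.Agent.Helper3
open scoped commutatorElement

/-- The bilinear map `((a, b), (a', b')) ↦ a b'`. -/
def bi (m n : ℕ) (hnm : n ∣ m) : BiAdd (Multiplicative (ZMod m × ZMod n)) (ZMod n) where
  toFun x y := ZMod.castHom hnm (ZMod n) (Multiplicative.toAdd x).1 * (Multiplicative.toAdd y).2
  map_mul_left x y z := by
    rw [toAdd_mul, Prod.fst_add, map_add]; ring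
  map_mul_right x y z := by
    rw [toAdd_mul, Prod.snd_add]; ring

theorem upper (m n : ℕ) [NeZero m] [NeZero n] (Γ : Type) [Group Γ] [Finite Γ]
    (σ : Γ →* Multiplicative (ZMod m × ZMod n)) (hσ : Cfsg.IsStemExtension σ) :
    ∃ π : Multiplicative (ZMod n) →* σ.ker, Function.Surjective π := by
  obtain ⟨x, hx⟩ := hσ.1 (Multiplicative.ofAdd ((1 : ZMod m), (0 : ZMod n)))
  obtain ⟨y, hy⟩ := hσ.1 (Multiplicative.ofAdd ((0 : ZMod m), (1 : ZMod n)))
  -- the derived subgroup lies in the kernel
  have hder : commutator Γ ≤ σ.ker := by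
    rw [commutator_eq_closure, Subgroup.closure_le]
    rintro _ ⟨u, v, rfl⟩
    rw [SetLike.mem_coe, MonoidHom.mem_ker, map_commutatorElement, commutatorElement_eq_one_iff_mul_comm]
    exact mul_comm _ _
  have hcen : ∀ z ∈ σ.ker, ∀ g : Γ, g * z = z * g := by
    intro z hz g
    exact (Subgroup.mem_center_iff.mp (hσ.2.1 hz)) g
  set c : Γ := ⁅x, y⁆ with hc
  have hcker : c ∈ σ.ker := hder (Subgroup.commutator_mem_commutator (Subgroup.mem_top _) (Subgroup.mem_top _))
  have hCn : (Subgroup.zpowers c).Normal := by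
    constructor
    intro w hw g
    have hwk : w ∈ σ.ker := by
      obtain ⟨k, rfl⟩ := Subgroup.mem_zpowers_iff.mp hw
      exact Subgroup.zpow_mem _ hcker k
    rw [hcen w hwk g, mul_inv_cancel_right]
    exact hw
  -- generators
  have hS : Subgroup.closure (({x, y} : Set Γ) ∪ (σ.ker : Set Γ)) = ⊤ := by
    rw [eq_top_iff]
    intro γ _
    have hxm : x ∈ Subgroup.closure (({x, y} : Set Γ) ∪ (σ.ker : Set Γ)) :=
      Subgroup.subset_closure (Or.inl (Or.inl rfl))
    have hym : y ∈ Subgroup.closure (({x, y} : Set Γ) ∪ (σ.ker : Set Γ)) :=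
      Subgroup.subset_closure (Or.inl (Or.inr rfl))
    set a := (Multiplicative.toAdd (σ γ)).1 with ha
    set b := (Multiplicative.toAdd (σ γ)).2 with hb
    have hσw : σ (x ^ a.val * y ^ b.val) = σ γ := by
      rw [map_mul, map_pow, map_pow, hx, hy, ← ofAdd_nsmul, ← ofAdd_nsmul, ← ofAdd_add]
      apply congrArg Multiplicative.ofAdd
      apply Prod.ext
      · simp [ha]; rfl
      · simp [hb]; rfl
    have hz : (x ^ a.val * y ^ b.val)⁻¹ * γ ∈ σ.ker := by
      rw [MonoidHom.mem_ker, map_mul, map_inv, hσw, inv_mul_cancel]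
    have : γ = (x ^ a.val * y ^ b.val) * ((x ^ a.val * y ^ b.val)⁻¹ * γ) := by
      rw [mul_inv_cancel_left]
    rw [this]
    exact Subgroup.mul_mem _ (Subgroup.mul_mem _ (Subgroup.pow_mem _ hxm _) (Subgroup.pow_mem _ hym _))
      (Subgroup.subset_closure (Or.inr hz))
  have hpairs : ∀ s ∈ (({x, y} : Set Γ) ∪ (σ.ker : Set Γ)), ∀ t ∈ (({x, y} : Set Γ) ∪ (σ.ker : Set Γ)),
      ⁅s, t⁆ ∈ Subgroup.zpowers c := by
    intro s hs t ht
    rcases hs with hs | hs
    · rcases ht with ht | ht
      · rcases hs with rfl | hs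
        · rcases ht with rfl | ht
          · rw [commutatorElement_self]; exact Subgroup.one_mem _
          · rw [Set.mem_singleton_iff] at ht
            rw [ht]; exact Subgroup.mem_zpowers c
        · rw [Set.mem_singleton_iff] at hs
          rcases ht with rfl | ht
          · rw [hs, ← commutatorElement_inv]
            exact Subgroup.inv_mem _ (Subgroup.mem_zpowers c)
          · rw [Set.mem_singleton_iff] at ht
            rw [hs, ht, commutatorElement_self]; exact Subgroup.one_mem _
      · have : ⁅s, t⁆ = 1 := by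
          rw [commutatorElement_eq_one_iff_mul_comm]
          exact hcen t ht s
        rw [this]; exact Subgroup.one_mem _
    · have : ⁅s, t⁆ = 1 := by
        rw [commutatorElement_eq_one_iff_mul_comm]
        exact (hcen s hs t).symm
      rw [this]; exact Subgroup.one_mem _
  have hle : σ.ker ≤ Subgroup.zpowers c :=
    hσ.2.2.trans (commutator_le_of_generators (Subgroup.zpowers c) _ hS hpairs)
  -- `c ^ n = 1`
  have hyn : y ^ n ∈ σ.ker := by
    rw [MonoidHom.mem_ker, map_pow, hy, ← ofAdd_nsmul]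
    have : n • ((0 : ZMod m), (1 : ZMod n)) = 0 := by
      apply Prod.ext
      · simp
      · simp
    rw [this, ofAdd_zero]
  have hcn : c ^ n = 1 := by
    have h1 : x * y * x⁻¹ = c * y := by
      rw [hc, commutatorElement_def, inv_mul_cancel_right]
    have h2 : (x * y * x⁻¹) ^ n = x * y ^ n * x⁻¹ := conj_pow
    have h3 : (c * y) ^ n = c ^ n * y ^ n := by
      apply Commute.mul_pow
      exact (hcen c hcker y).symm
    rw [h1, h3, hcen _ hyn x, mul_inv_cancel_right] at h2
    exact mul_eq_right.mp h2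
  exact exists_surjective_of_le_zpowers σ.ker c n hcn hle

/-- For positive integers `m` and `n` with `n` dividing `m`, the Schur multiplier of the abelian group `ZMod m × ZMod n` (written multiplicatively) is cyclic of order `n`. In particular the elementary abelian group of order `p ^ 2` has multiplier of order `p`. -/
theorem result (m n : ℕ) [NeZero m] [NeZero n] (hnm : n ∣ m) : Cfsg.HasCyclicSchurMultiplier (Multiplicative (ZMod m × ZMod n)) n := by
  refine ⟨⟨BiAdd.Ext (bi m n hnm), inferInstance, inferInstance, BiAdd.Ext.proj, ?_, ⟨BiAdd.Ext.kerEquiv⟩⟩, ?_⟩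
  · apply BiAdd.Ext.isStemExtension_proj
    apply closure_eq_top_of_one_mem
    refine ⟨Multiplicative.ofAdd ((1 : ZMod m), (0 : ZMod n)), Multiplicative.ofAdd ((0 : ZMod m), (1 : ZMod n)), ?_⟩
    change (1 : ZMod n) = ZMod.castHom hnm (ZMod n) 1 * 1 - ZMod.castHom hnm (ZMod n) 0 * 0
    rw [map_one, map_zero]; ring
  · intro Γ _ _ σ hσ
    exact upper m n Γ σ hσ

end Cfsg.Agent.S3951
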