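import Mathlib
import Cfsg.Statements.S3952
import Cfsg.Agent.Helper6.Regular
import Cfsg.Agent.Helper6.CentralChar
import Cfsg.Agent.Helper6.IrrBasis
-- import your own Cfsg.Agent.* helpers here

set_option autoImplicit false
open Cfsg

namespace Cfsg.Agent.S3952

open Cfsg.Agent.Helper6

universe u

section
variable {Γ : Type u} [Group Γ]

theorem nontrivial_of_irr {n : ℕ} (ρ : Representation ℂ Γ (Fin n → ℂ)) [ρ.IsIrreducible] :
    Nontrivial (Fin n → ℂ) := by
  by_contra hnt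
  rw [not_nontrivial_iff_subsingleton] at hnt
  have hbt : (⊥ : Subrepresentation ρ) ≠ ⊤ := bot_ne_top
  apply hbt
  apply Subrepresentation.toSubmodule_injective
  exact Subsingleton.elim _ _

theorem smul_id_injective {n : ℕ} (hnt : Nontrivial (Fin n → ℂ)) :
    Function.Injective
      (fun c : ℂ => c • (LinearMap.id : (Fin n → ℂ) →ₗ[ℂ] (Fin n → ℂ))) := by
  intro a b hab
  obtain ⟨v, hv⟩ := exists_ne (0 : Fin n → ℂ)
  have h1 := LinearMap.congr_fun hab v
  simp only [LinearMap.smul_apply, LinearMap.id_apply] at h1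
  exact smul_left_injective ℂ hv h1

/-- Schur: a central subgroup acts by scalars in an irreducible representation. -/
theorem exists_central_hom {n : ℕ} (ρ : Representation ℂ Γ (Fin n → ℂ)) [ρ.IsIrreducible]
    (K : Subgroup Γ) (hK : K ≤ Subgroup.center Γ) :
    ∃ ω : K →* ℂˣ, ∀ k : K, ρ (k : Γ) =
      ((ω k : ℂˣ) : ℂ) • (LinearMap.id : (Fin n → ℂ) →ₗ[ℂ] (Fin n → ℂ)) := by
  have hnt : Nontrivial (Fin n → ℂ) := nontrivial_of_irr ρ
  have hinj := smul_id_injective hnt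
  have hex : ∀ k : K, ∃ c : ℂ, ρ (k : Γ) = c • LinearMap.id := by
    intro k
    apply exists_scalar_of_commute ρ
    intro g
    change ρ k * ρ g = ρ g * ρ k
    rw [← map_mul, ← map_mul, (Subgroup.mem_center_iff.1 (hK k.2) g)]
  choose c hc using hex
  let f : K →* ℂ :=
    { toFun := c
      map_one' := by
        apply hinj
        change c 1 • LinearMap.id = (1 : ℂ) • LinearMap.id
        rw [← hc 1, one_smul, Subgroup.coe_one, map_one]
        rfl
      map_mul' := by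
        intro a b
        apply hinj
        change c (a * b) • LinearMap.id = (c a * c b) • LinearMap.id
        rw [← hc (a * b), Subgroup.coe_mul, map_mul, hc a, hc b]
        change c a • (1 : Module.End ℂ (Fin n → ℂ)) * c b • (1 : Module.End ℂ (Fin n → ℂ)) =
          (c a * c b) • (1 : Module.End ℂ (Fin n → ℂ))
        rw [smul_mul_smul_comm, one_mul] }
  refine ⟨f.toHomUnits, fun k => ?_⟩
  rw [hc k]
  rfl

theorem character_central {n : ℕ} (ρ : Representation ℂ Γ (Fin n → ℂ))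
    (K : Subgroup Γ) (ω : K →* ℂˣ)
    (hω : ∀ k : K, ρ (k : Γ) =
      ((ω k : ℂˣ) : ℂ) • (LinearMap.id : (Fin n → ℂ) →ₗ[ℂ] (Fin n → ℂ))) (k : K) :
    ρ.character (k : Γ) = ((ω k : ℂˣ) : ℂ) * n := by
  unfold Representation.character
  rw [hω k, map_smul, LinearMap.trace_id, Module.finrank_fin_fun, smul_eq_mul]

theorem central_pow_eq_one {n : ℕ} (ρ : Representation ℂ Γ (Fin n → ℂ))
    (K : Subgroup Γ) (ω : K →* ℂˣ)
    (hω : ∀ k : K, ρ (k : Γ) =
      ((ω k : ℂˣ) : ℂ) • (LinearMap.id : (Fin n → ℂ) →ₗ[ℂ] (Fin n → ℂ)))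
    (hK : K ≤ commutator Γ) : ω ^ n = 1 := by
  ext k
  rw [MonoidHom.pow_apply, MonoidHom.one_apply, Units.val_pow_eq_pow_val, Units.val_one]
  let d : Γ →* ℂˣ := MonoidHom.toHomUnits ((LinearMap.det : ((Fin n → ℂ) →ₗ[ℂ] (Fin n → ℂ)) →* ℂ).comp ρ)
  have h1 : (k : Γ) ∈ d.ker := Abelianization.commutator_subset_ker d (hK k.2)
  have h2 : ((d (k : Γ) : ℂˣ) : ℂ) = 1 := by
    rw [MonoidHom.mem_ker.1 h1]; rfl
  have h3 : ((d (k : Γ) : ℂˣ) : ℂ) = LinearMap.det (ρ (k : Γ)) := rfl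
  rw [h3, hω k, LinearMap.det_smul, LinearMap.det_id, mul_one, Module.finrank_fin_fun] at h2
  exact h2

theorem key [Finite Γ] (K : Subgroup Γ) (hKc : K ≤ Subgroup.center Γ)
    (hKd : K ≤ commutator Γ) (ω₀ : K →* ℂˣ) (e : ℕ) (he : ∀ m : ℕ, ω₀ ^ m = 1 → e ∣ m) :
    e ^ 2 ∣ K.index := by
  classical
  have := Fintype.ofFinite Γ
  have : Finite (Cfsg.IrrCharacter Γ) := irr_finite
  have := Fintype.ofFinite (Cfsg.IrrCharacter Γ)
  have hdata : ∀ χ : Cfsg.IrrCharacter Γ, ∃ (n : ℕ) (ρ : Representation ℂ Γ (Fin n → ℂ)),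
      ρ.IsIrreducible ∧ ρ.character = χ.1 := fun χ => χ.2
  choose n ρ hirr hchar using hdata
  have hω : ∀ χ, ∃ ω : K →* ℂˣ, ∀ k : K, ρ χ (k : Γ) =
      ((ω k : ℂˣ) : ℂ) • (LinearMap.id : (Fin (n χ) → ℂ) →ₗ[ℂ] (Fin (n χ) → ℂ)) := by
    intro χ
    have := hirr χ
    exact exists_central_hom (ρ χ) K hKc
  choose ω hω using hω
  have hval : ∀ (χ : Cfsg.IrrCharacter Γ) (k : K), χ.1 (k : Γ) = ((ω χ k : ℂˣ) : ℂ) * n χ := by
    intro χ k
    rw [← hchar χ]
    exact character_central (ρ χ) K (ω χ) (hω χ) k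
  have hdeg : ∀ χ : Cfsg.IrrCharacter Γ, χ.1 1 = n χ := by
    intro χ
    rw [← hchar χ, Representation.char_one, Module.finrank_fin_fun]
  have hpow : ∀ χ, ω χ ^ n χ = 1 := fun χ => central_pow_eq_one (ρ χ) K (ω χ) (hω χ) hKd
  have hcol : ∀ k : K, ∑ χ : Cfsg.IrrCharacter Γ, (n χ : ℂ) * (((ω χ k : ℂˣ) : ℂ) * n χ) =
      if (k : Γ) = 1 then (Nat.card Γ : ℂ) else 0 := by
    intro k
    rw [← sum_degree_mul_irr (k : Γ)]
    apply Finset.sum_congr rfl
    intro χ _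
    rw [hdeg, hval]
  have hsum : ∑ k : K, (((ω₀ k)⁻¹ : ℂˣ) : ℂ) *
      ∑ χ : Cfsg.IrrCharacter Γ, (n χ : ℂ) * (((ω χ k : ℂˣ) : ℂ) * n χ) = Nat.card Γ := by
    simp_rw [hcol]
    rw [Finset.sum_eq_single (1 : K)]
    · simp
    · intro k _ hk
      have : (k : Γ) ≠ 1 := fun h => hk (Subtype.ext h)
      rw [if_neg this, mul_zero]
    · intro h
      exact absurd (Finset.mem_univ _) h
  have hin : ∀ χ, ∑ k : K, (((ω₀ k)⁻¹ : ℂˣ) : ℂ) * ((ω χ k : ℂˣ) : ℂ) =
      if ω χ = ω₀ then (Nat.card K : ℂ) else 0 := by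
    intro χ
    have h1 := sum_hom_units ((Units.coeHom ℂ).comp (ω₀⁻¹ * ω χ))
    have h2 : ((Units.coeHom ℂ).comp (ω₀⁻¹ * ω χ) = 1) ↔ ω χ = ω₀ := by
      constructor
      · intro h
        ext k
        have := DFunLike.congr_fun h k
        simp only [MonoidHom.coe_comp, Function.comp_apply, MonoidHom.mul_apply,
          MonoidHom.inv_apply, Units.coeHom_apply, MonoidHom.one_apply] at this
        have h3 : (ω₀ k)⁻¹ * ω χ k = 1 := Units.ext this
        rw [inv_mul_eq_one] at h3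
        rw [h3]
      · intro h
        rw [h]
        ext k
        simp
    simp only [h2] at h1
    rw [← Nat.card_eq_fintype_card, Nat.cast_ite, Nat.cast_zero] at h1
    rw [← h1]
    apply Finset.sum_congr rfl
    intro k _
    simp
  have hswap : ∑ k : K, (((ω₀ k)⁻¹ : ℂˣ) : ℂ) *
      ∑ χ : Cfsg.IrrCharacter Γ, (n χ : ℂ) * (((ω χ k : ℂˣ) : ℂ) * n χ) =
      ∑ χ : Cfsg.IrrCharacter Γ, ((n χ : ℂ) ^ 2 *
        ∑ k : K, (((ω₀ k)⁻¹ : ℂˣ) : ℂ) * ((ω χ k : ℂˣ) : ℂ)) := by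
    simp_rw [Finset.mul_sum]
    rw [Finset.sum_comm]
    apply Finset.sum_congr rfl
    intro χ _
    apply Finset.sum_congr rfl
    intro k _
    ring
  rw [hsum] at hswap
  simp_rw [hin] at hswap
  have hnat : Nat.card Γ = Nat.card K *
      ∑ χ ∈ Finset.univ.filter (fun χ => ω χ = ω₀), (n χ) ^ 2 := by
    have : (Nat.card Γ : ℂ) = ((Nat.card K *
      ∑ χ ∈ Finset.univ.filter (fun χ => ω χ = ω₀), (n χ) ^ 2 : ℕ) : ℂ) := by
      rw [hswap, Nat.cast_mul, Nat.cast_sum, Finset.mul_sum, Finset.sum_filter]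
      apply Finset.sum_congr rfl
      intro χ _
      split_ifs
      · push_cast; ring
      · simp
    exact_mod_cast this
  have hidx : K.index = ∑ χ ∈ Finset.univ.filter (fun χ => ω χ = ω₀), (n χ) ^ 2 := by
    have h1 := K.index_mul_card
    rw [hnat, mul_comm] at h1
    exact Nat.eq_of_mul_eq_mul_left Nat.card_pos h1
  rw [hidx]
  apply Finset.dvd_sum
  intro χ hχ
  rw [Finset.mem_filter] at hχ
  apply pow_dvd_pow_of_dvd
  apply he
  rw [← hχ.2]
  exact hpow χ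

end

/-- If `A` is the Schur multiplier of the finite group `Q`, then the square of the exponent of `A` divides the order of `Q`. -/
theorem result {Q : Type*} [Group Q] [Finite Q] {A : Type*} [CommGroup A] (hA : Cfsg.HasSchurMultiplier Q A) : Monoid.exponent A ^ 2 ∣ Nat.card Q := by
  obtain ⟨Γ, _, _, σ, hstem, ⟨ψ⟩⟩ := hA.1
  have hfinA : Finite A := Finite.of_equiv σ.ker ψ.toEquiv
  have hne : NeZero (Monoid.exponent A) := ⟨Monoid.exponent_ne_zero_of_finite⟩
  obtain ⟨E⟩ := CommGroup.monoidHom_mulEquiv_of_hasEnoughRootsOfUnity A ℂ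
  obtain ⟨a, ha⟩ := Monoid.exists_orderOf_eq_exponent
    (Monoid.ExponentExists.of_finite (G := A))
  have hord : orderOf (E.symm a) = Monoid.exponent A := by
    rw [MulEquiv.orderOf_eq, ha]
  have hidx : σ.ker.index = Nat.card Q := by
    rw [Subgroup.index_ker, MonoidHom.range_eq_top.2 hstem.1]
    exact Nat.card_congr (Subgroup.topEquiv (G := Q)).toEquiv
  rw [← hidx]
  apply key σ.ker hstem.2.1 hstem.2.2 ((E.symm a).comp ψ.toMonoidHom)
  intro m hm
  rw [← hord]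
  apply orderOf_dvd_of_pow_eq_one
  ext b
  obtain ⟨k, rfl⟩ := ψ.surjective b
  have := DFunLike.congr_fun hm k
  simp only [MonoidHom.pow_apply, MonoidHom.comp_apply, MonoidHom.one_apply] at this
  rw [MonoidHom.pow_apply, MonoidHom.one_apply]
  exact congrArg Units.val this


end Cfsg.Agent.S3952
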