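import Mathlib
import Cfsg.Statements.S3953
import Cfsg.Agent.Helper3.SchurMultA
import Cfsg.Agent.Helper3.SchurMultB
import Cfsg.Agent.Helper3.SchurSylowA
import Cfsg.Agent.Helper3.SchurSylowB
import Cfsg.Agent.S3952
-- import your own Cfsg.Agent.* helpers here

set_option autoImplicit false
open Cfsg

namespace Cfsg.Agent.S3953

open Cfsg.Agent.Helper3.SchurMult

theorem eq_one_of_pow_eq_one_of_mem {A : Type*} [CommGroup A] (p m : ℕ) [Fact p.Prime]
    (hm : Nat.Coprime m p) {a : A} (ha : a ∈ CommGroup.primaryComponent A p) (h : a ^ m = 1) :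
    a = 1 := by
  obtain ⟨n, hn⟩ := CommGroup.mem_primaryComponent_iff_orderOf.1 ha
  have h1 : orderOf a ∣ m := orderOf_dvd_of_pow_eq_one h
  have h2 : Nat.Coprime (orderOf a) m := by
    rw [hn]
    exact (Nat.Coprime.pow_left n hm.symm)
  have h3 : orderOf a = 1 := Nat.Coprime.eq_one_of_dvd h2 h1
  exact orderOf_eq_one_iff.1 h3

/-- the final algebra: a transfer-like pair of maps splits off the `p`-primary component. -/
theorem exists_direct_factor {A B : Type*} [CommGroup A] [CommGroup B] (p m : ℕ) [Fact p.Prime]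
    (hm : Nat.Coprime m p) (hB : IsPGroup p B) (ν : B →* A) (N : A →* B)
    (h : ∀ a, ν (N a) = a ^ m) :
    ∃ C D : Subgroup B, C ⊓ D = ⊥ ∧ C ⊔ D = ⊤ ∧
      Nonempty (CommGroup.primaryComponent A p ≃* C) := by
  let g : CommGroup.primaryComponent A p →* B := N.comp (Subgroup.subtype _)
  have hg : Function.Injective g := by
    rw [injective_iff_map_eq_one]
    intro a ha
    have h1 : ν (N a.1) = 1 := by
      have : N a.1 = 1 := ha
      rw [this, map_one]
    rw [h] at h1
    exact Subtype.ext (eq_one_of_pow_eq_one_of_mem p m hm a.2 h1)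
  refine ⟨g.range, ν.ker, ?_, ?_, ⟨MonoidHom.ofInjective hg⟩⟩
  · rw [eq_bot_iff]
    rintro x ⟨⟨a, rfl⟩, hx⟩
    have h1 : ν (N a.1) = 1 := MonoidHom.mem_ker.1 hx
    rw [h] at h1
    have h2 : a = 1 := Subtype.ext (eq_one_of_pow_eq_one_of_mem p m hm a.2 h1)
    rw [h2, map_one]
    exact Subgroup.one_mem _
  · rw [eq_top_iff]
    rintro x -
    -- `ν x` lies in the primary component
    have h1 : ν x ∈ CommGroup.primaryComponent A p := by
      obtain ⟨k, hk⟩ := hB x
      rw [CommGroup.mem_primaryComponent]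
      exact ⟨k, by rw [← map_pow, hk, map_one]⟩
    obtain ⟨n, hn⟩ := CommGroup.mem_primaryComponent_iff_orderOf.1 h1
    have hcop : Nat.Coprime m (orderOf (ν x)) := by
      rw [hn]
      exact Nat.Coprime.pow_right n hm
    obtain ⟨e, he⟩ := exists_pow_eq_self_of_coprime hcop
    let a : CommGroup.primaryComponent A p := ⟨(ν x) ^ e, Subgroup.pow_mem _ h1 e⟩
    have ha : (a : A) ^ m = ν x := by
      change ((ν x) ^ e) ^ m = ν x
      rw [← pow_mul, mul_comm, pow_mul, he]
    rw [Subgroup.mem_sup]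
    refine ⟨g a, ⟨a, rfl⟩, (g a)⁻¹ * x, ?_, by group⟩
    rw [MonoidHom.mem_ker, map_mul, map_inv]
    change (ν (N a.1))⁻¹ * ν x = 1
    rw [h, ha, inv_mul_cancel]

/-- Let `P` be a Sylow `p`-subgroup of the finite group `G`, let `A` be the Schur multiplier of `G` and `B` that of `P`. Then the `p`-primary component of `A` is isomorphic to a direct factor of `B`: there are subgroups `C` and `D` of `B` meeting trivially and generating `B`, with `C` isomorphic to the `p`-primary component of `A`. -/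
theorem result {G : Type*} [Group G] [Finite G] (p : ℕ) [Fact p.Prime] (P : Sylow p G) {A B : Type*} [CommGroup A] [CommGroup B] (hA : Cfsg.HasSchurMultiplier G A) (hB : Cfsg.HasSchurMultiplier P B) : ∃ C D : Subgroup B, C ⊓ D = ⊥ ∧ C ⊔ D = ⊤ ∧ Nonempty (CommGroup.primaryComponent A p ≃* C) := by
  have hsurj := pres_id_surjective (Q := G)
  obtain ⟨eA⟩ := equiv_of_hasSchurMultiplier hA (id : G → G) hsurj
  obtain ⟨eB₁⟩ := equiv_of_hasSchurMultiplier hB (id : P → P) pres_id_surjective
  obtain ⟨eB₂⟩ := exists_gmult_equiv (preMap (id : G → G) (P : Subgroup G))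
    (preMap_surjective _ _ hsurj)
  obtain ⟨ν, N, hνN⟩ := exists_transfer_mult (id : G → G) (P : Subgroup G) hsurj
  -- `B` is a `p`-group
  have hBp : IsPGroup p B := by
    have h1 := Cfsg.Agent.S3952.result hB
    obtain ⟨k, hk⟩ := (IsPGroup.iff_card (p := p) (G := P)).1 P.2
    rw [hk] at h1
    have h2 : Monoid.exponent B ∣ p ^ k :=
      (dvd_pow_self _ (by norm_num)).trans h1
    obtain ⟨j, _, hj⟩ := (Nat.dvd_prime_pow Fact.out).1 h2
    intro b
    exact ⟨j, by rw [← hj]; exact Monoid.pow_exponent_eq_one b⟩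
  have hm : Nat.Coprime (P : Subgroup G).index p := by
    have : ¬ p ∣ (P : Subgroup G).index := P.not_dvd_index
    exact ((Nat.Prime.coprime_iff_not_dvd Fact.out).2 this).symm
  let νAB : B →* A :=
    eA.toMonoidHom.comp (ν.comp (eB₂.toMonoidHom.comp eB₁.symm.toMonoidHom))
  let NAB : A →* B :=
    eB₁.toMonoidHom.comp (eB₂.symm.toMonoidHom.comp (N.comp eA.symm.toMonoidHom))
  apply exists_direct_factor p (P : Subgroup G).index hm hBp νAB NAB
  intro a
  change eA (ν (eB₂ (eB₁.symm (eB₁ (eB₂.symm (N (eA.symm a))))))) = a ^ (P : Subgroup G).index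
  rw [eB₁.symm_apply_apply, eB₂.apply_symm_apply, hνN, map_pow, eA.apply_symm_apply]


end Cfsg.Agent.S3953
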