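import Mathlib
import Cfsg.Statements.S3954
import Cfsg.Agent.Helper3.SchurMultA
import Cfsg.Agent.Helper3.SchurMultB
-- import your own Cfsg.Agent.* helpers here

set_option autoImplicit false
open Cfsg

namespace Cfsg.Agent.S3954

open Cfsg.Agent.Helper3.SchurMult

/-- a quotient of a finite abelian group embeds in it (by duality). -/
theorem exists_injective_of_surjective {B : Type*} [CommGroup B] [Finite B] {T : Type*} [Group T]
    (π : B →* T) (hπ : Function.Surjective π) : ∃ j : T →* B, Function.Injective j := by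
  let _ : CommGroup T :=
    { (inferInstance : Group T) with
      mul_comm := by
        intro a b
        obtain ⟨a', rfl⟩ := hπ a
        obtain ⟨b', rfl⟩ := hπ b
        rw [← map_mul, ← map_mul, mul_comm] }
  have hfinT : Finite T := Finite.of_surjective π hπ
  have hneB : NeZero (Monoid.exponent B) := ⟨Monoid.exponent_ne_zero_of_finite⟩
  have hneT : NeZero (Monoid.exponent T) := ⟨Monoid.exponent_ne_zero_of_finite⟩
  obtain ⟨eB⟩ := CommGroup.monoidHom_mulEquiv_of_hasEnoughRootsOfUnity B ℂ
  obtain ⟨eT⟩ := CommGroup.monoidHom_mulEquiv_of_hasEnoughRootsOfUnity T ℂ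
  refine ⟨eB.toMonoidHom.comp ((MonoidHom.compHom' π).comp eT.symm.toMonoidHom), ?_⟩
  intro x y hxy
  simp only [MonoidHom.coe_comp, MulEquiv.coe_toMonoidHom, Function.comp_apply] at hxy
  have h1 := eB.injective hxy
  apply eT.symm.injective
  ext t
  obtain ⟨b, rfl⟩ := hπ t
  have := DFunLike.congr_fun h1 b
  simp only [MonoidHom.compHom'_apply_apply] at this
  rw [this]

/-- transfer: the `|G:H|`-th power of a central element of `G'` lies in `H'`. -/
theorem pow_index_mem_commutator {Γ : Type*} [Group Γ] (H : Subgroup Γ) [H.FiniteIndex]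
    (a : Γ) (hc : a ∈ Subgroup.center Γ) (hd : a ∈ commutator Γ) :
    ∃ h : a ^ H.index ∈ H, (⟨a ^ H.index, h⟩ : H) ∈ commutator H := by
  have key : ∀ (k : ℕ) (g₀ : Γ), g₀⁻¹ * a ^ k * g₀ ∈ H → g₀⁻¹ * a ^ k * g₀ = a ^ k := by
    intro k g₀ _
    have := Subgroup.mem_center_iff.1 (Subgroup.pow_mem _ hc k) g₀
    rw [mul_assoc, ← this, inv_mul_cancel_left]
  refine ⟨MonoidHom.transfer_eq_pow_aux a key, ?_⟩
  have h1 := MonoidHom.transfer_eq_pow (Abelianization.of : H →* Abelianization H) a key
  have h2 : a ∈ (MonoidHom.transfer (Abelianization.of : H →* Abelianization H)).ker :=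
    Abelianization.commutator_subset_ker _ hd
  rw [MonoidHom.mem_ker, h1] at h2
  rw [← Abelianization.ker_of]
  exact MonoidHom.mem_ker.2 h2

/-- Let `U` be a subgroup of index `m` in the finite group `G`, let `A` be the Schur multiplier of `G` and `B` that of `U`. Then the subgroup of `m`-th powers of `A` is isomorphic to a subgroup of `B`. -/
theorem result {G : Type*} [Group G] [Finite G] (U : Subgroup G) {A B : Type*} [CommGroup A] [CommGroup B] (hA : Cfsg.HasSchurMultiplier G A) (hB : Cfsg.HasSchurMultiplier U B) : ∃ C : Subgroup B, Nonempty ((powMonoidHom U.index : A →* A).range ≃* C) := by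
  obtain ⟨Γ, _, _, σ, hstem, ⟨ψ⟩⟩ := hA.1
  -- the preimage of `U`
  let H : Subgroup Γ := U.comap σ
  let ξ : H →* U := σ.subgroupComap U
  have hξsurj : Function.Surjective ξ := σ.subgroupComap_surjective_of_surjective U hstem.1
  have hξker : ∀ h : H, h ∈ ξ.ker ↔ (h : Γ) ∈ σ.ker := by
    intro h
    rw [MonoidHom.mem_ker, MonoidHom.mem_ker]
    constructor
    · intro hh
      have := congrArg Subtype.val hh
      exact this
    · intro hh
      exact Subtype.ext hh
  have hξc : ξ.ker ≤ Subgroup.center H := by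
    intro h hh
    rw [Subgroup.mem_center_iff]
    intro g
    apply Subtype.ext
    exact Subgroup.mem_center_iff.1 (hstem.2.1 ((hξker h).1 hh)) g.1
  have hidx : H.index = U.index := Subgroup.index_comap_of_surjective U hstem.1
  -- multiplier of `U`
  have hfinB : Finite B := by
    obtain ⟨Δ, _, _, τ, _, ⟨e⟩⟩ := hB.1
    exact Finite.of_equiv τ.ker e.toEquiv
  obtain ⟨e⟩ := equiv_of_hasSchurMultiplier hB (id : U → U) pres_id_surjective
  obtain ⟨φ, hφ⟩ := cov_lift (id : U → U) ξ hξsurj hξc
  have hmap := map_mult_eq (id : U → U) ξ hξc φ hφ pres_id_surjective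
  let T : Subgroup H := ξ.ker ⊓ commutator H
  let π : B →* T := ((φ.comp (mult (id : U → U)).subtype).codRestrict T (by
    intro m
    change φ m.1 ∈ ξ.ker ⊓ commutator H
    rw [← hmap]
    exact Subgroup.mem_map_of_mem _ m.2)).comp e.symm.toMonoidHom
  have hπ : Function.Surjective π := by
    rintro ⟨t, ht⟩
    have : t ∈ (mult (id : U → U)).map φ := by rw [hmap]; exact ht
    obtain ⟨m, hm, rfl⟩ := this
    refine ⟨e ⟨m, hm⟩, ?_⟩
    apply Subtype.ext
    change φ ((e.symm (e ⟨m, hm⟩)).1) = φ m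
    rw [e.symm_apply_apply]
  obtain ⟨j, hj⟩ := exists_injective_of_surjective π hπ
  -- the embedding of `A^m` into `T`
  have hle : σ.ker ≤ H := by
    intro k hk
    change σ k ∈ U
    rw [MonoidHom.mem_ker.1 hk]
    exact U.one_mem
  let g : (powMonoidHom U.index : A →* A).range →* H :=
    (Subgroup.inclusion hle).comp (ψ.symm.toMonoidHom.comp (Subgroup.subtype _))
  have hg : ∀ x, g x ∈ T := by
    rintro ⟨x, a, rfl⟩
    have hfi : H.FiniteIndex := Subgroup.finiteIndex_of_finite_quotient
    obtain ⟨h1, h2⟩ := pow_index_mem_commutator H (ψ.symm a : Γ) (hstem.2.1 (ψ.symm a).2)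
      (hstem.2.2 (ψ.symm a).2)
    have heq : g ⟨powMonoidHom U.index a, a, rfl⟩ = ⟨(ψ.symm a : Γ) ^ H.index, h1⟩ := by
      apply Subtype.ext
      change ((ψ.symm (a ^ U.index) : σ.ker) : Γ) = (ψ.symm a : Γ) ^ H.index
      rw [map_pow, hidx]
      rfl
    rw [heq]
    refine ⟨?_, h2⟩
    exact (hξker _).2 (Subgroup.pow_mem _ (ψ.symm a).2 _)
  let ι : (powMonoidHom U.index : A →* A).range →* T := g.codRestrict T hg
  have hι : Function.Injective ι := by
    intro x y hxy
    have h1 : (g x : Γ) = (g y : Γ) := congrArg (fun t : T => ((t : H) : Γ)) hxy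
    have h2 : ψ.symm x.1 = ψ.symm y.1 := Subtype.ext h1
    exact Subtype.ext (ψ.symm.injective h2)
  have hinj : Function.Injective (j.comp ι) := hj.comp hι
  exact ⟨(j.comp ι).range, ⟨MonoidHom.ofInjective hinj⟩⟩


end Cfsg.Agent.S3954
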