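import Mathlib
import Cfsg.Statements.S3956
import Cfsg.Agent.Helper3.SchurMultF
-- import your own Cfsg.Agent.* helpers here

set_option autoImplicit false
universe u v
open Cfsg

namespace Cfsg.Agent.S3956

open Cfsg.Agent.Helper3.SchurMult

/-- Let `σ : Γ →* Q` be a finite stem extension of the finite group `Q` such that every homomorphism from `Q` to the quotient of `GL n ℂ` by its centre, for every `n`, lifts along `σ` to a homomorphism `Γ →* GL n ℂ`. Then `σ` is a Schur covering group of `Q`: for every finite stem extension `τ : Δ →* Q` with `Δ` in the same universe as `Q`, the kernel of `τ` is a homomorphic image of the kernel of `σ`. -/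
theorem result {Q : Type u} [Group Q] [Finite Q] {Γ : Type v} [Group Γ] [Finite Γ] (σ : Γ →* Q) (hσ : Cfsg.IsStemExtension σ) (hlift : ∀ (n : ℕ) (γ : Q →* (GL (Fin n) ℂ ⧸ Subgroup.center (GL (Fin n) ℂ))), ∃ ρ : Γ →* GL (Fin n) ℂ, (QuotientGroup.mk' (Subgroup.center (GL (Fin n) ℂ))).comp ρ = γ.comp σ) (Δ : Type u) [Group Δ] [Finite Δ] (τ : Δ →* Q) (hτ : Cfsg.IsStemExtension τ) : ∃ π : σ.ker →* τ.ker, Function.Surjective π := by
  have hsurj := pres_id_surjective (Q := Q)
  obtain ⟨φ, hφ⟩ := cov_lift (id : Q → Q) σ hσ.1 hσ.2.1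
  have hφ' : ∀ c, σ (φ c) = covMap (id : Q → Q) c := fun c => DFunLike.congr_fun hφ c
  have hN : φ.ker ≤ (covMap (id : Q → Q)).ker := by
    intro c hc
    rw [MonoidHom.mem_ker] at hc ⊢
    rw [← hφ', hc, map_one]
  obtain ⟨S, hS0, hS2, hS4⟩ := exists_complement_in (id : Q → Q) φ.ker hN
  have hS1 : S ≤ (covMap (id : Q → Q)).ker := hS0.trans hN
  have hn : S.Normal := normal_of_le_center S (hS1.trans (covKer_le_center _))
  have hmap := map_mult_eq (id : Q → Q) σ hσ.2.1 φ hφ hsurj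
  rw [inf_eq_left.2 hσ.2.2] at hmap
  have hS3 : (covMap (id : Q → Q)).ker ≤ S ⊔ mult (id : Q → Q) := by
    intro c hc
    have h1 : φ c ∈ σ.ker := by
      rw [MonoidHom.mem_ker, hφ']; exact hc
    rw [← hmap] at h1
    obtain ⟨m, hm, hmc⟩ := h1
    have h2 : c * m⁻¹ ∈ φ.ker := by
      rw [MonoidHom.mem_ker, map_mul, map_inv, hmc, mul_inv_cancel]
    have h3 : c * m⁻¹ ∈ S ⊔ mult (id : Q → Q) := by
      refine (sup_le_sup_left ?_ S) (hS4 h2)
      exact inf_le_inf_right _ hN
    have : c = c * m⁻¹ * m := by group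
    rw [this]
    exact Subgroup.mul_mem _ h3 (Subgroup.mem_sup_right hm)
  have hfin : Finite (Cov (id : Q → Q) ⧸ S) := cover_finite _ S hS1 hS2 hS3 hsurj
  have hstem := coverMap_isStem (id : Q → Q) S hS1 hS3 hsurj
  let β : Cov (id : Q → Q) ⧸ S →* Γ := QuotientGroup.lift S φ hS0
  have hβ : σ.comp β = coverMap (id : Q → Q) S hS1 := by
    apply MonoidHom.ext
    intro x
    obtain ⟨c, rfl⟩ := QuotientGroup.mk_surjective x
    exact hφ' c
  have hβker := ker_eq_bot_of_lifts (coverMap (id : Q → Q) S hS1) hstem σ β hβ hlift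
  have hkerS : φ.ker ≤ S := by
    intro c hc
    have : (QuotientGroup.mk c : Cov (id : Q → Q) ⧸ S) ∈ β.ker := by
      rw [MonoidHom.mem_ker]
      exact MonoidHom.mem_ker.1 hc
    rw [hβker, Subgroup.mem_bot] at this
    exact (QuotientGroup.eq_one_iff c).1 this
  let ψ : mult (id : Q → Q) →* σ.ker :=
    { toFun := fun m => ⟨φ m.1, by rw [← hmap]; exact Subgroup.mem_map_of_mem _ m.2⟩
      map_one' := by apply Subtype.ext; simp
      map_mul' := by intro a b; apply Subtype.ext; simp }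
  have hψbij : Function.Bijective ψ := by
    constructor
    · rw [injective_iff_map_eq_one]
      intro m hm
      have h1 : φ m.1 = 1 := congrArg Subtype.val hm
      have h2 : m.1 ∈ S ⊓ commutator (Cov (id : Q → Q)) :=
        ⟨hkerS (MonoidHom.mem_ker.2 h1), m.2.2⟩
      rw [hS2, Subgroup.mem_bot] at h2
      exact Subtype.ext h2
    · rintro ⟨k, hk⟩
      rw [← hmap] at hk
      obtain ⟨m, hm, rfl⟩ := hk
      exact ⟨⟨m, hm⟩, rfl⟩
  let eψ : mult (id : Q → Q) ≃* σ.ker := MulEquiv.ofBijective ψ hψbij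
  obtain ⟨π₂, hπ₂⟩ := exists_surjective_mult_ker (id : Q → Q) τ hτ hsurj
  exact ⟨π₂.comp eψ.symm.toMonoidHom, hπ₂.comp eψ.symm.surjective⟩


end Cfsg.Agent.S3956
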