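import Mathlib
import Cfsg.Statements.S3957
import Cfsg.Agent.Helper3.SchurMultB
-- import your own Cfsg.Agent.* helpers here

set_option autoImplicit false
universe u v
open Cfsg

namespace Cfsg.Agent.S3957

open Cfsg.Agent.Helper3.SchurMult

/-- Let `Q` be a finite group with Schur multiplier `A` and let `τ : Δ →* Q` be a finite stem extension, `Δ` in the universe of `Q`. Then there is a finite stem extension `σ : Γ →* Q` with kernel isomorphic to `A` (a Schur covering group) and a surjective homomorphism `β : Γ →* Δ` with `τ ∘ β = σ`. -/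
theorem result {Q : Type u} [Group Q] [Finite Q] {A : Type v} [CommGroup A] (hA : Cfsg.HasSchurMultiplier Q A) {Δ : Type u} [Group Δ] [Finite Δ] (τ : Δ →* Q) (hτ : Cfsg.IsStemExtension τ) : ∃ (Γ : Type u) (_ : Group Γ) (_ : Finite Γ) (σ : Γ →* Q), Cfsg.IsStemExtension σ ∧ Nonempty (σ.ker ≃* A) ∧ ∃ β : Γ →* Δ, Function.Surjective β ∧ τ.comp β = σ := by
  have hsurj := pres_id_surjective (Q := Q)
  obtain ⟨φ, hφ⟩ := cov_lift (id : Q → Q) τ hτ.1 hτ.2.1
  have hφ' : ∀ c, τ (φ c) = covMap (id : Q → Q) c := fun c => DFunLike.congr_fun hφ c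
  have hφsurj := lift_surjective_of_stem (id : Q → Q) τ hτ φ hφ hsurj
  have hN : φ.ker ≤ (covMap (id : Q → Q)).ker := by
    intro c hc
    rw [MonoidHom.mem_ker] at hc ⊢
    rw [← hφ', hc, map_one]
  obtain ⟨S, hS0, hS2, hS4⟩ := exists_complement_in (id : Q → Q) φ.ker hN
  have hS1 : S ≤ (covMap (id : Q → Q)).ker := hS0.trans hN
  have hn : S.Normal := normal_of_le_center S (hS1.trans (covKer_le_center _))
  have hmap := map_mult_eq (id : Q → Q) τ hτ.2.1 φ hφ hsurj
  rw [inf_eq_left.2 hτ.2.2] at hmap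
  have hS3 : (covMap (id : Q → Q)).ker ≤ S ⊔ mult (id : Q → Q) := by
    intro c hc
    have h1 : φ c ∈ τ.ker := by
      rw [MonoidHom.mem_ker, hφ']; exact hc
    rw [← hmap] at h1
    obtain ⟨m, hm, hmc⟩ := h1
    have h2 : c * m⁻¹ ∈ φ.ker := by
      rw [MonoidHom.mem_ker, map_mul, map_inv, hmc, mul_inv_cancel]
    have h3 : c * m⁻¹ ∈ S ⊔ mult (id : Q → Q) := by
      refine (sup_le_sup_left ?_ S) (hS4 h2)
      exact inf_le_inf_right _ hN
    have : c = c * m⁻¹ * m := by group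
    rw [this]
    exact Subgroup.mul_mem _ h3 (Subgroup.mem_sup_right hm)
  obtain ⟨e⟩ := mult_equiv_ker (id : Q → Q) S hS1 hS2 hS3
  obtain ⟨e'⟩ := equiv_of_hasSchurMultiplier hA (id : Q → Q) hsurj
  refine ⟨Cov (id : Q → Q) ⧸ S, inferInstance, cover_finite _ S hS1 hS2 hS3 hsurj,
    coverMap _ S hS1, coverMap_isStem _ S hS1 hS3 hsurj, ⟨e.symm.trans e'⟩,
    QuotientGroup.lift S φ hS0, ?_, ?_⟩
  · intro d
    obtain ⟨c, rfl⟩ := hφsurj d
    exact ⟨QuotientGroup.mk c, rfl⟩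
  · apply MonoidHom.ext
    intro x
    obtain ⟨c, rfl⟩ := QuotientGroup.mk_surjective x
    exact hφ' c


end Cfsg.Agent.S3957
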