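import Mathlib
import Cfsg.Statements.S3958
import Cfsg.Agent.Helper3.SchurMultC
-- import your own Cfsg.Agent.* helpers here

set_option autoImplicit false
universe u v
open Cfsg

namespace Cfsg.Agent.S3958

open Cfsg.Agent.Helper3.SchurMult

/-- Let `σ : Γ →* Q` be a finite stem extension of the finite group `Q` with `Γ` of trivial Schur multiplier. Then `σ` is a Schur covering group of `Q`: for every finite stem extension `τ : Δ →* Q` with `Δ` in the same universe as `Q`, the kernel of `τ` is a homomorphic image of the kernel of `σ`. -/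
theorem result {Q : Type u} [Group Q] [Finite Q] {Γ : Type v} [Group Γ] [Finite Γ] (σ : Γ →* Q) (hσ : Cfsg.IsStemExtension σ) (hΓ : Cfsg.HasCyclicSchurMultiplier Γ 1) (Δ : Type u) [Group Δ] [Finite Δ] (τ : Δ →* Q) (hτ : Cfsg.IsStemExtension τ) : ∃ π : σ.ker →* τ.ker, Function.Surjective π := by
  -- presentations
  set p : FreeGroup Γ →* Γ := pres (id : Γ → Γ) with hp
  have hpsurj : Function.Surjective p := pres_id_surjective
  have hpres : pres (⇑σ : Γ → Q) = σ.comp p := by
    apply FreeGroup.ext_hom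
    intro x
    simp [pres, hp]
  have hsurj : Function.Surjective (pres (⇑σ : Γ → Q)) := by
    rw [hpres]; exact hσ.1.comp hpsurj
  -- trivial multiplier of Γ
  have hbot : mult (id : Γ → Γ) = ⊥ := by
    obtain ⟨e⟩ := equiv_of_hasSchurMultiplier hΓ (id : Γ → Γ) hpsurj
    rw [Subgroup.eq_bot_iff_forall]
    intro x hx
    have : (⟨x, hx⟩ : mult (id : Γ → Γ)) = 1 := by
      apply e.injective
      exact Subsingleton.elim _ _
    exact congrArg Subtype.val this
  -- the explicit lift
  have hker : relComm (⇑σ : Γ → Q) ≤ p.ker := by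
    unfold relComm
    rw [Subgroup.commutator_le]
    intro a _ b hb
    rw [MonoidHom.mem_ker, map_commutatorElement, commutatorElement_eq_one_iff_commute]
    have hb' : p b ∈ σ.ker := by
      rw [MonoidHom.mem_ker]
      have : pres (⇑σ : Γ → Q) b = 1 := hb
      rw [hpres] at this
      exact this
    exact (Subgroup.mem_center_iff.1 (hσ.2.1 hb') (p a))
  let φ : Cov (⇑σ : Γ → Q) →* Γ := QuotientGroup.lift (relComm (⇑σ : Γ → Q)) p hker
  have hφ : σ.comp φ = covMap (⇑σ : Γ → Q) := by
    apply MonoidHom.ext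
    intro c
    obtain ⟨a, rfl⟩ := QuotientGroup.mk_surjective c
    change σ (p a) = pres (⇑σ : Γ → Q) a
    rw [hpres]; rfl
  have hmap := map_mult_eq (⇑σ : Γ → Q) σ hσ.2.1 φ hφ hsurj
  rw [inf_eq_left.2 hσ.2.2] at hmap
  -- φ restricted to mult is injective
  have hinj : ∀ m ∈ mult (⇑σ : Γ → Q), φ m = 1 → m = 1 := by
    intro m hm hm1
    obtain ⟨a, rfl⟩ := QuotientGroup.mk_surjective m
    have ha1 : a ∈ commutator (FreeGroup Γ) := ((mk_mem_mult_iff _ a).1 hm).2
    have ha2 : p a = 1 := hm1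
    have h3 : (QuotientGroup.mk a : Cov (id : Γ → Γ)) ∈ mult (id : Γ → Γ) :=
      (mk_mem_mult_iff _ a).2 ⟨ha2, ha1⟩
    rw [hbot, Subgroup.mem_bot] at h3
    have h4 : a ∈ relComm (id : Γ → Γ) := (QuotientGroup.eq_one_iff a).1 h3
    have h5 : relComm (id : Γ → Γ) ≤ relComm (⇑σ : Γ → Q) := by
      unfold relComm
      apply Subgroup.commutator_mono le_rfl
      intro b hb
      rw [MonoidHom.mem_ker] at hb ⊢
      rw [hpres, MonoidHom.comp_apply]
      have : p b = 1 := hb
      rw [this, map_one]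
    exact (QuotientGroup.eq_one_iff a).2 (h5 h4)
  let ψ : mult (⇑σ : Γ → Q) →* σ.ker :=
    { toFun := fun m => ⟨φ m.1, by rw [← hmap]; exact Subgroup.mem_map_of_mem _ m.2⟩
      map_one' := by apply Subtype.ext; simp
      map_mul' := by intro a b; apply Subtype.ext; simp }
  have hψbij : Function.Bijective ψ := by
    constructor
    · rw [injective_iff_map_eq_one]
      intro m hm
      apply Subtype.ext
      exact hinj m.1 m.2 (congrArg Subtype.val hm)
    · rintro ⟨k, hk⟩
      rw [← hmap] at hk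
      obtain ⟨m, hm, rfl⟩ := hk
      exact ⟨⟨m, hm⟩, rfl⟩
  let eψ : mult (⇑σ : Γ → Q) ≃* σ.ker := MulEquiv.ofBijective ψ hψbij
  obtain ⟨π₂, hπ₂⟩ := exists_surjective_mult_ker (⇑σ : Γ → Q) τ hτ hsurj
  exact ⟨π₂.comp eψ.symm.toMonoidHom, hπ₂.comp eψ.symm.surjective⟩


end Cfsg.Agent.S3958
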