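import Mathlib
import Cfsg.Statements.S3959
import Cfsg.Agent.Helper3.SchurMultA
import Cfsg.Agent.Helper3.SchurMultB
import Cfsg.Agent.Helper3.SchurMultD
import Cfsg.Agent.Helper3.SchurKunnethA
import Cfsg.Agent.Helper3.SchurKunnethB
-- import your own Cfsg.Agent.* helpers here

set_option autoImplicit false
universe u v w
open Cfsg

namespace Cfsg.Agent.S3959

open Cfsg.Agent.Helper3.SchurMult

/-- Let `Q₁` and `Q₂` be finite groups with Schur multipliers `A` and `B`. Then the Schur multiplier of `Q₁ × Q₂` is isomorphic to `A × B × (Q₁ᵃᵇ ⊗ Q₂ᵃᵇ)`, the last factor being the tensor product over the integers of the commutator quotients, written multiplicatively. -/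
theorem result {Q₁ : Type u} {Q₂ : Type v} [Group Q₁] [Group Q₂] [Finite Q₁] [Finite Q₂] {A B : Type w} [CommGroup A] [CommGroup B] (hA : Cfsg.HasSchurMultiplier Q₁ A) (hB : Cfsg.HasSchurMultiplier Q₂ B) : Cfsg.HasSchurMultiplier (Q₁ × Q₂) (A × B × Multiplicative (TensorProduct ℤ (Additive (Abelianization Q₁)) (Additive (Abelianization Q₂)))) := by
  obtain ⟨Γ₁, _, _, σ₁, h₁, ⟨e₁⟩⟩ := hA.1
  obtain ⟨Γ₂, _, _, σ₂, h₂, ⟨e₂⟩⟩ := hB.1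
  refine ⟨?_, ?_⟩
  · exact ⟨Tw σ₁ σ₂, inferInstance, finite_Tw σ₁ σ₂, twMap σ₁ σ₂, twMap_isStem σ₁ σ₂ h₁ h₂,
      ⟨twKerEquiv σ₁ σ₂ e₁ e₂⟩⟩
  · intro Δ _ _ τ hτ
    obtain ⟨ρ₁, hρ₁⟩ := exists_hom_left τ hA hτ.1 hτ.2.1
    obtain ⟨ρ₂, hρ₂⟩ := exists_hom_right τ hB hτ.1 hτ.2.1
    obtain ⟨θ, hθ1, hθ2⟩ := exists_pairing_hom τ hτ.1 hτ.2.1
    let _ : CommGroup τ.ker := commGroupOfCentral _ hτ.2.1
    let ρ₁' : A →* τ.ker := ρ₁.codRestrict τ.ker (fun a => by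
      have : ρ₁ a ∈ ρ₁.range := ⟨a, rfl⟩
      rw [hρ₁] at this
      exact this.1)
    let ρ₂' : B →* τ.ker := ρ₂.codRestrict τ.ker (fun b => by
      have : ρ₂ b ∈ ρ₂.range := ⟨b, rfl⟩
      rw [hρ₂] at this
      exact this.1)
    let θ' : Multiplicative (TT Q₁ Q₂) →* τ.ker := θ.codRestrict τ.ker (fun t => hθ1 ⟨t, rfl⟩)
    refine ⟨ρ₁'.coprod (ρ₂'.coprod θ'), ?_⟩
    rintro ⟨k, hk⟩
    obtain ⟨u, hu, v, hv, w, hw, rfl⟩ := ker_decomp τ hτ k hk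
    rw [← hρ₁] at hu
    rw [← hρ₂] at hv
    obtain ⟨a, rfl⟩ := hu
    obtain ⟨b, rfl⟩ := hv
    obtain ⟨t, rfl⟩ := hθ2 hw
    refine ⟨(a, b, t), ?_⟩
    apply Subtype.ext
    rw [MonoidHom.coprod_apply, MonoidHom.coprod_apply]
    change ρ₁ a * (ρ₂ b * θ t) = ρ₁ a * ρ₂ b * θ t
    rw [mul_assoc]


end Cfsg.Agent.S3959
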