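import Mathlib
import Cfsg.Statements.S3960
import Cfsg.Agent.Helper3.SchurMultC
-- import your own Cfsg.Agent.* helpers here

set_option autoImplicit false
universe u
open Cfsg

namespace Cfsg.Agent.S3960

open Cfsg.Agent.Helper3.SchurMult
open scoped commutatorElement

/-- A finite perfect group `Q` has a universal central extension: a finite perfect group `G` in the universe of `Q` and a surjective homomorphism `π : G →* Q` with central kernel such that for every group `X` in that universe and every surjective homomorphism `ξ : X →* Q` with central kernel there is exactly one homomorphism `η : G →* X` with `ξ ∘ η = π`. -/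
theorem result {Q : Type u} [Group Q] [Finite Q] (hQ : Group.IsPerfect Q) : ∃ (G : Type u) (_ : Group G) (_ : Finite G) (π : G →* Q), Group.IsPerfect G ∧ Function.Surjective π ∧ π.ker ≤ Subgroup.center G ∧ ∀ (X : Type u) [Group X] (ξ : X →* Q), Function.Surjective ξ → ξ.ker ≤ Subgroup.center X → ∃! η : G →* X, ξ.comp η = π := by
  have hsurj := pres_id_surjective (Q := Q)
  set C := Cov (id : Q → Q) with hC
  set κ : C →* Q := covMap (id : Q → Q) with hκ
  have hκsurj : Function.Surjective κ := covMap_surjective _ hsurj
  set H : Subgroup C := commutator C with hH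
  -- every element of Q is the image of an element of H
  have hHsurj : ∀ q : Q, ∃ d ∈ H, κ d = q := by
    intro q
    have hq : q ∈ commutator Q := by rw [hQ.commutator_eq_top]; exact Subgroup.mem_top q
    have hmap : (commutator C).map κ = commutator Q := by
      rw [commutator_def, Subgroup.map_commutator, ← MonoidHom.range_eq_map,
        MonoidHom.range_eq_top.2 hκsurj, commutator_def]
    rw [← hmap] at hq
    obtain ⟨d, hd, rfl⟩ := hq
    exact ⟨d, hd, rfl⟩
  have hdecomp : ∀ c : C, ∃ d ∈ H, d⁻¹ * c ∈ Subgroup.center C := by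
    intro c
    obtain ⟨d, hd, hdc⟩ := hHsurj (κ c)
    refine ⟨d, hd, covKer_le_center _ ?_⟩
    rw [MonoidHom.mem_ker, map_mul, map_inv]
    change (κ d)⁻¹ * κ c = 1
    rw [hdc, inv_mul_cancel]
  have hperf : ⁅H, H⁆ = H := by
    apply le_antisymm
    · exact Subgroup.commutator_le_left H H
    · rw [hH, commutator_eq_closure, Subgroup.closure_le]
      rintro _ ⟨c₁, c₂, rfl⟩
      obtain ⟨d₁, hd₁, h1⟩ := hdecomp c₁
      obtain ⟨d₂, hd₂, h2⟩ := hdecomp c₂
      have e1 : c₁ = d₁ * (d₁⁻¹ * c₁) := by group
      have e2 : c₂ = d₂ * (d₂⁻¹ * c₂) := by group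
      rw [e1, e2, comm_mul_central_left h1, comm_mul_central_right h2]
      rw [← commutator_eq_closure]
      exact Subgroup.commutator_mem_commutator hd₁ hd₂
  have hfin : Finite H := commutator_finite _ hsurj
  have hGperf : Group.IsPerfect H := Subgroup.isPerfect_iff.2 hperf
  let π : H →* Q := κ.comp H.subtype
  refine ⟨H, inferInstance, hfin, π, hGperf, ?_, ?_, ?_⟩
  · intro q
    obtain ⟨d, hd, hdq⟩ := hHsurj q
    exact ⟨⟨d, hd⟩, hdq⟩
  · intro k hk
    rw [Subgroup.mem_center_iff]
    intro g
    apply Subtype.ext
    have : k.1 ∈ Subgroup.center C := covKer_le_center _ (MonoidHom.mem_ker.2 (MonoidHom.mem_ker.1 hk))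
    exact Subgroup.mem_center_iff.1 this g.1
  · intro X _ ξ hξ hξc
    obtain ⟨φ, hφ⟩ := cov_lift (id : Q → Q) ξ hξ hξc
    refine ⟨φ.comp H.subtype, ?_, ?_⟩
    · change ξ.comp (φ.comp H.subtype) = κ.comp H.subtype
      rw [← MonoidHom.comp_assoc, hφ]
    · intro η hη
      have hη' : ∀ g : H, ξ (η g) = κ g.1 := fun g => DFunLike.congr_fun hη g
      have hφ' : ∀ c : C, ξ (φ c) = κ c := fun c => DFunLike.congr_fun hφ c
      have hcent : ∀ g : H, η g * (φ g.1)⁻¹ ∈ Subgroup.center X := by
        intro g
        apply hξc
        rw [MonoidHom.mem_ker, map_mul, map_inv, hη', hφ', mul_inv_cancel]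
      let δ : H →* X :=
        { toFun := fun g => η g * (φ g.1)⁻¹
          map_one' := by simp
          map_mul' := by
            intro a b
            have hb := Subgroup.mem_center_iff.1 (hcent b)
            simp only [map_mul, Subgroup.coe_mul, mul_inv_rev]
            calc η a * η b * ((φ b.1)⁻¹ * (φ a.1)⁻¹)
                = η a * (η b * (φ b.1)⁻¹) * (φ a.1)⁻¹ := by group
              _ = η a * ((φ a.1)⁻¹ * (η b * (φ b.1)⁻¹)) := by
                rw [mul_assoc, hb (φ a.1)⁻¹]
              _ = η a * (φ a.1)⁻¹ * (η b * (φ b.1)⁻¹) := by group }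
      have hδ1 : ∀ g : H, δ g = 1 := by
        intro g
        have hg : g ∈ commutator H := by
          rw [hGperf.commutator_eq_top]; exact Subgroup.mem_top g
        have hle : commutator H ≤ δ.ker := by
          rw [commutator_eq_closure, Subgroup.closure_le]
          rintro _ ⟨a, b, rfl⟩
          rw [SetLike.mem_coe, MonoidHom.mem_ker, map_commutatorElement,
            commutatorElement_eq_one_iff_commute]
          exact (Subgroup.mem_center_iff.1 (hcent b) (δ a))
        exact MonoidHom.mem_ker.1 (hle hg)
      apply MonoidHom.ext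
      intro g
      have := hδ1 g
      change η g * (φ g.1)⁻¹ = 1 at this
      rw [mul_inv_eq_one] at this
      exact this


end Cfsg.Agent.S3960
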