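import Mathlib
import Cfsg.Statements.S3961
import Cfsg.Agent.Helper3.Schur

set_option autoImplicit false
universe u v
open Cfsg
open scoped commutatorElement

namespace Cfsg.Agent.S3961

/-- a homomorphism from a perfect group to a commutative group is trivial -/
theorem eq_one_of_perfect {G : Type*} [Group G] (hG : commutator G = ⊤) {A : Type*} [Group A]
    (hA : ∀ a b : A, a * b = b * a) (f : G →* A) (g : G) : f g = 1 := by
  have h1 : commutator G ≤ f.ker := by
    rw [commutator_eq_closure, Subgroup.closure_le]
    rintro _ ⟨a, b, rfl⟩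
    rw [SetLike.mem_coe, MonoidHom.mem_ker, map_commutatorElement, commutatorElement_def,
      hA (f a) (f b), mul_inv_cancel_right, mul_inv_cancel]
  have h2 : g ∈ commutator G := by rw [hG]; trivial
  exact MonoidHom.mem_ker.1 (h1 h2)

/-- commutators only depend on the images under a central extension -/
theorem commutator_eq_of_map_eq {E G : Type*} [Group E] [Group G] (σ : E →* G)
    (hker : σ.ker ≤ Subgroup.center E) {a a' b b' : E} (ha : σ a = σ a') (hb : σ b = σ b') :
    ⁅a, b⁆ = ⁅a', b'⁆ := by
  have hz : a'⁻¹ * a ∈ Subgroup.center E := hker (by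
    rw [MonoidHom.mem_ker, map_mul, map_inv, ha, inv_mul_cancel])
  have hw : b'⁻¹ * b ∈ Subgroup.center E := hker (by
    rw [MonoidHom.mem_ker, map_mul, map_inv, hb, inv_mul_cancel])
  set z := a'⁻¹ * a with hzdef
  set w := b'⁻¹ * b with hwdef
  have ea : a = a' * z := by rw [hzdef]; group
  have eb : b = b' * w := by rw [hwdef]; group
  have hzc : ∀ y : E, y * z = z * y := fun y => Subgroup.mem_center_iff.1 hz y
  have hwc : ∀ y : E, y * w = w * y := fun y => Subgroup.mem_center_iff.1 hw y
  rw [ea, eb, commutatorElement_def, commutatorElement_def]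
  calc a' * z * (b' * w) * (a' * z)⁻¹ * (b' * w)⁻¹
      = a' * (z * (b' * w) * z⁻¹) * a'⁻¹ * (w⁻¹ * b'⁻¹) := by group
    _ = a' * (b' * w) * a'⁻¹ * (w⁻¹ * b'⁻¹) := by rw [← hzc (b' * w), mul_inv_cancel_right]
    _ = a' * b' * (w * (a'⁻¹ * w⁻¹)) * b'⁻¹ := by group
    _ = a' * b' * a'⁻¹ * b'⁻¹ := by
        rw [← hwc (a'⁻¹ * w⁻¹)]; group

/-- the derived subgroup of a central extension of a perfect group is perfect and maps onto it -/
theorem perfect_core {E G : Type*} [Group E] [Group G] (σ : E →* G) (hσ : Function.Surjective σ)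
    (hker : σ.ker ≤ Subgroup.center E) (hG : commutator G = ⊤) :
    (∀ x : E, ∃ c ∈ commutator E, σ c = σ x) ∧ commutator (commutator E) = ⊤ := by
  have h1 : ∀ x : E, ∃ c ∈ commutator E, σ c = σ x := by
    intro x
    have h2 : (commutator E).map σ = commutator G := by
      rw [commutator_def, Subgroup.map_commutator, Subgroup.map_top_of_surjective σ hσ, commutator_def]
    have h3 : σ x ∈ (commutator E).map σ := by rw [h2, hG]; trivial
    obtain ⟨c, hc, hcx⟩ := h3
    exact ⟨c, hc, hcx⟩
  refine ⟨h1, ?_⟩
  have h4 : commutator E ≤ ⁅commutator E, commutator E⁆ := by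
    rw [commutator_eq_closure, Subgroup.closure_le]
    rintro _ ⟨a, b, rfl⟩
    obtain ⟨a', ha', haa⟩ := h1 a
    obtain ⟨b', hb', hbb⟩ := h1 b
    rw [commutator_eq_of_map_eq σ hker haa.symm hbb.symm]
    rw [← commutator_eq_closure]
    exact Subgroup.commutator_mem_commutator ha' hb'
  have h5 : ⁅commutator E, commutator E⁆ = commutator E :=
    le_antisymm (Subgroup.commutator_le_self _) h4
  have h6 : (commutator (commutator E)).map (commutator E).subtype =
      (⊤ : Subgroup (commutator E)).map (commutator E).subtype := by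
    rw [Subgroup.map_subtype_commutator, h5, ← MonoidHom.range_eq_map, Subgroup.range_subtype]
  exact Subgroup.map_injective (Subgroup.subtype_injective _) h6

/-- Let `π : G →* Q` be a surjective homomorphism with central kernel from a finite perfect group `G` (a perfect cover of `Q`). Then `π` is universal, in the sense that every surjective homomorphism `ξ : X →* Q` with central kernel from a group `X` in the universe of `G` admits a homomorphism `η : G →* X` with `ξ ∘ η = π`, if and only if `G` has trivial Schur multiplier. -/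
theorem result {G : Type u} {Q : Type v} [Group G] [Group Q] [Finite G] (hG : Group.IsPerfect G) (π : G →* Q) (hπ : Function.Surjective π) (hker : π.ker ≤ Subgroup.center G) : (∀ (X : Type u) [Group X] (ξ : X →* Q), Function.Surjective ξ → ξ.ker ≤ Subgroup.center X → ∃ η : G →* X, ξ.comp η = π) ↔ Cfsg.HasCyclicSchurMultiplier G 1 := by
  have hGc : commutator G = ⊤ := Group.isPerfect_def.1 hG
  constructor
  · intro hU
    apply Cfsg.Agent.Helper3.hasCyclicSchurMultiplier_one_of
    intro Γ _ _ σ hσ
    obtain ⟨hsurj, hcent, hcomm⟩ := hσ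
    -- Γ is perfect
    have hΓc : commutator Γ = ⊤ := by
      rw [eq_top_iff]
      intro x _
      obtain ⟨c, hc, hcx⟩ := (perfect_core σ hsurj hcent hGc).1 x
      have h1 : c⁻¹ * x ∈ σ.ker := by
        rw [MonoidHom.mem_ker, map_mul, map_inv, hcx, inv_mul_cancel]
      have : x = c * (c⁻¹ * x) := by group
      rw [this]
      exact Subgroup.mul_mem _ hc (hcomm h1)
    -- ξ = π ∘ σ is central
    have hξsurj : Function.Surjective (π.comp σ) := hπ.comp hsurj
    have hξker : (π.comp σ).ker ≤ Subgroup.center Γ := by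
      intro x hx
      have hσx : σ x ∈ Subgroup.center G := hker (by
        rw [MonoidHom.mem_ker] at hx ⊢; exact hx)
      have hc : ∀ y : Γ, x * y * x⁻¹ * y⁻¹ ∈ Subgroup.center Γ := by
        intro y
        apply hcent
        rw [MonoidHom.mem_ker, map_mul, map_mul, map_mul, map_inv, map_inv]
        have := Subgroup.mem_center_iff.1 hσx (σ y)
        rw [← this]; group
      let f : Γ →* Subgroup.center Γ :=
        { toFun := fun y => ⟨x * y * x⁻¹ * y⁻¹, hc y⟩
          map_one' := by
            apply Subtype.ext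
            simp
          map_mul' := by
            intro y z
            apply Subtype.ext
            have hz := Subgroup.mem_center_iff.1 (hc z)
            change x * (y * z) * x⁻¹ * (y * z)⁻¹ = (x * y * x⁻¹ * y⁻¹) * (x * z * x⁻¹ * z⁻¹)
            calc x * (y * z) * x⁻¹ * (y * z)⁻¹
                = x * y * x⁻¹ * ((x * z * x⁻¹ * z⁻¹) * y⁻¹) := by group
              _ = x * y * x⁻¹ * (y⁻¹ * (x * z * x⁻¹ * z⁻¹)) := by rw [hz y⁻¹]
              _ = (x * y * x⁻¹ * y⁻¹) * (x * z * x⁻¹ * z⁻¹) := by group }
      rw [Subgroup.mem_center_iff]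
      intro y
      have h1 := eq_one_of_perfect hΓc (fun a b => Subtype.ext (Subgroup.mem_center_iff.1 b.2 a)) f y
      have h2 : x * y * x⁻¹ * y⁻¹ = 1 := congrArg Subtype.val h1
      calc y * x = (x * y * x⁻¹ * y⁻¹)⁻¹ * (x * y) := by group
        _ = x * y := by rw [h2, inv_one, one_mul]
    obtain ⟨η, hη⟩ := hU Γ (π.comp σ) hξsurj hξker
    -- σ ∘ η = id
    have hφmem : ∀ g : G, σ (η g) * g⁻¹ ∈ Subgroup.center G := by
      intro g
      apply hker
      rw [MonoidHom.mem_ker, map_mul, map_inv]
      have : π (σ (η g)) = π g := by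
        have := DFunLike.congr_fun hη g
        simpa using this
      rw [this, mul_inv_cancel]
    let φ : G →* Subgroup.center G :=
      { toFun := fun g => ⟨σ (η g) * g⁻¹, hφmem g⟩
        map_one' := by
          apply Subtype.ext
          simp
        map_mul' := by
          intro g h
          apply Subtype.ext
          have hh := Subgroup.mem_center_iff.1 (hφmem h)
          change σ (η (g * h)) * (g * h)⁻¹ = (σ (η g) * g⁻¹) * (σ (η h) * h⁻¹)
          rw [map_mul, map_mul]
          calc σ (η g) * σ (η h) * (g * h)⁻¹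
              = σ (η g) * ((σ (η h) * h⁻¹) * g⁻¹) := by group
            _ = σ (η g) * (g⁻¹ * (σ (η h) * h⁻¹)) := by rw [hh g⁻¹]
            _ = (σ (η g) * g⁻¹) * (σ (η h) * h⁻¹) := by group }
    have hση : ∀ g : G, σ (η g) = g := by
      intro g
      have h1 := eq_one_of_perfect hGc (fun a b => Subtype.ext (Subgroup.mem_center_iff.1 b.2 a)) φ g
      have h2 : σ (η g) * g⁻¹ = 1 := congrArg Subtype.val h1
      exact mul_inv_eq_one.1 h2
    -- commutator Γ ≤ η.range
    have hrange : commutator Γ ≤ η.range := by
      rw [commutator_eq_closure, Subgroup.closure_le]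
      rintro _ ⟨a, b, rfl⟩
      have ha : σ a = σ (η (σ a)) := (hση (σ a)).symm
      have hb : σ b = σ (η (σ b)) := (hση (σ b)).symm
      rw [commutator_eq_of_map_eq σ hcent ha hb, ← map_commutatorElement]
      exact ⟨_, rfl⟩
    rw [eq_bot_iff]
    intro k hk
    obtain ⟨g, rfl⟩ := hrange (hcomm hk)
    rw [MonoidHom.mem_ker, hση] at hk
    rw [hk, map_one]
    exact Subgroup.one_mem _
  · intro hM X _ ξ hξ hξker
    -- the pullback
    let P : Subgroup (G × X) :=
      (π.comp (MonoidHom.fst G X)).eqLocus (ξ.comp (MonoidHom.snd G X))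
    let p₁ : P →* G := (MonoidHom.fst G X).comp P.subtype
    let p₂ : P →* X := (MonoidHom.snd G X).comp P.subtype
    have hp : ∀ a : P, π (p₁ a) = ξ (p₂ a) := fun a => a.2
    have hp₁surj : Function.Surjective p₁ := by
      intro g
      obtain ⟨x, hx⟩ := hξ (π g)
      exact ⟨⟨(g, x), hx.symm⟩, rfl⟩
    have hp₁ker : p₁.ker ≤ Subgroup.center P := by
      intro a ha
      rw [MonoidHom.mem_ker] at ha
      have hx : p₂ a ∈ Subgroup.center X := hξker (by
        rw [MonoidHom.mem_ker, ← hp a, ha, map_one])
      rw [Subgroup.mem_center_iff]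
      intro b
      apply Subtype.ext
      apply Prod.ext
      · change p₁ b * p₁ a = p₁ a * p₁ b
        rw [ha, mul_one, one_mul]
      · exact Subgroup.mem_center_iff.1 hx (p₂ b)
    -- finiteness of the derived subgroup
    have hfin : Finite (commutatorSet P) := by
      let s : G → P := Function.surjInv hp₁surj
      have hs : ∀ g, p₁ (s g) = g := Function.surjInv_eq hp₁surj
      have hsub : commutatorSet P ⊆ Set.range (fun gh : G × G => ⁅s gh.1, s gh.2⁆) := by
        rintro _ ⟨a, b, rfl⟩
        refine ⟨(p₁ a, p₁ b), ?_⟩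
        exact (commutator_eq_of_map_eq p₁ hp₁ker (hs (p₁ a)).symm (hs (p₁ b)).symm).symm
      exact Set.Finite.subset (Set.finite_range _) hsub
    have hfinD : Finite (commutator P) := inferInstance
    obtain ⟨hD1, hD2⟩ := perfect_core p₁ hp₁surj hp₁ker hGc
    let σ : commutator P →* G := p₁.comp (commutator P).subtype
    have hσsurj : Function.Surjective σ := by
      intro g
      obtain ⟨a, rfl⟩ := hp₁surj g
      obtain ⟨c, hc, hca⟩ := hD1 a
      exact ⟨⟨c, hc⟩, hca⟩
    have hσstem : Cfsg.IsStemExtension σ := by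
      refine ⟨hσsurj, ?_, ?_⟩
      · intro a ha
        have h1 : (a : P) ∈ Subgroup.center P := hp₁ker (by
          rw [MonoidHom.mem_ker] at ha ⊢; exact ha)
        rw [Subgroup.mem_center_iff]
        intro b
        apply Subtype.ext
        exact Subgroup.mem_center_iff.1 h1 (b : P)
      · rw [hD2]; exact le_top
    obtain ⟨τ, hτ⟩ := hM.2 (commutator P) σ hσstem
    have hσinj : Function.Injective σ := by
      rw [← MonoidHom.ker_eq_bot_iff, eq_bot_iff]
      intro a ha
      obtain ⟨t, ht⟩ := hτ ⟨a, ha⟩
      have ht1 : t = 1 := Subsingleton.elim _ _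
      rw [ht1, map_one] at ht
      have := congrArg Subtype.val ht
      rw [Subgroup.mem_bot]
      exact this.symm
    let e : commutator P ≃* G := MulEquiv.ofBijective σ ⟨hσinj, hσsurj⟩
    refine ⟨(p₂.comp (commutator P).subtype).comp e.symm.toMonoidHom, ?_⟩
    ext g
    change ξ (p₂ ((e.symm g : commutator P) : P)) = π g
    rw [← hp]
    have : p₁ ((e.symm g : commutator P) : P) = e (e.symm g) := rfl
    rw [this, MulEquiv.apply_symm_apply]

end Cfsg.Agent.S3961
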