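import Cfsg.Statements.S3962
import Mathlib

set_option autoImplicit false
open Cfsg
open scoped commutatorElement

namespace Cfsg.Agent.S3962

/-- Multiplying the entries of a commutator by central elements does not change it. -/
theorem commutator_central_mul {G : Type*} [Group G] (c c' a b : G)
    (hc : c ∈ Subgroup.center G) (hc' : c' ∈ Subgroup.center G) :
    ⁅c * a, c' * b⁆ = ⁅a, b⁆ := by
  have h1 : ∀ y : G, y * c = c * y := Subgroup.mem_center_iff.mp hc
  have h2 : ∀ y : G, y * c' = c' * y := Subgroup.mem_center_iff.mp hc'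
  have h1' : ∀ y : G, y * c⁻¹ = c⁻¹ * y := Subgroup.mem_center_iff.mp (Subgroup.inv_mem _ hc)
  have h2' : ∀ y : G, y * c'⁻¹ = c'⁻¹ * y := Subgroup.mem_center_iff.mp (Subgroup.inv_mem _ hc')
  rw [commutatorElement_def, commutatorElement_def, mul_inv_rev, mul_inv_rev]
  calc c * a * (c' * b) * (a⁻¹ * c⁻¹) * (b⁻¹ * c'⁻¹)
      = c * (a * c') * b * a⁻¹ * (c⁻¹ * b⁻¹) * c'⁻¹ := by group
    _ = c * (c' * a) * b * a⁻¹ * (b⁻¹ * c⁻¹) * c'⁻¹ := by rw [h2 a, h1' b⁻¹]
    _ = c * c' * (a * b * a⁻¹ * b⁻¹) * c⁻¹ * c'⁻¹ := by group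
    _ = c * (c' * (a * b * a⁻¹ * b⁻¹) * c⁻¹) * c'⁻¹ := by group
    _ = c * (c⁻¹ * (c' * (a * b * a⁻¹ * b⁻¹))) * c'⁻¹ := by rw [h1' (c' * (a * b * a⁻¹ * b⁻¹))]
    _ = c' * (a * b * a⁻¹ * b⁻¹) * c'⁻¹ := by group
    _ = c'⁻¹ * (c' * (a * b * a⁻¹ * b⁻¹)) := by rw [h2' (c' * (a * b * a⁻¹ * b⁻¹))]
    _ = a * b * a⁻¹ * b⁻¹ := by group

/-- Let `G` be a perfect group and `π : G →* Q` a surjective homomorphism whose kernel is central. Then `π` maps the centre of `G` onto the centre of `Q`. Taking `π` to be the map to `G ⧸ Z(G)` shows that the central quotient of a perfect group has trivial centre. -/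
theorem result {G Q : Type*} [Group G] [Group Q] (hG : Group.IsPerfect G) (π : G →* Q) (hπ : Function.Surjective π) (hker : π.ker ≤ Subgroup.center G) : (Subgroup.center G).map π = Subgroup.center Q := by
  apply le_antisymm
  · rintro _ ⟨z, hz, rfl⟩
    rw [Subgroup.mem_center_iff]
    intro q
    obtain ⟨g, rfl⟩ := hπ q
    rw [← map_mul, ← map_mul, (Subgroup.mem_center_iff.mp hz) g]
  · intro q hq
    obtain ⟨g, rfl⟩ := hπ q
    refine ⟨g, ?_, rfl⟩
    -- the commutator map x ↦ g x g⁻¹ x⁻¹ lands in the centre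
    have hmem : ∀ x : G, g * x * g⁻¹ * x⁻¹ ∈ Subgroup.center G := by
      intro x
      apply hker
      rw [MonoidHom.mem_ker]
      simp only [map_mul, map_inv]
      rw [← (Subgroup.mem_center_iff.mp hq) (π x)]
      group
    -- conjugation by g fixes every commutator
    have hfix : ∀ a b : G, g * ⁅a, b⁆ * g⁻¹ = ⁅a, b⁆ := by
      intro a b
      have h1 : g * ⁅a, b⁆ * g⁻¹ = ⁅g * a * g⁻¹, g * b * g⁻¹⁆ := by
        simp only [commutatorElement_def]; group
      have h2 : g * a * g⁻¹ = (g * a * g⁻¹ * a⁻¹) * a := by group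
      have h3 : g * b * g⁻¹ = (g * b * g⁻¹ * b⁻¹) * b := by group
      rw [h1, h2, h3, commutator_central_mul _ _ _ _ (hmem a) (hmem b)]
    have hle : commutator G ≤ Subgroup.centralizer ({g} : Set G) := by
      rw [commutator_def, Subgroup.commutator_le]
      intro a _ b _
      rw [Subgroup.mem_centralizer_iff]
      intro y hy
      rw [Set.mem_singleton_iff] at hy
      subst hy
      calc y * ⁅a, b⁆ = (y * ⁅a, b⁆ * y⁻¹) * y := by group
        _ = ⁅a, b⁆ * y := by rw [hfix]
    rw [hG.commutator_eq_top] at hle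
    show g ∈ Subgroup.center G
    rw [Subgroup.mem_center_iff]
    intro x
    have := hle (Subgroup.mem_top x)
    rw [Subgroup.mem_centralizer_iff] at this
    exact (this g rfl).symm

end Cfsg.Agent.S3962
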