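import Mathlib
import Cfsg.Statements.S3963
import Cfsg.Agent.Helper3.Schur
import Cfsg.Agent.Helper3.StemMeta

set_option autoImplicit false
open Cfsg

namespace Cfsg.Agent.S3963

open QuaternionGroup

lemma inv_a (n : ℕ) (i : ZMod (2 * n)) : (a i : QuaternionGroup n)⁻¹ = a (-i) := rfl
lemma inv_xa (n : ℕ) (i : ZMod (2 * n)) : (xa i : QuaternionGroup n)⁻¹ = xa ((n : ZMod (2 * n)) + i) := rfl

lemma two_n (n : ℕ) : (2 * n : ZMod (2 * n)) = 0 := by
  have := ZMod.natCast_self (2 * n)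
  push_cast at this
  exact this

lemma a_one_zpow (n : ℕ) (k : ℤ) : (a 1 : QuaternionGroup n) ^ k = a k := by
  induction k using Int.induction_on with
  | zero => simp
  | succ i ih => rw [zpow_add_one, ih, a_mul_a]; push_cast; rfl
  | pred i ih =>
    rw [zpow_sub_one, ih, inv_a, a_mul_a]; congr 1; push_cast; ring

lemma mem_zpowers_a (n : ℕ) (x : QuaternionGroup n) :
    x ∈ Subgroup.zpowers (a 1 : QuaternionGroup n) ↔ ∃ i, x = a i := by
  constructor
  · intro hx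
    obtain ⟨k, rfl⟩ := Subgroup.mem_zpowers_iff.1 hx
    exact ⟨_, a_one_zpow n k⟩
  · rintro ⟨i, rfl⟩
    rw [Subgroup.mem_zpowers_iff]
    refine ⟨(ZMod.cast i : ℤ), ?_⟩
    rw [a_one_zpow]
    congr 1
    exact ZMod.intCast_zmod_cast i

instance zpowers_a_normal (n : ℕ) : (Subgroup.zpowers (a 1 : QuaternionGroup n)).Normal := by
  refine ⟨fun x hx g => ?_⟩
  obtain ⟨i, rfl⟩ := (mem_zpowers_a n x).1 hx
  rw [mem_zpowers_a]
  rcases g with j | j
  · exact ⟨i, by rw [inv_a]; simp⟩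
  · refine ⟨-i, ?_⟩
    rw [inv_xa]
    simp only [xa_mul_a, xa_mul_xa]
    congr 1
    have := two_n n
    linear_combination this

lemma gen (n : ℕ) :
    Subgroup.zpowers (a 1 : QuaternionGroup n) ⊔ Subgroup.zpowers (xa 0) = ⊤ := by
  rw [eq_top_iff]
  rintro (i | i) -
  · exact Subgroup.mem_sup_left ((mem_zpowers_a n _).2 ⟨i, rfl⟩)
  · have : (xa i : QuaternionGroup n) = a (-i) * xa 0 := by simp
    rw [this]
    exact Subgroup.mul_mem_sup ((mem_zpowers_a n _).2 ⟨_, rfl⟩) (Subgroup.mem_zpowers _)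

open Cfsg.Agent.Helper3 in
/-- For every `n ≥ 1` the dicyclic (generalized quaternion) group of order `4 n` has trivial Schur multiplier. -/
theorem result (n : ℕ) [NeZero n] : Cfsg.HasCyclicSchurMultiplier (QuaternionGroup n) 1 := by
  apply hasCyclicSchurMultiplier_one_of
  intro Γ _ _ σ hσ
  obtain ⟨α, hα⟩ := hσ.1 (a 1)
  obtain ⟨ξ, hξ⟩ := hσ.1 (xa 0)
  -- β ^ n = 1
  have hβn : (ξ * α * ξ⁻¹ * α⁻¹) ^ (n : ℤ) = 1 := by
    apply stem_comm_zpow_eq_one σ hσ (a 1) α ξ hα (n : ℤ) (ξ * ξ)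
    · rw [map_mul, hξ, a_one_zpow, xa_mul_xa]
      congr 1
      push_cast
      ring
    · group
  rw [Subgroup.eq_bot_iff_forall]
  intro z hz
  have hz' := stem_ker_le_zpowers σ hσ (a 1) (xa 0) (gen n) α ξ hα hξ hz
  obtain ⟨k, rfl⟩ := Subgroup.mem_zpowers_iff.1 hz'
  rw [MonoidHom.mem_ker, map_zpow] at hz
  have hβ : σ (ξ * α * ξ⁻¹ * α⁻¹) = (a 1) ^ (-2 : ℤ) := by
    simp only [map_mul, map_inv, hα, hξ]
    rw [a_one_zpow, inv_a, inv_xa]
    simp only [xa_mul_a, xa_mul_xa, a_mul_a]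
    congr 1
    push_cast
    have := two_n n
    linear_combination this
  rw [hβ, ← zpow_mul, a_one_zpow, one_def] at hz
  have h0 : (((-2 * k : ℤ)) : ZMod (2 * n)) = 0 := by injection hz
  rw [ZMod.intCast_zmod_eq_zero_iff_dvd] at h0
  obtain ⟨t, ht⟩ := h0
  have hn0 : (n : ℤ) ≠ 0 := by exact_mod_cast NeZero.ne n
  have hk : k = (n : ℤ) * (-t) := by
    push_cast at ht
    have : (2 : ℤ) * k = 2 * ((n : ℤ) * (-t)) := by linarith
    exact mul_left_cancel₀ (by norm_num) this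
  rw [hk, zpow_mul, hβn, one_zpow]

end Cfsg.Agent.S3963
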