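import Mathlib
import Cfsg.Statements.S3964
import Cfsg.Agent.Helper3.Schur
import Cfsg.Agent.Helper3.DihedralStem

set_option autoImplicit false
open Cfsg

namespace Cfsg.Agent.S3964

open Cfsg.Agent.Helper3 in
/-- For odd `n` the dihedral group of order `2 n` has trivial Schur multiplier. -/
theorem result (n : ℕ) (hn : Odd n) : Cfsg.HasCyclicSchurMultiplier (DihedralGroup n) 1 := by
  haveI : NeZero n := ⟨by rintro rfl; simp at hn⟩
  apply hasCyclicSchurMultiplier_one_of
  intro Γ _ _ σ hσ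
  obtain ⟨β, hβ, hker⟩ := dih_stem n σ hσ
  rw [Subgroup.eq_bot_iff_forall]
  intro z hz
  obtain ⟨k, rfl, hk⟩ := hker z hz
  obtain ⟨j, hj⟩ := hn
  obtain ⟨t, ht⟩ := hk
  have hk' : k = (n : ℤ) * (k - j * t) := by
    rw [hj] at ht ⊢
    push_cast at ht ⊢
    linear_combination (-(j : ℤ)) * ht
  rw [hk', zpow_mul, zpow_natCast, hβ, one_zpow]

end Cfsg.Agent.S3964
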