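import Mathlib
import Cfsg.Statements.S3966

set_option autoImplicit false
open Cfsg

namespace Cfsg.Agent.S3966

open scoped commutatorElement

/-- reduction mod `n` from `ZMod (2n)`. -/
noncomputable def c (n : ℕ) : ZMod (2 * n) →+* ZMod n := ZMod.castHom (Dvd.intro_left 2 rfl) (ZMod n)

lemma c_n (n : ℕ) : c n (n : ZMod (2 * n)) = 0 := by
  rw [map_natCast]; exact ZMod.natCast_self n

noncomputable def σfun (n : ℕ) : QuaternionGroup n → DihedralGroup n
  | .a i => .r (c n i)
  | .xa i => .sr (c n i)

noncomputable def σ (n : ℕ) : QuaternionGroup n →* DihedralGroup n :=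
  MonoidHom.mk' (σfun n) (by
    rintro (i | i) (j | j)
    · simp [σfun]
    · simp [σfun]
    · simp [σfun]
    · simp [σfun, c_n])

lemma σ_a (n : ℕ) (i : ZMod (2 * n)) : σ n (.a i) = .r (c n i) := rfl
lemma σ_xa (n : ℕ) (i : ZMod (2 * n)) : σ n (.xa i) = .sr (c n i) := rfl

lemma σ_surj (n : ℕ) : Function.Surjective (σ n) := by
  rintro (i | i)
  · obtain ⟨j, rfl⟩ := ZMod.ringHom_surjective (c n) i
    exact ⟨.a j, rfl⟩
  · obtain ⟨j, rfl⟩ := ZMod.ringHom_surjective (c n) i
    exact ⟨.xa j, rfl⟩

lemma c_eq_zero (n : ℕ) [NeZero n] (i : ZMod (2 * n)) (h : c n i = 0) : i = 0 ∨ i = (n : ZMod (2 * n)) := by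
  haveI : NeZero (2 * n) := ⟨by have := NeZero.ne n; omega⟩
  have h1 : i = ((i.val : ℕ) : ZMod (2 * n)) := (ZMod.natCast_zmod_val i).symm
  rw [h1, map_natCast, ZMod.natCast_eq_zero_iff] at h
  obtain ⟨k, hk⟩ := h
  have hlt : i.val < 2 * n := ZMod.val_lt i
  have hn : 0 < n := Nat.pos_of_ne_zero (NeZero.ne n)
  have hk2 : k < 2 := by
    by_contra hk2
    push Not at hk2
    have : n * 2 ≤ n * k := Nat.mul_le_mul_left n hk2
    omega
  interval_cases k
  · left; rw [h1, hk]; simp
  · right; rw [h1, hk]; simp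

lemma mem_ker (n : ℕ) [NeZero n] (x : QuaternionGroup n) (hx : x ∈ (σ n).ker) :
    x = 1 ∨ x = .a (n : ZMod (2 * n)) := by
  rw [MonoidHom.mem_ker] at hx
  rcases x with i | i
  · rw [σ_a, DihedralGroup.one_def] at hx
    have : c n i = 0 := by injection hx
    rcases c_eq_zero n i this with h | h
    · left; rw [h]; exact QuaternionGroup.a_zero
    · right; rw [h]
  · rw [σ_xa, DihedralGroup.one_def] at hx
    cases hx

lemma n_add_n (n : ℕ) : (n : ZMod (2 * n)) + n = 0 := by
  rw [← two_mul]
  have := ZMod.natCast_self (2 * n)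
  push_cast at this
  exact this

lemma a_n_central (n : ℕ) : QuaternionGroup.a (n : ZMod (2 * n)) ∈ Subgroup.center (QuaternionGroup n) := by
  rw [Subgroup.mem_center_iff]
  rintro (j | j)
  · simp [add_comm]
  · simp only [QuaternionGroup.xa_mul_a, QuaternionGroup.a_mul_xa]
    congr 1
    have := n_add_n n
    linear_combination this

lemma a_two_comm (n : ℕ) : QuaternionGroup.a (2 : ZMod (2 * n)) ∈ commutator (QuaternionGroup n) := by
  have h : ⁅(QuaternionGroup.a 1 : QuaternionGroup n), (QuaternionGroup.xa 0 : QuaternionGroup n)⁆ = QuaternionGroup.a 2 := by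
    have hinv : (QuaternionGroup.xa 0 : QuaternionGroup n)⁻¹ = QuaternionGroup.xa (n : ZMod (2 * n)) := by
      rw [inv_eq_iff_mul_eq_one, QuaternionGroup.one_def, QuaternionGroup.xa_mul_xa]
      congr 1
      have := n_add_n n
      linear_combination this
    have hinv' : (QuaternionGroup.a 1 : QuaternionGroup n)⁻¹ = QuaternionGroup.a (-1) := by
      rw [inv_eq_iff_mul_eq_one, QuaternionGroup.one_def, QuaternionGroup.a_mul_a]
      congr 1
      ring
    rw [commutatorElement_def, hinv, hinv']
    simp only [QuaternionGroup.xa_mul_a, QuaternionGroup.a_mul_xa, QuaternionGroup.xa_mul_xa]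
    congr 1
    have := n_add_n n
    linear_combination this
  rw [← h, commutator_def]
  exact Subgroup.commutator_mem_commutator (Subgroup.mem_top _) (Subgroup.mem_top _)

lemma a_n_comm (n : ℕ) (hn : Even n) :
    QuaternionGroup.a (n : ZMod (2 * n)) ∈ commutator (QuaternionGroup n) := by
  obtain ⟨m, hm⟩ := hn
  have h1 : QuaternionGroup.a (n : ZMod (2 * n)) = (QuaternionGroup.a (2 : ZMod (2 * n))) ^ m := by
    have h2 : (QuaternionGroup.a (2 : ZMod (2 * n)) : QuaternionGroup n) = (QuaternionGroup.a 1) ^ 2 := by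
      rw [QuaternionGroup.a_one_pow]; norm_num
    rw [h2, ← pow_mul, QuaternionGroup.a_one_pow]
    congr 1
    rw [hm]; push_cast; ring
  rw [h1]
  exact pow_mem (a_two_comm n) m

/-- For even `n ≥ 2` the dicyclic group of order `4 n` is a stem extension of the dihedral group of order `2 n` with kernel of order `2`: there is a surjective homomorphism `QuaternionGroup n →* DihedralGroup n` whose kernel is central, lies in the commutator subgroup and has two elements. Together with the order of the multiplier this exhibits the dicyclic group as a Schur covering group of the dihedral group. -/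
theorem result (n : ℕ) [NeZero n] (hn : Even n) : ∃ σ : QuaternionGroup n →* DihedralGroup n, Cfsg.IsStemExtension σ ∧ Nat.card σ.ker = 2 := by
  refine ⟨σ n, ⟨σ_surj n, ?_, ?_⟩, ?_⟩
  · intro x hx
    rcases mem_ker n x hx with h | h
    · rw [h]; exact Subgroup.one_mem _
    · rw [h]; exact a_n_central n
  · intro x hx
    rcases mem_ker n x hx with h | h
    · rw [h]; exact Subgroup.one_mem _
    · rw [h]; exact a_n_comm n hn
  · have h1 := Subgroup.card_mul_index (σ n).ker
    rw [Subgroup.index_ker, MonoidHom.range_eq_top.2 (σ_surj n)] at h1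
    have h2 : Nat.card (⊤ : Subgroup (DihedralGroup n)) = 2 * n := by
      rw [Subgroup.card_top, DihedralGroup.nat_card]
    have h3 : Nat.card (QuaternionGroup n) = 4 * n := by
      rw [Nat.card_eq_fintype_card, QuaternionGroup.card]
    rw [h2, h3] at h1
    have hn0 : 0 < n := Nat.pos_of_ne_zero (NeZero.ne n)
    have : Nat.card (σ n).ker * (2 * n) = 2 * (2 * n) := by rw [h1]; ring
    exact Nat.eq_of_mul_eq_mul_right (by omega) this

end Cfsg.Agent.S3966
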