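import Mathlib
import Cfsg.Statements.S3965
import Cfsg.Agent.Helper3.DihedralStem
import Cfsg.Agent.S3966

set_option autoImplicit false
open Cfsg

namespace Cfsg.Agent.S3965

lemma card_mult_zmod2 : Nat.card (Multiplicative (ZMod 2)) = 2 := by
  rw [Nat.card_congr Multiplicative.toAdd, Nat.card_zmod]

open Cfsg.Agent.Helper3 in
/-- For even `n ≥ 2` the dihedral group of order `2 n` has Schur multiplier cyclic of order `2`. -/
theorem result (n : ℕ) [NeZero n] (hn : Even n) : Cfsg.HasCyclicSchurMultiplier (DihedralGroup n) 2 := by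
  haveI : Fact (Nat.Prime 2) := ⟨Nat.prime_two⟩
  constructor
  · obtain ⟨σ, hσ, hcard⟩ := Cfsg.Agent.S3966.result n hn
    exact ⟨QuaternionGroup n, inferInstance, inferInstance, σ, hσ,
      ⟨mulEquivOfPrimeCardEq (p := 2) hcard card_mult_zmod2⟩⟩
  · intro Γ _ _ σ hσ
    obtain ⟨β, hβ, hker⟩ := dih_stem n σ hσ
    obtain ⟨m, hm⟩ := hn
    have hle : σ.ker ≤ Subgroup.zpowers (β ^ m) := by
      intro z hz
      obtain ⟨k, rfl, hk⟩ := hker z hz
      obtain ⟨t, ht⟩ := hk
      have hk' : k = (m : ℤ) * t := by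
        rw [hm] at ht
        push_cast at ht
        linarith
      rw [hk', zpow_mul, zpow_natCast]
      exact Subgroup.zpow_mem_zpowers _ t
    have hord : orderOf (β ^ m) ≤ 2 := by
      apply orderOf_le_of_pow_eq_one (by norm_num)
      rw [← pow_mul, mul_two, ← hm, hβ]
    have hcard : Nat.card σ.ker ≤ 2 := by
      calc Nat.card σ.ker ≤ Nat.card (Subgroup.zpowers (β ^ m)) := Subgroup.card_le_of_le hle
        _ = orderOf (β ^ m) := Nat.card_zpowers _
        _ ≤ 2 := hord
    have hpos : 0 < Nat.card σ.ker := Nat.card_pos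
    have h12 : Nat.card σ.ker = 1 ∨ Nat.card σ.ker = 2 := by omega
    rcases h12 with h1 | h2
    · refine ⟨1, fun y => ⟨1, ?_⟩⟩
      have hbot := Subgroup.card_eq_one.1 h1
      have hy : (y : Γ) ∈ (⊥ : Subgroup Γ) := hbot ▸ y.2
      rw [Subgroup.mem_bot] at hy
      apply Subtype.ext
      simp [hy]
    · let e := mulEquivOfPrimeCardEq (p := 2) card_mult_zmod2 h2
      exact ⟨e.toMonoidHom, e.surjective⟩

end Cfsg.Agent.S3965
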