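import Mathlib
import Cfsg.Statements.S3967
import Cfsg.Agent.Helper3.MetaCycF
-- import your own Cfsg.Agent.* helpers here

set_option autoImplicit false
open Cfsg

namespace Cfsg.Agent.S3967

open Cfsg.Agent.Helper3.MetaCyc

theorem exists_surj {Γ : Type} [Group Γ] (K : Subgroup Γ) (w : Γ) (e : ℕ) (hK : K = Subgroup.zpowers w)
    (hw : w ^ e = 1) : ∃ π : Multiplicative (ZMod e) →* K, Function.Surjective π := by
  have hwK : w ∈ K := by rw [hK]; exact Subgroup.mem_zpowers _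
  let f : ℤ →+ Additive K := zmultiplesHom _ (Additive.ofMul ⟨w, hwK⟩)
  have hf : f e = 0 := by
    change (e : ℤ) • Additive.ofMul (⟨w, hwK⟩ : K) = 0
    rw [natCast_zsmul, ← ofMul_pow]
    have : (⟨w, hwK⟩ : K) ^ e = 1 := Subtype.ext (by simpa using hw)
    rw [this]; rfl
  let g : ZMod e →+ Additive K := ZMod.lift e ⟨f, hf⟩
  refine ⟨AddMonoidHom.toMultiplicativeLeft g, ?_⟩
  rintro ⟨x, hx⟩
  have hx' := hx
  rw [hK] at hx'
  obtain ⟨k, hk⟩ := hx'
  refine ⟨Multiplicative.ofAdd (k : ZMod e), ?_⟩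
  change Additive.toMul (g (k : ZMod e)) = _
  rw [ZMod.lift_coe]
  change Additive.toMul ((k : ℤ) • Additive.ofMul (⟨w, hwK⟩ : K)) = _
  apply Subtype.ext
  rw [← ofMul_zpow]
  simpa using hk

/-- Let `m, n ≥ 1`, `r ≥ 1` with `r ^ n ≡ 1 (mod m)`, and `l` a natural number; put `d = gcd(m, r - 1)`, `t = m l / d` and `h = d · gcd(m, 1 + r + ⋯ + r^(n-1)) / m`. The group presented by generators `a, b` and relations `a ^ m = 1`, `b ^ n = a ^ t`, `b a b⁻¹ = a ^ r` (a metacyclic group of order `m n`) has Schur multiplier cyclic of order `gcd(l, h)`. -/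
theorem result (m n r l : ℕ) (hm : 0 < m) (hn : 0 < n) (hr : 0 < r) (hrn : r ^ n ≡ 1 [MOD m]) : Cfsg.HasCyclicSchurMultiplier (PresentedGroup ({FreeGroup.of true ^ m, (FreeGroup.of false) ^ n * (FreeGroup.of true ^ (m * l / Nat.gcd m (r - 1)))⁻¹, FreeGroup.of false * FreeGroup.of true * (FreeGroup.of false)⁻¹ * (FreeGroup.of true ^ r)⁻¹} : Set (FreeGroup Bool))) (Nat.gcd l (Nat.gcd m (r - 1) * Nat.gcd m (∑ i ∈ Finset.range n, r ^ i) / m)) := by
  let D : Arith m n r l := ⟨hm, hn, hr, hrn⟩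
  refine ⟨exists_cover D, ?_⟩
  intro Γ _ _ σ hσ
  obtain ⟨w, hker, hw⟩ := stem_ker_cyclic D σ hσ
  exact exists_surj σ.ker w _ hker hw


end Cfsg.Agent.S3967
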