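import Mathlib
import Cfsg.Statements.S3968
import Cfsg.Agent.Helper6.FaithfulPrimePow
import Cfsg.Agent.Helper6.Degrees
import Cfsg.Agent.Helper6.SmallDegree
import Cfsg.Agent.Helper6.Constituent
import Cfsg.Agent.Helper6.Extraspecial
import Cfsg.Agent.Helper6.BlockPart
-- import your own Cfsg.Agent.* helpers here

set_option autoImplicit false
open Cfsg

namespace Cfsg.Agent.S3968
open Cfsg
universe u

open Cfsg.Agent.Helper6 Module

/-- Let `p` be a prime and `G` a finite group with a faithful irreducible complex character of degree `p` (so `G` is an irreducible linear group in `p` variables). If `p ^ 2` divides the order of `G`, then the centre of `G` is nontrivial. -/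
theorem result {G : Type*} [Group G] [Finite G] (p : ℕ) (hp : p.Prime) (χ : Cfsg.IrrCharacter G) (hdeg : χ.1 1 = p) (hfaith : ∀ g : G, χ.1 g = χ.1 1 → g = 1) (hdiv : p ^ 2 ∣ Nat.card G) : Subgroup.center G ≠ ⊥ := by
  classical
  haveI : Fact p.Prime := ⟨hp⟩
  intro hZ
  obtain ⟨P⟩ : Nonempty (Sylow p G) := inferInstance
  haveI : Fintype (P : Subgroup G) := Fintype.ofFinite _
  have hPcard : p ^ 2 ∣ Nat.card P := by
    rw [Sylow.card_eq_multiplicity]
    exact pow_dvd_pow p ((hp.pow_dvd_iff_le_factorization (Nat.card_pos.ne')).mp hdiv)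
  have hPp : IsPGroup p (P : Subgroup G) := P.2
  have hχc : Cfsg.IsCharacter G (χ : G → ℂ) := IsIrrCharacter.isCharacter χ.2
  have hcd : Cfsg.charDegree (χ : G → ℂ) = p ^ 1 := by
    have := charDegree_cast_of_isCharacter hχc
    rw [hdeg] at this
    rw [pow_one]
    exact_mod_cast this
  set Z : Subgroup G := (Subgroup.center (P : Subgroup G)).map (P : Subgroup G).subtype with hZdef
  have hvan : ∀ z ∈ Z, z ≠ 1 → (χ : G → ℂ) z = 0 := by
    intro z hz hz1
    apply faithful_apply_eq_zero_of_not_dvd_index p hZ χ hfaith 1 hcd z hz1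
    have hPle : (P : Subgroup G) ≤ Subgroup.centralizer {z} := by
      obtain ⟨z', hz', rfl⟩ := hz
      intro x hx
      rw [Subgroup.mem_centralizer_singleton_iff]
      have := Subgroup.mem_center_iff.mp hz' ⟨x, hx⟩
      have h2 := congrArg Subtype.val this
      simpa using h2
    intro hdvd
    exact P.not_dvd_index (dvd_trans hdvd (Subgroup.index_dvd_of_le hPle))
  obtain ⟨k, hk⟩ := card_dvd_degree_of_vanishing Z (χ : G → ℂ) hχc hvan
  have hZk : Nat.card Z * k = p := by
    rw [hdeg] at hk
    exact_mod_cast hk.symm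
  have hZcard : Nat.card Z = Nat.card (Subgroup.center (P : Subgroup G)) :=
    Subgroup.card_map_of_injective (Subgroup.subtype_injective _)
  -- the representation
  obtain ⟨d, ρ, hirr, hρ⟩ := χ.2
  haveI := hirr
  have hd : d = p := by
    have h1 : ρ.character 1 = (d : ℂ) := by rw [Representation.char_one]; simp
    rw [hρ] at h1
    have : ((p : ℕ) : ℂ) = (d : ℂ) := by rw [← h1]; exact hdeg.symm
    exact_mod_cast this.symm
  set ρP : Representation ℂ (P : Subgroup G) (Fin d → ℂ) := ρ.comp (P : Subgroup G).subtype with hρP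
  have hρPchar : ∀ x : (P : Subgroup G), ρP.character x = (χ : G → ℂ) x := by
    intro x
    rw [← hρ]
    rfl
  have hρPc : Cfsg.IsCharacter (P : Subgroup G) ρP.character := ⟨d, ρP, rfl⟩
  have hPnt : Nontrivial (P : Subgroup G) := by
    rw [← Finite.one_lt_card_iff_nontrivial]
    have h1 : p ^ 2 ≤ Nat.card P := Nat.le_of_dvd Nat.card_pos hPcard
    have h2 : 1 < p ^ 2 := Nat.one_lt_pow (by norm_num) hp.one_lt
    exact lt_of_lt_of_le h2 h1
  by_cases hlin : ∀ ψ : ↥(P : Subgroup G) → ℂ, Cfsg.IsIrrCharacter ↥(P : Subgroup G) ψ →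
      Cfsg.classInner ρP.character ψ ≠ 0 → ψ 1 = 1
  · -- P is abelian
    have hab : ∀ a b : (P : Subgroup G), a * b = b * a := by
      intro a b
      have h1 := commutator_acts_trivially ρP hlin a b
      have h2 : (χ : G → ℂ) ((a * b * a⁻¹ * b⁻¹ : (P : Subgroup G)) : G) = (χ : G → ℂ) 1 := by
        rw [← hρPchar]
        have h3 : ρP.character (a * b * a⁻¹ * b⁻¹) = ρP.character 1 := by
          unfold Representation.character
          rw [h1, map_one]
          rfl
        rw [h3, hρPchar]
        rfl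
      have h4 := hfaith _ h2
      have h5 : a * b * a⁻¹ * b⁻¹ = 1 := Subtype.ext h4
      calc a * b = (a * b * a⁻¹ * b⁻¹) * (b * a) := by group
        _ = b * a := by rw [h5, one_mul]
    have hctop : Subgroup.center (P : Subgroup G) = ⊤ := by
      rw [eq_top_iff]
      intro x _
      rw [Subgroup.mem_center_iff]
      intro y
      exact hab y x
    rw [hctop, Subgroup.card_top] at hZcard
    rw [hZcard] at hZk
    have h1 : p ^ 2 ∣ p := dvd_trans hPcard (Dvd.intro _ hZk)
    have h2 : p ^ 2 ≤ p := Nat.le_of_dvd hp.pos h1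
    have h3 := hp.one_lt
    nlinarith
  · push Not at hlin
    obtain ⟨ψ, hψ, hne, hψ1⟩ := hlin
    obtain ⟨n, hn1, hn2, hn3⟩ := IsIrrCharacter.degree_dvd_card hψ
    obtain ⟨a, ha⟩ := IsPGroup.iff_card.mp hPp
    rw [ha] at hn2
    obtain ⟨j, -, hj⟩ := (Nat.dvd_prime_pow hp).mp hn2
    have hj1 : j ≠ 0 := by
      intro h0
      rw [h0, pow_zero] at hj
      apply hψ1
      rw [hn1, hj]; simp
    have hpn : p ∣ n := by
      rw [hj]; exact dvd_pow_self p hj1
    obtain ⟨m, hm⟩ := IsCharacter.apply_one (sub_isCharacter_of_constituent hρPc hψ hne)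
    have hρP1 : ρP.character 1 = (p : ℂ) := by
      rw [hρPchar]; exact hdeg
    have hnm : p = n + m := by
      rw [Pi.sub_apply, hρP1, hn1] at hm
      have : ((p : ℕ) : ℂ) = ((n + m : ℕ) : ℂ) := by
        push_cast
        rw [← hm]; ring
      exact_mod_cast this
    have hnp : n = p := by
      have h1 : p ≤ n := Nat.le_of_dvd hn3 hpn
      omega
    have heq : ρP.character = ψ := by
      apply eq_of_constituent_of_degree hρPc hψ hne
      rw [hρP1, hn1, hnp]
    obtain ⟨n', ρ', hirr', hρ'⟩ := hψ
    haveI := hirr'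
    have hn' : n' = p := by
      have h1 : ρ'.character 1 = (n' : ℂ) := by rw [Representation.char_one]; simp
      rw [hρ', hn1, hnp] at h1
      exact_mod_cast h1.symm
    -- a nontrivial central element
    haveI := hPnt
    have hcnt : Nontrivial (Subgroup.center (P : Subgroup G)) := hPp.center_nontrivial
    obtain ⟨⟨z, hz⟩, hz1⟩ := exists_ne (1 : Subgroup.center (P : Subgroup G))
    have hz1' : z ≠ 1 := fun h => hz1 (Subtype.ext h)
    obtain ⟨ω, hω⟩ := exists_scalar_of_mem_center ρ' z hz
    have hψz : ψ z = 0 := by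
      rw [← heq, hρPchar]
      apply hvan
      · exact ⟨z, hz, rfl⟩
      · intro h
        apply hz1'
        exact Subtype.ext h
    have hψz2 : ψ z = ω * (n' : ℂ) := by
      rw [← hρ']
      unfold Representation.character
      rw [hω, map_smul, smul_eq_mul]
      congr 1
      have : LinearMap.trace ℂ (Fin n' → ℂ) LinearMap.id = (finrank ℂ (Fin n' → ℂ) : ℂ) :=
        LinearMap.trace_id ℂ (Fin n' → ℂ)
      rw [this]; simp
    have hω0 : ω = 0 := by
      rw [hψz2] at hψz
      rcases mul_eq_zero.mp hψz with h | h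
      · exact h
      · exfalso
        have : n' = 0 := by exact_mod_cast h
        rw [hn'] at this
        exact hp.ne_zero this
    have h1 : ρ' z * ρ' z⁻¹ = 1 := by rw [← map_mul, mul_inv_cancel, map_one]
    rw [hω, hω0, zero_smul, zero_mul] at h1
    have hV : Nontrivial (Fin n' → ℂ) := by
      rw [hn']
      haveI : Nonempty (Fin p) := ⟨⟨0, hp.pos⟩⟩
      infer_instance
    have h2 : (0 : Module.End ℂ (Fin n' → ℂ)) ≠ 1 := zero_ne_one
    exact h2 h1


end Cfsg.Agent.S3968
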