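import Mathlib
import Cfsg.Statements.S3969
import Cfsg.Agent.Helper1.Fitting
import Cfsg.Agent.Helper1.NormalPCompl

set_option autoImplicit false
open Cfsg

namespace Cfsg.Agent.S3969

open Cfsg.Agent.Helper1

theorem card_closure_le {C : Type*} [CommGroup C] [Finite C] (p : ℕ) (hp : 0 < p)
    (hexp : ∀ x : C, x ^ p = 1) (S : Finset C) :
    Nat.card (Subgroup.closure (S : Set C)) ≤ p ^ S.card := by
  classical
  induction S using Finset.induction_on with
  | empty => simp
  | insert s S hs ih =>
    rw [Finset.coe_insert, Set.insert_eq, Subgroup.closure_union, ← Subgroup.zpowers_eq_closure,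
      Finset.card_insert_of_notMem hs, pow_succ]
    have h1 := card_sup_dvd (Subgroup.zpowers s) (Subgroup.closure (S : Set C))
    have h2 : Nat.card (Subgroup.zpowers s) ≤ p := by
      rw [Nat.card_zpowers]
      exact orderOf_le_of_pow_eq_one hp (hexp s)
    have h3 := Nat.le_of_dvd (Nat.mul_pos Nat.card_pos Nat.card_pos) h1
    calc Nat.card ↥(Subgroup.zpowers s ⊔ Subgroup.closure (S : Set C))
        ≤ Nat.card (Subgroup.zpowers s) * Nat.card (Subgroup.closure (S : Set C)) := h3
      _ ≤ p * p ^ S.card := Nat.mul_le_mul h2 ih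
      _ = p ^ S.card * p := mul_comm _ _

theorem card_torsion_le (B : Type*) [CommGroup B] [Finite B] (p : ℕ) [hp : Fact p.Prime] :
    Nat.card {x : B // x ^ p = 1} ≤ p ^ Group.rank B := by
  classical
  obtain ⟨S, hScard, hS⟩ := Group.rank_spec B
  set φ : B →* B := powMonoidHom p with hφ
  have h1 : Nat.card {x : B // x ^ p = 1} = Nat.card φ.ker :=
    Nat.card_congr (Equiv.subtypeEquivRight (fun x => by simp [MonoidHom.mem_ker, hφ]))
  have h2 : Nat.card φ.ker * Nat.card φ.range = Nat.card B := by
    have := Subgroup.card_eq_card_quotient_mul_card_subgroup φ.ker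
    rw [this, Nat.card_congr (QuotientGroup.quotientKerEquivRange φ).toEquiv, mul_comm]
  have h3 : Nat.card (B ⧸ φ.range) * Nat.card φ.range = Nat.card B :=
    (Subgroup.card_eq_card_quotient_mul_card_subgroup φ.range).symm
  have h4 : Nat.card φ.ker = Nat.card (B ⧸ φ.range) :=
    Nat.eq_of_mul_eq_mul_right Nat.card_pos (h2.trans h3.symm)
  have hexp : ∀ x : B ⧸ φ.range, x ^ p = 1 := by
    intro x
    obtain ⟨b, rfl⟩ := QuotientGroup.mk_surjective x
    rw [← QuotientGroup.mk_pow, QuotientGroup.eq_one_iff]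
    exact ⟨b, rfl⟩
  have hgen : Subgroup.closure ((S.image (QuotientGroup.mk' φ.range) : Finset (B ⧸ φ.range)) :
      Set (B ⧸ φ.range)) = ⊤ := by
    rw [Finset.coe_image, ← MonoidHom.map_closure, hS, ← MonoidHom.range_eq_map,
      MonoidHom.range_eq_top]
    exact QuotientGroup.mk'_surjective _
  have h5 := card_closure_le p hp.out.pos hexp (S.image (QuotientGroup.mk' φ.range))
  rw [hgen, Subgroup.card_top] at h5
  calc Nat.card {x : B // x ^ p = 1} = Nat.card (B ⧸ φ.range) := h1.trans h4
    _ ≤ p ^ (S.image (QuotientGroup.mk' φ.range)).card := h5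
    _ ≤ p ^ S.card := Nat.pow_le_pow_right hp.out.pos Finset.card_image_le
    _ = p ^ Group.rank B := by rw [hScard]

variable {G : Type*} [Group G]

theorem lemmaA [Finite G] {p r : ℕ} [hp : Fact p.Prime] [hr : Fact r.Prime] (hrp : r ≠ p)
    (P : Subgroup G) (hP : IsPGroup p P) (hab : ∀ x ∈ P, ∀ y ∈ P, x * y = y * x)
    (V : Subgroup G) (hV : ∀ x, x ∈ V ↔ x ∈ P ∧ x ^ p = 1) (g : G)
    (hgP : g ∈ Subgroup.normalizer (P : Set G)) (hgr : g ^ r ∈ Subgroup.centralizer (P : Set G))
    (hg : g ∉ Subgroup.centralizer (P : Set G)) {e : ℕ} (he : Nat.card V = p ^ e) :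
    ∃ j, 1 ≤ j ∧ j ≤ e ∧ r ∣ p ^ j - 1 := by
  classical
  have hVP : V ≤ P := fun x hx => ((hV x).1 hx).1
  have hconjP : ∀ x ∈ P, g * x * g⁻¹ ∈ P := fun x hx => (Subgroup.mem_normalizer_iff.1 hgP x).1 hx
  have hconjV : ∀ x ∈ V, g * x * g⁻¹ ∈ V := by
    intro x hx
    obtain ⟨hxP, hxp⟩ := (hV x).1 hx
    exact (hV _).2 ⟨hconjP x hxP, by rw [conj_pow, hxp, mul_one, mul_inv_cancel]⟩
  have hcop : Nat.Coprime r p := (Nat.coprime_primes hr.out hp.out).2 hrp
  -- Step 1: g acts nontrivially on V
  have hnontriv : ∃ v ∈ V, g * v * g⁻¹ ≠ v := by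
    by_contra hall
    push Not at hall
    apply hg
    have key : ∀ k : ℕ, ∀ x ∈ P, x ^ p ^ k = 1 → g * x * g⁻¹ = x := by
      intro k
      induction k with
      | zero =>
        intro x _ hx
        rw [pow_zero, pow_one] at hx
        rw [hx, mul_one, mul_inv_cancel]
      | succ k ih =>
        intro x hxP hx
        have hxp : g * x ^ p * g⁻¹ = x ^ p := by
          apply ih _ (P.pow_mem hxP p)
          rw [← pow_mul, ← pow_succ']; exact hx
        set y := g * x * g⁻¹ * x⁻¹ with hy
        have hyP : y ∈ P := P.mul_mem (hconjP x hxP) (P.inv_mem hxP)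
        have hyp : y ^ p = 1 := by
          have hc : Commute (g * x * g⁻¹) x⁻¹ := hab _ (hconjP x hxP) _ (P.inv_mem hxP)
          rw [hy, hc.mul_pow, conj_pow, hxp, inv_pow, mul_inv_cancel]
        have hyV : y ∈ V := (hV y).2 ⟨hyP, hyp⟩
        have hyfix : g * y * g⁻¹ = y := hall y hyV
        have hpow : ∀ n : ℕ, g ^ n * x * (g ^ n)⁻¹ = y ^ n * x := by
          intro n
          induction n with
          | zero => simp
          | succ n ihn =>
            have e1 : g ^ (n + 1) * x * (g ^ (n + 1))⁻¹ = g * (g ^ n * x * (g ^ n)⁻¹) * g⁻¹ := by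
              rw [pow_succ']; group
            rw [e1, ihn]
            have e2 : g * (y ^ n * x) * g⁻¹ = (g * y * g⁻¹) ^ n * (g * x * g⁻¹) := by
              rw [conj_pow]; group
            rw [e2, hyfix]
            have e3 : g * x * g⁻¹ = y * x := by rw [hy]; group
            rw [e3, ← mul_assoc, ← pow_succ]
        have hyr : y ^ r = 1 := by
          have h1 := hpow r
          have h2 : g ^ r * x * (g ^ r)⁻¹ = x := by
            have := Subgroup.mem_centralizer_iff.1 hgr x hxP
            rw [← this, mul_inv_cancel_right]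
          rw [h2] at h1
          exact (mul_eq_right.1 h1.symm)
        have hy1 : y = 1 := by
          have h1 : orderOf y ∣ r := orderOf_dvd_of_pow_eq_one hyr
          have h2 : orderOf y ∣ p := orderOf_dvd_of_pow_eq_one hyp
          have h3 : orderOf y ∣ Nat.gcd r p := Nat.dvd_gcd h1 h2
          rw [hcop.gcd_eq_one, Nat.dvd_one] at h3
          exact orderOf_eq_one_iff.1 h3
        have : g * x * g⁻¹ = y * x := by rw [hy]; group
        rw [this, hy1, one_mul]
    rw [Subgroup.mem_centralizer_iff]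
    intro x hxP
    obtain ⟨k, hk⟩ := hP ⟨x, hxP⟩
    have hk' : x ^ p ^ k = 1 := by
      have := congrArg Subtype.val hk
      simpa using this
    have := key k x hxP hk'
    calc x * g = (g * x * g⁻¹) * g := by rw [this]
      _ = g * x := by group
  -- Step 2: counting
  set V₀ : Subgroup G := V ⊓ Subgroup.centralizer ({g} : Set G) with hV₀
  have hV₀V : V₀ ≤ V := inf_le_left
  have hV₀ne : V₀ ≠ V := by
    intro h
    obtain ⟨v, hv, hvne⟩ := hnontriv
    have hv0 : v ∈ V₀ := h.symm ▸ hv
    have := Subgroup.mem_centralizer_iff.1 hv0.2 g rfl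
    apply hvne
    rw [this, mul_inv_cancel_right]
  have hV₀p : IsPGroup p V₀ := hP.to_le (hV₀V.trans hVP)
  obtain ⟨f, hf⟩ := IsPGroup.iff_card.1 hV₀p
  have hfe : f < e := by
    have h1 : Nat.card V₀ ∣ Nat.card V := Subgroup.card_dvd_of_le hV₀V
    rw [hf, he] at h1
    have h2 : f ≤ e := (Nat.pow_dvd_pow_iff_le_right hp.out.one_lt).1 h1
    rcases h2.lt_or_eq with h3 | h3
    · exact h3
    · exfalso
      apply hV₀ne
      apply Subgroup.eq_of_le_of_card_ge hV₀V
      rw [hf, he, h3]
  -- the permutation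
  let σ : Function.End V := fun v => ⟨g * v * g⁻¹, hconjV v v.2⟩
  have hσpow : ∀ n : ℕ, ∀ v : V, ((σ ^ n) v : G) = g ^ n * v * (g ^ n)⁻¹ := by
    intro n
    induction n with
    | zero =>
      intro v
      rw [pow_zero, pow_zero, inv_one, mul_one, one_mul]
      rfl
    | succ n ihn =>
      intro v
      rw [pow_succ']
      change ((σ ((σ ^ n) v) : V) : G) = _
      change g * ((σ ^ n) v : G) * g⁻¹ = _
      rw [ihn, pow_succ']; group
  have hσr : σ ^ r ^ 1 = 1 := by
    rw [pow_one]
    funext v
    apply Subtype.ext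
    rw [hσpow]
    have := Subgroup.mem_centralizer_iff.1 hgr v (hVP v.2)
    change g ^ r * v * (g ^ r)⁻¹ = v
    rw [← this, mul_inv_cancel_right]
  have _ : Fintype V := Fintype.ofFinite V
  have hmod := Equiv.Perm.card_fixedPoints_modEq (p := r) (n := 1) hσr
  have hfix : Fintype.card (Function.fixedPoints σ) = Nat.card V₀ := by
    rw [← Nat.card_eq_fintype_card]
    apply Nat.card_congr
    refine
      { toFun := fun v => ⟨v.1.1, ⟨v.1.2, ?_⟩⟩
        invFun := fun w => ⟨⟨w.1, w.2.1⟩, ?_⟩
        left_inv := fun v => rfl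
        right_inv := fun w => rfl }
    · change ((v.1 : V) : G) ∈ Subgroup.centralizer ({g} : Set G)
      rw [Subgroup.mem_centralizer_iff]
      intro h hh
      rw [Set.mem_singleton_iff] at hh
      subst hh
      have := congrArg Subtype.val v.2
      change h * (v.1 : G) * h⁻¹ = v.1 at this
      calc h * (v.1 : G) = (h * (v.1 : G) * h⁻¹) * h := by group
        _ = (v.1 : G) * h := by rw [this]
    · change σ ⟨w.1, w.2.1⟩ = ⟨w.1, w.2.1⟩
      apply Subtype.ext
      change g * w.1 * g⁻¹ = w.1
      have := Subgroup.mem_centralizer_iff.1 w.2.2 g rfl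
      rw [this, mul_inv_cancel_right]
  rw [← Nat.card_eq_fintype_card, hfix, he, hf] at hmod
  have hdvd : r ∣ p ^ e - p ^ f :=
    (Nat.modEq_iff_dvd' (Nat.pow_le_pow_right hp.out.pos hfe.le)).1 hmod.symm
  have hfact : p ^ e - p ^ f = p ^ f * (p ^ (e - f) - 1) := by
    rw [Nat.mul_sub, mul_one, ← pow_add]
    congr 2
    omega
  rw [hfact] at hdvd
  have hcop' : Nat.Coprime r (p ^ f) := Nat.Coprime.pow_right f hcop
  exact ⟨e - f, by omega, Nat.sub_le e f, hcop'.dvd_of_dvd_mul_left hdvd⟩

open scoped IsMulCommutative in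
/-- Let `P` be an abelian Sylow `p`-subgroup of the finite group `G`, generated by `d` elements (`d` its minimal number of generators). If the order of `G` is coprime to `(p - 1)(p ^ 2 - 1) ⋯ (p ^ d - 1)`, then `G` has a normal `p`-complement. (The classical statement needs only the largest number of cyclic factors of `P` of equal order in place of `d`; the form here follows from it.) -/
theorem result {G : Type*} [Group G] [Finite G] (p : ℕ) [Fact p.Prime] (P : Sylow p G) (hab : IsMulCommutative (P : Subgroup G)) (hcop : Nat.Coprime (Nat.card G) (∏ i ∈ Finset.Icc 1 (Group.rank (P : Subgroup G)), (p ^ i - 1))) : Cfsg.HasNormalPComplement p G := by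
  have hp : p.Prime := Fact.out
  apply hasNormalPComplement_of_normalizer_le_centralizer P
  have habel : ∀ x ∈ (P : Subgroup G), ∀ y ∈ (P : Subgroup G), x * y = y * x := by
    intro x hx y hy
    exact congrArg Subtype.val (hab.is_comm.comm (⟨x, hx⟩ : (P : Subgroup G)) ⟨y, hy⟩)
  -- the subgroup V = Ω₁(P)
  let V : Subgroup G :=
    { carrier := {x | x ∈ (P : Subgroup G) ∧ x ^ p = 1}
      mul_mem' := by
        rintro x y ⟨hx, hx2⟩ ⟨hy, hy2⟩
        refine ⟨Subgroup.mul_mem _ hx hy, ?_⟩
        have hc : Commute x y := habel x hx y hy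
        rw [hc.mul_pow, hx2, hy2, one_mul]
      one_mem' := ⟨Subgroup.one_mem _, one_pow _⟩
      inv_mem' := by
        rintro x ⟨hx, hx2⟩
        exact ⟨Subgroup.inv_mem _ hx, by rw [inv_pow, hx2, inv_one]⟩ }
  have hV : ∀ x, x ∈ V ↔ x ∈ (P : Subgroup G) ∧ x ^ p = 1 := fun x => Iff.rfl
  have hVp : IsPGroup p V := P.2.to_le (fun x hx => hx.1)
  obtain ⟨e, he⟩ := IsPGroup.iff_card.1 hVp
  have hed : e ≤ Group.rank (P : Subgroup G) := by
    have h1 := card_torsion_le (P : Subgroup G) p
    have h2 : Nat.card {x : (P : Subgroup G) // x ^ p = 1} = Nat.card V := by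
      apply Nat.card_congr
      refine
        { toFun := fun x => ⟨x.1.1, ⟨x.1.2, ?_⟩⟩
          invFun := fun v => ⟨⟨v.1, v.2.1⟩, ?_⟩
          left_inv := fun x => rfl
          right_inv := fun v => rfl }
      · have := congrArg Subtype.val x.2
        simpa using this
      · apply Subtype.ext
        simpa using v.2.2
    rw [h2, he] at h1
    exact (Nat.pow_le_pow_iff_right hp.one_lt).1 h1
  -- minimal counterexample by order
  intro g hgN
  induction' hn : orderOf g using Nat.strong_induction_on with n ih generalizing g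
  by_contra hgC
  have hord1 : orderOf g ≠ 1 := by
    intro h1
    rw [orderOf_eq_one_iff] at h1
    apply hgC
    rw [h1]
    exact Subgroup.one_mem _
  have hordpos : 0 < orderOf g := orderOf_pos g
  -- powers of g with smaller order centralize
  have hsmall : ∀ r : ℕ, r.Prime → r ∣ orderOf g →
      g ^ r ∈ Subgroup.centralizer (((P : Subgroup G)) : Set G) := by
    intro r hr hrd
    refine ih (orderOf (g ^ r)) ?_ (Subgroup.pow_mem _ hgN r) rfl
    rw [← hn, orderOf_pow_of_dvd hr.ne_zero hrd]
    exact Nat.div_lt_self hordpos hr.one_lt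
  -- there is a prime r ≠ p dividing the order
  have hexr : ∃ r : ℕ, r.Prime ∧ r ≠ p ∧ r ∣ orderOf g := by
    by_contra hno
    push Not at hno
    -- then the order of g is a power of p, so g ∈ P
    have hpow : orderOf g = p ^ (orderOf g).primeFactorsList.length :=
      Nat.eq_prime_pow_of_unique_prime_dvd hordpos.ne' (fun {d} hd hdd => by
        by_contra hdp
        exact hno d hd hdp hdd)
    have hz : IsPGroup p (Subgroup.zpowers g) := by
      apply IsPGroup.of_card (n := (orderOf g).primeFactorsList.length)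
      rw [Nat.card_zpowers]; exact hpow
    have hzN : Subgroup.zpowers g ≤ Subgroup.normalizer (((P : Subgroup G)) : Set G) :=
      Subgroup.zpowers_le.2 hgN
    have hsup : IsPGroup p (Subgroup.zpowers g ⊔ (P : Subgroup G) : Subgroup G) :=
      IsPGroup.to_sup_of_normal_right' hz P.2 hzN
    have heq := P.is_maximal' hsup le_sup_right
    have hgP : g ∈ (P : Subgroup G) := by
      rw [← heq]
      exact Subgroup.mem_sup_left (Subgroup.mem_zpowers g)
    apply hgC
    rw [Subgroup.mem_centralizer_iff]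
    intro x hx
    exact habel x hx g hgP
  obtain ⟨r, hr, hrp, hrd⟩ := hexr
  have hgr := hsmall r hr hrd
  have : Fact r.Prime := ⟨hr⟩
  obtain ⟨j, hj1, hje, hjd⟩ := lemmaA hrp (P : Subgroup G) P.2 habel V hV g hgN hgr hgC he
  have h1 : r ∣ ∏ i ∈ Finset.Icc 1 (Group.rank (P : Subgroup G)), (p ^ i - 1) :=
    hjd.trans (Finset.dvd_prod_of_mem (fun i => p ^ i - 1)
      (Finset.mem_Icc.2 ⟨hj1, hje.trans hed⟩))
  have h2 : r ∣ Nat.card G := hrd.trans (orderOf_dvd_natCard g)
  exact hr.ne_one (Nat.eq_one_of_dvd_coprimes hcop h2 h1)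

end Cfsg.Agent.S3969
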