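import Mathlib
import Cfsg.Statements.S3970
import Cfsg.Agent.S3969

set_option autoImplicit false
open Cfsg

namespace Cfsg.Agent.S3970

universe u

theorem rank_le_one_of_prime_card {H : Type*} [Group H] [Finite H] {p : ℕ} [Fact p.Prime]
    (h : Nat.card H = p) : Group.rank H ≤ 1 := by
  have hc : IsCyclic H := isCyclic_of_prime_card h
  obtain ⟨g, hg⟩ := hc.exists_generator
  have : Subgroup.closure (({g} : Finset H) : Set H) = ⊤ := by
    rw [Finset.coe_singleton, ← Subgroup.zpowers_eq_closure, eq_top_iff]
    intro x _
    exact hg x
  exact (Group.rank_le this).trans (by simp)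

theorem aux : ∀ (n : ℕ) (G : Type u) [Group G] [Finite G], Nat.card G = n →
    (∀ p : ℕ, p.Prime → p ∣ Nat.card G → (∃ q : ℕ, q.Prime ∧ q ∣ Nat.card G ∧ p < q) →
      ∀ P : Sylow p G, IsMulCommutative (P : Subgroup G) ∧ Group.rank (P : Subgroup G) ≤ 2) →
    ¬ 12 ∣ Nat.card G → Group.IsSolvable G := by
  intro n
  induction n using Nat.strong_induction_on with
  | _ n ih =>
  intro G _ _ hn h h12
  by_cases h1 : Nat.card G = 1
  · have : Subsingleton G := (Nat.card_eq_one_iff_unique.1 h1).1
    infer_instance
  set p := (Nat.card G).minFac with hp
  have hpp : p.Prime := Nat.minFac_prime h1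
  have hpd : p ∣ Nat.card G := Nat.minFac_dvd _
  have : Fact p.Prime := ⟨hpp⟩
  have hp2 := hpp.two_le
  have hmin : ∀ r : ℕ, r.Prime → r ∣ Nat.card G → p ≤ r :=
    fun r hr hrd => Nat.minFac_le_of_dvd hr.two_le hrd
  have hG0 : Nat.card G ≠ 0 := Nat.card_pos.ne'
  by_cases hlarge : ∃ q : ℕ, q.Prime ∧ q ∣ Nat.card G ∧ p < q
  · obtain ⟨P⟩ : Nonempty (Sylow p G) := inferInstance
    obtain ⟨hab, hrank⟩ := h p hpp hpd hlarge P
    have hcop : Nat.Coprime (Nat.card G)
        (∏ i ∈ Finset.Icc 1 (Group.rank (P : Subgroup G)), (p ^ i - 1)) := by
      apply Nat.Coprime.prod_right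
      intro i hi
      rw [Finset.mem_Icc] at hi
      apply Nat.Coprime.symm
      apply Nat.coprime_of_dvd
      intro r hr hrd hrG
      have hpr := hmin r hr hrG
      have hi12 : i = 1 ∨ i = 2 := by omega
      rcases hi12 with rfl | rfl
      · rw [pow_one] at hrd
        have := Nat.le_of_dvd (by omega) hrd
        omega
      · have hfac : p ^ 2 - 1 = (p + 1) * (p - 1) := by
          have := Nat.sq_sub_sq p 1
          simpa using this
        rw [hfac] at hrd
        rcases (Nat.Prime.dvd_mul hr).1 hrd with h' | h'
        · obtain ⟨c, hc⟩ := h'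
          have hc1 : c = 1 := by
            by_contra hne
            have hc0 : c ≠ 0 := by
              rintro rfl
              omega
            have hc2 : 2 ≤ c := by omega
            nlinarith
          subst hc1
          rw [mul_one] at hc
          have hp2' : p = 2 := by
            rcases hpp.eq_two_or_odd with h2 | hodd
            · exact h2
            · exfalso
              have h2r : 2 ∣ r := by omega
              have := (Nat.prime_dvd_prime_iff_eq Nat.prime_two hr).1 h2r
              omega
          have h3 : 3 ∣ Nat.card G := by
            have : r = 3 := by omega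
            rwa [this] at hrG
          have h4 : 4 ∣ Nat.card G := by
            have hPcard := P.card_eq_multiplicity
            set k := (Nat.card G).factorization p with hk
            have hk2 : 2 ≤ k := by
              by_contra hlt
              have hk01 : k = 0 ∨ k = 1 := by omega
              rcases hk01 with h0 | h1'
              · rw [h0, pow_zero] at hPcard
                have : Subsingleton (P : Subgroup G) :=
                  (Nat.card_eq_one_iff_unique.1 hPcard).1
                have := Group.rank_eq_zero (P : Subgroup G)
                omega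
              · rw [h1', pow_one] at hPcard
                have := rank_le_one_of_prime_card (H := (P : Subgroup G)) hPcard
                omega
            have h5 : p ^ 2 ∣ Nat.card G :=
              (pow_dvd_pow p hk2).trans (Nat.ordProj_dvd _ _)
            rw [hp2'] at h5
            exact h5
          exact h12 (Nat.Coprime.mul_dvd_of_dvd_of_dvd (by norm_num : Nat.Coprime 4 3) h4 h3)
        · have := Nat.le_of_dvd (by omega) h'
          omega
    obtain ⟨P', N, hNn, hNc⟩ := Cfsg.Agent.S3969.result p P hab hcop
    have hcard : Nat.card N * Nat.card (P' : Subgroup G) = Nat.card G := hNc.card_mul_card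
    have hP'card := P'.card_eq_multiplicity
    set k := (Nat.card G).factorization p with hk
    have hk1 : 1 ≤ k := (hpp.dvd_iff_one_le_factorization hG0).1 hpd
    have hP'1 : 1 < Nat.card (P' : Subgroup G) := by
      rw [hP'card]; exact Nat.one_lt_pow (by omega) hpp.one_lt
    have hNpos : 0 < Nat.card N := Nat.card_pos
    have hlt : Nat.card N < n := by
      rw [← hn, ← hcard]
      exact lt_mul_of_one_lt_right hNpos hP'1
    have hNdvd : Nat.card N ∣ Nat.card G := Subgroup.card_subgroup_dvd_card N
    have hpN : ¬ p ∣ Nat.card N := by
      have h2 : Nat.card N = Nat.card G / p ^ k := by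
        rw [← hcard, hP'card, Nat.mul_div_cancel _ (pow_pos hpp.pos k)]
      rw [h2]
      exact Nat.not_dvd_ordCompl hpp hG0
    have hNsolv : Group.IsSolvable N := by
      apply ih (Nat.card N) hlt N rfl
      · intro r hr hrN hq R
        obtain ⟨q, hq, hqN, hrq⟩ := hq
        have : Fact r.Prime := ⟨hr⟩
        have hrp : r ≠ p := fun e => hpN (e ▸ hrN)
        have hRcard := R.card_eq_multiplicity
        have hfact : (Nat.card G).factorization r = (Nat.card N).factorization r := by
          rw [← hcard, Nat.factorization_mul hNpos.ne' (by omega), hP'card]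
          simp [Nat.Prime.factorization_pow hpp, hrp.symm]
        set R₁ : Subgroup G := (R : Subgroup N).map N.subtype with hR₁
        have hR₁card : Nat.card R₁ = r ^ (Nat.card G).factorization r := by
          rw [hR₁, Subgroup.card_map_of_injective N.subtype_injective, hRcard, hfact]
        let S : Sylow r G := Sylow.ofCard R₁ hR₁card
        obtain ⟨hab', hrank'⟩ := h r hr (hrN.trans hNdvd) ⟨q, hq, hqN.trans hNdvd, hrq⟩ S
        let e : (R : Subgroup N) ≃* R₁ :=
          (R : Subgroup N).equivMapOfInjective N.subtype N.subtype_injective
        refine ⟨⟨⟨fun a b => e.injective ?_⟩⟩, ?_⟩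
        · rw [map_mul, map_mul]
          exact hab'.is_comm.comm (e a) (e b)
        · rw [Group.rank_congr e]
          exact hrank'
      · exact fun h => h12 (h.trans hNdvd)
    have hQsolv : Group.IsSolvable (G ⧸ N) := by
      have hQcard : Nat.card (G ⧸ N) = p ^ k := by
        have h2 : Nat.card (G ⧸ N) = N.index := rfl
        rw [h2, ← hP'card]
        exact hNc.symm.index_eq_card
      have hQp : IsPGroup p (G ⧸ N) := IsPGroup.of_card hQcard
      have : Group.IsNilpotent (G ⧸ N) := hQp.isNilpotent
      infer_instance
    exact Group.isSolvable_of_ker_le_range N.subtype (QuotientGroup.mk' N) (by simp)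
  · -- `G` is a `p`-group
    push Not at hlarge
    have hpow : Nat.card G = p ^ (Nat.card G).primeFactorsList.length :=
      Nat.eq_prime_pow_of_unique_prime_dvd hG0 (fun {d} hd hdd => by
        have h1 := hmin d hd hdd
        have h2 := hlarge d hd hdd
        omega)
    have hGp : IsPGroup p G := IsPGroup.of_card hpow
    have : Group.IsNilpotent G := hGp.isNilpotent
    infer_instance

/-- Let `G` be a finite group such that for every prime `p` dividing its order, other than the largest such prime, the Sylow `p`-subgroups are abelian and generated by at most two elements, and suppose `12` does not divide the order of `G`. Then `G` is solvable. In particular a group of cube-free order not divisible by `12` is solvable. -/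
theorem result {G : Type*} [Group G] [Finite G] (h : ∀ p : ℕ, p.Prime → p ∣ Nat.card G → (∃ q : ℕ, q.Prime ∧ q ∣ Nat.card G ∧ p < q) → ∀ P : Sylow p G, IsMulCommutative (P : Subgroup G) ∧ Group.rank (P : Subgroup G) ≤ 2) (h12 : ¬ 12 ∣ Nat.card G) : Group.IsSolvable G :=
  aux _ G rfl h h12

end Cfsg.Agent.S3970
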