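import Mathlib
import Cfsg.Statements.S3971
import Cfsg.Agent.Helper1.Coprime
import Cfsg.Agent.Helper1.FrobPCompl2

set_option autoImplicit false
open Cfsg
open scoped Pointwise

namespace Cfsg.Agent.S3971

open Cfsg.Agent.Helper1

/-- an index-two subgroup is determined by which generators it contains -/
theorem eq_of_index_two {Q : Type*} [Group Q] (M M' : Subgroup Q) (hM : M.index = 2)
    (hM' : M'.index = 2) (T : Set Q) (hT : Subgroup.closure T = ⊤)
    (h : ∀ t ∈ T, (t ∈ M ↔ t ∈ M')) : M = M' := by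
  ext x
  have hx : x ∈ Subgroup.closure T := by rw [hT]; trivial
  induction hx using Subgroup.closure_induction with
  | mem t ht => exact h t ht
  | one => simp
  | mul a b _ _ iha ihb =>
    exact (Subgroup.mul_mem_iff_of_index_two hM).trans
      ((iff_congr iha ihb).trans (Subgroup.mul_mem_iff_of_index_two hM').symm)
  | inv a _ iha => exact (Subgroup.inv_mem_iff M).trans (iha.trans (Subgroup.inv_mem_iff M').symm)

variable {G : Type*} [Group G]

/-- internal version -/
theorem eq_of_relIndex_two (Q M M' : Subgroup G) (hMQ : M ≤ Q) (hM'Q : M' ≤ Q)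
    (hM : M.relIndex Q = 2) (hM' : M'.relIndex Q = 2) (d y : G) (hd : d ∈ Q) (hy : y ∈ Q)
    (hgen : Subgroup.closure {d, y} = Q) (h1 : d ∈ M ↔ d ∈ M') (h2 : y ∈ M ↔ y ∈ M') :
    M = M' := by
  have key : M.subgroupOf Q = M'.subgroupOf Q := by
    apply eq_of_index_two _ _ hM hM' {⟨d, hd⟩, ⟨y, hy⟩}
    · apply Subgroup.map_injective Q.subtype_injective
      rw [MonoidHom.map_closure, ← MonoidHom.range_eq_map, Subgroup.range_subtype]
      have : (Q.subtype '' {⟨d, hd⟩, ⟨y, hy⟩} : Set G) = {d, y} := by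
        rw [Set.image_pair]; rfl
      rw [this, hgen]
    · rintro t (rfl | rfl)
      · simpa [Subgroup.mem_subgroupOf] using h1
      · simpa [Subgroup.mem_subgroupOf] using h2
  have := congrArg (Subgroup.map Q.subtype) key
  rwa [Subgroup.map_subgroupOf_eq_of_le hMQ, Subgroup.map_subgroupOf_eq_of_le hM'Q] at this

/-- an odd-order element normalizing a `2`-group and centralizing a subgroup of index two
centralizes the whole group -/
theorem mem_centralizer_of_relIndex_two (Q M : Subgroup G) (hMQ : M ≤ Q)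
    (hidx : M.relIndex Q = 2) (hQ2 : IsPGroup 2 Q) (g : G) (hodd : Odd (orderOf g))
    (hgQ : g ∈ Subgroup.normalizer (Q : Set G)) (hgM : g ∈ Subgroup.normalizer (M : Set G))
    (hgC : g ∈ Subgroup.centralizer (M : Set G)) : g ∈ Subgroup.centralizer (Q : Set G) := by
  rw [Subgroup.mem_centralizer_iff]
  intro z hz
  by_cases hzM : z ∈ M
  · exact Subgroup.mem_centralizer_iff.1 hgC z hzM
  have hconjQ : g * z * g⁻¹ ∈ Q := (Subgroup.mem_normalizer_iff.1 hgQ z).1 hz
  have hconjM : g * z * g⁻¹ ∉ M := fun h => hzM ((Subgroup.mem_normalizer_iff.1 hgM z).2 h)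
  have hidx' : (M.subgroupOf Q).index = 2 := hidx
  set m := z⁻¹ * (g * z * g⁻¹) with hm
  have hmM : m ∈ M := by
    have h1 := Subgroup.mul_mem_iff_of_index_two hidx'
      (a := (⟨z⁻¹, Q.inv_mem hz⟩ : Q)) (b := ⟨g * z * g⁻¹, hconjQ⟩)
    simp only [Subgroup.mem_subgroupOf, Subgroup.coe_mul] at h1
    rw [hm]
    apply h1.2
    constructor
    · intro h; exact absurd (by simpa using M.inv_mem h) hzM
    · intro h; exact absurd h hconjM
  have hgm : g * m * g⁻¹ = m := by
    have := Subgroup.mem_centralizer_iff.1 hgC m hmM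
    rw [← this, mul_inv_cancel_right]
  have hpow : ∀ k : ℕ, g ^ k * z * (g ^ k)⁻¹ = z * m ^ k := by
    intro k
    induction k with
    | zero => simp
    | succ k ih =>
      have e1 : g ^ (k + 1) * z * (g ^ (k + 1))⁻¹ = g * (g ^ k * z * (g ^ k)⁻¹) * g⁻¹ := by
        rw [pow_succ']; group
      rw [e1, ih]
      have e2 : g * (z * m ^ k) * g⁻¹ = (g * z * g⁻¹) * (g * m * g⁻¹) ^ k := by
        rw [conj_pow]; group
      rw [e2, hgm]
      have e3 : g * z * g⁻¹ = z * m := by rw [hm]; group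
      rw [e3, mul_assoc, ← pow_succ']
  have hmk : m ^ orderOf g = 1 := by
    have := hpow (orderOf g)
    rw [pow_orderOf_eq_one, one_mul, inv_one, mul_one] at this
    exact (mul_eq_left.1 this.symm)
  have hm1 : m = 1 := by
    obtain ⟨j, hj⟩ := (IsPGroup.iff_orderOf.1 hQ2) ⟨m, hMQ hmM⟩
    rw [Subgroup.orderOf_mk] at hj
    have h1 : orderOf m ∣ orderOf g := orderOf_dvd_of_pow_eq_one hmk
    rw [hj] at h1
    have h2 : j = 0 := by
      by_contra hne
      have : 2 ∣ orderOf g := (dvd_pow_self 2 hne).trans h1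
      exact (Nat.not_even_iff_odd.2 hodd) (even_iff_two_dvd.2 this)
    rw [h2, pow_zero] at hj
    exact orderOf_eq_one_iff.1 hj
  have : g * z * g⁻¹ = z := by
    have e3 : g * z * g⁻¹ = z * m := by rw [hm]; group
    rw [e3, hm1, mul_one]
  calc z * g = (g * z * g⁻¹) * g := by rw [this]
    _ = g * z := by group

theorem conj_smul_mono' {H K : Subgroup G} (h : H ≤ K) (g : G) :
    MulAut.conj g • H ≤ MulAut.conj g • K := by
  intro x hx
  rw [mem_conj_smul] at hx ⊢
  exact h hx

theorem exists_zpowers_eq_of_le_zpowers (D : Subgroup G) (x : G) (hD : D ≤ Subgroup.zpowers x) :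
    ∃ d : G, D = Subgroup.zpowers d := by
  have h1 : IsCyclic (D.subgroupOf (Subgroup.zpowers x)) := inferInstance
  have h2 : IsCyclic D :=
    isCyclic_of_surjective (Subgroup.subgroupOfEquivOfLe hD) (Subgroup.subgroupOfEquivOfLe hD).surjective
  obtain ⟨d, hd⟩ := h2.exists_generator
  refine ⟨d, le_antisymm ?_ (Subgroup.zpowers_le.2 d.2)⟩
  intro w hw
  obtain ⟨k, hk⟩ := Subgroup.mem_zpowers_iff.1 (hd ⟨w, hw⟩)
  refine Subgroup.mem_zpowers_iff.2 ⟨k, ?_⟩
  have := congrArg Subtype.val hk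
  simpa using this

theorem exists_two_generators [Finite G] (Q : Subgroup G) (x : G)
    (h : (Subgroup.zpowers x).relIndex Q ≤ 2) :
    ∃ d y : G, d ∈ Q ∧ y ∈ Q ∧ Subgroup.closure {d, y} = Q := by
  set D := Subgroup.zpowers x ⊓ Q with hD
  have hDQ : D ≤ Q := inf_le_right
  obtain ⟨d, hd⟩ := exists_zpowers_eq_of_le_zpowers D x inf_le_left
  have hdD : d ∈ D := hd ▸ Subgroup.mem_zpowers d
  have hrel : D.relIndex Q = (Subgroup.zpowers x).relIndex Q := Subgroup.inf_relIndex_right _ _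
  have hne0 : D.relIndex Q ≠ 0 := Subgroup.index_ne_zero_of_finite
  have hcases : D.relIndex Q = 1 ∨ D.relIndex Q = 2 := by
    rw [← hrel] at h; omega
  rcases hcases with h1 | h2
  · have hQD : Q ≤ D := Subgroup.relIndex_eq_one.1 h1
    refine ⟨d, d, hDQ hdD, hDQ hdD, ?_⟩
    rw [Set.pair_eq_singleton, ← Subgroup.zpowers_eq_closure, ← hd]
    exact le_antisymm hDQ hQD
  · obtain ⟨y, hyQ, hyD⟩ : ∃ y ∈ Q, y ∉ D := by
      by_contra hall
      push Not at hall
      have : D.relIndex Q = 1 := Subgroup.relIndex_eq_one.2 hall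
      omega
    refine ⟨d, y, hDQ hdD, hyQ, le_antisymm ?_ ?_⟩
    · rw [Subgroup.closure_le]
      rintro t (rfl | rfl)
      · exact hDQ hdD
      · exact hyQ
    · intro z hz
      have hDle : D ≤ Subgroup.closure {d, y} := by
        rw [hd]
        exact Subgroup.zpowers_le.2 (Subgroup.subset_closure (by simp))
      have hyc : y ∈ Subgroup.closure {d, y} := Subgroup.subset_closure (by simp)
      by_cases hzD : z ∈ D
      · exact hDle hzD
      · have hidx' : (D.subgroupOf Q).index = 2 := h2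
        have h3 := Subgroup.mul_mem_iff_of_index_two hidx'
          (a := (⟨y⁻¹, Q.inv_mem hyQ⟩ : Q)) (b := ⟨z, hz⟩)
        simp only [Subgroup.mem_subgroupOf, Subgroup.coe_mul] at h3
        have h4 : y⁻¹ * z ∈ D := by
          apply h3.2
          constructor
          · intro h; exact absurd (by simpa using D.inv_mem h) hyD
          · intro h; exact absurd h hzD
        have : z = y * (y⁻¹ * z) := by group
        rw [this]
        exact Subgroup.mul_mem _ hyc (hDle h4)

theorem exists_relIndex_two [Finite G] (Q : Subgroup G) (hQ : IsPGroup 2 Q) (hne : Q ≠ ⊥) :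
    ∃ M ≤ Q, M.relIndex Q = 2 := by
  obtain ⟨k, hk⟩ := IsPGroup.iff_card.1 hQ
  have hk0 : k ≠ 0 := by
    intro h0
    rw [h0, pow_zero] at hk
    exact hne (Subgroup.card_eq_one.1 hk)
  obtain ⟨M, hM⟩ := Sylow.exists_subgroup_card_pow_prime (G := Q) 2 (n := k - 1)
    (by rw [hk]; exact pow_dvd_pow 2 (Nat.sub_le k 1))
  have hidx : M.index = 2 := by
    have h1 := M.card_mul_index
    rw [hM, hk] at h1
    have h2 : (2:ℕ) ^ k = 2 ^ (k - 1) * 2 := by
      rw [← pow_succ]; congr 1; omega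
    rw [h2] at h1
    exact Nat.eq_of_mul_eq_mul_left (pow_pos (by norm_num) _) h1
  refine ⟨M.map Q.subtype, Subgroup.map_subtype_le M, ?_⟩
  rw [Subgroup.relIndex, Subgroup.subgroupOf, Subgroup.comap_map_eq_self_of_injective Q.subtype_injective]
  exact hidx

theorem main [Finite G] (S : Subgroup G) (x : G) (hS2 : IsPGroup 2 S)
    (hxS : (Subgroup.zpowers x).relIndex S ≤ 2) (g : G) (hodd : Odd (orderOf g))
    (h3 : ¬ 3 ∣ orderOf g) :
    ∀ (n : ℕ) (Q : Subgroup G), Nat.card Q = n → Q ≤ S →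
      g ∈ Subgroup.normalizer (Q : Set G) → g ∈ Subgroup.centralizer (Q : Set G) := by
  classical
  intro n
  induction n using Nat.strong_induction_on with
  | _ n ih =>
  intro Q hn hQS hgQ
  by_cases hne : Q = ⊥
  · rw [hne]; simp [Subgroup.mem_centralizer_iff]
  have hQ2 : IsPGroup 2 Q := hS2.to_le hQS
  have hrelQ : (Subgroup.zpowers x).relIndex Q ≤ 2 :=
    (Subgroup.relIndex_le_of_le_right hQS Subgroup.index_ne_zero_of_finite).trans hxS
  obtain ⟨d, y, hd, hy, hgen⟩ := exists_two_generators Q x hrelQ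
  obtain ⟨M₀, hM₀Q, hM₀idx⟩ := exists_relIndex_two Q hQ2 hne
  have hgpow : ∀ i : ℕ, g ^ i ∈ Subgroup.normalizer (Q : Set G) := fun i => Subgroup.pow_mem _ hgQ i
  have hMQ : ∀ i : ℕ, MulAut.conj (g ^ i) • M₀ ≤ Q := by
    intro i
    have := conj_smul_mono' hM₀Q (g ^ i)
    rwa [conj_smul_eq_of_mem_normalizer (hgpow i)] at this
  have hMidx : ∀ i : ℕ, (MulAut.conj (g ^ i) • M₀).relIndex Q = 2 := by
    intro i
    have h1 : (MulAut.conj (g ^ i) • M₀).relIndex (MulAut.conj (g ^ i) • Q) = M₀.relIndex Q := by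
      rw [conj_smul_eq_map, conj_smul_eq_map]
      exact Subgroup.relIndex_map_map_of_injective _ _ (MulAut.conj (g ^ i)).injective
    rw [conj_smul_eq_of_mem_normalizer (hgpow i)] at h1
    rw [h1, hM₀idx]
  let f : Fin 5 → Bool × Bool := fun i =>
    (decide (d ∈ MulAut.conj (g ^ (i : ℕ)) • M₀), decide (y ∈ MulAut.conj (g ^ (i : ℕ)) • M₀))
  obtain ⟨i, j, hij, hfij⟩ := Fintype.exists_ne_map_eq_of_card_lt f (by simp)
  have hMij : MulAut.conj (g ^ (i : ℕ)) • M₀ = MulAut.conj (g ^ (j : ℕ)) • M₀ := by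
    apply eq_of_relIndex_two Q _ _ (hMQ i) (hMQ j) (hMidx i) (hMidx j) d y hd hy hgen
    · have := congrArg Prod.fst hfij
      simpa [f] using this
    · have := congrArg Prod.snd hfij
      simpa [f] using this
  -- some `g ^ t` with `1 ≤ t ≤ 4` normalizes `M₀`
  have hex : ∃ t : ℕ, 1 ≤ t ∧ t ≤ 4 ∧ MulAut.conj (g ^ t) • M₀ = M₀ := by
    have hgen' : ∀ a b : ℕ, a < b → b ≤ 4 → MulAut.conj (g ^ a) • M₀ = MulAut.conj (g ^ b) • M₀ →
        ∃ t : ℕ, 1 ≤ t ∧ t ≤ 4 ∧ MulAut.conj (g ^ t) • M₀ = M₀ := by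
      intro a b hab hb4 heq
      refine ⟨b - a, by omega, by omega, ?_⟩
      have hb : g ^ b = g ^ a * g ^ (b - a) := by rw [← pow_add]; congr 1; omega
      rw [hb, map_mul, mul_smul] at heq
      exact (smul_left_cancel _ heq).symm
    have hi4 : (i : ℕ) ≤ 4 := by have := i.2; omega
    have hj4 : (j : ℕ) ≤ 4 := by have := j.2; omega
    have hne' : (i : ℕ) ≠ j := fun h => hij (Fin.ext h)
    rcases Nat.lt_or_gt_of_ne hne' with hlt | hgt
    · exact hgen' i j hlt hj4 hMij
    · exact hgen' j i hgt hi4 hMij.symm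
  obtain ⟨t, ht1, ht4, htM⟩ := hex
  have h2 : Nat.Coprime 2 (orderOf g) :=
    (Nat.Prime.coprime_iff_not_dvd Nat.prime_two).2 (fun h => (Nat.not_even_iff_odd.2 hodd) (even_iff_two_dvd.2 h))
  have h3' : Nat.Coprime 3 (orderOf g) := (Nat.Prime.coprime_iff_not_dvd Nat.prime_three).2 h3
  have hcop : Nat.Coprime t (orderOf g) := by
    have ht : t = 1 ∨ t = 2 ∨ t = 3 ∨ t = 4 := by omega
    rcases ht with rfl | rfl | rfl | rfl
    · exact Nat.coprime_one_left _
    · exact h2
    · exact h3'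
    · exact Nat.Coprime.pow_left 2 h2
  obtain ⟨m, hm⟩ := exists_pow_eq_self_of_coprime hcop
  have hgM₀ : g ∈ Subgroup.normalizer (M₀ : Set G) := by
    rw [← hm]
    exact Subgroup.pow_mem _ (mem_normalizer_of_conj_smul_eq htM) m
  have hcardQ : Nat.card Q = 2 * Nat.card M₀ := by
    rw [← relIndex_mul_card_of_le hM₀Q, hM₀idx]
  have hgC : g ∈ Subgroup.centralizer (M₀ : Set G) :=
    ih (Nat.card M₀) (by rw [← hn, hcardQ]; have : 0 < Nat.card M₀ := Nat.card_pos; omega) M₀ rfl
      (hM₀Q.trans hQS) hgM₀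
  exact mem_centralizer_of_relIndex_two Q M₀ hM₀Q hM₀idx hQ2 g hodd hgQ hgM₀ hgC

/-- Let `G` be a finite group of order `2 ^ a * n` with `n` odd and not divisible by `3`, and suppose `G` has an element of order `2 ^ (a - 1)` (so a Sylow `2`-subgroup has a cyclic subgroup of index at most `2`). Then `G` has a normal subgroup of order `n`. -/
theorem result {G : Type*} [Group G] [Finite G] (a n : ℕ) (hG : Nat.card G = 2 ^ a * n) (hn : Odd n) (h3 : ¬ 3 ∣ n) (hx : ∃ x : G, orderOf x = 2 ^ (a - 1)) : ∃ N : Subgroup G, N.Normal ∧ Nat.card N = n := by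
  rcases Nat.eq_zero_or_pos a with ha | ha
  · refine ⟨⊤, inferInstance, ?_⟩
    rw [Subgroup.card_top, hG, ha, pow_zero, one_mul]
  obtain ⟨x, hx⟩ := hx
  have hn0 : n ≠ 0 := fun h => by rw [h] at hn; exact absurd hn (by decide)
  have hn2 : ¬ 2 ∣ n := fun h => (Nat.not_even_iff_odd.2 hn) (even_iff_two_dvd.2 h)
  have hz : IsPGroup 2 (Subgroup.zpowers x) := by
    apply IsPGroup.of_card (n := a - 1)
    rw [Nat.card_zpowers]; exact hx
  obtain ⟨S, hS⟩ := hz.exists_le_sylow
  have hScard : Nat.card (S : Subgroup G) = 2 ^ a := by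
    rw [S.card_eq_multiplicity, hG, Nat.factorization_mul (by positivity) hn0]
    simp [Nat.Prime.factorization_pow Nat.prime_two, Nat.factorization_eq_zero_of_not_dvd hn2]
  have hrel : (Subgroup.zpowers x).relIndex (S : Subgroup G) = 2 := by
    have h1 := relIndex_mul_card_of_le hS
    rw [Nat.card_zpowers, hx, hScard] at h1
    have h2 : (2:ℕ) ^ a = 2 * 2 ^ (a - 1) := by
      rw [← pow_succ']; congr 1; omega
    rw [h2] at h1
    exact Nat.eq_of_mul_eq_mul_right (pow_pos (by norm_num) _) h1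
  obtain ⟨N, hNn, hNc⟩ := (frobenius_normal_pcomplement_iff S).2 (by
    intro Q hQS g hgQ hcop
    have hodd : Odd (orderOf g) := by
      rw [← Nat.not_even_iff_odd, even_iff_two_dvd]
      intro h2
      have := Nat.Coprime.eq_one_of_dvd hcop.symm h2
      omega
    have h3g : ¬ 3 ∣ orderOf g := by
      intro h3g
      have h1 : orderOf g ∣ 2 ^ a * n := hG ▸ orderOf_dvd_natCard g
      have h2 : orderOf g ∣ n := (Nat.Coprime.pow_right a hcop).dvd_of_dvd_mul_left h1
      exact h3 (h3g.trans h2)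
    exact main (S : Subgroup G) x S.2 hrel.le g hodd h3g _ Q rfl hQS hgQ)
  refine ⟨N, hNn, ?_⟩
  have h1 := hNc.card_mul_card
  rw [hScard, hG, mul_comm] at h1
  exact Nat.eq_of_mul_eq_mul_left (pow_pos (by norm_num) _) h1

end Cfsg.Agent.S3971
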