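import Mathlib
import Cfsg.Statements.S3973
import Cfsg.Agent.Helper3.SchurMultA
import Cfsg.Agent.Helper3.SchurMultB
-- import your own Cfsg.Agent.* helpers here

set_option autoImplicit false
open Cfsg

namespace Cfsg.Agent.S3973

open Cfsg.Agent.Helper3.SchurMult

universe u w

section
variable {Q : Type u} [Group Q] {X : Type w} (f : X → Q)

theorem covAb_surjective : Function.Surjective (covAb f) := by
  intro y
  obtain ⟨a, rfl⟩ := QuotientGroup.mk_surjective y
  exact ⟨QuotientGroup.mk a, rfl⟩

/-- the kernel of `F/[F,R] → Q` is generated by the images of any normal generating set of `R`. -/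
theorem covKer_eq_closure (T : Set (FreeGroup X)) (hT : (pres f).ker = Subgroup.normalClosure T) :
    (covMap f).ker = Subgroup.closure ((QuotientGroup.mk' (relComm f)) '' T) := by
  have h1 : (covMap f).ker = (pres f).ker.map (QuotientGroup.mk' (relComm f)) := by
    ext x
    obtain ⟨a, rfl⟩ := QuotientGroup.mk_surjective x
    constructor
    · intro hx
      exact ⟨a, hx, rfl⟩
    · rintro ⟨b, hb, hb'⟩
      rw [MonoidHom.mem_ker]
      rw [← hb']
      exact hb
  have h2 : (QuotientGroup.mk' (relComm f)) '' T ⊆ (covMap f).ker := by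
    rintro _ ⟨t, ht, rfl⟩
    rw [h1]
    refine ⟨t, ?_, rfl⟩
    rw [hT]
    exact Subgroup.subset_normalClosure ht
  rw [h1, hT, Subgroup.map_normalClosure _ _ (QuotientGroup.mk'_surjective _)]
  apply le_antisymm
  · have hle : Subgroup.closure ((QuotientGroup.mk' (relComm f)) '' T) ≤
        Subgroup.center (Cov f) :=
      ((Subgroup.closure_le _).2 h2).trans (covKer_le_center f)
    have hn := normal_of_le_center _ hle
    exact Subgroup.normalClosure_le_normal Subgroup.subset_closure
  · exact Subgroup.closure_le_normalClosure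

open Module in
theorem exists_generators_mult [Finite Q] [Fintype X] {ι : Type} [Fintype ι]
    (hsurj : Function.Surjective (pres f))
    (g : ι → Cov f) (hg : (covMap f).ker = Subgroup.closure (Set.range g)) :
    ∃ T : Finset (mult f), Subgroup.closure (T : Set (mult f)) = ⊤ ∧
      T.card + Fintype.card X ≤ Fintype.card ι := by
  classical
  let _ : CommGroup (covMap f).ker := commGroupOfCentral _ (covKer_le_center f)
  have hgK : ∀ i, g i ∈ (covMap f).ker := by
    intro i
    rw [hg]
    exact Subgroup.subset_closure ⟨i, rfl⟩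
  let α' : Additive (covMap f).ker →ₗ[ℤ] FreeAbelianGroup X :=
    (MonoidHom.toAdditive ((covAb f).comp (covMap f).ker.subtype)).toIntLinearMap
  have hα' : ∀ k : (covMap f).ker, α' (Additive.ofMul k) = Additive.ofMul (covAb f k.1) :=
    fun k => rfl
  let v : ι → Additive (covMap f).ker := fun i => Additive.ofMul ⟨g i, hgK i⟩
  let γ : (ι → ℤ) →ₗ[ℤ] Additive (covMap f).ker := Fintype.linearCombination ℤ v
  have hγ : Function.Surjective γ := by
    rw [← LinearMap.range_eq_top, Fintype.range_linearCombination, eq_top_iff]
    intro k _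
    have key : ∀ (c : Cov f) (hc : c ∈ Subgroup.closure (Set.range g)),
        ∀ hk : c ∈ (covMap f).ker,
          (Additive.ofMul (⟨c, hk⟩ : (covMap f).ker)) ∈ Submodule.span ℤ (Set.range v) := by
      intro c hc
      induction hc using Subgroup.closure_induction with
      | mem x hx =>
        intro hk
        obtain ⟨i, rfl⟩ := hx
        exact Submodule.subset_span ⟨i, rfl⟩
      | one =>
        intro hk
        exact Submodule.zero_mem _
      | mul x y hx hy ihx ihy =>
        intro hk
        have hx' : x ∈ (covMap f).ker := by rw [hg]; exact hx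
        have hy' : y ∈ (covMap f).ker := by rw [hg]; exact hy
        exact Submodule.add_mem _ (ihx hx') (ihy hy')
      | inv x hx ihx =>
        intro hk
        have hx' : x ∈ (covMap f).ker := by rw [hg]; exact hx
        exact Submodule.neg_mem _ (ihx hx')
    have hk : (Additive.toMul k).1 ∈ Subgroup.closure (Set.range g) := by
      rw [← hg]; exact (Additive.toMul k).2
    exact key _ hk (Additive.toMul k).2
  let β : (ι → ℤ) →ₗ[ℤ] FreeAbelianGroup X := α' ∘ₗ γ
  have hrange : LinearMap.range β = LinearMap.range α' :=
    LinearMap.range_comp_of_range_eq_top _ (LinearMap.range_eq_top.2 hγ)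
  -- finite index
  have hfin : Finite (FreeAbelianGroup X ⧸ LinearMap.range α') := by
    choose s hs using covMap_surjective f hsurj
    let toL : Abelianization (FreeGroup X) → FreeAbelianGroup X := fun a => Additive.ofMul a
    have htoL_mul : ∀ a b, toL (a * b) = toL a + toL b := fun a b => rfl
    have htoL_inv : ∀ a, toL a⁻¹ = - toL a := fun a => rfl
    let φ : Q → FreeAbelianGroup X ⧸ LinearMap.range α' :=
      fun q => Submodule.Quotient.mk (toL (covAb f (s q)))
    apply Finite.of_surjective φ
    intro y
    obtain ⟨l, rfl⟩ := Submodule.Quotient.mk_surjective _ y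
    obtain ⟨c, hc⟩ := covAb_surjective f (Additive.toMul l)
    have hc' : toL (covAb f c) = l := by rw [hc]; rfl
    refine ⟨covMap f c, ?_⟩
    change Submodule.Quotient.mk (toL (covAb f (s (covMap f c)))) = Submodule.Quotient.mk l
    apply (Submodule.Quotient.eq _).2
    have hk : c⁻¹ * s (covMap f c) ∈ (covMap f).ker := by
      rw [MonoidHom.mem_ker, map_mul, map_inv, hs, inv_mul_cancel]
    refine ⟨Additive.ofMul ⟨_, hk⟩, ?_⟩
    rw [hα']
    change toL (covAb f (c⁻¹ * s (covMap f c))) = _
    rw [map_mul, map_inv, htoL_mul, htoL_inv, hc']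
    abel
  have hfr1 : finrank ℤ (LinearMap.range α') = Fintype.card X := by
    have h1 := (LinearMap.range α').finrank_quotient_add_finrank
    have h2 : finrank ℤ (FreeAbelianGroup X ⧸ LinearMap.range α') = 0 := by
      rw [Module.finrank_eq_zero_iff]
      intro x
      refine ⟨(Nat.card (FreeAbelianGroup X ⧸ LinearMap.range α') : ℤ), ?_, ?_⟩
      · exact_mod_cast Nat.card_pos.ne'
      · rw [natCast_zsmul]
        exact card_nsmul_eq_zero'
    rw [h2, zero_add, Module.finrank_eq_card_basis (FreeAbelianGroup.basis X)] at h1
    exact h1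
  have hfr2 : finrank ℤ (LinearMap.range β) + finrank ℤ (LinearMap.ker β) = Fintype.card ι := by
    have := (LinearMap.ker β).finrank_quotient_add_finrank
    rw [LinearEquiv.finrank_eq β.quotKerEquivRange, Module.finrank_fintype_fun_eq_card] at this
    exact this
  rw [hrange, hfr1] at hfr2
  -- the map `ker β → mult f`
  have hΦmem : ∀ u : LinearMap.ker β, (Additive.toMul (γ u.1)).1 ∈ mult f := by
    intro u
    refine ⟨(Additive.toMul (γ u.1)).2, ?_⟩
    have h1 : α' (γ u.1) = 0 := LinearMap.mem_ker.1 u.2
    have h2 : (Additive.toMul (γ u.1)).1 ∈ (covAb f).ker := MonoidHom.mem_ker.2 h1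
    rwa [covAb_ker] at h2
  let Φ : LinearMap.ker β → mult f := fun u => ⟨(Additive.toMul (γ u.1)).1, hΦmem u⟩
  have hΦadd : ∀ u w, Φ (u + w) = Φ u * Φ w := by
    intro u w
    apply Subtype.ext
    change (Additive.toMul (γ (u.1 + w.1))).1 = _
    rw [map_add]
    rfl
  have hΦzero : Φ 0 = 1 := by
    apply Subtype.ext
    change (Additive.toMul (γ 0)).1 = _
    rw [map_zero]
    rfl
  have hΦneg : ∀ u, Φ (-u) = (Φ u)⁻¹ := by
    intro u
    rw [eq_inv_iff_mul_eq_one, ← hΦadd, neg_add_cancel, hΦzero]
  have hΦsurj : Function.Surjective Φ := by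
    intro m
    obtain ⟨u, hu⟩ := hγ (Additive.ofMul ⟨m.1, m.2.1⟩)
    have hu' : u ∈ LinearMap.ker β := by
      rw [LinearMap.mem_ker]
      change α' (γ u) = 0
      rw [hu, hα']
      have : covAb f m.1 = 1 := by
        rw [← MonoidHom.mem_ker, covAb_ker]; exact m.2.2
      rw [this]; rfl
    refine ⟨⟨u, hu'⟩, ?_⟩
    apply Subtype.ext
    change (Additive.toMul (γ u)).1 = m.1
    rw [hu]
    rfl
  let b := Module.Free.chooseBasis ℤ (LinearMap.ker β)
  refine ⟨Finset.univ.image (fun j => Φ (b j)), ?_, ?_⟩
  · rw [eq_top_iff]
    rintro m -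
    obtain ⟨u, rfl⟩ := hΦsurj m
    have hu : u ∈ Submodule.span ℤ (Set.range b) := by rw [b.span_eq]; exact Submodule.mem_top
    induction hu using Submodule.span_induction with
    | mem x hx =>
      obtain ⟨j, rfl⟩ := hx
      apply Subgroup.subset_closure
      rw [Finset.coe_image]
      exact ⟨j, Finset.mem_coe.2 (Finset.mem_univ j), rfl⟩
    | zero => rw [hΦzero]; exact Subgroup.one_mem _
    | add x y _ _ ihx ihy => rw [hΦadd]; exact Subgroup.mul_mem _ ihx ihy
    | smul a x _ ihx =>
      induction a using Int.induction_on with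
      | zero => rw [zero_smul, hΦzero]; exact Subgroup.one_mem _
      | succ k ih =>
        rw [add_smul, one_smul, hΦadd]
        exact Subgroup.mul_mem _ ih ihx
      | pred k ih =>
        rw [sub_smul, one_smul, sub_eq_add_neg, hΦadd, hΦneg]
        exact Subgroup.mul_mem _ ih (Subgroup.inv_mem _ ihx)
  · have h1 : (Finset.univ.image (fun j => Φ (b j))).card ≤
        Fintype.card (Module.Free.ChooseBasisIndex ℤ (LinearMap.ker β)) := by
      rw [← Finset.card_univ]
      exact Finset.card_image_le
    rw [← Module.finrank_eq_card_chooseBasisIndex] at h1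
    omega

end

/-- If a finite group is presented by `n` generators and a finite set of `r` relators, then its Schur multiplier can be generated by `r - n` elements. In particular a finite group with a presentation having as many relators as generators has trivial Schur multiplier. -/
theorem result (n : ℕ) (rels : Finset (FreeGroup (Fin n))) [Finite (PresentedGroup (rels : Set (FreeGroup (Fin n))))] {A : Type*} [CommGroup A] [Finite A] (hA : Cfsg.HasSchurMultiplier (PresentedGroup (rels : Set (FreeGroup (Fin n)))) A) : Group.rank A ≤ rels.card - n := by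
  classical
  let f : Fin n → PresentedGroup (rels : Set (FreeGroup (Fin n))) := PresentedGroup.of
  have hpres : pres f = PresentedGroup.mk (rels : Set (FreeGroup (Fin n))) := by
    apply FreeGroup.ext_hom
    intro x
    rw [pres_of]
    rfl
  have hsurj : Function.Surjective (pres f) := by
    rw [hpres]
    exact QuotientGroup.mk'_surjective _
  have hker : (pres f).ker = Subgroup.normalClosure (rels : Set (FreeGroup (Fin n))) := by
    rw [hpres]
    exact QuotientGroup.ker_mk' _
  have hK := covKer_eq_closure f _ hker
  let g : {x // x ∈ rels} → Cov f := fun r => QuotientGroup.mk' (relComm f) r.1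
  have hg : (covMap f).ker = Subgroup.closure (Set.range g) := by
    rw [hK]
    congr 1
    ext x
    constructor
    · rintro ⟨r, hr, rfl⟩
      exact ⟨⟨r, hr⟩, rfl⟩
    · rintro ⟨r, rfl⟩
      exact ⟨r.1, r.2, rfl⟩
  obtain ⟨T, hT, hcard⟩ := exists_generators_mult f hsurj g hg
  obtain ⟨eM⟩ := equiv_of_hasSchurMultiplier hA f hsurj
  have hT' : Subgroup.closure ((T.image eM : Finset A) : Set A) = ⊤ := by
    rw [Finset.coe_image]
    have := MonoidHom.map_closure eM.toMonoidHom (T : Set (mult f))
    rw [hT, ← MonoidHom.range_eq_map, MonoidHom.range_eq_top.2 eM.surjective] at this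
    exact this.symm
  have h1 := Group.rank_le (G := A) hT'
  have h2 : (T.image eM).card ≤ T.card := Finset.card_image_le
  rw [Fintype.card_fin, Fintype.card_coe] at hcard
  omega


end Cfsg.Agent.S3973
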