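import Mathlib
import Cfsg.Statements.S3974
import Cfsg.Agent.Helper3.SchurMultA
import Cfsg.Agent.Helper3.SchurMultB
-- import your own Cfsg.Agent.* helpers here

set_option autoImplicit false
universe u v
open Cfsg

namespace Cfsg.Agent.S3974

open Cfsg.Agent.Helper3.SchurMult

section
variable {Q : Type u} [Group Q] [Finite Q] {A : Type v} [CommGroup A]

theorem card_of_stem {Γ : Type u} [Group Γ] [Finite Γ] (σ : Γ →* Q)
    (hσ : Cfsg.IsStemExtension σ) (e : σ.ker ≃* A) : Nat.card Γ = Nat.card Q * Nat.card A := by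
  rw [Subgroup.card_eq_card_quotient_mul_card_subgroup σ.ker,
    Nat.card_congr (QuotientGroup.quotientKerEquivOfSurjective σ hσ.1).toEquiv,
    Nat.card_congr e.toEquiv]

theorem pow_card_ab_mem_commutator {Γ : Type u} [Group Γ] (σ : Γ →* Q)
    (hσ : Cfsg.IsStemExtension σ) (γ : Γ) :
    γ ^ Nat.card (Abelianization Q) ∈ commutator Γ := by
  have h1 : σ γ ^ Nat.card (Abelianization Q) ∈ commutator Q := by
    rw [← Abelianization.ker_of, MonoidHom.mem_ker, map_pow]
    exact pow_card_eq_one'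
  have h2 : commutator Q ≤ (commutator Γ).map σ := by
    rw [commutator_def, commutator_def, Subgroup.map_commutator,
      (Subgroup.map_top_of_surjective σ hσ.1)]
  obtain ⟨d, hd, hd'⟩ := h2 h1
  have h3 : γ ^ Nat.card (Abelianization Q) * d⁻¹ ∈ σ.ker := by
    rw [MonoidHom.mem_ker, map_mul, map_inv, hd', map_pow, mul_inv_cancel]
  have h4 := Subgroup.mul_mem _ (hσ.2.2 h3) hd
  rwa [inv_mul_cancel_right] at h4

theorem iso_of_coprime (hA : Cfsg.HasSchurMultiplier Q A)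
    (hcop : Nat.Coprime (Nat.card (Abelianization Q)) (Nat.card A))
    {Γ₁ Γ₂ : Type u} [Group Γ₁] [Finite Γ₁] [Group Γ₂] [Finite Γ₂]
    (σ₁ : Γ₁ →* Q) (σ₂ : Γ₂ →* Q) (h₁ : Cfsg.IsStemExtension σ₁) (h₂ : Cfsg.IsStemExtension σ₂)
    (e₁ : σ₁.ker ≃* A) (e₂ : σ₂.ker ≃* A) :
    ∃ e : Γ₁ ≃* Γ₂, σ₂.comp e.toMonoidHom = σ₁ := by
  have hsurj : Function.Surjective (pres (id : Q → Q)) := pres_id_surjective
  obtain ⟨φ₁, hφ₁⟩ := cov_lift (id : Q → Q) σ₁ h₁.1 h₁.2.1
  obtain ⟨φ₂, hφ₂⟩ := cov_lift (id : Q → Q) σ₂ h₂.1 h₂.2.1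
  have hφ₁' : ∀ c, σ₁ (φ₁ c) = covMap (id : Q → Q) c := fun c => DFunLike.congr_fun hφ₁ c
  have hφ₂' : ∀ c, σ₂ (φ₂ c) = covMap (id : Q → Q) c := fun c => DFunLike.congr_fun hφ₂ c
  have hφ₁s := lift_surjective_of_stem (id : Q → Q) σ₁ h₁ φ₁ hφ₁ hsurj
  obtain ⟨eM⟩ := equiv_of_hasSchurMultiplier hA (id : Q → Q) hsurj
  have hfinA : Finite A := Finite.of_equiv σ₁.ker e₁.toEquiv
  have hfinM : Finite (mult (id : Q → Q)) := mult_finite _ hsurj
  set q := Nat.card (Abelianization Q) with hq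
  -- `S₁ = ker φ₁`
  have hS1 : φ₁.ker ≤ (covMap (id : Q → Q)).ker := by
    intro x hx
    rw [MonoidHom.mem_ker] at hx ⊢
    rw [← hφ₁', hx, map_one]
  have hinjM : ∀ m ∈ mult (id : Q → Q), φ₁ m = 1 → m = 1 := by
    have hmap := map_mult_eq (id : Q → Q) σ₁ h₁.2.1 φ₁ hφ₁ hsurj
    rw [inf_eq_left.2 h₁.2.2] at hmap
    let π : mult (id : Q → Q) → σ₁.ker := fun m =>
      ⟨φ₁ m.1, by rw [← hmap]; exact Subgroup.mem_map_of_mem _ m.2⟩
    have hπs : Function.Surjective π := by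
      rintro ⟨k, hk⟩
      rw [← hmap] at hk
      obtain ⟨m, hm, rfl⟩ := hk
      exact ⟨⟨m, hm⟩, rfl⟩
    have hcard : Nat.card (mult (id : Q → Q)) ≤ Nat.card σ₁.ker := by
      rw [Nat.card_congr e₁.toEquiv, Nat.card_congr eM.toEquiv]
    have hπb := hπs.bijective_of_nat_card_le hcard
    intro m hm h1
    have : π ⟨m, hm⟩ = π ⟨1, Subgroup.one_mem _⟩ := by
      apply Subtype.ext
      change φ₁ m = φ₁ 1
      rw [h1, map_one]
    have := hπb.1 this
    exact congrArg Subtype.val this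
  have hS2 : ∀ x ∈ φ₁.ker, x ∈ commutator (Cov (id : Q → Q)) → x = 1 := by
    intro x hx hx'
    exact hinjM x ⟨hS1 hx, hx'⟩ (MonoidHom.mem_ker.1 hx)
  have hS3 : ∀ x : Cov (id : Q → Q), ∃ s ∈ φ₁.ker, ∃ c ∈ commutator (Cov (id : Q → Q)),
      x ^ q = s * c := by
    intro x
    have h1 := pow_card_ab_mem_commutator σ₁ h₁ (φ₁ x)
    obtain ⟨c, hc, hc'⟩ := commutator_le_map (id : Q → Q) σ₁ h₁.2.1 φ₁ hφ₁ hsurj h1
    refine ⟨x ^ q * c⁻¹, ?_, c, hc, by group⟩
    rw [MonoidHom.mem_ker, map_mul, map_inv, hc', map_pow, mul_inv_cancel]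
  -- the embedding of `S₁` in the abelianization
  let ι : φ₁.ker →* Abelianization (Cov (id : Q → Q)) :=
    (Abelianization.of).comp φ₁.ker.subtype
  have hι : Function.Injective ι := by
    rw [injective_iff_map_eq_one]
    intro s hs
    apply Subtype.ext
    apply hS2 s.1 s.2
    rw [← Abelianization.ker_of]
    exact MonoidHom.mem_ker.2 hs
  have hP : ∀ y : Abelianization (Cov (id : Q → Q)),
      (powMonoidHom q : Abelianization (Cov (id : Q → Q)) →* _) y ∈ ι.range := by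
    intro y
    obtain ⟨x, rfl⟩ := QuotientGroup.mk_surjective y
    change (powMonoidHom q : Abelianization (Cov (id : Q → Q)) →* _) (Abelianization.of x) ∈ _
    obtain ⟨s, hs, c, hc, hx⟩ := hS3 x
    refine ⟨⟨s, hs⟩, ?_⟩
    change Abelianization.of s = (Abelianization.of x) ^ q
    rw [← map_pow, hx, map_mul]
    have : Abelianization.of c = 1 := by
      rw [← MonoidHom.mem_ker, Abelianization.ker_of]; exact hc
    rw [this, mul_one]
  let P' : Abelianization (Cov (id : Q → Q)) →* ι.range :=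
    (powMonoidHom q).codRestrict ι.range hP
  let E : φ₁.ker ≃* ι.range := MonoidHom.ofInjective hι
  let g₂ : φ₁.ker →* A := e₂.toMonoidHom.comp ((φ₂.comp φ₁.ker.subtype).codRestrict σ₂.ker (by
    intro s
    rw [MonoidHom.mem_ker]
    change σ₂ (φ₂ s.1) = 1
    rw [hφ₂']
    exact MonoidHom.mem_ker.1 (hS1 s.2)))
  -- the inverse of `q` modulo `|A|`
  set q' : ℤ := Nat.gcdA q (Nat.card A) with hq'
  have hqq' : ∀ a : A, (a ^ q) ^ q' = a := by
    intro a
    have h1 := Nat.gcd_eq_gcd_ab q (Nat.card A)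
    rw [Nat.Coprime.gcd_eq_one hcop] at h1
    have h2 : a ^ ((q : ℤ) * q') = a ^ ((1 : ℤ) - (Nat.card A : ℤ) * Nat.gcdB q (Nat.card A)) := by
      congr 1
      rw [hq']
      push_cast at h1
      linarith
    rw [← zpow_natCast, ← zpow_mul, h2, zpow_sub, zpow_one, zpow_mul, zpow_natCast,
      pow_card_eq_one', one_zpow, inv_one, mul_one]
  let z : Cov (id : Q → Q) →* A :=
    (zpowGroupHom q').comp (g₂.comp (E.symm.toMonoidHom.comp (P'.comp Abelianization.of)))
  have hz : ∀ s : φ₁.ker, z s.1 = g₂ s := by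
    intro s
    change (g₂ (E.symm (P' (Abelianization.of s.1)))) ^ q' = g₂ s
    have h1 : P' (Abelianization.of s.1) = E (s ^ q) := by
      apply Subtype.ext
      change (Abelianization.of s.1) ^ q = Abelianization.of ((s ^ q : φ₁.ker) : Cov _)
      rw [Subgroup.coe_pow, map_pow]
    rw [h1, E.symm_apply_apply, map_pow, hqq']
  let w : Cov (id : Q → Q) →* Γ₂ := σ₂.ker.subtype.comp (e₂.symm.toMonoidHom.comp z⁻¹)
  have hwc : ∀ x, w x ∈ Subgroup.center Γ₂ := fun x => h₂.2.1 (e₂.symm ((z⁻¹) x)).2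
  have hwk : ∀ x, σ₂ (w x) = 1 := fun x => MonoidHom.mem_ker.1 (e₂.symm ((z⁻¹) x)).2
  let Ψ : Cov (id : Q → Q) →* Γ₂ :=
    { toFun := fun x => φ₂ x * w x
      map_one' := by rw [map_one, map_one, mul_one]
      map_mul' := by
        intro x y
        rw [map_mul, map_mul]
        have := Subgroup.mem_center_iff.1 (hwc x) (φ₂ y)
        rw [mul_assoc (φ₂ x) (w x), ← mul_assoc (w x), ← this]
        simp only [mul_assoc] }
  have hΨ : σ₂.comp Ψ = covMap (id : Q → Q) := by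
    refine MonoidHom.ext fun x => ?_
    change σ₂ (φ₂ x * w x) = _
    rw [map_mul, hwk, mul_one, hφ₂']
  have hΨker : φ₁.ker ≤ Ψ.ker := by
    intro s hs
    rw [MonoidHom.mem_ker]
    change φ₂ s * w s = 1
    have h1 : w s = (φ₂ s)⁻¹ := by
      change ((e₂.symm ((z⁻¹) s) : σ₂.ker) : Γ₂) = (φ₂ s)⁻¹
      rw [MonoidHom.inv_apply, hz ⟨s, hs⟩, map_inv]
      change ((e₂.symm (e₂ _))⁻¹ : σ₂.ker).1 = _
      rw [e₂.symm_apply_apply]
      rfl
    rw [h1, mul_inv_cancel]
  have hΨs := lift_surjective_of_stem (id : Q → Q) σ₂ h₂ Ψ hΨ hsurj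
  let ē : Γ₁ →* Γ₂ := φ₁.liftOfSurjective hφ₁s ⟨Ψ, hΨker⟩
  have hēc : ē.comp φ₁ = Ψ := MonoidHom.liftOfRightInverse_comp _ _ _ _
  have hē : ∀ x, ē (φ₁ x) = Ψ x := fun x => DFunLike.congr_fun hēc x
  have hēs : Function.Surjective ē := by
    intro y
    obtain ⟨x, rfl⟩ := hΨs y
    exact ⟨φ₁ x, hē x⟩
  have hcard : Nat.card Γ₁ ≤ Nat.card Γ₂ := by
    rw [card_of_stem σ₁ h₁ e₁, card_of_stem σ₂ h₂ e₂]
  have hēb := hēs.bijective_of_nat_card_le hcard
  refine ⟨MulEquiv.ofBijective ē hēb, ?_⟩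
  refine MonoidHom.ext fun y => ?_
  obtain ⟨x, rfl⟩ := hφ₁s y
  change σ₂ (ē (φ₁ x)) = σ₁ (φ₁ x)
  rw [hē, hφ₁']
  exact DFunLike.congr_fun hΨ x

end

theorem exists_not_extendable {L : Type*} [AddCommGroup L] [Module.IsTorsionFree ℤ L]
    (N : Submodule ℤ L) [Module.Free ℤ N]
    {M : Type*} [AddCommGroup M] [Finite M] (p : ℕ) (hp : p.Prime) (hpM : p ∣ Nat.card M)
    (y : L) (hy : y ∉ N) (hpy : (p : ℤ) • y ∈ N) :
    ∃ h : N →+ M, ¬ ∃ H : L →+ M, ∀ n : N, H n = h n := by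
  have hp0 : (p : ℤ) ≠ 0 := by exact_mod_cast hp.ne_zero
  -- an element outside `pM`
  obtain ⟨m₀, hm₀⟩ : ∃ m₀ : M, ∀ m : M, (p : ℤ) • m ≠ m₀ := by
    have : Fact p.Prime := ⟨hp⟩
    obtain ⟨x, hx⟩ := exists_prime_addOrderOf_dvd_card' p hpM
    have hninj : ¬ Function.Injective (fun m : M => (p : ℤ) • m) := by
      intro hinj
      have h1 : (p : ℤ) • x = (p : ℤ) • (0 : M) := by
        rw [smul_zero, natCast_zsmul, ← hx, addOrderOf_nsmul_eq_zero]
      have h2 := hinj h1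
      rw [h2, addOrderOf_zero] at hx
      exact hp.one_lt.ne hx
    have hnsurj : ¬ Function.Surjective (fun m : M => (p : ℤ) • m) :=
      fun hs => hninj (Finite.injective_iff_surjective.2 hs)
    by_contra hcon
    push Not at hcon
    exact hnsurj (fun m₀ => hcon m₀)
  let b := Module.Free.chooseBasis ℤ N
  let m : N := ⟨(p : ℤ) • y, hpy⟩
  obtain ⟨i₀, hi₀⟩ : ∃ i₀, ¬ (p : ℤ) ∣ b.repr m i₀ := by
    by_contra hcon
    push Not at hcon
    apply hy
    let c' : Module.Free.ChooseBasisIndex ℤ N →₀ ℤ :=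
      (b.repr m).mapRange (fun t => t / (p : ℤ)) (by simp)
    have hc : b.repr m = (p : ℤ) • c' := by
      ext i
      simp only [c', Finsupp.smul_apply, Finsupp.mapRange_apply, smul_eq_mul]
      rw [Int.mul_ediv_cancel' (hcon i)]
    have h1 : m = (p : ℤ) • b.repr.symm c' := by
      apply b.repr.injective
      rw [map_smul, LinearEquiv.apply_symm_apply, hc]
    have h2 : (p : ℤ) • y = (p : ℤ) • ((b.repr.symm c' : N) : L) := by
      have := congrArg Subtype.val h1
      exact this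
    have h3 : y = ((b.repr.symm c' : N) : L) := smul_right_injective L hp0 h2
    rw [h3]
    exact (b.repr.symm c').2
  let h : N →+ M := ((smulAddHom ℤ M).flip m₀).comp (b.coord i₀).toAddMonoidHom
  refine ⟨h, ?_⟩
  rintro ⟨H, hH⟩
  have h1 : H ((p : ℤ) • y) = (b.repr m i₀) • m₀ := hH m
  rw [map_zsmul] at h1
  have hcop : IsCoprime (b.repr m i₀) (p : ℤ) := by
    rw [isCoprime_comm]
    exact (Nat.prime_iff_prime_int.1 hp).coprime_iff_not_dvd.2 hi₀
  obtain ⟨u, v, huv⟩ := hcop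
  apply hm₀ (u • H y + v • m₀)
  have e1 : m₀ = u • (b.repr m i₀ • m₀) + v • ((p : ℤ) • m₀) := by
    rw [← mul_smul, ← mul_smul, ← add_smul, huv, one_smul]
  rw [← h1] at e1
  rw [smul_add, smul_comm (p : ℤ) u, smul_comm (p : ℤ) v]
  exact e1.symm

section
variable {Q : Type u} [Group Q] [Finite Q] {X : Type u} [Finite X] (f : X → Q)

theorem covAb_surjective : Function.Surjective (covAb f) := by
  intro y
  obtain ⟨a, rfl⟩ := QuotientGroup.mk_surjective y
  exact ⟨QuotientGroup.mk a, rfl⟩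

theorem exists_hom_not_extendable (hsurj : Function.Surjective (pres f))
    (S : Subgroup (Cov f)) (hS1 : S ≤ (covMap f).ker)
    (hS3 : (covMap f).ker ≤ S ⊔ mult f) (p : ℕ) (hp : p.Prime)
    (hpQ : p ∣ Nat.card (Abelianization Q)) (hpM : p ∣ Nat.card (mult f)) :
    ∃ h : S →* mult f, ¬ ∃ z : Cov f →* mult f, ∀ s : S, z s.1 = h s := by
  let _ : CommGroup (mult f) := commGroupOfCentral _ (mult_le_center f)
  have hfinM : Finite (mult f) := mult_finite f hsurj
  have hnM : (mult f).Normal := normal_of_le_center _ (mult_le_center f)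
  let N : Submodule ℤ (FreeAbelianGroup X) :=
    AddSubgroup.toIntSubmodule (Subgroup.toAddSubgroup (S.map (covAb f)))
  have hN : ∀ l : FreeAbelianGroup X, l ∈ N ↔ ∃ s ∈ S, covAb f s = Additive.toMul l := by
    intro l
    exact Iff.rfl
  have hkerα : ∀ c ∈ commutator (Cov f), covAb f c = 1 := by
    intro c hc
    rw [← covAb_ker] at hc
    exact MonoidHom.mem_ker.1 hc
  have hcovC : ∀ c ∈ commutator (Cov f), Abelianization.of (covMap f c) = 1 := by
    intro c hc
    exact MonoidHom.mem_ker.1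
      (Abelianization.commutator_subset_ker ((Abelianization.of).comp (covMap f)) hc)
  -- the element `y`
  have : Fact p.Prime := ⟨hp⟩
  obtain ⟨xq, hxq⟩ := exists_prime_orderOf_dvd_card' p hpQ
  obtain ⟨q₀, hq₀⟩ := QuotientGroup.mk_surjective xq
  have hq₀' : Abelianization.of q₀ = xq := hq₀
  obtain ⟨x₀, hx₀⟩ := covMap_surjective f hsurj q₀
  let y : FreeAbelianGroup X := Additive.ofMul (covAb f x₀)
  have hy1 : y ∉ N := by
    intro hmem
    obtain ⟨s, hs, hs'⟩ := (hN y).1 hmem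
    have hs' : covAb f s = covAb f x₀ := hs'
    have h1 : covAb f (x₀ * s⁻¹) = 1 := by
      rw [map_mul, map_inv, hs']
      exact mul_inv_cancel _
    have h2 : x₀ * s⁻¹ ∈ commutator (Cov f) := by
      rw [← covAb_ker]; exact MonoidHom.mem_ker.2 h1
    have h3 := hcovC _ h2
    rw [map_mul, map_inv, MonoidHom.mem_ker.1 (hS1 hs), inv_one, mul_one, hx₀] at h3
    have h4 : orderOf xq = 1 := by
      rw [orderOf_eq_one_iff, ← hq₀']; exact h3
    rw [hxq] at h4
    exact hp.one_lt.ne' h4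
  have hy2 : (p : ℤ) • y ∈ N := by
    apply (hN _).2
    have h1 : covMap f (x₀ ^ p) ∈ commutator Q := by
      rw [← Abelianization.ker_of, MonoidHom.mem_ker, map_pow, hx₀, map_pow, hq₀']
      have := pow_orderOf_eq_one xq
      rw [hxq] at this
      exact this
    have h2 : commutator Q ≤ (commutator (Cov f)).map (covMap f) := by
      rw [commutator_def, commutator_def, Subgroup.map_commutator,
        (Subgroup.map_top_of_surjective _ (covMap_surjective f hsurj))]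
    obtain ⟨c, hc, hc'⟩ := h2 h1
    have h3 : x₀ ^ p * c⁻¹ ∈ (covMap f).ker := by
      rw [MonoidHom.mem_ker, map_mul, map_inv, hc', mul_inv_cancel]
    obtain ⟨s, hs, m, hm, hsm⟩ := Subgroup.mem_sup_of_normal_right.1 (hS3 h3)
    refine ⟨s, hs, ?_⟩
    have h4 : x₀ ^ p = s * m * c := by rw [hsm]; group
    change covAb f s = (covAb f x₀) ^ (p : ℤ)
    rw [zpow_natCast, ← map_pow, h4, map_mul, map_mul, hkerα m hm.2, hkerα c hc, mul_one, mul_one]
  obtain ⟨hb, hhb⟩ := exists_not_extendable N (M := Additive (mult f)) p hp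
    (by rw [Nat.card_congr Additive.ofMul.symm]; exact hpM) y hy1 hy2
  let h : S →* mult f :=
    { toFun := fun s => Additive.toMul (hb ⟨Additive.ofMul (covAb f s.1), (hN _).2 ⟨s.1, s.2, rfl⟩⟩)
      map_one' := by
        have : (⟨Additive.ofMul (covAb f ((1 : S) : Cov f)), (hN _).2 ⟨_, (1 : S).2, rfl⟩⟩ : N) = 0 := by
          apply Subtype.ext
          change Additive.ofMul (covAb f 1) = 0
          rw [map_one]; rfl
        rw [this, map_zero]; rfl
      map_mul' := by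
        intro a b
        have : (⟨Additive.ofMul (covAb f ((a * b : S) : Cov f)), (hN _).2 ⟨_, (a * b).2, rfl⟩⟩ : N) =
            ⟨Additive.ofMul (covAb f a.1), (hN _).2 ⟨_, a.2, rfl⟩⟩ +
            ⟨Additive.ofMul (covAb f b.1), (hN _).2 ⟨_, b.2, rfl⟩⟩ := by
          apply Subtype.ext
          change Additive.ofMul (covAb f (a.1 * b.1)) = _
          rw [map_mul]; rfl
        rw [this, map_add]; rfl }
  refine ⟨h, ?_⟩
  rintro ⟨z, hz⟩
  apply hhb
  have hkz : (covAb f).ker ≤ z.ker := by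
    rw [covAb_ker]
    exact Abelianization.commutator_subset_ker z
  let H₀ : Abelianization (FreeGroup X) →* mult f :=
    (covAb f).liftOfSurjective (covAb_surjective f) ⟨z, hkz⟩
  have hH₀c : H₀.comp (covAb f) = z := MonoidHom.liftOfRightInverse_comp _ _ _ _
  have hH₀ : ∀ c, H₀ (covAb f c) = z c := fun c => DFunLike.congr_fun hH₀c c
  refine ⟨MonoidHom.toAdditive H₀, ?_⟩
  rintro ⟨l, hl⟩
  obtain ⟨s, hs, hs'⟩ := (hN l).1 hl
  change Additive.ofMul (H₀ (Additive.toMul l)) = hb ⟨l, hl⟩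
  rw [← hs', hH₀, hz ⟨s, hs⟩]
  change Additive.ofMul (Additive.toMul (hb _)) = _
  rw [ofMul_toMul]
  congr 1
  apply Subtype.ext
  change Additive.ofMul (covAb f s) = l
  rw [hs']; rfl

/-- two covers built from complements differing by a non-extendable homomorphism are not
isomorphic over `Q`. -/
theorem not_unique (hsurj : Function.Surjective (pres f))
    (S : Subgroup (Cov f)) (hS1 : S ≤ (covMap f).ker) (hS2 : S ⊓ commutator (Cov f) = ⊥)
    (hS3 : (covMap f).ker ≤ S ⊔ mult f)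
    (h : S →* mult f) (hh : ¬ ∃ z : Cov f →* mult f, ∀ s : S, z s.1 = h s) :
    ∃ (S' : Subgroup (Cov f)) (hS'1 : S' ≤ (covMap f).ker) (_ : S' ⊓ commutator (Cov f) = ⊥)
      (_ : (covMap f).ker ≤ S' ⊔ mult f) (_ : S.Normal) (_ : S'.Normal),
      ¬ ∃ e : (Cov f ⧸ S) ≃* (Cov f ⧸ S'),
        (coverMap f S' hS'1).comp e.toMonoidHom = coverMap f S hS1 := by
  have hSc : S ≤ Subgroup.center (Cov f) := hS1.trans (covKer_le_center f)
  have hMc := mult_le_center f
  have hnM : (mult f).Normal := normal_of_le_center _ hMc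
  have hnS : S.Normal := normal_of_le_center _ hSc
  let η : S →* Cov f :=
    { toFun := fun s => s.1 * (h s).1
      map_one' := by rw [map_one]; simp
      map_mul' := by
        intro a b
        rw [map_mul, Subgroup.coe_mul, Subgroup.coe_mul]
        have := Subgroup.mem_center_iff.1 (hSc b.2) (h a).1
        rw [mul_assoc a.1, ← mul_assoc b.1, ← this]
        simp only [mul_assoc] }
  have hS'1 : η.range ≤ (covMap f).ker := by
    rintro _ ⟨s, rfl⟩
    exact Subgroup.mul_mem _ (hS1 s.2) (h s).2.1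
  have hS'2 : η.range ⊓ commutator (Cov f) = ⊥ := by
    rw [eq_bot_iff]
    rintro _ ⟨⟨s, rfl⟩, hx⟩
    have h1 : s.1 ∈ commutator (Cov f) := by
      have := Subgroup.mul_mem _ hx (Subgroup.inv_mem _ (h s).2.2)
      change s.1 * (h s).1 * ((h s).1)⁻¹ ∈ _ at this
      rwa [mul_inv_cancel_right] at this
    have h2 : s.1 ∈ S ⊓ commutator (Cov f) := ⟨s.2, h1⟩
    rw [hS2, Subgroup.mem_bot] at h2
    have h3 : s = 1 := Subtype.ext h2
    rw [h3, map_one]
    exact Subgroup.one_mem _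
  have hS'3 : (covMap f).ker ≤ η.range ⊔ mult f := by
    intro k hk
    obtain ⟨s, hs, m, hm, rfl⟩ := Subgroup.mem_sup_of_normal_right.1 (hS3 hk)
    have : s * m = η ⟨s, hs⟩ * ((h ⟨s, hs⟩).1⁻¹ * m) := by
      change s * m = s * (h ⟨s, hs⟩).1 * ((h ⟨s, hs⟩).1⁻¹ * m)
      group
    rw [this]
    exact Subgroup.mul_mem_sup ⟨_, rfl⟩ (Subgroup.mul_mem _ (Subgroup.inv_mem _ (h _).2) hm)
  have hS'c : η.range ≤ Subgroup.center (Cov f) := hS'1.trans (covKer_le_center f)
  have hnS' : η.range.Normal := normal_of_le_center _ hS'c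
  refine ⟨η.range, hS'1, hS'2, hS'3, hnS, hnS', ?_⟩
  rintro ⟨e, he⟩
  apply hh
  have he' : ∀ x, coverMap f η.range hS'1 (e x) = coverMap f S hS1 x :=
    fun x => DFunLike.congr_fun he x
  have hstem' := coverMap_isStem f η.range hS'1 hS'3 hsurj
  -- the difference map
  have hDk : ∀ x : Cov f, (QuotientGroup.mk' η.range x)⁻¹ * e (QuotientGroup.mk' S x) ∈
      (coverMap f η.range hS'1).ker := by
    intro x
    rw [MonoidHom.mem_ker, map_mul, map_inv, he']
    change (covMap f x)⁻¹ * covMap f x = 1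
    exact inv_mul_cancel _
  let D : Cov f →* Cov f ⧸ η.range :=
    { toFun := fun x => (QuotientGroup.mk' η.range x)⁻¹ * e (QuotientGroup.mk' S x)
      map_one' := by simp
      map_mul' := by
        intro x y
        have hc := Subgroup.mem_center_iff.1 (hstem'.2.1 (hDk x)) ((QuotientGroup.mk' η.range y)⁻¹)
        rw [map_mul, map_mul, map_mul, mul_inv_rev]
        calc (QuotientGroup.mk' η.range y)⁻¹ * (QuotientGroup.mk' η.range x)⁻¹ *
              (e (QuotientGroup.mk' S x) * e (QuotientGroup.mk' S y))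
            = (QuotientGroup.mk' η.range y)⁻¹ * ((QuotientGroup.mk' η.range x)⁻¹ *
              e (QuotientGroup.mk' S x)) * e (QuotientGroup.mk' S y) := by simp only [mul_assoc]
          _ = ((QuotientGroup.mk' η.range x)⁻¹ * e (QuotientGroup.mk' S x)) *
              (QuotientGroup.mk' η.range y)⁻¹ * e (QuotientGroup.mk' S y) := by rw [hc]
          _ = _ := by simp only [mul_assoc] }
  let μ : mult f →* Cov f ⧸ η.range := (QuotientGroup.mk' η.range).comp (mult f).subtype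
  have hμ : Function.Injective μ := by
    rw [injective_iff_map_eq_one]
    intro m hm
    have h1 : m.1 ∈ η.range := (QuotientGroup.eq_one_iff _).1 hm
    have h2 : m.1 ∈ η.range ⊓ commutator (Cov f) := ⟨h1, m.2.2⟩
    rw [hS'2, Subgroup.mem_bot] at h2
    exact Subtype.ext h2
  have hDμ : ∀ x, D x ∈ μ.range := by
    intro x
    obtain ⟨c, hc, hc'⟩ := (mem_coverMap_ker f η.range hS'1 _).1 (hDk x)
    obtain ⟨s', hs', m, hm, rfl⟩ := Subgroup.mem_sup_of_normal_right.1 (hS'3 hc)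
    refine ⟨⟨m, hm⟩, ?_⟩
    change (QuotientGroup.mk m : Cov f ⧸ η.range) = D x
    change _ = (QuotientGroup.mk' η.range x)⁻¹ * e (QuotientGroup.mk' S x)
    rw [← hc', QuotientGroup.mk_mul, (QuotientGroup.eq_one_iff s').2 hs', one_mul]
  let E : mult f ≃* μ.range := MonoidHom.ofInjective hμ
  let z : Cov f →* mult f := E.symm.toMonoidHom.comp (D.codRestrict μ.range hDμ)
  have hz : ∀ x, (QuotientGroup.mk (z x).1 : Cov f ⧸ η.range) = D x := by
    intro x
    have h1 : E (z x) = D.codRestrict μ.range hDμ x := E.apply_symm_apply _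
    exact congrArg Subtype.val h1
  refine ⟨z, ?_⟩
  intro s
  have h1 : D s.1 = (QuotientGroup.mk s.1 : Cov f ⧸ η.range)⁻¹ := by
    change (QuotientGroup.mk' η.range s.1)⁻¹ * e (QuotientGroup.mk' S s.1) = _
    have : QuotientGroup.mk' S s.1 = 1 := (QuotientGroup.eq_one_iff _).2 s.2
    rw [this, map_one, mul_one]
    rfl
  have h2 : s.1 * (z s.1).1 ∈ η.range := by
    rw [← QuotientGroup.eq_one_iff, QuotientGroup.mk_mul, hz, h1, mul_inv_cancel]
  obtain ⟨t, ht⟩ := h2
  have ht : t.1 * (h t).1 = s.1 * (z s.1).1 := ht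
  have h3 : t.1⁻¹ * s.1 = (h t).1 * ((z s.1).1)⁻¹ := by
    rw [inv_mul_eq_iff_eq_mul, ← mul_assoc, ht, mul_inv_cancel_right]
  have h4 : t.1⁻¹ * s.1 ∈ S ⊓ commutator (Cov f) := by
    refine ⟨Subgroup.mul_mem _ (Subgroup.inv_mem _ t.2) s.2, ?_⟩
    rw [h3]
    exact Subgroup.mul_mem _ (h t).2.2 (Subgroup.inv_mem _ (z s.1).2.2)
  rw [hS2, Subgroup.mem_bot, inv_mul_eq_one] at h4
  have h5 : t = s := Subtype.ext h4
  rw [h5] at ht
  have h6 := mul_left_cancel ht
  exact (Subtype.ext h6).symm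

end

/-- Let `Q` be a finite group with Schur multiplier `A`. Any two Schur covering groups of `Q` (finite stem extensions `σ₁ : Γ₁ →* Q`, `σ₂ : Γ₂ →* Q` with kernels isomorphic to `A`, `Γ₁, Γ₂` in the universe of `Q`) are isomorphic over `Q` — there is a group isomorphism `e : Γ₁ ≃* Γ₂` with `σ₂ ∘ e = σ₁` — if and only if the order of the commutator quotient of `Q` is coprime to the order of `A`. In particular a finite perfect group has a unique Schur covering group up to isomorphism over it. -/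
theorem result {Q : Type u} [Group Q] [Finite Q] {A : Type v} [CommGroup A] (hA : Cfsg.HasSchurMultiplier Q A) : (∀ (Γ₁ Γ₂ : Type u) [Group Γ₁] [Finite Γ₁] [Group Γ₂] [Finite Γ₂] (σ₁ : Γ₁ →* Q) (σ₂ : Γ₂ →* Q), Cfsg.IsStemExtension σ₁ → Cfsg.IsStemExtension σ₂ → Nonempty (σ₁.ker ≃* A) → Nonempty (σ₂.ker ≃* A) → ∃ e : Γ₁ ≃* Γ₂, σ₂.comp e.toMonoidHom = σ₁) ↔ Nat.Coprime (Nat.card (Abelianization Q)) (Nat.card A) := by
  constructor
  · intro huniq
    by_contra hnc
    obtain ⟨p, hp, hpQ, hpA⟩ := Nat.Prime.not_coprime_iff_dvd.1 hnc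
    have hsurj := pres_id_surjective (Q := Q)
    obtain ⟨eM⟩ := equiv_of_hasSchurMultiplier hA (id : Q → Q) hsurj
    obtain ⟨S, hS1, hS2, hS3⟩ := exists_schur_complement (id : Q → Q)
    have hpM : p ∣ Nat.card (mult (id : Q → Q)) := by
      rw [Nat.card_congr eM.toEquiv]; exact hpA
    obtain ⟨h, hh⟩ := exists_hom_not_extendable (id : Q → Q) hsurj S hS1 hS3 p hp hpQ hpM
    obtain ⟨S', hS'1, hS'2, hS'3, hnS, hnS', hne⟩ :=
      not_unique (id : Q → Q) hsurj S hS1 hS2 hS3 h hh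
    apply hne
    have hf1 := cover_finite (id : Q → Q) S hS1 hS2 hS3 hsurj
    have hf2 := cover_finite (id : Q → Q) S' hS'1 hS'2 hS'3 hsurj
    obtain ⟨k1⟩ := mult_equiv_ker (id : Q → Q) S hS1 hS2 hS3
    obtain ⟨k2⟩ := mult_equiv_ker (id : Q → Q) S' hS'1 hS'2 hS'3
    exact huniq (Cov (id : Q → Q) ⧸ S) (Cov (id : Q → Q) ⧸ S') (coverMap _ S hS1)
      (coverMap _ S' hS'1) (coverMap_isStem _ S hS1 hS3 hsurj)
      (coverMap_isStem _ S' hS'1 hS'3 hsurj) ⟨k1.symm.trans eM⟩ ⟨k2.symm.trans eM⟩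
  · intro hcop Γ₁ Γ₂ _ _ _ _ σ₁ σ₂ h₁ h₂ ⟨e₁⟩ ⟨e₂⟩
    exact iso_of_coprime hA hcop σ₁ σ₂ h₁ h₂ e₁ e₂


end Cfsg.Agent.S3974
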