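import Mathlib
import Cfsg.Statements.S3976
import Cfsg.Agent.Helper3.SubgroupCount

set_option autoImplicit false
open Cfsg

namespace Cfsg.Agent.S3976

open scoped Pointwise

/-- Let `p` be a prime and `G` a group of order `p ^ m`. For every `s ≤ m` the number of normal subgroups of `G` of order `p ^ s` is congruent to `1` modulo `p`. -/
theorem result {G : Type*} [Group G] [Finite G] (p m s : ℕ) (hp : p.Prime) (hG : Nat.card G = p ^ m) (hs : s ≤ m) : Nat.card {H : Subgroup G // H.Normal ∧ Nat.card H = p ^ s} ≡ 1 [MOD p] := by
  have : Fact p.Prime := ⟨hp⟩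
  have hPG : IsPGroup p G := IsPGroup.of_card hG
  have hPG' : IsPGroup p (ConjAct G) := hPG.of_equiv (ConjAct.toConjAct (G := G))
  have hdiv : p ^ s ∣ Nat.card G := by rw [hG]; exact pow_dvd_pow p hs
  have hall := Cfsg.Agent.Helper3.card_subgroups_prime_pow_modEq_one (G := G) p s hp hdiv
  -- conjugation action on subgroups of order p^s
  let T : SubMulAction (ConjAct G) (Subgroup G) :=
    { carrier := {H | Nat.card H = p ^ s}
      smul_mem' := by
        intro g H hH
        change Nat.card H = p ^ s at hH
        change Nat.card (g • H : Subgroup G) = p ^ s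
        rw [← hH]
        exact (Nat.card_congr (Subgroup.equivSMul g H).toEquiv).symm }
  have hfinT : Finite T := by
    change Finite {H : Subgroup G // Nat.card H = p ^ s}
    infer_instance
  have h1 := hPG'.card_modEq_card_fixedPoints (α := T)
  have hT : Nat.card T = Nat.card {H : Subgroup G // Nat.card H = p ^ s} := rfl
  have hfix : Nat.card (MulAction.fixedPoints (ConjAct G) T) =
      Nat.card {H : Subgroup G // H.Normal ∧ Nat.card H = p ^ s} := by
    apply Nat.card_congr
    refine
      { toFun := fun x => ⟨x.1.1, ?_, x.1.2⟩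
        invFun := fun H => ⟨⟨H.1, H.2.2⟩, ?_⟩
        left_inv := fun x => rfl
        right_inv := fun H => rfl }
    · -- fixed ⇒ normal
      have hx := x.2
      constructor
      intro n hn g
      have h2 : ConjAct.toConjAct g • x.1 = x.1 := hx (ConjAct.toConjAct g)
      have h3 : (ConjAct.toConjAct g • x.1 : T).1 = x.1.1 := congrArg Subtype.val h2
      have h4 : ConjAct.toConjAct g • n ∈ (ConjAct.toConjAct g • x.1.1 : Subgroup G) :=
        Subgroup.smul_mem_pointwise_smul n _ _ hn
      rw [ConjAct.smul_def, ConjAct.ofConjAct_toConjAct] at h4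
      have h5 : (ConjAct.toConjAct g • x.1.1 : Subgroup G) = x.1.1 := h3
      rw [h5] at h4
      exact h4
    · -- normal ⇒ fixed
      intro g
      apply Subtype.ext
      change g • H.1 = H.1
      have := H.2.1
      exact Subgroup.Normal.conjAct this g
  rw [hT, hfix] at h1
  exact h1.symm.trans hall

end Cfsg.Agent.S3976
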