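import Mathlib
import Cfsg.Statements.S3978
import Cfsg.Agent.Helper3.SchurMultF
-- import your own Cfsg.Agent.* helpers here

set_option autoImplicit false
open Cfsg

namespace Cfsg.Agent.S3978

open Cfsg.Agent.Helper3.SchurMult

theorem id_isStem {Q : Type*} [Group Q] : Cfsg.IsStemExtension (MonoidHom.id Q) := by
  refine ⟨Function.surjective_id, ?_, ?_⟩
  · rw [MonoidHom.ker_id]; exact bot_le
  · rw [MonoidHom.ker_id]; exact bot_le

/-- trivial groups are isomorphic -/
def trivEquiv {Q : Type*} [Group Q] : (MonoidHom.id Q).ker ≃* Multiplicative (ZMod 1) where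
  toFun _ := 1
  invFun _ := 1
  left_inv x := by
    apply Subtype.ext
    have h1 : x.1 ∈ (MonoidHom.id Q).ker := x.2
    have h2 : x.1 = 1 := MonoidHom.mem_ker.1 h1
    exact h2.symm
  right_inv y := Subsingleton.elim _ _
  map_mul' _ _ := by simp

/-- A finite group `Q` has trivial Schur multiplier if and only if, for every `n`, every homomorphism from `Q` to the projective general linear group (the quotient of `GL n ℂ` by its centre) lifts to a homomorphism into `GL n ℂ`. -/
theorem result {Q : Type*} [Group Q] [Finite Q] : Cfsg.HasCyclicSchurMultiplier Q 1 ↔ ∀ (n : ℕ) (γ : Q →* (GL (Fin n) ℂ ⧸ Subgroup.center (GL (Fin n) ℂ))), ∃ ρ : Q →* GL (Fin n) ℂ, (QuotientGroup.mk' (Subgroup.center (GL (Fin n) ℂ))).comp ρ = γ := by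
  constructor
  · intro hA n γ
    obtain ⟨ρ, hρ⟩ := lift_projective hA (MonoidHom.id Q) id_isStem ⟨trivEquiv⟩ (center_GL_root n) γ
    exact ⟨ρ, by rw [hρ, MonoidHom.comp_id]⟩
  · intro hlift
    refine ⟨⟨Q, inferInstance, inferInstance, MonoidHom.id Q, id_isStem, ⟨trivEquiv⟩⟩, ?_⟩
    intro Γ _ _ σ hσ
    have hbot : σ.ker = ⊥ := by
      apply ker_eq_bot_of_lifts σ hσ (MonoidHom.id Q) σ (MonoidHom.id_comp σ)
      intro n γ
      obtain ⟨ρ, hρ⟩ := hlift n γ
      exact ⟨ρ, by rw [hρ, MonoidHom.comp_id]⟩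
    refine ⟨1, ?_⟩
    rintro ⟨k, hk⟩
    refine ⟨1, ?_⟩
    apply Subtype.ext
    have hk' : k ∈ (⊥ : Subgroup Γ) := hbot ▸ hk
    rw [Subgroup.mem_bot] at hk'
    exact hk'.symm


end Cfsg.Agent.S3978
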