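import Cfsg.Statements.S3979
import Mathlib
import Cfsg.Agent.Helper3.Schur

set_option autoImplicit false
open Cfsg

namespace Cfsg.Agent.S3979

/-- A finite cyclic group has trivial Schur multiplier: every finite stem extension of it is an isomorphism, said through `HasCyclicSchurMultiplier G 1`. -/
theorem result {G : Type*} [Group G] [Finite G] [IsCyclic G] : Cfsg.HasCyclicSchurMultiplier G 1 := by
  apply Helper3.hasCyclicSchurMultiplier_one_of
  intro Γ _ _ σ hσ
  obtain ⟨_, hcen, hcomm⟩ := hσ
  have hab : IsMulCommutative Γ := σ.isMulCommutative_of_isCyclic_of_ker_le_center hcen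
  rw [eq_bot_iff]
  refine hcomm.trans ?_
  rw [(commutator_eq_bot_iff Γ).mpr hab]

end Cfsg.Agent.S3979
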