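import Mathlib
import Cfsg.Statements.S3980
import Cfsg.Agent.Helper3.SchurMultD
-- import your own Cfsg.Agent.* helpers here

set_option autoImplicit false
universe u v w
open Cfsg

namespace Cfsg.Agent.S3980

open Cfsg.Agent.Helper3.SchurMult
open scoped commutatorElement

/-- Let `Q₁` and `Q₂` be finite groups whose commutator quotients have coprime orders, with Schur multipliers `A` and `B`. Then the Schur multiplier of `Q₁ × Q₂` is isomorphic to `A × B`. -/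
theorem result {Q₁ : Type u} {Q₂ : Type v} [Group Q₁] [Group Q₂] [Finite Q₁] [Finite Q₂] {A B : Type w} [CommGroup A] [CommGroup B] (hA : Cfsg.HasSchurMultiplier Q₁ A) (hB : Cfsg.HasSchurMultiplier Q₂ B) (hcop : Nat.Coprime (Nat.card (Abelianization Q₁)) (Nat.card (Abelianization Q₂))) : Cfsg.HasSchurMultiplier (Q₁ × Q₂) (A × B) := by
  refine ⟨?_, ?_⟩
  · obtain ⟨⟨Γ₁, hG₁, hF₁, σ₁, hσ₁, ⟨e₁⟩⟩, -⟩ := hA
    obtain ⟨⟨Γ₂, hG₂, hF₂, σ₂, hσ₂, ⟨e₂⟩⟩, -⟩ := hB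
    refine ⟨Γ₁ × Γ₂, inferInstance, inferInstance, σ₁.prodMap σ₂, prodMap_isStem σ₁ σ₂ hσ₁ hσ₂,
      ⟨(kerProdEquiv σ₁ σ₂).trans (MulEquiv.prodCongr e₁ e₂)⟩⟩
  · intro Δ _ _ τ hτ
    obtain ⟨ρ₁, hρ₁⟩ := exists_hom_left τ hA hτ.1 hτ.2.1
    obtain ⟨ρ₂, hρ₂⟩ := exists_hom_right τ hB hτ.1 hτ.2.1
    have hbot := comm_left_right_eq_one_of_coprime τ hτ.1 hτ.2.1 hcop
    have hr1 : ∀ a, ρ₁ a ∈ τ.ker := by
      intro a
      have : ρ₁ a ∈ ρ₁.range := ⟨a, rfl⟩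
      rw [hρ₁] at this
      exact this.1
    have hr2 : ∀ b, ρ₂ b ∈ τ.ker := by
      intro b
      have : ρ₂ b ∈ ρ₂.range := ⟨b, rfl⟩
      rw [hρ₂] at this
      exact this.1
    have hcomm : ∀ a b, Commute (ρ₁ a) (ρ₂ b) := by
      intro a b
      exact (Subgroup.mem_center_iff.1 (hτ.2.1 (hr2 b)) (ρ₁ a))
    let π₀ : A × B →* Δ := MonoidHom.noncommCoprod ρ₁ ρ₂ hcomm
    have hπ₀ : ∀ x, π₀ x = ρ₁ x.1 * ρ₂ x.2 := fun x => rfl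
    have hmem : ∀ x, π₀ x ∈ τ.ker := fun x => by
      rw [hπ₀]; exact Subgroup.mul_mem _ (hr1 _) (hr2 _)
    refine ⟨π₀.codRestrict τ.ker hmem, ?_⟩
    rintro ⟨k, hk⟩
    obtain ⟨u, hu, v, hv, w, hw, rfl⟩ := ker_decomp τ hτ k hk
    rw [hbot, Subgroup.mem_bot] at hw
    rw [← hρ₁] at hu
    rw [← hρ₂] at hv
    obtain ⟨a, rfl⟩ := hu
    obtain ⟨b, rfl⟩ := hv
    refine ⟨(a, b), ?_⟩
    apply Subtype.ext
    change π₀ (a, b) = ρ₁ a * ρ₂ b * w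
    rw [hw, mul_one, hπ₀]


end Cfsg.Agent.S3980
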