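import Mathlib
import Cfsg.Statements.S3981
-- import your own Cfsg.Agent.* helpers here

set_option autoImplicit false
open Cfsg

namespace Cfsg.Agent.S3981
universe u

variable {G : Type u} [Group G]

theorem exists_normalizer_grow [Finite G] {p : ℕ} [Fact p.Prime]
    {P D : Subgroup G} (hP : IsPGroup p P) (hDP : D < P) :
    ∃ x ∈ P, x ∈ Subgroup.normalizer (D : Set G) ∧ x ∉ D := by
  have hnil : Group.IsNilpotent P := hP.isNilpotent
  have hlt : D.subgroupOf P < ⊤ := by
    rw [lt_top_iff_ne_top, Ne, Subgroup.subgroupOf_eq_top]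
    exact hDP.not_ge
  have h1 := Group.normalizerCondition_of_isNilpotent (G := P) _ hlt
  obtain ⟨x, hxN, hxD⟩ := SetLike.exists_of_lt h1
  rw [← Subgroup.subgroupOf_normalizer_eq hDP.le, Subgroup.mem_subgroupOf] at hxN
  rw [Subgroup.mem_subgroupOf] at hxD
  exact ⟨x, x.2, hxN, hxD⟩

/-- In a nontrivial finite `p`-group (`p` odd) normalized by an element `y` with `y² = 1` of an
ambient group, some element of order `p` is centralized or inverted by `y`. -/
theorem exists_fixed_or_inverted {H : Type u} [Group H] [Finite H] {p : ℕ} [hp : Fact p.Prime]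
    (R : Subgroup H) (hR : IsPGroup p R) (hR1 : R ≠ ⊥) (y : H) (hy2 : y * y = 1)
    (hyR : ∀ r ∈ R, y * r * y⁻¹ ∈ R) :
    ∃ x ∈ R, x ≠ 1 ∧ x ^ p = 1 ∧ (y * x * y⁻¹ = x ∨ y * x * y⁻¹ = x⁻¹) := by
  have hnt : Nontrivial ↥R := (Subgroup.nontrivial_iff_ne_bot R).2 hR1
  have hcnt : Nontrivial ↥(Subgroup.center ↥R) := hR.center_nontrivial
  have hcp : IsPGroup p ↥(Subgroup.center ↥R) := hR.to_subgroup _
  have hdvd : p ∣ Nat.card ↥(Subgroup.center ↥R) := by
    obtain ⟨k, hk⟩ := hcp.exists_card_eq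
    rw [hk]
    apply dvd_pow_self
    intro hk0
    rw [hk0, pow_zero] at hk
    have := (Nat.card_eq_one_iff_unique.1 hk).1
    exact not_subsingleton _ this
  obtain ⟨z, hz⟩ := exists_prime_orderOf_dvd_card' p hdvd
  have hzp : ((z : ↥R) : H) ^ p = 1 := by
    have h1 : z ^ p = 1 := by rw [← hz]; exact pow_orderOf_eq_one z
    have h2 := congrArg (fun t : ↥(Subgroup.center ↥R) => ((t : ↥R) : H)) h1
    simpa using h2
  have hz1 : ((z : ↥R) : H) ≠ 1 := by
    intro h
    have h1 : z = 1 := by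
      apply Subtype.ext; apply Subtype.ext; exact h
    rw [h1, orderOf_one] at hz
    exact hp.out.one_lt.ne hz
  have hzc : ∀ r ∈ R, ((z : ↥R) : H) * r = r * ((z : ↥R) : H) := by
    intro r hr
    have h1 := Subgroup.mem_center_iff.mp z.2 ⟨r, hr⟩
    exact (congrArg Subtype.val h1).symm
  set z0 : H := ((z : ↥R) : H) with hz0
  have hz0R : z0 ∈ R := (z : ↥R).2
  set w := y * z0 * y⁻¹ with hw
  have hwR : w ∈ R := hyR z0 hz0R
  have hyinv : y⁻¹ = y := inv_eq_of_mul_eq_one_left hy2
  by_cases hwz : w = z0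
  · exact ⟨z0, hz0R, hz1, hzp, Or.inl hwz⟩
  · refine ⟨z0⁻¹ * w, R.mul_mem (R.inv_mem hz0R) hwR, ?_, ?_, Or.inr ?_⟩
    · intro h
      apply hwz
      calc w = z0 * (z0⁻¹ * w) := by group
        _ = z0 := by rw [h, mul_one]
    · have hcomm : Commute z0⁻¹ w := by
        have := hzc w hwR
        exact (Commute.inv_left (show Commute z0 w from this))
      rw [hcomm.mul_pow, inv_pow, hzp, inv_one, one_mul, hw, conj_pow, hzp]
      group
    · have h1 : y * w * y⁻¹ = z0 := by
        rw [hw]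
        have : y * (y * z0 * y⁻¹) * y⁻¹ = (y * y) * z0 * (y * y)⁻¹ := by group
        rw [this, hy2]; group
      calc y * (z0⁻¹ * w) * y⁻¹ = (y * z0 * y⁻¹)⁻¹ * (y * w * y⁻¹) := by group
        _ = w⁻¹ * z0 := by rw [h1]
        _ = (z0⁻¹ * w)⁻¹ := by group

/-- Let p be an odd prime, Q a p-subgroup of the finite group G and y an involution normalizing Q. Then Q is maximal among the p-subgroups of G normalized by y if and only if the image of y in N_G(Q) ⧸ Q neither inverts nor centralizes any element of order p there; the latter is phrased inside N_G(Q): for every x in N_G(Q) outside Q with x ^ p ∈ Q, neither y x y⁻¹ x nor y x y⁻¹ x⁻¹ lies in Q. -/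
theorem result {G : Type*} [Group G] [Finite G] (p : ℕ) [Fact p.Prime] (hp2 : p ≠ 2) (Q : Subgroup G) (hQ : IsPGroup p ↥Q) (y : G) (hy : orderOf y = 2) (hyQ : y ∈ Subgroup.normalizer (Q : Set G)) : (∀ R : Subgroup G, IsPGroup p ↥R → Q ≤ R → y ∈ Subgroup.normalizer (R : Set G) → R = Q) ↔ ∀ x : G, x ∈ Subgroup.normalizer (Q : Set G) → x ∉ Q → x ^ p ∈ Q → (y * x * y⁻¹ * x ∉ Q ∧ y * x * y⁻¹ * x⁻¹ ∉ Q) := by
  have hp : Fact p.Prime := inferInstance
  have hy2 : y * y = 1 := by
    have := pow_orderOf_eq_one y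
    rwa [hy, pow_two] at this
  have hyinv : y⁻¹ = y := inv_eq_of_mul_eq_one_left hy2
  constructor
  · intro hmax x hxN hxQ hxp
    -- the subgroup `R = Q⟨x⟩`
    set R := Q ⊔ Subgroup.zpowers x with hR
    have hxR : x ∈ R := (le_sup_right : Subgroup.zpowers x ≤ R) (Subgroup.mem_zpowers x)
    have hQR : Q ≤ R := le_sup_left
    have hxpow : IsPGroup p ↥(Subgroup.zpowers x) := by
      obtain ⟨k, hk⟩ := hQ ⟨x ^ p, hxp⟩
      have h1 : (x ^ p) ^ p ^ k = 1 := by
        have := congrArg Subtype.val hk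
        simpa using this
      rw [← pow_mul, ← pow_succ'] at h1
      obtain ⟨j, -, hj⟩ := (Nat.dvd_prime_pow hp.out).1 (orderOf_dvd_of_pow_eq_one h1)
      apply IsPGroup.of_card (n := j)
      rw [Nat.card_zpowers, hj]
    have hRp : IsPGroup p ↥R := by
      rw [hR, sup_comm]
      apply IsPGroup.to_sup_of_normal_right' hxpow hQ
      rw [Subgroup.zpowers_le]
      exact hxN
    have key : y * x * y⁻¹ ∈ R → False := by
      intro hyx
      have hyR : ∀ r ∈ R, y * r * y⁻¹ ∈ R := by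
        have hle : R ≤ R.comap (MulAut.conj y).toMonoidHom := by
          rw [hR]
          apply sup_le
          · intro q hq
            rw [Subgroup.mem_comap]
            exact hQR ((Subgroup.mem_normalizer_iff.1 hyQ q).1 hq)
          · rw [Subgroup.zpowers_le, Subgroup.mem_comap]
            exact hyx
        intro r hr
        exact hle hr
      have hyN : y ∈ Subgroup.normalizer (R : Set G) := by
        rw [Subgroup.mem_normalizer_iff]
        intro r
        refine ⟨hyR r, ?_⟩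
        intro h
        have h1 := hyR _ h
        have h2 : y * (y * r * y⁻¹) * y⁻¹ = (y * y) * r * (y * y)⁻¹ := by group
        rw [h2, hy2] at h1
        simpa using h1
      have h3 := hmax R hRp hQR hyN
      rw [h3] at hxR
      exact hxQ hxR
    constructor
    · intro h
      apply key
      have : y * x * y⁻¹ = (y * x * y⁻¹ * x) * x⁻¹ := by group
      rw [this]
      exact R.mul_mem (hQR h) (R.inv_mem hxR)
    · intro h
      apply key
      have : y * x * y⁻¹ = (y * x * y⁻¹ * x⁻¹) * x := by group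
      rw [this]
      exact R.mul_mem (hQR h) hxR
  · intro h R hRp hQR hyR
    by_contra hne
    have hlt : Q < R := lt_of_le_of_ne hQR (Ne.symm hne)
    obtain ⟨x0, hx0R, hx0N, hx0Q⟩ := exists_normalizer_grow hRp hlt
    set NQ := Subgroup.normalizer (Q : Set G) with hNQ
    have hQn : (Q.subgroupOf NQ).Normal := Subgroup.normal_in_normalizer
    set π := QuotientGroup.mk' (Q.subgroupOf NQ) with hπ
    set Rb := (R.subgroupOf NQ).map π with hRb
    have hRbp : IsPGroup p ↥Rb := (hRp.comap_subtype).map _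
    have hker : ∀ n : ↥NQ, π n = 1 ↔ (n : G) ∈ Q := by
      intro n
      rw [hπ, QuotientGroup.mk'_apply, QuotientGroup.eq_one_iff, Subgroup.mem_subgroupOf]
    have hRb1 : Rb ≠ ⊥ := by
      intro hbot
      have h1 : π ⟨x0, hx0N⟩ ∈ Rb := ⟨⟨x0, hx0N⟩, Subgroup.mem_subgroupOf.2 hx0R, rfl⟩
      rw [hbot, Subgroup.mem_bot, hker] at h1
      exact hx0Q h1
    set yb := π ⟨y, hyQ⟩ with hyb
    have hyb2 : yb * yb = 1 := by
      rw [hyb, ← map_mul]
      have : (⟨y, hyQ⟩ : ↥NQ) * ⟨y, hyQ⟩ = 1 := Subtype.ext hy2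
      rw [this, map_one]
    have hybR : ∀ r ∈ Rb, yb * r * yb⁻¹ ∈ Rb := by
      rintro _ ⟨r, hr, rfl⟩
      refine ⟨⟨y, hyQ⟩ * r * ⟨y, hyQ⟩⁻¹, ?_, ?_⟩
      · rw [SetLike.mem_coe, Subgroup.mem_subgroupOf] at hr ⊢
        exact (Subgroup.mem_normalizer_iff.1 hyR _).1 hr
      · rw [map_mul, map_mul, map_inv]
    obtain ⟨xb, hxbR, hxb1, hxbp, hcase⟩ :=
      exists_fixed_or_inverted Rb hRbp hRb1 yb hyb2 hybR
    obtain ⟨x', hx'R, rfl⟩ := hxbR
    have hxN : (x' : G) ∈ Subgroup.normalizer (Q : Set G) := x'.2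
    have hxQ : (x' : G) ∉ Q := fun hq => hxb1 ((hker x').2 hq)
    have hxp : (x' : G) ^ p ∈ Q := by
      have h1 : π (x' ^ p) = 1 := by rw [map_pow]; exact hxbp
      have h2 := (hker (x' ^ p)).1 h1
      simpa using h2
    obtain ⟨hA, hB⟩ := h (x' : G) hxN hxQ hxp
    rcases hcase with hc | hc
    · apply hB
      have h1 : π (⟨y, hyQ⟩ * x' * ⟨y, hyQ⟩⁻¹ * x'⁻¹) = 1 := by
        rw [map_mul, map_mul, map_mul, map_inv, map_inv, ← hyb, hc, mul_inv_cancel]
      have h2 := (hker _).1 h1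
      simpa using h2
    · apply hA
      have h1 : π (⟨y, hyQ⟩ * x' * ⟨y, hyQ⟩⁻¹ * x') = 1 := by
        rw [map_mul, map_mul, map_mul, map_inv, ← hyb, hc, inv_mul_cancel]
      have h2 := (hker _).1 h1
      simpa using h2


end Cfsg.Agent.S3981
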