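import Mathlib
import Cfsg.Statements.S3982
import Cfsg.Agent.Helper1.SylowInt
import Cfsg.Agent.Helper1.Card
import Cfsg.Agent.Helper5.CharP2
-- import your own Cfsg.Agent.* helpers here

set_option autoImplicit false
open Cfsg

namespace Cfsg.Agent.S3982
universe u
open Cfsg.Agent.Helper1

variable {G : Type u} [Group G]

theorem exists_normalizer_grow [Finite G] {p : ℕ} [Fact p.Prime]
    {P D : Subgroup G} (hP : IsPGroup p P) (hDP : D < P) :
    ∃ x ∈ P, x ∈ Subgroup.normalizer (D : Set G) ∧ x ∉ D := by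
  have hnil : Group.IsNilpotent P := hP.isNilpotent
  have hlt : D.subgroupOf P < ⊤ := by
    rw [lt_top_iff_ne_top, Ne, Subgroup.subgroupOf_eq_top]
    exact hDP.not_ge
  have h1 := Group.normalizerCondition_of_isNilpotent (G := P) _ hlt
  obtain ⟨x, hxN, hxD⟩ := SetLike.exists_of_lt h1
  rw [← Subgroup.subgroupOf_normalizer_eq hDP.le, Subgroup.mem_subgroupOf] at hxN
  rw [Subgroup.mem_subgroupOf] at hxD
  exact ⟨x, x.2, hxN, hxD⟩

/-- a fixed-point-free involution inverts. -/
theorem inverts_of_fpf [Finite G] (K : Subgroup G) (s : G)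
    (hsK : s ∈ Subgroup.normalizer (K : Set G))
    (hs2 : orderOf s = 2) (hfpf : ∀ k ∈ K, s * k = k * s → k = 1) :
    ∀ k ∈ K, s * k * s⁻¹ = k⁻¹ := by
  have hss : s * s = 1 := by
    have := pow_orderOf_eq_one s
    rwa [hs2, sq] at this
  have hsinv : s⁻¹ = s := inv_eq_of_mul_eq_one_left hss
  have hconj : ∀ k ∈ K, s * k * s⁻¹ ∈ K := fun k hk => (Subgroup.mem_normalizer_iff.1 hsK k).1 hk
  let φ : K → K := fun k => ⟨(k : G)⁻¹ * (s * k * s⁻¹),
    K.mul_mem (K.inv_mem k.2) (hconj _ k.2)⟩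
  have hinj : Function.Injective φ := by
    intro a b hab
    have h1 : (a : G)⁻¹ * (s * a * s⁻¹) = (b : G)⁻¹ * (s * b * s⁻¹) := congrArg Subtype.val hab
    have h2 : (b : G) * (a : G)⁻¹ = 1 := by
      apply hfpf _ (K.mul_mem b.2 (K.inv_mem a.2))
      have h3 : s * a * s⁻¹ = (a : G) * (b : G)⁻¹ * (s * b * s⁻¹) := by
        rw [mul_assoc (a : G), ← h1]; group
      have h4 : s * ((b : G) * (a : G)⁻¹) * s⁻¹ = (b : G) * (a : G)⁻¹ := by
        have : s * ((b : G) * (a : G)⁻¹) * s⁻¹ = (s * b * s⁻¹) * (s * a * s⁻¹)⁻¹ := by group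
        rw [this, h3]; group
      calc s * ((b : G) * (a : G)⁻¹) = (s * ((b : G) * (a : G)⁻¹) * s⁻¹) * s := by group
        _ = (b : G) * (a : G)⁻¹ * s := by rw [h4]
    apply Subtype.ext
    have : (b : G) = (b : G) * (a : G)⁻¹ * a := by group
    rw [this, h2, one_mul]
  have hsurj : Function.Surjective φ := Finite.surjective_of_injective hinj
  intro k hk
  obtain ⟨k0, hk0⟩ := hsurj ⟨k, hk⟩
  have h1 : (k0 : G)⁻¹ * (s * k0 * s⁻¹) = k := congrArg Subtype.val hk0
  rw [← h1]
  have e1 : s * ((k0 : G)⁻¹ * (s * k0 * s⁻¹)) * s⁻¹ = s * (k0 : G)⁻¹ * s * k0 * (s * s)⁻¹ := by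
    group
  have e2 : ((k0 : G)⁻¹ * (s * k0 * s⁻¹))⁻¹ = s * (k0 : G)⁻¹ * s⁻¹ * k0 := by group
  rw [e1, e2, hss, inv_one, mul_one, hsinv]

theorem card_pgroup_dvd [Finite G] {p : ℕ} [hp : Fact p.Prime] (R K : Subgroup G)
    (hR : IsPGroup p R) (hRK : R ≤ K) : Nat.card R ∣ p ^ (Nat.card K).factorization p := by
  obtain ⟨k, hk⟩ := hR.exists_card_eq
  rw [hk]
  apply pow_dvd_pow
  apply (Nat.Prime.pow_dvd_iff_le_factorization hp.out Nat.card_pos.ne').1
  rw [← hk]
  exact Subgroup.card_dvd_of_le hRK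

theorem pow_order_of_mem {p : ℕ} [hp : Fact p.Prime] {R : Subgroup G} (hR : IsPGroup p R)
    {r : G} (hr : r ∈ R) : ∃ k : ℕ, orderOf r = p ^ k := by
  obtain ⟨k, hk⟩ := hR ⟨r, hr⟩
  have h1 : r ^ p ^ k = 1 := by
    have := congrArg Subtype.val hk
    simpa using this
  obtain ⟨j, -, hj⟩ := (Nat.dvd_prime_pow hp.out).1 (orderOf_dvd_of_pow_eq_one h1)
  exact ⟨j, hj⟩

/-- Let p be an odd prime and G a finite group of even order divisible by p in which the centralizer of every non-identity p-element has odd order. If some nontrivial p-subgroup of G has a normalizer of even order, then the normalizer of every Sylow p-subgroup of G has even order. -/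
theorem result {G : Type*} [Group G] [Finite G] (p : ℕ) [Fact p.Prime] (hp2 : p ≠ 2) (hpG : p ∣ Nat.card G) (h2G : 2 ∣ Nat.card G) (hC : ∀ g : G, g ≠ 1 → (∃ k : ℕ, orderOf g = p ^ k) → Odd (Nat.card ↥(Subgroup.centralizer ({g} : Set G)))) (Q : Subgroup G) (hQ : IsPGroup p ↥Q) (hQ1 : Q ≠ ⊥) (hev : Even (Nat.card ↥(Subgroup.normalizer (Q : Set G)))) (P : Sylow p G) : Even (Nat.card ↥(Subgroup.normalizer ((P : Subgroup G) : Set G))) := by
  have hp : Fact p.Prime := inferInstance
  have h2 : Fact (Nat.Prime 2) := ⟨Nat.prime_two⟩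
  have hpodd : Odd p := hp.out.odd_of_ne_two hp2
  obtain ⟨y', hy'⟩ := exists_prime_orderOf_dvd_card' 2 hev.two_dvd
  set y : G := (y' : G) with hydef
  have hy : orderOf y = 2 := by rw [← hy']; exact Subgroup.orderOf_coe y'
  have hyQ : y ∈ Subgroup.normalizer (Q : Set G) := y'.2
  have hyy : y * y = 1 := by
    have := pow_orderOf_eq_one y
    rwa [hy, pow_two] at this
  have hyinv : y⁻¹ = y := inv_eq_of_mul_eq_one_left hyy
  -- `y` centralizes no nontrivial `p`-element
  have hfpf : ∀ g : G, (∃ k : ℕ, orderOf g = p ^ k) → y * g = g * y → g = 1 := by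
    intro g hg hcomm
    by_contra hg1
    have hodd := hC g hg1 hg
    have hmem : y ∈ Subgroup.centralizer ({g} : Set G) := by
      rw [Subgroup.mem_centralizer_singleton_iff]; exact hcomm
    have h3 : 2 ∣ Nat.card ↥(Subgroup.centralizer ({g} : Set G)) := by
      rw [← hy]; exact Subgroup.orderOf_dvd_natCard _ hmem
    exact (Nat.not_even_iff_odd.2 hodd) (even_iff_two_dvd.2 h3)
  -- a maximal `y`-invariant `p`-subgroup containing `Q`
  let 𝒮 : Set (Subgroup G) :=
    {V | Q ≤ V ∧ IsPGroup p V ∧ y ∈ Subgroup.normalizer (V : Set G)}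
  have hQ𝒮 : Q ∈ 𝒮 := ⟨le_rfl, hQ, hyQ⟩
  obtain ⟨R, hQR, hRmax⟩ := (Set.toFinite 𝒮).exists_le_maximal hQ𝒮
  obtain ⟨-, hRp, hyR⟩ : R ∈ 𝒮 := hRmax.prop
  have hR1 : R ≠ ⊥ := by
    intro h; apply hQ1; rw [eq_bot_iff, ← h]; exact hQR
  obtain ⟨P0, hRP0⟩ := hRp.exists_le_sylow
  have hRP : R = (P0 : Subgroup G) := by
    by_contra hne
    have hlt : R < (P0 : Subgroup G) := lt_of_le_of_ne hRP0 hne
    obtain ⟨x0, hx0P, hx0N, hx0R⟩ := exists_normalizer_grow P0.2 hlt
    set S := R ⊔ Subgroup.zpowers x0 with hS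
    have hx0S : x0 ∈ S := (le_sup_right : Subgroup.zpowers x0 ≤ S) (Subgroup.mem_zpowers x0)
    have hRS : R ≤ S := le_sup_left
    have hSP0 : S ≤ (P0 : Subgroup G) := sup_le hRP0 ((Subgroup.zpowers_le).2 hx0P)
    have hSp : IsPGroup p S := P0.2.to_le hSP0
    have hSN : S ≤ Subgroup.normalizer (R : Set G) :=
      sup_le Subgroup.le_normalizer ((Subgroup.zpowers_le).2 hx0N)
    set C := Subgroup.centralizer (R : Set G) with hCdef
    have hCodd : Odd (Nat.card C) := by
      obtain ⟨⟨r, hr⟩, hr1'⟩ := (Subgroup.ne_bot_iff_exists_ne_one).1 hR1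
      have hr1 : r ≠ 1 := fun h => hr1' (Subtype.ext h)
      have hodd := hC r hr1 (pow_order_of_mem hRp hr)
      have hle : C ≤ Subgroup.centralizer ({r} : Set G) :=
        Subgroup.centralizer_le (by intro z hz; rw [Set.mem_singleton_iff] at hz; rw [hz]; exact hr)
      exact Odd.of_dvd_nat hodd (Subgroup.card_dvd_of_le hle)
    have hinv : ∀ k ∈ R, y * k * y⁻¹ = k⁻¹ :=
      inverts_of_fpf R y hyR hy (fun k hk hc => hfpf k (pow_order_of_mem hRp hk) hc)
    have hcomm : ∀ g ∈ Subgroup.normalizer (R : Set G), y * g * y⁻¹ * g⁻¹ ∈ C := by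
      intro g hg
      rw [hCdef, Subgroup.mem_centralizer_iff]
      intro r hr
      have hr1 : g⁻¹ * r * g ∈ R := by
        have := (Subgroup.mem_normalizer_iff.1 (Subgroup.inv_mem _ hg) r).1 hr
        rwa [inv_inv] at this
      have h3 := hinv _ hr1
      have h4 := hinv _ (R.inv_mem hr)
      rw [inv_inv] at h4
      -- r * z = z * r
      have e1 : (y * g * y⁻¹ * g⁻¹) * r * (y * g * y⁻¹ * g⁻¹)⁻¹ =
          y * (g * (y⁻¹ * (g⁻¹ * r * g) * y) * g⁻¹) * y⁻¹ := by group
      have e2 : y⁻¹ * (g⁻¹ * r * g) * y = (g⁻¹ * r * g)⁻¹ := by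
        have : y⁻¹ * (g⁻¹ * r * g) * y = y * (g⁻¹ * r * g) * y⁻¹ := by rw [hyinv]
        rw [this, h3]
      have e3 : (y * g * y⁻¹ * g⁻¹) * r * (y * g * y⁻¹ * g⁻¹)⁻¹ = r := by
        rw [e1, e2]
        have : g * (g⁻¹ * r * g)⁻¹ * g⁻¹ = r⁻¹ := by group
        rw [this, h4]
      calc r * (y * g * y⁻¹ * g⁻¹) = ((y * g * y⁻¹ * g⁻¹) * r * (y * g * y⁻¹ * g⁻¹)⁻¹) * (y * g * y⁻¹ * g⁻¹) := by rw [e3]
        _ = (y * g * y⁻¹ * g⁻¹) * r := by group
    have hNC : Subgroup.normalizer (R : Set G) ≤ Subgroup.normalizer (C : Set G) :=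
      Cfsg.Agent.Helper5.normalizer_le_normalizer_centralizer R
    set M := C ⊔ S with hM
    have hMcard : Odd (Nat.card M) := by
      have h3 := card_sup_mul_card_inf (N := C) (A := S) (hSN.trans hNC)
      have h4 : Nat.card M ∣ Nat.card C * Nat.card S := Dvd.intro _ h3
      have h5 : Odd (Nat.card S) := by
        obtain ⟨k, hk⟩ := hSp.exists_card_eq
        rw [hk]; exact hpodd.pow
      exact Odd.of_dvd_nat (hCodd.mul h5) h4
    have hyM : ∀ m ∈ M, y * m * y⁻¹ ∈ M := by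
      have hle : M ≤ M.comap (MulAut.conj y).toMonoidHom := by
        rw [hM]
        apply sup_le
        · intro c hc
          rw [Subgroup.mem_comap]
          exact (le_sup_left : C ≤ C ⊔ S) ((Subgroup.mem_normalizer_iff.1 (hNC hyR) c).1 hc)
        · rw [hS]
          apply sup_le
          · intro r hr
            rw [Subgroup.mem_comap]
            exact (le_sup_right : S ≤ C ⊔ S) (hRS ((Subgroup.mem_normalizer_iff.1 hyR r).1 hr))
          · rw [Subgroup.zpowers_le, Subgroup.mem_comap]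
            have : y * x0 * y⁻¹ = (y * x0 * y⁻¹ * x0⁻¹) * x0 := by group
            show y * x0 * y⁻¹ ∈ C ⊔ S
            rw [this]
            exact Subgroup.mul_mem _ ((le_sup_left : C ≤ C ⊔ S) (hcomm x0 hx0N))
              ((le_sup_right : S ≤ C ⊔ S) hx0S)
      intro m hm
      exact hle hm
    have hyNM : y ∈ Subgroup.normalizer (M : Set G) := by
      rw [Subgroup.mem_normalizer_iff]
      intro r
      refine ⟨hyM r, ?_⟩
      intro h
      have h1 := hyM _ h
      have h2 : y * (y * r * y⁻¹) * y⁻¹ = (y * y) * r * (y * y)⁻¹ := by group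
      rw [h2, hyy] at h1
      simpa using h1
    have hcop : (Nat.card (Subgroup.zpowers y)).Coprime (Nat.card M) := by
      rw [Nat.card_zpowers, hy]
      exact (Nat.coprime_two_left).2 hMcard
    have hsolv : Group.IsSolvable (Subgroup.zpowers y) := inferInstance
    obtain ⟨P2, hRP2, hyP2⟩ := exists_invariant_sylow_ge (p := p) (Subgroup.zpowers y) M
      ((Subgroup.zpowers_le).2 hyNM) hcop (Or.inl hsolv) R (hRS.trans le_sup_right) hRp
      ((Subgroup.zpowers_le).2 hyR)
    set V := (P2 : Subgroup M).map M.subtype with hV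
    have hV𝒮 : V ∈ 𝒮 := ⟨hQR.trans hRP2, P2.2.map _, hyP2 (Subgroup.mem_zpowers y)⟩
    have hVR : V ≤ R := hRmax.2 hV𝒮 hRP2
    have hcardV : Nat.card V = p ^ (Nat.card M).factorization p := by
      rw [hV, Subgroup.card_map_of_injective M.subtype_injective]
      exact Sylow.card_eq_multiplicity P2
    have h6 := card_pgroup_dvd S M hSp le_sup_right
    rw [← hcardV] at h6
    have h7 : Nat.card S ≤ Nat.card R :=
      (Nat.le_of_dvd Nat.card_pos h6).trans (Nat.le_of_dvd Nat.card_pos (Subgroup.card_dvd_of_le hVR))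
    have h8 : R < S := by
      refine lt_of_le_of_ne hRS ?_
      intro h
      apply hx0R
      rw [h]; exact hx0S
    have h9 := card_lt_card_of_lt h8
    omega
  -- `N(P0)` has even order, and `P` is conjugate to `P0`
  have hev0 : 2 ∣ Nat.card ↥(Subgroup.normalizer ((P0 : Subgroup G) : Set G)) := by
    rw [← hy]
    apply Subgroup.orderOf_dvd_natCard
    rw [← hRP]; exact hyR
  obtain ⟨g, hg⟩ := MulAction.exists_smul_eq G P0 P
  have h3 : (P : Subgroup G) = (P0 : Subgroup G).map (MulAut.conj g).toMonoidHom := by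
    rw [← hg, Sylow.coe_subgroup_smul]
    rfl
  have h4 : Subgroup.normalizer ((P : Subgroup G) : Set G) =
      (Subgroup.normalizer ((P0 : Subgroup G) : Set G)).map (MulAut.conj g).toMonoidHom := by
    rw [h3]
    exact (Subgroup.map_equiv_normalizer_eq (P0 : Subgroup G) (MulAut.conj g)).symm
  rw [h4, Subgroup.card_map_of_injective (MulAut.conj g).injective]
  exact even_iff_two_dvd.2 hev0


end Cfsg.Agent.S3982
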