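import Mathlib
import Cfsg.Statements.S3983
import Cfsg.Agent.Helper3.TI

set_option autoImplicit false
open Cfsg

namespace Cfsg.Agent.S3983

open Cfsg.Agent.Helper3
open scoped Pointwise

/-- Let P be a Sylow p-subgroup of the finite group G that meets each conjugate g P g⁻¹ with g outside N_G(P) trivially, and let U be a subgroup of G of order divisible by p. Then a Sylow p-subgroup Q of U has the same property inside U: Q meets each conjugate u Q u⁻¹ with u ∈ U outside N_U(Q) trivially. -/
theorem result {G : Type*} [Group G] [Finite G] (p : ℕ) [Fact p.Prime] (P : Sylow p G) (hTI : ∀ g : G, g ∉ Subgroup.normalizer ((P : Subgroup G) : Set G) → (P : Subgroup G) ⊓ (MulAut.conj g • (P : Subgroup G)) = ⊥) (U : Subgroup G) (hU : p ∣ Nat.card ↥U) (Q : Sylow p ↥U) : ∀ u : ↥U, u ∉ Subgroup.normalizer ((Q : Subgroup ↥U) : Set ↥U) → (Q : Subgroup ↥U) ⊓ (MulAut.conj u • (Q : Subgroup ↥U)) = ⊥ := by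
  rw [ti_iff_tiElem] at hTI ⊢
  -- a Sylow subgroup of G containing Q
  have hQp : IsPGroup p ((Q : Subgroup ↥U).map U.subtype) := Q.isPGroup'.map U.subtype
  obtain ⟨P', hP'⟩ := hQp.exists_le_sylow
  have hTI' : TIElem (P' : Subgroup G) := hTI.sylow P'
  -- Q = P' ∩ U
  have hQeq : ∀ y : ↥U, y ∈ (Q : Subgroup ↥U) ↔ (y : G) ∈ (P' : Subgroup G) := by
    have hR : IsPGroup p ((P' : Subgroup G).subgroupOf U) :=
      P'.isPGroup'.comap_of_injective U.subtype U.subtype_injective
    have hle : (Q : Subgroup ↥U) ≤ (P' : Subgroup G).subgroupOf U := by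
      intro y hy
      rw [Subgroup.mem_subgroupOf]
      exact hP' (Subgroup.mem_map_of_mem _ hy)
    have := Q.is_maximal' hR hle
    intro y
    rw [← this, Subgroup.mem_subgroupOf]
  intro u x hx hux hx1
  have hxG : (x : G) ∈ (P' : Subgroup G) := (hQeq x).1 hx
  have huxG : (u : G)⁻¹ * (x : G) * (u : G) ∈ (P' : Subgroup G) := by
    have := (hQeq _).1 hux
    simpa using this
  have hx1G : (x : G) ≠ 1 := fun h => hx1 (Subtype.ext h)
  have huN := hTI' (u : G) (x : G) hxG huxG hx1G
  rw [Subgroup.mem_normalizer_iff] at huN ⊢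
  intro h
  rw [hQeq, hQeq]
  have := huN (h : G)
  simpa using this

end Cfsg.Agent.S3983
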