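import Mathlib
import Cfsg.Statements.S3984
import Cfsg.Agent.Helper3.TI
import Cfsg.Agent.Helper3.CoprimeQuot

set_option autoImplicit false
open Cfsg

namespace Cfsg.Agent.S3984

open Cfsg.Agent.Helper3
open scoped Pointwise

/-- Let P be a Sylow p-subgroup of the finite group G that meets each conjugate g P g⁻¹ with g outside N_G(P) trivially, and let N be a normal subgroup of G of order prime to p. Then every Sylow p-subgroup Q of G ⧸ N meets each conjugate x Q x⁻¹ with x outside its normalizer trivially. -/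
theorem result {G : Type*} [Group G] [Finite G] (p : ℕ) [Fact p.Prime] (P : Sylow p G) (hTI : ∀ g : G, g ∉ Subgroup.normalizer ((P : Subgroup G) : Set G) → (P : Subgroup G) ⊓ (MulAut.conj g • (P : Subgroup G)) = ⊥) (N : Subgroup G) [N.Normal] (hN : (Nat.card ↥N).Coprime p) (Q : Sylow p (G ⧸ N)) : ∀ x : G ⧸ N, x ∉ Subgroup.normalizer ((Q : Subgroup (G ⧸ N)) : Set (G ⧸ N)) → (Q : Subgroup (G ⧸ N)) ⊓ (MulAut.conj x • (Q : Subgroup (G ⧸ N))) = ⊥ := by
  rw [ti_iff_tiElem] at hTI ⊢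
  have hsurj := QuotientGroup.mk'_surjective N
  obtain ⟨P', rfl⟩ := Sylow.mapSurjective_surjective hsurj p Q
  have hTI' : TIElem (P' : Subgroup G) := hTI.sylow P'
  intro gbar ybar hy hgy hy1
  rw [Sylow.coe_mapSurjective] at hy hgy ⊢
  obtain ⟨g, rfl⟩ := hsurj gbar
  obtain ⟨y, hyP, rfl⟩ := hy
  obtain ⟨y', hy'P, hy'⟩ := hgy
  -- g⁻¹ y g ∈ P' ⊔ N
  have hmem : g⁻¹ * y * g ∈ (P' : Subgroup G) ⊔ N := by
    have h2 : y'⁻¹ * (g⁻¹ * y * g) ∈ N := by
      rw [← QuotientGroup.eq, ← QuotientGroup.mk'_apply, ← QuotientGroup.mk'_apply, hy']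
      simp
    have : g⁻¹ * y * g = y' * (y'⁻¹ * (g⁻¹ * y * g)) := by group
    rw [this]
    exact Subgroup.mul_mem_sup hy'P h2
  have hZ : IsPGroup p (Subgroup.zpowers (g⁻¹ * y * g)) := by
    have h1 : IsPGroup p (Subgroup.zpowers y) :=
      P'.isPGroup'.to_le (by rw [Subgroup.zpowers_le]; exact hyP)
    have h2 : Subgroup.zpowers (g⁻¹ * y * g) =
        (Subgroup.zpowers y).map (MulAut.conj g⁻¹).toMonoidHom := by
      rw [MonoidHom.map_zpowers]
      simp
    rw [h2]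
    exact h1.map _
  have hZle : Subgroup.zpowers (g⁻¹ * y * g) ≤ (P' : Subgroup G) ⊔ N := by
    rw [Subgroup.zpowers_le]; exact hmem
  obtain ⟨n, hn, hnz⟩ := exists_conj_into' N hN (P' : Subgroup G) _ P'.isPGroup' hZ hZle
  have h3 := hnz _ (Subgroup.mem_zpowers _)
  have hy1' : y ≠ 1 := by
    rintro rfl
    exact hy1 (map_one _)
  have hh : g * n⁻¹ ∈ Subgroup.normalizer ((P' : Subgroup G) : Set G) := by
    apply hTI' (g * n⁻¹) y hyP _ hy1'
    have e : (g * n⁻¹)⁻¹ * y * (g * n⁻¹) = n * (g⁻¹ * y * g) * n⁻¹ := by group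
    rw [e]; exact h3
  have h4 : QuotientGroup.mk' N (g * n⁻¹) = QuotientGroup.mk' N g := by
    rw [map_mul, map_inv]
    have : QuotientGroup.mk' N n = 1 := by
      rw [QuotientGroup.mk'_apply, QuotientGroup.eq_one_iff]; exact hn
    rw [this]; simp
  rw [← h4]
  exact Subgroup.le_normalizer_map _ (Subgroup.mem_map_of_mem _ hh)

end Cfsg.Agent.S3984
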