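import Mathlib
import Cfsg.Statements.S3985
import Cfsg.Agent.Helper4.Cyclic
import Cfsg.Agent.Helper1.Coprime

set_option autoImplicit false
open Cfsg
open scoped Pointwise

namespace Cfsg.Agent.S3985

/-- In a cyclic `p`-subgroup two nontrivial elements have a common power of order `p`. -/
theorem exists_common_order_p {G : Type*} [Group G] [Finite G] (p : ℕ) [Fact p.Prime] (P : Subgroup G)
    (hPp : IsPGroup p P) (hcyc : IsCyclic P) (a b : G) (ha : a ∈ P) (hb : b ∈ P) (ha1 : a ≠ 1) (hb1 : b ≠ 1) :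
    ∃ z : G, orderOf z = p ∧ z ∈ Subgroup.zpowers a ∧ z ∈ Subgroup.zpowers b := by
  have hp : p.Prime := Fact.out
  have key : ∀ a : G, a ∈ P → a ≠ 1 → ∃ z : G, orderOf z = p ∧ z ∈ Subgroup.zpowers a := by
    intro a ha ha1
    obtain ⟨k, hk⟩ := (hPp.to_le (Subgroup.zpowers_le.mpr ha)).exists_card_eq
    have hk0 : k ≠ 0 := by
      intro h0
      rw [h0, pow_zero, Nat.card_zpowers, orderOf_eq_one_iff] at hk
      exact ha1 hk
    have hdvd : p ∣ Nat.card (Subgroup.zpowers a) := by rw [hk]; exact dvd_pow_self p hk0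
    obtain ⟨z, hz⟩ := exists_prime_orderOf_dvd_card' p hdvd
    exact ⟨z, by rw [Subgroup.orderOf_coe]; exact hz, z.2⟩
  obtain ⟨za, hza, hzaa⟩ := key a ha ha1
  obtain ⟨zb, hzb, hzbb⟩ := key b hb hb1
  have hzaP : za ∈ P := (Subgroup.zpowers_le.mpr ha) hzaa
  have hzbP : zb ∈ P := (Subgroup.zpowers_le.mpr hb) hzbb
  have h1 : zb ∈ Subgroup.zpowers za :=
    Cfsg.Agent.Helper4.mem_zpowers_of_pow_eq_one_of_isCyclic' P hcyc za zb hzaP hzbP p hp.pos hza
      (by rw [← hzb]; exact pow_orderOf_eq_one zb)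
  exact ⟨zb, hzb, (Subgroup.zpowers_le.mpr hzaa) h1, hzbb⟩

/-- The key step: an element normalizing a cyclic `p`-group `P`, centralizing a nontrivial element of it, and
with a `p'`-power centralizing `P`, centralizes `P`. -/
theorem centralizes {G : Type*} [Group G] [Finite G] (p : ℕ) [Fact p.Prime] (P : Subgroup G)
    (hPp : IsPGroup p P) (hcyc : IsCyclic P) (c : G) (hcN : c ∈ Subgroup.normalizer (P : Set G))
    (e : ℕ) (hpe : ¬ p ∣ e) (hce : c ^ e ∈ Subgroup.centralizer (P : Set G))
    (x : G) (hxP : x ∈ P) (hx1 : x ≠ 1) (hcx : c * x = x * c) :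
    c ∈ Subgroup.centralizer (P : Set G) := by
  have hp : p.Prime := Fact.out
  have hcomm : ∀ a ∈ P, ∀ b ∈ P, a * b = b * a := by
    intro a ha b hb
    have hc : IsMulCommutative P := IsCyclic.isMulCommutative
    exact congrArg Subtype.val (hc.is_comm.comm ⟨a, ha⟩ ⟨b, hb⟩)
  have hconj : ∀ v ∈ P, c * v * c⁻¹ ∈ P := fun v hv => (Subgroup.mem_normalizer_iff.mp hcN v).mp hv
  -- key1
  have key1 : ∀ v ∈ P, (v⁻¹ * (c * v * c⁻¹)) * c = c * (v⁻¹ * (c * v * c⁻¹)) → v⁻¹ * (c * v * c⁻¹) = 1 := by
    intro v hv hu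
    set u := v⁻¹ * (c * v * c⁻¹) with hudef
    have huP : u ∈ P := Subgroup.mul_mem _ (Subgroup.inv_mem _ hv) (hconj v hv)
    have hcv : c * v * c⁻¹ = v * u := by rw [hudef, mul_inv_cancel_left]
    have hcu : c * u * c⁻¹ = u := by rw [← hu, mul_inv_cancel_right]
    have hpow : ∀ i : ℕ, c ^ i * v * (c ^ i)⁻¹ = v * u ^ i := by
      intro i
      induction i with
      | zero => simp
      | succ i ih =>
        calc c ^ (i + 1) * v * (c ^ (i + 1))⁻¹ = c * (c ^ i * v * (c ^ i)⁻¹) * c⁻¹ := by
              rw [pow_succ']; group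
          _ = c * (v * u ^ i) * c⁻¹ := by rw [ih]
          _ = (c * v * c⁻¹) * (c * u * c⁻¹) ^ i := by rw [conj_pow]; group
          _ = v * u * u ^ i := by rw [hcv, hcu]
          _ = v * u ^ (i + 1) := by rw [mul_assoc, ← pow_succ']
    have h1 := hpow e
    have h2 : c ^ e * v * (c ^ e)⁻¹ = v := by
      have := (Subgroup.mem_centralizer_iff.mp hce) v hv
      rw [← this, mul_inv_cancel_right]
    rw [h2] at h1
    have h3 : u ^ e = 1 := by
      have : v * 1 = v * u ^ e := by rw [mul_one]; exact h1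
      exact (mul_left_cancel this).symm
    obtain ⟨k, hk⟩ := hPp ⟨u, huP⟩
    have hk' : u ^ p ^ k = 1 := by
      have := congrArg Subtype.val hk
      simpa using this
    have hcop : Nat.Coprime e (p ^ k) :=
      Nat.Coprime.pow_right k ((Nat.Prime.coprime_iff_not_dvd hp).mpr hpe).symm
    have h4 : orderOf u = 1 :=
      Nat.eq_one_of_dvd_coprimes hcop (orderOf_dvd_of_pow_eq_one h3) (orderOf_dvd_of_pow_eq_one hk')
    exact orderOf_eq_one_iff.mp h4
  -- generator
  obtain ⟨y, hy⟩ := hcyc.exists_generator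
  have hyP : (y : G) ∈ P := y.2
  have hgen : ∀ w ∈ P, ∃ t : ℕ, w = (y : G) ^ t := by
    intro w hw
    have h1 := hy ⟨w, hw⟩
    rw [← mem_powers_iff_mem_zpowers] at h1
    obtain ⟨t, ht⟩ := Submonoid.mem_powers_iff _ _ |>.mp h1
    exact ⟨t, by rw [← Subgroup.coe_pow, ht]⟩
  set u := (y : G)⁻¹ * (c * y * c⁻¹) with hudef
  have huP : u ∈ P := Subgroup.mul_mem _ (Subgroup.inv_mem _ hyP) (hconj y hyP)
  have hu1 : u = 1 := by
    by_contra hu1
    obtain ⟨z, hz, hzu, hzx⟩ := exists_common_order_p p P hPp hcyc u x huP hxP hu1 hx1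
    have hzu' : z ∈ Submonoid.powers u := by
      rw [mem_powers_iff_mem_zpowers]; exact hzu
    obtain ⟨t, ht⟩ := (Submonoid.mem_powers_iff _ _).mp hzu'
    -- `z = (y^t)⁻¹ c y^t c⁻¹`
    have hcy : c * y * c⁻¹ = y * u := by rw [hudef, mul_inv_cancel_left]
    have hyu : (y : G) * u = u * y := hcomm _ hyP _ huP
    have hzt : ((y : G) ^ t)⁻¹ * (c * (y : G) ^ t * c⁻¹) = z := by
      have hyuc : Commute (y : G) u := hyu
      rw [← conj_pow, hcy, hyuc.mul_pow, inv_mul_cancel_left, ht]
    -- `z` commutes with `c`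
    have hzc : z * c = c * z := by
      obtain ⟨k, rfl⟩ := Subgroup.mem_zpowers_iff.mp hzx
      have : Commute c x := hcx
      exact ((this.zpow_right k).eq).symm
    have := key1 ((y : G) ^ t) (Subgroup.pow_mem _ hyP t) (by rw [hzt]; exact hzc)
    rw [hzt] at this
    rw [this, orderOf_one] at hz
    exact hp.one_lt.ne hz
  have hcy : c * y = y * c := by
    have : c * y * c⁻¹ = y := by
      have h := hudef
      rw [hu1] at h
      have : (y : G) * 1 = y * ((y : G)⁻¹ * (c * y * c⁻¹)) := by rw [← h]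
      rw [mul_one, mul_inv_cancel_left] at this
      exact this.symm
    calc c * y = (c * y * c⁻¹) * c := by group
      _ = y * c := by rw [this]
  rw [Subgroup.mem_centralizer_iff]
  intro w hw
  obtain ⟨t, rfl⟩ := hgen w hw
  have : Commute c (y : G) := hcy
  exact ((this.pow_right t).eq).symm

/-- Let P be a cyclic Sylow p-subgroup of the finite group G. Then P meets each conjugate g P g⁻¹ with g outside N_G(P) trivially if and only if P is weakly self-centralizing: C_G(x) = C_G(P) for every non-identity x ∈ P. -/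
theorem result {G : Type*} [Group G] [Finite G] (p : ℕ) [Fact p.Prime] (P : Sylow p G) (hcyc : IsCyclic ↥(P : Subgroup G)) : (∀ g : G, g ∉ Subgroup.normalizer ((P : Subgroup G) : Set G) → (P : Subgroup G) ⊓ (MulAut.conj g • (P : Subgroup G)) = ⊥) ↔ ∀ x : G, x ∈ (P : Subgroup G) → x ≠ 1 → Subgroup.centralizer ({x} : Set G) = Subgroup.centralizer ((P : Subgroup G) : Set G) := by
  have hcomm : ∀ a ∈ (P : Subgroup G), ∀ b ∈ (P : Subgroup G), a * b = b * a := by
    intro a ha b hb
    have hc : IsMulCommutative (P : Subgroup G) := IsCyclic.isMulCommutative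
    exact congrArg Subtype.val (hc.is_comm.comm ⟨a, ha⟩ ⟨b, hb⟩)
  constructor
  · intro hTI x hxP hx1
    apply le_antisymm
    · intro c hc
      rw [Subgroup.mem_centralizer_singleton_iff] at hc
      -- `c ∈ N(P)`
      have hcN : c ∈ Subgroup.normalizer ((P : Subgroup G) : Set G) := by
        by_contra hcN
        have h1 := hTI c hcN
        have h2 : x ∈ (P : Subgroup G) ⊓ (MulAut.conj c • (P : Subgroup G)) := by
          refine ⟨hxP, ?_⟩
          change x ∈ MulAut.conj c • (P : Subgroup G)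
          rw [Subgroup.mem_pointwise_smul_iff_inv_smul_mem, MulAut.smul_def, MulAut.conj_inv_apply]
          have : c⁻¹ * x * c = x := by rw [mul_assoc, ← hc, inv_mul_cancel_left]
          rw [this]; exact hxP
        rw [h1, Subgroup.mem_bot] at h2
        exact hx1 h2
      set e := (Subgroup.centralizer ((P : Subgroup G) : Set G)).relIndex
        (Subgroup.normalizer ((P : Subgroup G) : Set G)) with he
      have hPC : (P : Subgroup G) ≤ Subgroup.centralizer ((P : Subgroup G) : Set G) := by
        intro a ha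
        rw [Subgroup.mem_centralizer_iff]
        intro b hb
        exact hcomm b hb a ha
      have hpe : ¬ p ∣ e := by
        intro h
        have h1 : e ∣ (P : Subgroup G).relIndex (Subgroup.normalizer ((P : Subgroup G) : Set G)) :=
          Subgroup.relIndex_dvd_of_le_left _ hPC
        have h2 : (P : Subgroup G).relIndex (Subgroup.normalizer ((P : Subgroup G) : Set G)) ∣
            (P : Subgroup G).index := Subgroup.relIndex_dvd_index_of_le Subgroup.le_normalizer
        exact P.not_dvd_index (h.trans (h1.trans h2))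
      have hce : c ^ e ∈ Subgroup.centralizer ((P : Subgroup G) : Set G) := by
        have := Subgroup.pow_index_mem ((Subgroup.centralizer ((P : Subgroup G) : Set G)).subgroupOf
          (Subgroup.normalizer ((P : Subgroup G) : Set G))) ⟨c, hcN⟩
        rw [Subgroup.mem_subgroupOf] at this
        rw [he, Subgroup.relIndex]
        simpa using this
      exact centralizes p (P : Subgroup G) P.2 hcyc c hcN e hpe hce x hxP hx1 hc
    · intro c hc
      rw [Subgroup.mem_centralizer_singleton_iff]
      exact ((Subgroup.mem_centralizer_iff.mp hc) x hxP).symm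
  · intro hW g hg
    by_contra hne
    obtain ⟨x, hx1⟩ := (Subgroup.ne_bot_iff_exists_ne_one.mp hne)
    have hxP : (x : G) ∈ (P : Subgroup G) := x.2.1
    have hxg : (x : G) ∈ MulAut.conj g • (P : Subgroup G) := x.2.2
    have hx1' : (x : G) ≠ 1 := fun h => hx1 (Subtype.ext h)
    have hCx := hW x hxP hx1'
    -- `g • P ≤ C(P)`
    have hle : MulAut.conj g • (P : Subgroup G) ≤ Subgroup.centralizer ((P : Subgroup G) : Set G) := by
      intro w hw
      rw [← hCx, Subgroup.mem_centralizer_singleton_iff]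
      rw [Subgroup.mem_pointwise_smul_iff_inv_smul_mem, MulAut.smul_def, MulAut.conj_inv_apply] at hw hxg
      have := hcomm _ hw _ hxg
      calc w * x = g * ((g⁻¹ * w * g) * (g⁻¹ * x * g)) * g⁻¹ := by group
        _ = g * ((g⁻¹ * x * g) * (g⁻¹ * w * g)) * g⁻¹ := by rw [this]
        _ = x * w := by group
    have hgp : IsPGroup p (MulAut.conj g • (P : Subgroup G) : Subgroup G) := by
      have := (g • P : Sylow p G).2
      rwa [Sylow.coe_subgroup_smul] at this
    have hsup : IsPGroup p ((MulAut.conj g • (P : Subgroup G)) ⊔ (P : Subgroup G) : Subgroup G) :=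
      IsPGroup.to_sup_of_normal_right' hgp P.2 (hle.trans (Subgroup.centralizer_le_normalizer _))
    have heq := P.is_maximal' hsup le_sup_right
    have hle2 : MulAut.conj g • (P : Subgroup G) ≤ (P : Subgroup G) := le_sup_left.trans (le_of_eq heq)
    have hcard : Nat.card (MulAut.conj g • (P : Subgroup G) : Subgroup G) = Nat.card (P : Subgroup G) :=
      Cfsg.Agent.Helper1.card_conj_smul g _
    have heq2 : MulAut.conj g • (P : Subgroup G) = (P : Subgroup G) :=
      Subgroup.eq_of_le_of_card_ge hle2 hcard.ge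
    exact hg (Cfsg.Agent.Helper1.mem_normalizer_of_conj_smul_eq heq2)

end Cfsg.Agent.S3985
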