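import Mathlib
import Cfsg.Statements.S3986

set_option autoImplicit false
open Cfsg

namespace Cfsg.Agent.S3986

variable {G : Type*} [Group G] [Finite G]

/-- an element of `p`-power order lies in a normal Sylow `p`-subgroup. -/
lemma mem_of_normal_sylow {p : ℕ} [Fact p.Prime] (P : Sylow p G) (hP : (P : Subgroup G).Normal)
    (x : G) (a : ℕ) (hx : orderOf x = p ^ a) : x ∈ (P : Subgroup G) := by
  haveI : Subsingleton (Sylow p G) := (Sylow.unique_of_normal P hP).instSubsingleton
  have hz : IsPGroup p (Subgroup.zpowers x) := IsPGroup.of_card (n := a) (by rw [Nat.card_zpowers, hx])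
  obtain ⟨Q, hQ⟩ := hz.exists_le_sylow
  have : Q = P := Subsingleton.elim _ _
  rw [← this]
  exact hQ (Subgroup.mem_zpowers x)

/-- the hypothesis puts every Sylow `q`-subgroup, `q ≠ p`, in the centralizer of `P`. -/
lemma sylow_le_centralizer {p : ℕ} [Fact p.Prime]
    (h : ∀ x y : G, (∃ a : ℕ, orderOf x = p ^ a) → (∃ q b : ℕ, q.Prime ∧ q ≠ p ∧ orderOf y = q ^ b) → x * y = y * x)
    (P : Sylow p G) (q : ℕ) [Fact q.Prime] (hq : q ≠ p) (Q : Sylow q G) :
    (Q : Subgroup G) ≤ Subgroup.centralizer ((P : Subgroup G) : Set G) := by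
  intro y hy
  rw [Subgroup.mem_centralizer_iff]
  intro x hx
  obtain ⟨a, ha⟩ := (IsPGroup.iff_orderOf.1 P.isPGroup') ⟨x, hx⟩
  obtain ⟨b, hb⟩ := (IsPGroup.iff_orderOf.1 Q.isPGroup') ⟨y, hy⟩
  rw [Subgroup.orderOf_mk] at ha hb
  exact h x y ⟨a, ha⟩ ⟨q, b, Fact.out, hq, hb⟩

/-- a subgroup containing a Sylow `r`-subgroup for every prime `r ≠ p` has index a `p`-number. -/
lemma prime_dvd_index_eq {p : ℕ} [Fact p.Prime] (C : Subgroup G)
    (hC : ∀ (q : ℕ) [Fact q.Prime], q ≠ p → ∀ Q : Sylow q G, (Q : Subgroup G) ≤ C)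
    (r : ℕ) (hr : r.Prime) (hrd : r ∣ C.index) : r = p := by
  by_contra hne
  haveI : Fact r.Prime := ⟨hr⟩
  obtain ⟨Q⟩ : Nonempty (Sylow r G) := inferInstance
  exact Q.not_dvd_index (hrd.trans (Subgroup.index_dvd_of_le (hC r hne Q)))

/-- Let p be a prime and G a finite group. Then some Sylow p-subgroup of G is a direct factor of G (it is normal and has a normal complement) if and only if every element of p-power order commutes with every element whose order is a power of a prime other than p. -/
theorem result {G : Type*} [Group G] [Finite G] (p : ℕ) [Fact p.Prime] : (∃ (P : Sylow p G) (K : Subgroup G), (P : Subgroup G).Normal ∧ K.Normal ∧ (P : Subgroup G) ⊓ K = ⊥ ∧ (P : Subgroup G) ⊔ K = ⊤) ↔ ∀ x y : G, (∃ a : ℕ, orderOf x = p ^ a) → (∃ q b : ℕ, q.Prime ∧ q ≠ p ∧ orderOf y = q ^ b) → x * y = y * x := by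
  constructor
  · rintro ⟨P, K, hPn, hKn, hinf, hsup⟩ x y ⟨a, ha⟩ ⟨q, b, hq, hqp, hb⟩
    have hdisj : Disjoint (P : Subgroup G) K := disjoint_iff.2 hinf
    have hxP : x ∈ (P : Subgroup G) := mem_of_normal_sylow P hPn x a ha
    -- write y = u * v with u ∈ P, v ∈ K
    have hy : y ∈ (P : Subgroup G) ⊔ K := hsup ▸ Subgroup.mem_top y
    haveI := hPn
    rw [← SetLike.mem_coe, Subgroup.normal_mul, Set.mem_mul] at hy
    obtain ⟨u, hu, v, hv, rfl⟩ := hy
    have huv : Commute u v := Subgroup.commute_of_normal_of_disjoint _ _ hPn hKn hdisj u v hu hv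
    have hpow : (u * v) ^ q ^ b = 1 := by rw [← hb]; exact pow_orderOf_eq_one _
    rw [huv.mul_pow] at hpow
    have hu1 : u ^ q ^ b = 1 := by
      have h1 : u ^ q ^ b ∈ (P : Subgroup G) := Subgroup.pow_mem _ hu _
      have h2 : u ^ q ^ b ∈ K := by
        have : u ^ q ^ b = (v ^ q ^ b)⁻¹ := eq_inv_of_mul_eq_one_left hpow
        rw [this]
        exact K.inv_mem (K.pow_mem hv _)
      exact Subgroup.disjoint_def.1 hdisj h1 h2
    have hu' : u = 1 := by
      obtain ⟨j, hj⟩ := (IsPGroup.iff_orderOf.1 P.isPGroup') ⟨u, hu⟩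
      rw [Subgroup.orderOf_mk] at hj
      have hd : p ^ j ∣ q ^ b := by rw [← hj]; exact orderOf_dvd_of_pow_eq_one hu1
      have hcop : Nat.Coprime (p ^ j) (q ^ b) :=
        Nat.Coprime.pow _ _ ((Nat.coprime_primes Fact.out hq).2 (Ne.symm hqp))
      have : p ^ j = 1 := Nat.Coprime.eq_one_of_dvd hcop hd
      rw [this] at hj
      exact orderOf_eq_one_iff.1 hj
    rw [hu', one_mul]
    exact (Subgroup.commute_of_normal_of_disjoint _ _ hPn hKn hdisj x v hxP hv).eq
  · intro h
    obtain ⟨P⟩ : Nonempty (Sylow p G) := inferInstance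
    set C := Subgroup.centralizer ((P : Subgroup G) : Set G) with hC
    have hQC : ∀ (q : ℕ) [Fact q.Prime], q ≠ p → ∀ Q : Sylow q G, (Q : Subgroup G) ≤ C :=
      fun q _ hq Q => sylow_le_centralizer h P q hq Q
    -- P is normal
    have hPn : (P : Subgroup G).Normal := by
      rw [← Subgroup.normalizer_eq_top_iff, ← Subgroup.index_eq_one,
        Nat.eq_one_iff_not_exists_prime_dvd]
      intro r hr hrd
      have hCN : C ≤ Subgroup.normalizer ((P : Subgroup G) : Set G) :=
        Subgroup.centralizer_le_normalizer _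
      have hrp : r = p := by
        apply prime_dvd_index_eq (Subgroup.normalizer ((P : Subgroup G) : Set G))
          (fun q _ hq Q => (hQC q hq Q).trans hCN) r hr hrd
      subst hrp
      exact P.not_dvd_index (hrd.trans (Subgroup.index_dvd_of_le Subgroup.le_normalizer))
    haveI := hPn
    obtain ⟨H, hH⟩ := Subgroup.exists_right_complement'_of_coprime P.card_coprime_index
    have hcardH : Nat.card H = (P : Subgroup G).index := (hH.symm.index_eq_card).symm
    -- H ≤ C
    have hHC : H ≤ C := by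
      rw [← Subgroup.relIndex_eq_one, Nat.eq_one_iff_not_exists_prime_dvd]
      intro r hr hrd
      have h1 : r ∣ C.index := hrd.trans (Subgroup.relIndex_dvd_index_of_normal C H)
      have h2 : r ∣ Nat.card H := hrd.trans (Subgroup.relIndex_dvd_card C H)
      have hrp : r = p := prime_dvd_index_eq C hQC r hr h1
      subst hrp
      rw [hcardH] at h2
      exact P.not_dvd_index h2
    -- H is normal
    have hHn : H.Normal := by
      rw [← Subgroup.normalizer_eq_top_iff, eq_top_iff, ← hH.sup_eq_top, sup_le_iff]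
      refine ⟨?_, Subgroup.le_normalizer⟩
      intro x hx
      rw [Subgroup.mem_normalizer_iff]
      intro y
      have hxz : ∀ z ∈ H, x * z = z * x := by
        intro z hz
        have := hHC hz
        rw [hC, Subgroup.mem_centralizer_iff] at this
        exact this x hx
      constructor
      · intro hy
        have : x * y * x⁻¹ = y := by rw [hxz y hy]; group
        rw [this]; exact hy
      · intro hy
        have h3 := hxz _ hy
        have : y = x * y * x⁻¹ := by
          calc y = x⁻¹ * ((x * y * x⁻¹) * x) := by group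
            _ = x⁻¹ * (x * (x * y * x⁻¹)) := by rw [h3]
            _ = x * y * x⁻¹ := by group
        rw [this]; exact hy
    exact ⟨P, H, hPn, hHn, hH.disjoint.eq_bot, hH.sup_eq_top⟩

end Cfsg.Agent.S3986
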