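import Mathlib
import Cfsg.Statements.S3987
import Cfsg.Prelude.Def_Transfer
import Cfsg.Agent.Helper5.NormalPComplement
import Cfsg.Agent.Helper5.PResidual
import Cfsg.Agent.Helper4.FittingChar
-- import your own Cfsg.Agent.* helpers here

set_option autoImplicit false
open Cfsg

namespace Cfsg.Agent.S3987
universe u
open Cfsg.Agent.Helper5 Cfsg.Agent.Helper4

/-- The hypothesis forces `x` and `y` to commute. -/
theorem comm_of_index {G : Type u} [Group G] [Finite G] (x y : G)
    (h : (Subgroup.centralizer ({x * y} : Set G)).index =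
      (Subgroup.centralizer ({x} : Set G)).index * (Subgroup.centralizer ({y} : Set G)).index) :
    x * y = y * x := by
  set A := Subgroup.centralizer ({x} : Set G) with hA
  set B := Subgroup.centralizer ({y} : Set G) with hB
  set D := Subgroup.centralizer ({x * y} : Set G) with hD
  have hle : A ⊓ B ≤ D := by
    intro g hg
    obtain ⟨hgA, hgB⟩ := Subgroup.mem_inf.mp hg
    rw [hA, Subgroup.mem_centralizer_singleton_iff] at hgA
    rw [hB, Subgroup.mem_centralizer_singleton_iff] at hgB
    rw [hD, Subgroup.mem_centralizer_singleton_iff]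
    rw [← mul_assoc, hgA, mul_assoc, hgB, mul_assoc]
  have h1 : (A ⊓ B).index ≤ D.index := by rw [h]; exact Subgroup.index_inf_le
  have h2 := Subgroup.relIndex_mul_index hle
  have hDpos : 0 < D.index := Nat.pos_of_ne_zero Subgroup.index_ne_zero_of_finite
  have h3 : (A ⊓ B).relIndex D = 1 := by
    have h4 : (A ⊓ B).relIndex D * D.index ≤ 1 * D.index := by rw [h2, one_mul]; exact h1
    have h5 := Nat.le_of_mul_le_mul_right h4 hDpos
    have h6 : (A ⊓ B).relIndex D ≠ 0 := by
      intro h0; rw [h0, zero_mul] at h2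
      exact Subgroup.index_ne_zero_of_finite h2.symm
    omega
  rw [Subgroup.relIndex_eq_one] at h3
  have hxyD : x * y ∈ D := by
    rw [hD, Subgroup.mem_centralizer_singleton_iff]
  have hxyA : x * y ∈ A := (h3 hxyD).1
  rw [hA, Subgroup.mem_centralizer_singleton_iff] at hxyA
  -- (x*y)*x = x*(x*y)
  have : x * (y * x) = x * (x * y) := by rw [← mul_assoc, hxyA]
  exact (mul_left_cancel this).symm

theorem backward {G : Type u} [Group G] [Finite G] (p : ℕ) [hp : Fact p.Prime]
    (h : ∀ x y : G, (∃ a : ℕ, orderOf x = p ^ a) → (∃ q b : ℕ, q.Prime ∧ q ≠ p ∧ orderOf y = q ^ b) →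
      (Subgroup.centralizer ({x * y} : Set G)).index =
        (Subgroup.centralizer ({x} : Set G)).index * (Subgroup.centralizer ({y} : Set G)).index) :
    ∃ (P : Sylow p G) (K : Subgroup G), (P : Subgroup G).Normal ∧ K.Normal ∧
      (P : Subgroup G) ⊓ K = ⊥ ∧ (P : Subgroup G) ⊔ K = ⊤ := by
  -- step 2: p-elements commute with p'-elements
  have hcomm : ∀ x y : G, (∃ a : ℕ, orderOf x = p ^ a) → (orderOf y).Coprime p → x * y = y * x := by
    intro x y hx hy
    have hmem : y ∈ Subgroup.centralizer ({x} : Set G) := by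
      apply mem_of_forall_prime_exists_pow_mem _ y (orderOf_pos y)
      intro r hr
      by_cases hrp : r = p
      · subst hrp
        refine ⟨orderOf y, ?_, ?_⟩
        · intro hd
          exact hr.ne_one (Nat.Coprime.eq_one_of_dvd hy.symm hd)
        · rw [pow_orderOf_eq_one]; exact Subgroup.one_mem _
      · obtain ⟨e, m, hrm, hn⟩ :=
          Nat.exists_eq_pow_mul_and_not_dvd (orderOf_pos y).ne' r hr.ne_one
        refine ⟨m, hrm, ?_⟩
        have hm0 : m ≠ 0 := by rintro rfl; exact hrm (dvd_zero r)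
        have hdvd : m ∣ orderOf y := ⟨r ^ e, by rw [hn, mul_comm]⟩
        have ho : orderOf (y ^ m) = r ^ e := by
          rw [orderOf_pow_of_dvd hm0 hdvd, hn, Nat.mul_div_cancel _ (Nat.pos_of_ne_zero hm0)]
        have := comm_of_index x (y ^ m) (h x (y ^ m) hx ⟨r, e, hr, hrp, ho⟩)
        rw [Subgroup.mem_centralizer_singleton_iff]
        exact this.symm
    rw [Subgroup.mem_centralizer_singleton_iff] at hmem
    exact hmem.symm
  let P : Sylow p G := default
  set R := Cfsg.pResidual p G with hR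
  have hPel : ∀ x ∈ (P : Subgroup G), ∃ a : ℕ, orderOf x = p ^ a := by
    intro x hx
    obtain ⟨a, ha⟩ := (IsPGroup.iff_orderOf.mp P.isPGroup') ⟨x, hx⟩
    exact ⟨a, by rw [← ha, Subgroup.orderOf_mk]⟩
  have hcent : ∀ Q : Subgroup G, IsPGroup p Q → Q ≤ Subgroup.centralizer (R : Set G) := by
    intro Q hQ x hx
    have hxel : ∃ a : ℕ, orderOf x = p ^ a := by
      obtain ⟨a, ha⟩ := (IsPGroup.iff_orderOf.mp hQ) ⟨x, hx⟩
      exact ⟨a, by rw [← ha, Subgroup.orderOf_mk]⟩
    rw [hR]
    unfold Cfsg.pResidual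
    rw [Subgroup.centralizer_closure, Subgroup.mem_centralizer_iff]
    intro g hg
    exact (hcomm x g hxel hg).symm
  have hcop : (Nat.card R).Coprime p :=
    coprime_card_pResidual_of_central (fun Q hQ _ => hcent Q hQ)
  have hdisj : (P : Subgroup G) ⊓ R = ⊥ := by
    apply (Subgroup.disjoint_of_coprime_natCard _).eq_bot
    obtain ⟨n, hn⟩ := IsPGroup.iff_card.mp P.isPGroup'
    rw [hn]
    exact (Nat.Coprime.pow_right n hcop).symm
  have hsup : (P : Subgroup G) ⊔ R = ⊤ := by
    rw [sup_comm]; exact pResidual_sup_sylow P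
  refine ⟨P, R, ?_, inferInstance, hdisj, hsup⟩
  rw [← Subgroup.normalizer_eq_top_iff, eq_top_iff, ← hsup]
  apply sup_le Subgroup.le_normalizer
  intro r hr
  rw [Subgroup.mem_normalizer_iff]
  intro x
  have hc : ∀ z ∈ (P : Subgroup G), ∀ r' ∈ R, r' * z = z * r' := by
    intro z hz r' hr'
    exact Subgroup.mem_centralizer_iff.mp (hcent P P.isPGroup' hz) r' hr'
  constructor
  · intro hx
    rw [hc x hx r hr, mul_assoc, mul_inv_cancel, mul_one]; exact hx
  · intro hx
    have h1 := hc _ hx r⁻¹ (R.inv_mem hr)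
    have h2 : x = r⁻¹ * (r * x * r⁻¹) * r := by group
    rw [h2, h1, mul_assoc, inv_mul_cancel, mul_one]; exact hx

theorem forward {G : Type u} [Group G] [Finite G] (p : ℕ) [hp : Fact p.Prime]
    (P : Sylow p G) (K : Subgroup G) (hPn : (P : Subgroup G).Normal) (hKn : K.Normal)
    (hdisj : (P : Subgroup G) ⊓ K = ⊥) (hsup : (P : Subgroup G) ⊔ K = ⊤)
    (x y : G) (a : ℕ) (hx : orderOf x = p ^ a) (q b : ℕ) (hq : q.Prime) (hqp : q ≠ p)
    (hy : orderOf y = q ^ b) :
    (Subgroup.centralizer ({x * y} : Set G)).index =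
      (Subgroup.centralizer ({x} : Set G)).index * (Subgroup.centralizer ({y} : Set G)).index := by
  have hdis : Disjoint (P : Subgroup G) K := disjoint_iff.mpr hdisj
  have hcopqp : Nat.Coprime (q ^ b) (p ^ a) :=
    Nat.Coprime.pow _ _ ((Nat.coprime_primes hq hp.out).mpr hqp)
  -- x ∈ P
  have hxP : x ∈ (P : Subgroup G) := by
    have hz : IsPGroup p (Subgroup.zpowers x) := IsPGroup.of_card (n := a) (by rw [Nat.card_zpowers, hx])
    obtain ⟨Q, hQ⟩ := hz.exists_le_sylow
    have := Sylow.unique_of_normal P hPn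
    have hQP : Q = P := Subsingleton.elim Q P
    rw [← hQP]
    exact hQ (Subgroup.mem_zpowers x)
  -- y ∈ K
  have hyK : y ∈ K := by
    have hytop : y ∈ (P : Subgroup G) ⊔ K := by rw [hsup]; exact Subgroup.mem_top y
    obtain ⟨u, hu, k, hk, huk⟩ := Subgroup.mem_sup_of_normal_right.mp hytop
    have hc : Commute u k := Subgroup.commute_of_normal_of_disjoint _ _ hPn hKn hdis u k hu hk
    have h1 : u ^ (q ^ b) * k ^ (q ^ b) = 1 := by
      rw [← hc.mul_pow, huk, ← hy, pow_orderOf_eq_one]
    have h2 : u ^ (q ^ b) ∈ (P : Subgroup G) ⊓ K := by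
      refine Subgroup.mem_inf.mpr ⟨Subgroup.pow_mem _ hu _, ?_⟩
      have : u ^ (q ^ b) = (k ^ (q ^ b))⁻¹ := eq_inv_of_mul_eq_one_left h1
      rw [this]
      exact K.inv_mem (K.pow_mem hk _)
    rw [hdisj, Subgroup.mem_bot] at h2
    obtain ⟨n, hn⟩ := (IsPGroup.iff_orderOf.mp P.isPGroup') ⟨u, hu⟩
    rw [Subgroup.orderOf_mk] at hn
    have h3 : orderOf u ∣ Nat.gcd (q ^ b) (p ^ n) :=
      Nat.dvd_gcd (orderOf_dvd_of_pow_eq_one h2) (dvd_of_eq hn)
    have h4 : Nat.gcd (q ^ b) (p ^ n) = 1 :=
      Nat.Coprime.pow _ _ ((Nat.coprime_primes hq hp.out).mpr hqp)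
    rw [h4, Nat.dvd_one, orderOf_eq_one_iff] at h3
    rw [← huk, h3, one_mul]; exact hk
  have hxy : Commute x y := Subgroup.commute_of_normal_of_disjoint _ _ hPn hKn hdis x y hxP hyK
  set A := Subgroup.centralizer ({x} : Set G) with hA
  set B := Subgroup.centralizer ({y} : Set G) with hB
  have hD : Subgroup.centralizer ({x * y} : Set G) = A ⊓ B := by
    apply le_antisymm
    · intro g hg
      rw [Subgroup.mem_centralizer_singleton_iff] at hg
      have hgc : Commute g (x * y) := hg
      have h1 : (x * y) ^ (q ^ b) = x ^ (q ^ b) := by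
        rw [hxy.mul_pow, ← hy, pow_orderOf_eq_one, mul_one]
      have h2 : Commute g (x ^ (q ^ b)) := by rw [← h1]; exact hgc.pow_right _
      obtain ⟨m, hm⟩ := exists_pow_eq_self_of_coprime (x := x) (n := q ^ b) (by rw [hx]; exact hcopqp)
      have h3 : Commute g x := by rw [← hm]; exact h2.pow_right m
      have h4 : Commute g y := by
        have : y = x⁻¹ * (x * y) := by group
        rw [this]
        exact (h3.inv_right).mul_right hgc
      exact Subgroup.mem_inf.mpr ⟨Subgroup.mem_centralizer_singleton_iff.mpr h3.eq,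
        Subgroup.mem_centralizer_singleton_iff.mpr h4.eq⟩
    · intro g hg
      obtain ⟨hgA, hgB⟩ := Subgroup.mem_inf.mp hg
      rw [hA, Subgroup.mem_centralizer_singleton_iff] at hgA
      rw [hB, Subgroup.mem_centralizer_singleton_iff] at hgB
      rw [Subgroup.mem_centralizer_singleton_iff]
      rw [← mul_assoc, hgA, mul_assoc, hgB, mul_assoc]
  rw [hD]
  -- indices
  have hKA : K ≤ A := by
    intro k hk
    rw [hA, Subgroup.mem_centralizer_singleton_iff]
    exact ((Subgroup.commute_of_normal_of_disjoint _ _ hPn hKn hdis x k hxP hk).eq).symm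
  have hPB : (P : Subgroup G) ≤ B := by
    intro u hu
    rw [hB, Subgroup.mem_centralizer_singleton_iff]
    exact (Subgroup.commute_of_normal_of_disjoint _ _ hPn hKn hdis u y hu hyK).eq
  have hcompl : (P : Subgroup G).IsComplement' K := by
    apply Subgroup.isComplement'_of_disjoint_and_mul_eq_univ hdis
    have h2 : (((P : Subgroup G) ⊔ K : Subgroup G) : Set G) = Set.univ := by
      rw [hsup]; rfl
    rw [Subgroup.normal_mul] at h2
    exact h2
  have hKidx : K.index = Nat.card (P : Subgroup G) := hcompl.index_eq_card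
  obtain ⟨n, hn⟩ := IsPGroup.iff_card.mp P.isPGroup'
  have hAdvd : A.index ∣ p ^ n := by
    rw [← hn, ← hKidx]; exact Subgroup.index_dvd_of_le hKA
  have hBdvd : B.index ∣ (P : Subgroup G).index := Subgroup.index_dvd_of_le hPB
  have hcop : Nat.Coprime A.index B.index := by
    apply Nat.Coprime.coprime_dvd_left hAdvd
    apply Nat.Coprime.coprime_dvd_right hBdvd
    apply Nat.Coprime.pow_left
    exact (Nat.Prime.coprime_iff_not_dvd hp.out).mpr P.not_dvd_index
  have h1 : A.index * B.index ∣ (A ⊓ B).index :=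
    Nat.Coprime.mul_dvd_of_dvd_of_dvd hcop (Subgroup.index_dvd_of_le inf_le_left)
      (Subgroup.index_dvd_of_le inf_le_right)
  have h2 : (A ⊓ B).index ≤ A.index * B.index := Subgroup.index_inf_le
  have hpos : 0 < (A ⊓ B).index := Nat.pos_of_ne_zero Subgroup.index_ne_zero_of_finite
  exact le_antisymm h2 (Nat.le_of_dvd hpos h1)

/-- Let p be a prime and G a finite group. Then some Sylow p-subgroup of G is a direct factor of G (normal with a normal complement) if and only if for every element x of p-power order and every element y whose order is a power of a prime other than p, the conjugacy class of x y has as many elements as the product of the sizes of the classes of x and of y. -/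
theorem result {G : Type*} [Group G] [Finite G] (p : ℕ) [Fact p.Prime] : (∃ (P : Sylow p G) (K : Subgroup G), (P : Subgroup G).Normal ∧ K.Normal ∧ (P : Subgroup G) ⊓ K = ⊥ ∧ (P : Subgroup G) ⊔ K = ⊤) ↔ ∀ x y : G, (∃ a : ℕ, orderOf x = p ^ a) → (∃ q b : ℕ, q.Prime ∧ q ≠ p ∧ orderOf y = q ^ b) → (Subgroup.centralizer ({x * y} : Set G)).index = (Subgroup.centralizer ({x} : Set G)).index * (Subgroup.centralizer ({y} : Set G)).index := by
  constructor
  · rintro ⟨P, K, hPn, hKn, hdisj, hsup⟩ x y ⟨a, hx⟩ ⟨q, b, hq, hqp, hy⟩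
    exact forward p P K hPn hKn hdisj hsup x y a hx q b hq hqp hy
  · intro h
    exact backward p h


end Cfsg.Agent.S3987
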