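import Mathlib
import Cfsg.Statements.S3992
import Cfsg.Agent.Helper1.EPPO
import Cfsg.Agent.Helper1.P2Q2
import Cfsg.Agent.Helper4.MinNormalPower
import Cfsg.Agent.Helper6.BurnsidePQ
-- import your own Cfsg.Agent.* helpers here

set_option autoImplicit false
open Cfsg

namespace Cfsg.Agent.S3992
open Cfsg
universe u

variable {G : Type u} [Group G] [Finite G]

theorem eppo_subgroup (hpp : ∀ g : G, g ≠ 1 → IsPrimePow (orderOf g)) (H : Subgroup G) :
    ∀ g : H, IsPrimePow (orderOf g) ∨ g = 1 := by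
  intro g
  by_cases h : g = 1
  · right; exact h
  · left
    rw [← Subgroup.orderOf_coe]
    exact hpp g (fun h' => h (Subtype.ext h'))

theorem card_primeFactors_le_two (hpp : ∀ g : G, g ≠ 1 → IsPrimePow (orderOf g))
    (H : Subgroup G) (hH : Group.IsSolvable H) : (Nat.card H).primeFactors.card ≤ 2 :=
  Cfsg.Agent.Helper1.eppo_solvable_aux _ H rfl (eppo_subgroup hpp H)

theorem eppo_quotient (hpp : ∀ g : G, g ≠ 1 → IsPrimePow (orderOf g)) (R : Subgroup G)
    [R.Normal] : ∀ g : G ⧸ R, g ≠ 1 → IsPrimePow (orderOf g) := by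
  intro g hg
  obtain ⟨x, rfl⟩ := QuotientGroup.mk_surjective g
  have hx1 : x ≠ 1 := by
    rintro rfl
    exact hg rfl
  have h1 := hpp x hx1
  have hdvd : orderOf (x : G ⧸ R) ∣ orderOf x := by
    apply orderOf_dvd_of_pow_eq_one
    rw [← QuotientGroup.mk_pow, pow_orderOf_eq_one]
    rfl
  rw [isPrimePow_nat_iff] at h1 ⊢
  obtain ⟨p, k, hp, hk, hpk⟩ := h1
  rw [← hpk] at hdvd
  obtain ⟨j, hj, hjeq⟩ := (Nat.dvd_prime_pow hp).mp hdvd
  refine ⟨p, j, hp, ?_, hjeq.symm⟩
  rcases Nat.eq_zero_or_pos j with h0 | h0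
  · rw [h0, pow_zero, orderOf_eq_one_iff] at hjeq
    exact absurd hjeq hg
  · exact h0

/-- no element of order `p * q` for distinct primes -/
theorem no_mul_primes {X : Type*} [Group X] (hpp : ∀ g : X, g ≠ 1 → IsPrimePow (orderOf g))
    {p q : ℕ} (hp : p.Prime) (hq : q.Prime) (hpq : p ≠ q) (a b : X) (ha : orderOf a = p)
    (hb : orderOf b = q) (hab : Commute a b) : False := by
  have h1 : orderOf (a * b) = p * q := by
    rw [hab.orderOf_mul_eq_mul_orderOf_of_coprime, ha, hb]
    rw [ha, hb]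
    exact (Nat.coprime_primes hp hq).mpr hpq
  have h2 : a * b ≠ 1 := by
    intro h
    rw [h, orderOf_one] at h1
    have := hp.one_lt
    have := hq.one_lt
    nlinarith
  have h3 := hpp (a * b) h2
  rw [h1] at h3
  exact Cfsg.Agent.Helper1.not_isPrimePow_mul_primes hp hq hpq h3

theorem isSolvable_sup_zpowers (R : Subgroup G) [R.Normal] (hR : Group.IsSolvable R) (x : G) :
    Group.IsSolvable ↥(R ⊔ Subgroup.zpowers x) := by
  set H := R ⊔ Subgroup.zpowers x with hH
  have hmap : H.map (QuotientGroup.mk' R) = Subgroup.zpowers (QuotientGroup.mk' R x) := by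
    rw [hH, Subgroup.map_sup, (Subgroup.map_eq_bot_iff R).mpr (by rw [QuotientGroup.ker_mk']),
      bot_sup_eq, MonoidHom.map_zpowers]
  let g : H →* Subgroup.zpowers (QuotientGroup.mk' R x) :=
    ((QuotientGroup.mk' R).comp H.subtype).codRestrict _ (by
      intro a
      rw [← hmap]
      exact Subgroup.mem_map_of_mem _ a.2)
  refine Group.isSolvable_of_ker_le_range (Subgroup.inclusion (le_sup_left : R ≤ H)) g ?_
  intro a ha
  rw [MonoidHom.mem_ker] at ha
  have h1 : (QuotientGroup.mk' R) (a : G) = 1 := by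
    have := congrArg Subtype.val ha
    exact this
  have h2 : (a : G) ∈ R := by
    rw [← QuotientGroup.ker_mk' R]; exact h1
  exact ⟨⟨a, h2⟩, rfl⟩

/-- `n = p^a q^b` when all prime factors are among `p, q` -/
theorem eq_pow_mul_pow {n p q : ℕ} (hn : n ≠ 0) (hpq : p ≠ q)
    (h : ∀ r : ℕ, r.Prime → r ∣ n → r = p ∨ r = q) : ∃ a b : ℕ, n = p ^ a * q ^ b := by
  refine ⟨n.factorization p, n.factorization q, ?_⟩
  have h1 := Nat.prod_factorization_pow_eq_self hn
  have h2 : n.factorization.support ⊆ {p, q} := by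
    intro r hr
    rw [Nat.support_factorization] at hr
    have hr' := Nat.mem_primeFactors.mp hr
    rcases h r hr'.1 hr'.2.1 with rfl | rfl <;> simp
  rw [Finsupp.prod_of_support_subset _ h2 _ (by intro i _; exact pow_zero i),
    Finset.prod_pair hpq] at h1
  exact h1.symm

theorem radical_isPGroup (hns : ¬ Group.IsSolvable G)
    (hpp : ∀ g : G, g ≠ 1 → IsPrimePow (orderOf g))
    (R : Subgroup G) [R.Normal] (hRs : Group.IsSolvable ↥R) :
    ∃ p : ℕ, p.Prime ∧ IsPGroup p ↥R := by
  by_cases hR1 : Nat.card R = 1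
  · exact ⟨2, Nat.prime_two, IsPGroup.of_card (n := 0) (by rw [hR1, pow_zero])⟩
  obtain ⟨p, hp, hpR⟩ := Nat.exists_prime_and_dvd hR1
  by_cases hall : ∀ d : ℕ, d.Prime → d ∣ Nat.card R → d = p
  · have h1 := Nat.eq_prime_pow_of_unique_prime_dvd (Nat.card_pos (α := R)).ne'
      (fun {d} hd hdvd => hall d hd hdvd)
    haveI : Fact p.Prime := ⟨hp⟩
    exact ⟨p, hp, IsPGroup.of_card h1⟩
  exfalso
  push Not at hall
  obtain ⟨q, hq, hqR, hqp⟩ := hall
  -- a third prime
  obtain ⟨r, hr, hrG, hrp, hrq⟩ : ∃ r : ℕ, r.Prime ∧ r ∣ Nat.card G ∧ r ≠ p ∧ r ≠ q := by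
    by_contra hno
    push Not at hno
    obtain ⟨a, b, hab⟩ := eq_pow_mul_pow (Nat.card_pos (α := G)).ne' (Ne.symm hqp)
      (fun r hr hrG => by
        by_cases h1 : r = p
        · left; exact h1
        · right; exact hno r hr hrG h1)
    exact hns (Cfsg.Agent.Helper6.burnside_pq p q a b hp hq hab)
  haveI : Fact r.Prime := ⟨hr⟩
  obtain ⟨x, hx⟩ := exists_prime_orderOf_dvd_card' (G := G) r hrG
  have hsol := isSolvable_sup_zpowers R hRs x
  have h2 := card_primeFactors_le_two hpp _ hsol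
  have hRH : Nat.card R ∣ Nat.card ↥(R ⊔ Subgroup.zpowers x) :=
    Subgroup.card_dvd_of_le le_sup_left
  have hxH : r ∣ Nat.card ↥(R ⊔ Subgroup.zpowers x) := by
    have h3 : Nat.card (Subgroup.zpowers x) ∣ Nat.card ↥(R ⊔ Subgroup.zpowers x) :=
      Subgroup.card_dvd_of_le le_sup_right
    rw [Nat.card_zpowers, hx] at h3
    exact h3
  have hsub : ({p, q, r} : Finset ℕ) ⊆ (Nat.card ↥(R ⊔ Subgroup.zpowers x)).primeFactors := by
    intro s hs
    simp only [Finset.mem_insert, Finset.mem_singleton] at hs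
    rw [Nat.mem_primeFactors]
    rcases hs with rfl | rfl | rfl
    · exact ⟨hp, hpR.trans hRH, (Nat.card_pos).ne'⟩
    · exact ⟨hq, hqR.trans hRH, (Nat.card_pos).ne'⟩
    · exact ⟨hr, hxH, (Nat.card_pos).ne'⟩
  have hcard : ({p, q, r} : Finset ℕ).card = 3 := by
    rw [Finset.card_insert_of_notMem, Finset.card_insert_of_notMem, Finset.card_singleton]
    · simp only [Finset.mem_singleton]; exact fun h => hrq h.symm
    · simp only [Finset.mem_insert, Finset.mem_singleton]
      rintro (h | h)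
      · exact hqp h.symm
      · exact hrp h.symm
  have := Finset.card_le_card hsub
  omega

/-- a group with elements of two distinct prime orders `p`, `q`; produce them from divisibility -/
theorem exists_two_primes {M : Type*} [Group M] [Finite M] (hns : ¬ Group.IsSolvable M) :
    ∃ p q : ℕ, p.Prime ∧ q.Prime ∧ p ≠ q ∧ (∃ a : M, orderOf a = p) ∧ ∃ b : M, orderOf b = q := by
  have hM1 : Nat.card M ≠ 1 := by
    intro h
    haveI : Subsingleton M := (Nat.card_eq_one_iff_unique.mp h).1
    exact hns inferInstance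
  obtain ⟨p, hp, hpM⟩ := Nat.exists_prime_and_dvd hM1
  have hex : ∃ q : ℕ, q.Prime ∧ q ∣ Nat.card M ∧ q ≠ p := by
    by_contra hall
    push Not at hall
    have h1 := Nat.eq_prime_pow_of_unique_prime_dvd (Nat.card_pos (α := M)).ne'
      (fun {d} hd hdvd => hall d hd hdvd)
    haveI : Fact p.Prime := ⟨hp⟩
    have hPG : IsPGroup p M := IsPGroup.of_card h1
    haveI := hPG.isNilpotent
    exact hns inferInstance
  obtain ⟨q, hq, hqM, hqp⟩ := hex
  haveI : Fact p.Prime := ⟨hp⟩
  haveI : Fact q.Prime := ⟨hq⟩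
  obtain ⟨a, ha⟩ := exists_prime_orderOf_dvd_card' (G := M) p hpM
  obtain ⟨b, hb⟩ := exists_prime_orderOf_dvd_card' (G := M) q hqM
  exact ⟨p, q, hp, hq, Ne.symm hqp, ⟨a, ha⟩, ⟨b, hb⟩⟩

/-- a coordinate of prime order -/
theorem exists_coord_orderOf {T : Type*} [Group T] {m : ℕ} (w : Fin m → T) {p : ℕ} (hp : p.Prime)
    (hw : orderOf w = p) : ∃ t : T, orderOf t = p := by
  have hw1 : w ≠ 1 := by
    intro h
    rw [h, orderOf_one] at hw
    exact hp.one_lt.ne hw
  obtain ⟨i, hi⟩ : ∃ i, w i ≠ 1 := by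
    by_contra hall
    push Not at hall
    exact hw1 (funext hall)
  refine ⟨w i, ?_⟩
  have h1 : (w i) ^ p = 1 := by
    have h2 : w ^ p = 1 := by rw [← hw]; exact pow_orderOf_eq_one w
    have h3 := congrFun h2 i
    simpa using h3
  have h4 : orderOf (w i) ∣ p := orderOf_dvd_of_pow_eq_one h1
  rcases (Nat.dvd_prime hp).mp h4 with h | h
  · exact absurd (orderOf_eq_one_iff.mp h) hi
  · exact h

theorem quotient_part (hns : ¬ Group.IsSolvable G)
    (hpp : ∀ g : G, g ≠ 1 → IsPrimePow (orderOf g))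
    (R : Subgroup G) [R.Normal] (hRs : Group.IsSolvable ↥R)
    (hRmax : ∀ N : Subgroup G, N.Normal → Group.IsSolvable ↥N → N ≤ R) :
    ∃ M : Subgroup (G ⧸ R), M.Normal ∧ IsSimpleGroup ↥M ∧ ¬ IsMulCommutative ↥M ∧
        ∀ N : Subgroup (G ⧸ R), N.Normal → N ≠ ⊥ → M ≤ N := by
  classical
  have hppQ := eppo_quotient hpp R
  have hQns : ¬ Group.IsSolvable (G ⧸ R) := fun h =>
    hns (Cfsg.Agent.Helper1.isSolvable_of_normal_of_quotient R hRs h)
  haveI : Nontrivial (G ⧸ R) := by
    by_contra h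
    rw [not_nontrivial_iff_subsingleton] at h
    haveI := h
    exact hQns inferInstance
  -- the solvable radical of the quotient is trivial
  have hrad : ∀ N : Subgroup (G ⧸ R), N.Normal → Group.IsSolvable N → N = ⊥ := by
    intro N hN hNs
    set N' := N.comap (QuotientGroup.mk' R) with hN'
    haveI : N'.Normal := hN.comap _
    have hRN : R ≤ N' := by
      intro x hx
      rw [hN', Subgroup.mem_comap]
      have h1 : QuotientGroup.mk' R x = 1 := by
        rw [← MonoidHom.mem_ker, QuotientGroup.ker_mk']; exact hx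
      rw [h1]; exact N.one_mem
    have hsol : Group.IsSolvable N' := by
      refine Group.isSolvable_of_ker_le_range (Subgroup.inclusion hRN)
        ((QuotientGroup.mk' R).subgroupComap N) ?_
      intro a ha
      rw [MonoidHom.mem_ker] at ha
      have h1 : QuotientGroup.mk' R (a : G) = 1 := congrArg Subtype.val ha
      have h2 : (a : G) ∈ R := by rw [← QuotientGroup.ker_mk' R]; exact h1
      exact ⟨⟨a, h2⟩, rfl⟩
    have hle := hRmax N' inferInstance hsol
    rw [eq_bot_iff]
    intro y hy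
    obtain ⟨x, rfl⟩ := QuotientGroup.mk_surjective y
    have hx : x ∈ N' := hy
    rw [Subgroup.mem_bot]
    exact (QuotientGroup.eq_one_iff x).mpr (hle hx)
  obtain ⟨M, hMn, hM1, hMmin⟩ := Cfsg.Agent.Helper4.exists_isMinNormal (G ⧸ R)
  haveI := hMn
  have hMns : ¬ Group.IsSolvable M := fun h => hM1 (hrad M hMn h)
  obtain ⟨p, q, hp, hq, hpq, ⟨a, ha⟩, ⟨b, hb⟩⟩ := exists_two_primes hMns
  -- EPPO in M
  have hppM : ∀ g : M, g ≠ 1 → IsPrimePow (orderOf g) := by
    intro g hg
    rw [← Subgroup.orderOf_coe]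
    exact hppQ g (fun h' => hg (Subtype.ext h'))
  obtain ⟨T, hT, m, hTs, hm0, ⟨e⟩⟩ :=
    Cfsg.Agent.Helper4.minNormal_mulEquiv_pi_simple M hM1 hMmin
  have hm1 : m = 1 := by
    by_contra hne
    have hm2 : 2 ≤ m := by omega
    obtain ⟨t, ht⟩ := exists_coord_orderOf (e a) hp (by rw [e.orderOf_eq]; exact ha)
    obtain ⟨u, hu⟩ := exists_coord_orderOf (e b) hq (by rw [e.orderOf_eq]; exact hb)
    set i0 : Fin m := ⟨0, by omega⟩
    set i1 : Fin m := ⟨1, by omega⟩
    have hi : i0 ≠ i1 := by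
      intro h
      have := congrArg Fin.val h
      simp [i0, i1] at this
    have hc : Commute (Pi.mulSingle (M := fun _ : Fin m => T) i0 t)
        (Pi.mulSingle (M := fun _ : Fin m => T) i1 u) :=
      Pi.mulSingle_commute (f := fun _ : Fin m => T) hi t u
    have hc' : Commute (e.symm (Pi.mulSingle (M := fun _ : Fin m => T) i0 t))
        (e.symm (Pi.mulSingle (M := fun _ : Fin m => T) i1 u)) := hc.map e.symm
    refine no_mul_primes hppM hp hq hpq _ _ ?_ ?_ hc'
    · rw [e.symm.orderOf_eq, orderOf_piMulSingle, ht]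
    · rw [e.symm.orderOf_eq, orderOf_piMulSingle, hu]
  subst hm1
  have hMsimple : IsSimpleGroup M :=
    (e.trans (MulEquiv.funUnique (Fin 1) T)).isSimpleGroup
  refine ⟨M, hMn, hMsimple, ?_, ?_⟩
  · intro hc
    apply hMns
    exact Group.isSolvable_of_comm (fun x y => mul_comm' x y)
  · intro N hN hN1
    haveI := hN
    have hMN : (M ⊓ N).Normal := inferInstance
    rcases hMmin (M ⊓ N) hMN inf_le_left with h | h
    · exfalso
      have hdisj : Disjoint M N := disjoint_iff.mpr h
      haveI : Nontrivial N := (Subgroup.nontrivial_iff_ne_bot N).mpr hN1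
      have hN1' : Nat.card N ≠ 1 := by
        intro h1
        have := (Nat.card_eq_one_iff_unique.mp h1).1
        exact not_subsingleton N this
      obtain ⟨r, hr, hrN⟩ := Nat.exists_prime_and_dvd hN1'
      haveI : Fact r.Prime := ⟨hr⟩
      obtain ⟨c, hc⟩ := exists_prime_orderOf_dvd_card' (G := N) r hrN
      have hc' : orderOf (c : G ⧸ R) = r := by rw [Subgroup.orderOf_coe]; exact hc
      have ha' : orderOf (a : G ⧸ R) = p := by rw [Subgroup.orderOf_coe]; exact ha
      have hb' : orderOf (b : G ⧸ R) = q := by rw [Subgroup.orderOf_coe]; exact hb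
      by_cases hrp : r = p
      · have hqr : q ≠ r := by rw [hrp]; exact Ne.symm hpq
        exact no_mul_primes hppQ hq hr hqr _ _ hb' hc'
          (Subgroup.commute_of_normal_of_disjoint M N hMn hN hdisj _ _ b.2 c.2)
      · exact no_mul_primes hppQ hp hr (Ne.symm hrp) _ _ ha' hc'
          (Subgroup.commute_of_normal_of_disjoint M N hMn hN hdisj _ _ a.2 c.2)
    · rw [← h]; exact inf_le_right

/-- Let G be a finite non-solvable group in which every element has prime-power order, and let R be its largest solvable normal subgroup. Then R is a p-group for some prime p; G/R has a non-abelian simple normal subgroup contained in every nontrivial normal subgroup of G/R (its unique minimal normal subgroup); and the order of every solvable subgroup of G has at most two prime divisors. -/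
theorem result {G : Type*} [Group G] [Finite G] (hns : ¬ Group.IsSolvable G) (hpp : ∀ g : G, g ≠ 1 → IsPrimePow (orderOf g))
    (R : Subgroup G) [R.Normal] (hRs : Group.IsSolvable ↥R) (hRmax : ∀ N : Subgroup G, N.Normal → Group.IsSolvable ↥N → N ≤ R) :
    (∃ p : ℕ, p.Prime ∧ IsPGroup p ↥R) ∧
      (∃ M : Subgroup (G ⧸ R), M.Normal ∧ IsSimpleGroup ↥M ∧ ¬ IsMulCommutative ↥M ∧
        ∀ N : Subgroup (G ⧸ R), N.Normal → N ≠ ⊥ → M ≤ N) ∧
      ∀ H : Subgroup G, Group.IsSolvable ↥H → (Nat.card ↥H).primeFactors.card ≤ 2 := by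
  exact ⟨radical_isPGroup hns hpp R hRs, quotient_part hns hpp R hRs hRmax,
    fun H hH => card_primeFactors_le_two hpp H hH⟩


end Cfsg.Agent.S3992
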