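import Mathlib
import Cfsg.Agent.S3993
import Cfsg.Statements.S3994
-- import your own Cfsg.Agent.* helpers here

set_option autoImplicit false
open Cfsg

namespace Cfsg.Agent.S3994

universe u
open Cfsg.Agent.S3993

theorem coprime_div_gcd_pow (N n : ℕ) (hN : 0 < N) :
    Nat.Coprime (N / Nat.gcd N (n ^ N)) n := by
  set g := Nat.gcd N (n ^ N) with hg
  have hgN : g ∣ N := Nat.gcd_dvd_left _ _
  have hg0 : 0 < g := Nat.pos_of_dvd_of_pos hgN hN
  apply Nat.coprime_of_dvd
  intro p hp hpD hpn
  obtain ⟨k, N', hN', hNk⟩ := Nat.exists_eq_pow_mul_and_not_dvd hN.ne' p hp.ne_one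
  have hkN : k ≤ N := by
    have h1 : p ^ k ≤ N := Nat.le_of_dvd hN ⟨N', hNk⟩
    have h2 : k < 2 ^ k := Nat.lt_two_pow_self
    have h3 : 2 ^ k ≤ p ^ k := Nat.pow_le_pow_left hp.two_le k
    omega
  have hpkg : p ^ k ∣ g := by
    apply Nat.dvd_gcd ⟨N', hNk⟩
    exact (pow_dvd_pow_of_dvd hpn k).trans (pow_dvd_pow n hkN)
  obtain ⟨t, ht⟩ := hpD
  obtain ⟨g', hg'⟩ := hpkg
  have h4 : N = g * (N / g) := (Nat.mul_div_cancel' hgN).symm
  rw [ht, hg'] at h4
  have h5 : p ^ k * N' = p ^ k * (p * (g' * t)) := by rw [← hNk, h4]; ring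
  have h6 : N' = p * (g' * t) := Nat.eq_of_mul_eq_mul_left (pow_pos hp.pos k) h5
  exact hN' ⟨_, h6⟩

theorem main {G : Type u} [Group G] [Finite G] (n : ℕ) :
    (Nat.card G / Nat.gcd (Nat.card G) (n ^ Nat.card G)) ∣ Nat.card {g : G // n ∣ orderOf g} := by
  classical
  have : Fintype G := Fintype.ofFinite _
  set N := Nat.card G with hN
  have hNpos : 0 < N := Nat.card_pos
  set q := Nat.gcd N (n ^ N) with hq
  set D := N / q with hD
  have hqN : q ∣ N := Nat.gcd_dvd_left _ _
  have hqD : q * D = N := Nat.mul_div_cancel' hqN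
  have hDn : Nat.Coprime D n := coprime_div_gcd_pow N n hNpos
  have hDq : Nat.Coprime D q :=
    Nat.Coprime.coprime_dvd_right (Nat.gcd_dvd_right _ _) (Nat.Coprime.pow_right N hDn)
  have hDN : D ∣ N := ⟨q, by rw [mul_comm]; exact hqD.symm⟩
  obtain ⟨u, v, huv⟩ : ∃ u v : ℤ, u * D + v * q = 1 := by
    have := Nat.gcd_eq_gcd_ab D q
    rw [hDq] at this
    exact ⟨Nat.gcdA D q, Nat.gcdB D q, by push_cast at this; linarith⟩
  have hxN : ∀ x : G, x ^ (q * D) = 1 := fun x => by rw [hqD]; exact pow_card_eq_one'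
  set P : G → Prop := fun x => n ∣ orderOf x with hP
  set π : {x : G // P x} → G := fun x => x.1 ^ (u * D) with hπ
  have hsum : Nat.card {x : G // P x} = ∑ y : G, Nat.card {x : {x : G // P x} // π x = y} := by
    rw [← Nat.card_sigma]
    exact Nat.card_congr (Equiv.sigmaFiberEquiv π).symm
  rw [hsum]
  have hle : ∀ (h : ConjAct G) (y : G),
      Nat.card {x : {x : G // P x} // π x = y} ≤ Nat.card {x : {x : G // P x} // π x = h • y} := by
    intro h y
    set c : G ≃* G := MulAut.conj (ConjAct.ofConjAct h) with hc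
    have hcy : ∀ g : G, h • g = c g := fun g => by rw [ConjAct.smul_def]; rfl
    have hPc : ∀ x : G, P x → P (c x) := by
      intro x hx
      change n ∣ orderOf (c x)
      rw [MulEquiv.orderOf_eq]; exact hx
    apply Nat.card_le_card_of_injective
      (fun x => (⟨⟨c x.1.1, hPc _ x.1.2⟩, by
        change (c x.1.1) ^ (u * D) = h • y
        rw [hcy, ← map_zpow]
        exact congrArg c x.2⟩ : {x : {x : G // P x} // π x = h • y}))
    intro x x' hxx'
    have h1 : c x.1.1 = c x'.1.1 := congrArg (fun t => t.1.1) hxx'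
    exact Subtype.ext (Subtype.ext (c.injective h1))
  have hinv : ∀ (h : ConjAct G) (y : G),
      Nat.card {x : {x : G // P x} // π x = h • y} = Nat.card {x : {x : G // P x} // π x = y} := by
    intro h y
    apply le_antisymm _ (hle h y)
    have := hle h⁻¹ (h • y)
    rwa [inv_smul_smul] at this
  apply dvd_sum_of_invariant (H := ConjAct G) _ hinv
  intro y
  by_cases hy : y ^ q = 1 ∧ n ∣ orderOf y
  · obtain ⟨hyq, hny⟩ := hy
    have e1 : Nat.card {x : {x : G // P x} // π x = y} =
        Nat.card {x : G // x ^ (q * D) = 1 ∧ x ^ (u * D) = y} := by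
      apply Nat.card_congr
      refine ⟨fun x => ⟨x.1.1, hxN _, x.2⟩, fun x => ⟨⟨x.1, ?_⟩, x.2.2⟩,
        fun x => rfl, fun x => rfl⟩
      obtain ⟨x, hx1, hx2⟩ := x
      change n ∣ orderOf x
      refine hny.trans ?_
      rw [← hx2]
      exact orderOf_dvd_of_mem_zpowers (Subgroup.zpow_mem _ (Subgroup.mem_zpowers _) _)
    rw [e1, card_fiber q D u v huv y hyq]
    set K := Subgroup.centralizer ({y} : Set G) with hK
    have hF := (frobenius _ ↥K rfl).gcd_dvd D
    have horb : Nat.card (MulAction.orbit (ConjAct G) y) * Nat.card ↥K = Nat.card G := by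
      rw [hK, Subgroup.nat_card_centralizer_nat_card_stabilizer, Nat.card_eq_fintype_card,
        Nat.card_eq_fintype_card, Nat.card_eq_fintype_card,
        MulAction.card_orbit_mul_card_stabilizer_eq_card_group, ConjAct.card]
    exact arith1 D _ _ _ _ horb hDN hF
  · have : IsEmpty {x : {x : G // P x} // π x = y} := by
      refine ⟨fun x => hy ?_⟩
      obtain ⟨⟨x, hx⟩, hxy⟩ := x
      change x ^ (u * D) = y at hxy
      change n ∣ orderOf x at hx
      set z := x ^ (v * q) with hz
      have hyq : y ^ q = 1 := by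
        rw [← hxy, ← zpow_natCast, ← zpow_mul]
        have : u * (D : ℤ) * q = ((q * D : ℕ) : ℤ) * u := by push_cast; ring
        rw [this, zpow_mul, zpow_natCast, hxN, one_zpow]
      have hzD : z ^ D = 1 := by
        rw [hz, ← zpow_natCast, ← zpow_mul]
        have : v * (q : ℤ) * D = ((q * D : ℕ) : ℤ) * v := by push_cast; ring
        rw [this, zpow_mul, zpow_natCast, hxN, one_zpow]
      have hxyz : x = y * z := by rw [← hxy, hz, ← zpow_add, huv, zpow_one]
      have hcomm : Commute y z := by rw [← hxy, hz]; exact Commute.zpow_zpow_self x _ _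
      refine ⟨hyq, ?_⟩
      have h1 : orderOf x ∣ orderOf y * orderOf z := by
        apply orderOf_dvd_of_pow_eq_one
        rw [hxyz, hcomm.mul_pow, pow_mul, pow_orderOf_eq_one, one_pow, one_mul, mul_comm, pow_mul,
          pow_orderOf_eq_one, one_pow]
      have h2 : Nat.Coprime n (orderOf z) :=
        Nat.Coprime.coprime_dvd_right (orderOf_dvd_of_pow_eq_one hzD) hDn.symm
      exact h2.dvd_of_dvd_mul_right (hx.trans h1)
    rw [Nat.card_of_isEmpty (α := {x : {x : G // P x} // π x = y}), mul_zero]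
    exact dvd_zero _


/-- Let G be a finite group and n a positive integer. The number of elements of G whose order is divisible by n is either 0 or divisible by the largest divisor of the order of G that is coprime to n. -/
theorem result {G : Type*} [Group G] [Finite G] (n : ℕ) (hn : 0 < n) :
    Nat.card {g : G // n ∣ orderOf g} = 0 ∨
      (Nat.card G / Nat.gcd (Nat.card G) (n ^ Nat.card G)) ∣ Nat.card {g : G // n ∣ orderOf g} := by
  exact Or.inr (main n)

end Cfsg.Agent.S3994
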