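import Cfsg.Statements.S3997

set_option autoImplicit false
open Cfsg

namespace Cfsg.Agent.S3997

/-- Let G and H be finite groups with the same order type: for every m they have the same number of elements of order m. If G is nilpotent then so is H. -/
theorem result {G H : Type*} [Group G] [Finite G] [Group H] [Finite H] (hT : (∀ m : ℕ, Nat.card {g : G // orderOf g = m} = Nat.card {h : H // orderOf h = m})) (hG : Group.IsNilpotent G) :
    Group.IsNilpotent H := by
  classical
  -- an order-preserving bijection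
  have e : ∀ m : ℕ, Nonempty ({g : G // orderOf g = m} ≃ {h : H // orderOf h = m}) :=
    fun m => Finite.card_eq.1 (hT m)
  let φ : G ≃ H := (Equiv.sigmaFiberEquiv orderOf).symm.trans
    ((Equiv.sigmaCongrRight fun m => (e m).some).trans (Equiv.sigmaFiberEquiv orderOf))
  have hφ : ∀ g, orderOf (φ g) = orderOf g := by
    intro g
    exact ((e (orderOf g)).some ⟨g, rfl⟩).2
  have hcard : Nat.card G = Nat.card H := Nat.card_congr φ
  have hnormG := (Group.isNilpotent_of_finite_tfae (G := G)).out 0 3
  have hnormH := (Group.isNilpotent_of_finite_tfae (G := H)).out 0 3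
  rw [hnormH]
  intro p hp Q
  have hP := hnormG.1 hG p hp
  obtain ⟨P⟩ : Nonempty (Sylow p G) := inferInstance
  have hPn := hP P
  haveI : Subsingleton (Sylow p G) := (Sylow.unique_of_normal P hPn).instSubsingleton
  -- the p-elements of G are exactly P
  have hG_set : ∀ g : G, (∃ k : ℕ, g ^ p ^ k = 1) → g ∈ P := by
    rintro g ⟨k, hk⟩
    have hdvd : orderOf g ∣ p ^ k := orderOf_dvd_of_pow_eq_one hk
    obtain ⟨j, -, hj⟩ := (Nat.dvd_prime_pow hp.out).1 hdvd
    have hz : IsPGroup p (Subgroup.zpowers g) := IsPGroup.of_card (n := j) (by rw [Nat.card_zpowers, hj])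
    obtain ⟨Q', hQ'⟩ := hz.exists_le_sylow
    have : Q' = P := Subsingleton.elim _ _
    rw [← this]
    exact hQ' (Subgroup.mem_zpowers g)
  have hP_el : ∀ g : G, g ∈ P → ∃ k : ℕ, g ^ p ^ k = 1 := by
    intro g hg
    obtain ⟨k, hk⟩ := P.isPGroup' ⟨g, hg⟩
    refine ⟨k, ?_⟩
    have := congrArg Subtype.val hk
    simpa using this
  -- the set T of p-elements of H
  set T : Set H := {h | ∃ k : ℕ, h ^ p ^ k = 1} with hTdef
  have hT_eq : T = φ '' (P : Set G) := by
    ext h
    simp only [hTdef, Set.mem_setOf_eq, Set.mem_image, SetLike.mem_coe]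
    constructor
    · rintro ⟨k, hk⟩
      refine ⟨φ.symm h, hG_set _ ⟨k, ?_⟩, by simp⟩
      have h1 : orderOf (φ.symm h) = orderOf h := by
        rw [← hφ (φ.symm h)]; simp
      rw [← orderOf_dvd_iff_pow_eq_one, h1, orderOf_dvd_iff_pow_eq_one]
      exact hk
    · rintro ⟨g, hg, rfl⟩
      obtain ⟨k, hk⟩ := hP_el g hg
      refine ⟨k, ?_⟩
      rw [← orderOf_dvd_iff_pow_eq_one, hφ, orderOf_dvd_iff_pow_eq_one]
      exact hk
  have hTcard : T.ncard = p ^ (Nat.card H).factorization p := by
    rw [hT_eq, Set.ncard_image_of_injective _ φ.injective, ← hcard, ← Sylow.card_eq_multiplicity P]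
    exact (Nat.card_coe_set_eq _).symm
  have hSyl : ∀ Q' : Sylow p H, ((Q' : Subgroup H) : Set H) = T := by
    intro Q'
    apply Set.eq_of_subset_of_ncard_le
    · intro h hh
      obtain ⟨k, hk⟩ := Q'.isPGroup' ⟨h, hh⟩
      refine ⟨k, ?_⟩
      have := congrArg Subtype.val hk
      simpa using this
    · rw [hTcard, ← Sylow.card_eq_multiplicity Q']
      exact (Nat.card_coe_set_eq _).le
    · exact Set.toFinite _
  haveI : Subsingleton (Sylow p H) := by
    refine ⟨fun Q1 Q2 => Sylow.ext ?_⟩
    apply SetLike.coe_injective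
    rw [hSyl Q1, hSyl Q2]
  exact Sylow.normal_of_subsingleton Q

end Cfsg.Agent.S3997
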