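import Mathlib
import Cfsg.Statements.S3998
import Cfsg.Agent.Helper8.OrdTypeB
import Cfsg.Agent.Helper8.OrdTypeC

set_option autoImplicit false
open Cfsg

namespace Cfsg.Agent.S3998

/-- Let G and H be finite groups with the same order type (for every m the same number of elements of order m). If G is supersolvable then H is solvable. -/
theorem result {G H : Type*} [Group G] [Finite G] [Group H] [Finite H] (hT : (∀ m : ℕ, Nat.card {g : G // orderOf g = m} = Nat.card {h : H // orderOf h = m})) (hG : Cfsg.IsSupersolvable G) :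
    Group.IsSolvable H := by
  classical
  -- an order-preserving bijection
  have e : ∀ m : ℕ, Nonempty ({g : G // orderOf g = m} ≃ {h : H // orderOf h = m}) :=
    fun m => Finite.card_eq.1 (hT m)
  let φ : G ≃ H := (Equiv.sigmaFiberEquiv orderOf).symm.trans
    ((Equiv.sigmaCongrRight fun m => (e m).some).trans (Equiv.sigmaFiberEquiv orderOf))
  have hφ : ∀ g, orderOf (φ g) = orderOf g := by
    intro g
    exact ((e (orderOf g)).some ⟨g, rfl⟩).2
  have hcard : Nat.card G = Nat.card H := Nat.card_congr φ
  have hcnt : ∀ r : ℕ, Cfsg.Agent.Helper8.OrdType.cnt G r = Cfsg.Agent.Helper8.OrdType.cnt H r := by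
    intro r
    unfold Cfsg.Agent.Helper8.OrdType.cnt
    apply Nat.card_congr
    refine φ.subtypeEquiv (fun g => ?_)
    unfold Cfsg.Agent.Helper8.OrdType.Rough
    rw [hφ g]
  apply Cfsg.Agent.Helper8.OrdType.isSolvable_of_cnt_ratio
  intro r hr
  rw [← hcnt r, ← hcnt (r + 1), ← hcard]
  exact Cfsg.Agent.Helper8.OrdType.cnt_ratio_of_supersolvable _ G rfl hG r hr

end Cfsg.Agent.S3998
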