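import Mathlib
import Cfsg.Statements.S4002
import Cfsg.Agent.Helper4.PrimeGraphSolvB
-- import your own Cfsg.Agent.* helpers here

set_option autoImplicit false
open Cfsg

namespace Cfsg.Agent.S4002
open Cfsg
universe u

/-- three primes up to `n` whose pairwise products exceed `n` -/
theorem exists_three_primes (n : ℕ) (hn : 7 ≤ n) :
    ∃ p q r : ℕ, p.Prime ∧ q.Prime ∧ r.Prime ∧ p < q ∧ q < r ∧ r ≤ n ∧ n < p * q := by
  by_cases h1 : n ≤ 14
  · exact ⟨3, 5, 7, by norm_num, by norm_num, by norm_num, by norm_num, by norm_num, hn, by omega⟩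
  by_cases h2 : n ≤ 31
  · exact ⟨5, 7, 11, by norm_num, by norm_num, by norm_num, by norm_num, by norm_num, by omega,
      by omega⟩
  push Not at h1 h2
  set m := n / 8 with hm
  have hm4 : 4 ≤ m := by omega
  have hmn : 8 * m ≤ n := by omega
  have hnm : n < 8 * m + 8 := by omega
  obtain ⟨p, hp, hp1, hp2⟩ := Nat.exists_prime_lt_and_le_two_mul m (by omega)
  obtain ⟨q, hq, hq1, hq2⟩ := Nat.exists_prime_lt_and_le_two_mul (2 * m) (by omega)
  obtain ⟨r, hr, hr1, hr2⟩ := Nat.exists_prime_lt_and_le_two_mul (4 * m) (by omega)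
  refine ⟨p, q, r, hp, hq, hr, by omega, by omega, by omega, ?_⟩
  have h3 : (m + 1) * (2 * m + 1) ≤ p * q := Nat.mul_le_mul hp1 hq1
  nlinarith

/-- If the set of element orders of a finite group G is {1, 2, …, n} with n ≥ 7, then G is not solvable. -/
theorem result {G : Type*} [Group G] [Finite G] (n : ℕ) (hn : 7 ≤ n) (h : Set.range (orderOf : G → ℕ) = {k : ℕ | 1 ≤ k ∧ k ≤ n}) : ¬ Group.IsSolvable G := by
  intro hsol
  obtain ⟨p, q, r, hp, hq, hr, hpq, hqr, hrn, hn1⟩ := exists_three_primes n hn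
  have h2 : n < p * r := lt_of_lt_of_le hn1 (Nat.mul_le_mul_left p hqr.le)
  have h3 : n < q * r := lt_of_lt_of_le h2 (Nat.mul_le_mul_right r hpq.le)
  have hdvd : ∀ a : ℕ, 1 ≤ a → a ≤ n → a ∣ Nat.card G := by
    intro a ha1 han
    have : a ∈ Set.range (orderOf : G → ℕ) := by rw [h]; exact ⟨ha1, han⟩
    obtain ⟨x, rfl⟩ := this
    exact orderOf_dvd_natCard x
  have hnot : ∀ m : ℕ, n < m → ¬ ∃ x : G, orderOf x = m := by
    rintro m hm ⟨x, rfl⟩
    have : orderOf x ∈ Set.range (orderOf : G → ℕ) := ⟨x, rfl⟩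
    rw [h] at this
    exact absurd this.2 (by omega)
  have hpr : p < r := hpq.trans hqr
  set ρ : Finset ℕ := {p, q, r} with hρ
  have hcard : 3 ≤ ρ.card := by
    rw [hρ, Finset.card_insert_of_notMem, Finset.card_insert_of_notMem, Finset.card_singleton]
    · simp only [Finset.mem_singleton]; omega
    · simp only [Finset.mem_insert, Finset.mem_singleton]; omega
  have hprime : ∀ a ∈ ρ, a.Prime ∧ a ∣ Nat.card G := by
    intro a ha
    simp only [hρ, Finset.mem_insert, Finset.mem_singleton] at ha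
    rcases ha with rfl | rfl | rfl
    · exact ⟨hp, hdvd _ hp.one_lt.le (by omega)⟩
    · exact ⟨hq, hdvd _ hq.one_lt.le (by omega)⟩
    · exact ⟨hr, hdvd _ hr.one_lt.le hrn⟩
  have hnon : ∀ a ∈ ρ, ∀ b ∈ ρ, a ≠ b → ¬ ∃ x : G, orderOf x = a * b := by
    intro a ha b hb hab
    simp only [hρ, Finset.mem_insert, Finset.mem_singleton] at ha hb
    apply hnot
    rcases ha with rfl | rfl | rfl <;> rcases hb with rfl | rfl | rfl
    · exact absurd rfl hab
    · exact hn1
    · exact h2
    · rw [mul_comm]; exact hn1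
    · exact absurd rfl hab
    · exact h3
    · rw [mul_comm]; exact h2
    · rw [mul_comm]; exact h3
    · exact absurd rfl hab
  have htop : Group.IsSolvable (⊤ : Subgroup G) :=
    Group.isSolvable_of_isSolvable_injective (f := (⊤ : Subgroup G).subtype)
      (Subgroup.subtype_injective _)
  have hpG : p ∣ Nat.card (⊤ : Subgroup G) := by
    rw [Subgroup.card_top]; exact hdvd _ hp.one_lt.le (by omega)
  have hqG : q ∣ Nat.card (⊤ : Subgroup G) := by
    rw [Subgroup.card_top]; exact hdvd _ hq.one_lt.le (by omega)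
  exact Cfsg.Agent.Helper4.prime_graph_solvable_normal ρ hcard hprime hnon _ ⊤ rfl htop p
    (by simp [hρ]) q (by simp [hρ]) (by omega) hpG hqG


end Cfsg.Agent.S4002
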