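import Mathlib
import Cfsg.Statements.S4005
import Cfsg.Prelude.Def_Transfer
import Cfsg.Agent.Helper1.NormalPCompl
import Cfsg.Agent.Helper1.FrobEven
-- import your own Cfsg.Agent.* helpers here

set_option autoImplicit false
open Cfsg

namespace Cfsg.Agent.S4005
universe u
variable {G : Type u} [Group G]

theorem inv_of_sq {a : G} (ha : a ^ 2 = 1) : a⁻¹ = a := by
  rw [pow_two] at ha
  exact inv_eq_of_mul_eq_one_left ha

/-- An involution does not commute with a nontrivial element of order 3. -/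
theorem F2 (h1 : ∀ g : G, g ^ 2 = 1 ∨ g ^ 3 = 1) {a b : G} (hab : a * b = b * a) (ha : a ^ 2 = 1)
    (ha1 : a ≠ 1) (hb : b ^ 3 = 1) : b = 1 := by
  have hc : Commute a b := hab
  rcases h1 (a * b) with h | h
  · rw [hc.mul_pow, ha, one_mul] at h
    have : b ^ 3 = b ^ 2 * b := pow_succ b 2
    rw [this, h, one_mul] at hb
    exact hb
  · rw [hc.mul_pow, hb, mul_one] at h
    have : a ^ 3 = a ^ 2 * a := pow_succ a 2
    rw [this, ha, one_mul] at h
    exact absurd h ha1

theorem sq_of_comm (h1 : ∀ g : G, g ^ 2 = 1 ∨ g ^ 3 = 1) {s c : G} (hs : s ^ 2 = 1) (hs1 : s ≠ 1)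
    (hc : c * s = s * c) : c ^ 2 = 1 := by
  rcases h1 c with h | h
  · exact h
  · have := F2 h1 hc.symm hs hs1 h
    rw [this, one_pow]

theorem comm_of_sq {a b : G} (ha : a ^ 2 = 1) (hb : b ^ 2 = 1) (hab : (a * b) ^ 2 = 1) :
    a * b = b * a := by
  have h1 : (a * b)⁻¹ = a * b := inv_of_sq hab
  rw [mul_inv_rev, inv_of_sq ha, inv_of_sq hb] at h1
  exact h1.symm

theorem comm_of_comm (h1 : ∀ g : G, g ^ 2 = 1 ∨ g ^ 3 = 1) {s : G} (hs : s ^ 2 = 1) (hs1 : s ≠ 1)
    {a b : G} (ha : a * s = s * a) (hb : b * s = s * b) : a * b = b * a := by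
  apply comm_of_sq (sq_of_comm h1 hs hs1 ha) (sq_of_comm h1 hs hs1 hb)
  apply sq_of_comm h1 hs hs1
  rw [mul_assoc, hb, ← mul_assoc, ha, mul_assoc]

/-- Case A: the centralizer of `t` has more than two elements. Then every involution commutes
with `t`. -/
theorem caseA (h1 : ∀ g : G, g ^ 2 = 1 ∨ g ^ 3 = 1) {t u : G} (ht : t ^ 2 = 1) (ht1 : t ≠ 1)
    (hut : u * t = t * u) (hu1 : u ≠ 1) (hune : u ≠ t) (v : G) (hv : v ^ 2 = 1) :
    v * t = t * v := by
  by_contra hvt
  have hti : t⁻¹ = t := inv_of_sq ht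
  have hvi : v⁻¹ = v := inv_of_sq hv
  have hu2 : u ^ 2 = 1 := sq_of_comm h1 ht ht1 hut
  have hui : u⁻¹ = u := inv_of_sq hu2
  set y := t * v with hy
  have hy2 : y ^ 2 ≠ 1 := by
    intro h
    apply hvt
    exact (comm_of_sq ht hv h).symm
  have hy3 : y ^ 3 = 1 := by
    rcases h1 y with h | h
    · exact absurd h hy2
    · exact h
  have hy1 : y ≠ 1 := by
    intro h; apply hy2; rw [h, one_pow]
  have hyi : y⁻¹ = v * t := by rw [hy, mul_inv_rev, hti, hvi]
  have hty : t * y * t⁻¹ = y⁻¹ := by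
    rw [hyi, hy, hti, ← mul_assoc, ← pow_two, ht, one_mul]
  -- u does not invert y
  have hunot : u * y * u⁻¹ ≠ y⁻¹ := by
    intro h
    have hc : (t * u) * y = y * (t * u) := by
      have : (t * u) * y * (t * u)⁻¹ = y := by
        have e : (t * u) * y * (t * u)⁻¹ = t * (u * y * u⁻¹) * t⁻¹ := by group
        rw [e, h]
        have e2 : t * y⁻¹ * t⁻¹ = (t * y * t⁻¹)⁻¹ := by group
        rw [e2, hty, inv_inv]
      calc (t * u) * y = ((t * u) * y * (t * u)⁻¹) * (t * u) := by group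
        _ = y * (t * u) := by rw [this]
    have htu2 : (t * u) ^ 2 = 1 := by
      have hc' : Commute t u := hut.symm
      rw [hc'.mul_pow, ht, hu2, one_mul]
    have htu1 : t * u ≠ 1 := by
      intro h'
      apply hune
      have : u = t⁻¹ := by rw [eq_inv_iff_mul_eq_one, ← h', hut]
      rw [this, hti]
    exact hy1 (F2 h1 hc htu2 htu1 hy3)
  have huy3 : (u * y) ^ 3 = 1 := by
    rcases h1 (u * y) with h | h
    · exfalso
      apply hunot
      rw [pow_two] at h
      have : u * y * u = y⁻¹ := by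
        have e : u * y * u = (u * y * (u * y)) * y⁻¹ := by group
        rw [e, h, one_mul]
      rw [hui, this]
    · exact h
  set w := y * u * y⁻¹ with hw
  have hw2 : w ^ 2 = 1 := by
    rw [hw, conj_pow, hu2, mul_one, mul_inv_cancel]
  have hw1 : w ≠ 1 := by
    intro h
    apply hu1
    have : u = y⁻¹ * w * y := by rw [hw]; group
    rw [this, h]; group
  have huw : u * w = w * u := by
    apply comm_of_sq hu2 hw2
    -- u * w = (y^2 u y^-2)
    have e : u * w = (y * y * u * (y * y)⁻¹)⁻¹ := by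
      have e1 : u * w * (y * y * u * (y * y)⁻¹) = (u * y) ^ 3 * (y ^ 3)⁻¹ := by
        rw [hw, pow_succ, pow_two, pow_succ, pow_two]; group
      rw [huy3, hy3, inv_one, mul_one] at e1
      exact eq_inv_of_mul_eq_one_left e1
    rw [e, inv_pow, conj_pow, hu2, mul_one, mul_inv_cancel, inv_one]
  -- w commutes with t
  have hwt : w * t = t * w := comm_of_comm h1 hu2 hu1 huw.symm hut.symm
  -- y normalizes the centralizer of t
  have hnorm : ∀ s : G, s * t = t * s → (y * s * y⁻¹) * t = t * (y * s * y⁻¹) := by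
    intro s hs
    have hsu : s * u = u * s := comm_of_comm h1 ht ht1 hs hut
    have h3 : (y * s * y⁻¹) * w = w * (y * s * y⁻¹) := by
      rw [hw]
      have e1 : y * s * y⁻¹ * (y * u * y⁻¹) = y * (s * u) * y⁻¹ := by group
      have e2 : y * u * y⁻¹ * (y * s * y⁻¹) = y * (u * s) * y⁻¹ := by group
      rw [e1, e2, hsu]
    exact comm_of_comm h1 hw2 hw1 h3 hwt.symm
  -- v = t * y
  have hvy : v = t * y := by rw [hy, ← mul_assoc, ← pow_two, ht, one_mul]
  set t' := v * t * v⁻¹ with ht'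
  have ht't : t' * t = t * t' := by
    have e : t' = t * (y * t * y⁻¹) * t⁻¹ := by rw [ht', hvy]; group
    have h0 := hnorm t rfl
    rw [e]
    have : t * (y * t * y⁻¹) * t⁻¹ = y * t * y⁻¹ := by
      rw [← h0]; group
    rw [this]; exact h0
  have ht'2 : t' ^ 2 = 1 := by
    rw [ht', conj_pow, ht, mul_one, mul_inv_cancel]
  set r := t * t' with hr
  have hvr : v * r = r * v := by
    have e : v * r * v⁻¹ = r := by
      have e1 : v * r * v⁻¹ = (v * t * v⁻¹) * (v * t' * v⁻¹) := by rw [hr]; group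
      have e2 : v * t' * v⁻¹ = t := by
        rw [ht', hvi]
        have : v * (v * t * v) * v = (v * v) * t * (v * v) := by group
        rw [this, ← pow_two, hv, one_mul, mul_one]
      rw [e1, e2, hr, ← ht', ht't]
    calc v * r = (v * r * v⁻¹) * v := by group
      _ = r * v := by rw [e]
  have htr : t * r = r * t := by
    rw [hr, mul_assoc, ht't]
  have hr2 : r ^ 2 = 1 := by
    have hc : Commute t t' := ht't.symm
    rw [hr, hc.mul_pow, ht, ht'2, one_mul]
  by_cases hr1 : r = 1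
  · apply hvt
    have : t' = t := by
      have : t' = t⁻¹ := by
        rw [eq_inv_iff_mul_eq_one, ht't]; exact hr1
      rw [this, hti]
    rw [ht'] at this
    calc v * t = (v * t * v⁻¹) * v := by group
      _ = t * v := by rw [this]
  · exact hvt (comm_of_comm h1 hr2 hr1 hvr htr)

theorem nofour {S : Subgroup G} [hN : S.Normal] (hS2 : ∀ s : S, s * s = 1)
    (hcomm : ∀ s s' : S, s * s' = s' * s)
    (hcent : ∀ s : S, s ≠ 1 → ∀ g : G, g * s = s * g → g ∈ S)
    (hord : ∀ g : G, g ∉ S → g ^ 3 = 1) (hne : ∃ s : S, s ≠ 1) (a b : G) (ha : a ∉ S)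
    (hb : b ∉ S) : a * b ∈ S ∨ a⁻¹ * b ∈ S := by
  by_contra hcon
  push Not at hcon
  obtain ⟨hab, hab'⟩ := hcon
  let φ : G →* MulAut S := MulAut.conjNormal
  have hφ : ∀ (g : G) (s : S), ((φ g s : S) : G) = g * s * g⁻¹ := fun g s => rfl
  -- the norm is trivial
  have hnorm : ∀ g : G, g ∉ S → ∀ s : S, φ g (φ g s) = s * φ g s := by
    intro g hg s
    have hg3 : ∀ x : S, φ g (φ g (φ g x)) = x := by
      intro x
      apply Subtype.ext
      rw [hφ, hφ, hφ]
      have : g * (g * (g * x * g⁻¹) * g⁻¹) * g⁻¹ = g ^ 3 * x * (g ^ 3)⁻¹ := by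
        rw [pow_succ, pow_two]; group
      rw [this, hord g hg, one_mul, inv_one, mul_one]
    set n : S := s * φ g s * φ g (φ g s) with hn
    have hfix : φ g n = n := by
      rw [hn, map_mul, map_mul, hg3, hcomm (φ g s * φ g (φ g s)) s, mul_assoc]
    have hn1 : n = 1 := by
      by_contra h
      apply hg
      apply hcent n h
      have h2 := congrArg Subtype.val hfix
      rw [hφ] at h2
      calc g * (n : G) = (g * n * g⁻¹) * g := by group
        _ = n * g := by rw [h2]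
    -- so φ g (φ g s) = (s * φ g s)⁻¹ = s * φ g s
    have h3 : φ g (φ g s) = (s * φ g s)⁻¹ := by
      rw [eq_inv_iff_mul_eq_one, hcomm, ← hn1, hn]
    have h4 : ∀ x : S, x⁻¹ = x := fun x => inv_eq_of_mul_eq_one_left (hS2 x)
    rw [h3, h4]
  have hsymm : ∀ g : G, g ∉ S → ∀ s : S, (φ g)⁻¹ s = s * φ g s := by
    intro g hg s
    rw [← hnorm g hg s]
    have hg3 : φ g (φ g (φ g s)) = s := by
      apply Subtype.ext
      rw [hφ, hφ, hφ]
      have : g * (g * (g * s * g⁻¹) * g⁻¹) * g⁻¹ = g ^ 3 * s * (g ^ 3)⁻¹ := by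
        rw [pow_succ, pow_two]; group
      rw [this, hord g hg, one_mul, inv_one, mul_one]
    nth_rewrite 1 [← hg3]
    rw [MulAut.inv_apply_self]
  obtain ⟨s, hs1⟩ := hne
  apply hs1
  set A := φ a with hA
  set B := φ b with hB
  -- (ii)
  have h2 : B (A (B s)) = s * A s * B s := by
    have := hnorm (a * b) hab s
    rw [map_mul, MulAut.mul_apply, MulAut.mul_apply] at this
    have h' := congrArg (⇑(A⁻¹)) this
    rw [MulAut.inv_apply_self] at h'
    rw [h', map_mul, MulAut.inv_apply_self, hsymm a ha]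
  -- (iii)
  have h3 : B (A⁻¹ (B s)) = A s * B s := by
    have := hnorm (a⁻¹ * b) hab' s
    rw [map_mul, map_inv, MulAut.mul_apply, MulAut.mul_apply] at this
    have h' := congrArg (⇑A) this
    rw [MulAut.apply_inv_self] at h'
    rw [h', map_mul, MulAut.apply_inv_self]
  -- (iv)
  have h4 : B (A⁻¹ (B s)) = A s := by
    rw [hsymm a ha, map_mul, hnorm b hb, h2]
    calc s * B s * (s * A s * B s) = (s * B s) * ((s * B s) * A s) := by
          rw [mul_assoc s (A s), hcomm (A s) (B s), ← mul_assoc s]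
      _ = A s := by rw [← mul_assoc, hS2, one_mul]
  rw [h4] at h3
  have h5 : B s = 1 := by
    have := mul_left_cancel (a := A s) (b := 1) (c := B s) (by rw [mul_one]; exact h3)
    exact this.symm
  have : B s = B 1 := by rw [h5, map_one]
  exact B.injective this

/-- Case A assembled. -/
theorem caseA_final (h1 : ∀ g : G, g ^ 2 = 1 ∨ g ^ 3 = 1) {t u y0 : G} (ht : t ^ 2 = 1) (ht1 : t ≠ 1)
    (hut : u * t = t * u) (hu1 : u ≠ 1) (hune : u ≠ t) (hy0 : y0 ^ 2 ≠ 1) :
    ∃ N : Subgroup G, N.Normal ∧ Cfsg.IsElementaryAbelian 2 N ∧ N.index = 3 := by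
  have hall := caseA h1 ht ht1 hut hu1 hune
  let S : Subgroup G := Subgroup.centralizer {t}
  have hmem : ∀ g : G, g ∈ S ↔ g ^ 2 = 1 := by
    intro g
    change g ∈ Subgroup.centralizer {t} ↔ _
    rw [Subgroup.mem_centralizer_singleton_iff]
    exact ⟨fun h => sq_of_comm h1 ht ht1 h, fun h => hall g h⟩
  have hN : S.Normal := by
    refine ⟨fun n hn g => ?_⟩
    rw [hmem] at hn ⊢
    rw [conj_pow, hn, mul_one, mul_inv_cancel]
  have hS2 : ∀ s : S, s * s = 1 := by
    intro s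
    apply Subtype.ext
    have := (hmem s.1).mp s.2
    rw [pow_two] at this
    exact this
  have hcomm : ∀ s s' : S, s * s' = s' * s := by
    intro s s'
    apply Subtype.ext
    exact comm_of_sq ((hmem s.1).mp s.2) ((hmem s'.1).mp s'.2) ((hmem _).mp (S.mul_mem s.2 s'.2))
  have hcent : ∀ s : S, s ≠ 1 → ∀ g : G, g * s = s * g → g ∈ S := by
    intro s hs1 g hg
    rw [hmem]
    exact sq_of_comm h1 ((hmem s.1).mp s.2) (fun h => hs1 (Subtype.ext h)) hg
  have hord : ∀ g : G, g ∉ S → g ^ 3 = 1 := by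
    intro g hg
    rcases h1 g with h | h
    · exact absurd ((hmem g).mpr h) hg
    · exact h
  have htS : t ∈ S := (hmem t).mpr ht
  have hne : ∃ s : S, s ≠ 1 := ⟨⟨t, htS⟩, fun h => ht1 (congrArg Subtype.val h)⟩
  have hy0S : y0 ∉ S := fun h => hy0 ((hmem y0).mp h)
  refine ⟨S, hN, ⟨⟨⟨fun a b => hcomm a b⟩⟩, fun a ha => (hmem a).mp ha⟩, ?_⟩
  -- the index
  rw [Subgroup.index_eq_card]
  set q : G ⧸ S := (y0 : G ⧸ S) with hq
  have hq1 : q ≠ 1 := by
    intro h
    apply hy0S
    exact (QuotientGroup.eq_one_iff y0).mp h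
  have hq3 : q ^ 3 = 1 := by
    rw [hq, ← QuotientGroup.mk_pow, hord y0 hy0S]; rfl
  have hp3 : Fact (Nat.Prime 3) := ⟨Nat.prime_three⟩
  have hoq : orderOf q = 3 := orderOf_eq_prime hq3 hq1
  rw [← hoq]
  symm
  apply orderOf_eq_card_of_forall_mem_zpowers
  intro x
  obtain ⟨b, rfl⟩ := QuotientGroup.mk_surjective x
  by_cases hb : b ∈ S
  · have : (b : G ⧸ S) = 1 := (QuotientGroup.eq_one_iff b).mpr hb
    rw [this]; exact Subgroup.one_mem _
  · rcases nofour hS2 hcomm hcent hord hne y0 b hy0S hb with h | h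
    · have h' : ((y0 * b : G) : G ⧸ S) = 1 := (QuotientGroup.eq_one_iff _).mpr h
      rw [QuotientGroup.mk_mul] at h'
      have : (b : G ⧸ S) = q⁻¹ := eq_inv_of_mul_eq_one_right h'
      rw [this]
      exact Subgroup.inv_mem _ (Subgroup.mem_zpowers q)
    · have h' : ((y0⁻¹ * b : G) : G ⧸ S) = 1 := (QuotientGroup.eq_one_iff _).mpr h
      rw [QuotientGroup.mk_mul, QuotientGroup.mk_inv] at h'
      have : (b : G ⧸ S) = q := by
        rw [hq]
        exact (inv_mul_eq_one.mp h').symm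
      rw [this]
      exact Subgroup.mem_zpowers q

theorem caseB [Finite G] (h1 : ∀ g : G, g ^ 2 = 1 ∨ g ^ 3 = 1) (hinv : ∃ t : G, t ^ 2 = 1 ∧ t ≠ 1)
    (hB : ∀ t : G, t ^ 2 = 1 → t ≠ 1 → ∀ u : G, u * t = t * u → u = 1 ∨ u = t) :
    ∃ N : Subgroup G, N.Normal ∧ Cfsg.IsElementaryAbelian 3 N ∧ N.index = 2 := by
  have hp2 : Fact (Nat.Prime 2) := ⟨Nat.prime_two⟩
  obtain ⟨t0, ht0, ht01⟩ := hinv
  let P : Sylow 2 G := default
  have h2dvd : 2 ∣ Nat.card G := by
    have : orderOf t0 = 2 := orderOf_eq_prime ht0 ht01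
    rw [← this]; exact orderOf_dvd_natCard t0
  have hPne : (P : Subgroup G) ≠ ⊥ := P.ne_bot_of_dvd_card h2dvd
  obtain ⟨⟨t, htP⟩, ht1'⟩ := (Subgroup.ne_bot_iff_exists_ne_one).mp hPne
  have ht1 : t ≠ 1 := fun h => ht1' (Subtype.ext h)
  have hP2 : ∀ x ∈ (P : Subgroup G), x ^ 2 = 1 := by
    intro x hx
    rcases h1 x with h | h
    · exact h
    · obtain ⟨k, hk⟩ := P.isPGroup' ⟨x, hx⟩
      have hk' : x ^ (2 ^ k) = 1 := by simpa using congrArg Subtype.val hk
      have hd1 : orderOf x ∣ 3 := orderOf_dvd_of_pow_eq_one h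
      have hd2 : orderOf x ∣ 2 ^ k := orderOf_dvd_of_pow_eq_one hk'
      have : orderOf x ∣ Nat.gcd 3 (2 ^ k) := Nat.dvd_gcd hd1 hd2
      have hg : Nat.gcd 3 (2 ^ k) = 1 := Nat.Coprime.pow_right k (by norm_num)
      rw [hg, Nat.dvd_one, orderOf_eq_one_iff] at this
      rw [this, one_pow]
  have ht : t ^ 2 = 1 := hP2 t htP
  have hPt : ∀ x ∈ (P : Subgroup G), x = 1 ∨ x = t := by
    intro x hx
    apply hB t ht ht1
    exact comm_of_sq (hP2 x hx) ht (hP2 _ (Subgroup.mul_mem _ hx htP))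
  have hcardP : Nat.card (P : Subgroup G) = 2 := by
    rw [Nat.card_eq_two_iff' (1 : (P : Subgroup G))]
    refine ⟨⟨t, htP⟩, ht1', ?_⟩
    intro y hy
    rcases hPt y.1 y.2 with h | h
    · exact absurd (Subtype.ext h) hy
    · exact Subtype.ext h
  have hNC : Subgroup.normalizer ((P : Subgroup G) : Set G) ≤
      Subgroup.centralizer ((P : Subgroup G) : Set G) := by
    intro n hn
    rw [Subgroup.mem_centralizer_iff]
    intro x hx
    rcases hPt x hx with rfl | rfl
    · rw [one_mul, mul_one]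
    · have h3 : n * x * n⁻¹ ∈ (P : Subgroup G) := (Subgroup.mem_normalizer_iff.mp hn x).mp htP
      rcases hPt _ h3 with h | h
      · exfalso; apply ht1
        have : x = n⁻¹ * (n * x * n⁻¹) * n := by group
        rw [this, h]; group
      · nth_rewrite 1 [← h]; group
  obtain ⟨K, hKn, hK⟩ := (Cfsg.Agent.Helper1.hasNormalPComplement_iff P).mp
    (Cfsg.Agent.Helper1.hasNormalPComplement_of_normalizer_le_centralizer P hNC)
  have hidx : K.index = 2 := by rw [hK.symm.index_eq_card, hcardP]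
  have hcop : Nat.Coprime 2 (Nat.card K) := by
    have := P.card_coprime_index
    rw [hK.index_eq_card, hcardP] at this
    exact this
  have hKodd : ∀ k ∈ K, k ^ 2 = 1 → k = 1 := by
    intro k hk hk2
    by_contra hk1
    have ho : orderOf k = 2 := orderOf_eq_prime hk2 hk1
    have hd : orderOf k ∣ Nat.card K := by
      have := orderOf_dvd_natCard (⟨k, hk⟩ : K)
      rwa [Subgroup.orderOf_mk] at this
    rw [ho] at hd
    have := Nat.eq_one_of_dvd_coprimes hcop (dvd_refl 2) hd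
    omega
  have hfpf : K ⊓ Subgroup.centralizer {t} = ⊥ := by
    rw [Subgroup.eq_bot_iff_forall]
    intro x hx
    obtain ⟨hxK, hxC⟩ := Subgroup.mem_inf.mp hx
    rw [Subgroup.mem_centralizer_singleton_iff] at hxC
    rcases hB t ht ht1 x hxC with h | h
    · exact h
    · exfalso
      apply ht1
      apply hKodd t _ ht
      rw [← h]; exact hxK
  have hot : orderOf t = 2 := orderOf_eq_prime ht ht1
  have hinvt := Cfsg.Agent.Helper1.involution_inverts_of_fpf K t hot hfpf
  refine ⟨K, hKn, ⟨⟨⟨fun a b => ?_⟩⟩, fun k hk => ?_⟩, hidx⟩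
  · apply Subtype.ext
    have ha := hinvt a.1 a.2
    have hb := hinvt b.1 b.2
    have hab := hinvt (a.1 * b.1) (K.mul_mem a.2 b.2)
    have e : t * (a.1 * b.1) * t⁻¹ = (t * a.1 * t⁻¹) * (t * b.1 * t⁻¹) := by group
    rw [e, ha, hb] at hab
    have : (a.1 * b.1)⁻¹ = (b.1 * a.1)⁻¹ := by rw [← hab, mul_inv_rev]
    exact inv_injective this
  · rcases h1 k with h | h
    · rw [hKodd k hk h, one_pow]
    · exact h

/-- A finite group whose set of element orders is exactly {1, 2, 3} has either a normal elementary abelian 3-subgroup of index 2 or a normal elementary abelian 2-subgroup of index 3. -/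
theorem result {G : Type*} [Group G] [Finite G] (h : Set.range (orderOf : G → ℕ) = {k : ℕ | 1 ≤ k ∧ k ≤ 3}) :
    (∃ N : Subgroup G, N.Normal ∧ Cfsg.IsElementaryAbelian 3 N ∧ N.index = 2) ∨
      (∃ N : Subgroup G, N.Normal ∧ Cfsg.IsElementaryAbelian 2 N ∧ N.index = 3) := by
  have h1 : ∀ g : G, g ^ 2 = 1 ∨ g ^ 3 = 1 := by
    intro g
    have hg : orderOf g ∈ {k : ℕ | 1 ≤ k ∧ k ≤ 3} := h ▸ Set.mem_range_self g
    obtain ⟨hg1, hg3⟩ := hg
    have := pow_orderOf_eq_one g
    interval_cases hk : orderOf g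
    · left; rw [pow_one] at this; rw [this, one_pow]
    · left; exact this
    · right; exact this
  have h2 : (2 : ℕ) ∈ Set.range (orderOf : G → ℕ) := by rw [h]; exact ⟨by norm_num, by norm_num⟩
  have h3 : (3 : ℕ) ∈ Set.range (orderOf : G → ℕ) := by rw [h]; exact ⟨by norm_num, by norm_num⟩
  obtain ⟨t0, ht0⟩ := h2
  obtain ⟨y0, hy0⟩ := h3
  have ht02 : t0 ^ 2 = 1 := by rw [← ht0]; exact pow_orderOf_eq_one t0
  have ht01 : t0 ≠ 1 := by
    intro h'; rw [h', orderOf_one] at ht0; omega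
  have hy02 : y0 ^ 2 ≠ 1 := by
    intro h'
    have := orderOf_dvd_of_pow_eq_one h'
    rw [hy0] at this
    omega
  by_cases hA : ∃ t u : G, t ^ 2 = 1 ∧ t ≠ 1 ∧ u * t = t * u ∧ u ≠ 1 ∧ u ≠ t
  · right
    obtain ⟨t, u, ht, ht1, hut, hu1, hune⟩ := hA
    exact caseA_final h1 ht ht1 hut hu1 hune hy02
  · left
    apply caseB h1 ⟨t0, ht02, ht01⟩
    intro t ht ht1 u hut
    by_contra hcon
    push Not at hcon
    exact hA ⟨t, u, ht, ht1, hut, hcon.1, hcon.2⟩


end Cfsg.Agent.S4005
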