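import Mathlib
import Cfsg.Statements.S4006
import Cfsg.Agent.Helper3.Ord4C
import Cfsg.Agent.Helper4.HallConverseC
-- import your own Cfsg.Agent.* helpers here

set_option autoImplicit false
open Cfsg

namespace Cfsg.Agent.S4006

/-- A finite group whose set of element orders is exactly {1, 2, 3, 4} has a normal subgroup N such that either N is a 2-group of exponent 4 and nilpotency class at most 2 with G/N of order 3, or N is an elementary abelian 2-group with G/N isomorphic to the symmetric group of degree 3, or N is an elementary abelian 3-group with G/N cyclic of order 4 or quaternion of order 8. -/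
theorem result {G : Type*} [Group G] [Finite G] (h : Set.range (orderOf : G → ℕ) = {k : ℕ | 1 ≤ k ∧ k ≤ 4}) :
    ∃ (N : Subgroup G) (_ : N.Normal),
      (IsPGroup 2 ↥N ∧ Monoid.exponent ↥N = 4 ∧ Group.nilpotencyClass ↥N ≤ 2 ∧ N.index = 3) ∨
      (Cfsg.IsElementaryAbelian 2 N ∧ Nonempty (G ⧸ N ≃* Equiv.Perm (Fin 3))) ∨
      (Cfsg.IsElementaryAbelian 3 N ∧ ((IsCyclic (G ⧸ N) ∧ N.index = 4) ∨ Nonempty (G ⧸ N ≃* QuaternionGroup 2))) := by
  -- basic data
  have hG : Cfsg.Agent.Helper3.Ord4.O4 G := by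
    intro g
    have h1 : orderOf g ∈ Set.range (orderOf : G → ℕ) := ⟨g, rfl⟩
    rw [h] at h1
    obtain ⟨h2, h3⟩ := h1
    omega
  obtain ⟨g3, hg3⟩ : ∃ g : G, orderOf g = 3 := by
    have : (3 : ℕ) ∈ Set.range (orderOf : G → ℕ) := by rw [h]; constructor <;> norm_num
    exact this
  obtain ⟨g4, hg4⟩ : ∃ g : G, orderOf g = 4 := by
    have : (4 : ℕ) ∈ Set.range (orderOf : G → ℕ) := by rw [h]; constructor <;> norm_num
    exact this
  have hsolv : Group.IsSolvable G := by
    apply Cfsg.Agent.Helper4.isSolvable_of_two_primes 2 3 Nat.prime_two Nat.prime_three (by norm_num)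
    intro l hl hdvd
    haveI : Fact l.Prime := ⟨hl⟩
    obtain ⟨x, hx⟩ := exists_prime_orderOf_dvd_card' (G := G) l hdvd
    rcases hG x with h1 | h1 | h1 | h1 <;> rw [hx] at h1
    · exact absurd h1 hl.one_lt.ne'
    · exact Or.inl h1
    · exact Or.inr h1
    · exfalso; rw [h1] at hl; norm_num at hl
  have hg31 : g3 ≠ 1 := by
    intro h'; rw [h', orderOf_one] at hg3; norm_num at hg3
  haveI : Nontrivial G := ⟨⟨g3, 1, hg31⟩⟩
  by_cases h3 : Cfsg.pCore 3 G = ⊥
  · -- O_2(G) ≠ 1
    have h2 : Cfsg.pCore 2 G ≠ ⊥ := by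
      obtain ⟨p, hp, M, hMn, hMne, hMp, -, -⟩ :=
        Cfsg.Agent.Helper1.exists_normal_pgroup_of_solvable G
      obtain ⟨r, hr1⟩ := Subgroup.ne_bot_iff_exists_ne_one.1 hMne
      have hr1' : (r : G) ≠ 1 := fun h' => hr1 (Subtype.ext h')
      obtain ⟨k, hk⟩ := hMp r
      have hk' : (r : G) ^ (p ^ k) = 1 := by
        have := congrArg Subtype.val hk
        simpa using this
      have hd : orderOf (r : G) ∣ p ^ k := orderOf_dvd_of_pow_eq_one hk'
      have ho1 : orderOf (r : G) ≠ 1 := fun h' => hr1' (orderOf_eq_one_iff.1 h')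
      have hpd : p ∣ orderOf (r : G) := by
        obtain ⟨j, -, hj⟩ := (Nat.dvd_prime_pow hp.out).1 hd
        rw [hj]
        have : j ≠ 0 := by
          rintro rfl
          rw [pow_zero] at hj; exact ho1 hj
        exact dvd_pow_self p this
      have hp23 : p = 2 ∨ p = 3 := by
        rcases hG (r : G) with h' | h' | h' | h'
        · exact absurd h' ho1
        · rw [h'] at hpd
          exact Or.inl ((Nat.prime_dvd_prime_iff_eq hp.out Nat.prime_two).1 hpd)
        · rw [h'] at hpd
          exact Or.inr ((Nat.prime_dvd_prime_iff_eq hp.out Nat.prime_three).1 hpd)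
        · rw [h'] at hpd
          have : p ∣ 2 ^ 2 := by norm_num; exact hpd
          exact Or.inl ((Nat.prime_dvd_prime_iff_eq hp.out Nat.prime_two).1
            (hp.out.dvd_of_dvd_pow this))
      rcases hp23 with rfl | rfl
      · intro hbot
        apply hMne
        rw [eq_bot_iff, ← hbot]
        exact Cfsg.Agent.Helper1.le_pCore hMn hMp
      · exfalso
        apply hMne
        rw [eq_bot_iff, ← h3]
        exact Cfsg.Agent.Helper1.le_pCore hMn hMp
    haveI hn : (Cfsg.pCore 2 G).Normal := Cfsg.Agent.Helper4.pCore_normal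
    refine ⟨Cfsg.pCore 2 G, hn, ?_⟩
    rcases Cfsg.Agent.Helper3.Ord4.case_two hG (Cfsg.pCore 2 G) rfl h2 g3 g4 hg3 hg4 with h' | h'
    · exact Or.inl h'
    · exact Or.inr (Or.inl h')
  · haveI hn : (Cfsg.pCore 3 G).Normal := Cfsg.Agent.Helper4.pCore_normal
    refine ⟨Cfsg.pCore 3 G, hn, Or.inr (Or.inr ?_)⟩
    exact Cfsg.Agent.Helper3.Ord4.case_three hG (Cfsg.pCore 3 G) rfl h3 g4 hg4


end Cfsg.Agent.S4006
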