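import Mathlib
import Cfsg.Statements.S4010
import Cfsg.Agent.Helper3.PGroupLinC
-- import your own Cfsg.Agent.* helpers here

set_option autoImplicit false
open Cfsg

namespace Cfsg.Agent.S4010

/-- Let F be a field, n ≥ 1, and P a finite p-group (p a prime) admitting an injective homomorphism into the general linear group of degree n over F. Then the derived length of P is at most ⌊log₂ n⌋ + 1: that term of the derived series of P is trivial. -/
theorem result {P : Type*} [Group P] [Finite P] (p : ℕ) [Fact p.Prime] (hP : IsPGroup p P) (F : Type*) [Field F] (n : ℕ) (hn : 1 ≤ n) (ρ : P →* Matrix.GeneralLinearGroup (Fin n) F) (hρ : Function.Injective ρ) : derivedSeries P (Nat.log 2 n + 1) = ⊥ := by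
  classical
  let K := AlgebraicClosure F
  let ρ' : Representation K P (Fin n → K) :=
    (AlgEquiv.toMulEquiv (Matrix.toLinAlgEquiv' (R := K) (n := Fin n))).toMonoidHom.comp
      ((Units.coeHom _).comp ((Matrix.GeneralLinearGroup.map (algebraMap F K)).comp ρ))
  have hinj : Function.Injective ρ' := by
    intro x y hxy
    apply hρ
    have h1 : (Units.coeHom _) (Matrix.GeneralLinearGroup.map (algebraMap F K) (ρ x)) =
        (Units.coeHom _) (Matrix.GeneralLinearGroup.map (algebraMap F K) (ρ y)) :=
      (AlgEquiv.toMulEquiv (Matrix.toLinAlgEquiv' (R := K) (n := Fin n))).injective hxy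
    apply Units.ext
    ext i j
    have h2 := congrFun (congrFun h1 i) j
    simp only [Units.coeHom_apply, Matrix.GeneralLinearGroup.map_apply] at h2
    exact (algebraMap F K).injective h2
  rw [eq_bot_iff]
  intro g hg
  rw [Subgroup.mem_bot]
  apply hinj
  rw [map_one]
  exact Cfsg.Agent.Helper3.PGroupLin.derivedSeries_le_ker K p n (Fin n → K) P hP ρ'
    (Module.finrank_fin_fun K) g hg


end Cfsg.Agent.S4010
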