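import Cfsg.Statements.S4013
import Mathlib
import Cfsg.Agent.Helper3.Basic

set_option autoImplicit false
open Cfsg

namespace Cfsg.Agent.S4013

/-- If `p^c - 1 ∣ p^a` with `c ≥ 1` then `p = 2` and `c = 1`. -/
theorem pow_sub_one_dvd_pow {p a c : ℕ} (hp : p.Prime) (hc : 1 ≤ c) (h : p ^ c - 1 ∣ p ^ a) :
    p = 2 ∧ c = 1 := by
  obtain ⟨k, _, hk⟩ := (Nat.dvd_prime_pow hp).mp h
  have hpc : 2 ≤ p ^ c := by
    calc 2 ≤ p := hp.two_le
      _ = p ^ 1 := (pow_one p).symm
      _ ≤ p ^ c := Nat.pow_le_pow_right hp.pos hc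
  have hk0 : k = 0 := by
    by_contra hk0
    have hpk : p ∣ p ^ k := dvd_pow_self p hk0
    rw [← hk] at hpk
    have hpc' : p ∣ p ^ c := dvd_pow_self p (by omega)
    have : p ∣ 1 := by
      have h2 : p ∣ p ^ c - (p ^ c - 1) := Nat.dvd_sub hpc' hpk
      have h3 : p ^ c - (p ^ c - 1) = 1 := by omega
      rwa [h3] at h2
    exact hp.one_lt.ne' (Nat.dvd_one.mp this)
  rw [hk0, pow_zero] at hk
  have h2 : p ^ c = 2 := by omega
  have hp2 : p ∣ 2 := by rw [← h2]; exact dvd_pow_self p (by omega)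
  have hpeq : p = 2 := (Nat.prime_dvd_prime_iff_eq hp Nat.prime_two).mp hp2
  refine ⟨hpeq, ?_⟩
  rw [hpeq] at h2
  have : (2 : ℕ) ^ c = 2 ^ 1 := by rw [h2, pow_one]
  exact Nat.pow_right_injective (le_refl 2) this

/-- Let G be a finite p-group (p prime) and N < M normal subgroups of G such that for some g ∈ M ∖ N the conjugacy class of g is exactly M ∖ N. Then p = 2 and N has index 2 in M. -/
theorem result {G : Type*} [Group G] [Finite G] (p : ℕ) [Fact p.Prime] (hG : IsPGroup p G) (N M : Subgroup G) [N.Normal] [M.Normal] (hNM : N < M) (g : G) (hgM : g ∈ M) (hgN : g ∉ N) (hcl : {h : G | IsConj g h} = (M : Set G) \ (N : Set G)) : p = 2 ∧ N.relIndex M = 2 := by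
  have hp : p.Prime := Fact.out
  -- class size is a power of p
  obtain ⟨n, hn⟩ := IsPGroup.iff_card.mp hG
  have hcls : Nat.card {h : G // IsConj g h} ∣ p ^ n := by
    rw [← Helper3.index_centralizer_singleton_eq_card_conj, ← hn]
    exact Subgroup.index_dvd_card _
  -- class size = |M| - |N|
  have hsize : Nat.card {h : G // IsConj g h} = Nat.card M - Nat.card N := by
    have h1 : Nat.card {h : G // IsConj g h} = ({h : G | IsConj g h}).ncard := by
      rw [← Nat.card_coe_set_eq]; rfl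
    rw [h1, hcl, Set.ncard_sdiff (show (N : Set G) ⊆ (M : Set G) from hNM.le)]
    rw [← Nat.card_coe_set_eq, ← Nat.card_coe_set_eq]
    rfl
  -- |M| = |N| * r
  have hcard : Nat.card N * N.relIndex M = Nat.card M := by
    have := Subgroup.relIndex_mul_relIndex (⊥ : Subgroup G) N M bot_le hNM.le
    rwa [Subgroup.relIndex_bot_left, Subgroup.relIndex_bot_left] at this
  -- r is a power of p, r ≠ 1
  obtain ⟨b, hb⟩ := IsPGroup.iff_card.mp (hG.to_subgroup N)
  have hr_dvd : N.relIndex M ∣ p ^ n := by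
    rw [← hn]
    exact (Subgroup.relIndex_dvd_card N M).trans (Subgroup.card_subgroup_dvd_card M)
  obtain ⟨c, _, hc⟩ := (Nat.dvd_prime_pow hp).mp hr_dvd
  have hc1 : 1 ≤ c := by
    by_contra h
    have hc0 : c = 0 := by omega
    rw [hc0, pow_zero] at hc
    have := Subgroup.relIndex_eq_one.mp hc
    exact (lt_irrefl _ (lt_of_lt_of_le hNM this))
  -- p^c - 1 divides p^n
  have hdiv : p ^ c - 1 ∣ p ^ n := by
    have h1 : Nat.card M - Nat.card N = p ^ b * (p ^ c - 1) := by
      rw [← hcard, hb, hc, Nat.mul_sub, mul_one]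
    rw [hsize, h1] at hcls
    exact (Dvd.intro_left _ rfl).trans hcls
  obtain ⟨hp2, hc1'⟩ := pow_sub_one_dvd_pow hp hc1 hdiv
  refine ⟨hp2, ?_⟩
  rw [hc, hp2, hc1', pow_one]

end Cfsg.Agent.S4013
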