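import Cfsg.Statements.S4015
import Mathlib
import Cfsg.Agent.Helper4.PLinFieldD

set_option autoImplicit false
open Cfsg

namespace Cfsg.Agent.S4015

/-- Let p be an odd prime, F a finite field with q elements where p does not divide q, and e the multiplicative order of q modulo p. Let n ≥ e and write w = ⌊n/e⌋ and k = ⌊log_p w⌋. Then a Sylow p-subgroup of GL(n, F) has derived length exactly k + 1: its (k+1)-st derived subgroup is trivial and its k-th is not. -/
theorem result (p : ℕ) [Fact p.Prime] (hp : p ≠ 2) (F : Type*) [Field F] [Fintype F] (q : ℕ) (hq : Fintype.card F = q) (hpq : ¬ p ∣ q) (n : ℕ) (hn : orderOf (q : ZMod p) ≤ n) (P : Sylow p (Matrix.GeneralLinearGroup (Fin n) F)) : derivedSeries ↥(P : Subgroup (Matrix.GeneralLinearGroup (Fin n) F)) (Nat.log p (n / orderOf (q : ZMod p)) + 1) = ⊥ ∧ derivedSeries ↥(P : Subgroup (Matrix.GeneralLinearGroup (Fin n) F)) (Nat.log p (n / orderOf (q : ZMod p))) ≠ ⊥ := by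
  classical
  subst hq
  refine ⟨?_, Cfsg.Agent.Helper4.PLinField.sylow_GL_derivedSeries_ne_bot p hpq n hn P⟩
  -- characteristic of F
  obtain ⟨r, hr⟩ := CharP.exists F
  haveI := hr
  obtain ⟨k, hrp, hcard⟩ := FiniteField.card F r
  haveI : Fact r.Prime := ⟨hrp⟩
  have hpr : p ≠ r := by
    rintro rfl
    apply hpq
    rw [hcard]
    exact dvd_pow_self p k.ne_zero
  have hpF : (p : F) ≠ 0 := by
    intro h
    have h1 : r ∣ p := (CharP.cast_eq_zero_iff F r p).1 h
    rcases (Nat.dvd_prime (Fact.out : p.Prime)).1 h1 with h2 | h2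
    · exact hrp.one_lt.ne' h2
    · exact hpr h2.symm
  have hcop : r.Coprime p := (Nat.coprime_primes hrp (Fact.out : p.Prime)).2 (Ne.symm hpr)
  have hdeg : ∀ μ : Polynomial F, Irreducible μ → μ ∣ Polynomial.cyclotomic p F →
      μ.natDegree = orderOf (Fintype.card F : ZMod p) := by
    intro μ hμ hdvd
    rw [Polynomial.natDegree_of_dvd_cyclotomic_of_irreducible hcard hcop hdvd hμ,
      ← orderOf_units, ZMod.coe_unitOfCoprime, hcard]
  let ρ : Representation F ↥(P : Subgroup (Matrix.GeneralLinearGroup (Fin n) F)) (Fin n → F) :=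
    (AlgEquiv.toMulEquiv (Matrix.toLinAlgEquiv' (R := F) (n := Fin n))).toMonoidHom.comp
      ((Units.coeHom _).comp (P : Subgroup (Matrix.GeneralLinearGroup (Fin n) F)).subtype)
  have hinj : Function.Injective ρ := by
    intro x y hxy
    have h1 : (Units.coeHom _)
        ((P : Subgroup (Matrix.GeneralLinearGroup (Fin n) F)).subtype x) = (Units.coeHom _)
        ((P : Subgroup (Matrix.GeneralLinearGroup (Fin n) F)).subtype y) :=
      (AlgEquiv.toMulEquiv (Matrix.toLinAlgEquiv' (R := F) (n := Fin n))).injective hxy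
    exact Subtype.ext (Units.ext h1)
  rw [eq_bot_iff]
  intro g hg
  rw [Subgroup.mem_bot]
  apply hinj
  rw [map_one]
  exact Cfsg.Agent.Helper4.PLinField.derivedSeries_le_ker_of_cyclotomic_logp p hpF _ hdeg n
    (Fin n → F) ↥(P : Subgroup (Matrix.GeneralLinearGroup (Fin n) F)) P.2 ρ
    (Module.finrank_fin_fun F) g hg

end Cfsg.Agent.S4015
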