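import Cfsg.Statements.S4020
import Mathlib
import Cfsg.Agent.Helper3.EOC_Main

set_option autoImplicit false
open Cfsg

namespace Cfsg.Agent.S4020

/-- Let G be a finite group in which, for every prime p, any two p-subgroups of the same order are conjugate. Then every Sylow subgroup of G is cyclic, elementary abelian, or a quaternion group of order 8. -/
theorem result {G : Type*} [Group G] [Finite G]
    (hD : ∀ p : ℕ, p.Prime → ∀ H K : Subgroup G, IsPGroup p H → IsPGroup p K → Nat.card H = Nat.card K →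
      ∃ g : G, K = H.map (MulAut.conj g).toMonoidHom) {p : ℕ} [Fact p.Prime] (P : Sylow p G) :
    IsCyclic P ∨ Cfsg.IsElementaryAbelian p (P : Subgroup G) ∨ Nonempty ((P : Subgroup G) ≃* QuaternionGroup 2) := by
  have hD' : Cfsg.Agent.Helper3.EOC.EqOrdConj G := hD
  rcases Cfsg.Agent.Helper3.EOC.pg_cases p P.isPGroup'
      (Cfsg.Agent.Helper3.EOC.hiso_of_eqOrdConj hD' (P : Subgroup G) P.isPGroup') with
    hcyc | ⟨hc, hexp⟩ | hq | ⟨hp2, hcard, hexp, hnc⟩
  · left; exact hcyc
  · right; left
    exact ⟨⟨⟨fun a b => hc a b⟩⟩, fun a ha => congrArg Subtype.val (hexp ⟨a, ha⟩)⟩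
  · right; right; exact hq
  · exact (Cfsg.Agent.Helper3.EOC.heis_false hD' p hp2 P hcard hexp hnc).elim

end Cfsg.Agent.S4020
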