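import Mathlib
import Cfsg.Agent.S0016
import Cfsg.Agent.S3969
import Cfsg.Agent.S3977
import Cfsg.Agent.Helper1.Nilp
import Cfsg.Agent.Helper1.Coprime
import Cfsg.Statements.S4023
-- import your own Cfsg.Agent.* helpers here

set_option autoImplicit false
open Cfsg

namespace Cfsg.Agent.S4023

universe u
open scoped commutatorElement
open Cfsg.Agent.S0016

theorem two_max {G : Type u} [Group G] [Finite G] (p : ℕ) [hp : Fact p.Prime] (hG : IsPGroup p G)
    (hnc : ¬ IsCyclic G) : ∃ M1 M2 : Subgroup G, M1.index = p ∧ M2.index = p ∧ M1.Normal ∧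
      M2.Normal ∧ M1 ⊔ M2 = ⊤ ∧ M1 ≠ ⊤ ∧ M2 ≠ ⊤ := by
  obtain ⟨m, hm⟩ := IsPGroup.iff_card.mp hG
  have hm0 : m ≠ 0 := by
    rintro rfl
    rw [pow_zero] at hm
    have : Subsingleton G := (Nat.card_eq_one_iff_unique.mp hm).1
    exact hnc isCyclic_of_subsingleton
  have hdvd : p ^ (m - 1) ∣ Nat.card G := by
    rw [hm]; exact pow_dvd_pow p (Nat.sub_le m 1)
  obtain ⟨M1, hM1⟩ := Sylow.exists_subgroup_card_pow_prime p hdvd
  have hlt1 : p ^ (m - 1) < p ^ m := Nat.pow_lt_pow_right hp.out.one_lt (by omega)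
  have hM1top : M1 ≠ ⊤ := by
    intro h
    rw [h, Subgroup.card_top, hm] at hM1
    omega
  obtain ⟨x, -, hxM1⟩ := SetLike.exists_of_lt (lt_top_iff_ne_top.mpr hM1top)
  have hxtop : Subgroup.zpowers x ≠ ⊤ := by
    intro h
    refine hnc ⟨x, fun g => ?_⟩
    have hg : g ∈ Subgroup.zpowers x := by rw [h]; trivial
    exact hg
  obtain ⟨j, hj⟩ := IsPGroup.iff_card.mp (hG.to_subgroup (Subgroup.zpowers x))
  have hjm : j ≤ m - 1 := by
    have h1 : p ^ j ∣ p ^ m := by
      rw [← hj, ← hm]; exact Subgroup.card_subgroup_dvd_card _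
    have h2 : j ≤ m := (Nat.pow_dvd_pow_iff_le_right hp.out.one_lt).mp h1
    have h3 : j ≠ m := by
      rintro rfl
      exact hxtop (Subgroup.eq_top_of_card_eq _ (hj.trans hm.symm))
    omega
  obtain ⟨M2, hM2, hxM2'⟩ := Sylow.exists_subgroup_card_pow_prime_le p hdvd _ hj hjm
  have hxM2 : x ∈ M2 := hxM2' (Subgroup.mem_zpowers x)
  obtain ⟨hi1, hn1⟩ := index_normal_of_card p hm0 hm M1 hM1
  obtain ⟨hi2, hn2⟩ := index_normal_of_card p hm0 hm M2 hM2
  have hM2top : M2 ≠ ⊤ := by
    intro h
    rw [h, Subgroup.card_top, hm] at hM2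
    omega
  have hsup : M1 ⊔ M2 = ⊤ := by
    apply eq_top_of_index_prime_of_lt hp.out hi1
    refine lt_of_le_of_ne le_sup_left (fun h => hxM1 ?_)
    rw [h]; exact (le_sup_right : M2 ≤ M1 ⊔ M2) hxM2
  exact ⟨M1, M2, hi1, hi2, hn1, hn2, hsup, hM1top, hM2top⟩

/-- If all proper subgroups of a noncyclic `p`-group are abelian, commutators are central. -/
theorem commutator_central {G : Type u} [Group G] [Finite G] (p : ℕ) [hp : Fact p.Prime]
    (hG : IsPGroup p G) (hnc : ¬ IsCyclic G)
    (hprop : ∀ H : Subgroup G, H ≠ ⊤ → IsMulCommutative H) (g h : G) :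
    ⁅g, h⁆ ∈ Subgroup.center G := by
  obtain ⟨M1, M2, hi1, hi2, hn1, hn2, hsup, ht1, ht2⟩ := two_max p hG hnc
  have hc1 := hprop M1 ht1
  have hc2 := hprop M2 ht2
  have hcomm1 : ∀ a ∈ M1, ∀ b ∈ M1, a * b = b * a := fun a ha b hb =>
    congrArg Subtype.val (mul_comm' (⟨a, ha⟩ : M1) ⟨b, hb⟩)
  have hcomm2 : ∀ a ∈ M2, ∀ b ∈ M2, a * b = b * a := fun a ha b hb =>
    congrArg Subtype.val (mul_comm' (⟨a, ha⟩ : M2) ⟨b, hb⟩)
  have hDcent : ∀ d ∈ M1 ⊓ M2, ∀ g : G, g * d = d * g := by
    intro d hd
    have h1 : M1 ≤ Subgroup.centralizer {d} := fun g hg => by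
      rw [Subgroup.mem_centralizer_singleton_iff]
      exact hcomm1 g hg d hd.1
    have h2 : M2 ≤ Subgroup.centralizer {d} := fun g hg => by
      rw [Subgroup.mem_centralizer_singleton_iff]
      exact hcomm2 g hg d hd.2
    have h3 : (⊤ : Subgroup G) ≤ Subgroup.centralizer {d} := hsup ▸ sup_le h1 h2
    intro g
    have := h3 (Subgroup.mem_top g)
    rwa [Subgroup.mem_centralizer_singleton_iff] at this
  have hmem : ⁅g, h⁆ ∈ _root_.commutator G := by
    rw [commutator_def]
    exact Subgroup.commutator_mem_commutator (Subgroup.mem_top g) (Subgroup.mem_top h)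
  have hq : ∀ M : Subgroup G, M.index = p → ∀ [M.Normal], _root_.commutator G ≤ M := by
    intro M hM _
    have : Fact (Nat.card (G ⧸ M)).Prime := ⟨by rw [← Subgroup.index_eq_card, hM]; exact hp.out⟩
    have : IsCyclic (G ⧸ M) := isCyclic_of_prime_card rfl
    exact Subgroup.Normal.quotient_commutative_iff_commutator_le.mp inferInstance
  rw [Subgroup.mem_center_iff]
  exact hDcent _ ⟨hq M1 hi1 hmem, hq M2 hi2 hmem⟩

theorem comm_of_card_le {M : Type u} [Group M] [Finite M] (p : ℕ) [hp : Fact p.Prime] (k : ℕ)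
    (hk : k ≤ 2) (hcard : Nat.card M = p ^ k) : IsMulCommutative M := by
  interval_cases k
  · rw [pow_zero] at hcard
    have : Subsingleton M := (Nat.card_eq_one_iff_unique.mp hcard).1
    exact ⟨⟨fun a b => Subsingleton.elim _ _⟩⟩
  · rw [pow_one] at hcard
    have : IsCyclic M := isCyclic_of_prime_card hcard
    infer_instance
  · exact IsPGroup.isMulCommutative_of_card_eq_prime_sq hcard

theorem card_of_min_nonabelian {M : Type u} [Group M] [Finite M] (p : ℕ) [hp : Fact p.Prime]
    (hM : IsPGroup p M) (hexp : ∀ x : M, x ^ p = 1) (hna : ¬ IsMulCommutative M)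
    (hprop : ∀ H : Subgroup M, H ≠ ⊤ → IsMulCommutative H) : Nat.card M = p ^ 3 := by
  have hnc : ¬ IsCyclic M := fun h => hna inferInstance
  obtain ⟨x, y, hxy⟩ : ∃ x y : M, x * y ≠ y * x := by
    by_contra h
    push Not at h
    exact hna ⟨⟨h⟩⟩
  set c := ⁅x, y⁆ with hc
  have hcc : c ∈ Subgroup.center M := commutator_central p hM hnc hprop x y
  have hc1 : c ≠ 1 := by
    intro h
    rw [hc, commutatorElement_eq_one_iff_mul_comm] at h
    exact hxy h
  have hoc : orderOf c = p := orderOf_eq_prime (hexp c) hc1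
  set C0 := Subgroup.zpowers c with hC0
  have hC0c : C0 ≤ Subgroup.center M := by rw [hC0, Subgroup.zpowers_le]; exact hcc
  have hC0n : C0.Normal := ⟨fun n hn g => by
    have := Subgroup.mem_center_iff.mp (hC0c hn) g
    rw [this, mul_inv_cancel_right]; exact hn⟩
  have hC0card : Nat.card C0 = p := by rw [hC0, Nat.card_zpowers, hoc]
  have hgen : Subgroup.closure ({x, y} : Set M) = ⊤ := by
    by_contra h
    have := hprop _ h
    apply hxy
    have hx : x ∈ Subgroup.closure ({x, y} : Set M) := Subgroup.subset_closure (by simp)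
    have hy : y ∈ Subgroup.closure ({x, y} : Set M) := Subgroup.subset_closure (by simp)
    exact congrArg Subtype.val (mul_comm' (⟨x, hx⟩ : Subgroup.closure ({x, y} : Set M)) ⟨y, hy⟩)
  -- the quotient
  have hxyQ : (QuotientGroup.mk x : M ⧸ C0) * QuotientGroup.mk y =
      QuotientGroup.mk y * QuotientGroup.mk x := by
    have h1 : x * y = c * (y * x) := by rw [hc, commutatorElement_def]; group
    rw [← QuotientGroup.mk_mul, ← QuotientGroup.mk_mul, h1, QuotientGroup.mk_mul,
      (QuotientGroup.eq_one_iff c).mpr (Subgroup.mem_zpowers c), one_mul]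
  have hgenQ : Subgroup.closure ({QuotientGroup.mk x, QuotientGroup.mk y} : Set (M ⧸ C0)) = ⊤ := by
    have := congrArg (Subgroup.map (QuotientGroup.mk' C0)) hgen
    rw [MonoidHom.map_closure, Subgroup.map_top_of_surjective _ (QuotientGroup.mk'_surjective C0),
      Set.image_pair] at this
    exact this
  have hQcomm : ∀ a b : M ⧸ C0, a * b = b * a := by
    have hcl : IsMulCommutative (Subgroup.closure ({QuotientGroup.mk x, QuotientGroup.mk y} : Set (M ⧸ C0))) := by
      apply Subgroup.isMulCommutative_closure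
      intro a ha b hb
      simp only [Set.mem_insert_iff, Set.mem_singleton_iff] at ha hb
      rcases ha with rfl | rfl <;> rcases hb with rfl | rfl
      · rfl
      · exact hxyQ
      · exact hxyQ.symm
      · rfl
    intro a b
    have ha : a ∈ Subgroup.closure ({QuotientGroup.mk x, QuotientGroup.mk y} : Set (M ⧸ C0)) := by
      rw [hgenQ]; trivial
    have hb : b ∈ Subgroup.closure ({QuotientGroup.mk x, QuotientGroup.mk y} : Set (M ⧸ C0)) := by
      rw [hgenQ]; trivial
    exact congrArg Subtype.val (mul_comm' (⟨a, ha⟩ : Subgroup.closure _) ⟨b, hb⟩)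
  let _ : CommGroup (M ⧸ C0) := { (inferInstance : Group (M ⧸ C0)) with mul_comm := hQcomm }
  have hexpQ : ∀ a : M ⧸ C0, a ^ p = 1 := by
    intro a
    obtain ⟨g, rfl⟩ := QuotientGroup.mk_surjective a
    rw [← QuotientGroup.mk_pow, hexp, QuotientGroup.mk_one]
  classical
  have hle := Cfsg.Agent.S3969.card_closure_le (C := M ⧸ C0) p hp.out.pos hexpQ
    {QuotientGroup.mk x, QuotientGroup.mk y}
  have hS : ((({QuotientGroup.mk x, QuotientGroup.mk y} : Finset (M ⧸ C0)) : Set (M ⧸ C0))) =
      {QuotientGroup.mk x, QuotientGroup.mk y} := by simp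
  rw [hS, hgenQ, Subgroup.card_top] at hle
  have hQle : Nat.card (M ⧸ C0) ≤ p ^ 2 :=
    hle.trans (Nat.pow_le_pow_right hp.out.pos Finset.card_le_two)
  have hMcard : Nat.card M = Nat.card (M ⧸ C0) * p := by
    rw [← hC0card]; exact Subgroup.card_eq_card_quotient_mul_card_subgroup C0
  have hle3 : Nat.card M ≤ p ^ 3 := by
    rw [hMcard, pow_succ]; exact Nat.mul_le_mul_right p hQle
  obtain ⟨k, hk⟩ := IsPGroup.iff_card.mp hM
  have hk3 : 3 ≤ k := by
    by_contra h
    exact hna (comm_of_card_le p k (by omega) hk)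
  have hge3 : p ^ 3 ≤ Nat.card M := by rw [hk]; exact Nat.pow_le_pow_right hp.out.pos hk3
  omega

theorem zpowers_inf_eq_bot {G : Type u} [Group G] {p : ℕ} (hp : p.Prime) {x : G}
    (hx : orderOf x = p) (H : Subgroup G) (hxH : x ∉ H) : Subgroup.zpowers x ⊓ H = ⊥ := by
  have hfin : Finite (Subgroup.zpowers x) := by
    apply Nat.finite_of_card_ne_zero
    rw [Nat.card_zpowers, hx]; exact hp.ne_zero
  have h1 : Nat.card ↥(Subgroup.zpowers x ⊓ H) ∣ p := by
    have := Subgroup.card_dvd_of_le (inf_le_left : Subgroup.zpowers x ⊓ H ≤ Subgroup.zpowers x)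
    rwa [Nat.card_zpowers, hx] at this
  rcases (Nat.dvd_prime hp).mp h1 with h | h
  · exact Subgroup.card_eq_one.mp h
  · exfalso
    apply hxH
    have h2 : Subgroup.zpowers x ⊓ H = Subgroup.zpowers x :=
      Subgroup.eq_of_le_of_card_ge inf_le_left (by rw [h, Nat.card_zpowers, hx])
    have h3 : Subgroup.zpowers x ≤ H := by rw [← h2]; exact inf_le_right
    exact h3 (Subgroup.mem_zpowers x)

theorem exists_abelian_cube {P : Type u} [Group P] [Finite P] (p : ℕ) [hp : Fact p.Prime]
    (hP : IsPGroup p P) (hexp : ∀ x : P, x ^ p = 1) (hcard : p ^ 4 ≤ Nat.card P) :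
    ∃ A : Subgroup P, IsMulCommutative A ∧ Nat.card A = p ^ 3 := by
  classical
  have hp1 := hp.out.one_lt
  have hPnt : Nontrivial P := by
    rw [← Finite.one_lt_card_iff_nontrivial]
    calc 1 < p ^ 4 := Nat.one_lt_pow (by norm_num) hp1
      _ ≤ Nat.card P := hcard
  have hcn : Nontrivial (Subgroup.center P) := hP.center_nontrivial
  obtain ⟨⟨z, hzc⟩, hz1'⟩ := exists_ne (1 : Subgroup.center P)
  have hz1 : z ≠ 1 := fun h => hz1' (Subtype.ext h)
  have hoz : orderOf z = p := orderOf_eq_prime (hexp z) hz1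
  have hzcomm : ∀ g : P, g * z = z * g := Subgroup.mem_center_iff.mp hzc
  have hord : ∀ g : P, g ≠ 1 → orderOf g = p := fun g hg => orderOf_eq_prime (hexp g) hg
  -- choose y
  obtain ⟨y, hyz, hyC⟩ : ∃ y : P, y ∉ Subgroup.zpowers z ∧
      p ^ 3 ≤ Nat.card (Subgroup.centralizer ({y} : Set P)) := by
    by_cases hZ : Subgroup.center P = Subgroup.zpowers z
    · have hZcard : Nat.card (Subgroup.center P) = p := by rw [hZ, Nat.card_zpowers, hoz]
      have : Group.IsNilpotent P := hP.isNilpotent
      have hnle : ¬ (⊤ : Subgroup P) ≤ Subgroup.center P := by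
        intro h
        have h1 : Subgroup.center P = ⊤ := top_le_iff.mp h
        have h5 : Nat.card P = p := by rw [← hZcard, h1, Subgroup.card_top]
        have h6 : p ^ 1 < p ^ 4 := Nat.pow_lt_pow_right hp1 (by norm_num)
        rw [pow_one] at h6
        omega
      obtain ⟨y, -, hyZ, hy⟩ := Cfsg.Agent.Helper1.exists_mem_commutator_mem_of_not_le hnle
      refine ⟨y, by rwa [← hZ], ?_⟩
      have : Fintype P := Fintype.ofFinite _
      have horb : Nat.card (MulAction.orbit (ConjAct P) y) *
          Nat.card (Subgroup.centralizer ({y} : Set P)) = Nat.card P := by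
        rw [Subgroup.nat_card_centralizer_nat_card_stabilizer, Nat.card_eq_fintype_card,
          Nat.card_eq_fintype_card, Nat.card_eq_fintype_card,
          MulAction.card_orbit_mul_card_stabilizer_eq_card_group, ConjAct.card]
      have horble : Nat.card (MulAction.orbit (ConjAct P) y) ≤ p := by
        rw [← hZcard]
        apply Nat.card_le_card_of_injective
          (fun o : MulAction.orbit (ConjAct P) y => (⟨o.1 * y⁻¹, by
            obtain ⟨g, hg⟩ := o.2
            have h1 : o.1 = ConjAct.ofConjAct g * y * (ConjAct.ofConjAct g)⁻¹ := by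
              rw [← hg]; rfl
            have h2 : o.1 * y⁻¹ = (⁅y, ConjAct.ofConjAct g⁆)⁻¹ := by
              rw [h1, commutatorElement_def]; group
            rw [h2]
            exact Subgroup.inv_mem _ (hy _)⟩ : Subgroup.center P))
        intro o o' hoo'
        have : o.1 * y⁻¹ = o'.1 * y⁻¹ := congrArg Subtype.val hoo'
        exact Subtype.ext (mul_right_cancel this)
      have hcpos : 0 < Nat.card (Subgroup.centralizer ({y} : Set P)) := Nat.card_pos
      by_contra hlt
      push Not at hlt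
      have : Nat.card P < p * p ^ 3 := by
        rw [← horb]
        calc _ ≤ p * Nat.card (Subgroup.centralizer ({y} : Set P)) := Nat.mul_le_mul_right _ horble
          _ < p * p ^ 3 := Nat.mul_lt_mul_of_pos_left hlt hp.out.pos
      have h4 : p * p ^ 3 = p ^ 4 := by ring
      omega
    · have hle : Subgroup.zpowers z ≤ Subgroup.center P := by rwa [Subgroup.zpowers_le]
      have hlt : Subgroup.zpowers z < Subgroup.center P := lt_of_le_of_ne hle (Ne.symm hZ)
      obtain ⟨y, hyc, hyz⟩ := SetLike.exists_of_lt hlt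
      refine ⟨y, hyz, ?_⟩
      have : Subgroup.centralizer ({y} : Set P) = ⊤ := by
        rw [eq_top_iff]
        intro g _
        rw [Subgroup.mem_centralizer_singleton_iff]
        exact Subgroup.mem_center_iff.mp hyc g
      rw [this, Subgroup.card_top]
      calc p ^ 3 ≤ p ^ 4 := Nat.pow_le_pow_right hp.out.pos (by norm_num)
        _ ≤ Nat.card P := hcard
  have hy1 : y ≠ 1 := fun h => hyz (h ▸ Subgroup.one_mem _)
  have hoy : orderOf y = p := hord y hy1
  -- N0
  set N0 := Subgroup.zpowers z ⊔ Subgroup.zpowers y with hN0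
  have hN0card : Nat.card N0 = p ^ 2 := by
    have hnorm : Subgroup.zpowers y ≤ Subgroup.normalizer (Subgroup.zpowers z : Set P) := by
      have : (Subgroup.zpowers z).Normal := ⟨fun n hn g => by
        obtain ⟨t, rfl⟩ := Subgroup.mem_zpowers_iff.mp hn
        have hc : Commute g z := hzcomm g
        rw [(hc.zpow_right t).eq, mul_inv_cancel_right]; exact hn⟩
      rw [Subgroup.normalizer_eq_top]; exact le_top
    rw [hN0, Cfsg.Agent.Helper1.card_sup_of_le_normalizer hnorm
      (zpowers_inf_eq_bot hp.out hoy _ hyz), Nat.card_zpowers, Nat.card_zpowers, hoy, hoz, pow_two]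
  set C := Subgroup.centralizer ({y} : Set P) with hC
  have hN0C : N0 ≤ C := by
    rw [hN0]
    apply sup_le
    · rw [Subgroup.zpowers_le, hC, Subgroup.mem_centralizer_singleton_iff]; exact (hzcomm y).symm
    · rw [Subgroup.zpowers_le, hC, Subgroup.mem_centralizer_singleton_iff]
  have hlt : N0 < C := by
    refine lt_of_le_of_ne hN0C (fun h => ?_)
    rw [← h, hN0card] at hyC
    have : p ^ 2 < p ^ 3 := Nat.pow_lt_pow_right hp1 (by norm_num)
    omega
  obtain ⟨x, hxC, hxN0⟩ := SetLike.exists_of_lt hlt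
  have hx1 : x ≠ 1 := fun h => hxN0 (h ▸ Subgroup.one_mem _)
  have hox : orderOf x = p := hord x hx1
  have hxy : x * y = y * x := Subgroup.mem_centralizer_singleton_iff.mp hxC
  have hcommS : ∀ a ∈ ({z, y, x} : Set P), ∀ b ∈ ({z, y, x} : Set P), a * b = b * a := by
    intro a ha b hb
    simp only [Set.mem_insert_iff, Set.mem_singleton_iff] at ha hb
    rcases ha with rfl | rfl | rfl <;> rcases hb with rfl | rfl | rfl
    · rfl
    · exact (hzcomm _).symm
    · exact (hzcomm _).symm
    · exact hzcomm _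
    · rfl
    · exact hxy.symm
    · exact hzcomm _
    · exact hxy
    · rfl
  have hclS := Subgroup.isMulCommutative_closure hcommS
  have hzS : z ∈ Subgroup.closure ({z, y, x} : Set P) := Subgroup.subset_closure (by simp)
  have hyS : y ∈ Subgroup.closure ({z, y, x} : Set P) := Subgroup.subset_closure (by simp)
  have hxS : x ∈ Subgroup.closure ({z, y, x} : Set P) := Subgroup.subset_closure (by simp)
  have hAle : N0 ⊔ Subgroup.zpowers x ≤ Subgroup.closure ({z, y, x} : Set P) := by
    rw [hN0]
    refine sup_le (sup_le ?_ ?_) ?_ <;> rw [Subgroup.zpowers_le] <;> assumption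
  refine ⟨N0 ⊔ Subgroup.zpowers x, ⟨⟨fun a b => Subtype.ext ?_⟩⟩, ?_⟩
  · change (a : P) * b = b * a
    exact congrArg Subtype.val (mul_comm' (⟨a.1, hAle a.2⟩ : Subgroup.closure ({z, y, x} : Set P))
      ⟨b.1, hAle b.2⟩)
  · have hnorm : Subgroup.zpowers x ≤ Subgroup.normalizer (N0 : Set P) := by
      have hcen : N0 ≤ Subgroup.centralizer ({x} : Set P) := by
        rw [hN0]
        apply sup_le
        · rw [Subgroup.zpowers_le, Subgroup.mem_centralizer_singleton_iff]; exact (hzcomm x).symm
        · rw [Subgroup.zpowers_le, Subgroup.mem_centralizer_singleton_iff]; exact hxy.symm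
      rw [Subgroup.zpowers_le, Subgroup.mem_normalizer_iff]
      intro n
      constructor
      · intro hn
        have := Subgroup.mem_centralizer_singleton_iff.mp (hcen hn)
        rw [← this, mul_inv_cancel_right]; exact hn
      · intro hn
        have h5 := Subgroup.mem_centralizer_singleton_iff.mp (hcen hn)
        have h6 : n = x⁻¹ * (x * n * x⁻¹) * x := by group
        have h7 : x⁻¹ * (x * n * x⁻¹) * x = x * n * x⁻¹ := by
          rw [mul_assoc, h5, inv_mul_cancel_left]
        rw [h6, h7]; exact hn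
    rw [Cfsg.Agent.Helper1.card_sup_of_le_normalizer hnorm
      (zpowers_inf_eq_bot hp.out hox _ hxN0), Nat.card_zpowers, hox, hN0card]
    ring

theorem comm_of_map_comm {G H : Type*} [Group G] [Group H] (f : G →* H) (hf : Function.Injective f)
    (K : Subgroup G) (h : IsMulCommutative (K.map f)) : IsMulCommutative K := by
  refine ⟨⟨fun a b => Subtype.ext (hf ?_)⟩⟩
  have := mul_comm' (⟨f a, Subgroup.mem_map_of_mem f a.2⟩ : K.map f)
    ⟨f b, Subgroup.mem_map_of_mem f b.2⟩
  have h2 : f a * f b = f b * f a := congrArg Subtype.val this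
  change f (a * b : G) = f (b * a : G)
  rw [map_mul, map_mul, h2]

theorem exists_nonabelian_cube {P : Type u} [Group P] [Finite P] (p : ℕ) [hp : Fact p.Prime]
    (hP : IsPGroup p P) (hexp : ∀ x : P, x ^ p = 1) : ∀ (n : ℕ) (M : Subgroup P),
    Nat.card M = n → ¬ IsMulCommutative M →
    ∃ M' : Subgroup P, M' ≤ M ∧ ¬ IsMulCommutative M' ∧ Nat.card M' = p ^ 3 := by
  intro n
  induction n using Nat.strong_induction_on with
  | _ n ih =>
  intro M hn hna
  by_cases hprop : ∀ H : Subgroup ↥M, H ≠ ⊤ → IsMulCommutative H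
  · refine ⟨M, le_rfl, hna, ?_⟩
    exact card_of_min_nonabelian p (hP.to_subgroup M) (fun x => Subtype.ext (by simpa using hexp x.1))
      hna hprop
  · push Not at hprop
    obtain ⟨H, hHtop, hHna⟩ := hprop
    have hlt : Nat.card (H.map M.subtype) < n := by
      rw [← hn, Subgroup.card_map_of_injective M.subtype_injective]
      exact lt_of_le_of_ne (Subgroup.card_le_card_group H)
        (fun h => hHtop (Subgroup.eq_top_of_card_eq H h))
    have hna' : ¬ IsMulCommutative (H.map M.subtype) :=
      fun h => hHna (comm_of_map_comm M.subtype M.subtype_injective H h)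
    obtain ⟨M', hM'le, hM'na, hM'card⟩ := ih _ hlt (H.map M.subtype) rfl hna'
    exact ⟨M', hM'le.trans (Subgroup.map_subtype_le H), hM'na, hM'card⟩

theorem pow_a_eq {N : ℕ} (i : ZMod (2 * N)) (k : ℕ) :
    ∃ j, (QuaternionGroup.a i : QuaternionGroup N) ^ k = QuaternionGroup.a j := by
  induction k with
  | zero => exact ⟨0, by rw [pow_zero, QuaternionGroup.one_def]⟩
  | succ k ih =>
    obtain ⟨j, hj⟩ := ih
    exact ⟨j + i, by rw [pow_succ, hj, QuaternionGroup.a_mul_a]⟩

theorem quat_excl {G : Type u} [Group G] [Finite G]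
    (hC : ∀ H K : Subgroup G, IsPGroup 2 H → IsPGroup 2 K → Nat.card H = Nat.card K →
      ∃ g : G, K = H.map (MulAut.conj g).toMonoidHom) (P : Sylow 2 G) (n : ℕ) (hn : 2 ≤ n)
    (e : ↥(P : Subgroup G) ≃* QuaternionGroup (2 ^ n)) : False := by
  have : Fact (Nat.Prime 2) := ⟨Nat.prime_two⟩
  have : NeZero (2 ^ n) := ⟨(pow_pos two_pos n).ne'⟩
  set x0' : ↥(P : Subgroup G) := e.symm (QuaternionGroup.xa 0) with hx0'
  have hox0 : orderOf x0' = 4 := by rw [hx0', MulEquiv.orderOf_eq, QuaternionGroup.orderOf_xa]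
  have hPcard : Nat.card ↥(P : Subgroup G) = 2 ^ (n + 2) := by
    rw [Nat.card_congr e.toEquiv, Nat.card_eq_fintype_card, QuaternionGroup.card, pow_add]; ring
  have hdvd : 2 ^ 3 ∣ Nat.card ↥(P : Subgroup G) := by
    rw [hPcard]; exact pow_dvd_pow 2 (by omega)
  obtain ⟨H', hH'card, hH'le⟩ := Sylow.exists_subgroup_card_pow_prime_le 2 hdvd
    (Subgroup.zpowers x0') (n := 2) (by rw [Nat.card_zpowers, hox0]; norm_num) (by norm_num)
  set H := H'.map (P : Subgroup G).subtype with hH
  have hHcard : Nat.card H = 2 ^ 3 := by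
    rw [hH, Subgroup.card_map_of_injective (Subgroup.subtype_injective _), hH'card]
  -- a cyclic subgroup of order 8
  set y0' : ↥(P : Subgroup G) := e.symm (QuaternionGroup.a 1) with hy0'
  have hoy0 : orderOf y0' = 2 ^ (n + 1) := by
    rw [hy0', MulEquiv.orderOf_eq, QuaternionGroup.orderOf_a_one, pow_succ]; ring
  set y1 : G := ((y0' ^ (2 ^ (n - 2)) : ↥(P : Subgroup G)) : G) with hy1
  have hoy1 : orderOf y1 = 2 ^ 3 := by
    rw [hy1, Subgroup.orderOf_coe, orderOf_pow_of_dvd (pow_pos two_pos _).ne'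
      (by rw [hoy0]; exact pow_dvd_pow 2 (by omega)), hoy0, Nat.pow_div (by omega) two_pos]
    congr 1; omega
  obtain ⟨g, hg⟩ := hC (Subgroup.zpowers y1) H
    (IsPGroup.of_card (n := 3) (by rw [Nat.card_zpowers, hoy1]))
    (IsPGroup.of_card hHcard) (by rw [hHcard, Nat.card_zpowers, hoy1])
  rw [MonoidHom.map_zpowers] at hg
  set w := (MulAut.conj g).toMonoidHom y1 with hw
  have how : orderOf w = 2 ^ 3 := by
    rw [hw, ← hoy1]; exact (MulAut.conj g).orderOf_eq y1
  have hwH : w ∈ H := by rw [hg]; exact Subgroup.mem_zpowers w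
  have hwP : w ∈ (P : Subgroup G) := Subgroup.map_subtype_le H' hwH
  have hx0H : (x0' : G) ∈ H := by
    rw [hH]; exact Subgroup.mem_map_of_mem _ (hH'le (Subgroup.mem_zpowers x0'))
  rw [hg, ← (isOfFinOrder_of_finite w).mem_powers_iff_mem_zpowers] at hx0H
  obtain ⟨k, hk⟩ := (Submonoid.mem_powers_iff _ _).mp hx0H
  set q := e ⟨w, hwP⟩ with hq
  have hoq : orderOf q = 2 ^ 3 := by
    rw [hq, MulEquiv.orderOf_eq, Subgroup.orderOf_mk, how]
  have hqk : q ^ k = QuaternionGroup.xa 0 := by
    rw [hq, ← map_pow]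
    have : (⟨w, hwP⟩ : ↥(P : Subgroup G)) ^ k = x0' := Subtype.ext (by simpa using hk)
    rw [this, hx0', MulEquiv.apply_symm_apply]
  rcases hqq : q with i | i
  · rw [hqq] at hqk
    obtain ⟨j, hj⟩ := pow_a_eq i k
    rw [hj] at hqk
    cases hqk
  · rw [hqq, QuaternionGroup.orderOf_xa] at hoq
    norm_num at hoq

theorem lemmaA {G : Type*} [Group G] [Finite G] {p : ℕ} [hp : Fact p.Prime] (hC : ∀ H K : Subgroup G, IsPGroup p H → IsPGroup p K → Nat.card H = Nat.card K →
      ∃ g : G, K = H.map (MulAut.conj g).toMonoidHom) (P : Sylow p G) :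
    (∀ x ∈ (P : Subgroup G), x ^ p = 1) ∨
    (∀ H K : Subgroup G, H ≤ P → K ≤ P → Nat.card H = p → Nat.card K = p → H = K) := by
  by_cases hexp : ∀ x ∈ (P : Subgroup G), x ^ p = 1
  · exact Or.inl hexp
  right
  push Not at hexp
  obtain ⟨y0, hy0P, hy0⟩ := hexp
  -- an element of order p^2
  obtain ⟨k, hk⟩ := (IsPGroup.iff_orderOf.mp P.isPGroup') ⟨y0, hy0P⟩
  rw [Subgroup.orderOf_mk] at hk
  have hk2 : 2 ≤ k := by
    by_contra h
    apply hy0
    have : orderOf y0 ∣ p := by
      rw [hk]
      have : k ≤ 1 := by omega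
      calc p ^ k ∣ p ^ 1 := pow_dvd_pow p this
        _ = p := pow_one p
    exact orderOf_dvd_iff_pow_eq_one.mp this
  set y := y0 ^ (p ^ (k - 2)) with hy
  have hoy : orderOf y = p ^ (1 + 1) := by
    rw [hy, orderOf_pow_of_dvd (pow_pos hp.out.pos _).ne' (by rw [hk]; exact pow_dvd_pow p (Nat.sub_le k 2)),
      hk, Nat.pow_div (Nat.sub_le k 2) hp.out.pos]
    congr 1; omega
  -- a central element of order p
  have hPnt : Nontrivial ↥(P : Subgroup G) := by
    refine ⟨⟨⟨y0, hy0P⟩, 1, fun h => hy0 ?_⟩⟩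
    have : y0 = 1 := congrArg Subtype.val h
    rw [this, one_pow]
  have hcn : Nontrivial (Subgroup.center ↥(P : Subgroup G)) := P.isPGroup'.center_nontrivial
  obtain ⟨j, hj0, hj⟩ := (P.isPGroup'.to_subgroup (Subgroup.center ↥(P : Subgroup G))).nontrivial_iff_card.mp hcn
  have hdvd : p ∣ Nat.card (Subgroup.center ↥(P : Subgroup G)) := by
    rw [hj]; exact dvd_pow_self p (Nat.pos_iff_ne_zero.mp hj0)
  obtain ⟨z, hz⟩ := exists_prime_orderOf_dvd_card' p hdvd
  set z0 : G := ((z : ↥(P : Subgroup G)) : G) with hz0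
  have hz0P : z0 ∈ (P : Subgroup G) := (z : ↥(P : Subgroup G)).2
  have hoz : orderOf z0 = p := by
    rw [hz0, Subgroup.orderOf_coe, Subgroup.orderOf_coe]; exact hz
  have hzcomm : ∀ x ∈ (P : Subgroup G), x * z0 = z0 * x := by
    intro x hx
    have := Subgroup.mem_center_iff.mp z.2 ⟨x, hx⟩
    exact congrArg Subtype.val this
  have key : ∀ U : Subgroup G, U ≤ P → Nat.card U = p → U = Subgroup.zpowers z0 := by
    intro U hUP hU
    by_contra hne
    have hZcard : Nat.card (Subgroup.zpowers z0) = p := by rw [Nat.card_zpowers, hoz]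
    have hdisj : U ⊓ Subgroup.zpowers z0 = ⊥ := by
      have h1 : Nat.card ↥(U ⊓ Subgroup.zpowers z0) ∣ p := by
        rw [← hU]; exact Subgroup.card_dvd_of_le inf_le_left
      rcases (Nat.dvd_prime hp.out).mp h1 with h | h
      · exact Subgroup.card_eq_one.mp h
      · exfalso
        apply hne
        have h2 : U ⊓ Subgroup.zpowers z0 = U :=
          Subgroup.eq_of_le_of_card_ge inf_le_left (by rw [h, hU])
        have h3 : U ≤ Subgroup.zpowers z0 := by rw [← h2]; exact inf_le_right
        exact Subgroup.eq_of_le_of_card_ge h3 (by rw [hZcard, hU])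
    have hnorm : U ≤ Subgroup.normalizer (Subgroup.zpowers z0 : Set G) := by
      intro u hu
      rw [Subgroup.mem_normalizer_iff]
      have hc : Commute u z0 := hzcomm u (hUP hu)
      intro h
      constructor
      · intro hh
        obtain ⟨t, rfl⟩ := Subgroup.mem_zpowers_iff.mp hh
        have : u * z0 ^ t * u⁻¹ = z0 ^ t := by
          rw [(hc.zpow_right t).eq, mul_inv_cancel_right]
        rw [this]; exact hh
      · intro hh
        obtain ⟨t, ht⟩ := Subgroup.mem_zpowers_iff.mp hh
        have : h = z0 ^ t := by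
          have h5 : h = u⁻¹ * (u * h * u⁻¹) * u := by group
          rw [h5, ← ht, mul_assoc, ← (hc.zpow_right t).eq, inv_mul_cancel_left]
        rw [this]; exact Subgroup.zpow_mem_zpowers z0 t
    have hEcard : Nat.card (Subgroup.zpowers z0 ⊔ U : Subgroup G) = p ^ 2 := by
      rw [Cfsg.Agent.Helper1.card_sup_of_le_normalizer hnorm hdisj, hU, hZcard, pow_two]
    obtain ⟨g, hg⟩ := hC (Subgroup.zpowers y) (Subgroup.zpowers z0 ⊔ U)
      (IsPGroup.of_card (n := 2) (by rw [Nat.card_zpowers, hoy])) (IsPGroup.of_card hEcard)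
      (by rw [hEcard, Nat.card_zpowers, hoy])
    rw [MonoidHom.map_zpowers] at hg
    set w := (MulAut.conj g).toMonoidHom y with hw
    have how : orderOf w = p ^ (1 + 1) := by
      rw [hw, ← hoy]
      exact (MulAut.conj g).orderOf_eq y
    have hZle : Subgroup.zpowers z0 ≤ Subgroup.zpowers (w ^ (p ^ 1)) := by
      rw [Subgroup.zpowers_le]
      apply Cfsg.Agent.S3977.mem_zpowers_pow hp.out how
      · rw [← hg]; exact (le_sup_left : _ ≤ Subgroup.zpowers z0 ⊔ U) (Subgroup.mem_zpowers z0)
      · rw [← hoz]; exact pow_orderOf_eq_one z0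
    have hUle : U ≤ Subgroup.zpowers (w ^ (p ^ 1)) := by
      intro u hu
      apply Cfsg.Agent.S3977.mem_zpowers_pow hp.out how
      · rw [← hg]; exact (le_sup_right : _ ≤ Subgroup.zpowers z0 ⊔ U) hu
      · have : (⟨u, hu⟩ : U) ^ p = 1 := by rw [← hU]; exact pow_card_eq_one'
        simpa using congrArg Subtype.val this
    have hWcard : Nat.card (Subgroup.zpowers (w ^ (p ^ 1))) = p := by
      rw [Nat.card_zpowers, orderOf_pow_of_dvd (pow_pos hp.out.pos _).ne'
        (by rw [how]; exact pow_dvd_pow p (Nat.le_succ 1)), how, pow_succ,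
        Nat.mul_div_cancel_left _ (pow_pos hp.out.pos _)]
    have e1 : Subgroup.zpowers z0 = Subgroup.zpowers (w ^ (p ^ 1)) :=
      Subgroup.eq_of_le_of_card_ge hZle (by rw [hWcard, hZcard])
    have e2 : U = Subgroup.zpowers (w ^ (p ^ 1)) :=
      Subgroup.eq_of_le_of_card_ge hUle (by rw [hWcard, hU])
    exact hne (e2.trans e1.symm)
  intro H K hH hK hHc hKc
  rw [key H hH hHc, key K hK hKc]


/-- Let p be a prime and G a finite group in which any two p-subgroups of the same order are conjugate, with Sylow p-subgroup P. Then P is cyclic, or elementary abelian, or p = 2 and P is a quaternion group of order 8, or p is odd and P is non-abelian of order p³ and exponent p. -/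
theorem result {G : Type*} [Group G] [Finite G]
    {p : ℕ} [Fact p.Prime] (hC : ∀ H K : Subgroup G, IsPGroup p H → IsPGroup p K → Nat.card H = Nat.card K →
      ∃ g : G, K = H.map (MulAut.conj g).toMonoidHom) (P : Sylow p G) :
    IsCyclic P ∨ Cfsg.IsElementaryAbelian p (P : Subgroup G) ∨
      (p = 2 ∧ Nonempty ((P : Subgroup G) ≃* QuaternionGroup 2)) ∨
      (p ≠ 2 ∧ ¬ IsMulCommutative P ∧ Nat.card P = p ^ 3 ∧ Monoid.exponent P = p) := by
  have huniqP : (∀ H K : Subgroup G, H ≤ P → K ≤ P → Nat.card H = p → Nat.card K = p → H = K) →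
      ∀ H K : Subgroup ↥(P : Subgroup G), Nat.card H = p → Nat.card K = p → H = K := by
    intro h H K hH hK
    have := h (H.map (P : Subgroup G).subtype) (K.map (P : Subgroup G).subtype)
      (Subgroup.map_subtype_le _) (Subgroup.map_subtype_le _)
      (by rw [Subgroup.card_map_of_injective (Subgroup.subtype_injective _), hH])
      (by rw [Subgroup.card_map_of_injective (Subgroup.subtype_injective _), hK])
    exact Subgroup.map_injective (Subgroup.subtype_injective _) this
  have hp : p.Prime := Fact.out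
  rcases lemmaA hC P with hexp | huniq
  · by_cases hcomm : IsMulCommutative ↥(P : Subgroup G)
    · exact Or.inr (Or.inl ⟨hcomm, hexp⟩)
    right; right; right
    have hexp' : ∀ x : ↥(P : Subgroup G), x ^ p = 1 := fun x =>
      Subtype.ext (by simpa using hexp x.1 x.2)
    have hp2 : p ≠ 2 := by
      rintro rfl
      apply hcomm
      refine ⟨⟨fun x y => Subtype.ext ?_⟩⟩
      have hx := hexp x x.2
      have hy := hexp y y.2
      have hxy := hexp (x * y) ((P : Subgroup G).mul_mem x.2 y.2)
      have hxi : (x : G)⁻¹ = x := by rw [inv_eq_iff_mul_eq_one, ← pow_two]; exact hx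
      have hyi : (y : G)⁻¹ = y := by rw [inv_eq_iff_mul_eq_one, ← pow_two]; exact hy
      have hxyi : ((x : G) * y)⁻¹ = x * y := by rw [inv_eq_iff_mul_eq_one, ← pow_two]; exact hxy
      change (x : G) * y = y * x
      rw [← hxyi, mul_inv_rev, hxi, hyi]
    have hnt : Nontrivial ↥(P : Subgroup G) := by
      by_contra h
      rw [not_nontrivial_iff_subsingleton] at h
      exact hcomm ⟨⟨fun a b => Subsingleton.elim _ _⟩⟩
    refine ⟨hp2, hcomm, ?_, ?_⟩
    · obtain ⟨k, hk⟩ := IsPGroup.iff_card.mp P.isPGroup'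
      have hk3 : 3 ≤ k := by
        by_contra h
        exact hcomm (comm_of_card_le p k (by omega) hk)
      by_contra hne
      have hk4 : 4 ≤ k := by
        rcases Nat.lt_or_ge k 4 with h | h
        · exfalso; apply hne
          have : k = 3 := by omega
          rw [hk, this]
        · exact h
      have hcard4 : p ^ 4 ≤ Nat.card ↥(P : Subgroup G) := by
        rw [hk]; exact Nat.pow_le_pow_right hp.pos hk4
      obtain ⟨A, hAcomm, hAcard⟩ := exists_abelian_cube p P.isPGroup' hexp' hcard4
      have hna_top : ¬ IsMulCommutative (⊤ : Subgroup ↥(P : Subgroup G)) := by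
        intro h
        apply hcomm
        exact ⟨⟨fun a b => congrArg Subtype.val
          (mul_comm' (⟨a, Subgroup.mem_top a⟩ : (⊤ : Subgroup ↥(P : Subgroup G))) ⟨b, Subgroup.mem_top b⟩)⟩⟩
      obtain ⟨M, -, hMna, hMcard⟩ := exists_nonabelian_cube p P.isPGroup' hexp' _ ⊤ rfl hna_top
      set M' := M.map (P : Subgroup G).subtype with hM'
      set A' := A.map (P : Subgroup G).subtype with hA'
      have hM'card : Nat.card M' = p ^ 3 := by
        rw [hM', Subgroup.card_map_of_injective (Subgroup.subtype_injective _), hMcard]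
      have hA'card : Nat.card A' = p ^ 3 := by
        rw [hA', Subgroup.card_map_of_injective (Subgroup.subtype_injective _), hAcard]
      obtain ⟨g, hg⟩ := hC M' A' (IsPGroup.of_card hM'card) (IsPGroup.of_card hA'card)
        (hM'card.trans hA'card.symm)
      have hA'comm : IsMulCommutative A' := by rw [hA']; infer_instance
      rw [hg] at hA'comm
      have hM'comm : IsMulCommutative M' :=
        comm_of_map_comm (MulAut.conj g).toMonoidHom (MulAut.conj g).injective M' hA'comm
      exact hMna (comm_of_map_comm _ (Subgroup.subtype_injective _) M hM'comm)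
    · rw [Monoid.exponent_eq_prime_iff hp]
      intro x hx
      exact orderOf_eq_prime (hexp' x) hx
  · rcases Cfsg.Agent.S0016.result p P.isPGroup' (huniqP huniq) with h | ⟨hp2, n, ⟨e⟩⟩
    · exact Or.inl h
    subst hp2
    rcases Nat.lt_or_ge n 2 with hn | hn
    · interval_cases n
      · left
        have e' : ↥(P : Subgroup G) ≃* QuaternionGroup 1 := e
        have := QuaternionGroup.quaternionGroup_one_isCyclic
        exact isCyclic_of_surjective e'.symm e'.symm.surjective
      · right; right; left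
        have e' : ↥(P : Subgroup G) ≃* QuaternionGroup 2 := e
        exact ⟨rfl, ⟨e'⟩⟩
    · exact (quat_excl hC P n hn e).elim

end Cfsg.Agent.S4023
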