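import Mathlib
import Cfsg.Statements.S4024
import Cfsg.Agent.Helper3.ConjPA
-- import your own Cfsg.Agent.* helpers here

set_option autoImplicit false
open Cfsg

namespace Cfsg.Agent.S4024

open Cfsg.Agent.Helper3.ConjP

/-- Let p be an odd prime and G a finite group in which any two p-subgroups of the same order are conjugate, with Sylow p-subgroup P. If H is a normal p-solvable subgroup of G whose order is divisible by p, then P is abelian, and either P ≤ H or P is cyclic. -/
theorem result {G : Type*} [Group G] [Finite G]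
    {p : ℕ} [Fact p.Prime] (hp : p ≠ 2) (hC : ∀ H K : Subgroup G, IsPGroup p H → IsPGroup p K → Nat.card H = Nat.card K →
      ∃ g : G, K = H.map (MulAut.conj g).toMonoidHom) (P : Sylow p G)
    (H : Subgroup G) [H.Normal] (hsolv : Cfsg.IsPSolvable p H) (hdiv : p ∣ Nat.card H) :
    IsMulCommutative P ∧ ((P : Subgroup G) ≤ H ∨ IsCyclic P) := by
  have hC' : CP p G := hC
  have h2 : (P : Subgroup G) ≤ H ∨ IsCyclic P :=
    le_or_cyclic hp hC' P H (inter_ne_bot P H hdiv)
  refine ⟨?_, h2⟩
  have h3 := abelian_aux hp _ G rfl hC' P H hsolv hdiv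
  exact ⟨⟨fun a b => Subtype.ext (h3 a a.2 b b.2)⟩⟩


end Cfsg.Agent.S4024
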