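import Mathlib
import Cfsg.Statements.S4027
import Cfsg.Agent.S3861

set_option autoImplicit false
open Cfsg

namespace Cfsg.Agent.S4027

/-- Let G be a finite group in which every element x of odd order satisfies N_G(⟨x⟩) = C_G(x). Then the Sylow 2-subgroups of G are normal. -/
theorem result {G : Type*} [Group G] [Finite G]
    (hirr : ∀ x : G, (∀ r : ℕ, r.Prime → r ∣ orderOf x → r ≠ 2) →
      Subgroup.normalizer ((Subgroup.zpowers x : Subgroup G) : Set G) ≤ Subgroup.centralizer {x}) (P : Sylow 2 G) :
    (P : Subgroup G).Normal := by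
  apply Cfsg.Agent.S3861.normal_of_noReal _ P
  intro x hx1 hodd hconj
  obtain ⟨g, hg⟩ := isConj_iff.1 hconj
  have hprime : ∀ r : ℕ, r.Prime → r ∣ orderOf x → r ≠ 2 := by
    rintro r - hr rfl
    exact (Nat.not_even_iff_odd.2 hodd) (even_iff_two_dvd.2 hr)
  have hgN : g ∈ Subgroup.normalizer ((Subgroup.zpowers x : Subgroup G) : Set G) := by
    have hfwd : ∀ u ∈ Subgroup.zpowers x, g * u * g⁻¹ ∈ Subgroup.zpowers x := by
      rintro u ⟨k, rfl⟩
      have : g * x ^ k * g⁻¹ = (x⁻¹) ^ k := by
        rw [← hg]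
        exact (conj_zpow (a := g) (b := x) (i := k)).symm
      rw [this]
      exact Subgroup.zpow_mem _ (Subgroup.inv_mem _ (Subgroup.mem_zpowers x)) k
    have hle : Subgroup.map (MulAut.conj g).toMonoidHom (Subgroup.zpowers x) ≤ Subgroup.zpowers x := by
      rintro _ ⟨u, hu, rfl⟩
      exact hfwd u hu
    rw [Subgroup.mem_normalizer_iff]
    intro u
    refine ⟨hfwd u, fun hu => ?_⟩
    -- finite: conjugation is a bijection of the finite set zpowers x
    have hinj : Function.Injective (fun u : Subgroup.zpowers x =>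
        (⟨g * u * g⁻¹, hfwd u u.2⟩ : Subgroup.zpowers x)) := by
      intro a b hab
      have := congrArg Subtype.val hab
      simp only [mul_left_inj, mul_right_inj] at this
      exact Subtype.ext this
    obtain ⟨⟨v, hv⟩, hv'⟩ := (Finite.injective_iff_surjective.1 hinj) ⟨g * u * g⁻¹, hu⟩
    have := congrArg Subtype.val hv'
    simp only [mul_left_inj, mul_right_inj] at this
    rw [← this]; exact hv
  have hgC := hirr x hprime hgN
  rw [Subgroup.mem_centralizer_iff] at hgC
  have hcomm : x * g = g * x := hgC x (Set.mem_singleton x)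
  have hxx : x = x⁻¹ := by
    rw [← hg, ← hcomm]; group
  have hx2 : x ^ 2 = 1 := by
    rw [pow_two]
    nth_rewrite 2 [hxx]
    exact mul_inv_cancel x
  have hd : orderOf x ∣ 2 := orderOf_dvd_of_pow_eq_one hx2
  rcases (Nat.dvd_prime Nat.prime_two).1 hd with h1 | h2
  · exact hx1 (orderOf_eq_one_iff.1 h1)
  · rw [h2] at hodd
    exact absurd hodd (by decide)

end Cfsg.Agent.S4027
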