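import Mathlib
import Cfsg.Statements.S4028

set_option autoImplicit false
open Cfsg
open scoped Pointwise

namespace Cfsg.Agent.S4028

variable {G : Type*} [Group G]

/-- an odd-order element normalizing a cyclic `2`-group centralizes it -/
theorem odd_centralizes [Finite G] (x u : G) (n : ℕ) (hx : orderOf x = 2 ^ n)
    (hu : Odd (orderOf u))
    (hux : u ∈ Subgroup.normalizer ((Subgroup.zpowers x : Subgroup G) : Set G)) :
    u * x = x * u := by
  have hmem : u * x * u⁻¹ ∈ Subgroup.zpowers x :=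
    (Subgroup.mem_normalizer_iff.1 hux x).1 (Subgroup.mem_zpowers x)
  obtain ⟨k, hk⟩ := (mem_powers_iff_mem_zpowers).2 hmem
  have hk' : u * x * u⁻¹ = x ^ k := hk.symm
  have hpow : ∀ j : ℕ, u ^ j * x * (u ^ j)⁻¹ = x ^ (k ^ j) := by
    intro j
    induction j with
    | zero => simp
    | succ j ih =>
      have e1 : u ^ (j + 1) * x * (u ^ (j + 1))⁻¹ = u * (u ^ j * x * (u ^ j)⁻¹) * u⁻¹ := by
        rw [pow_succ']; group
      rw [e1, ih, ← conj_pow, hk', ← pow_mul, pow_succ']
  set j := orderOf u with hj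
  have h1 : x ^ (k ^ j) = x ^ 1 := by
    rw [← hpow j, pow_orderOf_eq_one, one_mul, inv_one, mul_one, pow_one]
  have h2 : k ^ j ≡ 1 [MOD 2 ^ n] := by
    rw [← hx]; exact pow_eq_pow_iff_modEq.1 h1
  have hjpos : 0 < j := orderOf_pos u
  have hcop : Nat.Coprime k (2 ^ n) := by
    have h3 : Nat.gcd (k ^ j) (2 ^ n) = Nat.gcd 1 (2 ^ n) := h2.gcd_eq
    rw [Nat.gcd_one_left] at h3
    exact Nat.Coprime.coprime_dvd_left (dvd_pow_self k hjpos.ne') h3
  have hkmod : k ≡ 1 [MOD 2 ^ n] := by
    rcases Nat.eq_zero_or_pos n with hn | hn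
    · rw [hn, pow_zero]; exact Nat.modEq_one
    have : NeZero (2 ^ n) := ⟨by positivity⟩
    set K : (ZMod (2 ^ n))ˣ := ZMod.unitOfCoprime k hcop with hK
    have hKj : K ^ j = 1 := by
      apply Units.ext
      rw [Units.val_pow_eq_pow_val, hK, ZMod.coe_unitOfCoprime, Units.val_one, ← Nat.cast_pow]
      have := (ZMod.natCast_eq_natCast_iff _ _ _).2 h2
      rw [this, Nat.cast_one]
    have hKt : K ^ (2 ^ (n - 1)) = 1 := by
      have := ZMod.pow_totient K
      rwa [Nat.totient_prime_pow Nat.prime_two hn, show (2 : ℕ) - 1 = 1 from rfl, mul_one] at this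
    have ho : orderOf K ∣ Nat.gcd j (2 ^ (n - 1)) :=
      Nat.dvd_gcd (orderOf_dvd_of_pow_eq_one hKj) (orderOf_dvd_of_pow_eq_one hKt)
    have hg : Nat.gcd j (2 ^ (n - 1)) = 1 := by
      apply Nat.Coprime.pow_right
      rw [Nat.coprime_comm, Nat.Prime.coprime_iff_not_dvd Nat.prime_two]
      intro h
      exact (Nat.not_even_iff_odd.2 hu) (even_iff_two_dvd.2 h)
    rw [hg, Nat.dvd_one, orderOf_eq_one_iff] at ho
    have h4 : ((k : ℕ) : ZMod (2 ^ n)) = ((1 : ℕ) : ZMod (2 ^ n)) := by
      have := congrArg Units.val ho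
      rw [hK, ZMod.coe_unitOfCoprime, Units.val_one] at this
      rw [this, Nat.cast_one]
    exact (ZMod.natCast_eq_natCast_iff _ _ _).1 h4
  have h5 : x ^ k = x ^ 1 := by
    rw [pow_eq_pow_iff_modEq, hx]; exact hkmod
  rw [pow_one] at h5
  rw [h5] at hk'
  calc u * x = (u * x * u⁻¹) * u := by group
    _ = x * u := by rw [hk']

theorem zpowers_subgroupOf (H : Subgroup G) (y : H) :
    (Subgroup.zpowers (y : G)).subgroupOf H = Subgroup.zpowers y := by
  ext z
  rw [Subgroup.mem_subgroupOf, Subgroup.mem_zpowers_iff, Subgroup.mem_zpowers_iff]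
  constructor
  · rintro ⟨k, hk⟩
    exact ⟨k, Subtype.ext (by rw [Subgroup.coe_zpow]; exact hk)⟩
  · rintro ⟨k, hk⟩
    exact ⟨k, by rw [← hk, Subgroup.coe_zpow]⟩

theorem mem_normalizer_zpowers_iff (H : Subgroup G) (y s : H) :
    s ∈ Subgroup.normalizer ((Subgroup.zpowers y : Subgroup H) : Set H) ↔
      (s : G) ∈ Subgroup.normalizer ((Subgroup.zpowers (y : G) : Subgroup G) : Set G) := by
  have hle : Subgroup.zpowers (y : G) ≤ H := Subgroup.zpowers_le.2 y.2
  rw [← zpowers_subgroupOf, ← Subgroup.subgroupOf_normalizer_eq hle, Subgroup.mem_subgroupOf]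

theorem conj_mem_normalizer_zpowers (h t x : G)
    (ht : t ∈ Subgroup.normalizer ((Subgroup.zpowers x : Subgroup G) : Set G)) :
    h * t * h⁻¹ ∈ Subgroup.normalizer ((Subgroup.zpowers (h * x * h⁻¹) : Subgroup G) : Set G) := by
  have h1 : Subgroup.zpowers (h * x * h⁻¹) =
      (Subgroup.zpowers x).map (MulAut.conj h).toMonoidHom := by
    rw [MonoidHom.map_zpowers]; rfl
  rw [h1, ← Subgroup.map_equiv_normalizer_eq]
  exact ⟨t, ht, rfl⟩

/-- Let G be a finite group with Sylow 2-subgroup P. Then N_G(⟨x⟩) = C_G(x) holds for every 2-element x of G if and only if N_P(⟨y⟩) = C_P(y) holds for every y ∈ P (computed inside P). -/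
theorem result {G : Type*} [Group G] [Finite G] (P : Sylow 2 G) :
    (∀ x : G, (∀ r : ℕ, r.Prime → r ∣ orderOf x → r = 2) →
      Subgroup.normalizer ((Subgroup.zpowers x : Subgroup G) : Set G) ≤ Subgroup.centralizer {x}) ↔
    (∀ y : ↥(P : Subgroup G), Subgroup.normalizer ((Subgroup.zpowers y : Subgroup ↥(P : Subgroup G)) : Set ↥(P : Subgroup G)) ≤
        Subgroup.centralizer {y}) := by
  constructor
  · intro hG y s hs
    have hs' := (mem_normalizer_zpowers_iff (P : Subgroup G) y s).1 hs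
    have hy2 : ∀ r : ℕ, r.Prime → r ∣ orderOf (y : G) → r = 2 := by
      intro r hr hrd
      obtain ⟨k, hk⟩ := (IsPGroup.iff_orderOf.1 P.2) y
      rw [Subgroup.orderOf_coe, hk] at hrd
      exact (Nat.prime_dvd_prime_iff_eq hr Nat.prime_two).1 (hr.dvd_of_dvd_pow hrd)
    have h1 := hG (y : G) hy2 hs'
    rw [Subgroup.mem_centralizer_iff] at h1 ⊢
    intro z hz
    rw [Set.mem_singleton_iff] at hz
    subst hz
    exact Subtype.ext (h1 (z : G) rfl)
  · intro hP x hx2 g hg
    have hxpos : orderOf x ≠ 0 := (orderOf_pos x).ne'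
    have hxn : orderOf x = 2 ^ (orderOf x).primeFactorsList.length :=
      Nat.eq_prime_pow_of_unique_prime_dvd hxpos (fun {d} hd hdd => hx2 d hd hdd)
    set n := (orderOf x).primeFactorsList.length with hn
    obtain ⟨a, m, hm, hgam⟩ := Nat.exists_eq_two_pow_mul_odd (orderOf_pos g).ne'
    set t := g ^ m with ht
    set u := g ^ 2 ^ a with hu
    have htN : t ∈ Subgroup.normalizer ((Subgroup.zpowers x : Subgroup G) : Set G) :=
      Subgroup.pow_mem _ hg m
    have huN : u ∈ Subgroup.normalizer ((Subgroup.zpowers x : Subgroup G) : Set G) :=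
      Subgroup.pow_mem _ hg _
    have hmpos : 0 < m := hm.pos
    have hto : orderOf t = 2 ^ a := by
      rw [ht, orderOf_pow_of_dvd hmpos.ne' (hgam ▸ Dvd.intro_left _ rfl), hgam,
        Nat.mul_div_cancel _ hmpos]
    have huo : orderOf u = m := by
      rw [hu, orderOf_pow_of_dvd (by positivity) (hgam ▸ Dvd.intro _ rfl), hgam,
        Nat.mul_div_cancel_left _ (by positivity)]
    -- the odd part centralizes
    have hux : u * x = x * u := odd_centralizes x u n hxn (huo ▸ hm) huN
    -- the 2-part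
    have htx : t * x = x * t := by
      have hzt : IsPGroup 2 (Subgroup.zpowers t) := by
        apply IsPGroup.of_card (n := a); rw [Nat.card_zpowers]; exact hto
      have hzx : IsPGroup 2 (Subgroup.zpowers x) := by
        apply IsPGroup.of_card (n := n); rw [Nat.card_zpowers]; exact hxn
      have hT : IsPGroup 2 (Subgroup.zpowers t ⊔ Subgroup.zpowers x : Subgroup G) :=
        IsPGroup.to_sup_of_normal_right' hzt hzx (Subgroup.zpowers_le.2 htN)
      obtain ⟨Q, hQ⟩ := hT.exists_le_sylow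
      obtain ⟨h, hh⟩ := MulAction.exists_smul_eq G Q P
      have hconj : ∀ z ∈ (Q : Subgroup G), h * z * h⁻¹ ∈ (P : Subgroup G) := by
        intro z hz
        rw [← hh, Sylow.coe_subgroup_smul]
        exact Subgroup.smul_mem_pointwise_smul z (MulAut.conj h) _ hz
      have htQ : t ∈ (Q : Subgroup G) := hQ (Subgroup.mem_sup_left (Subgroup.mem_zpowers t))
      have hxQ : x ∈ (Q : Subgroup G) := hQ (Subgroup.mem_sup_right (Subgroup.mem_zpowers x))
      let y : (P : Subgroup G) := ⟨h * x * h⁻¹, hconj x hxQ⟩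
      let s : (P : Subgroup G) := ⟨h * t * h⁻¹, hconj t htQ⟩
      have hs : s ∈ Subgroup.normalizer ((Subgroup.zpowers y : Subgroup (P : Subgroup G)) : Set (P : Subgroup G)) :=
        (mem_normalizer_zpowers_iff (P : Subgroup G) y s).2 (conj_mem_normalizer_zpowers h t x htN)
      have h1 := Subgroup.mem_centralizer_iff.1 (hP y hs) y rfl
      have h2 : (h * x * h⁻¹) * (h * t * h⁻¹) = (h * t * h⁻¹) * (h * x * h⁻¹) :=
        congrArg Subtype.val h1
      have h3 : h * (x * t) * h⁻¹ = h * (t * x) * h⁻¹ := by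
        calc h * (x * t) * h⁻¹ = (h * x * h⁻¹) * (h * t * h⁻¹) := by group
          _ = (h * t * h⁻¹) * (h * x * h⁻¹) := h2
          _ = h * (t * x) * h⁻¹ := by group
      exact (mul_left_cancel (mul_right_cancel h3)).symm
    -- combine
    have hcop : Nat.Coprime m (2 ^ a) := by
      apply Nat.Coprime.pow_right
      rw [Nat.coprime_comm, Nat.Prime.coprime_iff_not_dvd Nat.prime_two]
      intro h
      exact (Nat.not_even_iff_odd.2 hm) (even_iff_two_dvd.2 h)
    set H := Subgroup.centralizer ({x} : Set G) with hH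
    have htH : t ∈ H := by
      rw [hH, Subgroup.mem_centralizer_iff]
      intro z hz; rw [Set.mem_singleton_iff] at hz; rw [hz]; exact htx.symm
    have huH : u ∈ H := by
      rw [hH, Subgroup.mem_centralizer_iff]
      intro z hz; rw [Set.mem_singleton_iff] at hz; rw [hz]; exact hux.symm
    have hbez := Nat.gcd_eq_gcd_ab m (2 ^ a)
    rw [hcop.gcd_eq_one] at hbez
    have hg1 : g = t ^ (Nat.gcdA m (2 ^ a)) * u ^ (Nat.gcdB m (2 ^ a)) := by
      rw [ht, hu, ← zpow_natCast g m, ← zpow_natCast g (2 ^ a), ← zpow_mul, ← zpow_mul, ← zpow_add,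
        ← hbez]
      simp
    rw [hg1]
    exact H.mul_mem (H.zpow_mem htH _) (H.zpow_mem huH _)

end Cfsg.Agent.S4028
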