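import Mathlib
import Cfsg.Statements.S4029
import Cfsg.Agent.Helper1.PGroup
-- import your own Cfsg.Agent.* helpers here

set_option autoImplicit false
open Cfsg

namespace Cfsg.Agent.S4029
universe u

open scoped Classical in
/-- class size times centralizer order -/
theorem card_class_mul {P : Type u} [Group P] [Fintype P] (g : P) :
    (Finset.univ.filter (fun g' : P => ConjClasses.mk g' = ConjClasses.mk g)).card *
      Nat.card (Subgroup.centralizer {g}) = Fintype.card P := by
  have h1 : (Finset.univ.filter (fun g' : P => ConjClasses.mk g' = ConjClasses.mk g)).card =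
      Nat.card (MulAction.orbit (ConjAct P) g) := by
    rw [Nat.card_eq_fintype_card, ← Set.toFinset_card]
    congr 1
    ext y
    rw [Finset.mem_filter, Set.mem_toFinset, ConjAct.orbit_eq_carrier_conjClasses,
      ConjClasses.mem_carrier_iff_mk_eq]
    simp
  rw [h1, Subgroup.nat_card_centralizer_nat_card_stabilizer, Nat.card_eq_fintype_card,
    Nat.card_eq_fintype_card, MulAction.card_orbit_mul_card_stabilizer_eq_card_group, ConjAct.card]

open scoped Classical in
theorem sum_centralizer_eq {P : Type u} [Group P] [Fintype P] (X : P → Prop)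
    (hX : ∀ x g : P, X g → X (x * g * x⁻¹)) :
    ∑ g : P, (if X g then Nat.card (Subgroup.centralizer {g}) else 0) =
      Fintype.card P * Nat.card {c : ConjClasses P // ∃ y : P, ConjClasses.mk y = c ∧ X y} := by
  rw [← Finset.sum_fiberwise Finset.univ (fun g : P => ConjClasses.mk g)
    (fun g => if X g then Nat.card (Subgroup.centralizer {g}) else 0)]
  have hterm : ∀ c : ConjClasses P,
      (∑ g ∈ Finset.univ.filter (fun g : P => ConjClasses.mk g = c),
        (if X g then Nat.card (Subgroup.centralizer {g}) else 0)) =
      if (∃ y : P, ConjClasses.mk y = c ∧ X y) then Fintype.card P else 0 := by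
    intro c
    obtain ⟨g0, rfl⟩ := ConjClasses.exists_rep c
    have hXiff : ∀ g : P, ConjClasses.mk g = ConjClasses.mk g0 → (X g ↔ X g0) := by
      intro g hg
      rw [ConjClasses.mk_eq_mk_iff_isConj, isConj_iff] at hg
      obtain ⟨x, hx⟩ := hg
      constructor
      · intro h; rw [← hx]; exact hX x g h
      · intro h
        have : g = x⁻¹ * g0 * x⁻¹⁻¹ := by rw [← hx]; group
        rw [this]; exact hX _ _ h
    by_cases h0 : X g0
    · rw [if_pos ⟨g0, rfl, h0⟩]
      have hconst : ∀ g ∈ Finset.univ.filter (fun g : P => ConjClasses.mk g = ConjClasses.mk g0),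
          (if X g then Nat.card (Subgroup.centralizer {g}) else 0) =
            Nat.card (Subgroup.centralizer {g0}) := by
        intro g hg
        rw [Finset.mem_filter] at hg
        rw [if_pos ((hXiff g hg.2).mpr h0)]
        have e1 := card_class_mul g
        have e2 := card_class_mul g0
        rw [hg.2] at e1
        have hpos : 0 < (Finset.univ.filter
            (fun g' : P => ConjClasses.mk g' = ConjClasses.mk g0)).card := by
          apply Finset.card_pos.mpr
          exact ⟨g0, by simp⟩
        exact Nat.eq_of_mul_eq_mul_left hpos (e1.trans e2.symm)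
      rw [Finset.sum_congr rfl hconst, Finset.sum_const, smul_eq_mul]
      exact card_class_mul g0
    · have hno : ¬ ∃ y : P, ConjClasses.mk y = ConjClasses.mk g0 ∧ X y := by
        rintro ⟨y, hy, hXy⟩
        exact h0 ((hXiff y hy).mp hXy)
      rw [if_neg hno]
      apply Finset.sum_eq_zero
      intro g hg
      rw [Finset.mem_filter] at hg
      rw [if_neg (fun h => h0 ((hXiff g hg.2).mp h))]
  simp only [hterm]
  rw [Finset.sum_ite, Finset.sum_const_zero, add_zero, Finset.sum_const, smul_eq_mul, mul_comm,
    Nat.card_eq_fintype_card, Fintype.card_subtype]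

/-- `x g x⁻¹ = g⁻¹` iff `(x g)² = x²`. -/
theorem inv_iff_sq {P : Type u} [Group P] (x g : P) :
    x * g * x⁻¹ = g⁻¹ ↔ (x * g) ^ 2 = x ^ 2 := by
  constructor
  · intro h
    have h1 : g * x * g = x := by
      have : x * g = g⁻¹ * x := by rw [← h]; group
      rw [mul_assoc, this]; group
    rw [pow_two, pow_two]
    calc x * g * (x * g) = x * (g * x * g) := by group
      _ = x * x := by rw [h1]
  · intro h
    rw [pow_two, pow_two] at h
    have h1 : g * x * g = x := by
      have : x * (g * x * g) = x * x := by rw [← h]; group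
      exact mul_left_cancel this
    calc x * g * x⁻¹ = g⁻¹ * (g * x * g) * x⁻¹ := by group
      _ = g⁻¹ := by rw [h1]; group

open scoped Classical in
theorem main {P : Type u} [Group P] [Fintype P] (hP : IsPGroup 2 P)
    (hirr : ∀ y : P, Subgroup.normalizer ((Subgroup.zpowers y : Subgroup P) : Set P) ≤
      Subgroup.centralizer {y}) :
    Nat.card (P ⧸ frattini P) ≤
      Nat.card {c : ConjClasses P // ∃ y : P, ConjClasses.mk y = c ∧ y ^ 2 = 1} := by
  have hp2 : Fact (Nat.Prime 2) := ⟨Nat.prime_two⟩
  set R := ∑ g : P, (Finset.univ.filter (fun x : P => x * g * x⁻¹ = g⁻¹)).card with hR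
  -- (D)
  have hD : R = Fintype.card P *
      Nat.card {c : ConjClasses P // ∃ y : P, ConjClasses.mk y = c ∧ y ^ 2 = 1} := by
    rw [← sum_centralizer_eq (fun g : P => g ^ 2 = 1)
      (fun x g hg => by rw [conj_pow, hg, mul_one, mul_inv_cancel])]
    rw [hR]
    apply Finset.sum_congr rfl
    intro g _
    by_cases hg : g ^ 2 = 1
    · rw [if_pos hg]
      have hgi : g⁻¹ = g := by
        rw [pow_two] at hg; exact inv_eq_of_mul_eq_one_left hg
      rw [Nat.card_eq_fintype_card, Fintype.card_subtype]
      congr 1
      ext x
      rw [Finset.mem_filter, Finset.mem_filter, Subgroup.mem_centralizer_singleton_iff, hgi]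
      constructor
      · rintro ⟨-, h⟩
        refine ⟨Finset.mem_univ _, ?_⟩
        calc x * g = (x * g * x⁻¹) * x := by group
          _ = g * x := by rw [h]
      · rintro ⟨-, h⟩
        refine ⟨Finset.mem_univ _, ?_⟩
        rw [h]; group
    · rw [if_neg hg]
      rw [Finset.card_eq_zero, Finset.filter_eq_empty_iff]
      intro x _ hx
      apply hg
      have hx' : x⁻¹ * g * x = g⁻¹ := by
        have h2 : g = x * g⁻¹ * x⁻¹ := by
          calc g = (g⁻¹)⁻¹ := (inv_inv g).symm
            _ = (x * g * x⁻¹)⁻¹ := by rw [hx]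
            _ = x * g⁻¹ * x⁻¹ := by group
        calc x⁻¹ * g * x = x⁻¹ * (x * g⁻¹ * x⁻¹) * x := by rw [← h2]
          _ = g⁻¹ := by group
      have hn : x ∈ Subgroup.normalizer ((Subgroup.zpowers g : Subgroup P) : Set P) := by
        rw [Subgroup.mem_normalizer_iff]
        intro h
        constructor
        · intro hh
          obtain ⟨k, rfl⟩ := Subgroup.mem_zpowers_iff.mp hh
          rw [← conj_zpow, hx]
          exact Subgroup.zpow_mem _ (Subgroup.inv_mem _ (Subgroup.mem_zpowers g)) _
        · intro hh
          obtain ⟨k, hk⟩ := Subgroup.mem_zpowers_iff.mp hh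
          have : h = x⁻¹ * (g ^ k) * x⁻¹⁻¹ := by rw [hk]; group
          rw [this, ← conj_zpow, inv_inv, hx']
          exact Subgroup.zpow_mem _ (Subgroup.inv_mem _ (Subgroup.mem_zpowers g)) _
      have hc := hirr g hn
      rw [Subgroup.mem_centralizer_singleton_iff] at hc
      have : g⁻¹ = g := by
        rw [← hx, hc]; group
      rw [pow_two]
      calc g * g = g⁻¹ * g := by rw [this]
        _ = 1 := inv_mul_cancel g
  -- (A), (B)
  set r : P → ℕ := fun c => (Finset.univ.filter (fun h : P => h ^ 2 = c)).card with hr
  have hAB : R = ∑ c : P, r c ^ 2 := by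
    have h1 : R = ∑ x : P, (Finset.univ.filter (fun g : P => x * g * x⁻¹ = g⁻¹)).card := by
      rw [hR]
      simp only [Finset.card_filter]
      exact Finset.sum_comm
    have h2 : ∀ x : P, (Finset.univ.filter (fun g : P => x * g * x⁻¹ = g⁻¹)).card = r (x ^ 2) := by
      intro x
      apply Finset.card_equiv (Equiv.mulLeft x)
      intro g
      rw [Finset.mem_filter, Finset.mem_filter, inv_iff_sq]
      simp
    rw [h1]
    simp only [h2]
    rw [← Finset.sum_fiberwise Finset.univ (fun x : P => x ^ 2) (fun x => r (x ^ 2))]
    apply Finset.sum_congr rfl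
    intro c _
    have : ∀ x ∈ Finset.univ.filter (fun x : P => x ^ 2 = c), r (x ^ 2) = r c := by
      intro x hx
      rw [Finset.mem_filter] at hx
      rw [hx.2]
    rw [Finset.sum_congr rfl this, Finset.sum_const, smul_eq_mul, pow_two]
  -- (C)
  set S : Finset P := Finset.univ.filter (fun c : P => c ∈ frattini P) with hS
  have hScard : S.card = Nat.card (frattini P) := by
    rw [Nat.card_eq_fintype_card, Fintype.card_subtype]
  have hsum : ∑ c ∈ S, r c = Fintype.card P := by
    rw [← Finset.card_univ]
    symm
    apply Finset.card_eq_sum_card_fiberwise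
    intro x _
    rw [hS, Finset.mem_coe, Finset.mem_filter]
    exact ⟨Finset.mem_univ _, Cfsg.Agent.Helper1.IsPGroup.pow_mem_frattini hP x⟩
  have hCS : (∑ c ∈ S, r c) ^ 2 ≤ S.card * ∑ c ∈ S, r c ^ 2 := sq_sum_le_card_mul_sum_sq
  have hle : ∑ c ∈ S, r c ^ 2 ≤ ∑ c : P, r c ^ 2 :=
    Finset.sum_le_sum_of_subset (Finset.subset_univ S)
  rw [hsum, hScard] at hCS
  have hfin : Fintype.card P ^ 2 ≤ Nat.card (frattini P) * R := by
    rw [hAB]
    exact hCS.trans (Nat.mul_le_mul_left _ hle)
  rw [hD] at hfin
  set k := Nat.card {c : ConjClasses P // ∃ y : P, ConjClasses.mk y = c ∧ y ^ 2 = 1} with hk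
  have hidx : Nat.card (frattini P) * Nat.card (P ⧸ frattini P) = Fintype.card P := by
    rw [← Subgroup.index_eq_card, Subgroup.card_mul_index, Nat.card_eq_fintype_card]
  have hpos : 0 < Fintype.card P := Fintype.card_pos
  have hΦpos : 0 < Nat.card (frattini P) := Nat.card_pos
  have h3 : Fintype.card P ≤ Nat.card (frattini P) * k := by
    have : Fintype.card P * Fintype.card P ≤ Fintype.card P * (Nat.card (frattini P) * k) := by
      calc Fintype.card P * Fintype.card P = Fintype.card P ^ 2 := (pow_two _).symm
        _ ≤ Nat.card (frattini P) * (Fintype.card P * k) := hfin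
        _ = Fintype.card P * (Nat.card (frattini P) * k) := by ring
    exact Nat.le_of_mul_le_mul_left this hpos
  rw [← hidx] at h3
  exact Nat.le_of_mul_le_mul_left h3 hΦpos

/-- Let P be a finite 2-group in which N_P(⟨y⟩) = C_P(y) for every y ∈ P. If s is the number of conjugacy classes of involutions of P, then #(P/Φ(P)) ≤ s + 1; in particular the subgroup generated by the involutions of P has order at least #(P/Φ(P)). -/
theorem result {P : Type*} [Group P] [Finite P] (hP : IsPGroup 2 P)
    (hirr : ∀ y : P, Subgroup.normalizer ((Subgroup.zpowers y : Subgroup P) : Set P) ≤ Subgroup.centralizer {y}) :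
    Nat.card (P ⧸ frattini P) ≤ Nat.card {c : ConjClasses P // ∃ y : P, ConjClasses.mk y = c ∧ orderOf y = 2} + 1 ∧
    Nat.card (P ⧸ frattini P) ≤ Nat.card (Subgroup.closure {y : P | orderOf y = 2}) := by
  classical
  have : Fintype P := Fintype.ofFinite P
  have hmain := main hP hirr
  have hp2 : Fact (Nat.Prime 2) := ⟨Nat.prime_two⟩
  have hmk1 : ∀ y : P, ConjClasses.mk y = ConjClasses.mk 1 → y = 1 := by
    intro y hy
    rw [ConjClasses.mk_eq_mk_iff_isConj] at hy
    exact isConj_one_left.mp hy
  let f : Option {c : ConjClasses P // ∃ y : P, ConjClasses.mk y = c ∧ orderOf y = 2} →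
      {c : ConjClasses P // ∃ y : P, ConjClasses.mk y = c ∧ y ^ 2 = 1} := fun o =>
    match o with
    | none => ⟨ConjClasses.mk 1, 1, rfl, one_pow 2⟩
    | some c => ⟨c.1, by
        obtain ⟨y, hy, ho⟩ := c.2
        exact ⟨y, hy, by rw [← ho]; exact pow_orderOf_eq_one y⟩⟩
  have hfinj : Function.Injective f := by
    intro a b hab
    cases a with
    | none =>
      cases b with
      | none => rfl
      | some c =>
        exfalso
        obtain ⟨y, hy, ho⟩ := c.2
        have h1 : ConjClasses.mk (1 : P) = c.1 := congrArg Subtype.val hab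
        have := hmk1 y (hy.trans h1.symm)
        rw [this, orderOf_one] at ho
        omega
    | some c =>
      cases b with
      | none =>
        exfalso
        obtain ⟨y, hy, ho⟩ := c.2
        have h1 : c.1 = ConjClasses.mk (1 : P) := congrArg Subtype.val hab
        have := hmk1 y (hy.trans h1)
        rw [this, orderOf_one] at ho
        omega
      | some c' =>
        have h1 : (f (some c)).1 = (f (some c')).1 := congrArg Subtype.val hab
        have h2 : c.1 = c'.1 := h1
        rw [Subtype.ext h2]
  have hfsurj : Function.Surjective f := by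
    rintro ⟨c, y, hy, hy2⟩
    by_cases hy1 : y = 1
    · refine ⟨none, ?_⟩
      apply Subtype.ext
      change ConjClasses.mk 1 = c
      rw [← hy, hy1]
    · refine ⟨some ⟨c, y, hy, orderOf_eq_prime hy2 hy1⟩, ?_⟩
      apply Subtype.ext
      rfl
  have hk : Nat.card {c : ConjClasses P // ∃ y : P, ConjClasses.mk y = c ∧ y ^ 2 = 1} =
      Nat.card {c : ConjClasses P // ∃ y : P, ConjClasses.mk y = c ∧ orderOf y = 2} + 1 := by
    rw [← Finite.card_option]
    exact (Nat.card_congr (Equiv.ofBijective f ⟨hfinj, hfsurj⟩)).symm
  rw [hk] at hmain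
  refine ⟨hmain, hmain.trans ?_⟩
  rw [← Finite.card_option]
  let g : Option {c : ConjClasses P // ∃ y : P, ConjClasses.mk y = c ∧ orderOf y = 2} →
      Subgroup.closure {y : P | orderOf y = 2} := fun o =>
    match o with
    | none => 1
    | some c => ⟨Classical.choose c.2, Subgroup.subset_closure (Classical.choose_spec c.2).2⟩
  apply Nat.card_le_card_of_injective g
  intro a b hab
  cases a with
  | none =>
    cases b with
    | none => rfl
    | some c =>
      exfalso
      have h1 : (1 : P) = Classical.choose c.2 := congrArg Subtype.val hab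
      have h2 := (Classical.choose_spec c.2).2
      rw [← h1, orderOf_one] at h2
      omega
  | some c =>
    cases b with
    | none =>
      exfalso
      have h1 : Classical.choose c.2 = (1 : P) := congrArg Subtype.val hab
      have h2 := (Classical.choose_spec c.2).2
      rw [h1, orderOf_one] at h2
      omega
    | some c' =>
      have h1 : Classical.choose c.2 = Classical.choose c'.2 := congrArg Subtype.val hab
      have h2 := (Classical.choose_spec c.2).1
      have h3 := (Classical.choose_spec c'.2).1
      rw [h1] at h2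
      rw [Subtype.ext (h2.symm.trans h3)]


end Cfsg.Agent.S4029
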