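import Mathlib
import Cfsg.Statements.S4032
import Cfsg.Agent.Helper1.Coprime

set_option autoImplicit false
open Cfsg
open scoped Pointwise

namespace Cfsg.Agent.S4032

/-- Let π be a set of primes and G a finite group in which N_G(⟨x⟩) = C_G(x) for every π-element x. If N is a normal subgroup of G whose order is divisible by no prime of π, then G/N has the same property: N_{G/N}(⟨y⟩) = C_{G/N}(y) for every π-element y of G/N. -/
theorem result {G : Type*} [Group G] [Finite G] (π : Set ℕ)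
    (hirr : ∀ x : G, (∀ r : ℕ, r.Prime → r ∣ orderOf x → r ∈ π) →
      Subgroup.normalizer ((Subgroup.zpowers x : Subgroup G) : Set G) ≤ Subgroup.centralizer {x})
    (N : Subgroup G) [N.Normal] (hN : ∀ r : ℕ, r.Prime → r ∣ Nat.card N → r ∉ π) :
    ∀ y : G ⧸ N, (∀ r : ℕ, r.Prime → r ∣ orderOf y → r ∈ π) →
      Subgroup.normalizer ((Subgroup.zpowers y : Subgroup (G ⧸ N)) : Set (G ⧸ N)) ≤ Subgroup.centralizer {y} := by
  intro y hy w hw
  obtain ⟨z, rfl⟩ := QuotientGroup.mk_surjective w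
  obtain ⟨g, rfl⟩ := QuotientGroup.mk_surjective y
  rw [Subgroup.mem_centralizer_singleton_iff]
  set m := orderOf (g : G ⧸ N) with hm
  set k := Nat.card N with hk
  have hm0 : 0 < m := orderOf_pos _
  by_cases hm1 : m = 1
  · have : (g : G ⧸ N) = 1 := orderOf_eq_one_iff.mp hm1
    rw [this, mul_one, one_mul]
  have hm2 : 1 < m := by omega
  have hcop : Nat.Coprime k m := by
    apply Nat.coprime_of_dvd
    intro r hr hrk hrm
    exact hN r hr hrk (hy r hr hrm)
  obtain ⟨k', hk'⟩ := Nat.exists_mul_mod_eq_one_of_coprime hcop hm2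
  set x : G := g ^ (k * k') with hx
  have hxy : (x : G ⧸ N) = (g : G ⧸ N) := by
    rw [hx, QuotientGroup.mk_pow, ← pow_mod_orderOf, ← hm, hk'.2, pow_one]
  have hgm : g ^ m ∈ N := by
    rw [← QuotientGroup.eq_one_iff, QuotientGroup.mk_pow, hm, pow_orderOf_eq_one]
  have hxm : x ^ m = 1 := by
    have h1 : (g ^ m) ^ k = 1 := by
      have := pow_card_eq_one' (G := N) (x := ⟨g ^ m, hgm⟩)
      exact congrArg Subtype.val this
    rw [hx, ← pow_mul, show k * k' * m = m * k * k' by ring, pow_mul, pow_mul, h1, one_pow]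
  have hxπ : ∀ r : ℕ, r.Prime → r ∣ orderOf x → r ∈ π := by
    intro r hr hrx
    exact hy r hr (hrx.trans (orderOf_dvd_of_pow_eq_one hxm))
  set A : Subgroup G := Subgroup.zpowers x with hA
  have hAcop : (Nat.card N).Coprime (Nat.card A) := by
    rw [hA, Nat.card_zpowers]
    exact Nat.Coprime.coprime_dvd_right (orderOf_dvd_of_pow_eq_one hxm) hcop
  have hAsolv : Group.IsSolvable A := by
    have : IsMulCommutative A := IsCyclic.isMulCommutative
    exact Group.isSolvable_of_comm (fun a b => this.is_comm.comm a b)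
  have hB : MulAut.conj z • A ≤ N ⊔ A := by
    intro v hv
    rw [Subgroup.mem_pointwise_smul_iff_inv_smul_mem, MulAut.smul_def, MulAut.conj_inv_apply] at hv
    obtain ⟨i, hi⟩ := Subgroup.mem_zpowers_iff.mp hv
    -- `v = z x^i z⁻¹`
    have hv' : v = z * x ^ i * z⁻¹ := by rw [hi]; group
    have h1 : ((z * x ^ i * z⁻¹ : G) : G ⧸ N) ∈ Subgroup.zpowers (g : G ⧸ N) := by
      have h2 := (Subgroup.mem_normalizer_iff.mp hw ((g : G ⧸ N) ^ i)).mp (Subgroup.zpow_mem_zpowers _ i)
      rw [QuotientGroup.mk_mul, QuotientGroup.mk_mul, QuotientGroup.mk_inv, QuotientGroup.mk_zpow, hxy]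
      exact h2
    obtain ⟨j, hj⟩ := Subgroup.mem_zpowers_iff.mp h1
    rw [← hxy, ← QuotientGroup.mk_zpow, QuotientGroup.eq] at hj
    have h3 : v = x ^ j * ((x ^ j)⁻¹ * (z * x ^ i * z⁻¹)) := by rw [hv']; group
    rw [h3]
    exact Subgroup.mul_mem _ (Subgroup.mem_sup_right (Subgroup.zpow_mem_zpowers x j)) (Subgroup.mem_sup_left hj)
  obtain ⟨n, hnN, hn⟩ := Cfsg.Agent.Helper1.sz_conj_internal N A (MulAut.conj z • A)
    (by rw [Subgroup.normalizer_eq_top_iff.mpr inferInstance]; exact le_top) hB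
    (Cfsg.Agent.Helper1.card_conj_smul z A) hAcop (Or.inr hAsolv)
  have hfix : MulAut.conj (n⁻¹ * z) • A = A := by
    rw [map_mul, mul_smul, ← hn, map_inv, inv_smul_smul]
  have hnorm := Cfsg.Agent.Helper1.mem_normalizer_of_conj_smul_eq hfix
  have hcent := hirr x hxπ hnorm
  rw [Subgroup.mem_centralizer_singleton_iff] at hcent
  have hq : ((n⁻¹ * z : G) : G ⧸ N) = (z : G ⧸ N) := by
    rw [QuotientGroup.mk_mul, QuotientGroup.mk_inv, (QuotientGroup.eq_one_iff n).mpr hnN, inv_one, one_mul]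
  have h5 : ((n⁻¹ * z : G) : G ⧸ N) * (x : G ⧸ N) = (x : G ⧸ N) * ((n⁻¹ * z : G) : G ⧸ N) := by
    rw [← QuotientGroup.mk_mul, ← QuotientGroup.mk_mul, hcent]
  rw [hq, hxy] at h5
  exact h5

end Cfsg.Agent.S4032
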