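import Cfsg.Statements.S4034
import Cfsg.Agent.Helper4.AbelPComplC
import Cfsg.Agent.Helper4.ClassSize

set_option autoImplicit false
open Cfsg

namespace Cfsg.Agent.S4034

/-- Let G be a finite group and p a prime. Every conjugacy class of p-regular elements of G (elements of order prime to p) has p-power size if and only if G has an abelian p-complement, i.e. an abelian subgroup of order prime to p and p-power index. -/
theorem result {G : Type*} [Group G] [Finite G] {p : ℕ} (hp : p.Prime) :
    (∀ x : G, (orderOf x).Coprime p → ∃ k : ℕ, (ConjClasses.mk x).carrier.ncard = p ^ k) ↔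
    (∃ H : Subgroup G, IsMulCommutative H ∧ ¬ p ∣ Nat.card H ∧ ∃ k : ℕ, H.index = p ^ k) := by
  constructor
  · intro h
    have h' : Helper4.AbelPCompl.PRegPow p G := by
      intro x hx
      obtain ⟨k, hk⟩ := h x hx
      refine ⟨k, ?_⟩
      rw [Helper4.index_centralizer_eq_card_carrier, Nat.card_coe_set_eq, hk]
    haveI := Helper4.AbelPCompl.isSolvable_of_pRegPow hp h'
    obtain ⟨H, hHp, hHidx⟩ := Helper4.AbelPCompl.exists_pCompl (G := G) hp
    have hab := Helper4.AbelPCompl.hall_abelian hp h' H hHp hHidx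
    exact ⟨H, ⟨⟨fun a b => Subtype.ext (hab a a.2 b b.2)⟩⟩, hHp, hHidx⟩
  · rintro ⟨H, hHc, hHp, hHidx⟩ x hx
    have hab : ∀ a ∈ H, ∀ b ∈ H, a * b = b * a := by
      intro a ha b hb
      have := hHc.is_comm.comm (⟨a, ha⟩ : H) ⟨b, hb⟩
      exact congrArg Subtype.val this
    obtain ⟨k, hk⟩ := Helper4.AbelPCompl.ppow_index_centralizer_of_abelian_compl hp H hab hHp hHidx x hx
    refine ⟨k, ?_⟩
    rw [← Nat.card_coe_set_eq, ← Helper4.index_centralizer_eq_card_carrier, hk]

end Cfsg.Agent.S4034
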