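import Cfsg.Statements.S4033
import Cfsg.Agent.Helper8.PRegKF
import Cfsg.Agent.Helper8.PRegKH
import Cfsg.Agent.Helper8.PRegKI
import Cfsg.Agent.S4034

set_option autoImplicit false
open Cfsg

namespace Cfsg.Agent.S4033

open Cfsg.Agent.Helper8.PReg in
/-- Let G be a finite group and p a prime, and suppose the conjugacy classes of p-regular elements of G (elements of order prime to p) have exactly two distinct sizes. Then either G has an abelian p-complement (an abelian subgroup of order prime to p and p-power index), or there are a prime q ≠ p, a Sylow p-subgroup P, a Sylow q-subgroup Q and a central subgroup A such that PQ is a normal subgroup of order #P·#Q and G is the internal direct product PQ × A. -/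
theorem result {G : Type*} [Group G] [Finite G] {p : ℕ} (hp : p.Prime)
    (h2 : Set.ncard (Set.range fun x : {x : G // (orderOf x).Coprime p} => (ConjClasses.mk (x : G)).carrier.ncard) = 2) :
    (∃ H : Subgroup G, IsMulCommutative H ∧ ¬ p ∣ Nat.card H ∧ ∃ k : ℕ, H.index = p ^ k) ∨
    (∃ (q : ℕ) (_ : Fact q.Prime) (P : Sylow p G) (Q : Sylow q G) (A : Subgroup G), q ≠ p ∧
        A ≤ Subgroup.center G ∧ Nat.card ↥((P : Subgroup G) ⊔ (Q : Subgroup G)) = Nat.card P * Nat.card Q ∧
        ((P : Subgroup G) ⊔ (Q : Subgroup G)).Normal ∧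
        ((P : Subgroup G) ⊔ (Q : Subgroup G)) ⊓ A = ⊥ ∧ ((P : Subgroup G) ⊔ (Q : Subgroup G)) ⊔ A = ⊤) := by
  classical
  have hpF : Fact p.Prime := ⟨hp⟩
  obtain ⟨m, h, x₀, hx₀p, hx₀⟩ := exists_m_of_range_ncard_two h2
  by_cases hT : HasTwo G p
  · -- two noncentral primes: `m` is a power of `p`
    left
    obtain ⟨k, hk⟩ := m_eq_ppow p (Nat.card G) G rfl m h hT
    apply (Cfsg.Agent.S4034.result hp).mp
    intro x hx
    rw [ncard_carrier_eq_index]
    rcases h x hx with h1 | h1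
    · exact ⟨0, by rw [h1, pow_zero]⟩
    · exact ⟨k, by rw [h1, hk]⟩
  · -- a single noncentral prime `q`
    right
    obtain ⟨q, hq, y, -, ⟨k, hk⟩, hyc, hyp, -⟩ := exists_primary h _ x₀ rfl hx₀ hx₀p
    have hqF : Fact q.Prime := ⟨hq⟩
    have hqp : q ≠ p := by
      rintro rfl
      have hk0 : k ≠ 0 := by
        rintro rfl
        rw [pow_zero, orderOf_eq_one_iff] at hk
        apply hyc
        rw [hk]
        exact one_mem _
      rw [hk] at hyp
      have h1 : q ∣ Nat.gcd (q ^ k) q := Nat.dvd_gcd (dvd_pow_self q hk0) dvd_rfl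
      rw [hyp] at h1
      exact hq.one_lt.ne' (Nat.dvd_one.mp h1)
    have hc : ∀ (ℓ : ℕ) (x : G) (j : ℕ), ℓ.Prime → ℓ ≠ p → ℓ ≠ q → orderOf x = ℓ ^ j →
        x ∈ Subgroup.center G := by
      intro ℓ x j hℓ hℓp hℓq hxj
      by_contra hxc
      exact hT ⟨ℓ, q, hℓq, ⟨hℓ, hℓp, x, hxc, j, hxj⟩, ⟨hq, hqp, y, hyc, k, hk⟩⟩
    obtain ⟨P⟩ : Nonempty (Sylow p G) := inferInstance
    obtain ⟨Q⟩ : Nonempty (Sylow q G) := inferInstance
    obtain ⟨A, hA, hcard, hn, hinf, hsup⟩ := struct_II hqp hc P Q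
    exact ⟨q, hqF, P, Q, A, hqp, hA, hcard, hn, hinf, hsup⟩

end Cfsg.Agent.S4033
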