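import Mathlib
import Cfsg.Statements.S4035
import Cfsg.Agent.Helper1.Fusion
import Cfsg.Agent.Helper4.ConjUnion
import Cfsg.Agent.Helper4.ClassSize

set_option autoImplicit false
open Cfsg

namespace Cfsg.Agent.S4035

open scoped Pointwise

/-- If `p ∤ [G : C]`, some conjugate of the Sylow `p`-subgroup `P` lies in `C`. -/
theorem exists_conj_le_of_not_dvd_index {G : Type*} [Group G] [Finite G] {p : ℕ} [Fact p.Prime]
    (P : Sylow p G) (C : Subgroup G) (hC : ¬ p ∣ C.index) :
    ∃ k : G, MulAut.conj k • (P : Subgroup G) ≤ C := by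
  obtain ⟨S⟩ : Nonempty (Sylow p C) := inferInstance
  have hSp : IsPGroup p ((S : Subgroup C).map C.subtype) := S.isPGroup'.map _
  have hidx : ¬ p ∣ ((S : Subgroup C).map C.subtype).index := by
    have h1 : ((S : Subgroup C).map C.subtype).index = (S : Subgroup C).index * C.index := by
      rw [Subgroup.index_map_subtype]
    rw [h1]
    intro hd
    rcases (Nat.Prime.dvd_mul Fact.out).1 hd with h | h
    · exact S.not_dvd_index h
    · exact hC h
  obtain ⟨k, hk⟩ := MulAction.exists_smul_eq G P (hSp.toSylow hidx)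
  refine ⟨k, ?_⟩
  have : MulAut.conj k • (P : Subgroup G) = (S : Subgroup C).map C.subtype := by
    rw [← Sylow.coe_subgroup_smul, hk, IsPGroup.toSylow_coe]
  rw [this]
  exact Subgroup.map_subtype_le _


/-- Every element is conjugate into `P · C_G(P)`. -/
theorem exists_conj_mem_sup {G : Type*} [Group G] [Finite G] {p : ℕ} [Fact p.Prime]
    (h : ∀ x : G, (orderOf x).Coprime p → ¬ p ∣ (ConjClasses.mk x).carrier.ncard) (P : Sylow p G)
    (g : G) :
    ∃ t : G, t⁻¹ * g * t ∈ (P : Subgroup G) ⊔ Subgroup.centralizer ((P : Subgroup G) : Set G) := by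
  have hp : p.Prime := Fact.out
  have ho : orderOf g ≠ 0 := (orderOf_pos g).ne'
  obtain ⟨a, m, hm, hom⟩ := Nat.exists_eq_pow_mul_and_not_dvd ho p hp.ne_one
  have hcop : Nat.Coprime (p ^ a) m := Nat.Coprime.pow_left a ((Nat.Prime.coprime_iff_not_dvd hp).2 hm)
  have hbez : (1 : ℤ) = (p ^ a : ℕ) * Nat.gcdA (p ^ a) m + (m : ℕ) * Nat.gcdB (p ^ a) m := by
    have := Nat.gcd_eq_gcd_ab (p ^ a) m
    rw [hcop] at this
    exact_mod_cast this
  set A := Nat.gcdA (p ^ a) m with hA
  set B := Nat.gcdB (p ^ a) m with hB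
  set x := g ^ (((p ^ a : ℕ) : ℤ) * A) with hx
  set y := g ^ (((m : ℕ) : ℤ) * B) with hy
  have hgxy : g = x * y := by
    rw [hx, hy, ← zpow_add, ← hbez, zpow_one]
  have hxy : Commute x y := Commute.zpow_zpow_self g _ _
  have hxm : x ^ m = 1 := by
    rw [hx, ← zpow_natCast, ← zpow_mul]
    have : ((p ^ a : ℕ) : ℤ) * A * (m : ℕ) = ((orderOf g : ℕ) : ℤ) * A := by
      rw [hom]; push_cast; ring
    rw [this, zpow_mul, zpow_natCast, pow_orderOf_eq_one, one_zpow]
  have hypa : y ^ (p ^ a) = 1 := by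
    rw [hy, ← zpow_natCast, ← zpow_mul]
    have : ((m : ℕ) : ℤ) * B * ((p ^ a : ℕ) : ℤ) = ((orderOf g : ℕ) : ℤ) * B := by
      rw [hom]; push_cast; ring
    rw [this, zpow_mul, zpow_natCast, pow_orderOf_eq_one, one_zpow]
  have hxcop : (orderOf x).Coprime p :=
    Nat.Coprime.coprime_dvd_left (orderOf_dvd_of_pow_eq_one hxm)
      ((Nat.Prime.coprime_iff_not_dvd hp).2 hm).symm
  set Cx := Subgroup.centralizer ({x} : Set G) with hCx
  have hidx : ¬ p ∣ Cx.index := by
    rw [hCx, Helper4.index_centralizer_eq_card_carrier, Nat.card_coe_set_eq]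
    exact h x hxcop
  obtain ⟨k, hk⟩ := exists_conj_le_of_not_dvd_index P Cx hidx
  have hyC : y ∈ Cx := by
    rw [hCx, Subgroup.mem_centralizer_iff]
    intro z hz
    rw [Set.mem_singleton_iff] at hz
    subst hz
    exact hxy.eq
  -- Sylow theory inside Cx
  have hk' : ((k • P : Sylow p G) : Subgroup G) ≤ Cx := by
    rw [Sylow.coe_subgroup_smul]; exact hk
  set S2 : Sylow p Cx := (k • P).subtype hk' with hS2
  have hY : IsPGroup p (Subgroup.zpowers (⟨y, hyC⟩ : Cx)) := by
    have hd : orderOf (⟨y, hyC⟩ : Cx) ∣ p ^ a := by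
      rw [Subgroup.orderOf_mk]
      exact orderOf_dvd_of_pow_eq_one hypa
    obtain ⟨b, -, hb⟩ := (Nat.dvd_prime_pow hp).1 hd
    exact IsPGroup.of_card (n := b) (by rw [Nat.card_zpowers, hb])
  obtain ⟨S1, hS1⟩ := hY.exists_le_sylow
  obtain ⟨c, hc⟩ := MulAction.exists_smul_eq Cx S2 S1
  have hyS1 : (⟨y, hyC⟩ : Cx) ∈ S1 := hS1 (Subgroup.mem_zpowers _)
  rw [← hc] at hyS1
  have h1 : (⟨y, hyC⟩ : Cx) ∈ ((c • S2 : Sylow p Cx) : Subgroup Cx) := hyS1
  rw [Sylow.coe_subgroup_smul, Subgroup.mem_pointwise_smul_iff_inv_smul_mem, MulAut.smul_def,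
    MulAut.conj_inv_apply, hS2, Sylow.coe_subtype, Subgroup.mem_subgroupOf,
    Sylow.coe_subgroup_smul, Subgroup.mem_pointwise_smul_iff_inv_smul_mem, MulAut.smul_def,
    MulAut.conj_inv_apply] at h1
  have h2 : k⁻¹ * ((c : G)⁻¹ * y * c) * k ∈ (P : Subgroup G) := by simpa using h1
  set t := (c : G) * k with ht
  have hty : t⁻¹ * y * t ∈ (P : Subgroup G) := by
    have : t⁻¹ * y * t = k⁻¹ * ((c : G)⁻¹ * y * c) * k := by rw [ht]; group
    rw [this]; exact h2
  have htx : t⁻¹ * x * t ∈ Subgroup.centralizer ((P : Subgroup G) : Set G) := by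
    rw [Subgroup.mem_centralizer_iff]
    intro z hz
    have hz' : t * z * t⁻¹ ∈ Cx := by
      have e : t * z * t⁻¹ = c * (k * z * k⁻¹) * (c : G)⁻¹ := by rw [ht]; group
      rw [e]
      have hkz : k * z * k⁻¹ ∈ Cx := by
        apply hk
        rw [Subgroup.mem_pointwise_smul_iff_inv_smul_mem, MulAut.smul_def, MulAut.conj_inv_apply]
        have : k⁻¹ * (k * z * k⁻¹) * k = z := by group
        rw [this]; exact hz
      exact Cx.mul_mem (Cx.mul_mem c.2 hkz) (Cx.inv_mem c.2)
    rw [hCx, Subgroup.mem_centralizer_iff] at hz'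
    have hcomm : x * (t * z * t⁻¹) = t * z * t⁻¹ * x := hz' x (Set.mem_singleton x)
    calc z * (t⁻¹ * x * t) = t⁻¹ * ((t * z * t⁻¹) * x) * t := by group
      _ = t⁻¹ * (x * (t * z * t⁻¹)) * t := by rw [hcomm]
      _ = t⁻¹ * x * t * z := by group
  refine ⟨t, ?_⟩
  have e : t⁻¹ * g * t = (t⁻¹ * y * t) * (t⁻¹ * x * t) := by
    rw [hgxy, hxy.eq]; group
  rw [e]
  exact Subgroup.mul_mem_sup hty htx


/-- Let G be a finite group and p a prime such that p divides the size of no conjugacy class of p-regular elements (elements of order prime to p). Then G is the internal direct product of a Sylow p-subgroup P and a normal subgroup H of order prime to p: P is normal, P ⊓ H = 1 and PH = G. -/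
theorem result {G : Type*} [Group G] [Finite G] {p : ℕ} [Fact p.Prime]
    (h : ∀ x : G, (orderOf x).Coprime p → ¬ p ∣ (ConjClasses.mk x).carrier.ncard) (P : Sylow p G) :
    (P : Subgroup G).Normal ∧ ∃ H : Subgroup G, H.Normal ∧ ¬ p ∣ Nat.card H ∧
      (P : Subgroup G) ⊓ H = ⊥ ∧ (P : Subgroup G) ⊔ H = ⊤ := by
  have hp : p.Prime := Fact.out
  set C := Subgroup.centralizer ((P : Subgroup G) : Set G) with hC
  have hM : (P : Subgroup G) ⊔ C = ⊤ := by
    by_contra hne
    obtain ⟨g, hg⟩ := Helper4.exists_not_mem_conj _ hne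
    obtain ⟨t, ht⟩ := exists_conj_mem_sup h P g
    exact hg t ht
  have hPn : (P : Subgroup G).Normal := by
    rw [← Subgroup.normalizer_eq_top_iff, eq_top_iff, ← hM]
    exact sup_le Subgroup.le_normalizer (Subgroup.centralizer_le_normalizer _)
  refine ⟨hPn, ?_⟩
  obtain ⟨n, hn⟩ := IsPGroup.iff_card.1 P.isPGroup'
  have hcop : Nat.Coprime (Nat.card (P : Subgroup G)) (P : Subgroup G).index := by
    rw [hn]
    exact Nat.Coprime.pow_left n ((Nat.Prime.coprime_iff_not_dvd hp).2 P.not_dvd_index)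
  obtain ⟨K, hK⟩ := Subgroup.exists_left_complement'_of_coprime hcop
  have hKcard : Nat.card K = (P : Subgroup G).index := by
    have h1 := hK.card_mul_card
    have h2 := (P : Subgroup G).card_mul_index
    have hpos : 0 < Nat.card (P : Subgroup G) := Nat.card_pos
    nlinarith [h1, h2]
  have hKp : ¬ p ∣ Nat.card K := by
    rw [hKcard]; exact P.not_dvd_index
  -- K centralizes P
  have hKC : K ≤ C := by
    intro k hk
    have hkM : k ∈ (P : Subgroup G) ⊔ C := by rw [hM]; exact Subgroup.mem_top k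
    rw [← SetLike.mem_coe, Subgroup.normal_mul, Set.mem_mul] at hkM
    obtain ⟨z, hz, c, hc, rfl⟩ := hkM
    have hzc : Commute z c := by
      have := (Subgroup.mem_centralizer_iff.1 hc) z hz
      exact this
    have hpow : (z * c) ^ Nat.card (P : Subgroup G) ∈ C := by
      rw [hzc.mul_pow]
      have : z ^ Nat.card (P : Subgroup G) = 1 := by
        have := pow_card_eq_one' (G := (P : Subgroup G)) (x := ⟨z, hz⟩)
        exact congrArg Subtype.val this
      rw [this, one_mul]
      exact Subgroup.pow_mem _ hc _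
    have hord : (Nat.card (P : Subgroup G)).Coprime (orderOf (z * c)) := by
      have hd : orderOf (z * c) ∣ Nat.card K := by
        have := orderOf_dvd_natCard (⟨z * c, hk⟩ : K)
        rwa [Subgroup.orderOf_mk] at this
      rw [hKcard] at hd
      exact Nat.Coprime.coprime_dvd_right hd hcop
    obtain ⟨m, hm⟩ := exists_pow_eq_self_of_coprime hord
    rw [← hm]
    exact Subgroup.pow_mem _ hpow m
  have hsup : (P : Subgroup G) ⊔ K = ⊤ := by
    rw [sup_comm]; exact hK.sup_eq_top
  have hKn : K.Normal := by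
    rw [← Subgroup.normalizer_eq_top_iff, eq_top_iff, ← hsup]
    refine sup_le ?_ Subgroup.le_normalizer
    exact (Subgroup.le_centralizer_iff.1 hKC).trans (Subgroup.centralizer_le_normalizer _)
  refine ⟨K, hKn, hKp, ?_, hsup⟩
  rw [inf_comm]
  exact hK.disjoint.eq_bot

end Cfsg.Agent.S4035
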