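import Mathlib
import Cfsg.Statements.S4036

set_option autoImplicit false
open Cfsg

namespace Cfsg.Agent.S4036

/-- Let P be a finite abelian p-group and K a group of automorphisms of P (a subgroup of Aut P) whose order is divisible by p. If all non-identity elements of K have the same fixed-point subgroup on P, then K has no non-trivial normal subgroup of order prime to p. -/
theorem result {P : Type*} [CommGroup P] [Finite P] {p : ℕ}
    [Fact p.Prime] (hP : IsPGroup p P) (K : Subgroup (MulAut P)) (hK : p ∣ Nat.card K)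
    (hfix : ∀ x y : MulAut P, x ∈ K → y ∈ K → x ≠ 1 → y ≠ 1 → ∀ v : P, x v = v ↔ y v = v) :
    ∀ N : Subgroup ↥K, N.Normal → ¬ p ∣ Nat.card N → N = ⊥ := by
  intro N hN hpN
  classical
  have hp : p.Prime := Fact.out
  have : Fintype N := Fintype.ofFinite N
  obtain ⟨x', hx'⟩ := exists_prime_orderOf_dvd_card' p hK
  have hx'1 : x' ≠ 1 := by
    intro h
    rw [h, orderOf_one] at hx'
    exact hp.one_lt.ne hx'
  have hx1 : (x' : MulAut P) ≠ 1 := fun h => hx'1 (Subtype.ext h)
  -- the subgroup `[P, N]`
  let W : Subgroup P := Subgroup.closure {w | ∃ (n' : N) (v : P), w = v⁻¹ * ((n' : K) : MulAut P) v}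
  -- `W` is `K`-invariant
  have hWinv : ∀ (z : K) (w : P), w ∈ W → (z : MulAut P) w ∈ W := by
    intro z w hw
    induction hw using Subgroup.closure_induction with
    | mem w hw =>
      obtain ⟨n', v, rfl⟩ := hw
      apply Subgroup.subset_closure
      refine ⟨⟨z * n' * z⁻¹, hN.conj_mem n' n'.2 z⟩, (z : MulAut P) v, ?_⟩
      rw [map_mul, map_inv]
      congr 1
      change (z : MulAut P) (((n' : K) : MulAut P) v) =
        ((z : MulAut P) * ((n' : K) : MulAut P) * (z : MulAut P)⁻¹) ((z : MulAut P) v)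
      rw [MulAut.mul_apply, MulAut.mul_apply, MulAut.inv_apply, MulEquiv.symm_apply_apply]
    | one => rw [map_one]; exact Subgroup.one_mem _
    | mul a b _ _ ha hb => rw [map_mul]; exact Subgroup.mul_mem _ ha hb
    | inv a _ ha => rw [map_inv]; exact Subgroup.inv_mem _ ha
  -- the norm map
  let τ : P →* P := ∏ n' : N, (((n' : K) : MulAut P).toMonoidHom)
  have hτ : ∀ v : P, τ v = ∏ n' : N, ((n' : K) : MulAut P) v := by
    intro v
    change (∏ n' : N, (((n' : K) : MulAut P).toMonoidHom)) v = _
    rw [MonoidHom.finsetProd_apply]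
    rfl
  have hτW : ∀ w ∈ W, τ w = 1 := by
    intro w hw
    induction hw using Subgroup.closure_induction with
    | mem w hw =>
      obtain ⟨m', v, rfl⟩ := hw
      rw [map_mul, map_inv, inv_mul_eq_one, hτ, hτ]
      refine (Fintype.prod_equiv (Equiv.mulRight m'⁻¹) _ _ ?_)
      intro n'
      change ((n' : K) : MulAut P) v = (((n' * m'⁻¹ : N) : K) : MulAut P) (((m' : K) : MulAut P) v)
      rw [Subgroup.coe_mul, Subgroup.coe_mul, MulAut.mul_apply, Subgroup.coe_inv, Subgroup.coe_inv,
        MulAut.inv_apply, MulEquiv.symm_apply_apply]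
    | one => exact map_one _
    | mul a b _ _ ha hb => rw [map_mul, ha, hb, one_mul]
    | inv a _ ha => rw [map_inv, ha, inv_one]
  -- `W` meets the fixed points of `x` trivially
  have hWF : ∀ u ∈ W, (x' : MulAut P) u = u → u = 1 := by
    intro u hu hxu
    have hall : ∀ n' : N, ((n' : K) : MulAut P) u = u := by
      intro n'
      by_cases hn1 : ((n' : K) : MulAut P) = 1
      · rw [hn1]; rfl
      · exact (hfix _ _ (n' : K).2 x'.2 hn1 hx1 u).mpr hxu
    have h1 : u ^ Nat.card N = 1 := by
      rw [← hτW u hu, hτ, Finset.prod_congr rfl (fun n' _ => hall n'), Finset.prod_const, Finset.card_univ,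
        Nat.card_eq_fintype_card]
    obtain ⟨k, hk⟩ := hP u
    have h2 : orderOf u ∣ Nat.card N := orderOf_dvd_of_pow_eq_one h1
    have h3 : orderOf u ∣ p ^ k := orderOf_dvd_of_pow_eq_one hk
    have hcop : Nat.Coprime (Nat.card N) (p ^ k) :=
      Nat.Coprime.pow_right k ((Nat.Prime.coprime_iff_not_dvd hp).mpr hpN).symm
    have h4 : orderOf u = 1 := Nat.eq_one_of_dvd_coprimes hcop h2 h3
    exact orderOf_eq_one_iff.mp h4
  -- action of `K` on `W`
  let _ : MulAction K W :=
    { smul := fun z w => ⟨(z : MulAut P) w, hWinv z w w.2⟩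
      one_smul := fun w => Subtype.ext rfl
      mul_smul := fun z z' w => Subtype.ext rfl }
  have hsmul : ∀ (z : K) (w : W), ((z • w : W) : P) = (z : MulAut P) w := fun _ _ => rfl
  have hWbot : W = ⊥ := by
    by_contra hW
    have hZp : IsPGroup p (Subgroup.zpowers x') := by
      apply IsPGroup.of_card (n := 1)
      rw [Nat.card_zpowers, hx', pow_one]
    have hWp : p ∣ Nat.card W := by
      obtain ⟨k, hk⟩ := (hP.to_subgroup W).exists_card_eq
      rcases Nat.eq_zero_or_pos k with h0 | h0
      · rw [h0, pow_zero] at hk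
        exact absurd (Subgroup.card_eq_one.mp hk) hW
      · rw [hk]; exact dvd_pow_self p h0.ne'
    have h1mem : (1 : W) ∈ MulAction.fixedPoints (Subgroup.zpowers x') W := by
      intro z
      apply Subtype.ext
      change ((z : K) : MulAut P) ((1 : W) : P) = ((1 : W) : P)
      rw [Subgroup.coe_one, map_one]
    obtain ⟨b, hb, hb1⟩ := hZp.exists_fixed_point_of_prime_dvd_card_of_fixed_point W hWp h1mem
    have hxb : (x' : MulAut P) (b : P) = b := by
      have := hb ⟨x', Subgroup.mem_zpowers x'⟩
      exact congrArg Subtype.val this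
    have := hWF b b.2 hxb
    exact hb1 (Subtype.ext this.symm)
  -- conclusion
  rw [Subgroup.eq_bot_iff_forall]
  intro n' hn'
  apply Subtype.ext
  rw [Subgroup.coe_one]
  apply MulEquiv.ext
  intro v
  have hmem : v⁻¹ * (n' : MulAut P) v ∈ W := Subgroup.subset_closure ⟨⟨n', hn'⟩, v, rfl⟩
  rw [hWbot, Subgroup.mem_bot, inv_mul_eq_one] at hmem
  exact hmem.symm

end Cfsg.Agent.S4036
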