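import Mathlib
import Cfsg.Statements.S4043
import Cfsg.Agent.Helper1.Coprime
import Cfsg.Agent.Helper5.PGroupCenter

set_option autoImplicit false
open Cfsg

namespace Cfsg.Agent.S4043

open scoped Pointwise

/-- data extracted from a complement `A` of the normal `p`-subgroup `N` having a normal
`p`-complement: subgroups `K` (a `p'`-group, normal in `A`) and `Q` (a `p`-group) of `G` with
`A = K ⊔ Q`. -/
theorem extract {G : Type*} [Group G] [Finite G] {p : ℕ} [Fact p.Prime] (A : Subgroup G)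
    (hAp : Cfsg.HasNormalPComplement p A) :
    ∃ K Q : Subgroup G, K ≤ A ∧ Q ≤ A ∧ A ≤ Subgroup.normalizer (K : Set G) ∧
      (Nat.card K).Coprime p ∧ IsPGroup p Q ∧ K ⊔ Q = A ∧ Nat.card K * Nat.card Q = Nat.card A := by
  obtain ⟨PA, K, hKn, hKc⟩ := hAp
  refine ⟨K.map A.subtype, (PA : Subgroup A).map A.subtype, Subgroup.map_subtype_le _,
    Subgroup.map_subtype_le _, ?_, ?_, ?_, ?_, ?_⟩
  · intro a ha
    rw [Subgroup.mem_normalizer_iff]
    intro x
    constructor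
    · rintro ⟨k, hk, rfl⟩
      exact ⟨⟨a, ha⟩ * k * ⟨a, ha⟩⁻¹, hKn.conj_mem k hk ⟨a, ha⟩, by simp⟩
    · rintro ⟨k, hk, hkx⟩
      refine ⟨⟨a, ha⟩⁻¹ * k * ⟨a, ha⟩, ?_, ?_⟩
      · have := hKn.conj_mem k hk ⟨a, ha⟩⁻¹
        simpa using this
      · have h1 : (A.subtype k : G) = a * x * a⁻¹ := hkx
        simp only [Subgroup.subtype_apply, Subgroup.coe_mul, Subgroup.coe_inv] at h1 ⊢
        rw [h1]; group
  · rw [Subgroup.card_map_of_injective A.subtype_injective]
    have h1 := hKc.card_mul_card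
    have hcop : ¬ p ∣ Nat.card K := by
      intro hd
      have h2 : Nat.card K = (PA : Subgroup A).index := by
        have h3 := (PA : Subgroup A).card_mul_index
        have hpos : 0 < Nat.card (PA : Subgroup A) := Nat.card_pos
        nlinarith
      rw [h2] at hd
      exact PA.not_dvd_index hd
    exact ((Nat.Prime.coprime_iff_not_dvd Fact.out).2 hcop).symm
  · exact PA.isPGroup'.map _
  · rw [← Subgroup.map_sup, hKc.sup_eq_top, ← MonoidHom.range_eq_map, Subgroup.range_subtype]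
  · rw [Subgroup.card_map_of_injective A.subtype_injective,
      Subgroup.card_map_of_injective A.subtype_injective]
    exact hKc.card_mul_card


open Cfsg.Agent.Helper1 in
theorem normalizer_sup_le {G : Type*} [Group G] {A X Y : Subgroup G}
    (hX : A ≤ Subgroup.normalizer (X : Set G)) (hY : A ≤ Subgroup.normalizer (Y : Set G)) :
    A ≤ Subgroup.normalizer ((X ⊔ Y : Subgroup G) : Set G) := by
  intro a ha
  apply mem_normalizer_of_conj_smul_eq
  rw [Subgroup.smul_sup, conj_smul_eq_of_mem_normalizer (hX ha),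
    conj_smul_eq_of_mem_normalizer (hY ha)]

theorem sup_le_sup_of {G : Type*} [Group G] [Finite G] {p : ℕ} [Fact p.Prime]
    (N M M₁ : Subgroup G) (hNM : N ≤ M) (hNM₁ : N ≤ M₁) (hM₁n : M₁.Normal)
    (hidx : ∃ j : ℕ, M₁.index = p ^ j) (hcop : (N.relIndex M).Coprime p) : M ≤ M₁ := by
  rw [← Subgroup.relIndex_eq_one]
  have h1 : M₁.relIndex M ∣ M₁.index := Subgroup.relIndex_dvd_index_of_normal M₁ M
  have h2 : M₁.relIndex M ∣ N.relIndex M := by
    rw [← Subgroup.inf_relIndex_right M₁ M]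
    exact Subgroup.relIndex_dvd_of_le_left M (le_inf hNM₁ hNM)
  obtain ⟨j, hj⟩ := hidx
  rw [hj] at h1
  have h3 : (N.relIndex M).Coprime (p ^ j) := Nat.Coprime.pow_right j hcop
  exact Nat.eq_one_of_dvd_coprimes h3 h2 h1


open Cfsg.Agent.Helper1 in
theorem factsM {G : Type*} [Group G] [Finite G] {p : ℕ} [Fact p.Prime] (N : Subgroup G) [N.Normal]
    (A K Q : Subgroup G) (hKA : K ≤ A) (hAK : A ≤ Subgroup.normalizer (K : Set G))
    (hdisj : A ⊓ N = ⊥) (hsup : N ⊔ A = ⊤) (hcard : Nat.card K * Nat.card Q = Nat.card A)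
    (hAN : Nat.card A * Nat.card N = Nat.card G) (hQ : IsPGroup p Q) :
    (N ⊔ K).Normal ∧ (∃ j : ℕ, (N ⊔ K).index = p ^ j) ∧ N.relIndex (N ⊔ K) = Nat.card K ∧
      Nat.card (N ⊔ K : Subgroup G) = Nat.card K * Nat.card N := by
  have hNnorm : ∀ X : Subgroup G, X ≤ Subgroup.normalizer (N : Set G) := fun X => by
    rw [Subgroup.normalizer_eq_top]; exact le_top
  have hcardM : Nat.card (N ⊔ K : Subgroup G) = Nat.card K * Nat.card N :=
    card_sup_of_le_normalizer (hNnorm K) (le_bot_iff.1 (hdisj ▸ inf_le_inf_right N hKA))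
  have hNpos : 0 < Nat.card N := Nat.card_pos
  have hKpos : 0 < Nat.card K := Nat.card_pos
  refine ⟨?_, ?_, ?_, hcardM⟩
  · rw [← Subgroup.normalizer_eq_top_iff, eq_top_iff, ← hsup]
    exact sup_le (le_sup_left.trans Subgroup.le_normalizer) (normalizer_sup_le (hNnorm A) hAK)
  · obtain ⟨j, hj⟩ := IsPGroup.iff_card.1 hQ
    refine ⟨j, ?_⟩
    have h1 := (N ⊔ K).index_mul_card
    rw [hcardM, ← hAN, ← hcard, hj] at h1
    have : (N ⊔ K).index * (Nat.card K * Nat.card N) = p ^ j * (Nat.card K * Nat.card N) := by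
      rw [h1]; ring
    exact Nat.eq_of_mul_eq_mul_right (Nat.mul_pos hKpos hNpos) this
  · have h1 := Subgroup.relIndex_mul_relIndex (⊥ : Subgroup G) N (N ⊔ K) bot_le le_sup_left
    rw [Subgroup.relIndex_bot_left, Subgroup.relIndex_bot_left, hcardM] at h1
    have : Nat.card N * N.relIndex (N ⊔ K) = Nat.card N * Nat.card K := by rw [h1]; ring
    exact Nat.eq_of_mul_eq_mul_left hNpos this

open Cfsg.Agent.Helper1 Cfsg.Agent.Helper5 in
/-- Let G be a finite group that is the semidirect product of a normal p-subgroup N by a subgroup A, and also of N by a subgroup A₁, where p is a prime and A and A₁ both have normal p-complements. If C_N(A) = C_N(A₁) = 1, then A₁ is conjugate to A by an element of N. -/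
theorem result {G : Type*} [Group G] [Finite G] {p : ℕ}
    [Fact p.Prime] (N : Subgroup G) [N.Normal] (hN : IsPGroup p N) (A A₁ : Subgroup G)
    (hA : A.IsComplement' N) (hA₁ : A₁.IsComplement' N)
    (hAp : Cfsg.HasNormalPComplement p A) (hA₁p : Cfsg.HasNormalPComplement p A₁)
    (hC : ∀ n : G, n ∈ N → (∀ a : G, a ∈ A → a * n * a⁻¹ = n) → n = 1)
    (hC₁ : ∀ n : G, n ∈ N → (∀ a : G, a ∈ A₁ → a * n * a⁻¹ = n) → n = 1) :
    ∃ n : G, n ∈ N ∧ A₁ = A.map (MulAut.conj n).toMonoidHom := by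
  have hp : p.Prime := Fact.out
  obtain ⟨K, Q, hKA, hQA, hAK, hKcop, hQp, hKQ, hcardA⟩ := extract A hAp
  obtain ⟨K₁, Q₁, hK₁A, hQ₁A, hAK₁, hK₁cop, hQ₁p, hKQ₁, hcardA₁⟩ := extract A₁ hA₁p
  obtain ⟨e, he⟩ := IsPGroup.iff_card.1 hN
  have hAN : Nat.card A * Nat.card N = Nat.card G := hA.card_mul_card
  have hA₁N : Nat.card A₁ * Nat.card N = Nat.card G := hA₁.card_mul_card
  have hAdisj : A ⊓ N = ⊥ := hA.disjoint.eq_bot
  have hA₁disj : A₁ ⊓ N = ⊥ := hA₁.disjoint.eq_bot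
  have hAsup : N ⊔ A = ⊤ := by rw [sup_comm]; exact hA.sup_eq_top
  have hA₁sup : N ⊔ A₁ = ⊤ := by rw [sup_comm]; exact hA₁.sup_eq_top
  have hNnorm : ∀ X : Subgroup G, X ≤ Subgroup.normalizer (N : Set G) := fun X => by
    rw [Subgroup.normalizer_eq_top]; exact le_top
  have hNpos : 0 < Nat.card N := Nat.card_pos
  obtain ⟨hMn, hMidx, hMrel, hMcard⟩ := factsM N A K Q hKA hAK hAdisj hAsup hcardA hAN hQp
  obtain ⟨hM₁n, hM₁idx, hM₁rel, hM₁card⟩ :=
    factsM N A₁ K₁ Q₁ hK₁A hAK₁ hA₁disj hA₁sup hcardA₁ hA₁N hQ₁p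
  have hle : N ⊔ K ≤ N ⊔ K₁ :=
    sup_le_sup_of N _ _ le_sup_left le_sup_left hM₁n hM₁idx (hMrel ▸ hKcop)
  have hle₁ : N ⊔ K₁ ≤ N ⊔ K :=
    sup_le_sup_of N _ _ le_sup_left le_sup_left hMn hMidx (hM₁rel ▸ hK₁cop)
  have hMeq : N ⊔ K = N ⊔ K₁ := le_antisymm hle hle₁
  have hKcard : Nat.card K₁ = Nat.card K := by
    have : Nat.card K₁ * Nat.card N = Nat.card K * Nat.card N := by
      rw [← hM₁card, ← hMcard, hMeq]
    exact Nat.eq_of_mul_eq_mul_right hNpos this
  have hNK : (Nat.card N).Coprime (Nat.card K) := by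
    rw [he]; exact Nat.Coprime.pow_left e hKcop.symm
  have hNsolv : Group.IsSolvable N := by
    have : Group.IsNilpotent N := hN.isNilpotent
    infer_instance
  obtain ⟨n, hn, hnK⟩ := sz_conj_internal N K K₁ (hNnorm K) (le_sup_right.trans hle₁) hKcard hNK
    (Or.inl hNsolv)
  refine ⟨n, hn, ?_⟩
  set A' := MulAut.conj n • A with hA'
  have hA'map : A.map (MulAut.conj n).toMonoidHom = A' := rfl
  rw [hA'map]
  set L := Subgroup.normalizer (K₁ : Set G) with hL
  -- A' ≤ L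
  have hA'L : A' ≤ L := by
    intro y hy
    rw [hA', Subgroup.mem_pointwise_smul_iff_inv_smul_mem] at hy
    apply mem_normalizer_of_conj_smul_eq
    have hy' : y = n * ((MulAut.conj n)⁻¹ • y) * n⁻¹ := by
      rw [MulAut.smul_def, MulAut.conj_inv_apply]; group
    have h1 := conj_smul_eq_of_mem_normalizer (hAK hy)
    rw [← hnK, hy', smul_smul, ← map_mul]
    have : n * ((MulAut.conj n)⁻¹ • y) * n⁻¹ * n = n * ((MulAut.conj n)⁻¹ • y) := by group
    rw [this, map_mul, mul_smul, h1]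
  -- N ⊓ L = ⊥
  have hN₀ : N ⊓ L = ⊥ := by
    by_contra hne
    have hQ₁norm : Q₁ ≤ Subgroup.normalizer ((N ⊓ L : Subgroup G) : Set G) :=
      le_normalizer_inf (hNnorm Q₁) ((hQ₁A.trans hAK₁).trans Subgroup.le_normalizer)
    have hT : IsPGroup p (Q₁ ⊔ (N ⊓ L) : Subgroup G) :=
      IsPGroup.to_sup_of_normal_right' hQ₁p (hN.to_le inf_le_left) hQ₁norm
    obtain ⟨z, hz, hzp, hzc⟩ := exists_orderOf_eq_prime_central (Q₁ ⊔ (N ⊓ L)) (N ⊓ L) hT
      le_sup_right hne (sup_le hQ₁norm Subgroup.le_normalizer)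
    have hzN : z ∈ N := hz.1
    have hzL : z ∈ L := hz.2
    have hzK₁ : K₁ ≤ Subgroup.centralizer ({z} : Set G) := by
      intro k hk
      rw [Subgroup.mem_centralizer_iff]
      intro w hw
      rw [Set.mem_singleton_iff] at hw
      subst hw
      have h1 : w * k * w⁻¹ ∈ K₁ := (Subgroup.mem_normalizer_iff.1 hzL k).1 hk
      have h2 : w * k * w⁻¹ * k⁻¹ ∈ K₁ := K₁.mul_mem h1 (K₁.inv_mem hk)
      have h3 : w * k * w⁻¹ * k⁻¹ ∈ N := by
        have : w * k * w⁻¹ * k⁻¹ = w * (k * w⁻¹ * k⁻¹) := by group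
        rw [this]
        exact N.mul_mem hzN (‹N.Normal›.conj_mem _ (N.inv_mem hzN) k)
      have h4 : w * k * w⁻¹ * k⁻¹ ∈ A₁ ⊓ N := ⟨hK₁A h2, h3⟩
      rw [hA₁disj, Subgroup.mem_bot] at h4
      calc w * k = (w * k * w⁻¹ * k⁻¹) * (k * w) := by group
        _ = k * w := by rw [h4, one_mul]
    have hzQ₁ : Q₁ ≤ Subgroup.centralizer ({z} : Set G) := by
      intro t ht
      rw [Subgroup.mem_centralizer_iff]
      intro w hw
      rw [Set.mem_singleton_iff] at hw
      subst hw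
      exact (hzc t (Subgroup.mem_sup_left ht)).symm
    have hzA₁ : A₁ ≤ Subgroup.centralizer ({z} : Set G) := hKQ₁ ▸ sup_le hzK₁ hzQ₁
    have hz1 : z = 1 := by
      apply hC₁ z hzN
      intro a ha
      have := (Subgroup.mem_centralizer_iff.1 (hzA₁ ha)) z (Set.mem_singleton z)
      rw [← this]; group
    rw [hz1, orderOf_one] at hzp
    exact hp.one_lt.ne hzp
  -- L ≤ A₁
  have hLA₁ : L ≤ A₁ := by
    intro g hg
    have hgtop : g ∈ N ⊔ A₁ := by rw [hA₁sup]; exact Subgroup.mem_top g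
    rw [← SetLike.mem_coe, Subgroup.normal_mul, Set.mem_mul] at hgtop
    obtain ⟨x, hx, a, ha, rfl⟩ := hgtop
    have hxL : x ∈ L := by
      have : x = x * a * a⁻¹ := by group
      rw [this]
      exact L.mul_mem hg (L.inv_mem (hAK₁ ha))
    have hx1 : x ∈ N ⊓ L := ⟨hx, hxL⟩
    rw [hN₀, Subgroup.mem_bot] at hx1
    rw [hx1, one_mul]; exact ha
  have hcardA' : Nat.card A' = Nat.card A := by
    rw [hA']
    exact (Nat.card_congr (Subgroup.equivSMul (MulAut.conj n) A).toEquiv).symm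
  have hAA₁ : Nat.card A₁ = Nat.card A := by
    have : Nat.card A₁ * Nat.card N = Nat.card A * Nat.card N := by rw [hAN, hA₁N]
    exact Nat.eq_of_mul_eq_mul_right hNpos this
  exact (Subgroup.eq_of_le_of_card_ge (hA'L.trans hLA₁) (by rw [hcardA', hAA₁])).symm

end Cfsg.Agent.S4043
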