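import Mathlib
import Cfsg.Statements.S4049
import Cfsg.Agent.S3861

set_option autoImplicit false
open Cfsg

namespace Cfsg.Agent.S4049

/-- Let G be a finite group such that N_G(H)/C_G(H) has odd order for every nontrivial subgroup H of odd order. Then the Sylow 2-subgroups of G are normal. -/
theorem result {G : Type*} [Group G] [Finite G]
    (hhom : ∀ H : Subgroup G, H ≠ ⊥ → ¬ 2 ∣ Nat.card ↥H →
        ¬ 2 ∣ (Subgroup.centralizer (H : Set G)).relIndex (Subgroup.normalizer (H : Set G))) (P : Sylow 2 G) :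
    (P : Subgroup G).Normal := by
  apply Cfsg.Agent.S3861.normal_of_noReal _ P
  intro x hx1 hodd hconj
  obtain ⟨g, hg⟩ := isConj_iff.1 hconj
  set H := Subgroup.zpowers x with hH
  have hHne : H ≠ ⊥ := by
    intro h
    apply hx1
    have : x ∈ H := Subgroup.mem_zpowers x
    rwa [h, Subgroup.mem_bot] at this
  have hHodd : ¬ 2 ∣ Nat.card ↥H := by
    rw [hH, Nat.card_zpowers]
    intro h2
    exact (Nat.not_even_iff_odd.2 hodd) (even_iff_two_dvd.2 h2)
  have hrel := hhom H hHne hHodd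
  -- g normalizes H
  have hgN : g ∈ Subgroup.normalizer (H : Set G) := by
    have hfwd : ∀ u ∈ H, g * u * g⁻¹ ∈ H := by
      rintro u ⟨k, rfl⟩
      have : g * x ^ k * g⁻¹ = (x⁻¹) ^ k := by
        rw [← hg]
        exact (conj_zpow (a := g) (b := x) (i := k)).symm
      rw [this]
      exact Subgroup.zpow_mem _ (Subgroup.inv_mem _ (Subgroup.mem_zpowers x)) k
    rw [Subgroup.mem_normalizer_iff]
    intro u
    refine ⟨hfwd u, fun hu => ?_⟩
    have hinj : Function.Injective (fun u : H => (⟨g * u * g⁻¹, hfwd u u.2⟩ : H)) := by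
      intro a b hab
      have := congrArg Subtype.val hab
      simp only [mul_left_inj, mul_right_inj] at this
      exact Subtype.ext this
    obtain ⟨⟨v, hv⟩, hv'⟩ := (Finite.injective_iff_surjective.1 hinj) ⟨g * u * g⁻¹, hu⟩
    have := congrArg Subtype.val hv'
    simp only [mul_left_inj, mul_right_inj] at this
    rw [← this]; exact hv
  -- a power g^k with k odd centralizes H
  set N := Subgroup.normalizer (H : Set G) with hN
  set C := Subgroup.centralizer (H : Set G) with hC
  have hCn : (C.subgroupOf N).Normal := by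
    rw [hC, hN]
    infer_instance
  set k := C.relIndex N with hk
  have hkodd : Odd k := by
    rw [← Nat.not_even_iff_odd, even_iff_two_dvd]; exact hrel
  have hpow : (⟨g, hgN⟩ : N) ^ (C.subgroupOf N).index ∈ C.subgroupOf N :=
    Subgroup.pow_index_mem _ _
  have hgk : g ^ k ∈ C := by
    have := hpow
    rw [Subgroup.mem_subgroupOf] at this
    simpa [hk, Subgroup.relIndex] using this
  have hcomm : g ^ k * x = x * g ^ k := by
    rw [hC, Subgroup.mem_centralizer_iff] at hgk
    exact (hgk x (Subgroup.mem_zpowers x)).symm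
  obtain ⟨j, hj⟩ := hkodd
  have hg2 : Commute (g ^ 2) x := by
    have e : g ^ 2 * x * (g ^ 2)⁻¹ = x := by
      calc g ^ 2 * x * (g ^ 2)⁻¹ = g * (g * x * g⁻¹) * g⁻¹ := by rw [pow_two]; group
        _ = g * x⁻¹ * g⁻¹ := by rw [hg]
        _ = (g * x * g⁻¹)⁻¹ := by group
        _ = x := by rw [hg, inv_inv]
    unfold Commute SemiconjBy
    calc g ^ 2 * x = (g ^ 2 * x * (g ^ 2)⁻¹) * g ^ 2 := by group
      _ = x * g ^ 2 := by rw [e]
  have hux : g ^ k * x * (g ^ k)⁻¹ = x⁻¹ := by
    have hc : Commute ((g ^ 2) ^ j) x := hg2.pow_left j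
    have e : g ^ k = (g ^ 2) ^ j * g := by
      rw [hj, pow_succ, pow_mul]
    rw [e]
    calc (g ^ 2) ^ j * g * x * ((g ^ 2) ^ j * g)⁻¹
        = (g ^ 2) ^ j * (g * x * g⁻¹) * ((g ^ 2) ^ j)⁻¹ := by group
      _ = (g ^ 2) ^ j * x⁻¹ * ((g ^ 2) ^ j)⁻¹ := by rw [hg]
      _ = x⁻¹ := by rw [(hc.inv_right).eq]; group
  have hxx : x = x⁻¹ := by
    rw [← hux, hcomm]; group
  have hx2 : x ^ 2 = 1 := by
    rw [pow_two]
    nth_rewrite 2 [hxx]
    exact mul_inv_cancel x
  have hd : orderOf x ∣ 2 := orderOf_dvd_of_pow_eq_one hx2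
  rcases (Nat.dvd_prime Nat.prime_two).1 hd with h1 | h2
  · exact hx1 (orderOf_eq_one_iff.1 h1)
  · rw [h2] at hodd
    exact absurd hodd (by decide)

end Cfsg.Agent.S4049
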