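import Mathlib
import Cfsg.Statements.S4050
import Cfsg.Agent.Helper3.PiSep
-- import your own Cfsg.Agent.* helpers here

set_option autoImplicit false
open Cfsg

namespace Cfsg.Agent.S4050

open Cfsg.Agent.Helper3.PiSep Cfsg.Agent.Helper1

universe u

theorem backward {G : Type u} [Group G] [Finite G] (π : Set ℕ)
    (n : ℕ) (H : Fin (n + 1) → Subgroup G) (h0 : H 0 = ⊥) (hlast : H (Fin.last n) = ⊤)
    (hmono : Monotone H) (hnorm : ∀ i, (H i).Normal)
    (hfac : ∀ i : Fin n, (∀ q : ℕ, q.Prime → q ∣ (H i.castSucc).relIndex (H i.succ) → q ∈ π) ∨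
        (∀ q : ℕ, q.Prime → q ∣ (H i.castSucc).relIndex (H i.succ) → q ∉ π))
    (hhom : Hom G π) :
    ∃ K : Subgroup G, ∀ x : G, x ∈ K ↔ ∀ p : ℕ, p.Prime → p ∣ orderOf x → p ∈ π := by
  have key : ∀ i : ℕ, ∀ hi : i < n + 1, ∃ E : Subgroup G, E.Normal ∧ E ≤ H ⟨i, hi⟩ ∧
      (∀ p : ℕ, p.Prime → p ∣ Nat.card E → p ∈ π) ∧
      (∀ p : ℕ, p.Prime → p ∣ E.relIndex (H ⟨i, hi⟩) → p ∉ π) := by
    intro i
    induction i with
    | zero =>
      intro hi
      refine ⟨⊥, inferInstance, bot_le, ?_, ?_⟩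
      · intro p hp hpd
        rw [Subgroup.card_bot] at hpd
        exact absurd (Nat.dvd_one.1 hpd) hp.ne_one
      · intro p hp hpd
        have : (⟨0, hi⟩ : Fin (n + 1)) = 0 := rfl
        rw [this, h0, Subgroup.relIndex_bot_left, Subgroup.card_bot] at hpd
        exact absurd (Nat.dvd_one.1 hpd) hp.ne_one
    | succ i ih =>
      intro hi
      obtain ⟨E, hEn, hEK, hEc, hEi⟩ := ih (by omega)
      set j : Fin n := ⟨i, by omega⟩ with hj
      have hjc : j.castSucc = ⟨i, by omega⟩ := rfl
      have hjs : j.succ = ⟨i + 1, hi⟩ := rfl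
      have hKM : H j.castSucc ≤ H j.succ := hmono (Fin.castSucc_le_succ j)
      rw [← hjc] at hEK hEi
      rw [← hjs]
      rcases hfac j with h | h
      · have := hnorm j.castSucc
        have := hnorm j.succ
        obtain ⟨E', h1, _, h3, h4, h5⟩ := core π hhom E (H j.castSucc) (H j.succ) hEK hKM hEc hEi h
        exact ⟨E', h1, h3, h4, h5⟩
      · refine ⟨E, hEn, hEK.trans hKM, hEc, ?_⟩
        intro p hp hpd
        rw [← Subgroup.relIndex_mul_relIndex E (H j.castSucc) (H j.succ) hEK hKM] at hpd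
        rcases (Nat.Prime.dvd_mul hp).1 hpd with h' | h'
        · exact hEi p hp h'
        · exact h p hp h'
  obtain ⟨E, hEn, -, hEc, hEi⟩ := key n (by omega)
  have : (⟨n, by omega⟩ : Fin (n + 1)) = Fin.last n := rfl
  rw [this, hlast, Subgroup.relIndex_top_right] at hEi
  exact ⟨E, piElements_of_hall π E hEc hEi⟩

theorem forward_hom {G : Type u} [Group G] [Finite G] (π : Set ℕ) (K : Subgroup G)
    (hK : ∀ x : G, x ∈ K ↔ ∀ p : ℕ, p.Prime → p ∣ orderOf x → p ∈ π) : Hom G π := by
  obtain ⟨hKn, hKc, hKi⟩ := hall_of_piElements π K hK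
  intro H _ hHπ p hp hpd hpπ
  have : Fact p.Prime := ⟨hp⟩
  set N := Subgroup.normalizer (H : Set G) with hN
  set C := Subgroup.centralizer (H : Set G) with hC
  have hKH : K ⊓ H = ⊥ := by
    apply inf_eq_bot_of_coprime_card
    apply Nat.coprime_of_dvd
    intro r hr h1 h2
    exact hHπ r hr h2 (hKc r hr h1)
  obtain ⟨P⟩ : Nonempty (Sylow p N) := inferInstance
  have hPC : (P : Subgroup N) ≤ C.subgroupOf N := by
    intro y hy
    rw [Subgroup.mem_subgroupOf, hC, Subgroup.mem_centralizer_iff]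
    intro h hh
    have hyK : (y : G) ∈ K := by
      rw [hK]
      intro r hr hry
      obtain ⟨k, hk⟩ := P.2 ⟨y, hy⟩
      have h1 : (y : G) ^ p ^ k = 1 := by
        have := congrArg (fun z : (P : Subgroup N) => ((z : N) : G)) hk
        simpa using this
      have h2 : r ∣ p ^ k := hry.trans (orderOf_dvd_of_pow_eq_one h1)
      have h3 := (Nat.prime_dvd_prime_iff_eq hr hp).1 (hr.dvd_of_dvd_pow h2)
      rw [h3]; exact hpπ
    have hyN : (y : G) ∈ N := y.2
    have h1 : (y : G) * h * (y : G)⁻¹ * h⁻¹ ∈ K ⊓ H := by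
      constructor
      · have : h * (y : G)⁻¹ * h⁻¹ ∈ K := hKn.conj_mem _ (K.inv_mem hyK) h
        have := K.mul_mem hyK this
        simpa [mul_assoc] using this
      · have : (y : G) * h * (y : G)⁻¹ ∈ H := (Subgroup.mem_normalizer_iff.1 hyN h).1 hh
        exact H.mul_mem this (H.inv_mem hh)
    rw [hKH, Subgroup.mem_bot] at h1
    have h2 : (y : G) * h = h * (y : G) := by
      have := congrArg (fun z => z * h * (y : G)) h1
      simpa [mul_assoc] using this
    exact h2.symm
  have h1 : (C.subgroupOf N).index ∣ (P : Subgroup N).index := Subgroup.index_dvd_of_le hPC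
  exact P.not_dvd_index (hpd.trans h1)

/-- Let π be a set of primes and G a finite group. The π-elements of G (elements whose order is divisible only by primes of π) form a subgroup if and only if G is π-separable (it has a chain of normal subgroups from 1 to G with each successive index divisible only by primes in π or only by primes outside π) and N_G(H)/C_G(H) is a π'-group for every nontrivial π'-subgroup H of G. -/
theorem result {G : Type*} [Group G] [Finite G] (π : Set ℕ)
    (hπ : ∀ p ∈ π, p.Prime) :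
    (∃ K : Subgroup G, ∀ x : G, x ∈ K ↔ ∀ p : ℕ, p.Prime → p ∣ orderOf x → p ∈ π) ↔
    ((∃ (n : ℕ) (H : Fin (n + 1) → Subgroup G), H 0 = ⊥ ∧ H (Fin.last n) = ⊤ ∧ Monotone H ∧ (∀ i, (H i).Normal) ∧
      ∀ i : Fin n, (∀ q : ℕ, q.Prime → q ∣ (H i.castSucc).relIndex (H i.succ) → q ∈ π) ∨
        (∀ q : ℕ, q.Prime → q ∣ (H i.castSucc).relIndex (H i.succ) → q ∉ π)) ∧
     (∀ H : Subgroup G, H ≠ ⊥ → (∀ p : ℕ, p.Prime → p ∣ Nat.card ↥H → p ∉ π) →
        ∀ p : ℕ, p.Prime → p ∣ (Subgroup.centralizer (H : Set G)).relIndex (Subgroup.normalizer (H : Set G)) → p ∉ π)) := by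
  constructor
  · rintro ⟨K, hK⟩
    obtain ⟨hKn, hKc, hKi⟩ := hall_of_piElements π K hK
    refine ⟨⟨2, ![⊥, K, ⊤], rfl, rfl, ?_, ?_, ?_⟩, forward_hom π K hK⟩
    · rw [Fin.monotone_iff_le_succ]
      intro i
      fin_cases i
      · exact bot_le
      · exact le_top
    · intro i
      fin_cases i
      · exact (inferInstance : (⊥ : Subgroup G).Normal)
      · exact hKn
      · exact (inferInstance : (⊤ : Subgroup G).Normal)
    · intro i
      fin_cases i
      · left
        intro q hq hqd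
        have : (⊥ : Subgroup G).relIndex K = Nat.card K := Subgroup.relIndex_bot_left K
        exact hKc q hq (this ▸ hqd)
      · right
        intro q hq hqd
        have : K.relIndex ⊤ = K.index := Subgroup.relIndex_top_right K
        exact hKi q hq (this ▸ hqd)
  · rintro ⟨⟨n, H, h0, hlast, hmono, hnorm, hfac⟩, hhom⟩
    exact backward π n H h0 hlast hmono hnorm hfac hhom


end Cfsg.Agent.S4050
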