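import Mathlib
import Cfsg.Statements.S4051
import Cfsg.Agent.Helper3.PiSep
-- import your own Cfsg.Agent.* helpers here

set_option autoImplicit false
open Cfsg

namespace Cfsg.Agent.S4051

open Cfsg.Agent.Helper3.PiSep

universe u

/-- Let π be a set of primes and G a finite group such that N_G(H)/C_G(H) is a π'-group for every nontrivial π'-subgroup H of G. If K is a normal subgroup of G such that the π-elements of K form a subgroup and the π-elements of G/K form a subgroup, then the π-elements of G form a subgroup. -/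
theorem result {G : Type*} [Group G] [Finite G] (π : Set ℕ)
    (hπ : ∀ p ∈ π, p.Prime) (hhom : (∀ H : Subgroup G, H ≠ ⊥ → (∀ p : ℕ, p.Prime → p ∣ Nat.card ↥H → p ∉ π) →
        ∀ p : ℕ, p.Prime → p ∣ (Subgroup.centralizer (H : Set G)).relIndex (Subgroup.normalizer (H : Set G)) → p ∉ π))
    (K : Subgroup G) [K.Normal]
    (hK : ∃ L : Subgroup ↥K, ∀ x : ↥K, x ∈ L ↔ ∀ p : ℕ, p.Prime → p ∣ orderOf x → p ∈ π)
    (hQ : ∃ L : Subgroup (G ⧸ K), ∀ x : G ⧸ K, x ∈ L ↔ ∀ p : ℕ, p.Prime → p ∣ orderOf x → p ∈ π) :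
    (∃ K : Subgroup G, ∀ x : G, x ∈ K ↔ ∀ p : ℕ, p.Prime → p ∣ orderOf x → p ∈ π) := by
  obtain ⟨L, hL⟩ := hK
  obtain ⟨Lq, hLq⟩ := hQ
  obtain ⟨hLn, hLc, hLi⟩ := hall_of_piElements π L hL
  obtain ⟨hLqn, hLqc, hLqi⟩ := hall_of_piElements π Lq hLq
  set E : Subgroup G := L.map K.subtype with hE
  have hEK : E ≤ K := Subgroup.map_subtype_le _
  have hEn : E.Normal := by
    constructor
    rintro _ ⟨y, hy, rfl⟩ c
    have hc : c * (y : G) * c⁻¹ ∈ K := ‹K.Normal›.conj_mem _ y.2 c
    refine Subgroup.mem_map.2 ⟨⟨_, hc⟩, ?_, rfl⟩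
    have hy' := (hL y).1 hy
    rw [hL]
    rw [← Subgroup.orderOf_coe] at hy' ⊢
    rw [orderOf_conj']
    exact hy'
  have hEcard : Nat.card E = Nat.card L := Subgroup.card_map_of_injective K.subtype_injective
  have hErel : E.relIndex K = L.index := by
    rw [Subgroup.relIndex, hE]
    have : (L.map K.subtype).subgroupOf K = L :=
      Subgroup.comap_map_eq_self_of_injective K.subtype_injective L
    rw [this]
  set mk := QuotientGroup.mk' K with hmk
  have hsurj : Function.Surjective mk := QuotientGroup.mk'_surjective K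
  set M : Subgroup G := Lq.comap mk with hM
  have hMn : M.Normal := hLqn.comap mk
  have hKM : K ≤ M := le_of_eq_of_le (QuotientGroup.ker_mk' K).symm (Subgroup.ker_le_comap mk Lq)
  have hMrel : K.relIndex M = Nat.card Lq := by
    rw [← card_map_mk', hM, Subgroup.map_comap_eq_self_of_surjective hsurj]
  obtain ⟨E', hE'n, hEE', hE'M, hE'c, hE'i⟩ := core π hhom E K M hEK hKM
    (by rw [hEcard]; exact hLc) (by rw [hErel]; exact hLi) (by rw [hMrel]; exact hLqc)
  refine ⟨E', fun x => ⟨?_, ?_⟩⟩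
  · intro hx p hp hpo
    exact hE'c p hp (hpo.trans (Subgroup.orderOf_dvd_natCard _ hx))
  · intro hx
    have hxM : x ∈ M := by
      change mk x ∈ Lq
      rw [hLq]
      intro p hp hpo
      exact hx p hp (hpo.trans (orderOf_map_dvd mk x))
    apply mem_of_coprime_relIndex E' M hxM
    apply Nat.coprime_of_dvd
    intro p hp hpo hpi
    exact hE'i p hp hpi (hx p hp hpo)


end Cfsg.Agent.S4051
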