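import Mathlib
import Cfsg.Statements.S4056
import Cfsg.Agent.S0013

set_option autoImplicit false
open Cfsg

namespace Cfsg.Agent.S4056

open scoped commutatorElement

/-- If `u v = d v u` with `d` central then `u² v = d² v u²`. -/
theorem sq_mul {P : Type*} [Group P] (u v d : P) (hd : u * v = d * v * u) (hdc : ∀ g, d * g = g * d) :
    u * u * v = d * d * v * u * u := by
  calc u * u * v = u * (u * v) := mul_assoc _ _ _
    _ = u * (d * v * u) := by rw [hd]
    _ = (u * d) * v * u := by simp only [mul_assoc]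
    _ = (d * u) * v * u := by rw [hdc u]
    _ = d * (u * v) * u := by simp only [mul_assoc]
    _ = d * (d * v * u) * u := by rw [hd]
    _ = d * d * v * u * u := by simp only [mul_assoc]

/-- If `u v = d v u` with `d` central then `(u v)² = d⁻¹ u² v²`. -/
theorem mul_sq {P : Type*} [Group P] (u v d : P) (hd : u * v = d * v * u) (hdc : ∀ g, d * g = g * d) :
    (u * v) * (u * v) = d⁻¹ * (u * u) * (v * v) := by
  have h1 : v * u = d⁻¹ * (u * v) := by rw [hd]; group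
  have hdc' : ∀ g, d⁻¹ * g = g * d⁻¹ := by
    intro g
    have := hdc g
    calc d⁻¹ * g = d⁻¹ * (g * d) * d⁻¹ := by group
      _ = d⁻¹ * (d * g) * d⁻¹ := by rw [this]
      _ = g * d⁻¹ := by group
  calc (u * v) * (u * v) = u * (v * u) * v := by simp only [mul_assoc]
    _ = u * (d⁻¹ * (u * v)) * v := by rw [h1]
    _ = (u * d⁻¹) * u * v * v := by simp only [mul_assoc]
    _ = (d⁻¹ * u) * u * v * v := by rw [hdc' u]
    _ = d⁻¹ * (u * u) * (v * v) := by simp only [mul_assoc]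

theorem comm_sq {P : Type*} [Group P] (c A : P) (h : ∀ g, c * g = g * c) : A * (c * c) = c * c * A := by
  rw [← mul_assoc, ← h A, mul_assoc, ← h A, mul_assoc]

theorem main {P : Type*} [Group P]
    (hcen : ∀ x y g : P, ⁅x, y⁆ * g = g * ⁅x, y⁆) (h4 : ∀ g : P, g ^ 4 = 1) (x y : P) :
    ⁅x, y⁆ * ⁅x, y⁆ = 1 ∧ (x * x) * y = y * (x * x) := by
  have hxy : x * y = ⁅x, y⁆ * y * x := by rw [commutatorElement_def]; group
  have h1 := sq_mul x y ⁅x, y⁆ hxy (hcen x y)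
  have key : ⁅x, y⁆ * ⁅x, y⁆ = 1 → (x * x) * y = y * (x * x) := by
    intro h
    rw [h1, h, one_mul, mul_assoc]
  have hpow4 : ∀ g : P, g * g * (g * g) = 1 := by
    intro g
    rw [← h4 g, show (4 : ℕ) = 2 + 2 from rfl, pow_add, pow_two]
  -- `y² x² = x² y²`
  have hyx : y * (x * x) = ⁅y, x * x⁆ * (x * x) * y := by rw [commutatorElement_def]; group
  have h2 := sq_mul y (x * x) ⁅y, x * x⁆ hyx (hcen y (x * x))
  have he : ⁅y, x * x⁆ = (⁅x, y⁆ * ⁅x, y⁆)⁻¹ := by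
    rw [eq_inv_iff_mul_eq_one]
    have : x * x = ⁅x, y⁆ * ⁅x, y⁆ * y * x * x * y⁻¹ := by rw [← h1]; group
    calc ⁅y, x * x⁆ * (⁅x, y⁆ * ⁅x, y⁆) = y * (x * x) * y⁻¹ * (x * x)⁻¹ * (⁅x, y⁆ * ⁅x, y⁆) := by
          rw [commutatorElement_def y]
      _ = (⁅x, y⁆ * ⁅x, y⁆) * (y * (x * x) * y⁻¹ * (x * x)⁻¹) := comm_sq _ _ (hcen x y)
      _ = (⁅x, y⁆ * ⁅x, y⁆ * y * x * x * y⁻¹) * (x * x)⁻¹ := by simp only [mul_assoc]
      _ = 1 := by rw [← this, mul_inv_cancel]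
  have hee : ⁅y, x * x⁆ * ⁅y, x * x⁆ = 1 := by
    rw [he, ← mul_inv_rev, inv_eq_one]
    have := hpow4 ⁅x, y⁆
    exact this
  have hcomm2 : y * y * (x * x) = x * x * (y * y) := by
    rw [h2, hee, one_mul]; simp only [mul_assoc]
  have hc2 : ⁅x, y⁆ * ⁅x, y⁆ = 1 := by
    have e1 := mul_sq x y ⁅x, y⁆ hxy (hcen x y)
    have e2 : (x * y) * (x * y) * ((x * y) * (x * y)) = 1 := hpow4 (x * y)
    rw [e1] at e2
    have hci : ∀ g, ⁅x, y⁆⁻¹ * g = g * ⁅x, y⁆⁻¹ := by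
      intro g
      have := hcen x y g
      calc ⁅x, y⁆⁻¹ * g = ⁅x, y⁆⁻¹ * (g * ⁅x, y⁆) * ⁅x, y⁆⁻¹ := by group
        _ = ⁅x, y⁆⁻¹ * (⁅x, y⁆ * g) * ⁅x, y⁆⁻¹ := by rw [this]
        _ = g * ⁅x, y⁆⁻¹ := by group
    have e3 : ⁅x, y⁆⁻¹ * (x * x) * (y * y) * (⁅x, y⁆⁻¹ * (x * x) * (y * y)) =
        ⁅x, y⁆⁻¹ * ⁅x, y⁆⁻¹ * ((x * x) * ((y * y) * (x * x)) * (y * y)) := by
      calc ⁅x, y⁆⁻¹ * (x * x) * (y * y) * (⁅x, y⁆⁻¹ * (x * x) * (y * y))
          = ⁅x, y⁆⁻¹ * ((x * x) * (y * y) * ⁅x, y⁆⁻¹) * ((x * x) * (y * y)) := by simp only [mul_assoc]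
        _ = ⁅x, y⁆⁻¹ * (⁅x, y⁆⁻¹ * ((x * x) * (y * y))) * ((x * x) * (y * y)) := by rw [← hci]
        _ = ⁅x, y⁆⁻¹ * ⁅x, y⁆⁻¹ * ((x * x) * ((y * y) * (x * x)) * (y * y)) := by simp only [mul_assoc]
    rw [e3, hcomm2] at e2
    have e4 : x * x * (x * x * (y * y)) * (y * y) = 1 := by
      calc x * x * (x * x * (y * y)) * (y * y) = (x * x * (x * x)) * (y * y * (y * y)) := by
            simp only [mul_assoc]
        _ = 1 := by rw [hpow4 x, hpow4 y, one_mul]
    rw [e4, mul_one, ← mul_inv_rev, inv_eq_one] at e2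
    exact e2
  exact ⟨hc2, key hc2⟩

/-- In a finite 2-group of nilpotency class at most 2 and exponent dividing 4, the Frattini subgroup lies in the centre and is elementary abelian. -/
theorem result {P : Type*} [Group P] [Finite P] (hP : IsPGroup 2 P)
    (hcl : Group.nilpotencyClass P ≤ 2) (hexp : Monoid.exponent P ∣ 4) :
    frattini P ≤ Subgroup.center P ∧ Cfsg.IsElementaryAbelian 2 (frattini P) := by
  have hnil : Group.IsNilpotent P := hP.isNilpotent
  have hucs : Subgroup.upperCentralSeries P 2 = ⊤ :=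
    Subgroup.upperCentralSeries_eq_top_iff_nilpotencyClass_le.mpr hcl
  have hcen : ∀ x y g : P, ⁅x, y⁆ * g = g * ⁅x, y⁆ := by
    intro x y g
    have hx : x ∈ Subgroup.upperCentralSeries P (1 + 1) := by
      rw [show (1 + 1 : ℕ) = 2 from rfl, hucs]; exact Subgroup.mem_top x
    rw [Subgroup.mem_upperCentralSeries_succ_iff] at hx
    have := hx y
    rw [Subgroup.upperCentralSeries_one, Subgroup.mem_center_iff] at this
    exact (this g).symm
  have h4 : ∀ g : P, g ^ 4 = 1 := by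
    intro g
    obtain ⟨k, hk⟩ := hexp
    rw [hk, pow_mul, Monoid.pow_exponent_eq_one, one_pow]
  let T : Subgroup P :=
    { carrier := {z | z ∈ Subgroup.center P ∧ z ^ 2 = 1}
      one_mem' := ⟨Subgroup.one_mem _, one_pow 2⟩
      mul_mem' := by
        rintro a b ⟨ha, ha2⟩ ⟨hb, hb2⟩
        refine ⟨Subgroup.mul_mem _ ha hb, ?_⟩
        have hab : Commute a b := (Subgroup.mem_center_iff.mp ha b).symm
        rw [hab.mul_pow, ha2, hb2, one_mul]
      inv_mem' := by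
        rintro a ⟨ha, ha2⟩
        exact ⟨Subgroup.inv_mem _ ha, by rw [inv_pow, ha2, inv_one]⟩ }
  have hTmem : ∀ z, z ∈ T ↔ z ∈ Subgroup.center P ∧ z ^ 2 = 1 := fun z => Iff.rfl
  have hTn : T.Normal := by
    constructor
    intro n hn g
    have : g * n * g⁻¹ = n := by
      rw [Subgroup.mem_center_iff.mp hn.1 g, mul_inv_cancel_right]
    rw [this]; exact hn
  have hcT : commutator P ≤ T := by
    rw [commutator_eq_closure, Subgroup.closure_le]
    rintro _ ⟨x, y, rfl⟩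
    refine ⟨?_, ?_⟩
    · rw [Subgroup.mem_center_iff]
      intro g
      exact (hcen x y g).symm
    · rw [pow_two]; exact (main hcen h4 x y).1
  have hpT : ∀ x : P, x ^ 2 ∈ T := by
    intro x
    refine ⟨?_, ?_⟩
    · rw [Subgroup.mem_center_iff]
      intro g
      rw [pow_two]
      exact ((main hcen h4 x g).2).symm
    · rw [← pow_mul]; exact h4 x
  have hle : frattini P ≤ T := Cfsg.Agent.S0013.result 2 hP T hcT hpT
  refine ⟨fun z hz => (hle hz).1, ⟨⟨⟨?_⟩⟩, fun a ha => (hle ha).2⟩⟩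
  intro a b
  apply Subtype.ext
  exact (Subgroup.mem_center_iff.mp (hle a.2).1 b).symm

end Cfsg.Agent.S4056
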