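import Mathlib
import Cfsg.Statements.S4059
import Cfsg.Agent.Helper3.Real

set_option autoImplicit false
open Cfsg

namespace Cfsg.Agent.S4059

open Cfsg.Agent.Helper3
open scoped commutatorElement

/-- Let G be a finite group in which every element is conjugate to its inverse. Then: every non-identity element commuting with all elements of some Sylow 2-subgroup is an involution; the centre of G is an elementary abelian 2-group; the commutator quotient G/G' is an elementary abelian 2-group; and G is generated by its 2-elements. -/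
theorem result {G : Type*} [Group G] [Finite G] (hamb : ∀ x : G, IsConj x x⁻¹) :
    (∀ (S : Sylow 2 G) (x : G), x ∈ Subgroup.centralizer ((S : Subgroup G) : Set G) → x ≠ 1 → orderOf x = 2) ∧
    (∀ z : G, z ∈ Subgroup.center G → z ^ 2 = 1) ∧
    (∀ x : G, x ^ 2 ∈ commutator G) ∧
    Subgroup.closure {x : G | ∃ k : ℕ, orderOf x = 2 ^ k} = ⊤ := by
  haveI : Fact (Nat.Prime 2) := ⟨Nat.prime_two⟩
  refine ⟨?_, ?_, ?_, ?_⟩
  · intro S x hxS hx1
    have hle : (S : Subgroup G) ≤ Subgroup.centralizer ({x} : Set G) := by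
      intro s hs
      rw [Subgroup.mem_centralizer_iff]
      intro y hy
      rw [Set.mem_singleton_iff] at hy
      subst hy
      rw [Subgroup.mem_centralizer_iff] at hxS
      exact (hxS s hs).symm
    have hodd : Odd (Subgroup.centralizer ({x} : Set G)).index := by
      rw [← Nat.not_even_iff_odd, even_iff_two_dvd]
      intro h2
      exact S.not_dvd_index (h2.trans (Subgroup.index_dvd_of_le hle))
    have := sq_eq_one_of_real_of_odd_index x (hamb x) hodd
    exact orderOf_eq_prime this hx1
  · intro z hz
    obtain ⟨c, hc⟩ := isConj_iff.1 (hamb z)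
    rw [Subgroup.mem_center_iff] at hz
    have h1 : z = z⁻¹ := by
      rw [← hc, hz c]; group
    rw [pow_two]
    nth_rewrite 1 [h1]
    exact inv_mul_cancel z
  · intro x
    obtain ⟨c, hc⟩ := isConj_iff.1 (hamb x)
    have h1 : x ^ 2 = ⁅x, c⁆ := by
      rw [commutatorElement_def, pow_two]
      have : c * x⁻¹ * c⁻¹ = x := by
        calc c * x⁻¹ * c⁻¹ = (c * x * c⁻¹)⁻¹ := by group
          _ = x := by rw [hc, inv_inv]
      calc x * x = x * (c * x⁻¹ * c⁻¹) := by rw [this]
        _ = x * c * x⁻¹ * c⁻¹ := by group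
    rw [h1, commutator_def]
    exact Subgroup.commutator_mem_commutator (Subgroup.mem_top _) (Subgroup.mem_top _)
  · set H := Subgroup.closure {x : G | ∃ k : ℕ, orderOf x = 2 ^ k} with hH
    have hconj : ∀ g : G, H.map (MulAut.conj g).toMonoidHom ≤ H := by
      intro g
      rw [hH, MonoidHom.map_closure, Subgroup.closure_le]
      rintro _ ⟨y, ⟨k, hk⟩, rfl⟩
      apply Subgroup.subset_closure
      refine ⟨k, ?_⟩
      rw [← hk]
      exact (MulAut.conj g).orderOf_eq y
    haveI hHn : H.Normal := ⟨fun n hn g => hconj g ⟨n, hn, rfl⟩⟩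
    -- H has odd index
    obtain ⟨S⟩ : Nonempty (Sylow 2 G) := inferInstance
    have hSH : (S : Subgroup G) ≤ H := by
      intro s hs
      apply Subgroup.subset_closure
      obtain ⟨k, hk⟩ := (IsPGroup.iff_orderOf.1 S.isPGroup') ⟨s, hs⟩
      exact ⟨k, by rw [← hk]; exact (Subgroup.orderOf_mk _ _).symm⟩
    have hoddH : ¬ 2 ∣ H.index := fun h2 => S.not_dvd_index (h2.trans (Subgroup.index_dvd_of_le hSH))
    -- every element of the quotient is trivial
    have hq : ∀ q : G ⧸ H, q = 1 := by
      intro q
      obtain ⟨x, rfl⟩ := QuotientGroup.mk_surjective q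
      obtain ⟨c, hc⟩ := isConj_iff.1 (hamb x)
      have hreal : IsConj (QuotientGroup.mk x : G ⧸ H) (QuotientGroup.mk x)⁻¹ := by
        refine isConj_iff.2 ⟨QuotientGroup.mk c, ?_⟩
        rw [← QuotientGroup.mk_inv, ← QuotientGroup.mk_inv, ← QuotientGroup.mk_mul,
          ← QuotientGroup.mk_mul, hc]
      have hcardq : Nat.card (G ⧸ H) = H.index := rfl
      have hodd : Odd (Subgroup.centralizer ({(QuotientGroup.mk x : G ⧸ H)} : Set (G ⧸ H))).index := by
        rw [← Nat.not_even_iff_odd, even_iff_two_dvd]
        intro h2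
        apply hoddH
        rw [← hcardq]
        exact h2.trans (Subgroup.index_dvd_card _)
      have hsq := sq_eq_one_of_real_of_odd_index _ hreal hodd
      have h1 : orderOf (QuotientGroup.mk x : G ⧸ H) ∣ 2 := orderOf_dvd_of_pow_eq_one hsq
      have h2 : orderOf (QuotientGroup.mk x : G ⧸ H) ∣ H.index := by
        rw [← hcardq]; exact orderOf_dvd_natCard _
      rcases (Nat.dvd_prime Nat.prime_two).1 h1 with h3 | h3
      · exact orderOf_eq_one_iff.1 h3
      · exfalso; rw [h3] at h2; exact hoddH h2
    rw [eq_top_iff]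
    intro x _
    have := hq (QuotientGroup.mk x)
    rwa [QuotientGroup.eq_one_iff] at this

end Cfsg.Agent.S4059
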