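import Mathlib
import Cfsg.Statements.S4060
import Cfsg.Agent.Helper3.Real
import Cfsg.Agent.Helper1.SZ

set_option autoImplicit false
open Cfsg

namespace Cfsg.Agent.S4060

open Cfsg.Agent.Helper3

universe u

theorem main : ∀ (n : ℕ) (G : Type u) [Group G] [Finite G] [Group.IsSolvable G],
    Nat.card G = n → ∀ (S : Sylow 2 G) (x : G), Odd (orderOf x) →
    x ∈ Subgroup.normalizer ((S : Subgroup G) : Set G) → IsConj x x⁻¹ → x = 1 := by
  intro n
  induction n using Nat.strong_induction_on with
  | _ n ih =>
    intro G _ _ _ hn S x hodd hnorm hreal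
    haveI : Fact (Nat.Prime 2) := ⟨Nat.prime_two⟩
    by_cases hnt : Nontrivial G
    swap
    · rw [not_nontrivial_iff_subsingleton] at hnt
      exact Subsingleton.elim _ _
    obtain ⟨p, hp, M, hMn, hM1, hMp, -, -⟩ := Cfsg.Agent.Helper1.exists_normal_pgroup_of_solvable G
    -- the quotient is smaller
    have hlt : Nat.card (G ⧸ M) < n := by
      rw [← hn, ← Subgroup.card_mul_index M]
      have h1 : 1 < Nat.card M := by
        have h0 : Nat.card M ≠ 1 := fun h => hM1 (Subgroup.card_eq_one.1 h)
        have : 0 < Nat.card M := Nat.card_pos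
        omega
      have h2 : 0 < M.index := Nat.pos_of_ne_zero (Subgroup.index_ne_zero_of_finite)
      show M.index < Nat.card M * M.index
      nlinarith
    -- apply induction to the quotient
    have hsurj := QuotientGroup.mk'_surjective M
    have hxbar : (QuotientGroup.mk' M x) = 1 := by
      apply ih _ hlt (G ⧸ M) rfl (S.mapSurjective hsurj) (QuotientGroup.mk' M x)
      · exact Odd.of_dvd_nat hodd (orderOf_map_dvd _ x)
      · rw [Sylow.coe_mapSurjective]
        exact Subgroup.le_normalizer_map _ (Subgroup.mem_map_of_mem _ hnorm)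
      · obtain ⟨c, hc⟩ := isConj_iff.1 hreal
        refine isConj_iff.2 ⟨QuotientGroup.mk' M c, ?_⟩
        rw [← map_inv, ← map_inv, ← map_mul, ← map_mul, hc]
    have hxM : x ∈ M := by
      rwa [QuotientGroup.mk'_apply, QuotientGroup.eq_one_iff] at hxbar
    by_cases hp2 : p = 2
    · subst hp2
      obtain ⟨k, hk⟩ := (IsPGroup.iff_orderOf.1 hMp) ⟨x, hxM⟩
      rw [Subgroup.orderOf_mk] at hk
      rw [hk] at hodd
      rcases k with _ | k
      · simpa using hk
      · exfalso
        have : Even (2 ^ (k + 1)) := (Nat.even_pow.2 ⟨even_two, by omega⟩)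
        exact (Nat.not_even_iff_odd.2 hodd) this
    · -- S centralizes x
      have hdisj : Disjoint M (S : Subgroup G) :=
        IsPGroup.disjoint_of_ne p 2 hp2 M S hMp S.isPGroup'
      have hle : (S : Subgroup G) ≤ Subgroup.centralizer ({x} : Set G) := by
        intro s hs
        rw [Subgroup.mem_centralizer_iff]
        intro y hy
        rw [Set.mem_singleton_iff] at hy
        subst hy
        have h1 : y * s * y⁻¹ * s⁻¹ ∈ (S : Subgroup G) := by
          have := (Subgroup.mem_normalizer_iff.1 hnorm s).1 hs
          exact Subgroup.mul_mem _ this (Subgroup.inv_mem _ hs)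
        have h2 : y * s * y⁻¹ * s⁻¹ ∈ M := by
          have := hMn.conj_mem y⁻¹ (M.inv_mem hxM) s
          have h3 := M.mul_mem hxM this
          have h4 : y * (s * y⁻¹ * s⁻¹) = y * s * y⁻¹ * s⁻¹ := by group
          rwa [h4] at h3
        have h3 : y * s * y⁻¹ * s⁻¹ = 1 := by
          have := Subgroup.disjoint_def.1 hdisj h2 h1
          exact this
        calc y * s = (y * s * y⁻¹ * s⁻¹) * s * y := by group
          _ = s * y := by rw [h3, one_mul]
      have hoddi : Odd (Subgroup.centralizer ({x} : Set G)).index := by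
        rw [← Nat.not_even_iff_odd, even_iff_two_dvd]
        intro h2
        exact S.not_dvd_index (h2.trans (Subgroup.index_dvd_of_le hle))
      have hsq := sq_eq_one_of_real_of_odd_index x hreal hoddi
      have h1 : orderOf x ∣ 2 := orderOf_dvd_of_pow_eq_one hsq
      rcases (Nat.dvd_prime Nat.prime_two).1 h1 with h3 | h3
      · exact orderOf_eq_one_iff.1 h3
      · exfalso; rw [h3] at hodd; exact absurd hodd (by decide)

/-- Let G be a finite solvable group with Sylow 2-subgroup S, and let x ≠ 1 be an element of odd order normalizing S. Then x is not conjugate to its inverse in G. -/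
theorem result {G : Type*} [Group G] [Finite G] [Group.IsSolvable G]
    (S : Sylow 2 G) (x : G) (hx : x ≠ 1) (hodd : Odd (orderOf x))
    (hnorm : x ∈ Subgroup.normalizer ((S : Subgroup G) : Set G)) : ¬ IsConj x x⁻¹ := by
  intro hreal
  exact hx (main _ G rfl S x hodd hnorm hreal)

end Cfsg.Agent.S4060
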