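import Mathlib
import Cfsg.Statements.S4061
import Cfsg.Agent.Helper3.AmbivA
import Cfsg.Agent.Helper1.Fitting
import Cfsg.Agent.S0016
-- import your own Cfsg.Agent.* helpers here

set_option autoImplicit false
open Cfsg

namespace Cfsg.Agent.S4061

open Cfsg.Agent.Helper3.Ambiv

universe u

section

variable {G : Type u} [Group G] [Finite G]

/-- only one subgroup of order two in a Sylow 2-subgroup -/
theorem sylow_unique_sub [Group.IsSolvable G] (hG : Hyp G) (S : Sylow 2 G)
    (H K : Subgroup (S : Subgroup G)) (hH : Nat.card H = 2) (hK : Nat.card K = 2) : H = K := by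
  haveI : Fact (Nat.Prime 2) := ⟨Nat.prime_two⟩
  have key : ∀ L : Subgroup (S : Subgroup G), Nat.card L = 2 →
      ∃ h : (S : Subgroup G), orderOf h = 2 ∧ L = Subgroup.zpowers h := by
    intro L hL
    obtain ⟨h, hh⟩ := exists_prime_orderOf_dvd_card' (G := L) 2 (by rw [hL])
    refine ⟨(h : (S : Subgroup G)), by rw [Subgroup.orderOf_coe]; exact hh, ?_⟩
    symm
    apply Subgroup.eq_of_le_of_card_ge (Subgroup.zpowers_le.mpr h.2)
    rw [hL, Nat.card_zpowers, Subgroup.orderOf_coe, hh]
  obtain ⟨h, hh, rfl⟩ := key H hH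
  obtain ⟨k, hk, rfl⟩ := key K hK
  haveI : Nontrivial (S : Subgroup G) :=
    ⟨⟨h, 1, fun e => by rw [e, orderOf_one] at hh; omega⟩⟩
  haveI := S.2.center_nontrivial
  have hdvd : 2 ∣ Nat.card (Subgroup.center (S : Subgroup G)) := by
    obtain ⟨j, hj⟩ := (S.2.to_subgroup (Subgroup.center (S : Subgroup G))).exists_card_eq
    have hj0 : j ≠ 0 := by
      rintro rfl
      rw [pow_zero] at hj
      have := (Finite.one_lt_card_iff_nontrivial (α := Subgroup.center (S : Subgroup G))).2
        inferInstance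
      omega
    rw [hj]; exact dvd_pow_self 2 hj0
  obtain ⟨z, hz⟩ := exists_prime_orderOf_dvd_card' (G := Subgroup.center (S : Subgroup G)) 2 hdvd
  have hzG : orderOf (((z : (S : Subgroup G))) : G) = 2 := by
    rw [Subgroup.orderOf_coe, Subgroup.orderOf_coe]; exact hz
  have hzc : ∀ s : (S : Subgroup G), Commute (((z : (S : Subgroup G))) : G) (s : G) := by
    intro s
    have := Subgroup.mem_center_iff.mp z.2 s
    exact (congrArg Subtype.val this).symm
  have hhG : orderOf (h : G) = 2 := by rw [Subgroup.orderOf_coe]; exact hh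
  have hkG : orderOf (k : G) = 2 := by rw [Subgroup.orderOf_coe]; exact hk
  have e1 := comm_invol_eq _ G rfl hG _ _ hzG hhG (hzc h)
  have e2 := comm_invol_eq _ G rfl hG _ _ hzG hkG (hzc k)
  have : h = k := Subtype.ext (e1.symm.trans e2)
  rw [this]

/-- a cyclic Sylow 2-subgroup has order two -/
theorem card_two_of_cyclic (hG : Hyp G) (heven : 2 ∣ Nat.card G) (S : Sylow 2 G)
    (hcyc : IsCyclic (S : Subgroup G)) : Nat.card S = 2 := by
  haveI : Fact (Nat.Prime 2) := ⟨Nat.prime_two⟩
  have hmin : (Nat.card G).minFac = 2 := (Nat.minFac_eq_two_iff _).mpr heven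
  have hcomp := IsCyclic.isComplement' hmin hcyc
  have hcomm : ∀ a b : (S : Subgroup G), a * b = b * a := by
    letI := IsCyclic.commGroup (α := (S : Subgroup G))
    exact mul_comm
  have hsq : ∀ s : (S : Subgroup G), s ^ 2 = 1 := by
    intro s
    obtain ⟨g, hg⟩ := isConj_iff.mp (hG.1 (s : G))
    have h1 := congrArg (MonoidHom.transferSylow S (hcyc.normalizer_le_centralizer hmin)) hg
    rw [map_mul, map_mul, map_inv, map_inv, hcomm, inv_mul_cancel_left] at h1
    have h2 : (s : G) ^ 2 ∈ (MonoidHom.transferSylow S (hcyc.normalizer_le_centralizer hmin)).ker := by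
      rw [MonoidHom.mem_ker, map_pow, pow_two]
      nth_rewrite 1 [h1]
      exact inv_mul_cancel _
    have h3 : (s : G) ^ 2 ∈ (S : Subgroup G) := Subgroup.pow_mem _ s.2 2
    have h4 := (Subgroup.disjoint_def.mp hcomp.disjoint) h2 h3
    apply Subtype.ext
    rw [Subgroup.coe_pow, Subgroup.coe_one]
    exact h4
  have hexp : Monoid.exponent (S : Subgroup G) ∣ 2 := Monoid.exponent_dvd_of_forall_pow_eq_one hsq
  rw [IsCyclic.exponent_eq_card] at hexp
  have hS2 : 2 ∣ Nat.card S := S.dvd_card_of_dvd_card heven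
  exact Nat.dvd_antisymm hexp hS2

/-- elements of odd order lie in a subgroup of index two -/
theorem mem_of_index_two (K : Subgroup G) (hidx : K.index = 2) {x : G} {m : ℕ} (hm : Odd m)
    (hx : x ^ m = 1) : x ∈ K := by
  obtain ⟨j, rfl⟩ := hm
  have h1 : (x ^ 2) ^ j ∈ K := K.pow_mem (Subgroup.sq_mem_of_index_two hidx x) j
  have h2 : x = ((x ^ 2) ^ j)⁻¹ := by
    rw [eq_inv_iff_mul_eq_one, ← pow_mul, ← pow_succ']
    exact hx
  rw [h2]
  exact K.inv_mem h1

theorem pow_card_sub (K : Subgroup G) {x : G} (hx : x ∈ K) : x ^ Nat.card K = 1 := by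
  have := pow_card_eq_one' (G := K) (x := ⟨x, hx⟩)
  have h2 := congrArg Subtype.val this
  rwa [Subgroup.coe_pow, Subgroup.coe_one] at h2

theorem eq_oddCore (K : Subgroup G) [hKn : K.Normal] (hidx : K.index = 2)
    (hodd : Odd (Nat.card K)) : K = Cfsg.oddCore G := by
  apply le_antisymm
  · exact Cfsg.Agent.Helper1.le_pPrimeCore hKn (Nat.coprime_two_right.mpr hodd)
  · intro x hx
    have hc := Cfsg.Agent.Helper1.card_pPrimeCore_coprime (G := G) 2
    exact mem_of_index_two K hidx (Nat.coprime_two_right.mp hc) (pow_card_sub _ hx)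

/-- a fixed-point-free involution inverts -/
theorem inverts_of_fpf (K : Subgroup G) [hKn : K.Normal] (t : G) (ht : t ^ 2 = 1)
    (hfpf : ∀ x ∈ K, t * x = x * t → x = 1) : ∀ x ∈ K, t * x * t⁻¹ = x⁻¹ := by
  have htinv : t⁻¹ = t := by
    rw [inv_eq_iff_mul_eq_one, ← pow_two]; exact ht
  let f : K → K := fun x => ⟨(x : G)⁻¹ * (t * x * t⁻¹), K.mul_mem (K.inv_mem x.2) (hKn.conj_mem x x.2 t)⟩
  have hinj : Function.Injective f := by
    intro x y hxy
    have h1 : (x : G)⁻¹ * (t * x * t⁻¹) = (y : G)⁻¹ * (t * y * t⁻¹) := congrArg Subtype.val hxy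
    have h2 : t * ((y : G) * (x : G)⁻¹) = ((y : G) * (x : G)⁻¹) * t := by
      calc t * ((y : G) * (x : G)⁻¹) = y * ((y : G)⁻¹ * (t * y * t⁻¹)) * t * (x : G)⁻¹ := by group
        _ = y * ((x : G)⁻¹ * (t * x * t⁻¹)) * t * (x : G)⁻¹ := by rw [h1]
        _ = ((y : G) * (x : G)⁻¹) * t := by group
    have h3 := hfpf _ (K.mul_mem y.2 (K.inv_mem x.2)) h2
    apply Subtype.ext
    have := mul_inv_eq_one.mp h3
    exact this.symm
  have hsurj : Function.Surjective f := Finite.injective_iff_surjective.mp hinj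
  intro y hy
  obtain ⟨x, hx⟩ := hsurj ⟨y, hy⟩
  have hx' : (x : G)⁻¹ * (t * x * t⁻¹) = y := congrArg Subtype.val hx
  rw [← hx']
  have htt : t * t = 1 := by rw [← pow_two]; exact ht
  calc t * ((x : G)⁻¹ * (t * x * t⁻¹)) * t⁻¹
      = t * (x : G)⁻¹ * t⁻¹ * (t * t) * x * (t * t)⁻¹ := by group
    _ = t * (x : G)⁻¹ * t⁻¹ * x := by rw [htt]; group
    _ = ((x : G)⁻¹ * (t * x * t⁻¹))⁻¹ := by group

/-- the involution acts without fixed points on the normal complement -/
theorem fpf (hG : Hyp G) (K : Subgroup G) [hKn : K.Normal] (hidx : K.index = 2)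
    (hodd : Odd (Nat.card K)) (t : G) (ht : t ^ 2 = 1) (ht1 : t ≠ 1) :
    ∀ x ∈ K, t * x = x * t → x = 1 := by
  intro x hx hc
  have htK : t ∉ K := fun h => ht1 (eq_one_of_mem_odd K hodd h ht)
  obtain ⟨j, hj⟩ := hodd
  have hxn : x ^ (2 * j + 1) = 1 := hj ▸ pow_card_sub K hx
  have hcomm : Commute x t := hc.symm
  obtain ⟨g, hg⟩ := isConj_iff.mp (hG.1 (x * t))
  have hy1 : (x * t) ^ (2 * j + 2) = x := by
    rw [hcomm.mul_pow]
    have h1 : x ^ (2 * j + 2) = x := by rw [pow_succ, hxn, one_mul]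
    have h2 : t ^ (2 * j + 2) = 1 := by
      have : 2 * j + 2 = 2 * (j + 1) := by ring
      rw [this, pow_mul, ht, one_pow]
    rw [h1, h2, mul_one]
  have hgx : g * x * g⁻¹ = x⁻¹ := by
    calc g * x * g⁻¹ = g * (x * t) ^ (2 * j + 2) * g⁻¹ := by rw [hy1]
      _ = (g * (x * t) * g⁻¹) ^ (2 * j + 2) := conj_pow.symm
      _ = ((x * t)⁻¹) ^ (2 * j + 2) := by rw [hg]
      _ = ((x * t) ^ (2 * j + 2))⁻¹ := inv_pow _ _
      _ = x⁻¹ := by rw [hy1]
  have hk : ∃ k ∈ K, k * x * k⁻¹ = x⁻¹ := by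
    by_cases hgK : g ∈ K
    · exact ⟨g, hgK, hgx⟩
    · refine ⟨g * t, ?_, ?_⟩
      · rw [Subgroup.mul_mem_iff_of_index_two hidx]
        exact ⟨fun h => absurd h hgK, fun h => absurd h htK⟩
      · calc g * t * x * (g * t)⁻¹ = g * (t * x * t⁻¹) * g⁻¹ := by group
          _ = g * x * g⁻¹ := by rw [hc]; group
          _ = x⁻¹ := hgx
  obtain ⟨k, hkK, hkx⟩ := hk
  have h5 := odd_pow_inverts hkx (k := 2 * j + 1) ⟨j, rfl⟩
  rw [← hj, pow_card_sub K hkK, one_mul, inv_one, mul_one] at h5
  exact eq_one_of_inv_eq_of_odd ⟨j, rfl⟩ hxn h5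

open scoped commutatorElement in
theorem commutator_eq (K : Subgroup G) [hKn : K.Normal] (hidx : K.index = 2)
    (hodd : Odd (Nat.card K)) (t : G) (hinv : ∀ x ∈ K, t * x * t⁻¹ = x⁻¹) :
    K = commutator G := by
  apply le_antisymm
  · intro x hx
    have h1 : ⁅t, x⁆ ∈ commutator G := by
      rw [commutator_def]
      exact Subgroup.commutator_mem_commutator (Subgroup.mem_top t) (Subgroup.mem_top x)
    rw [commutatorElement_def, hinv x hx] at h1
    have h2 : x ^ 2 ∈ commutator G := by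
      have := (commutator G).inv_mem h1
      rwa [mul_inv_rev, inv_inv, ← pow_two] at this
    obtain ⟨j, hj⟩ := hodd
    have hxn : x ^ (2 * j + 1) = 1 := hj ▸ pow_card_sub K hx
    have h3 : x = ((x ^ 2) ^ j)⁻¹ := by
      rw [eq_inv_iff_mul_eq_one, ← pow_mul, ← pow_succ']; exact hxn
    rw [h3]; exact (commutator G).inv_mem ((commutator G).pow_mem h2 j)
  · rw [commutator_eq_closure, Subgroup.closure_le]
    rintro _ ⟨a, b, rfl⟩
    change ⁅a, b⁆ ∈ K
    rw [commutatorElement_def, Subgroup.mul_mem_iff_of_index_two hidx]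
    constructor
    · intro h
      have hb : b ∈ K := by
        have := hKn.conj_mem _ h a⁻¹
        simpa [mul_assoc] using this
      exact K.inv_mem hb
    · intro h
      exact hKn.conj_mem b (by simpa using K.inv_mem h) a

end

/-- Let G be a finite solvable group of even order in which every element is conjugate to its inverse and all involutions are conjugate. Then a Sylow 2-subgroup S of G has order 2 or is a generalized quaternion group (of order at least 8). Moreover, if S has order 2, then G is the semidirect product of its largest normal subgroup of odd order O(G) by S, O(G) equals the derived subgroup of G, and the involution of S inverts every element of O(G). -/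
theorem result {G : Type*} [Group G] [Finite G] [Group.IsSolvable G]
    (hamb : ∀ x : G, IsConj x x⁻¹) (heven : 2 ∣ Nat.card G) (hone : ∀ s t : G, orderOf s = 2 → orderOf t = 2 → IsConj s t) (S : Sylow 2 G) :
    (Nat.card S = 2 ∨ ∃ n : ℕ, Nonempty ((S : Subgroup G) ≃* QuaternionGroup (2 ^ (n + 1)))) ∧
    (Nat.card S = 2 → (S : Subgroup G).IsComplement' (Cfsg.oddCore G) ∧ Cfsg.oddCore G = commutator G ∧
        ∀ t : G, t ∈ S → t ≠ 1 → ∀ x : G, x ∈ Cfsg.oddCore G → t * x * t⁻¹ = x⁻¹) := by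
  haveI : Fact (Nat.Prime 2) := ⟨Nat.prime_two⟩
  have hG : Hyp G := ⟨hamb, hone⟩
  have hcyc2 : IsCyclic (S : Subgroup G) → Nat.card S = 2 := card_two_of_cyclic hG heven S
  refine ⟨?_, ?_⟩
  · rcases Cfsg.Agent.S0016.result 2 S.2 (sylow_unique_sub hG S) with hcyc | ⟨-, n, ⟨e⟩⟩
    · exact Or.inl (hcyc2 hcyc)
    · rcases Nat.eq_zero_or_pos n with rfl | hn
      · left
        apply hcyc2
        rw [pow_zero] at e
        haveI := QuaternionGroup.quaternionGroup_one_isCyclic
        exact isCyclic_of_surjective e.symm e.symm.surjective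
      · right
        obtain ⟨m, rfl⟩ := Nat.exists_eq_succ_of_ne_zero hn.ne'
        exact ⟨m, ⟨e⟩⟩
  · intro hcard
    have hcyc : IsCyclic (S : Subgroup G) := isCyclic_of_prime_card (p := 2) hcard
    have hmin : (Nat.card G).minFac = 2 := (Nat.minFac_eq_two_iff _).mpr heven
    have hcomp0 := IsCyclic.isComplement' hmin hcyc
    obtain ⟨K, hKn, hcomp⟩ : ∃ K : Subgroup G, K.Normal ∧ K.IsComplement' S :=
      ⟨_, MonoidHom.normal_ker _, hcomp0⟩
    have hidx : K.index = 2 := by rw [hcomp.symm.index_eq_card]; exact hcard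
    have hodd : Odd (Nat.card K) := by
      rw [← hcomp.index_eq_card]
      exact Nat.odd_iff.mpr (Nat.two_dvd_ne_zero.mp S.not_dvd_index)
    have hKO := eq_oddCore K hidx hodd
    have hinvS : ∀ t : G, t ∈ S → t ≠ 1 → ∀ x : G, x ∈ K → t * x * t⁻¹ = x⁻¹ := by
      intro t htS ht1
      have ht2 : t ^ 2 = 1 := by
        have := pow_card_sub (S : Subgroup G) htS
        rwa [hcard] at this
      exact inverts_of_fpf K t ht2 (fpf hG K hidx hodd t ht2 ht1)
    refine ⟨?_, ?_, ?_⟩
    · rw [← hKO]; exact hcomp.symm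
    · rw [← hKO]
      haveI : Nontrivial (S : Subgroup G) := by
        rw [← Finite.one_lt_card_iff_nontrivial]
        have : Nat.card (S : Subgroup G) = 2 := hcard
        omega
      obtain ⟨t, ht⟩ := exists_ne (1 : (S : Subgroup G))
      exact commutator_eq K hidx hodd (t : G) (hinvS t t.2 (fun h => ht (Subtype.ext h)))
    · rw [← hKO]; exact hinvS


end Cfsg.Agent.S4061
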