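import Mathlib
import Cfsg.Statements.S4066

set_option autoImplicit false
open Cfsg

namespace Cfsg.Agent.S4066

variable {G : Type*} [Group G]

lemma mem_cent {x c : G} : c ∈ Subgroup.centralizer ({x} : Set G) ↔ c * x = x * c := by
  rw [Subgroup.mem_centralizer_iff]
  constructor
  · intro h; exact (h x rfl).symm
  · intro h y hy
    rw [Set.mem_singleton_iff] at hy
    subst hy; exact h.symm

/-- Claim A. -/
lemma claimA (hTI : ∀ x : G, Cfsg.IsTISubset (Subgroup.centralizer ({x} : Set G) : Set G))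
    (a b : G) (ha : a ≠ 1) (hab : a * b = b * a) :
    Subgroup.centralizer ({a} : Set G) ≤
      Subgroup.normalizer ((Subgroup.centralizer ({b} : Set G) : Subgroup G) : Set G) := by
  intro h hh
  by_contra hn
  apply ha
  apply hTI b h hn a
  · exact mem_cent.2 hab
  · have : h * a * h⁻¹ = a := by
      rw [mem_cent.1 hh]; group
    rw [this]
    exact mem_cent.2 hab

/-- the `p`-part of the centre of `C(u)`, as a subgroup of `G`. -/
def zp (p : ℕ) (u : G) : Subgroup G where
  carrier := {v | (∀ c : G, c * u = u * c → c * v = v * c) ∧ ∃ k : ℕ, v ^ p ^ k = 1}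
  mul_mem' := by
    rintro v₁ v₂ ⟨h1, k1, hk1⟩ ⟨h2, k2, hk2⟩
    refine ⟨?_, k1 + k2, ?_⟩
    · intro c hc
      calc c * (v₁ * v₂) = (c * v₁) * v₂ := by group
        _ = v₁ * (c * v₂) := by rw [h1 c hc]; group
        _ = v₁ * v₂ * c := by rw [h2 c hc]; group
    · have hcomm : Commute v₁ v₂ := by
        have : v₂ * u = u * v₂ := (h2 u rfl).symm ▸ rfl
        exact (h1 v₂ (by
          have := h2 u rfl
          exact this.symm)).symm
      rw [hcomm.mul_pow, pow_add, pow_mul, hk1, one_pow, pow_mul', hk2, one_pow, one_mul]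
  one_mem' := ⟨fun c _ => by simp, 0, by simp⟩
  inv_mem' := by
    rintro v ⟨h1, k, hk⟩
    refine ⟨?_, k, by rw [inv_pow, hk, inv_one]⟩
    intro c hc
    have := h1 c hc
    calc c * v⁻¹ = v⁻¹ * (v * c) * v⁻¹ := by group
      _ = v⁻¹ * (c * v) * v⁻¹ := by rw [this]
      _ = v⁻¹ * c := by group

lemma zp_isPGroup (p : ℕ) (u : G) : IsPGroup p (zp p u) := by
  rintro ⟨v, -, k, hk⟩
  exact ⟨k, Subtype.ext hk⟩

lemma mem_zp_self (p : ℕ) (u : G) (k : ℕ) (hk : u ^ p ^ k = 1) : u ∈ zp p u :=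
  ⟨fun c hc => hc, k, hk⟩

lemma zp_normalized (p : ℕ) (u h : G)
    (hh : h ∈ Subgroup.normalizer ((Subgroup.centralizer ({u} : Set G) : Subgroup G) : Set G)) :
    h ∈ Subgroup.normalizer ((zp p u : Subgroup G) : Set G) := by
  have key : ∀ h : G,
      h ∈ Subgroup.normalizer ((Subgroup.centralizer ({u} : Set G) : Subgroup G) : Set G) →
      ∀ v ∈ zp p u, h * v * h⁻¹ ∈ zp p u := by
    intro h hh v hv
    obtain ⟨h1, k, hk⟩ := hv
    refine ⟨?_, k, ?_⟩
    · intro c hc
      have hc' : h⁻¹ * c * h ∈ Subgroup.centralizer ({u} : Set G) := by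
        rw [Subgroup.mem_normalizer_iff] at hh
        rw [hh (h⁻¹ * c * h)]
        have : h * (h⁻¹ * c * h) * h⁻¹ = c := by group
        rw [this]
        exact mem_cent.2 hc
      have := h1 _ (mem_cent.1 hc')
      calc c * (h * v * h⁻¹) = h * ((h⁻¹ * c * h) * v) * h⁻¹ := by group
        _ = h * (v * (h⁻¹ * c * h)) * h⁻¹ := by rw [this]
        _ = h * v * h⁻¹ * c := by group
    · rw [conj_pow, hk]; group
  rw [Subgroup.mem_normalizer_iff]
  intro v
  constructor
  · exact key h hh v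
  · intro hv
    have := key h⁻¹ (inv_mem hh) _ hv
    have e : h⁻¹ * (h * v * h⁻¹) * h⁻¹⁻¹ = v := by group
    rwa [e] at this

variable [Finite G]

/-- Lemma L: `p`-elements of `C(a)` lie in the Sylow subgroup `P ≤ C(a)`. -/
lemma lemL (hTI : ∀ x : G, Cfsg.IsTISubset (Subgroup.centralizer ({x} : Set G) : Set G))
    {p : ℕ} [Fact p.Prime] (P : Sylow p G) (a : G) (ha : a ≠ 1)
    (hPa : (P : Subgroup G) ≤ Subgroup.centralizer ({a} : Set G))
    (u : G) (hua : u * a = a * u) (k : ℕ) (hk : u ^ p ^ k = 1) : u ∈ (P : Subgroup G) := by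
  have h1 : (P : Subgroup G) ≤ Subgroup.normalizer ((zp p u : Subgroup G) : Set G) := by
    intro h hh
    apply zp_normalized
    exact claimA hTI a u ha hua.symm (hPa hh)
  have h2 : IsPGroup p ((P : Subgroup G) ⊔ zp p u : Subgroup G) :=
    IsPGroup.to_sup_of_normal_right' P.isPGroup' (zp_isPGroup p u) h1
  have h3 := P.is_maximal' h2 le_sup_left
  have : zp p u ≤ (P : Subgroup G) := by rw [← h3]; exact le_sup_right
  exact this (mem_zp_self p u k hk)

/-- Lemma N: `N(C(a)) ≤ N(P)`. -/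
lemma lemN (hTI : ∀ x : G, Cfsg.IsTISubset (Subgroup.centralizer ({x} : Set G) : Set G))
    {p : ℕ} [Fact p.Prime] (P : Sylow p G) (a : G) (ha : a ≠ 1)
    (hPa : (P : Subgroup G) ≤ Subgroup.centralizer ({a} : Set G)) :
    Subgroup.normalizer ((Subgroup.centralizer ({a} : Set G) : Subgroup G) : Set G) ≤
      Subgroup.normalizer ((P : Subgroup G) : Set G) := by
  have key : ∀ g : G,
      g ∈ Subgroup.normalizer ((Subgroup.centralizer ({a} : Set G) : Subgroup G) : Set G) →
      ∀ x ∈ (P : Subgroup G), g * x * g⁻¹ ∈ (P : Subgroup G) := by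
    intro g hg x hx
    have hxa : g * x * g⁻¹ ∈ Subgroup.centralizer ({a} : Set G) :=
      (Subgroup.mem_normalizer_iff.1 hg x).1 (hPa hx)
    obtain ⟨k, hk⟩ := P.isPGroup' ⟨x, hx⟩
    have hk' : x ^ p ^ k = 1 := congrArg Subtype.val hk
    apply lemL hTI P a ha hPa _ (mem_cent.1 hxa) k
    rw [conj_pow, hk']; group
  intro g hg
  rw [Subgroup.mem_normalizer_iff]
  intro x
  constructor
  · exact key g hg x
  · intro hx
    have := key g⁻¹ (inv_mem hg) _ hx
    have e : g⁻¹ * (g * x * g⁻¹) * g⁻¹⁻¹ = x := by group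
    rwa [e] at this

/-- a nontrivial Sylow subgroup has a nontrivial central element. -/
lemma exists_central {p : ℕ} [Fact p.Prime] (P : Sylow p G) (y : G) (hy : y ∈ (P : Subgroup G))
    (hy1 : y ≠ 1) : ∃ z ∈ (P : Subgroup G), z ≠ 1 ∧ ∀ x ∈ (P : Subgroup G), x * z = z * x := by
  haveI : Nontrivial ↥(P : Subgroup G) := ⟨⟨⟨y, hy⟩, 1, fun h => hy1 (congrArg Subtype.val h)⟩⟩
  have := P.isPGroup'.center_nontrivial
  obtain ⟨⟨z, hz⟩, hz1⟩ := exists_ne (1 : Subgroup.center ↥(P : Subgroup G))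
  refine ⟨(z : G), z.2, ?_, ?_⟩
  · intro h
    apply hz1
    apply Subtype.ext
    apply Subtype.ext
    exact h
  · intro x hx
    rw [Subgroup.mem_center_iff] at hz
    have := hz ⟨x, hx⟩
    exact congrArg Subtype.val this

/-- Let G be a finite group in which the centralizer of every element meets each of its conjugates by elements outside its normalizer trivially. Then any two distinct Sylow p-subgroups of G, for any prime p, intersect trivially. -/
theorem result {G : Type*} [Group G] [Finite G] (hTI : ∀ x : G, Cfsg.IsTISubset (Subgroup.centralizer ({x} : Set G) : Set G))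
    {p : ℕ} [Fact p.Prime] (P Q : Sylow p G) (hPQ : P ≠ Q) : (P : Subgroup G) ⊓ (Q : Subgroup G) = ⊥ := by
  rw [Subgroup.eq_bot_iff_forall]
  rintro y ⟨hyP, hyQ⟩
  by_contra hy1
  apply hPQ
  obtain ⟨z, hzP, hz1, hzc⟩ := exists_central P y hyP hy1
  obtain ⟨w, hwQ, hw1, hwc⟩ := exists_central Q y hyQ hy1
  have hPz : (P : Subgroup G) ≤ Subgroup.centralizer ({z} : Set G) := fun x hx => mem_cent.2 (hzc x hx)
  have hQw : (Q : Subgroup G) ≤ Subgroup.centralizer ({w} : Set G) := fun x hx => mem_cent.2 (hwc x hx)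
  -- step 1: w ∈ P
  have hwy : w ∈ Subgroup.centralizer ({y} : Set G) := mem_cent.2 (hwc y hyQ).symm
  have hwNP : w ∈ Subgroup.normalizer ((P : Subgroup G) : Set G) :=
    lemN hTI P z hz1 hPz (claimA hTI y z hy1 (hzc y hyP) hwy)
  have hwP : w ∈ (P : Subgroup G) := by
    have hzw : IsPGroup p (Subgroup.zpowers w) := by
      have : Subgroup.zpowers w ≤ (Q : Subgroup G) := by
        rw [Subgroup.zpowers_le]; exact hwQ
      exact Q.isPGroup'.to_le this
    have hle : Subgroup.zpowers w ≤ Subgroup.normalizer ((P : Subgroup G) : Set G) := by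
      rw [Subgroup.zpowers_le]; exact hwNP
    have h2 := IsPGroup.to_sup_of_normal_right' hzw P.isPGroup' hle
    have h3 := P.is_maximal' h2 le_sup_right
    have : Subgroup.zpowers w ≤ (P : Subgroup G) := by rw [← h3]; exact le_sup_left
    exact this (Subgroup.mem_zpowers w)
  -- step 2: z commutes with w
  have hzw : z * w = w * z := (hzc w hwP).symm
  -- step 3: P ≤ N(Q)
  have hPNQ : (P : Subgroup G) ≤ Subgroup.normalizer ((Q : Subgroup G) : Set G) := by
    intro x hx
    exact lemN hTI Q w hw1 hQw (claimA hTI z w hz1 hzw (hPz hx))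
  have h2 := IsPGroup.to_sup_of_normal_right' P.isPGroup' Q.isPGroup' hPNQ
  have h3 := Q.is_maximal' h2 le_sup_right
  have hle : (P : Subgroup G) ≤ Q := by rw [← h3]; exact le_sup_left
  apply Sylow.ext
  exact (P.is_maximal' Q.isPGroup' hle).symm

end Cfsg.Agent.S4066
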