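import Mathlib
import Cfsg.Statements.S4071
import Cfsg.Agent.Helper1.MinNonNilp
import Cfsg.Agent.Helper1.AbelianAct
-- import your own Cfsg.Agent.* helpers here

set_option autoImplicit false
open Cfsg

namespace Cfsg.Agent.S4071

open Cfsg.Agent.Helper1
open scoped commutatorElement

universe u

section
variable {G : Type u} [Group G]

theorem exists_pow_mul [Finite G] (x : G) (A : Subgroup G) [A.Normal]
    (hsup : Subgroup.zpowers x ⊔ A = ⊤) (g : G) : ∃ i : ℕ, ∃ a ∈ A, g = x ^ i * a := by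
  have hg : g ∈ Subgroup.zpowers x ⊔ A := by rw [hsup]; trivial
  obtain ⟨z, hz, a, ha, rfl⟩ := Subgroup.mem_sup_of_normal_right.1 hg
  rw [← mem_powers_iff_mem_zpowers, Submonoid.mem_powers_iff] at hz
  obtain ⟨i, rfl⟩ := hz
  exact ⟨i, a, ha, rfl⟩

theorem backward [Finite G] (x : G) (A : Subgroup G) (p : ℕ) (hp : p.Prime)
    (hAn : A.Normal) (hAc : IsMulCommutative A) (hx : ∃ k : ℕ, orderOf x = p ^ k)
    (hcompl : (Subgroup.zpowers x).IsComplement' A) (hxp : x ^ p ∈ Subgroup.center G)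
    (hfpf : ∀ a : G, a ∈ A → a ≠ 1 → x * a * x⁻¹ ≠ a)
    (H : Subgroup G) (hH : ¬ IsMulCommutative H) : Subgroup.normalizer (H : Set G) = H := by
  have hsup : Subgroup.zpowers x ⊔ A = ⊤ := hcompl.sup_eq_top
  have hAcomm : ∀ a ∈ A, ∀ b ∈ A, a * b = b * a := by
    intro a ha b hb
    have := mul_comm' (⟨a, ha⟩ : A) ⟨b, hb⟩
    exact congrArg Subtype.val this
  -- Step 2: an element of H of the form x^i a with p ∤ i
  obtain ⟨i, a, ha, hyH, hpi⟩ : ∃ i : ℕ, ∃ a ∈ A, x ^ i * a ∈ H ∧ ¬ p ∣ i := by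
    by_contra hcon
    apply hH
    have hall : ∀ h ∈ H, ∃ z ∈ Subgroup.center G, ∃ a ∈ A, h = z * a := by
      intro h hh
      obtain ⟨i, a, ha, rfl⟩ := exists_pow_mul x A hsup h
      have hpi : p ∣ i := by
        by_contra hpi
        exact hcon ⟨i, a, ha, hh, hpi⟩
      obtain ⟨j, rfl⟩ := hpi
      refine ⟨(x ^ p) ^ j, Subgroup.pow_mem _ hxp j, a, ha, ?_⟩
      rw [pow_mul]
    refine ⟨⟨fun h h' => ?_⟩⟩
    obtain ⟨z, hz, a, ha, h1⟩ := hall h h.2
    obtain ⟨z', hz', a', ha', h2⟩ := hall h' h'.2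
    apply Subtype.ext
    rw [Subgroup.coe_mul, Subgroup.coe_mul, h1, h2]
    rw [Subgroup.mem_center_iff] at hz hz'
    calc z * a * (z' * a') = z * (a * z') * a' := by group
      _ = z * (z' * a) * a' := by rw [hz' a]
      _ = (z * z') * (a * a') := by group
      _ = (z' * z) * (a' * a) := by rw [hz z', hAcomm a ha a' ha']
      _ = z' * (z * a') * a := by group
      _ = z' * (a' * z) * a := by rw [hz a']
      _ = z' * a' * (z * a) := by group
  set y := x ^ i * a with hy
  obtain ⟨k, hk⟩ := hx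
  have hcop : i.Coprime (orderOf x) := by
    rw [hk]
    exact Nat.Coprime.pow_right k ((Nat.Prime.coprime_iff_not_dvd hp).2 hpi).symm
  obtain ⟨m, hm⟩ := exists_pow_eq_self_of_coprime hcop
  -- y acts fixed-point-freely on A
  have hyfpf : ∀ c ∈ A, y * c * y⁻¹ = c → c = 1 := by
    intro c hc hyc
    by_contra hc1
    apply hfpf c hc hc1
    have h1 : x ^ i * c = c * x ^ i := by
      have h2 : y * c * y⁻¹ = x ^ i * c * (x ^ i)⁻¹ := by
        rw [hy]
        calc x ^ i * a * c * (x ^ i * a)⁻¹ = x ^ i * (a * c) * a⁻¹ * (x ^ i)⁻¹ := by group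
          _ = x ^ i * (c * a) * a⁻¹ * (x ^ i)⁻¹ := by rw [hAcomm a ha c hc]
          _ = x ^ i * c * (x ^ i)⁻¹ := by group
      rw [h2] at hyc
      calc x ^ i * c = x ^ i * c * (x ^ i)⁻¹ * x ^ i := by group
        _ = c * x ^ i := by rw [hyc]
    have h3 : Commute (x ^ i) c := h1
    have h4 : Commute x c := by
      have := h3.pow_left m
      rwa [hm] at this
    calc x * c * x⁻¹ = c * x * x⁻¹ := by rw [h4.eq]
      _ = c := by group
  -- zpowers y ⊔ A = ⊤
  have hsupy : Subgroup.zpowers y ⊔ A = ⊤ := by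
    rw [eq_top_iff, ← hsup]
    apply sup_le _ le_sup_right
    rw [Subgroup.zpowers_le]
    have h1 : x ^ i ∈ Subgroup.zpowers y ⊔ A := by
      have : x ^ i = y * a⁻¹ := by rw [hy]; group
      rw [this]
      exact Subgroup.mul_mem _ (Subgroup.mem_sup_left (Subgroup.mem_zpowers y))
        (Subgroup.mem_sup_right (A.inv_mem ha))
    rw [← hm]
    exact Subgroup.pow_mem _ h1 m
  apply le_antisymm _ Subgroup.le_normalizer
  intro g hg
  have hg' : g ∈ Subgroup.zpowers y ⊔ A := by rw [hsupy]; trivial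
  obtain ⟨z, hz, b, hb, rfl⟩ := Subgroup.mem_sup_of_normal_right.1 hg'
  have hzH : z ∈ H := (Subgroup.zpowers_le.2 hyH) hz
  have hbN : b ∈ Subgroup.normalizer (H : Set G) := by
    have : b = z⁻¹ * (z * b) := by group
    rw [this]
    exact Subgroup.mul_mem _ (Subgroup.inv_mem _ (Subgroup.le_normalizer hzH)) hg
  -- ψ c = c y c⁻¹ y⁻¹
  have hψmem : ∀ c ∈ A, c ∈ Subgroup.normalizer (H : Set G) → c * y * c⁻¹ * y⁻¹ ∈ H ⊓ A := by
    intro c hc hcN
    constructor
    · exact H.mul_mem ((Subgroup.mem_normalizer_iff.1 hcN y).1 hyH) (H.inv_mem hyH)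
    · have : c * y * c⁻¹ * y⁻¹ = c * (y * c⁻¹ * y⁻¹) := by group
      rw [this]
      exact A.mul_mem hc (hAn.conj_mem _ (A.inv_mem hc) y)
  have hψinj : ∀ c ∈ A, ∀ c' ∈ A, c * y * c⁻¹ * y⁻¹ = c' * y * c'⁻¹ * y⁻¹ → c = c' := by
    intro c hc c' hc' h
    have h1 : c * y * c⁻¹ = c' * y * c'⁻¹ := mul_right_cancel h
    have h2 : y * (c'⁻¹ * c) * y⁻¹ = c'⁻¹ * c := by
      calc y * (c'⁻¹ * c) * y⁻¹ = c'⁻¹ * (c' * y * c'⁻¹) * c * y⁻¹ := by group
        _ = c'⁻¹ * (c * y * c⁻¹) * c * y⁻¹ := by rw [h1]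
        _ = c'⁻¹ * c := by group
    have h3 := hyfpf (c'⁻¹ * c) (A.mul_mem (A.inv_mem hc') hc) h2
    calc c = c' * (c'⁻¹ * c) := by group
      _ = c' := by rw [h3, mul_one]
  let f : ↥(H ⊓ A) → ↥(H ⊓ A) := fun c =>
    ⟨(c : G) * y * (c : G)⁻¹ * y⁻¹, hψmem c c.2.2 (Subgroup.le_normalizer c.2.1)⟩
  have hfinj : Function.Injective f := by
    intro c c' h
    apply Subtype.ext
    exact hψinj c c.2.2 c' c'.2.2 (congrArg Subtype.val h)
  have hfsurj : Function.Surjective f := Finite.injective_iff_surjective.1 hfinj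
  obtain ⟨c, hc⟩ := hfsurj ⟨_, hψmem b hb hbN⟩
  have hbc : (c : G) = b := hψinj c c.2.2 b hb (congrArg Subtype.val hc)
  exact H.mul_mem hzH (hbc ▸ c.2.1)

theorem normal_abelian
    (h : ∀ H : Subgroup G, ¬ IsMulCommutative H → Subgroup.normalizer (H : Set G) = H)
    (N : Subgroup G) (hN : N.Normal) (hNtop : N ≠ ⊤) : IsMulCommutative N := by
  by_contra hc
  have h1 := h N hc
  rw [Subgroup.normalizer_eq_top N] at h1
  exact hNtop h1.symm

theorem exists_A [Finite G] [Group.IsSolvable G] [Nontrivial G]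
    (hab : ∀ N : Subgroup G, N.Normal → N ≠ ⊤ → IsMulCommutative N) :
    ∃ (p : ℕ) (A : Subgroup G), p.Prime ∧ A.Normal ∧ IsMulCommutative A ∧ ¬ p ∣ Nat.card A ∧
      ∀ g : G, ∃ j : ℕ, g ^ (p ^ j) ∈ A := by
  obtain ⟨M, hMn, hMp⟩ := exists_normal_prime_index G
  set p := M.index with hp
  have hMtop : M ≠ ⊤ := by
    rintro rfl
    rw [hp, Subgroup.index_top] at hMp
    exact Nat.not_prime_one hMp
  have hMc := hab M hMn hMtop
  have hMcomm : ∀ a ∈ M, ∀ b ∈ M, a * b = b * a := by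
    intro a ha b hb
    have := mul_comm' (⟨a, ha⟩ : M) ⟨b, hb⟩
    exact congrArg Subtype.val this
  obtain ⟨e, n', hn', hcard⟩ :=
    Nat.exists_eq_pow_mul_and_not_dvd (Nat.card_pos (α := M)).ne' p hMp.ne_one
  let A : Subgroup G :=
    { carrier := {g | g ∈ M ∧ g ^ n' = 1}
      mul_mem' := by
        rintro a b ⟨ha, ha'⟩ ⟨hb, hb'⟩
        refine ⟨M.mul_mem ha hb, ?_⟩
        have hc : Commute a b := hMcomm a ha b hb
        rw [hc.mul_pow, ha', hb', one_mul]
      one_mem' := ⟨M.one_mem, one_pow n'⟩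
      inv_mem' := by
        rintro a ⟨ha, ha'⟩
        exact ⟨M.inv_mem ha, by rw [inv_pow, ha', inv_one]⟩ }
  have hAmem : ∀ g : G, g ∈ A ↔ g ∈ M ∧ g ^ n' = 1 := fun g => Iff.rfl
  have hAM : A ≤ M := fun g hg => ((hAmem g).1 hg).1
  refine ⟨p, A, hMp, ?_, ?_, ?_, ?_⟩
  · constructor
    intro a ha g
    rw [hAmem] at ha ⊢
    refine ⟨hMn.conj_mem a ha.1 g, ?_⟩
    rw [conj_pow, ha.2, mul_one, mul_inv_cancel]
  · refine ⟨⟨fun a b => ?_⟩⟩
    apply Subtype.ext
    exact hMcomm a (hAM a.2) b (hAM b.2)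
  · intro hpd
    have : Fact p.Prime := ⟨hMp⟩
    obtain ⟨a, ha⟩ := exists_prime_orderOf_dvd_card' (G := A) p hpd
    have h1 : (a : G) ^ n' = 1 := ((hAmem a).1 a.2).2
    have h2 : orderOf (a : G) ∣ n' := orderOf_dvd_of_pow_eq_one h1
    rw [Subgroup.orderOf_coe, ha] at h2
    exact hn' h2
  · intro g
    refine ⟨e + 1, ?_⟩
    have hgM : g ^ p ∈ M := Subgroup.pow_index_mem M g
    rw [hAmem]
    have h1 : g ^ p ^ (e + 1) = (g ^ p) ^ (p ^ e) := by
      rw [← pow_mul, pow_succ, mul_comm]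
    rw [h1]
    refine ⟨M.pow_mem hgM _, ?_⟩
    rw [← pow_mul, ← hcard]
    have h2 : (⟨g ^ p, hgM⟩ : M) ^ Nat.card M = 1 := pow_card_eq_one'
    exact congrArg Subtype.val h2

theorem isPGroup_quot (p : ℕ) (A : Subgroup G) [A.Normal]
    (hpg : ∀ g : G, ∃ j : ℕ, g ^ (p ^ j) ∈ A) : IsPGroup p (G ⧸ A) := by
  intro q
  obtain ⟨g, rfl⟩ := QuotientGroup.mk'_surjective A q
  obtain ⟨j, hj⟩ := hpg g
  refine ⟨j, ?_⟩
  rw [← map_pow]
  exact (QuotientGroup.eq_one_iff _).2 hj

theorem dichotomy [Finite G] (p : ℕ) [Fact p.Prime] (A : Subgroup G) [A.Normal]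
    (hpg : ∀ g : G, ∃ j : ℕ, g ^ (p ^ j) ∈ A)
    (hab : ∀ N : Subgroup G, N.Normal → N ≠ ⊤ → IsMulCommutative N) (x : G) :
    x ∈ Subgroup.centralizer (A : Set G) ∨ Subgroup.zpowers x ⊔ A = ⊤ := by
  by_cases hD : Subgroup.zpowers x ⊔ A = ⊤
  · exact Or.inr hD
  left
  set mk := QuotientGroup.mk' A with hmk
  have hsurj : Function.Surjective mk := QuotientGroup.mk'_surjective A
  have hpq : IsPGroup p (G ⧸ A) := by
    intro q
    obtain ⟨g, rfl⟩ := hsurj q
    obtain ⟨j, hj⟩ := hpg g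
    refine ⟨j, ?_⟩
    rw [← map_pow]
    exact (QuotientGroup.eq_one_iff _).2 hj
  have hnil : Group.IsNilpotent (G ⧸ A) := hpq.isNilpotent
  have hnc : NormalizerCondition (G ⧸ A) := Group.normalizerCondition_of_isNilpotent
  set D : Subgroup (G ⧸ A) := (Subgroup.zpowers x ⊔ A).map mk with hDdef
  have hD' : D ≠ ⊤ := by
    intro h
    apply hD
    have h2 : D.comap mk = Subgroup.zpowers x ⊔ A := by
      rw [hDdef]
      apply Subgroup.comap_map_eq_self
      rw [hmk, QuotientGroup.ker_mk']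
      exact le_sup_right
    rw [← h2, h, Subgroup.comap_top]
  obtain ⟨Nb, hNb, hDNb⟩ := (eq_top_or_exists_le_coatom D).resolve_left hD'
  have hNbn : Nb.Normal := Subgroup.NormalizerCondition.normal_of_coatom Nb hnc hNb
  set N : Subgroup G := Nb.comap mk with hN
  have hNn : N.Normal := hNbn.comap mk
  have hNtop : N ≠ ⊤ := by
    intro h
    apply hNb.1
    have := Subgroup.map_comap_eq_self_of_surjective hsurj Nb
    rw [← hN, h, Subgroup.map_top_of_surjective mk hsurj] at this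
    exact this.symm
  have hNc := hab N hNn hNtop
  have hDN : Subgroup.zpowers x ⊔ A ≤ N := by
    rw [hN, ← Subgroup.map_le_iff_le_comap]
    exact hDNb
  have hxN : x ∈ N := hDN (Subgroup.mem_sup_left (Subgroup.mem_zpowers x))
  rw [Subgroup.mem_centralizer_iff]
  intro a ha
  have haN : a ∈ N := hDN (Subgroup.mem_sup_right ha)
  have := mul_comm' (⟨a, haN⟩ : N) ⟨x, hxN⟩
  exact congrArg Subtype.val this

/-- the fixed-point-free part -/
theorem fpf_part [Finite G] (x : G) (A : Subgroup G) [hAn : A.Normal] [hAc : IsMulCommutative A]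
    (hsup : Subgroup.zpowers x ⊔ A = ⊤) (hdisj : Disjoint (Subgroup.zpowers x) A)
    (hcop : (Nat.card (Subgroup.zpowers x)).Coprime (Nat.card A))
    (hxc : x ∉ Subgroup.centralizer (A : Set G))
    (h : ∀ H : Subgroup G, ¬ IsMulCommutative H → Subgroup.normalizer (H : Set G) = H) :
    ∀ a : G, a ∈ A → a ≠ 1 → x * a * x⁻¹ ≠ a := by
  set X := Subgroup.zpowers x with hX
  have hXA : X ≤ Subgroup.normalizer (A : Set G) := by
    rw [Subgroup.normalizer_eq_top A]; exact le_top
  set B : Subgroup G := ⁅A, X⁆ with hB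
  have hBA : B ≤ A := Subgroup.commutator_le_left A X
  have hBn : B.Normal := by
    rw [← Subgroup.normalizer_eq_top_iff, eq_top_iff, ← hsup]
    exact sup_le (Subgroup.normalizer_commutator_ge_right A X)
      (Subgroup.normalizer_commutator_ge_left A X)
  set H : Subgroup G := X ⊔ B with hH
  have hAH : ∀ a ∈ A, H ≤ H.comap (MulAut.conj a).toMonoidHom := by
    intro a ha
    apply sup_le
    · intro z hz
      rw [Subgroup.mem_comap]
      change a * z * a⁻¹ ∈ H
      have h1 : a * z * a⁻¹ = ⁅a, z⁆ * z := by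
        rw [commutatorElement_def]; group
      rw [h1]
      exact H.mul_mem (Subgroup.mem_sup_right (Subgroup.commutator_mem_commutator ha hz))
        (Subgroup.mem_sup_left hz)
    · intro b hb
      rw [Subgroup.mem_comap]
      change a * b * a⁻¹ ∈ H
      exact Subgroup.mem_sup_right (hBn.conj_mem b hb a)
  have hHn : Subgroup.normalizer (H : Set G) = ⊤ := by
    rw [eq_top_iff, ← hsup]
    apply sup_le (le_sup_left.trans Subgroup.le_normalizer)
    intro a ha
    rw [Subgroup.mem_normalizer_iff]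
    intro g
    constructor
    · intro hg
      exact hAH a ha hg
    · intro hg
      have := hAH a⁻¹ (A.inv_mem ha) hg
      rw [Subgroup.mem_comap] at this
      change a⁻¹ * (a * g * a⁻¹) * a⁻¹⁻¹ ∈ H at this
      have h2 : a⁻¹ * (a * g * a⁻¹) * a⁻¹⁻¹ = g := by group
      rwa [h2] at this
  have hsolv : Group.IsSolvable X ∨ Group.IsSolvable A := Or.inl inferInstance
  have hHna : ¬ IsMulCommutative H := by
    intro hc
    apply hxc
    have h1 : B ≤ Subgroup.centralizer (X : Set G) := by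
      intro b hb
      rw [Subgroup.mem_centralizer_iff]
      intro z hz
      have := mul_comm' (⟨z, Subgroup.mem_sup_left hz⟩ : H) ⟨b, Subgroup.mem_sup_right hb⟩
      exact congrArg Subtype.val this
    have h2 : ⁅B, X⁆ = ⊥ := Subgroup.commutator_eq_bot_iff_le_centralizer.2 h1
    have h3 : ⁅B, X⁆ = B := coprime_commutator_commutator X A hXA hcop hsolv
    have h4 : B = ⊥ := by rw [← h3, h2]
    have h5 : A ≤ Subgroup.centralizer (X : Set G) :=
      Subgroup.commutator_eq_bot_iff_le_centralizer.1 h4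
    rw [Subgroup.mem_centralizer_iff]
    intro a ha
    have := Subgroup.mem_centralizer_iff.1 (h5 ha) x (Subgroup.mem_zpowers x)
    exact this.symm
  have hHtop : H = ⊤ := by rw [← h H hHna, hHn]
  have hAB : A ≤ B := by
    intro a ha
    have haH : a ∈ X ⊔ B := by rw [← hH, hHtop]; trivial
    obtain ⟨z, hz, b, hb, rfl⟩ := Subgroup.mem_sup_of_normal_right.1 haH
    have hzA : z ∈ A := by
      have : z = z * b * b⁻¹ := by group
      rw [this]
      exact A.mul_mem ha (A.inv_mem (hBA hb))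
    have hz1 : z = 1 := by
      have : z ∈ X ⊓ A := ⟨hz, hzA⟩
      rw [hdisj.eq_bot] at this
      exact this
    rw [hz1, one_mul]; exact hb
  have hdec := (abelian_coprime_decomp X A hXA hcop).1
  intro a ha ha1 hxa
  apply ha1
  have haC : a ∈ Subgroup.centralizer (X : Set G) := by
    rw [Subgroup.mem_centralizer_iff]
    intro z hz
    have hle : X ≤ Subgroup.centralizer ({a} : Set G) := by
      rw [hX, Subgroup.zpowers_le, Subgroup.mem_centralizer_iff]
      intro c hc
      rw [Set.mem_singleton_iff] at hc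
      rw [hc]
      calc a * x = x * a * x⁻¹ * x := by rw [hxa]
        _ = x * a := by group
    have := Subgroup.mem_centralizer_iff.1 (hle hz) a rfl
    exact this.symm
  have : a ∈ (A ⊓ Subgroup.centralizer (X : Set G)) ⊓ ⁅A, X⁆ := ⟨⟨ha, haC⟩, hAB ha⟩
  rw [hdec] at this
  exact this

theorem forward [Finite G] [Group.IsSolvable G] (hnn : ¬ Group.IsNilpotent G)
    (h : ∀ H : Subgroup G, ¬ IsMulCommutative H → Subgroup.normalizer (H : Set G) = H) :
    ∃ (x : G) (A : Subgroup G) (p : ℕ), p.Prime ∧ A.Normal ∧ IsMulCommutative A ∧ (∃ k : ℕ, orderOf x = p ^ k) ∧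
      ¬ p ∣ Nat.card A ∧ (Subgroup.zpowers x).IsComplement' A ∧ x ^ p ∈ Subgroup.center G ∧
      ∀ a : G, a ∈ A → a ≠ 1 → x * a * x⁻¹ ≠ a := by
  have hnt : Nontrivial G := by
    by_contra hn
    rw [not_nontrivial_iff_subsingleton] at hn
    exact hnn inferInstance
  have hab := normal_abelian h
  obtain ⟨p, A, hp, hAn, hAc, hpA, hpg⟩ := exists_A hab
  have : Fact p.Prime := ⟨hp⟩
  have hAcomm : ∀ a ∈ A, ∀ b ∈ A, a * b = b * a := by
    intro a ha b hb
    have := mul_comm' (⟨a, ha⟩ : A) ⟨b, hb⟩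
    exact congrArg Subtype.val this
  have hdich := dichotomy p A hpg hab
  have hpq : IsPGroup p (G ⧸ A) := isPGroup_quot p A hpg
  obtain ⟨j, hj⟩ := hpq.exists_card_eq
  have hidx : A.index = p ^ j := hj
  have hcardG : Nat.card G = Nat.card A * p ^ j := by rw [← hidx, Subgroup.card_mul_index]
  have hcopA : (Nat.card A).Coprime p := ((Nat.Prime.coprime_iff_not_dvd hp).2 hpA).symm
  set mk := QuotientGroup.mk' A with hmk
  have hcent : Subgroup.centralizer (A : Set G) ≠ ⊤ := by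
    intro hc
    apply hnn
    have hAZ : A ≤ Subgroup.center G := by
      intro a ha
      rw [Subgroup.mem_center_iff]
      intro g
      have hg : g ∈ Subgroup.centralizer (A : Set G) := by rw [hc]; trivial
      exact (Subgroup.mem_centralizer_iff.1 hg a ha).symm
    have : Group.IsNilpotent (G ⧸ A) := hpq.isNilpotent
    exact Subgroup.isNilpotent_of_ker_le_center mk (by rw [hmk, QuotientGroup.ker_mk']; exact hAZ)
  obtain ⟨x₀, hx₀⟩ : ∃ x₀, x₀ ∉ Subgroup.centralizer (A : Set G) := by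
    by_contra hcon
    apply hcent
    rw [eq_top_iff]
    intro g _
    by_contra hg
    exact hcon ⟨g, hg⟩
  have hx₀top := (hdich x₀).resolve_left hx₀
  set n := Nat.card A with hn
  set x := x₀ ^ n with hx
  have hxpow : x ^ (p ^ j) = 1 := by rw [hx, ← pow_mul, ← hcardG, pow_card_eq_one']
  obtain ⟨k, hk⟩ : ∃ k, orderOf x = p ^ k := by
    have := orderOf_dvd_of_pow_eq_one hxpow
    obtain ⟨k, -, hk⟩ := (Nat.dvd_prime_pow hp).1 this
    exact ⟨k, hk⟩
  have hsup : Subgroup.zpowers x ⊔ A = ⊤ := by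
    rw [eq_top_iff, ← hx₀top]
    apply sup_le _ le_sup_right
    rw [Subgroup.zpowers_le]
    have hcop : n.Coprime (orderOf (mk x₀)) := by
      have h1 : orderOf (mk x₀) ∣ p ^ j := hj ▸ orderOf_dvd_natCard _
      exact Nat.Coprime.coprime_dvd_right h1 (Nat.Coprime.pow_right j hcopA)
    obtain ⟨m, hm⟩ := exists_pow_eq_self_of_coprime hcop
    have h2 : mk (x ^ m) = mk x₀ := by rw [hx, map_pow, map_pow]; exact hm
    have h3 : (x ^ m)⁻¹ * x₀ ∈ A := QuotientGroup.eq.1 h2
    have h4 : x₀ = x ^ m * ((x ^ m)⁻¹ * x₀) := by group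
    rw [h4]
    exact Subgroup.mul_mem _ (Subgroup.mem_sup_left (Subgroup.pow_mem _ (Subgroup.mem_zpowers x) m))
      (Subgroup.mem_sup_right h3)
  have hcopX : (Nat.card (Subgroup.zpowers x)).Coprime (Nat.card A) := by
    rw [Nat.card_zpowers, hk]
    exact Nat.Coprime.pow_left k hcopA.symm
  have hdisj : Disjoint (Subgroup.zpowers x) A := Subgroup.disjoint_of_coprime_natCard hcopX
  have hcompl : (Subgroup.zpowers x).IsComplement' A := by
    apply Subgroup.isComplement'_of_disjoint_and_mul_eq_univ hdisj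
    rw [← Subgroup.mul_normal (Subgroup.zpowers x) A, hsup]
    rfl
  have hxc : x ∉ Subgroup.centralizer (A : Set G) := by
    intro hxc
    apply hcent
    rw [eq_top_iff, ← hsup]
    apply sup_le
    · rw [Subgroup.zpowers_le]; exact hxc
    · intro a ha
      rw [Subgroup.mem_centralizer_iff]
      intro b hb
      exact hAcomm b hb a ha
  have hx1 : x ≠ 1 := by
    intro h1
    apply hxc
    rw [h1]; exact Subgroup.one_mem _
  have hk0 : k ≠ 0 := by
    rintro rfl
    rw [pow_zero, orderOf_eq_one_iff] at hk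
    exact hx1 hk
  have hxpc : x ^ p ∈ Subgroup.centralizer (A : Set G) := by
    refine (hdich (x ^ p)).resolve_right ?_
    intro htop
    have hxm : x ∈ Subgroup.zpowers (x ^ p) ⊔ A := by rw [htop]; trivial
    obtain ⟨z, hz, a, ha, hza⟩ := Subgroup.mem_sup_of_normal_right.1 hxm
    obtain ⟨i, rfl⟩ := Subgroup.mem_zpowers_iff.1 hz
    have hzX : (x ^ p) ^ i ∈ Subgroup.zpowers x :=
      Subgroup.zpow_mem _ (Subgroup.pow_mem _ (Subgroup.mem_zpowers x) p) i
    have ha1 : a = 1 := by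
      have h1 : a = ((x ^ p) ^ i)⁻¹ * x := eq_inv_mul_of_mul_eq hza
      have h2 : a ∈ Subgroup.zpowers x ⊓ A :=
        ⟨h1 ▸ Subgroup.mul_mem _ (Subgroup.inv_mem _ hzX) (Subgroup.mem_zpowers x), ha⟩
      rw [hdisj.eq_bot] at h2
      exact h2
    rw [ha1, mul_one] at hza
    have h3 : x ^ ((p : ℤ) * i - 1) = 1 := by
      rw [zpow_sub, zpow_mul, zpow_natCast, hza, zpow_one, mul_inv_cancel]
    have h4 : (orderOf x : ℤ) ∣ (p : ℤ) * i - 1 := orderOf_dvd_iff_zpow_eq_one.2 h3
    have h5 : (p : ℤ) ∣ (orderOf x : ℤ) := by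
      rw [hk]
      exact_mod_cast dvd_pow_self p hk0
    have h6 : (p : ℤ) ∣ (p : ℤ) * i - 1 := h5.trans h4
    have h7 : (p : ℤ) ∣ 1 := by
      have := dvd_sub (dvd_mul_right (p : ℤ) i) h6
      simpa using this
    have h8 : p ∣ 1 := by exact_mod_cast h7
    exact hp.one_lt.ne' (Nat.dvd_one.1 h8)
  have hxpZ : x ^ p ∈ Subgroup.center G := by
    have hle : (⊤ : Subgroup G) ≤ Subgroup.centralizer ({x ^ p} : Set G) := by
      rw [← hsup]
      apply sup_le
      · rw [Subgroup.zpowers_le, Subgroup.mem_centralizer_iff]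
        intro c hc
        rw [Set.mem_singleton_iff] at hc
        rw [hc, ← pow_succ, ← pow_succ']
      · intro a ha
        rw [Subgroup.mem_centralizer_iff]
        intro c hc
        rw [Set.mem_singleton_iff] at hc
        rw [hc]
        exact (Subgroup.mem_centralizer_iff.1 hxpc a ha).symm
    rw [Subgroup.mem_center_iff]
    intro g
    have := Subgroup.mem_centralizer_iff.1 (hle (Subgroup.mem_top g)) (x ^ p) rfl
    exact this.symm
  exact ⟨x, A, p, hp, hAn, hAc, ⟨k, hk⟩, hpA, hcompl, hxpZ,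
    fpf_part x A hsup hdisj hcopX hxc h⟩

end

/-- Let G be a finite solvable non-nilpotent group. Every non-abelian subgroup of G is self-normalizing if and only if G is a semidirect product ⟨x⟩ ⋉ A in which ⟨x⟩ is a p-group for some prime p, A is a normal abelian subgroup of order prime to p, x^p is central in G, and x acts fixed-point-freely on A (no non-identity element of A commutes with x). -/
theorem result {G : Type*} [Group G] [Finite G]
    [Group.IsSolvable G] (hnn : ¬ Group.IsNilpotent G) :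
    (∀ H : Subgroup G, ¬ IsMulCommutative H → Subgroup.normalizer (H : Set G) = H) ↔
    ∃ (x : G) (A : Subgroup G) (p : ℕ), p.Prime ∧ A.Normal ∧ IsMulCommutative A ∧ (∃ k : ℕ, orderOf x = p ^ k) ∧
      ¬ p ∣ Nat.card A ∧ (Subgroup.zpowers x).IsComplement' A ∧ x ^ p ∈ Subgroup.center G ∧
      ∀ a : G, a ∈ A → a ≠ 1 → x * a * x⁻¹ ≠ a := by
  constructor
  · intro h
    exact forward hnn h
  · rintro ⟨x, A, p, hp, hAn, hAc, hx, -, hcompl, hxp, hfpf⟩ H hH
    exact backward x A p hp hAn hAc hx hcompl hxp hfpf H hH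


end Cfsg.Agent.S4071
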