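import Mathlib
import Cfsg.Statements.S4072
import Cfsg.Agent.S4071
import Cfsg.Agent.Helper3.AbIndexP
import Cfsg.Agent.Helper1.NormalPCompl
import Cfsg.Agent.Helper1.Transfer1
import Cfsg.Agent.Helper1.PGroup
import Cfsg.Statements.S4072
-- import your own Cfsg.Agent.* helpers here

set_option autoImplicit false
open Cfsg

namespace Cfsg.Agent.S4072
open Cfsg
universe u
open Cfsg.Agent.Helper3.AbIndexP
open scoped commutatorElement

section pgroup

variable {P : Type u} [Group P] [Finite P] {p : ℕ} [hp : Fact p.Prime]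

/-- A non-abelian `p`-group all of whose proper subgroups are abelian has `|P'| = p`. -/
theorem card_commutator_of_minimal (hP : IsPGroup p P) (hna : ¬ IsMulCommutative P)
    (hprop : ∀ Q : Subgroup P, Q ≠ ⊤ → IsMulCommutative Q) : Nat.card (commutator P) = p := by
  have hnt : Nontrivial P := by
    by_contra h
    rw [not_nontrivial_iff_subsingleton] at h
    exact hna ⟨⟨fun a b => Subsingleton.elim _ _⟩⟩
  have hncyc : ¬ IsCyclic P := fun h => hna h.isMulCommutative
  obtain ⟨A, hAco⟩ : ∃ A : Subgroup P, IsCoatom A := by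
    rcases eq_top_or_exists_le_coatom (⊥ : Subgroup P) with h | ⟨A, hA, _⟩
    · exact absurd h bot_ne_top
    · exact ⟨A, hA⟩
  have hAi : A.index = p := Cfsg.Agent.Helper1.IsPGroup.coatom_index hP hAco
  have hAp : A.index.Prime := hAi ▸ hp.out
  obtain ⟨x, hx⟩ := exists_not_mem hAp
  have hxtop : Subgroup.zpowers x ≠ ⊤ := by
    intro h
    exact hncyc (isCyclic_iff_exists_zpowers_eq_top.2 ⟨x, h⟩)
  obtain ⟨B, hBco, hxB⟩ : ∃ B : Subgroup P, IsCoatom B ∧ Subgroup.zpowers x ≤ B := by
    rcases eq_top_or_exists_le_coatom (Subgroup.zpowers x) with h | ⟨B, hB, hle⟩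
    · exact absurd h hxtop
    · exact ⟨B, hB, hle⟩
  have hBi : B.index = p := Cfsg.Agent.Helper1.IsPGroup.coatom_index hP hBco
  have hne : B ≠ A := by
    intro h
    apply hx
    rw [← h]
    exact hxB (Subgroup.mem_zpowers x)
  have hA := hprop A hAco.1
  have hB := hprop B hBco.1
  have h1 := index_center_le hA hAi hB hBi hne
  have h2 := index_center hP hna hA hAi
  rw [h2, sq] at h1
  have h3 : Nat.card (commutator P) ≤ p := Nat.le_of_mul_le_mul_left h1 hp.out.pos
  obtain ⟨n, hn⟩ := IsPGroup.iff_card.1 (hP.to_subgroup (commutator P))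
  have hn0 : n ≠ 0 := by
    rintro rfl
    rw [pow_zero, Subgroup.card_eq_one] at hn
    apply hna
    refine ⟨⟨fun a b => ?_⟩⟩
    rw [← commutatorElement_eq_one_iff_mul_comm]
    have h1 : ⁅a, b⁆ ∈ commutator P := by
      rw [commutator_def]
      exact Subgroup.commutator_mem_commutator (Subgroup.mem_top a) (Subgroup.mem_top b)
    rw [hn] at h1
    exact Subgroup.mem_bot.1 h1
  have h4 : p ≤ Nat.card (commutator P) := by
    rw [hn]
    calc p = p ^ 1 := (pow_one p).symm
      _ ≤ p ^ n := Nat.pow_le_pow_right hp.out.pos (Nat.one_le_iff_ne_zero.2 hn0)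
  exact le_antisymm h3 h4

end pgroup

section main

variable {G : Type u} [Group G] [Finite G]

omit [Finite G] in
theorem quot_not_solvable
    (hSN : ∀ H : Subgroup G, ¬ IsMulCommutative H → Subgroup.normalizer (H : Set G) = H)
    (hns : ¬ Group.IsSolvable G) (K : Subgroup G) [hK : K.Normal] (hKtop : K ≠ ⊤) :
    ¬ Group.IsSolvable (G ⧸ K) := by
  intro hq
  apply hns
  have hKc : IsMulCommutative K := Cfsg.Agent.S4071.normal_abelian hSN K hK hKtop
  have : Group.IsSolvable K := Group.isSolvable_of_comm (fun a b => hKc.is_comm.comm a b)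
  exact Group.isSolvable_of_ker_le_range K.subtype (QuotientGroup.mk' K)
    (by rw [QuotientGroup.ker_mk', Subgroup.range_subtype])

theorem no_pquot
    (hSN : ∀ H : Subgroup G, ¬ IsMulCommutative H → Subgroup.normalizer (H : Set G) = H)
    (hns : ¬ Group.IsSolvable G) (K : Subgroup G) [hK : K.Normal] (p : ℕ) [hp : Fact p.Prime]
    (hKtop : K ≠ ⊤) (hq : IsPGroup p (G ⧸ K)) : False := by
  apply quot_not_solvable hSN hns K hKtop
  have := hq.isNilpotent
  infer_instance

theorem no_npc
    (hSN : ∀ H : Subgroup G, ¬ IsMulCommutative H → Subgroup.normalizer (H : Set G) = H)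
    (hns : ¬ Group.IsSolvable G) (M : Subgroup G) [hM : M.Normal] (p : ℕ) [hp : Fact p.Prime]
    (hnpc : Cfsg.HasNormalPComplement p (G ⧸ M)) (hdvd : p ∣ Nat.card (G ⧸ M)) : False := by
  obtain ⟨P, K, hKn, hKP⟩ := hnpc
  have hidx : K.index = Nat.card P := hKP.symm.index_eq_card
  have hPcard : Nat.card P = p ^ (Nat.card (G ⧸ M)).factorization p := P.card_eq_multiplicity
  have hpos : 0 < (Nat.card (G ⧸ M)).factorization p :=
    hp.out.factorization_pos_of_dvd Nat.card_pos.ne' hdvd
  have hK'n : (K.comap (QuotientGroup.mk' M)).Normal := hKn.comap _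
  have hK'i : (K.comap (QuotientGroup.mk' M)).index = p ^ (Nat.card (G ⧸ M)).factorization p := by
    rw [Subgroup.index_comap_of_surjective _ (QuotientGroup.mk'_surjective M), hidx, hPcard]
  apply no_pquot hSN hns (K.comap (QuotientGroup.mk' M)) p
  · intro h
    rw [h, Subgroup.index_top] at hK'i
    exact absurd hK'i (Nat.one_lt_pow hpos.ne' hp.out.one_lt).ne
  · exact IsPGroup.of_card (by rw [← Subgroup.index_eq_card]; exact hK'i)

theorem case_A
    (hSN : ∀ H : Subgroup G, ¬ IsMulCommutative H → Subgroup.normalizer (H : Set G) = H)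
    (hns : ¬ Group.IsSolvable G) (N : Subgroup G) [hN : N.Normal]
    (hCN : Subgroup.centralizer (N : Set G) = N) : False := by
  have hNtop : N ≠ ⊤ := by
    intro h
    apply hns
    have : ∀ a b : G, a * b = b * a := by
      intro a b
      have ha : a ∈ Subgroup.centralizer (N : Set G) := by rw [hCN, h]; trivial
      have hb : b ∈ N := by rw [h]; trivial
      exact (Subgroup.mem_centralizer_iff.1 ha b hb).symm
    exact Group.isSolvable_of_comm this
  have hcard : 1 < Nat.card (G ⧸ N) := by
    rw [← Subgroup.index_eq_card]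
    have h0 : N.index ≠ 0 := Subgroup.index_ne_zero_of_finite
    have h1 : N.index ≠ 1 := fun h => hNtop (Subgroup.index_eq_one.1 h)
    omega
  have hpp : (Nat.card (G ⧸ N)).minFac.Prime := Nat.minFac_prime hcard.ne'
  have : Fact (Nat.card (G ⧸ N)).minFac.Prime := ⟨hpp⟩
  have hdvd : (Nat.card (G ⧸ N)).minFac ∣ Nat.card (G ⧸ N) := Nat.minFac_dvd _
  generalize (Nat.card (G ⧸ N)).minFac = p at hpp hdvd this
  obtain P : Sylow p (G ⧸ N) := default
  have hPnt : Nontrivial P := by
    rw [← Finite.one_lt_card_iff_nontrivial, P.card_eq_multiplicity]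
    exact Nat.one_lt_pow (hpp.factorization_pos_of_dvd (by omega) hdvd).ne' hpp.one_lt
  have hcen : Nontrivial (Subgroup.center P) := P.2.center_nontrivial
  obtain ⟨c, hc⟩ := exists_ne (1 : Subgroup.center P)
  have hxb1 : ((c : P) : G ⧸ N) ≠ 1 := by
    intro h
    apply hc
    apply Subtype.ext
    apply Subtype.ext
    exact h
  obtain ⟨x, hx⟩ := QuotientGroup.mk'_surjective N ((c : P) : G ⧸ N)
  have hxN : x ∉ N := by
    intro h
    apply hxb1
    rw [← hx]
    exact (QuotientGroup.eq_one_iff x).2 h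
  have hHna : ¬ IsMulCommutative ↥(N ⊔ Subgroup.zpowers x) := by
    intro hc'
    apply hxN
    rw [← hCN, Subgroup.mem_centralizer_iff]
    intro n hn
    exact setLike_mul_comm (s := N ⊔ Subgroup.zpowers x)
      ((le_sup_left : N ≤ N ⊔ Subgroup.zpowers x) hn)
      ((le_sup_right : Subgroup.zpowers x ≤ N ⊔ Subgroup.zpowers x) (Subgroup.mem_zpowers x))
  have hHn := hSN _ hHna
  have hcomap : (Subgroup.zpowers ((c : P) : G ⧸ N)).comap (QuotientGroup.mk' N)
      = N ⊔ Subgroup.zpowers x := by
    rw [← hx, ← MonoidHom.map_zpowers, Subgroup.comap_map_eq, QuotientGroup.ker_mk', sup_comm]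
  have hnorm : Subgroup.normalizer
      ((Subgroup.zpowers ((c : P) : G ⧸ N) : Subgroup (G ⧸ N)) : Set (G ⧸ N))
      = Subgroup.zpowers ((c : P) : G ⧸ N) := by
    apply Subgroup.comap_injective (QuotientGroup.mk'_surjective N)
    rw [Subgroup.comap_normalizer_eq_of_surjective _ (QuotientGroup.mk'_surjective N), hcomap, hHn]
  have hPle : (P : Subgroup (G ⧸ N)) ≤ Subgroup.zpowers ((c : P) : G ⧸ N) := by
    rw [← hnorm]
    intro y hy
    apply Subgroup.centralizer_le_normalizer
    have hcomm : y * ((c : P) : G ⧸ N) = ((c : P) : G ⧸ N) * y := by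
      have := Subgroup.mem_center_iff.1 c.2 ⟨y, hy⟩
      exact congrArg Subtype.val this
    rw [Subgroup.mem_centralizer_iff]
    rintro h ⟨k, rfl⟩
    exact ((Commute.zpow_right (show Commute y _ from hcomm) k).eq).symm
  have hPeq : (P : Subgroup (G ⧸ N)) = Subgroup.zpowers ((c : P) : G ⧸ N) :=
    le_antisymm hPle ((Subgroup.zpowers_le).2 (c : P).2)
  apply no_npc hSN hns N p _ hdvd
  apply Cfsg.Agent.Helper1.hasNormalPComplement_of_normalizer_le_centralizer P
  rw [hPeq, hnorm]
  exact Subgroup.le_centralizer_iff_isMulCommutative.2 inferInstance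

theorem proper_abelian
    (hSN : ∀ H : Subgroup G, ¬ IsMulCommutative H → Subgroup.normalizer (H : Set G) = H)
    (p : ℕ) [hp : Fact p.Prime] (P : Subgroup G) (hP : IsPGroup p P) (Q : Subgroup P)
    (hQ : Q ≠ ⊤) : IsMulCommutative Q := by
  by_contra hQna
  have hQ'na : ¬ IsMulCommutative ↥(Q.map P.subtype) := by
    intro hc
    apply hQna
    refine ⟨⟨fun a b => ?_⟩⟩
    apply Subtype.ext
    apply Subtype.ext
    have ha : ((a : P) : G) ∈ Q.map P.subtype := ⟨a, a.2, rfl⟩
    have hb : ((b : P) : G) ∈ Q.map P.subtype := ⟨b, b.2, rfl⟩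
    exact setLike_mul_comm ha hb
  have h1 := hSN _ hQ'na
  have hnil : Group.IsNilpotent P := hP.isNilpotent
  have hnc := Group.normalizerCondition_of_isNilpotent (G := P)
  have h2 : Q < Subgroup.normalizer (Q : Set P) := hnc Q (lt_top_iff_ne_top.2 hQ)
  obtain ⟨g, hgN, hgQ⟩ := SetLike.exists_of_lt h2
  have h3 : (g : G) ∈ (Subgroup.normalizer (Q : Set P)).map P.subtype := ⟨g, hgN, rfl⟩
  have h4 := Subgroup.le_normalizer_map P.subtype h3
  rw [h1] at h4
  obtain ⟨g', hg'Q, hg'⟩ := h4
  have : g' = g := Subtype.ext hg'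
  rw [this] at hg'Q
  exact hgQ hg'Q

theorem mem_commutator_of_central
    (hperf : commutator G = ⊤) (p : ℕ) [hp : Fact p.Prime] (P : Sylow p G) (z : G)
    (hz : z ∈ Subgroup.center G) (hzP : z ∈ (P : Subgroup G)) (hzo : orderOf z = p) :
    (⟨z, hzP⟩ : (P : Subgroup G)) ∈ commutator (P : Subgroup G) := by
  have key : ∀ (k : ℕ) (g₀ : G), g₀⁻¹ * z ^ k * g₀ ∈ (P : Subgroup G) →
      g₀⁻¹ * z ^ k * g₀ = z ^ k := by
    intro k g₀ _
    have hzk : z ^ k ∈ Subgroup.center G := Subgroup.pow_mem _ hz k
    rw [mul_assoc, ← Subgroup.mem_center_iff.1 hzk g₀, inv_mul_cancel_left]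
  have h1 := MonoidHom.transfer_eq_pow (Abelianization.of (G := (P : Subgroup G))) z key
  have h2 : MonoidHom.transfer (Abelianization.of (G := (P : Subgroup G))) z = 1 := by
    have : z ∈ commutator G := by rw [hperf]; trivial
    exact Abelianization.commutator_subset_ker _ this
  rw [h2] at h1
  have h3 : (⟨z ^ (P : Subgroup G).index, MonoidHom.transfer_eq_pow_aux z key⟩ : (P : Subgroup G))
      ∈ commutator (P : Subgroup G) := by
    rw [← Abelianization.ker_of, MonoidHom.mem_ker]; exact h1.symm
  have hcop : ((P : Subgroup G).index).Coprime (orderOf z) := by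
    rw [hzo]
    exact ((Nat.Prime.coprime_iff_not_dvd hp.out).2 P.not_dvd_index).symm
  obtain ⟨m, hm⟩ := exists_pow_eq_self_of_coprime hcop
  have h4 : (⟨z, hzP⟩ : (P : Subgroup G))
      = (⟨z ^ (P : Subgroup G).index, MonoidHom.transfer_eq_pow_aux z key⟩ : (P : Subgroup G)) ^ m :=
    Subtype.ext hm.symm
  rw [h4]
  exact Subgroup.pow_mem _ h3 m

theorem case_B
    (hSN : ∀ H : Subgroup G, ¬ IsMulCommutative H → Subgroup.normalizer (H : Set G) = H)
    (hns : ¬ Group.IsSolvable G) (p : ℕ) [hp : Fact p.Prime] (z : G)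
    (hz : z ∈ Subgroup.center G) (hzo : orderOf z = p) : False := by
  have hperf : commutator G = ⊤ := by
    by_contra h
    refine quot_not_solvable hSN hns (commutator G) h ?_
    show Group.IsSolvable (Abelianization G)
    infer_instance
  have hzp : IsPGroup p (Subgroup.zpowers z) :=
    IsPGroup.of_card (n := 1) (by rw [Nat.card_zpowers, hzo, pow_one])
  obtain ⟨P, hzPle⟩ := hzp.exists_le_sylow
  have hzP : z ∈ (P : Subgroup G) := hzPle (Subgroup.mem_zpowers z)
  by_cases hPab : IsMulCommutative (P : Subgroup G)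
  · have h1 := Cfsg.Agent.Helper1.abelian_hall_inf_commutator_inf_center (P : Subgroup G)
      (Sylow.card_coprime_index P)
    have h2 : z ∈ (P : Subgroup G) ⊓ commutator G ⊓ Subgroup.center G :=
      ⟨⟨hzP, by rw [hperf]; trivial⟩, hz⟩
    rw [h1, Subgroup.mem_bot] at h2
    rw [h2, orderOf_one] at hzo
    exact hp.out.one_lt.ne hzo
  · have hNP := hSN _ hPab
    have hprop := proper_abelian hSN p (P : Subgroup G) P.2
    have hcard := card_commutator_of_minimal (p := p) P.2 hPab hprop
    have hzc := mem_commutator_of_central hperf p P z hz hzP hzo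
    have hzo' : orderOf (⟨z, hzP⟩ : (P : Subgroup G)) = p := by
      rw [← Subgroup.orderOf_coe]; exact hzo
    have hceq : Subgroup.zpowers (⟨z, hzP⟩ : (P : Subgroup G)) = commutator (P : Subgroup G) := by
      apply Subgroup.eq_of_le_of_card_ge ((Subgroup.zpowers_le).2 hzc)
      rw [hcard, Nat.card_zpowers, hzo']
    -- commutators of elements of P lie in zpowers z
    have hcomm : ∀ a ∈ (P : Subgroup G), ∀ b ∈ (P : Subgroup G), ⁅a, b⁆ ∈ Subgroup.zpowers z := by
      intro a ha b hb
      have h1 : ⁅(⟨a, ha⟩ : (P : Subgroup G)), ⟨b, hb⟩⁆ ∈ commutator (P : Subgroup G) := by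
        rw [commutator_def]
        exact Subgroup.commutator_mem_commutator (Subgroup.mem_top _) (Subgroup.mem_top _)
      rw [← hceq] at h1
      obtain ⟨k, hk⟩ := h1
      refine ⟨k, ?_⟩
      have h2 := congrArg Subtype.val hk
      have e : ((⁅(⟨a, ha⟩ : (P : Subgroup G)), ⟨b, hb⟩⁆ : (P : Subgroup G)) : G) = ⁅a, b⁆ := rfl
      rw [e] at h2
      rw [← h2]
      simp
    have hZn : (Subgroup.zpowers z).Normal := by
      refine ⟨fun n hn g => ?_⟩
      obtain ⟨k, rfl⟩ := hn
      have hzk : z ^ k ∈ Subgroup.center G := Subgroup.zpow_mem _ hz k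
      rw [Subgroup.mem_center_iff.1 hzk g, mul_inv_cancel_right]
      exact ⟨k, rfl⟩
    have hsurj := QuotientGroup.mk'_surjective (Subgroup.zpowers z)
    have hPbar_coe : ((P.mapSurjective hsurj : Sylow p (G ⧸ Subgroup.zpowers z)) :
        Subgroup (G ⧸ Subgroup.zpowers z))
        = (P : Subgroup G).map (QuotientGroup.mk' (Subgroup.zpowers z)) := rfl
    have hab : IsMulCommutative
        ↥((P : Subgroup G).map (QuotientGroup.mk' (Subgroup.zpowers z))) := by
      refine ⟨⟨fun u v => ?_⟩⟩
      apply Subtype.ext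
      obtain ⟨a, ha, hau⟩ := u.2
      obtain ⟨b, hb, hbv⟩ := v.2
      show (u : G ⧸ Subgroup.zpowers z) * v = v * u
      rw [← hau, ← hbv, ← commutatorElement_eq_one_iff_mul_comm, ← map_commutatorElement]
      exact (QuotientGroup.eq_one_iff _).2 (hcomm a ha b hb)
    have hcomap : ((P : Subgroup G).map (QuotientGroup.mk' (Subgroup.zpowers z))).comap
        (QuotientGroup.mk' (Subgroup.zpowers z)) = (P : Subgroup G) := by
      rw [Subgroup.comap_map_eq, QuotientGroup.ker_mk']
      exact sup_eq_left.2 hzPle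
    have hnorm : Subgroup.normalizer
        (((P : Subgroup G).map (QuotientGroup.mk' (Subgroup.zpowers z)) :
          Subgroup (G ⧸ Subgroup.zpowers z)) : Set (G ⧸ Subgroup.zpowers z))
        = (P : Subgroup G).map (QuotientGroup.mk' (Subgroup.zpowers z)) := by
      apply Subgroup.comap_injective hsurj
      rw [Subgroup.comap_normalizer_eq_of_surjective _ hsurj, hcomap, hNP]
    have hnpc : Cfsg.HasNormalPComplement p (G ⧸ Subgroup.zpowers z) := by
      apply Cfsg.Agent.Helper1.hasNormalPComplement_of_normalizer_le_centralizer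
        (P.mapSurjective hsurj)
      rw [hPbar_coe, hnorm]
      exact Subgroup.le_centralizer_iff_isMulCommutative.2 hab
    have hdvd : p ∣ Nat.card (G ⧸ Subgroup.zpowers z) := by
      by_contra hnd
      have h1 : Nat.card (P.mapSurjective hsurj : Sylow p (G ⧸ Subgroup.zpowers z)) = 1 := by
        rw [Sylow.card_eq_multiplicity, Nat.factorization_eq_zero_of_not_dvd hnd, pow_zero]
      have h2 : ((P.mapSurjective hsurj : Sylow p (G ⧸ Subgroup.zpowers z)) :
        Subgroup (G ⧸ Subgroup.zpowers z)) = ⊥ := Subgroup.card_eq_one.1 h1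
      rw [hPbar_coe] at h2
      have h3 : (P : Subgroup G) ≤ Subgroup.zpowers z := by
        rw [← hcomap, h2]
        intro g hg
        have := Subgroup.mem_comap.1 hg
        rw [Subgroup.mem_bot] at this
        exact (QuotientGroup.eq_one_iff g).1 this
      apply hPab
      refine ⟨⟨fun a b => ?_⟩⟩
      apply Subtype.ext
      exact setLike_mul_comm (s := Subgroup.zpowers z) (h3 a.2) (h3 b.2)
    exact no_npc hSN hns (Subgroup.zpowers z) p hnpc hdvd

end main

/-- A finite group in which every non-abelian subgroup is self-normalizing is solvable or simple. -/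
theorem result {G : Type*} [Group G] [Finite G] (hS : ∀ H : Subgroup G, ¬ IsMulCommutative H → Subgroup.normalizer (H : Set G) = H) :
    Group.IsSolvable G ∨ IsSimpleGroup G := by
  by_cases hns : Group.IsSolvable G
  · exact Or.inl hns
  right
  have hnt : Nontrivial G := by
    by_contra h
    rw [not_nontrivial_iff_subsingleton] at h
    exact hns inferInstance
  refine { toNontrivial := hnt, eq_bot_or_eq_top_of_normal := fun N hN => ?_ }
  by_contra hcon
  push Not at hcon
  obtain ⟨hbot, htop⟩ := hcon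
  have hNab : IsMulCommutative N := Cfsg.Agent.S4071.normal_abelian hS N hN htop
  by_cases hC : Subgroup.centralizer (N : Set G) = ⊤
  · -- N is central
    have hNcen : N ≤ Subgroup.center G := by
      intro n hn
      rw [Subgroup.mem_center_iff]
      intro g
      have hg : g ∈ Subgroup.centralizer (N : Set G) := by rw [hC]; trivial
      exact (Subgroup.mem_centralizer_iff.1 hg n hn).symm
    have hcard : 1 < Nat.card N := by
      have h0 : Nat.card N ≠ 0 := Nat.card_pos.ne'
      have h1 : Nat.card N ≠ 1 := fun h => hbot (Subgroup.card_eq_one.1 h)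
      omega
    have hpp : (Nat.card N).minFac.Prime := Nat.minFac_prime hcard.ne'
    have hfact : Fact (Nat.card N).minFac.Prime := ⟨hpp⟩
    obtain ⟨x, hx⟩ := exists_prime_orderOf_dvd_card' (G := N) (Nat.card N).minFac
      (Nat.minFac_dvd _)
    refine case_B hS hns (Nat.card N).minFac (x : G) (hNcen x.2) ?_
    rw [Subgroup.orderOf_coe]; exact hx
  · -- the centralizer of N is a proper normal subgroup, self-centralizing
    have hCn : (Subgroup.centralizer (N : Set G)).Normal := inferInstance
    have hCab : IsMulCommutative ↥(Subgroup.centralizer (N : Set G)) :=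
      Cfsg.Agent.S4071.normal_abelian hS _ hCn hC
    have hNC : N ≤ Subgroup.centralizer (N : Set G) :=
      Subgroup.le_centralizer_iff_isMulCommutative.2 hNab
    have hCC : Subgroup.centralizer ((Subgroup.centralizer (N : Set G) : Subgroup G) : Set G)
        = Subgroup.centralizer (N : Set G) := by
      apply le_antisymm
      · exact Subgroup.centralizer_le hNC
      · exact Subgroup.le_centralizer_iff_isMulCommutative.2 hCab
    exact case_A hS hns (Subgroup.centralizer (N : Set G)) hCC


end Cfsg.Agent.S4072
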