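import Mathlib
import Cfsg.Statements.S4074
-- import your own Cfsg.Agent.* helpers here

set_option autoImplicit false
open Cfsg

namespace Cfsg.Agent.S4074
open DihedralGroup

/-- the rotation homomorphism -/
def rot (n : ℕ) : Multiplicative (ZMod n) →* DihedralGroup n where
  toFun i := r (Multiplicative.toAdd i)
  map_one' := rfl
  map_mul' a b := by simp

theorem half_unit {n : ℕ} (hn : Odd n) (t : ZMod n) : ((n + 1) / 2) • (2 * t) = t := by
  obtain ⟨k, hk⟩ := hn
  have h1 : (n + 1) / 2 = k + 1 := by omega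
  rw [h1, nsmul_eq_mul]
  have h2 : ((k + 1 : ℕ) : ZMod n) * (2 * t) = ((2 * k + 1 + 1 : ℕ) : ZMod n) * t := by
    push_cast; ring
  rw [h2, ← hk]
  push_cast
  rw [ZMod.natCast_self]
  ring

theorem rot_mem {n : ℕ} (hn : Odd n) (H : Subgroup (DihedralGroup n)) (t : ZMod n)
    (h : r (2 * t) ∈ H) : r t ∈ H := by
  have h1 : Multiplicative.ofAdd (2 * t) ∈ H.comap (rot n) := h
  have h2 := Subgroup.pow_mem _ h1 ((n + 1) / 2)
  rw [← ofAdd_nsmul, half_unit hn] at h2
  exact h2

theorem odd_case {n : ℕ} (hn : Odd n) (H : Subgroup (DihedralGroup n))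
    (hH : ¬ IsMulCommutative H) : Subgroup.normalizer (H : Set (DihedralGroup n)) = H := by
  apply le_antisymm _ Subgroup.le_normalizer
  -- `H` contains a reflection
  obtain ⟨i, hi⟩ : ∃ i, sr i ∈ H := by
    by_contra hcon
    apply hH
    constructor; constructor
    rintro ⟨a, ha⟩ ⟨b, hb⟩
    apply Subtype.ext
    cases a with
    | r x =>
      cases b with
      | r y => simp [add_comm]
      | sr y => exact absurd ⟨y, hb⟩ hcon
    | sr x => exact absurd ⟨x, ha⟩ hcon
  have key : ∀ t, r t ∈ Subgroup.normalizer (H : Set (DihedralGroup n)) → r t ∈ H := by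
    intro t ht
    have h1 := (Subgroup.mem_normalizer_iff.1 ht (sr i)).1 hi
    have h2 : r t * sr i * (r t)⁻¹ = sr (i - 2 * t) := by
      simp only [inv_r, r_mul_sr, sr_mul_r]
      congr 1; ring
    rw [h2] at h1
    have h3 : sr (i - 2 * t) * sr i = r (2 * t) := by
      simp only [sr_mul_sr]; congr 1; ring
    have h4 : r (2 * t) ∈ H := h3 ▸ H.mul_mem h1 hi
    exact rot_mem hn H t h4
  intro g hg
  cases g with
  | r t => exact key t hg
  | sr t =>
    have h1 : sr t * sr i ∈ Subgroup.normalizer (H : Set (DihedralGroup n)) :=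
      Subgroup.mul_mem _ hg (Subgroup.le_normalizer hi)
    have h2 : sr t * sr i = r (i - t) := by simp
    rw [h2] at h1
    have h3 := key _ h1
    have h4 : sr t = r (i - t) * sr i := by
      simp only [r_mul_sr]; congr 1; ring
    rw [h4]
    exact H.mul_mem h3 hi

theorem four_case (H : Subgroup (DihedralGroup 4)) (hH : ¬ IsMulCommutative H) :
    Subgroup.normalizer (H : Set (DihedralGroup 4)) = H := by
  have hcard : Nat.card (DihedralGroup 4) = 2 ^ 3 := by rw [DihedralGroup.nat_card]; norm_num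
  have : Fact (Nat.Prime 2) := ⟨Nat.prime_two⟩
  have hdvd : Nat.card H ∣ 2 ^ 3 := hcard ▸ Subgroup.card_subgroup_dvd_card H
  obtain ⟨k, hk3, hk⟩ := (Nat.dvd_prime_pow Nat.prime_two).1 hdvd
  have hk' : k = 0 ∨ k = 1 ∨ k = 2 ∨ k = 3 := by omega
  rcases hk' with rfl | rfl | rfl | rfl
  · exfalso; apply hH
    rw [pow_zero] at hk
    have : Subsingleton ↥H := (Nat.card_eq_one_iff_unique.1 hk).1
    exact ⟨⟨fun a b => Subsingleton.elim _ _⟩⟩
  · exfalso; apply hH
    rw [pow_one] at hk
    have hc : IsCyclic ↥H := isCyclic_of_prime_card hk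
    exact ⟨⟨fun a b => IsCyclic.commGroup.mul_comm a b⟩⟩
  · exfalso; apply hH
    exact IsPGroup.isMulCommutative_of_card_eq_prime_sq hk
  · have : H = ⊤ := by
      apply Subgroup.eq_top_of_card_eq
      rw [hk, hcard]
    rw [this]
    exact Subgroup.normalizer_eq_top ⊤

/-- the "parity" homomorphism for even `n` -/
def par (n : ℕ) (h2 : 2 ∣ n) : DihedralGroup n →* Multiplicative (ZMod 2) where
  toFun g := match g with
    | r i => Multiplicative.ofAdd (ZMod.castHom h2 (ZMod 2) i)
    | sr i => Multiplicative.ofAdd (ZMod.castHom h2 (ZMod 2) i)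
  map_one' := by
    show Multiplicative.ofAdd (ZMod.castHom h2 (ZMod 2) 0) = 1
    rw [map_zero]; rfl
  map_mul' a b := by
    have hneg : ∀ x : ZMod 2, -x = x := by decide
    cases a with
    | r x =>
      cases b with
      | r y => simp only [r_mul_r, map_add, ofAdd_add]
      | sr y =>
        simp only [r_mul_sr, sub_eq_add_neg]
        rw [map_add, map_neg, hneg, ofAdd_add, mul_comm]
    | sr x =>
      cases b with
      | r y => simp only [sr_mul_r, map_add, ofAdd_add]
      | sr y =>
        simp only [sr_mul_sr, sub_eq_add_neg]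
        rw [map_add, map_neg, hneg, ofAdd_add, mul_comm]

theorem even_case {n : ℕ} (h2 : 2 ∣ n) (h6 : 6 ≤ n) :
    ∃ H : Subgroup (DihedralGroup n), ¬ IsMulCommutative H ∧
      Subgroup.normalizer (H : Set (DihedralGroup n)) ≠ H := by
  refine ⟨(par n h2).ker, ?_, ?_⟩
  · intro hc
    have hr : r (2 : ZMod n) ∈ (par n h2).ker := by
      rw [MonoidHom.mem_ker]
      show Multiplicative.ofAdd (ZMod.castHom h2 (ZMod 2) 2) = 1
      rw [map_ofNat]
      rfl
    have hs : sr (0 : ZMod n) ∈ (par n h2).ker := by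
      rw [MonoidHom.mem_ker]
      show Multiplicative.ofAdd (ZMod.castHom h2 (ZMod 2) 0) = 1
      rw [map_zero]; rfl
    have h1 := congrArg Subtype.val (hc.is_comm.comm ⟨r 2, hr⟩ ⟨sr 0, hs⟩)
    simp only [Subgroup.coe_mul, r_mul_sr, sr_mul_r, sr.injEq] at h1
    -- 0 - 2 = 0 + 2 in ZMod n
    have h3 : ((4 : ℕ) : ZMod n) = 0 := by
      have : (4 : ZMod n) = (0 + 2) - (0 - 2) := by ring
      push_cast
      rw [this, h1]; ring
    rw [ZMod.natCast_eq_zero_iff] at h3
    have := Nat.le_of_dvd (by norm_num) h3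
    omega
  · rw [Subgroup.normalizer_eq_top]
    intro htop
    have h1 : r (1 : ZMod n) ∈ (par n h2).ker := by rw [← htop]; trivial
    rw [MonoidHom.mem_ker] at h1
    have h3 : Multiplicative.ofAdd (ZMod.castHom h2 (ZMod 2) 1) = 1 := h1
    rw [map_one] at h3
    have : (1 : ZMod 2) = 0 := h3
    exact absurd this (by decide)

/-- For n > 2, every non-abelian subgroup of the dihedral group of order 2n is self-normalizing if and only if n = 4 or n is odd. -/
theorem result (n : ℕ) (hn : 2 < n) :
    (∀ H : Subgroup (DihedralGroup n), ¬ IsMulCommutative H → Subgroup.normalizer (H : Set (DihedralGroup n)) = H) ↔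
    (n = 4 ∨ Odd n) := by
  constructor
  · intro h
    by_contra hcon
    rw [not_or] at hcon
    obtain ⟨hn4, hodd⟩ := hcon
    have heven : Even n := Nat.not_odd_iff_even.1 hodd
    have h2 : 2 ∣ n := heven.two_dvd
    have h6 : 6 ≤ n := by
      obtain ⟨k, hk⟩ := h2
      omega
    obtain ⟨H, hH, hne⟩ := even_case h2 h6
    exact hne (h H hH)
  · rintro (rfl | hodd)
    · exact four_case
    · intro H hH
      exact odd_case hodd H hH


end Cfsg.Agent.S4074
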