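import Mathlib
import Cfsg.Statements.S4075

set_option autoImplicit false
open Cfsg

namespace Cfsg.Agent.S4075

theorem primePow_of {G : Type*} [Group G] [Finite G] [Group.IsNilpotent G] (hna : ¬ IsMulCommutative G)
    (hprop : ∀ H : Subgroup G, H ≠ ⊤ → IsMulCommutative H) : IsPrimePow (Nat.card G) := by
  by_contra hpp
  apply hna
  have hS : ∀ (p : ℕ) [Fact p.Prime] (P : Sylow p G), IsMulCommutative (P : Subgroup G) := by
    intro p hp P
    apply hprop
    intro htop
    apply hpp
    have hGp : IsPGroup p (⊤ : Subgroup G) := htop ▸ P.2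
    obtain ⟨k, hk⟩ := hGp.exists_card_eq
    rw [Subgroup.card_top] at hk
    have hk0 : k ≠ 0 := by
      intro h0
      rw [h0, pow_zero] at hk
      apply hna
      have : Subsingleton G := (Nat.card_eq_one_iff_unique.mp hk).1
      exact ⟨⟨fun a b => Subsingleton.elim _ _⟩⟩
    exact ⟨p, k, hp.out.prime, Nat.pos_of_ne_zero hk0, hk.symm⟩
  have hnil : Group.IsNilpotent G := inferInstance
  obtain ⟨e⟩ := ((Group.isNilpotent_of_finite_tfae (G := G)).out 0 4).mp hnil
  refine ⟨⟨fun g h => ?_⟩⟩
  have key : ∀ a b : (∀ p : (Nat.card G).primeFactors, ∀ P : Sylow p G, (↑P : Subgroup G)), a * b = b * a := by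
    intro a b
    funext p P
    have : Fact (Nat.Prime (p : ℕ)) := ⟨Nat.prime_of_mem_primeFactors p.2⟩
    have hc := hS p P
    exact hc.is_comm.comm (a p P) (b p P)
  have := key (e.symm g) (e.symm h)
  rw [← map_mul, ← map_mul] at this
  exact e.symm.injective this

/-- Let G be a finite nilpotent group. Every non-abelian subgroup of G is self-normalizing if and only if G is abelian or G is a minimal non-abelian p-group for some prime p (non-abelian of prime-power order with every proper subgroup abelian). -/
theorem result {G : Type*} [Group G] [Finite G]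
    [Group.IsNilpotent G] :
    (∀ H : Subgroup G, ¬ IsMulCommutative H → Subgroup.normalizer (H : Set G) = H) ↔
    (IsMulCommutative G ∨ (IsPrimePow (Nat.card G) ∧ ¬ IsMulCommutative G ∧ ∀ H : Subgroup G, H ≠ ⊤ → IsMulCommutative H)) := by
  constructor
  · intro h
    by_cases hc : IsMulCommutative G
    · left; exact hc
    right
    have hprop : ∀ H : Subgroup G, H ≠ ⊤ → IsMulCommutative H := by
      intro H hH
      by_contra hHc
      have h1 := h H hHc
      have h2 := (normalizerCondition_iff_only_full_group_self_normalizing.mp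
        Group.normalizerCondition_of_isNilpotent) H h1
      exact hH h2
    exact ⟨primePow_of hc hprop, hc, hprop⟩
  · rintro (hc | ⟨_, hna, hprop⟩) H hH
    · exfalso
      apply hH
      exact ⟨⟨fun a b => Subtype.ext (hc.is_comm.comm (a : G) (b : G))⟩⟩
    · have : H = ⊤ := by
        by_contra hne
        exact hH (hprop H hne)
      rw [this]
      exact Subgroup.normalizer_eq_top_iff.mpr inferInstance

end Cfsg.Agent.S4075
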