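import Cfsg.Statements.S4080
import Cfsg.Agent.Helper4.AutCpSqB

set_option autoImplicit false
open Cfsg

namespace Cfsg.Agent.S4080

/-- Let p > 3 be a prime and L the direct product of two cyclic groups of order p². Every automorphism of L of order p fixes every element of order p of L. -/
theorem result {p : ℕ} [Fact p.Prime] (hp : 3 < p)
    (a : MulAut (Multiplicative (ZMod (p ^ 2) × ZMod (p ^ 2)))) (ha : orderOf a = p)
    (x : Multiplicative (ZMod (p ^ 2) × ZMod (p ^ 2))) (hx : orderOf x = p) : a x = x := by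
  have hpF : Fact p.Prime := inferInstance
  have hp0 : NeZero (p ^ 2) := ⟨pow_ne_zero 2 hpF.out.ne_zero⟩
  -- facts about the additive group
  have h1 : ∀ v : ZMod (p ^ 2) × ZMod (p ^ 2), p • (p • v) = 0 := by
    intro v
    rw [← mul_nsmul, ← pow_two]
    exact ZModModule.char_nsmul_eq_zero (p ^ 2) v
  have hz : ∀ z : ZMod (p ^ 2), p • z = 0 → ∃ c : ZMod (p ^ 2), z = p • c := by
    intro z hz
    have hzv : ((z.val : ℕ) : ZMod (p ^ 2)) = z := ZMod.natCast_zmod_val z
    rw [← hzv, nsmul_eq_mul, ← Nat.cast_mul, ZMod.natCast_eq_zero_iff] at hz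
    have hz' : p * p ∣ p * z.val := (dvd_of_eq (pow_two p).symm).trans hz
    have hd : p ∣ z.val := Nat.dvd_of_mul_dvd_mul_left hpF.out.pos hz'
    obtain ⟨c, hc⟩ := hd
    refine ⟨(c : ZMod (p ^ 2)), ?_⟩
    rw [← hzv, hc, nsmul_eq_mul, Nat.cast_mul]
  have h2 : ∀ v : ZMod (p ^ 2) × ZMod (p ^ 2), p • v = 0 → ∃ w, v = p • w := by
    rintro ⟨v1, v2⟩ hv
    have hv1 : p • v1 = 0 := congrArg Prod.fst hv
    have hv2 : p • v2 = 0 := congrArg Prod.snd hv
    obtain ⟨c1, hc1⟩ := hz v1 hv1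
    obtain ⟨c2, hc2⟩ := hz v2 hv2
    exact ⟨(c1, c2), by rw [hc1, hc2]; rfl⟩
  have hcard : Nat.card (ZMod (p ^ 2) × ZMod (p ^ 2)) = p ^ 4 := by
    rw [Nat.card_prod, Nat.card_zmod, ← pow_add]
  have hap : a ^ (orderOf a) = 1 := pow_orderOf_eq_one a
  rw [ha] at hap
  obtain ⟨φ, hφdef, hφp⟩ := Cfsg.Agent.Helper4.exists_addEnd_of_mulAut _ a p hap
  have hxp : p • Multiplicative.toAdd x = 0 := by
    have : x ^ (orderOf x) = 1 := pow_orderOf_eq_one x
    rw [hx] at this
    have h3 := congrArg Multiplicative.toAdd this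
    rw [toAdd_pow] at h3
    exact h3
  have := Cfsg.Agent.Helper4.fixes_omega_of_order_p p hp _ h1 h2 hcard φ hφp _ hxp
  rw [hφdef] at this
  exact this

end Cfsg.Agent.S4080
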