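import Cfsg.Statements.S4086
import Cfsg.Agent.Helper4.Cyclic

set_option autoImplicit false
open Cfsg

namespace Cfsg.Agent.S4086

/-- For a finite group G the following are equivalent: every non-identity element has prime-power order; whenever two elements generate a cyclic subgroup, one of them is a power of the other (the enhanced power graph of G coincides with its power graph). -/
theorem result {G : Type*} [Group G] [Finite G] :
    (∀ g : G, g ≠ 1 → IsPrimePow (orderOf g)) ↔
    (∀ x y : G, IsCyclic ↥(Subgroup.closure ({x, y} : Set G)) → (x ∈ Subgroup.zpowers y ∨ y ∈ Subgroup.zpowers x)) := by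
  constructor
  · intro hpp x y hC
    have hxC : x ∈ Subgroup.closure ({x, y} : Set G) := Subgroup.subset_closure (by simp)
    have hyC : y ∈ Subgroup.closure ({x, y} : Set G) := Subgroup.subset_closure (by simp)
    obtain ⟨z, hz⟩ := hC.exists_generator
    by_cases hz1 : z = 1
    · left
      have hx1 : (⟨x, hxC⟩ : Subgroup.closure ({x, y} : Set G)) = 1 := by
        have := hz ⟨x, hxC⟩
        rw [hz1, Subgroup.zpowers_one_eq_bot, Subgroup.mem_bot] at this
        exact this
      have : x = 1 := congrArg Subtype.val hx1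
      rw [this]; exact Subgroup.one_mem _
    · have hzG : (z : G) ≠ 1 := fun h => hz1 (Subtype.ext h)
      have hpz := hpp (z : G) hzG
      rw [isPrimePow_nat_iff] at hpz
      obtain ⟨p, k, hp, hk, hpk⟩ := hpz
      have hcard : Nat.card (Subgroup.closure ({x, y} : Set G)) = p ^ k := by
        rw [← orderOf_eq_card_of_forall_mem_zpowers hz, ← Subgroup.orderOf_coe, hpk]
      have hox : orderOf x ∣ p ^ k := hcard ▸ Subgroup.orderOf_dvd_natCard _ hxC
      have hoy : orderOf y ∣ p ^ k := hcard ▸ Subgroup.orderOf_dvd_natCard _ hyC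
      obtain ⟨i, _, hi⟩ := (Nat.dvd_prime_pow hp).mp hox
      obtain ⟨j, _, hj⟩ := (Nat.dvd_prime_pow hp).mp hoy
      rcases le_total i j with hij | hij
      · left
        apply Cfsg.Agent.Helper4.mem_zpowers_of_pow_eq_one_of_isCyclic' _ hC y x hyC hxC (p ^ j)
          (pow_pos hp.pos j) hj
        apply orderOf_dvd_iff_pow_eq_one.mp
        rw [hi]; exact pow_dvd_pow p hij
      · right
        apply Cfsg.Agent.Helper4.mem_zpowers_of_pow_eq_one_of_isCyclic' _ hC x y hxC hyC (p ^ i)
          (pow_pos hp.pos i) hi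
        apply orderOf_dvd_iff_pow_eq_one.mp
        rw [hj]; exact pow_dvd_pow p hij
  · intro h g hg
    by_contra hnpp
    have hn0 : orderOf g ≠ 0 := (orderOf_pos g).ne'
    have hn1 : orderOf g ≠ 1 := fun h1 => hg (orderOf_eq_one_iff.mp h1)
    obtain ⟨p, hp, hpdvd⟩ := Nat.exists_prime_and_dvd hn1
    rw [isPrimePow_iff_unique_prime_dvd] at hnpp
    have hq : ∃ q : ℕ, q.Prime ∧ q ∣ orderOf g ∧ q ≠ p := by
      by_contra hcon
      push Not at hcon
      exact hnpp ⟨p, ⟨hp, hpdvd⟩, fun q hq => hcon q hq.1 hq.2⟩
    obtain ⟨q, hq, hqdvd, hqp⟩ := hq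
    set x := g ^ (orderOf g / p) with hx
    set y := g ^ (orderOf g / q) with hy
    have hox : orderOf x = p := orderOf_pow_orderOf_div hn0 hpdvd
    have hoy : orderOf y = q := orderOf_pow_orderOf_div hn0 hqdvd
    have hle : Subgroup.closure ({x, y} : Set G) ≤ Subgroup.zpowers g := by
      rw [Subgroup.closure_le]
      intro w hw
      rcases hw with rfl | rfl
      · exact Subgroup.pow_mem _ (Subgroup.mem_zpowers g) _
      · exact Subgroup.pow_mem _ (Subgroup.mem_zpowers g) _
    have hcyc : IsCyclic (Subgroup.closure ({x, y} : Set G)) :=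
      isCyclic_of_injective (Subgroup.inclusion hle) (Subgroup.inclusion_injective hle)
    rcases h x y hcyc with h1 | h1
    · have := orderOf_dvd_of_mem_zpowers h1
      rw [hox, hoy] at this
      exact hqp ((Nat.prime_dvd_prime_iff_eq hp hq).mp this).symm
    · have := orderOf_dvd_of_mem_zpowers h1
      rw [hox, hoy] at this
      exact hqp ((Nat.prime_dvd_prime_iff_eq hq hp).mp this)

end Cfsg.Agent.S4086
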