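import Cfsg.Statements.S4089
import Cfsg.Agent.Helper4.SubnormalPRad

set_option autoImplicit false
open Cfsg

namespace Cfsg.Agent.S4089

/-- Let G be a finite group, p a prime and H a p-subgroup of G. Then the set of elements g of G such that H is subnormal in the subgroup generated by H and g is the union of the normalizers N_G(R) over the subgroups R of G containing H with R = O_p(N_G(R)); and this set does not change when H is replaced by the intersection of all Sylow p-subgroups of G containing H. -/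
theorem result {G : Type*} [Group G] [Finite G] (p : ℕ) [Fact p.Prime]
    (H : Subgroup G) (hH : IsPGroup p H) :
    {g : G | ((H).subgroupOf (H ⊔ Subgroup.zpowers g)).IsSubnormal} =
      {g : G | ∃ R : Subgroup G, H ≤ R ∧ (Cfsg.pCore p (Subgroup.normalizer (R : Set G))).map (Subgroup.normalizer (R : Set G)).subtype = R ∧ g ∈ Subgroup.normalizer (R : Set G)} ∧
    ∀ g : G, (((H).subgroupOf (H ⊔ Subgroup.zpowers g)).IsSubnormal ↔
      (((sInf {K : Subgroup G | ∃ Q : Sylow p G, H ≤ (Q : Subgroup G) ∧ K = (Q : Subgroup G)})).subgroupOf ((sInf {K : Subgroup G | ∃ Q : Sylow p G, H ≤ (Q : Subgroup G) ∧ K = (Q : Subgroup G)}) ⊔ Subgroup.zpowers g)).IsSubnormal) := by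
  refine ⟨?_, ?_⟩
  · ext g
    simp only [Set.mem_ofPred_eq]
    constructor
    · intro h
      exact Cfsg.Agent.Helper4.SubnormalPRad.radical_of_subnormal p H hH g h
    · rintro ⟨R, hHR, hrad, hg⟩
      exact Cfsg.Agent.Helper4.SubnormalPRad.subnormal_of_radical p H R g hHR hrad hg
  · intro g
    obtain ⟨Hs, hHs⟩ : ∃ Hs : Subgroup G, Hs = sInf {K : Subgroup G |
        ∃ Q : Sylow p G, H ≤ (Q : Subgroup G) ∧ K = (Q : Subgroup G)} := ⟨_, rfl⟩
    rw [← hHs]
    have hHHs : H ≤ Hs := by
      rw [hHs]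
      apply le_sInf
      rintro K ⟨Q, hQ, rfl⟩
      exact hQ
    have hHsQ : ∀ Q : Sylow p G, H ≤ (Q : Subgroup G) → Hs ≤ Q := by
      intro Q hQ
      rw [hHs]
      exact sInf_le ⟨Q, hQ, rfl⟩
    obtain ⟨Q₀, hQ₀⟩ := hH.exists_le_sylow
    have hHsp : IsPGroup p Hs := Q₀.2.to_le (hHsQ Q₀ hQ₀)
    constructor
    · intro h
      obtain ⟨R, hR1, hR2, hR3⟩ :=
        Cfsg.Agent.Helper4.SubnormalPRad.radical_of_subnormal p H hH g h
      have hHsR : Hs ≤ R := by
        intro x hx
        apply Cfsg.Agent.Helper4.SubnormalPRad.mem_of_forall_sylow p R hR2 x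
        intro Q hRQ
        exact hHsQ Q (hR1.trans hRQ) hx
      exact Cfsg.Agent.Helper4.SubnormalPRad.subnormal_of_radical p Hs R g hHsR hR2 hR3
    · intro h
      obtain ⟨R, hR1, hR2, hR3⟩ :=
        Cfsg.Agent.Helper4.SubnormalPRad.radical_of_subnormal p Hs hHsp g h
      exact Cfsg.Agent.Helper4.SubnormalPRad.subnormal_of_radical p H R g (hHHs.trans hR1) hR2 hR3

end Cfsg.Agent.S4089
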