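import Cfsg.Statements.S4092
import Cfsg.Agent.Helper4.NormalizerGrow
import Cfsg.Agent.Helper4.SylowBasic

set_option autoImplicit false
open Cfsg

namespace Cfsg.Agent.S4092

/-- Let G be a finite group, p a prime and P a Sylow p-subgroup of G that is not normal in G. Then G has at least p·#P elements of p-power order (the identity included). -/
theorem result {G : Type*} [Group G] [Finite G] (p : ℕ) [Fact p.Prime]
    (P : Sylow p G) (hP : ¬ (P : Subgroup G).Normal) :
    p * Nat.card (P : Subgroup G) ≤ Nat.card {g : G // ∃ k : ℕ, orderOf g = p ^ k} := by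
  classical
  have hp : p.Prime := Fact.out
  -- Step 0
  have hex : ∃ Q : Sylow p G, Q ≠ P := by
    by_contra hcon
    push Not at hcon
    haveI : Subsingleton (Sylow p G) := ⟨fun a b => (hcon a).trans (hcon b).symm⟩
    exact hP (Sylow.normal_of_subsingleton P)
  obtain ⟨Q₀, hQ₀⟩ := hex
  -- Step 1
  haveI : Nonempty {pq : Sylow p G × Sylow p G // pq.1 ≠ pq.2} := ⟨⟨(Q₀, P), hQ₀⟩⟩
  obtain ⟨⟨⟨P₁, P₂⟩, hne⟩, hmax⟩ := Finite.exists_max
    (fun pq : {pq : Sylow p G × Sylow p G // pq.1 ≠ pq.2} =>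
      Nat.card ((pq.1.1 : Subgroup G) ⊓ (pq.1.2 : Subgroup G) : Subgroup G))
  simp only at hne hmax
  obtain ⟨D, hD⟩ : ∃ D : Subgroup G, D = (P₁ : Subgroup G) ⊓ (P₂ : Subgroup G) := ⟨_, rfl⟩
  have hmax' : ∀ A B : Sylow p G, A ≠ B →
      Nat.card ((A : Subgroup G) ⊓ (B : Subgroup G) : Subgroup G) ≤ Nat.card D := by
    intro A B hAB
    rw [hD]
    exact hmax ⟨(A, B), hAB⟩
  have hcardS : ∀ A : Sylow p G, Nat.card (A : Subgroup G) = Nat.card (P : Subgroup G) := fun A => by
    rw [A.card_eq_multiplicity, P.card_eq_multiplicity]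
  have hDP₁ : D ≤ (P₁ : Subgroup G) := hD ▸ inf_le_left
  have hDP₂ : D ≤ (P₂ : Subgroup G) := hD ▸ inf_le_right
  have hDlt : D < (P₁ : Subgroup G) := by
    refine lt_of_le_of_ne hDP₁ ?_
    intro h
    have h1 : (P₁ : Subgroup G) ≤ (P₂ : Subgroup G) := by rw [← h]; exact hDP₂
    have h2 : (P₁ : Subgroup G) = (P₂ : Subgroup G) :=
      Subgroup.eq_of_le_of_card_ge h1 (by rw [hcardS P₁, hcardS P₂])
    exact hne (Sylow.ext h2)
  obtain ⟨x, hxP, hxN, hxD⟩ := Cfsg.Agent.Helper4.exists_mem_normalizer_not_mem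
    (P₁ : Subgroup G) P₁.isPGroup' D hDlt
  have hxpow : ∀ k : ℕ, 0 < k → k < p → x ^ k ∉ D := by
    intro k hk0 hkp hmem
    obtain ⟨e, he⟩ := Cfsg.Agent.Helper4.orderOf_eq_pow_of_mem_pgroup (P₁ : Subgroup G)
      P₁.isPGroup' x hxP
    have hcop : Nat.Coprime k (orderOf x) := by
      rw [he]
      apply Nat.Coprime.pow_right
      apply Nat.Coprime.symm
      rw [Nat.Prime.coprime_iff_not_dvd hp]
      intro hdvd
      have := Nat.le_of_dvd hk0 hdvd
      omega
    obtain ⟨m, hm⟩ := exists_pow_eq_self_of_coprime hcop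
    exact hxD (hm ▸ D.pow_mem hmem m)
  have hNP : ∀ z : G, z ∈ (P₁ : Subgroup G) → z • P₂ = P₂ → z ∈ D := by
    intro z hz hzn
    rw [Sylow.smul_eq_iff_mem_normalizer] at hzn
    have h3 := P₁.isPGroup'.inf_normalizer_sylow P₂
    rw [hD, ← h3]
    exact ⟨hz, hzn⟩
  have hlt : ∀ i j : ℕ, i < j → j < p → x ^ i • P₂ ≠ x ^ j • P₂ := by
    intro i j hij hjp h
    have h1 : x ^ j = x ^ i * x ^ (j - i) := by rw [← pow_add]; congr 1; omega
    rw [h1, mul_smul] at h
    have h2 : P₂ = x ^ (j - i) • P₂ := smul_left_cancel _ h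
    exact hxpow (j - i) (by omega) (by omega) (hNP _ (Subgroup.pow_mem _ hxP _) h2.symm)
  let F : Option (Fin p) → Sylow p G := fun a =>
    match a with
    | none => P₁
    | some i => x ^ (i : ℕ) • P₂
  have hFD : ∀ a, D ≤ (F a : Subgroup G) := by
    intro a
    cases a with
    | none => exact hDP₁
    | some i =>
      intro y hy
      change y ∈ x ^ (i : ℕ) • P₂
      rw [Cfsg.Agent.Helper4.mem_sylow_smul_iff]
      have hn : (x ^ (i : ℕ))⁻¹ ∈ Subgroup.normalizer (D : Set G) :=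
        Subgroup.inv_mem _ (Subgroup.pow_mem _ hxN _)
      have := (Subgroup.mem_normalizer_iff.mp hn y).mp hy
      rw [inv_inv] at this
      exact hDP₂ this
  have hP₁ne : ∀ j : ℕ, P₁ ≠ x ^ j • P₂ := by
    intro j hab
    have h1 : (x ^ j)⁻¹ • P₁ = P₁ := Sylow.smul_eq_iff_mem_normalizer.mpr
      (Subgroup.le_normalizer (Subgroup.inv_mem _ (Subgroup.pow_mem _ hxP _)))
    have h2 : P₂ = (x ^ j)⁻¹ • P₁ := by
      rw [hab, inv_smul_smul]
    exact hne (by rw [h2, h1])
  have hFinj : Function.Injective F := by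
    intro a b hab
    cases a with
    | none =>
      cases b with
      | none => rfl
      | some j => exact absurd hab (hP₁ne _)
    | some i =>
      cases b with
      | none => exact absurd hab.symm (hP₁ne _)
      | some j =>
        congr 1
        apply Fin.ext
        by_contra hij
        rcases lt_or_gt_of_ne hij with h | h
        · exact hlt _ _ h j.2 hab
        · exact hlt _ _ h i.2 hab.symm
  have hpair : ∀ a b, a ≠ b → (F a : Subgroup G) ⊓ (F b : Subgroup G) = D := fun a b hab =>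
    (Subgroup.eq_of_le_of_card_ge (le_inf (hFD a) (hFD b)) (hmax' (F a) (F b) (hFinj.ne hab))).symm
  -- counting
  let ψ : (D ⊕ (Σ a : Option (Fin p), {g : G // g ∈ (F a : Subgroup G) ∧ g ∉ D})) →
      {g : G // ∃ k : ℕ, orderOf g = p ^ k} := fun z =>
    match z with
    | Sum.inl d => ⟨d, Cfsg.Agent.Helper4.orderOf_eq_pow_of_mem_pgroup (P₁ : Subgroup G)
        P₁.isPGroup' d (hDP₁ d.2)⟩
    | Sum.inr w => ⟨w.2.1, Cfsg.Agent.Helper4.orderOf_eq_pow_of_mem_pgroup (F w.1 : Subgroup G)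
        (F w.1).isPGroup' w.2.1 w.2.2.1⟩
  have hψinj : Function.Injective ψ := by
    intro z z' h
    have hv : (ψ z).1 = (ψ z').1 := congrArg Subtype.val h
    rcases z with d | ⟨a, g, hg⟩ <;> rcases z' with d' | ⟨a', g', hg'⟩
    · congr 1; exact Subtype.ext hv
    · exfalso
      change (d : G) = g' at hv
      exact hg'.2 (hv ▸ d.2)
    · exfalso
      change g = (d' : G) at hv
      exact hg.2 (hv ▸ d'.2)
    · change g = g' at hv
      subst hv
      by_cases haa : a = a'
      · subst haa; rfl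
      · exfalso
        have : g ∈ (F a : Subgroup G) ⊓ (F a' : Subgroup G) := ⟨hg.1, hg'.1⟩
        rw [hpair a a' haa] at this
        exact hg.2 this
  have hle := Nat.card_le_card_of_injective ψ hψinj
  rw [Nat.card_sum, Nat.card_sigma] at hle
  have hterm : ∀ a : Option (Fin p), Nat.card {g : G // g ∈ (F a : Subgroup G) ∧ g ∉ D} =
      Nat.card (P : Subgroup G) - Nat.card D := by
    intro a
    have h1 : Nat.card {g : G // g ∈ (F a : Subgroup G) ∧ g ∉ D} =
        (((F a : Subgroup G) : Set G) \ (D : Set G)).ncard := by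
      rw [← Nat.card_coe_set_eq]
      rfl
    rw [h1, Set.ncard_sdiff (hFD a), ← hcardS (F a)]
    rfl
  simp only [hterm, Finset.sum_const, Finset.card_univ, Fintype.card_option, Fintype.card_fin,
    smul_eq_mul] at hle
  -- arithmetic
  have hDcard : p * Nat.card D ≤ Nat.card (P : Subgroup G) := by
    rw [← hcardS P₁]
    obtain ⟨n, hn⟩ := IsPGroup.iff_card.mp P₁.isPGroup'
    have hdvd : Nat.card D ∣ Nat.card (P₁ : Subgroup G) := Subgroup.card_dvd_of_le hDP₁
    rw [hn] at hdvd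
    obtain ⟨m, hmn, hm⟩ := (Nat.dvd_prime_pow hp).mp hdvd
    have hmn' : m ≠ n := by
      intro h
      have : Nat.card D = Nat.card (P₁ : Subgroup G) := by rw [hm, hn, h]
      exact hDlt.ne (Subgroup.eq_of_le_of_card_ge hDP₁ this.ge)
    rw [hm, hn, ← pow_succ']
    exact Nat.pow_le_pow_right hp.pos (by omega)
  have hDle : Nat.card D ≤ Nat.card (P : Subgroup G) := by
    rw [← hcardS P₁]; exact Subgroup.card_le_of_le hDP₁
  obtain ⟨e, he⟩ := Nat.exists_eq_add_of_le hDle
  rw [he] at hle hDcard ⊢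
  rw [Nat.add_sub_cancel_left] at hle
  nlinarith

end Cfsg.Agent.S4092
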