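import Cfsg.Statements.S4093
import Cfsg.Agent.Helper4.SubgroupClass
import Cfsg.Agent.Helper4.SylowBasic

set_option autoImplicit false
open scoped BigOperators
open Cfsg

namespace Cfsg.Agent.S4093

/-- Let G be a finite group with a normal subgroup N complementing a Sylow p-subgroup P (a normal p-complement). Then the number of elements of G of p-power order equals the sum over x ∈ P of the index of C_N(x) in N. -/
theorem result {G : Type*} [Group G] [Finite G] (p : ℕ) [Fact p.Prime]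
    (P : Sylow p G) (N : Subgroup G) [N.Normal] (hNP : N.IsComplement' (P : Subgroup G)) :
    Nat.card {g : G // ∃ k : ℕ, orderOf g = p ^ k} =
      ∑ᶠ x : (P : Subgroup G), Nat.card N / Nat.card ↥(N ⊓ Subgroup.centralizer ({(x : G)} : Set G)) := by
  classical
  letI : Fintype (P : Subgroup G) := Fintype.ofFinite _
  have hdisj : ∀ z : G, z ∈ N → z ∈ (P : Subgroup G) → z = 1 := by
    intro z hzN hzP
    have := hNP.disjoint
    rw [Subgroup.disjoint_def] at this
    exact this hzN hzP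
  -- the equivalence
  let F : (Σ x : (P : Subgroup G), {y : G // ∃ n ∈ N, y = n * (x : G) * n⁻¹}) →
      {g : G // ∃ k : ℕ, orderOf g = p ^ k} := fun z => ⟨z.2.1, by
    obtain ⟨n, hn, hy⟩ := z.2.2
    obtain ⟨k, hk⟩ := Cfsg.Agent.Helper4.orderOf_eq_pow_of_mem_pgroup (P : Subgroup G) P.isPGroup'
      (z.1 : G) z.1.2
    refine ⟨k, ?_⟩
    rw [hy, ← hk]
    exact (MulAut.conj n).orderOf_eq (z.1 : G)⟩
  have hFinj : Function.Injective F := by
    rintro ⟨x, y, n, hn, hy⟩ ⟨x', y', n', hn', hy'⟩ h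
    have hyy : y = y' := congrArg Subtype.val h
    subst hyy
    have hx : (x : G) = (x' : G) := by
      have h1 : (x : G)⁻¹ * (x' : G) ∈ N := by
        have e : (x' : G) = (n'⁻¹ * n) * (x : G) * (n'⁻¹ * n)⁻¹ := by
          have : n * (x : G) * n⁻¹ = n' * (x' : G) * n'⁻¹ := hy.symm.trans hy'
          calc (x' : G) = n'⁻¹ * (n' * (x' : G) * n'⁻¹) * n' := by group
            _ = n'⁻¹ * (n * (x : G) * n⁻¹) * n' := by rw [this]
            _ = _ := by group
        rw [e]
        have hm : n'⁻¹ * n ∈ N := N.mul_mem (N.inv_mem hn') hn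
        have h2 : (x : G)⁻¹ * (n'⁻¹ * n) * ((x : G)⁻¹)⁻¹ ∈ N :=
          (inferInstance : N.Normal).conj_mem _ hm _
        have h3 : (x : G)⁻¹ * (n'⁻¹ * n) * ((x : G)⁻¹)⁻¹ * (n'⁻¹ * n)⁻¹ ∈ N :=
          N.mul_mem h2 (N.inv_mem hm)
        convert h3 using 1
        group
      have h2 : (x : G)⁻¹ * (x' : G) ∈ (P : Subgroup G) :=
        (P : Subgroup G).mul_mem ((P : Subgroup G).inv_mem x.2) x'.2
      have := hdisj _ h1 h2
      exact inv_mul_eq_one.mp this
    have hx' : x = x' := Subtype.ext hx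
    subst hx'
    rfl
  have hFsurj : Function.Surjective F := by
    rintro ⟨g, hg⟩
    obtain ⟨Q, hQ⟩ := Cfsg.Agent.Helper4.exists_sylow_mem_of_orderOf_eq_pow g hg
    obtain ⟨h, hh⟩ := Cfsg.Agent.Helper4.sylow_exists_smul_eq P Q
    rw [← hh, Cfsg.Agent.Helper4.mem_sylow_smul_iff] at hQ
    obtain ⟨⟨n, y⟩, hny, -⟩ := (Subgroup.isComplement'_def.mp hNP).existsUnique h
    simp only at hny
    have hxP : (n : G)⁻¹ * g * (n : G) ∈ (P : Subgroup G) := by
      have h1 : (y : G) * (h⁻¹ * g * h) * (y : G)⁻¹ ∈ (P : Subgroup G) :=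
        (P : Subgroup G).mul_mem ((P : Subgroup G).mul_mem y.2 hQ) ((P : Subgroup G).inv_mem y.2)
      convert h1 using 1
      rw [← hny]; group
    refine ⟨⟨⟨(n : G)⁻¹ * g * (n : G), hxP⟩, ⟨g, n, n.2, ?_⟩⟩, rfl⟩
    simp only
    group
  have e := Nat.card_congr (Equiv.ofBijective F ⟨hFinj, hFsurj⟩)
  rw [← e, Nat.card_sigma, finsum_eq_sum_of_fintype]
  apply Finset.sum_congr rfl
  intro x _
  have h := Cfsg.Agent.Helper4.card_subgroup_class_mul N (x : G)
  have hpos : 0 < Nat.card ↥(N ⊓ Subgroup.centralizer ({(x : G)} : Set G)) := Nat.card_pos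
  exact (Nat.div_eq_of_eq_mul_left hpos h.symm).symm

end Cfsg.Agent.S4093
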