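import Cfsg.Statements.S4107
import Cfsg.Agent.Helper4.EqualCosetOrder

set_option autoImplicit false
open Cfsg

namespace Cfsg.Agent.S4107

/-- Let G be a finite group and N a proper non-trivial normal subgroup such that for every x outside N all elements of the coset xN have the same order as x. Then N ≤ F(G) or F(G) ≤ N, where F(G) is the Fitting subgroup; and if N is properly contained in F(G) then F(G) has prime-power order. -/
theorem result {G : Type*} [Group G] [Finite G] (N : Subgroup G) [N.Normal] (hN1 : N ≠ ⊥) (hN2 : N ≠ ⊤)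
    (heq : ∀ x : G, x ∉ N → ∀ n ∈ N, orderOf (x * n) = orderOf x) :
    (N ≤ Cfsg.fittingSubgroup G ∨ Cfsg.fittingSubgroup G ≤ N) ∧
    (N < Cfsg.fittingSubgroup G → IsPrimePow (Nat.card (Cfsg.fittingSubgroup G))) := by
  classical
  have key : ∀ y ∈ Cfsg.fittingSubgroup G, y ∉ N → ∃ p : ℕ, p.Prime ∧ IsPGroup p N :=
    Cfsg.Agent.Helper4.exists_prime_isPGroup_of_fitting_not_le N heq
  constructor
  · by_cases hFN : Cfsg.fittingSubgroup G ≤ N
    · right; exact hFN
    · left
      obtain ⟨y, hyF, hyN⟩ := SetLike.not_le_iff_exists.1 hFN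
      obtain ⟨p, hp, hNp⟩ := key y hyF hyN
      have : Fact p.Prime := ⟨hp⟩
      exact (Cfsg.Agent.Helper1.le_pCore inferInstance hNp).trans
        (Cfsg.Agent.Helper4.pCore_le_fittingSubgroup p)
  · intro hlt
    obtain ⟨y, hyF, hyN⟩ := SetLike.exists_of_lt hlt
    obtain ⟨p, hp, hNp⟩ := key y hyF hyN
    have hpf : Fact p.Prime := ⟨hp⟩
    have hcore : ∀ r : ℕ, r.Prime → r ≠ p → ∀ x ∈ Cfsg.pCore r G, x = 1 := by
      intro r hr hrp x hxr
      have hrf : Fact r.Prime := ⟨hr⟩
      obtain ⟨b, hb⟩ := Cfsg.Agent.Helper1.pCore_isPGroup (G := G) r ⟨x, hxr⟩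
      have hxb : x ^ r ^ b = 1 := by
        have := congrArg Subtype.val hb
        simpa using this
      by_cases hxN : x ∈ N
      · obtain ⟨a, ha⟩ := hNp ⟨x, hxN⟩
        have hxa : x ^ p ^ a = 1 := by
          have := congrArg Subtype.val ha
          simpa using this
        exact Cfsg.Agent.Helper4.eq_one_of_pow_prime_pow_eq_one hp hr (Ne.symm hrp) hxa hxb
      · exfalso
        have hNr := Cfsg.Agent.Helper4.isPGroup_of_pCore_not_le N heq r x hxr hxN
        apply hN1
        rw [eq_bot_iff]
        intro n hn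
        obtain ⟨a, ha⟩ := hNp ⟨n, hn⟩
        obtain ⟨c, hc⟩ := hNr ⟨n, hn⟩
        have hna : n ^ p ^ a = 1 := by
          have := congrArg Subtype.val ha
          simpa using this
        have hnc : n ^ r ^ c = 1 := by
          have := congrArg Subtype.val hc
          simpa using this
        rw [Subgroup.mem_bot]
        exact Cfsg.Agent.Helper4.eq_one_of_pow_prime_pow_eq_one hp hr (Ne.symm hrp) hna hnc
    have hFp : IsPGroup p (Cfsg.fittingSubgroup G) := by
      intro z
      have hz0 : orderOf (z : G) ≠ 0 := (orderOf_pos (z : G)).ne'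
      have huniq : ∀ {d : ℕ}, d.Prime → d ∣ orderOf (z : G) → d = p := by
        intro d hd hdz
        by_contra hdp
        obtain ⟨m, hdm, hm⟩ := Cfsg.Agent.Helper4.fitting_exists_pow_mem_pCore z.2 d hd
        have h1 : (z : G) ^ m = 1 := hcore d hd hdp _ hm
        exact hdm (hdz.trans (orderOf_dvd_of_pow_eq_one h1))
      have h2 := Nat.eq_prime_pow_of_unique_prime_dvd hz0 huniq
      refine ⟨(orderOf (z : G)).primeFactorsList.length, ?_⟩
      apply Subtype.ext
      rw [Subgroup.coe_pow, Subgroup.coe_one, ← h2, pow_orderOf_eq_one]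
    obtain ⟨k, hk⟩ := (IsPGroup.iff_card).1 hFp
    have hk0 : k ≠ 0 := by
      intro hk0
      rw [hk0, pow_zero] at hk
      have hbot : Cfsg.fittingSubgroup G = ⊥ := Subgroup.card_eq_one.1 hk
      apply hN1
      rw [eq_bot_iff, ← hbot]
      exact hlt.le
    rw [hk]
    exact hp.isPrimePow.pow hk0

end Cfsg.Agent.S4107
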