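import Cfsg.Statements.S4108
import Cfsg.Agent.Helper4.FrobeniusInternal

set_option autoImplicit false
open Cfsg

namespace Cfsg.Agent.S4108

/-- Let G be a finite group, p a prime and N a proper non-trivial normal p-subgroup such that for every x outside N all elements of the coset xN have the same order as x. Then every non-trivial subgroup H of G of order prime to p acts fixed-point-freely on N: NH is a Frobenius group with complement H and kernel N. -/
theorem result {G : Type*} [Group G] [Finite G] (N : Subgroup G) [N.Normal] (hN1 : N ≠ ⊥) (hN2 : N ≠ ⊤)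
    (heq : ∀ x : G, x ∉ N → ∀ n ∈ N, orderOf (x * n) = orderOf x)
    (p : ℕ) [Fact p.Prime] (hNp : IsPGroup p N) :
    ∀ H : Subgroup G, H ≠ ⊥ → (Nat.card H).Coprime p →
      Cfsg.IsFrobeniusComplement (H.subgroupOf (N ⊔ H)) ∧ Cfsg.frobeniusKernel (H.subgroupOf (N ⊔ H)) = (N.subgroupOf (N ⊔ H) : Set ↥(N ⊔ H)) := by
  intro H hH1 hHp
  have hNle : N ≤ N ⊔ H := le_sup_left
  have hHle : H ≤ N ⊔ H := le_sup_right
  have hcop : (Nat.card N).Coprime (Nat.card H) := by
    obtain ⟨k, hk⟩ := IsPGroup.iff_card.mp hNp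
    rw [hk]
    exact Nat.Coprime.pow_left k hHp.symm
  have hNH : N ⊓ H = ⊥ := (Subgroup.disjoint_of_coprime_natCard hcop).eq_bot
  have hmeet : ∀ x : G, x ∈ N → x ∈ H → x = 1 := by
    intro x hxN hxH
    have : x ∈ N ⊓ H := ⟨hxN, hxH⟩
    rw [hNH] at this
    exact this
  have h1 : N.subgroupOf (N ⊔ H) ⊓ H.subgroupOf (N ⊔ H) = ⊥ := by
    rw [eq_bot_iff]
    intro x hx
    obtain ⟨hx1, hx2⟩ := Subgroup.mem_inf.mp hx
    rw [Subgroup.mem_subgroupOf] at hx1 hx2
    rw [Subgroup.mem_bot]
    exact Subtype.ext (hmeet _ hx1 hx2)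
  have h2 : N.subgroupOf (N ⊔ H) ⊔ H.subgroupOf (N ⊔ H) = ⊤ := by
    rw [← Subgroup.subgroupOf_sup hNle hHle]
    exact Subgroup.subgroupOf_self _
  have h3 : N.subgroupOf (N ⊔ H) ≠ ⊥ := by
    intro h
    rw [Subgroup.subgroupOf_eq_bot] at h
    apply hN1
    rw [disjoint_iff, inf_of_le_left hNle] at h
    exact h
  have h4 : H.subgroupOf (N ⊔ H) ≠ ⊥ := by
    intro h
    rw [Subgroup.subgroupOf_eq_bot] at h
    apply hH1
    rw [disjoint_iff, inf_of_le_left hHle] at h
    exact h
  have h5 : ∀ h ∈ H.subgroupOf (N ⊔ H), h ≠ 1 → ∀ n ∈ N.subgroupOf (N ⊔ H),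
      h * n = n * h → n = 1 := by
    intro h hh hh1 n hn hcomm
    rw [Subgroup.mem_subgroupOf] at hh hn
    have hh1' : (h : G) ≠ 1 := fun h0 => hh1 (Subtype.ext h0)
    have hhN : (h : G) ∉ N := fun hN => hh1' (hmeet _ hN hh)
    have hord := heq (h : G) hhN (n : G) hn
    have hcomm' : Commute (h : G) (n : G) := by
      have := congrArg Subtype.val hcomm
      exact this
    have hcop' : (orderOf (h : G)).Coprime (orderOf (n : G)) := by
      have e1 : orderOf (h : G) ∣ Nat.card H := by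
        have := orderOf_dvd_natCard (⟨(h : G), hh⟩ : H)
        rwa [Subgroup.orderOf_mk] at this
      have e2 : orderOf (n : G) ∣ Nat.card N := by
        have := orderOf_dvd_natCard (⟨(n : G), hn⟩ : N)
        rwa [Subgroup.orderOf_mk] at this
      exact Nat.Coprime.coprime_dvd_left e1 (Nat.Coprime.coprime_dvd_right e2 hcop.symm)
    have hmul := hcomm'.orderOf_mul_eq_mul_orderOf_of_coprime hcop'
    rw [hord] at hmul
    have hpos : 0 < orderOf (h : G) := orderOf_pos _
    have hn1 : orderOf (n : G) = 1 := by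
      have : orderOf (h : G) * 1 = orderOf (h : G) * orderOf (n : G) := by rw [mul_one]; exact hmul
      exact (Nat.eq_of_mul_eq_mul_left hpos this).symm
    apply Subtype.ext
    exact orderOf_eq_one_iff.mp hn1
  exact Cfsg.Agent.Helper4.isFrobeniusComplement_of_fpf (N.subgroupOf (N ⊔ H))
    (H.subgroupOf (N ⊔ H)) h1 h2 h3 h4 h5

end Cfsg.Agent.S4108
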