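import Cfsg.Statements.S4112
import Cfsg.Agent.Helper4.MinSupplement
import Cfsg.Agent.Helper4.PElementFiber
import Cfsg.Agent.Helper4.SylowCoprime

set_option autoImplicit false
open Cfsg

namespace Cfsg.Agent.S4112

/-- Let G be a finite group and M ≤ N non-trivial proper normal subgroups such that for every g outside N the conjugacy class of g is a union of cosets of M (equivalently gm is conjugate to g for every m ∈ M). Then (1) and (2) below are equivalent, and they imply (3): (1) every g outside N acts fixed-point-freely on M, that is C_G(x) ≤ N for every x ∈ M, x ≠ 1; (2) the index of N in G is coprime to the order of M; (3) there is a subgroup H of G with HN = G and H ∩ M = 1. -/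
theorem result {G : Type*} [Group G] [Finite G] (N M : Subgroup G) [N.Normal] [M.Normal] (hMN : M ≤ N) (hM1 : M ≠ ⊥) (hN2 : N ≠ ⊤)
    (hcam : ∀ g : G, g ∉ N → ∀ m ∈ M, ∃ x : G, x * g * x⁻¹ = g * m) :
    ((∀ x ∈ M, x ≠ 1 → Subgroup.centralizer ({x} : Set G) ≤ N) ↔ N.index.Coprime (Nat.card M)) ∧
    ((∀ x ∈ M, x ≠ 1 → Subgroup.centralizer ({x} : Set G) ≤ N) → ∃ H : Subgroup G, H ⊔ N = ⊤ ∧ H ⊓ M = ⊥) := by
  classical
  have hfwd : (∀ x ∈ M, x ≠ 1 → Subgroup.centralizer ({x} : Set G) ≤ N) →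
      N.index.Coprime (Nat.card M) := by
    intro hC
    by_contra hcop
    obtain ⟨p, hp, hpN, hpM⟩ := Nat.Prime.not_coprime_iff_dvd.mp hcop
    haveI : Fact p.Prime := ⟨hp⟩
    obtain ⟨P⟩ : Nonempty (Sylow p G) := inferInstance
    obtain ⟨Q, hQ⟩ : ∃ Q : Subgroup G, Q = (P : Subgroup G) ⊓ M := ⟨_, rfl⟩
    have hQcard : Nat.card Q = p ^ (Nat.card M).factorization p := by
      rw [hQ]; exact Cfsg.Agent.Helper4.card_sylow_inf_normal' p P M
    have hpQ : p ∣ Nat.card Q := by
      rw [hQcard]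
      apply dvd_pow_self
      exact (Nat.Prime.factorization_pos_of_dvd hp Nat.card_pos.ne' hpM).ne'
    have hPnorm : (P : Subgroup G) ≤ Subgroup.normalizer (Q : Set G) := by
      intro g hg
      rw [Subgroup.mem_normalizer_iff]
      intro y
      rw [hQ]
      constructor
      · rintro ⟨hyP, hyM⟩
        exact ⟨(P : Subgroup G).mul_mem ((P : Subgroup G).mul_mem hg hyP) ((P : Subgroup G).inv_mem hg),
          (inferInstance : M.Normal).conj_mem _ hyM g⟩
      · rintro ⟨hyP, hyM⟩
        refine ⟨?_, ?_⟩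
        · have h7 := (P : Subgroup G).mul_mem ((P : Subgroup G).mul_mem ((P : Subgroup G).inv_mem hg) hyP) hg
          have h8 : g⁻¹ * (g * y * g⁻¹) * g = y := by group
          rw [h8] at h7
          exact h7
        · have := (inferInstance : M.Normal).conj_mem _ hyM g⁻¹
          simpa [mul_assoc] using this
    have hmod := Cfsg.Agent.Helper4.card_modEq_card_inf_centralizer (P : Subgroup G) Q P.isPGroup' hPnorm
    have hp2 : p ∣ Nat.card ↥(Q ⊓ Subgroup.centralizer ((P : Subgroup G) : Set G)) := by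
      rw [← Nat.modEq_zero_iff_dvd] at hpQ ⊢
      exact hmod.symm.trans hpQ
    have hne : (Q ⊓ Subgroup.centralizer ((P : Subgroup G) : Set G)) ≠ ⊥ := by
      intro h
      rw [h, Subgroup.card_bot] at hp2
      exact hp.one_lt.ne' (Nat.dvd_one.mp hp2)
    rw [Ne, Subgroup.eq_bot_iff_forall] at hne
    push Not at hne
    obtain ⟨x, hx, hx1⟩ := hne
    have hxM : x ∈ M := by
      have := hx.1
      rw [hQ] at this
      exact this.2
    have hPle : (P : Subgroup G) ≤ N := by
      intro y hy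
      apply hC x hxM hx1
      rw [Subgroup.mem_centralizer_singleton_iff]
      exact (Subgroup.mem_centralizer_iff.mp hx.2 y hy)
    have := Subgroup.index_dvd_of_le hPle
    exact P.not_dvd_index (hpN.trans this)
  have hbwd : N.index.Coprime (Nat.card M) →
      ∀ x ∈ M, x ≠ 1 → Subgroup.centralizer ({x} : Set G) ≤ N := by
    intro hcop x hxM hx1 c hc
    by_contra hcN
    rw [Subgroup.mem_centralizer_singleton_iff] at hc
    have hcx : Commute c x := hc
    have hox : orderOf x ≠ 1 := fun h => hx1 (orderOf_eq_one_iff.mp h)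
    obtain ⟨p, hp, hpx⟩ := Nat.exists_prime_and_dvd hox
    obtain ⟨x', hx'⟩ : ∃ x' : G, x' = x ^ (orderOf x / p) := ⟨_, rfl⟩
    have hx'o : orderOf x' = p := by
      rw [hx']; exact orderOf_pow_orderOf_div (orderOf_pos x).ne' hpx
    have hx'M : x' ∈ M := by rw [hx']; exact M.pow_mem hxM _
    have hpM : p ∣ Nat.card M := by
      rw [← hx'o]; exact Subgroup.orderOf_dvd_natCard M hx'M
    have hpN : ¬ p ∣ N.index := by
      intro h
      have := Nat.dvd_gcd h hpM
      rw [hcop] at this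
      exact hp.one_lt.ne' (Nat.dvd_one.mp this)
    have hcx' : Commute c x' := by rw [hx']; exact hcx.pow_right _
    have hn : orderOf c ≠ 0 := (orderOf_pos c).ne'
    obtain ⟨a, ha⟩ : ∃ a : ℕ, a = (orderOf c).factorization p := ⟨_, rfl⟩
    obtain ⟨r, hr⟩ : ∃ r : ℕ, r = orderOf c / p ^ a := ⟨_, rfl⟩
    have hnr : p ^ a * r = orderOf c := by
      rw [hr, ha]; exact Nat.ordProj_mul_ordCompl_eq_self (orderOf c) p
    have hpr : ¬ p ∣ r := by
      rw [hr, ha]; exact Nat.not_dvd_ordCompl hp hn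
    have hc₁N : c ^ (p ^ a) ∉ N := by
      intro h
      apply hcN
      rw [← QuotientGroup.eq_one_iff]
      have h1 : (QuotientGroup.mk c : G ⧸ N) ^ (p ^ a) = 1 := by
        rw [← QuotientGroup.mk_pow]; exact (QuotientGroup.eq_one_iff _).mpr h
      have h2 : (QuotientGroup.mk c : G ⧸ N) ^ N.index = 1 := by
        rw [Subgroup.index_eq_card]; exact pow_card_eq_one'
      have hcop' : Nat.Coprime (p ^ a) N.index :=
        Nat.Coprime.pow_left a ((Nat.Prime.coprime_iff_not_dvd hp).mpr hpN)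
      have := (pow_gcd_eq_one (a := (QuotientGroup.mk c : G ⧸ N))).mpr ⟨h1, h2⟩
      rwa [hcop'.gcd_eq_one, pow_one] at this
    have hc₁r : (c ^ (p ^ a)) ^ r = 1 := by rw [← pow_mul, hnr, pow_orderOf_eq_one]
    have hc₁x' : Commute (c ^ (p ^ a)) x' := hcx'.pow_left _
    obtain ⟨y, hy⟩ := hcam (c ^ (p ^ a)) hc₁N x' hx'M
    have h1 : (c ^ (p ^ a) * x') ^ r = 1 := by
      rw [← hy, conj_pow, hc₁r, mul_one, mul_inv_cancel]
    rw [hc₁x'.mul_pow, hc₁r, one_mul] at h1
    have : p ∣ r := by rw [← hx'o]; exact orderOf_dvd_of_pow_eq_one h1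
    exact hpr this
  refine ⟨⟨hfwd, hbwd⟩, fun hC => ?_⟩
  have hcop := hfwd hC
  obtain ⟨K, hK, hKmin⟩ := Cfsg.Agent.Helper4.exists_min_supplement N
  refine ⟨K, hK, ?_⟩
  have hidx : (N.subgroupOf K).index = N.index := by
    change N.relIndex K = N.index
    rw [← Subgroup.relIndex_sup_right, hK, Subgroup.relIndex_top_right]
  by_contra hne
  have hcard : Nat.card ↥(K ⊓ M) ≠ 1 := fun h => hne (Subgroup.card_eq_one.mp h)
  obtain ⟨p, hp, hpd⟩ := Nat.exists_prime_and_dvd hcard
  have hpK : p ∣ Nat.card K := hpd.trans (Subgroup.card_dvd_of_le inf_le_left)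
  have hpM : p ∣ Nat.card M := hpd.trans (Subgroup.card_dvd_of_le inf_le_right)
  have hpN : p ∣ N.index := by
    rw [← hidx]
    exact Cfsg.Agent.Helper4.prime_dvd_index_of_no_proper_supplement (N.subgroupOf K) hKmin p hp hpK
  have := Nat.dvd_gcd hpN hpM
  rw [hcop] at this
  exact hp.one_lt.ne' (Nat.dvd_one.mp this)

end Cfsg.Agent.S4112
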