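import Cfsg.Statements.S4113
import Cfsg.Agent.Helper4.FrobTriple

set_option autoImplicit false
open Cfsg

namespace Cfsg.Agent.S4113

/-- Let G be a finite group, M ≤ N non-trivial proper normal subgroups, and H a subgroup with HM = G and H ∩ M = 1. Then every element of G outside N acts fixed-point-freely on M (C_G(x) ≤ N for every x ∈ M, x ≠ 1) if and only if H ∩ gHg⁻¹ ≤ H ∩ N for every g outside H, with H proper and non-trivial and H ∩ N proper in H. -/
theorem result {G : Type*} [Group G] [Finite G] (N M : Subgroup G) [N.Normal] [M.Normal] (hMN : M ≤ N) (hM1 : M ≠ ⊥) (hN2 : N ≠ ⊤)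
    (H : Subgroup G) (hHM : H ⊔ M = ⊤) (hHM' : H ⊓ M = ⊥) :
    (∀ x ∈ M, x ≠ 1 → Subgroup.centralizer ({x} : Set G) ≤ N) ↔
      (H ≠ ⊥ ∧ H ≠ ⊤ ∧ H ⊓ N < H ∧ ∀ g : G, g ∉ H → H ⊓ H.map (MulAut.conj g).toMonoidHom ≤ N) := by
  have hdecomp : ∀ g : G, ∃ m ∈ M, ∃ h ∈ H, g = m * h := by
    intro g
    have hg : g ∈ ((M ⊔ H : Subgroup G) : Set G) := by
      rw [sup_comm, hHM]; trivial
    rw [Subgroup.normal_mul] at hg
    obtain ⟨m, hm, h, hh, rfl⟩ := Set.mem_mul.mp hg
    exact ⟨m, hm, h, hh, rfl⟩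
  have hdecomp' : ∀ g : G, ∃ h ∈ H, ∃ m ∈ M, g = h * m := by
    intro g
    have hg : g ∈ ((H ⊔ M : Subgroup G) : Set G) := by
      rw [hHM]; trivial
    rw [Subgroup.mul_normal] at hg
    obtain ⟨h, hh, m, hm, rfl⟩ := Set.mem_mul.mp hg
    exact ⟨h, hh, m, hm, rfl⟩
  have hHMmem : ∀ z : G, z ∈ H → z ∈ M → z = 1 := by
    intro z h1 h2
    have : z ∈ H ⊓ M := ⟨h1, h2⟩
    rw [hHM'] at this
    exact this
  constructor
  · intro hC
    refine ⟨?_, ?_, ?_, ?_⟩
    · intro hbot
      rw [hbot, bot_sup_eq] at hHM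
      exact hN2 (eq_top_iff.mpr (hHM ▸ hMN))
    · intro htop
      rw [htop, top_inf_eq] at hHM'
      exact hM1 hHM'
    · refine lt_of_le_of_ne inf_le_left ?_
      intro heq
      have hHN : H ≤ N := by rw [← heq]; exact inf_le_right
      exact hN2 (eq_top_iff.mpr (hHM ▸ sup_le hHN hMN))
    · intro g hg x hx
      obtain ⟨hx1, hx2⟩ := Subgroup.mem_inf.mp hx
      obtain ⟨y, hy, hyx⟩ := Subgroup.mem_map.mp hx2
      obtain ⟨m, hm, h, hh, rfl⟩ := hdecomp g
      have hm1 : m ≠ 1 := by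
        intro h1
        apply hg
        rw [h1, one_mul]; exact hh
      have hyx' : m * (h * y * h⁻¹) * m⁻¹ = x := by
        rw [← hyx]
        simp [MulAut.conj_apply, mul_assoc]
      set y' := h * y * h⁻¹ with hy'
      have hy'H : y' ∈ H := H.mul_mem (H.mul_mem hh hy) (H.inv_mem hh)
      have hxy : x * y'⁻¹ = 1 := by
        apply hHMmem
        · exact H.mul_mem hx1 (H.inv_mem hy'H)
        · rw [← hyx']
          have h1 : y' * m⁻¹ * y'⁻¹ ∈ M :=
            (inferInstance : M.Normal).conj_mem _ (M.inv_mem hm) y'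
          have h2 := M.mul_mem hm h1
          have h3 : m * y' * m⁻¹ * y'⁻¹ = m * (y' * m⁻¹ * y'⁻¹) := by group
          rw [h3]; exact h2
      have hxy' : x = y' := by
        rw [mul_inv_eq_one] at hxy; exact hxy
      have hcomm : x * m = m * x := by
        rw [← hxy'] at hyx'
        calc x * m = (m * x * m⁻¹) * m := by rw [hyx']
          _ = m * x := by group
      apply hC m hm hm1
      rw [Subgroup.mem_centralizer_singleton_iff]
      exact hcomm
  · rintro ⟨_, _, _, hTI⟩ x hxM hx1 c hc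
    rw [Subgroup.mem_centralizer_singleton_iff] at hc
    obtain ⟨h, hh, m', hm', rfl⟩ := hdecomp' c
    have hhN : h ∈ N := by
      have hex : ∃ m ∈ M, m ≠ 1 ∧ h * m = m * h := by
        by_contra hcon
        push Not at hcon
        have hfpf : ∀ m ∈ M, h * m = m * h → m = 1 := by
          intro m hm hcm
          by_contra hne
          exact hcon m hm hne hcm
        obtain ⟨n, hn, hnh⟩ :=
          Cfsg.Agent.Helper4.exists_conj_eq_mul_of_fixedPointFree M h hfpf m' hm'
        rw [← hnh] at hc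
        have hx' : n⁻¹ * x * n ∈ M := by
          have := (inferInstance : M.Normal).conj_mem x hxM n⁻¹
          simpa using this
        have hcomm : h * (n⁻¹ * x * n) = (n⁻¹ * x * n) * h := by
          calc h * (n⁻¹ * x * n) = n⁻¹ * (n * h * n⁻¹ * x) * n := by group
            _ = n⁻¹ * (x * (n * h * n⁻¹)) * n := by rw [hc]
            _ = (n⁻¹ * x * n) * h := by group
        have h1 := hfpf _ hx' hcomm
        apply hx1
        have : x = n * (n⁻¹ * x * n) * n⁻¹ := by group
        rw [this, h1]; group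
      obtain ⟨m, hm, hm1, hcm⟩ := hex
      have hmH : m ∉ H := fun hmH => hm1 (hHMmem m hmH hm)
      apply hTI m hmH
      refine Subgroup.mem_inf.mpr ⟨hh, Subgroup.mem_map.mpr ⟨h, hh, ?_⟩⟩
      simp only [MulEquiv.coe_toMonoidHom, MulAut.conj_apply]
      rw [← hcm, mul_inv_cancel_right]
    exact N.mul_mem hhN (hMN hm')

end Cfsg.Agent.S4113
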