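import Cfsg.Statements.S4116
import Cfsg.Agent.Helper4.UniqueFixedPoint

set_option autoImplicit false
open Cfsg

namespace Cfsg.Agent.S4116


/-- fixed points of left multiplication on cosets -/
theorem smul_mk_eq_iff {G : Type*} [Group G] (N : Subgroup G) (k g : G) :
    k • (g : G ⧸ N) = (g : G ⧸ N) ↔ g⁻¹ * k * g ∈ N := by
  rw [MulAction.Quotient.smul_mk, QuotientGroup.eq]
  have : (k • g)⁻¹ * g = (g⁻¹ * k * g)⁻¹ := by
    simp [smul_eq_mul, mul_assoc]
  rw [this, inv_mem_iff]

/-- Lemma A: an element of `N_G(H)` of order coprime to `[G:H]` lies in `H`. -/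
theorem mem_of_mem_normalizer_of_coprime {G : Type*} [Group G] [Finite G] (H : Subgroup G)
    (x : G) (hx : x ∈ Subgroup.normalizer (H : Set G)) (hco : (orderOf x).Coprime H.index) :
    x ∈ H := by
  set N := Subgroup.normalizer (H : Set G) with hN
  have hHN : H ≤ N := Subgroup.le_normalizer
  have hnorm : (H.subgroupOf N).Normal := Subgroup.normal_in_normalizer
  have h1 : (⟨x, hx⟩ : N) ^ (H.subgroupOf N).index ∈ H.subgroupOf N :=
    Subgroup.pow_index_mem _ _
  have h2 : (H.subgroupOf N).index ∣ H.index := Subgroup.relIndex_dvd_index_of_le hHN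
  rw [Subgroup.mem_subgroupOf] at h1
  have h3 : x ^ (H.subgroupOf N).index ∈ H := by simpa using h1
  have hco' : ((H.subgroupOf N).index).Coprime (orderOf x) :=
    (Nat.Coprime.coprime_dvd_right h2 hco).symm
  obtain ⟨m, hm⟩ := exists_pow_eq_self_of_coprime hco'
  rw [← hm]
  exact H.pow_mem h3 m

/-- Let G be a finite group with a subgroup H whose order is coprime to its index (a Hall subgroup) and which meets each of its conjugates by elements outside N_G(H) trivially. Then every subgroup of G whose order is divisible only by primes dividing the order of H lies in a conjugate of H. -/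
theorem result {G : Type*} [Group G] [Finite G] (H : Subgroup G)
    (hHall : (Nat.card H).Coprime H.index) (hTI : Cfsg.IsTISubset (H : Set G))
    (K : Subgroup G) (hK : ∀ q : ℕ, q.Prime → q ∣ Nat.card K → q ∣ Nat.card H) :
    ∃ g : G, K ≤ H.map (MulAut.conj g).toMonoidHom := by
  classical
  set N := Subgroup.normalizer (H : Set G) with hN
  -- orders of elements of K are coprime to the index of H
  have hcoK : ∀ k : G, k ∈ K → (orderOf k).Coprime H.index := by
    intro k hk
    by_contra hnot
    obtain ⟨q, hq, hq1, hq2⟩ := Nat.Prime.not_coprime_iff_dvd.mp hnot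
    have h1 : orderOf k ∣ Nat.card K := by
      have := orderOf_dvd_natCard (⟨k, hk⟩ : K)
      rwa [← Subgroup.orderOf_coe] at this
    have h2 : q ∣ Nat.card H := hK q hq (hq1.trans h1)
    have := Nat.Coprime.eq_one_of_dvd (Nat.Coprime.coprime_dvd_left h2 hHall) hq2
    exact hq.one_lt.ne' this
  have hcoConj : ∀ k : G, k ∈ K → ∀ g : G, (orderOf (g⁻¹ * k * g)).Coprime H.index := by
    intro k hk g
    have : orderOf (g⁻¹ * k * g) = orderOf k := by
      have := orderOf_injective (MulAut.conj g⁻¹).toMonoidHom (MulAut.conj g⁻¹).injective k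
      simpa using this
    rw [this]; exact hcoK k hk
  -- TI in contrapositive form
  have hTI' : ∀ t x : G, x ∈ H → x ≠ 1 → t * x * t⁻¹ ∈ H → t ∈ N := by
    intro t x hx hx1 htx
    by_contra ht
    exact hx1 (hTI t ht x hx htx)
  -- existence of fixed points
  have hE : ∀ k : K, k ≠ 1 → ∃ a : G ⧸ N, k • a = a := by
    intro k hk1
    have hkne : (k : G) ≠ 1 := fun h => hk1 (Subtype.ext h)
    have hord : orderOf (k : G) ≠ 1 := fun h => hkne (orderOf_eq_one_iff.mp h)
    obtain ⟨q, hq, hqd⟩ := Nat.exists_prime_and_dvd hord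
    have : Fact q.Prime := ⟨hq⟩
    set y : G := (k : G) ^ (orderOf (k : G) / q) with hy
    have hyord : orderOf y = q := orderOf_pow_orderOf_div (orderOf_pos _).ne' hqd
    have hy1 : y ≠ 1 := by
      intro h
      rw [h, orderOf_one] at hyord
      exact hq.one_lt.ne hyord
    have hqH : ¬ q ∣ H.index := by
      intro hdiv
      have hco := hcoK k k.2
      have := Nat.Coprime.eq_one_of_dvd (Nat.Coprime.coprime_dvd_left hqd hco) hdiv
      exact hq.one_lt.ne' this
    have hpg : IsPGroup q (Subgroup.zpowers y) := by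
      apply IsPGroup.of_card (n := 1)
      rw [Nat.card_zpowers, hyord, pow_one]
    have hcard : ¬ q ∣ Nat.card (G ⧸ H) := by
      rw [← Subgroup.index_eq_card]; exact hqH
    obtain ⟨a, ha⟩ := hpg.nonempty_fixed_point_of_prime_not_dvd_card (G ⧸ H) hcard
    induction a using QuotientGroup.induction_on with
    | H g =>
      have hfix : y • (g : G ⧸ H) = (g : G ⧸ H) := by
        exact ha ⟨y, Subgroup.mem_zpowers y⟩
      rw [smul_mk_eq_iff] at hfix
      refine ⟨(g : G ⧸ N), ?_⟩
      show (k : G) • (g : G ⧸ N) = (g : G ⧸ N)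
      rw [smul_mk_eq_iff]
      apply hTI' _ (g⁻¹ * y * g) hfix
      · intro h
        apply hy1
        have : y = g * (g⁻¹ * y * g) * g⁻¹ := by group
        rw [this, h]; group
      · have hcomm : (k : G) * y = y * (k : G) := by
          rw [hy]
          exact (Commute.pow_right (Commute.refl (k : G)) _).eq
        have : g⁻¹ * (k : G) * g * (g⁻¹ * y * g) * (g⁻¹ * (k : G) * g)⁻¹ = g⁻¹ * ((k : G) * y) * (k : G)⁻¹ * g := by
          group
        rw [this, hcomm]
        have : g⁻¹ * (y * (k : G)) * (k : G)⁻¹ * g = g⁻¹ * y * g := by group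
        rw [this]; exact hfix
  -- uniqueness of fixed points
  have hU : ∀ k : K, k ≠ 1 → ∀ a b : G ⧸ N, k • a = a → k • b = b → a = b := by
    intro k hk1 a b
    have hkne : (k : G) ≠ 1 := fun h => hk1 (Subtype.ext h)
    induction a using QuotientGroup.induction_on with
    | H g =>
    induction b using QuotientGroup.induction_on with
    | H h =>
      intro ha hb
      have ha' : (k : G) • (g : G ⧸ N) = (g : G ⧸ N) := ha
      have hb' : (k : G) • (h : G ⧸ N) = (h : G ⧸ N) := hb
      rw [smul_mk_eq_iff] at ha' hb'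
      have hgH := mem_of_mem_normalizer_of_coprime H _ ha' (hcoConj k k.2 g)
      have hhH := mem_of_mem_normalizer_of_coprime H _ hb' (hcoConj k k.2 h)
      have hne : g⁻¹ * (k : G) * g ≠ 1 := by
        intro h1
        apply hkne
        have : (k : G) = g * (g⁻¹ * (k : G) * g) * g⁻¹ := by group
        rw [this, h1]; group
      have hmem : h⁻¹ * g ∈ N := by
        apply hTI' _ _ hgH hne
        have : h⁻¹ * g * (g⁻¹ * (k : G) * g) * (h⁻¹ * g)⁻¹ = h⁻¹ * (k : G) * h := by group
        rw [this]; exact hhH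
      symm
      rw [QuotientGroup.eq]
      exact hmem
  obtain ⟨ω, hω⟩ := Cfsg.Agent.Helper4.exists_global_fixed_point hE hU
  induction ω using QuotientGroup.induction_on with
  | H g =>
    refine ⟨g, ?_⟩
    intro k hk
    have h1 : (k : G) • (g : G ⧸ N) = (g : G ⧸ N) := hω ⟨k, hk⟩
    rw [smul_mk_eq_iff] at h1
    have h2 := mem_of_mem_normalizer_of_coprime H _ h1 (hcoConj k hk g)
    refine ⟨g⁻¹ * k * g, h2, ?_⟩
    simp [mul_assoc]

end Cfsg.Agent.S4116
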