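import Mathlib
import Cfsg.Statements.S4135
import Cfsg.Agent.Helper3.RelItoH
-- import your own Cfsg.Agent.* helpers here

set_option autoImplicit false
open Cfsg

namespace Cfsg.Agent.S4135

open Subgroup Cfsg.Agent.Helper3.RelIto Cfsg.Agent.Helper4.TwoClass

/-- Let G be a finite group, r a prime and R a Sylow r-subgroup of G that is not central, N a normal subgroup of G containing R, and m a natural number such that every element of N has a conjugacy class in G of size 1 or m. Then N is nilpotent. -/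
theorem result {G : Type*} [Group G] [Finite G] (r : ℕ) [Fact r.Prime]
    (R : Sylow r G) (hR : ¬ (R : Subgroup G) ≤ Subgroup.center G) (N : Subgroup G) [N.Normal] (hRN : (R : Subgroup G) ≤ N)
    (m : ℕ) (h : ∀ x ∈ N, (Subgroup.centralizer ({x} : Set G)).index = 1 ∨ (Subgroup.centralizer ({x} : Set G)).index = m) : Group.IsNilpotent N := by
  have hr : r.Prime := Fact.out
  by_cases hall : ∀ w ∈ N, (orderOf w).Coprime r → w ∈ center G
  · -- all `r'`-elements central
    have hq : IsPGroup r (↥N ⧸ center ↥N) := by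
      intro gb
      obtain ⟨g, rfl⟩ := QuotientGroup.mk_surjective gb
      obtain ⟨c₁, c₂, hc₁, hc₂, ⟨k, hk⟩, hc₂r, hcw⟩ :=
        Cfsg.Agent.Helper4.ItoTwo.exists_parts r hr (g : G)
      refine ⟨k, ?_⟩
      rw [← QuotientGroup.mk_pow, QuotientGroup.eq_one_iff]
      have hc₂N : c₂ ∈ N := (zpowers_le.mpr g.2) hc₂
      have hc₂Z : c₂ ∈ center G :=
        hall c₂ hc₂N (Nat.Coprime.symm ((Nat.Prime.coprime_iff_not_dvd hr).mpr hc₂r))
      have hcomm : Commute c₁ c₂ := (mem_center_iff.mp hc₂Z c₁)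
      have hpow : (g : G) ^ r ^ k = c₂ ^ r ^ k := by
        rw [← hcw, hcomm.mul_pow, ← hk, pow_orderOf_eq_one, one_mul]
      have hpZ : (g : G) ^ r ^ k ∈ center G := hpow ▸ pow_mem hc₂Z _
      rw [mem_center_iff]
      intro n
      apply Subtype.ext
      rw [coe_mul, coe_mul, coe_pow]
      exact mem_center_iff.mp hpZ n
    haveI := hq.isNilpotent
    exact Group.of_quotient_center_nilpotent inferInstance
  · simp only [not_forall] at hall
    obtain ⟨w, hwN, hwcop, hwZ⟩ := hall
    obtain ⟨ℓ, hℓ, hℓd, g', hg', ⟨k, hk⟩, hg'Z, -⟩ := exists_prime_power_part h _ w rfl hwN hwZ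
    have hg'N : g' ∈ N := (zpowers_le.mpr hwN) hg'
    have hℓr : ℓ ≠ r := by
      rintro rfl
      have h1 : ℓ ∣ 1 := by
        have := Nat.dvd_gcd hℓd (dvd_refl ℓ)
        rwa [hwcop] at this
      exact hℓ.one_lt.ne' (Nat.dvd_one.mp h1)
    haveI : Fact ℓ.Prime := ⟨hℓ⟩
    obtain ⟨hgood, u, huN, huZ, hur, hCu⟩ := step1 h R hRN hR hℓr hg'N hg'Z hk
    apply nilpotent_of_cov h hgood
    by_cases hrm : r ∣ m
    · by_cases hA : Nat.card ((R : Subgroup G) ⊓ center G : Subgroup G) * r ^ m.factorization r *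
          r ^ m.factorization r < Nat.card R
      · exact cov_subA h R hRN hR hA hgood
      · exact cov_subB h R hRN hR (not_lt.mp hA) hℓr hgood hk
    · exact cov_of_not_dvd h hrm hur hCu


end Cfsg.Agent.S4135
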