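import Mathlib
import Cfsg.Statements.S4139
import Cfsg.Agent.Lead.CHMd

set_option autoImplicit false
open Cfsg

namespace Cfsg.Agent.S4139

/-- Let G and H be finite groups such that for every natural number k, G and H have the same number of conjugacy classes of size k. If H is nilpotent then G is nilpotent. -/
theorem result {G H : Type*} [Group G] [Finite G] [Group H] [Finite H]
    (hH : Group.IsNilpotent H)
    (h : ∀ k : ℕ, Nat.card {C : ConjClasses G // Nat.card C.carrier = k} = Nat.card {C : ConjClasses H // Nat.card C.carrier = k}) :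
    Group.IsNilpotent G := by
  have hcard : Nat.card G = Nat.card H := Cfsg.Agent.Lead.CHM.card_eq_of_classData h
  have hcen : Nat.card (Subgroup.center G) = Nat.card (Subgroup.center H) :=
    Cfsg.Agent.Lead.CHM.card_center_eq_of_classData h
  apply ((Group.isNilpotent_of_finite_tfae (G := G)).out 0 3 rfl rfl).mpr
  intro p hp P
  apply Cfsg.Agent.Lead.CHM.sylow_normal_of_count p P
  have ht := Cfsg.Agent.Lead.CHM.transfer h (fun k => ¬ p ∣ k)
  rw [ht, Cfsg.Agent.Lead.CHM.nilpotent_count hH p, hcard, hcen]

end Cfsg.Agent.S4139
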