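import Mathlib
import Cfsg.Statements.S4140
import Cfsg.Agent.S0033
import Cfsg.Agent.Helper3.CaminaD
-- import your own Cfsg.Agent.* helpers here

set_option autoImplicit false
open Cfsg

namespace Cfsg.Agent.S4140

/-- Let G be a finite group and N a proper non-trivial normal subgroup such that for every g outside N the conjugacy class of g is a union of cosets of N (equivalently gn is conjugate to g for every n ∈ N). Then either every element of G outside N acts fixed-point-freely on N (C_G(x) ≤ N for all x ∈ N, x ≠ 1, so G is a Frobenius group with kernel N), or N has prime-power order, or G/N has prime-power order. -/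
theorem result {G : Type*} [Group G] [Finite G] (N : Subgroup G) [N.Normal] (hN1 : N ≠ ⊥) (hN2 : N ≠ ⊤)
    (hcam : ∀ g : G, g ∉ N → ∀ n ∈ N, ∃ x : G, x * g * x⁻¹ = g * n) :
    (∀ x ∈ N, x ≠ 1 → Subgroup.centralizer ({x} : Set G) ≤ N) ∨ IsPrimePow (Nat.card N) ∨ IsPrimePow N.index := by
  classical
  have hcam' : Cfsg.Agent.Helper3.Camina.IsCam N := hcam
  by_contra hcon
  push Not at hcon
  obtain ⟨⟨x, hxN, hx1, hxC⟩, hNpp, hIpp⟩ := hcon
  obtain ⟨g, hgC, hgN⟩ := SetLike.not_le_iff_exists.mp hxC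
  have hxg : g * x = x * g := Subgroup.mem_centralizer_singleton_iff.mp hgC
  -- the bad prime
  have hox : orderOf x ≠ 1 := fun h => hx1 (orderOf_eq_one_iff.mp h)
  obtain ⟨p, hpp, hpx⟩ := Nat.exists_prime_and_dvd hox
  haveI : Fact p.Prime := ⟨hpp⟩
  have hpN : p ∣ Nat.card N := by
    have h1 : orderOf (⟨x, hxN⟩ : N) ∣ Nat.card N := orderOf_dvd_natCard _
    rw [Subgroup.orderOf_mk] at h1
    exact hpx.trans h1
  have hpI : p ∣ N.index := by
    obtain ⟨a, m', hm', hgm⟩ := Nat.exists_eq_pow_mul_and_not_dvd (orderOf_pos g).ne' p hpp.ne_one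
    have hgpa : g ^ (p ^ a) ∈ N := by
      by_contra hnot
      have hcomm : g ^ (p ^ a) * x = x * g ^ (p ^ a) := ((Commute.pow_left (show Commute g x from hxg) _)).eq
      have h1 := Cfsg.Agent.Helper3.Camina.cam_pow hcam' hnot hxN hcomm
      have h2 : orderOf (g ^ (p ^ a)) ∣ m' := by
        apply orderOf_dvd_of_pow_eq_one
        rw [← pow_mul, ← hgm, pow_orderOf_eq_one]
      have h3 : orderOf x ∣ m' := (orderOf_dvd_of_pow_eq_one h1).trans h2
      exact hm' (hpx.trans h3)
    have h4 : (QuotientGroup.mk g : G ⧸ N) ^ (p ^ a) = 1 := by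
      rw [← QuotientGroup.mk_pow]; exact (QuotientGroup.eq_one_iff _).mpr hgpa
    have h5 : (QuotientGroup.mk g : G ⧸ N) ≠ 1 := fun h => hgN ((QuotientGroup.eq_one_iff g).mp h)
    obtain ⟨j, -, hj⟩ := (Nat.dvd_prime_pow hpp).mp (orderOf_dvd_of_pow_eq_one h4)
    have hj0 : j ≠ 0 := by
      rintro rfl
      rw [pow_zero, orderOf_eq_one_iff] at hj
      exact h5 hj
    have h6 : p ∣ orderOf (QuotientGroup.mk g : G ⧸ N) := by rw [hj]; exact dvd_pow_self p hj0
    have h7 : orderOf (QuotientGroup.mk g : G ⧸ N) ∣ Nat.card (G ⧸ N) := orderOf_dvd_natCard _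
    rw [Subgroup.index_eq_card]
    exact h6.trans h7
  -- a second prime dividing the index
  obtain ⟨q, hqp, hqne, hqI⟩ : ∃ q : ℕ, q.Prime ∧ q ≠ p ∧ q ∣ N.index := by
    by_contra hno
    push Not at hno
    have h1 : N.index = p ^ _ := Nat.eq_prime_pow_of_unique_prime_dvd Subgroup.index_ne_zero_of_finite
      (fun {d} hd hdd => by_contra (fun hne => hno d hd hne hdd))
    apply hIpp
    rw [h1]
    apply hpp.isPrimePow.pow
    intro h0
    rw [h0, pow_zero] at h1
    rw [h1] at hpI
    exact hpp.one_lt.ne' (Nat.dvd_one.mp hpI)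
  haveI : Fact q.Prime := ⟨hqp⟩
  by_cases hqN : q ∣ Nat.card N
  · exact Cfsg.Agent.Helper3.Camina.no_two_bad (Ne.symm hqne) hcam' hpN hpI hqN hqI
  · -- Thompson's theorem
    have hqG : q ∣ Nat.card G := hqI.trans (Subgroup.index_dvd_card N)
    obtain ⟨w, hw⟩ := exists_prime_orderOf_dvd_card' q hqG
    have hwN : w ∉ N := by
      intro h
      have h1 : orderOf (⟨w, h⟩ : N) ∣ Nat.card N := orderOf_dvd_natCard _
      rw [Subgroup.orderOf_mk, hw] at h1
      exact hqN h1
    set φ : N ≃* N := MulAut.conjNormal w with hφ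
    have hcopq : (Nat.card N).Coprime q := (Nat.Prime.coprime_iff_not_dvd hqp).mpr hqN |>.symm
    have hfpf : MonoidHom.FixedPointFree (φ : N →* N) := by
      intro n hn
      have h1 : w * (n : G) * w⁻¹ = (n : G) := by
        have := congrArg Subtype.val hn
        simpa [hφ] using this
      have h2 : w * (n : G) = (n : G) * w := by
        calc w * (n : G) = (w * (n : G) * w⁻¹) * w := by group
          _ = (n : G) * w := by rw [h1]
      have h3 := Cfsg.Agent.Helper3.Camina.cam_pow hcam' hwN n.2 h2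
      rw [hw] at h3
      have h4 : orderOf (n : G) ∣ q := orderOf_dvd_of_pow_eq_one h3
      have h5 : orderOf (n : G) ∣ Nat.card N := by
        have := orderOf_dvd_natCard n
        rwa [Subgroup.orderOf_coe]
      have h6 : orderOf (n : G) = 1 := Nat.eq_one_of_dvd_coprimes hcopq h5 h4
      exact Subtype.ext (orderOf_eq_one_iff.mp h6)
    have hord : orderOf φ = q := by
      apply orderOf_eq_prime
      · rw [hφ, ← map_pow, ← hw, pow_orderOf_eq_one, map_one]
      · intro h1
        apply hN1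
        rw [eq_bot_iff]
        intro n hn
        have h2 : φ ⟨n, hn⟩ = ⟨n, hn⟩ := by rw [h1]; rfl
        have h3 := hfpf ⟨n, hn⟩ h2
        rw [Subgroup.mem_bot]
        exact congrArg Subtype.val h3
    have hnil : Group.IsNilpotent N := Cfsg.Agent.S0033.result φ hfpf q hqp hord
    have hNp := Cfsg.Agent.Helper3.Camina.isPGroup_of_isNilpotent hcam' hpN hpI hnil
    obtain ⟨k, hk⟩ := IsPGroup.iff_card.mp hNp
    apply hNpp
    rw [hk]
    apply hpp.isPrimePow.pow
    intro h0
    rw [h0, pow_zero] at hk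
    rw [hk] at hpN
    exact hpp.one_lt.ne' (Nat.dvd_one.mp hpN)


end Cfsg.Agent.S4140
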