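import Cfsg.Statements.S4144
import Cfsg.Agent.Helper4.MCPearl
import Cfsg.Agent.Lead.MCUE2
import Cfsg.Agent.Helper8.MCDFinal

set_option autoImplicit false
open Cfsg

namespace Cfsg.Agent.S4144

/-- Let X be a finite p-group of order p^n, n ≥ 2, of nilpotency class n − 1 (maximal class), and H any subgroup of X. Then the index in H of the subgroup generated by the p-th powers of elements of H is at most p^p. -/
theorem result {X : Type*} [Group X] [Finite X] {p : ℕ} [Fact p.Prime] (n : ℕ) (hn : 2 ≤ n) (hX : Nat.card X = p ^ n)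
    (hmax : Group.nilpotencyClass X = n - 1) (H : Subgroup X) :
    (Subgroup.closure {y : X | ∃ h ∈ H, y = h ^ p}).relIndex H ≤ p ^ p := by
  have hpp : p.Prime := Fact.out
  have hp2 := hpp.two_le
  have hP : IsPGroup p X := IsPGroup.of_card hX
  change (Cfsg.Agent.Helper8.HP.agemo p H).relIndex H ≤ p ^ p
  have hsmall : Nat.card H ≤ p ^ p → (Cfsg.Agent.Helper8.HP.agemo p H).relIndex H ≤ p ^ p :=
    fun h => (Nat.le_of_dvd Nat.card_pos (Subgroup.relIndex_dvd_card _ _)).trans h
  rcases Nat.lt_or_ge n (p + 1) with h1 | h1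
  · apply hsmall
    have h2 : Nat.card H ≤ Nat.card X := Subgroup.card_le_card_group H
    rw [hX] at h2
    exact h2.trans (Nat.pow_le_pow_right hpp.pos (by omega))
  · have hMC : Cfsg.Agent.Helper4.MC.IsMC p n X := ⟨hX, by omega, hmax⟩
    rcases Nat.lt_or_ge n (p + 2) with h2 | h2
    · obtain rfl : n = p + 1 := by omega
      obtain ⟨k, hk⟩ := IsPGroup.iff_card.1 (hP.to_subgroup H)
      have hkn : k ≤ p + 1 := by
        have h3 : Nat.card H ∣ Nat.card X := Subgroup.card_subgroup_dvd_card H
        rw [hk, hX] at h3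
        exact (Nat.pow_dvd_pow_iff_le_right hpp.one_lt).1 h3
      rcases Nat.lt_or_ge k (p + 1) with h3 | h3
      · apply hsmall
        rw [hk]
        exact Nat.pow_le_pow_right hpp.pos (by omega)
      · have hH : H = ⊤ := by
          apply Subgroup.eq_top_of_card_eq
          rw [hk, hX]
          congr 1
          omega
        subst hH
        obtain ⟨x, hx⟩ := Cfsg.Agent.Helper8.MC.exists_pow_ne_one hMC
        set A := Cfsg.Agent.Helper8.HP.agemo p (⊤ : Subgroup X) with hA
        have hAne : A ≠ ⊥ := by
          intro h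
          have h4 : x ^ p ∈ A := Cfsg.Agent.Helper8.HP.pow_mem_agemo p (Subgroup.mem_top x)
          rw [h, Subgroup.mem_bot] at h4
          exact hx h4
        obtain ⟨m, hm⟩ := IsPGroup.iff_card.1 (hP.to_subgroup A)
        have hm1 : 1 ≤ m := by
          by_contra h0
          obtain rfl : m = 0 := by omega
          rw [pow_zero] at hm
          exact hAne (Subgroup.card_eq_one.1 hm)
        have hmle : m ≤ p + 1 := by
          have h3 : Nat.card A ∣ Nat.card X := Subgroup.card_subgroup_dvd_card A
          rw [hm, hX] at h3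
          exact (Nat.pow_dvd_pow_iff_le_right hpp.one_lt).1 h3
        rw [Subgroup.relIndex_top_right]
        have h5 := Subgroup.card_mul_index A
        rw [hm, hX] at h5
        have h6 : p ^ m * p ^ (p + 1 - m) = p ^ (p + 1) := by
          rw [← pow_add]; congr 1; omega
        rw [← h6] at h5
        have h7 : A.index = p ^ (p + 1 - m) :=
          Nat.eq_of_mul_eq_mul_left (pow_pos hpp.pos _) h5
        rw [h7]
        exact Nat.pow_le_pow_right hpp.pos (by omega)
    · obtain ⟨s, hs⟩ := Cfsg.Agent.Lead.MC.exists_uniform hMC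
      exact Cfsg.Agent.Helper4.MC.relIndex_agemo_le hMC h2
        (Cfsg.Agent.Helper4.MC.powerStr_of_uniform hMC h2 hs) H

end Cfsg.Agent.S4144
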