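import Cfsg.Statements.S4153
import Cfsg.Agent.Helper4.PElementFiber

set_option autoImplicit false
open Cfsg

namespace Cfsg.Agent.S4153

/-- Let G be a finite group, p a prime, N a normal subgroup, P a Sylow p-subgroup of G and P̄ a Sylow p-subgroup of G/N. Count the elements of p-power order, the identity included. Then (number of such elements of G/N)/#P̄ ≤ (number of such elements of G)/#P, stated as a cross-multiplied inequality, with equality when N is central. -/
theorem result {G : Type*} [Group G] [Finite G] (p : ℕ) [Fact p.Prime] (N : Subgroup G) [N.Normal]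
    (P : Sylow p G) (Pbar : Sylow p (G ⧸ N)) :
    Nat.card {g : (G ⧸ N) // ∃ k : ℕ, orderOf g = p ^ k} * Nat.card (P : Subgroup G) ≤ Nat.card {g : G // ∃ k : ℕ, orderOf g = p ^ k} * Nat.card (Pbar : Subgroup (G ⧸ N)) ∧
    (N ≤ Subgroup.center G → Nat.card {g : (G ⧸ N) // ∃ k : ℕ, orderOf g = p ^ k} * Nat.card (P : Subgroup G) = Nat.card {g : G // ∃ k : ℕ, orderOf g = p ^ k} * Nat.card (Pbar : Subgroup (G ⧸ N))) := by
  classical
  have hp : p.Prime := Fact.out
  obtain ⟨m, hm⟩ : ∃ m : ℕ, m = p ^ (Nat.card N).factorization p := ⟨_, rfl⟩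
  have hPcard : Nat.card (P : Subgroup G) = Nat.card (Pbar : Subgroup (G ⧸ N)) * m := by
    rw [P.card_eq_multiplicity, Pbar.card_eq_multiplicity, hm, ← pow_add]
    congr 1
    have h1 : Nat.card G = Nat.card (G ⧸ N) * Nat.card N :=
      Subgroup.card_eq_card_quotient_mul_card_subgroup N
    rw [h1, Nat.factorization_mul (Nat.card_pos.ne') (Nat.card_pos.ne')]
    rfl
  letI : Fintype {q : G ⧸ N // ∃ k : ℕ, orderOf q = p ^ k} := Fintype.ofFinite _
  have hφ : ∀ g : {g : G // ∃ k : ℕ, orderOf g = p ^ k},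
      ∃ k : ℕ, orderOf (QuotientGroup.mk g.1 : G ⧸ N) = p ^ k := by
    intro g
    obtain ⟨k, hk⟩ := g.2
    have : orderOf (QuotientGroup.mk g.1 : G ⧸ N) ∣ p ^ k :=
      hk ▸ orderOf_map_dvd (QuotientGroup.mk' N) g.1
    obtain ⟨j, -, hj⟩ := (Nat.dvd_prime_pow hp).mp this
    exact ⟨j, hj⟩
  have hsum : Nat.card {g : G // ∃ k : ℕ, orderOf g = p ^ k} =
      ∑ q : {q : G ⧸ N // ∃ k : ℕ, orderOf q = p ^ k},
        Nat.card {g : G // (∃ k : ℕ, orderOf g = p ^ k) ∧ (QuotientGroup.mk g : G ⧸ N) = q.1} := by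
    rw [← Nat.card_sigma]
    apply Nat.card_congr
    exact
      { toFun := fun g => ⟨⟨QuotientGroup.mk g.1, hφ g⟩, ⟨g.1, g.2, rfl⟩⟩
        invFun := fun z => ⟨z.2.1, z.2.2.1⟩
        left_inv := fun g => rfl
        right_inv := by
          rintro ⟨⟨q, hq⟩, g, hg, hgq⟩
          change (QuotientGroup.mk g : G ⧸ N) = q at hgq
          subst hgq
          rfl }
  have hcardT : Nat.card {q : G ⧸ N // ∃ k : ℕ, orderOf q = p ^ k} * m =
      ∑ _q : {q : G ⧸ N // ∃ k : ℕ, orderOf q = p ^ k}, m := by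
    rw [Finset.sum_const, Finset.card_univ, Nat.card_eq_fintype_card, smul_eq_mul]
  constructor
  · rw [hPcard, hsum]
    calc Nat.card {q : G ⧸ N // ∃ k : ℕ, orderOf q = p ^ k} *
          (Nat.card (Pbar : Subgroup (G ⧸ N)) * m)
        = (Nat.card {q : G ⧸ N // ∃ k : ℕ, orderOf q = p ^ k} * m) *
          Nat.card (Pbar : Subgroup (G ⧸ N)) := by ring
      _ ≤ _ := by
        apply Nat.mul_le_mul_right
        rw [hcardT]
        apply Finset.sum_le_sum
        intro q _
        rw [hm]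
        exact Cfsg.Agent.Helper4.le_card_pelement_fiber p N q.1 q.2
  · intro hN
    rw [hPcard, hsum]
    have : ∑ q : {q : G ⧸ N // ∃ k : ℕ, orderOf q = p ^ k},
        Nat.card {g : G // (∃ k : ℕ, orderOf g = p ^ k) ∧ (QuotientGroup.mk g : G ⧸ N) = q.1} =
        ∑ _q : {q : G ⧸ N // ∃ k : ℕ, orderOf q = p ^ k}, m := by
      apply Finset.sum_congr rfl
      intro q _
      rw [hm]
      exact Cfsg.Agent.Helper4.card_pelement_fiber_of_central p N hN q.1 q.2
    rw [this, ← hcardT]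
    ring

end Cfsg.Agent.S4153
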