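import Cfsg.Statements.S4154

set_option autoImplicit false
open Cfsg

namespace Cfsg.Agent.S4154

/-- The fixed-point subgroup of an endomorphism. -/
def fixSub {Q : Type*} [Group Q] (β : Q →* Q) : Subgroup Q where
  carrier := {x | β x = x}
  one_mem' := map_one β
  mul_mem' := by
    intro a b ha hb
    simp only [Set.mem_ofPred_eq] at ha hb ⊢
    rw [map_mul, ha, hb]
  inv_mem' := by
    intro a ha
    simp only [Set.mem_ofPred_eq] at ha ⊢
    rw [map_inv, ha]

theorem mem_fixSub {Q : Type*} [Group Q] (β : Q →* Q) (x : Q) : x ∈ fixSub β ↔ β x = x := Iff.rfl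

/-- `h ↦ h * (β h)⁻¹` on left cosets of the fixed-point subgroup. -/
def psi {Q : Type*} [Group Q] (β : Q →* Q) : Q ⧸ fixSub β → Q :=
  Quotient.lift (fun h : Q => h * (β h)⁻¹) (by
    intro a b hab
    have hab' : a⁻¹ * b ∈ fixSub β := QuotientGroup.leftRel_apply.mp hab
    rw [mem_fixSub, map_mul, map_inv] at hab'
    -- (β a)⁻¹ * β b = a⁻¹ * b
    change a * (β a)⁻¹ = b * (β b)⁻¹
    have h2 : β b = β a * (a⁻¹ * b) := by rw [← hab']; group
    rw [h2]; group)

theorem psi_mk {Q : Type*} [Group Q] (β : Q →* Q) (h : Q) :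
    psi β (QuotientGroup.mk h) = h * (β h)⁻¹ := rfl

/-- If every element is a product of a fixed point and a "commutator" `h * (β h)⁻¹`, then
a fixed "commutator" is trivial. -/
theorem ccp_inj {Q : Type*} [Group Q] [Finite Q] (β : Q →* Q)
    (hsurj : ∀ x : Q, ∃ c h : Q, β c = c ∧ x = c * (h * (β h)⁻¹))
    (h : Q) (hfix : β (h * (β h)⁻¹) = h * (β h)⁻¹) : h * (β h)⁻¹ = 1 := by
  let Φ : (fixSub β) × (Q ⧸ fixSub β) → Q := fun p => (p.1 : Q) * psi β p.2
  have hΦs : Function.Surjective Φ := by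
    intro x
    obtain ⟨c, h, hc, hx⟩ := hsurj x
    exact ⟨(⟨c, hc⟩, QuotientGroup.mk h), by simp only [Φ, psi_mk]; exact hx.symm⟩
  have hcard : Nat.card ((fixSub β) × (Q ⧸ fixSub β)) = Nat.card Q := by
    rw [Nat.card_prod]
    exact (fixSub β).card_mul_index
  have hΦb : Function.Bijective Φ := (Nat.bijective_iff_surjective_and_card Φ).mpr ⟨hΦs, hcard⟩
  have e : Φ (⟨h * (β h)⁻¹, hfix⟩, QuotientGroup.mk 1) = Φ (1, QuotientGroup.mk h) := by
    simp only [Φ, psi_mk]
    simp
  have := hΦb.1 e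
  have h1 := congrArg (fun p => ((p.1 : fixSub β) : Q)) this
  simpa using h1

/-- Let G be a finite group and α an automorphism of G such that every element of G is the product of an element fixed by α and an element of the form g⁻¹α(g). If N is a normal α-invariant subgroup, then the automorphism ᾱ induced on G/N has the same property, and every coset fixed by ᾱ contains an element fixed by α (so the fixed points of ᾱ are the images of the fixed points of α). -/
theorem result {G : Type*} [Group G] [Finite G] (α : MulAut G)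
    (hccp : ∀ x : G, ∃ c g : G, α c = c ∧ x = c * (g⁻¹ * α g))
    (N : Subgroup G) [N.Normal] (hN : ∀ n ∈ N, α n ∈ N) :
    (∀ x : G, ∃ c g : G, c⁻¹ * α c ∈ N ∧ x⁻¹ * (c * (g⁻¹ * α g)) ∈ N) ∧
    (∀ x : G, x⁻¹ * α x ∈ N → ∃ c : G, α c = c ∧ c⁻¹ * x ∈ N) := by
  constructor
  · intro x
    obtain ⟨c, g, hc, hx⟩ := hccp x
    refine ⟨c, g, ?_, ?_⟩
    · rw [hc, inv_mul_cancel]; exact N.one_mem
    · rw [← hx, inv_mul_cancel]; exact N.one_mem
  · intro x hx
    obtain ⟨c, g, hc, hxc⟩ := hccp x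
    refine ⟨c, hc, ?_⟩
    -- the induced endomorphism on the quotient
    let β : G ⧸ N →* G ⧸ N := QuotientGroup.map N N α.toMonoidHom (fun n hn => hN n hn)
    have hβ : ∀ y : G, β (QuotientGroup.mk y) = QuotientGroup.mk (α y) := fun y => rfl
    have hsurj : ∀ z : G ⧸ N, ∃ c h : G ⧸ N, β c = c ∧ z = c * (h * (β h)⁻¹) := by
      intro z
      obtain ⟨y, rfl⟩ := QuotientGroup.mk_surjective z
      obtain ⟨c', g', hc', hy⟩ := hccp y
      refine ⟨QuotientGroup.mk c', QuotientGroup.mk g'⁻¹, ?_, ?_⟩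
      · rw [hβ, hc']
      · rw [hβ, hy]
        simp
    set y := g⁻¹ * α g with hy
    have hyx : y⁻¹ * α y = x⁻¹ * α x := by
      have h2 : α x = c * α y := by rw [hxc, map_mul, hc]
      rw [h2, hxc]; group
    have hfix : β (QuotientGroup.mk g⁻¹ * (β (QuotientGroup.mk g⁻¹))⁻¹) =
        QuotientGroup.mk g⁻¹ * (β (QuotientGroup.mk g⁻¹))⁻¹ := by
      have e1 : (QuotientGroup.mk g⁻¹ : G ⧸ N) * (β (QuotientGroup.mk g⁻¹))⁻¹ = QuotientGroup.mk y := by
        rw [hβ, hy]; simp
      rw [e1, hβ, eq_comm, QuotientGroup.eq, hyx]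
      exact hx
    have h1 := ccp_inj β hsurj (QuotientGroup.mk g⁻¹) hfix
    have e1 : (QuotientGroup.mk g⁻¹ : G ⧸ N) * (β (QuotientGroup.mk g⁻¹))⁻¹ = QuotientGroup.mk y := by
      rw [hβ, hy]; simp
    rw [e1, QuotientGroup.eq_one_iff] at h1
    have : c⁻¹ * x = y := by rw [hxc]; group
    rw [this]; exact h1

end Cfsg.Agent.S4154
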