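import Cfsg.Statements.S4155
import Cfsg.Agent.Helper4.EqualOrderB

set_option autoImplicit false
open Cfsg

namespace Cfsg.Agent.S4155

/-- Let G be a finite group and N a proper non-trivial normal nilpotent subgroup whose order is not a prime power, such that for every x outside N all elements of the coset xN have the same order as x. Then N is the Fitting subgroup of G, and for every prime q every Sylow q-subgroup of G/N is cyclic or generalized quaternion. -/
theorem result {G : Type*} [Group G] [Finite G] (N : Subgroup G) [N.Normal] (hN1 : N ≠ ⊥) (hN2 : N ≠ ⊤)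
    (heq : ∀ x : G, x ∉ N → ∀ n ∈ N, orderOf (x * n) = orderOf x)
    (hnil : Group.IsNilpotent N) (hnpp : ¬ IsPrimePow (Nat.card N)) :
    N = Cfsg.fittingSubgroup G ∧
    ∀ (q : ℕ) [Fact q.Prime] (Q : Sylow q (G ⧸ N)), IsCyclic (Q : Subgroup (G ⧸ N)) ∨ ∃ n : ℕ, Nonempty ((Q : Subgroup (G ⧸ N)) ≃* QuaternionGroup (2 ^ n)) := by
  refine ⟨?_, ?_⟩
  · apply le_antisymm
    · exact le_sSup ⟨inferInstance, hnil⟩
    · apply sSup_le
      rintro M ⟨hMn, hMnil⟩
      exact Cfsg.Agent.Helper4.le_of_normal_isNilpotent_of_equalOrder N hN1 heq hnil hnpp M hMn hMnil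
  · intro q hq Q
    have h := Cfsg.Agent.Helper4.cyclic_or_quaternion_of_key (K := (Q : Subgroup (G ⧸ N))) q Q.2
      (fun z a hz hzo ha =>
        Cfsg.Agent.Helper4.sylow_quotient_key_of_equalOrder N hN1 heq hnil hnpp q
          (Q : Subgroup (G ⧸ N)) z a hz hzo ha)
    rcases h with h | ⟨-, h⟩
    · exact Or.inl h
    · exact Or.inr h

end Cfsg.Agent.S4155
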