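import Cfsg.Statements.S4156
import Cfsg.Agent.Helper4.DeletedPermMatrix

set_option autoImplicit false
open Cfsg

namespace Cfsg.Agent.S4156

/-- Let n ≥ 5 and F a finite field. Then the projective special linear group PSL_n(F) contains a subgroup isomorphic to the alternating group of degree n + 1. -/
theorem result (n : ℕ) (hn : 5 ≤ n) (F : Type*) [Field F] [Finite F] :
    ∃ f : alternatingGroup (Fin (n + 1)) →* Matrix.ProjectiveSpecialLinearGroup (Fin n) F, Function.Injective f := by
  classical
  have hcard : Nat.card (Fin (n + 1)) = n + 1 := by simp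
  haveI hsimple : IsSimpleGroup (alternatingGroup (Fin (n + 1))) :=
    alternatingGroup.isSimpleGroup (by rw [hcard]; omega)
  have hcenter : Subgroup.center (alternatingGroup (Fin (n + 1))) = ⊥ :=
    alternatingGroup.center_eq_bot (by rw [hcard]; omega)
  -- the determinant hom
  let detHom : alternatingGroup (Fin (n + 1)) →* F :=
    (Matrix.detMonoidHom).comp ((Cfsg.Agent.Helper4.delPermHom n F).comp
      (alternatingGroup (Fin (n + 1))).subtype)
  have hdet : ∀ σ : alternatingGroup (Fin (n + 1)),
      (Cfsg.Agent.Helper4.delPermMat F (σ : Equiv.Perm (Fin (n + 1)))).det = 1 := by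
    intro σ
    have hker := hsimple.eq_bot_or_eq_top_of_normal detHom.toHomUnits.ker inferInstance
    rcases hker with h | h
    · exfalso
      have hinj : Function.Injective detHom.toHomUnits := (MonoidHom.ker_eq_bot_iff _).mp h
      have hcomm : ∀ a b : alternatingGroup (Fin (n + 1)), a * b = b * a := by
        intro a b
        apply hinj
        rw [map_mul, map_mul, mul_comm]
      have htop : Subgroup.center (alternatingGroup (Fin (n + 1))) = ⊤ := by
        rw [eq_top_iff]
        intro a _
        rw [Subgroup.mem_center_iff]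
        intro b
        exact hcomm b a
      rw [hcenter] at htop
      exact bot_ne_top htop
    · have h1 : σ ∈ detHom.toHomUnits.ker := by rw [h]; trivial
      rw [MonoidHom.mem_ker] at h1
      have h2 : ((detHom.toHomUnits σ : Fˣ) : F) = 1 := by rw [h1]; rfl
      rw [MonoidHom.coe_toHomUnits] at h2
      exact h2
  let f₀ : alternatingGroup (Fin (n + 1)) →* Matrix.SpecialLinearGroup (Fin n) F :=
    MonoidHom.mk' (fun σ => ⟨Cfsg.Agent.Helper4.delPermMat F (σ : Equiv.Perm (Fin (n + 1))), hdet σ⟩)
      (fun a b => Subtype.ext (Cfsg.Agent.Helper4.delPermMat_mul (a : Equiv.Perm (Fin (n + 1))) b))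
  refine ⟨(QuotientGroup.mk' (Subgroup.center (Matrix.SpecialLinearGroup (Fin n) F))).comp f₀, ?_⟩
  rw [← MonoidHom.ker_eq_bot_iff]
  rcases hsimple.eq_bot_or_eq_top_of_normal
    ((QuotientGroup.mk' (Subgroup.center (Matrix.SpecialLinearGroup (Fin n) F))).comp f₀).ker
    inferInstance with h | h
  · exact h
  · exfalso
    -- a three-cycle
    let i0 : Fin n := ⟨0, by omega⟩
    let i1 : Fin n := ⟨1, by omega⟩
    let i2 : Fin n := ⟨2, by omega⟩
    have h01 : i0.castSucc ≠ i1.castSucc := by
      intro h; have := congrArg Fin.val h; simp [i0, i1] at this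
    have h12 : i1.castSucc ≠ i2.castSucc := by
      intro h; have := congrArg Fin.val h; simp [i1, i2] at this
    have h02 : i0.castSucc ≠ i2.castSucc := by
      intro h; have := congrArg Fin.val h; simp [i0, i2] at this
    let c : Equiv.Perm (Fin (n + 1)) :=
      Equiv.swap i0.castSucc i1.castSucc * Equiv.swap i1.castSucc i2.castSucc
    have hcA : c ∈ alternatingGroup (Fin (n + 1)) := by
      rw [Equiv.Perm.mem_alternatingGroup, Equiv.Perm.sign_mul, Equiv.Perm.sign_swap h01,
        Equiv.Perm.sign_swap h12]
      rfl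
    have hc0 : c i0.castSucc = i1.castSucc := by
      change Equiv.swap i0.castSucc i1.castSucc (Equiv.swap i1.castSucc i2.castSucc i0.castSucc) = _
      rw [Equiv.swap_apply_of_ne_of_ne h01 h02, Equiv.swap_apply_left]
    have hl : ∀ i : Fin n, Fin.last n ≠ i.castSucc := fun i => (Fin.castSucc_lt_last i).ne'
    have hcl : c (Fin.last n) = Fin.last n := by
      change Equiv.swap i0.castSucc i1.castSucc (Equiv.swap i1.castSucc i2.castSucc (Fin.last n)) = _
      rw [Equiv.swap_apply_of_ne_of_ne (hl i1) (hl i2), Equiv.swap_apply_of_ne_of_ne (hl i0) (hl i1)]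
    have hmem : (⟨c, hcA⟩ : alternatingGroup (Fin (n + 1))) ∈
        ((QuotientGroup.mk' (Subgroup.center (Matrix.SpecialLinearGroup (Fin n) F))).comp f₀).ker := by
      rw [h]; trivial
    rw [MonoidHom.mem_ker, MonoidHom.comp_apply, QuotientGroup.mk'_apply,
      QuotientGroup.eq_one_iff, Matrix.SpecialLinearGroup.mem_center_iff] at hmem
    obtain ⟨r, -, hr⟩ := hmem
    have hentry : (Matrix.scalar (Fin n) r) i1 i0 = Cfsg.Agent.Helper4.delPermMat F c i1 i0 := by
      rw [hr]; rfl
    have hne : i1 ≠ i0 := by
      intro h; have := congrArg Fin.val h; simp [i0, i1] at this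
    rw [Matrix.scalar_apply, Matrix.diagonal_apply_ne _ hne] at hentry
    have h3 : Cfsg.Agent.Helper4.delPermMat F c i1 i0 = 1 := by
      change (if c i0.castSucc = i1.castSucc then (1 : F) else 0) -
        (if c (Fin.last n) = i1.castSucc then (1 : F) else 0) = 1
      rw [hc0, hcl, if_pos rfl, if_neg (hl i1), sub_zero]
    rw [h3] at hentry
    exact zero_ne_one hentry

end Cfsg.Agent.S4156
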