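import Mathlib
import Cfsg.Statements.S4157
import Cfsg.Agent.Helper3.KulG
import Cfsg.Agent.Helper4.HallEnumD
import Cfsg.Agent.Helper4.HallEnumF
-- import your own Cfsg.Agent.* helpers here

set_option autoImplicit false
open Cfsg

namespace Cfsg.Agent.S4157

open Cfsg.Agent.Helper4.HallEnum Cfsg.Agent.Helper3 Cfsg.Agent.Helper3.Kul

theorem card_split {G : Type*} [Group G] [Finite G] (p c : ℕ) :
    Nat.card {L : Subgroup G // Nat.card L = p ^ c} =
      Nat.card {X : Subgroup G // IsCyclic X ∧ Nat.card X = p ^ c} +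
        Nat.card {L : Subgroup G // Nat.card L = p ^ c ∧ ¬ IsCyclic L} := by
  classical
  have : Fintype (Subgroup G) := Fintype.ofFinite _
  rw [Nat.card_eq_fintype_card, Nat.card_eq_fintype_card, Nat.card_eq_fintype_card,
    Fintype.card_subtype, Fintype.card_subtype, Fintype.card_subtype,
    ← Finset.card_filter_add_card_filter_not (fun L : Subgroup G => IsCyclic L),
    Finset.filter_filter, Finset.filter_filter]
  congr 2
  ext X
  simp only [Finset.mem_filter, Finset.mem_univ, true_and]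
  tauto

/-- the number of noncyclic subgroups of order `p ^ (k + 1)` is `≡ 1 (mod p)` -/
theorem card_noncyclic_modEq_one {G : Type*} [Group G] [Finite G] {p : ℕ} [hp : Fact p.Prime]
    (m : ℕ) (hG : Nat.card G = p ^ m) (hnc : ¬ IsCyclic G)
    (h2 : p = 2 → Group.nilpotencyClass G ≠ m - 1) (k : ℕ) (hk1 : 1 ≤ k) (hk2 : k < m) :
    Nat.card {L : Subgroup G // Nat.card L = p ^ (k + 1) ∧ ¬ IsCyclic L} ≡ 1 [MOD p] := by
  have hdvd : p ^ (k + 1) ∣ Nat.card G := by rw [hG]; exact pow_dvd_pow p (by omega)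
  have hall := card_subgroups_prime_pow_modEq_one (G := G) p (k + 1) hp.out hdvd
  rw [card_split] at hall
  suffices hcyc : Nat.card {X : Subgroup G // IsCyclic X ∧ Nat.card X = p ^ (k + 1)} ≡ 0 [MOD p] by
    have h3 := (Nat.ModEq.add_right _ hcyc).symm.trans hall
    rwa [zero_add] at h3
  by_cases hp2 : p = 2
  · subst hp2
    have hev := even_cyc m G hG hnc (h2 rfl) (k + 1) (by omega)
    unfold cyc at hev
    exact (Nat.modEq_zero_iff_dvd.2 hev.two_dvd)
  · have hGp : IsPGroup p G := IsPGroup.of_card hG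
    obtain ⟨E₀, hE₀n, hE₀e, hE₀c⟩ :=
      Cfsg.Agent.Helper1.exists_normal_elementary_p2_top hp2 hGp hnc
    have hmiller := dvd_card_cyclic (⊤ : Subgroup G) E₀ le_top hE₀c
      (fun x _ e he => mul_pow_eq_of_normal_elementary hp2 hGp E₀ hE₀e hE₀c x e he) k hk1
    have hcongr : Nat.card {X : Subgroup G // X ≤ ⊤ ∧ IsCyclic X ∧ Nat.card X = p ^ (k + 1)} =
        Nat.card {X : Subgroup G // IsCyclic X ∧ Nat.card X = p ^ (k + 1)} :=
      Nat.card_congr (Equiv.subtypeEquivRight (fun X => ⟨fun h => h.2, fun h => ⟨le_top, h⟩⟩))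
    rw [hcongr] at hmiller
    exact Nat.modEq_zero_iff_dvd.2 hmiller

/-- Let G be a finite p-group of order p^m that is not cyclic and, when p = 2, not of maximal class (nilpotency class m − 1). Then for every 1 ≤ k < m the number of subgroups of G of order p^k is congruent to 1 + p modulo p². -/
theorem result {G : Type*} [Group G] [Finite G] {p : ℕ} [Fact p.Prime] (m : ℕ)
    (hG : Nat.card G = p ^ m) (hnc : ¬ IsCyclic G) (h2 : p = 2 → Group.nilpotencyClass G ≠ m - 1)
    (k : ℕ) (hk1 : 1 ≤ k) (hk2 : k < m) :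
    Nat.card {H : Subgroup G // Nat.card H = p ^ k} ≡ 1 + p [MOD p ^ 2] := by
  have hdvd : p ^ (k + 1) ∣ Nat.card G := by rw [hG]; exact pow_dvd_pow p (by omega)
  have hid := hall_identity (G := G) p k hdvd
  have h := card_noncyclic_modEq_one m hG hnc h2 k hk1 hk2
  have h1 := Nat.ModEq.mul_left' p h
  rw [mul_one, ← pow_two] at h1
  exact hid.trans (Nat.ModEq.add_left 1 h1)


end Cfsg.Agent.S4157
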