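import Cfsg.Statements.S4168

set_option autoImplicit false
open Cfsg

namespace Cfsg.Agent.S4168

/-- In a perfect group with centre of finite index, every element has order dividing the index of the centre. -/
theorem pow_index_center_eq_one_of_perfect {L : Type*} [Group L] [Finite L]
    (hperf : commutator L = ⊤) (g : L) : g ^ (Subgroup.center L).index = 1 := by
  have h1 : commutator L ≤ (MonoidHom.transferCenterPow L).ker := by
    rw [commutator_eq_closure, Subgroup.closure_le]
    rintro x ⟨a, b, rfl⟩
    rw [SetLike.mem_coe, MonoidHom.mem_ker, commutatorElement_def]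
    simp only [map_mul, map_inv]
    apply Subtype.ext
    simp only [Subgroup.coe_mul, Subgroup.coe_inv, MonoidHom.transferCenterPow_apply, Subgroup.coe_one]
    have hb : b ^ (Subgroup.center L).index ∈ Subgroup.center L := (Subgroup.center L).pow_index_mem b
    rw [Subgroup.mem_center_iff] at hb
    have := hb (a ^ (Subgroup.center L).index)
    calc a ^ (Subgroup.center L).index * b ^ (Subgroup.center L).index * (a ^ (Subgroup.center L).index)⁻¹ * (b ^ (Subgroup.center L).index)⁻¹
        = (b ^ (Subgroup.center L).index * a ^ (Subgroup.center L).index) * (a ^ (Subgroup.center L).index)⁻¹ * (b ^ (Subgroup.center L).index)⁻¹ := by rw [this]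
      _ = 1 := by group
  rw [hperf] at h1
  have : g ∈ (MonoidHom.transferCenterPow L).ker := h1 (Subgroup.mem_top g)
  rw [MonoidHom.mem_ker] at this
  have := congrArg Subtype.val this
  simpa using this

/-- Let L be a finite quasisimple group (perfect with L/Z(L) simple). Then every prime dividing the order of the centre Z(L) also divides the order of L/Z(L). -/
theorem result {L : Type*} [Group L] [Finite L] (hL : Cfsg.IsQuasisimple L)
    (p : ℕ) (hp : p.Prime) (hdiv : p ∣ Nat.card (Subgroup.center L)) : p ∣ (Subgroup.center L).index := by
  have hperf : commutator L = ⊤ := hL.1.commutator_eq_top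
  have : Fact p.Prime := ⟨hp⟩
  obtain ⟨z, hz⟩ := exists_prime_orderOf_dvd_card' p hdiv
  have hz' : orderOf (z : L) = p := by rw [Subgroup.orderOf_coe]; exact hz
  rw [← hz']
  exact orderOf_dvd_of_pow_eq_one (pow_index_center_eq_one_of_perfect hperf _)

end Cfsg.Agent.S4168
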