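import Cfsg.Statements.S4169
import Cfsg.Agent.Helper4.MinClassCentral
import Cfsg.Agent.Helper5.SCN

set_option autoImplicit false
open Cfsg
open scoped commutatorElement

namespace Cfsg.Agent.S4169

/-- Let P be a finite p-group whose conjugacy classes have exactly two sizes (1 and one other value). Then P has nilpotency class at most 3. -/
theorem result {P : Type*} [Group P] [Finite P] {p : ℕ} [Fact p.Prime] (hP : IsPGroup p P)
    (m : ℕ) (hm : 1 < m) (h : ∀ x : P, (Subgroup.centralizer ({x} : Set P)).index = 1 ∨ (Subgroup.centralizer ({x} : Set P)).index = m) :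
    upperCentralSeries P 3 = ⊤ := by
  classical
  obtain ⟨A, hAn, hAc, -, -, hCA⟩ := Cfsg.Agent.Helper5.exists_scn_ge hP (⊤ : Subgroup P) (⊥ : Subgroup P) bot_le
    (by
      refine ⟨⟨?_⟩⟩
      intro a b
      have ha : a = 1 := Subsingleton.elim _ _
      have hb : b = 1 := Subsingleton.elim _ _
      rw [ha, hb])
  rw [top_inf_eq] at hCA
  have hmin : ∀ y : P, 1 < (Subgroup.centralizer ({y} : Set P)).index →
      m ≤ (Subgroup.centralizer ({y} : Set P)).index := by
    intro y hy
    rcases h y with h1 | h1
    · omega
    · exact h1.ge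
  have hall : ∀ g ∈ (⊤ : Subgroup P), ∀ a ∈ A, ⁅a, g⁆ ∈ Subgroup.center P := by
    intro g _ a ha
    rcases h g with h1 | h1
    · rw [Subgroup.index_eq_one] at h1
      have hxc : ∀ k : P, k * g = g * k := by
        intro k
        have : k ∈ Subgroup.centralizer ({g} : Set P) := by rw [h1]; trivial
        exact Subgroup.mem_centralizer_singleton_iff.1 this
      have : ⁅a, g⁆ = 1 := by
        rw [commutatorElement_def, hxc a]; group
      rw [this]; exact Subgroup.one_mem _
    · exact Cfsg.Agent.Helper4.MinClassCentral.commutator_mem_center_of_min_class A hAc m g h1 hmin a ha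
  have hMA := Cfsg.Agent.Helper4.MinClassCentral.commutator_le_of_commutator_le_center A ⊤ hCA hall
  apply Cfsg.Agent.Helper4.MinClassCentral.upperCentralSeries_three_eq_top A
  · intro u v
    exact hMA (Subgroup.commutator_mem_commutator (Subgroup.mem_top u) (Subgroup.mem_top v))
  · intro t ht y
    exact hall y (Subgroup.mem_top y) t ht

end Cfsg.Agent.S4169
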