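import Mathlib
import Cfsg.Statements.S4172
import Cfsg.Agent.Helper3.TwoGenD
-- import your own Cfsg.Agent.* helpers here

set_option autoImplicit false
open Cfsg

namespace Cfsg.Agent.S4172

/-- Let p be a prime and G a finite group with a non-commutative Sylow p-subgroup P whose Frattini subgroup has index p² in P (P is generated by two elements). Suppose G has no nontrivial normal subgroup of order prime to p and the Frattini subgroup of P contains no nontrivial normal subgroup of G. Then the generalized Fitting subgroup F*(G) is the unique minimal normal subgroup of G, the image of P in G/F*(G) is cyclic, and if F*(G) is not commutative then P permutes the components of G transitively by conjugation. -/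
theorem result {G : Type*} [Group G] [Finite G] (p : ℕ) [Fact p.Prime] (P : Sylow p G) (hna : ¬ IsMulCommutative (P : Subgroup G)) (hgen : (frattini ↥(P : Subgroup G)).index = p ^ 2) (hcore : Cfsg.pPrimeCore p G = ⊥) (hfrat : ((frattini ↥(P : Subgroup G)).map (P : Subgroup G).subtype).normalCore = ⊥) [hFn : (Cfsg.generalizedFittingSubgroup G).Normal] :
    (Cfsg.generalizedFittingSubgroup G ≠ ⊥ ∧ ∀ K : Subgroup G, K.Normal → K ≠ ⊥ → Cfsg.generalizedFittingSubgroup G ≤ K) ∧
      IsCyclic ↥((P : Subgroup G).map (QuotientGroup.mk' (Cfsg.generalizedFittingSubgroup G))) ∧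
      (¬ IsMulCommutative (Cfsg.generalizedFittingSubgroup G) → ∀ K L : Subgroup G, Cfsg.IsComponent K → Cfsg.IsComponent L → ∃ x ∈ (P : Subgroup G), L = K.map (MulAut.conj x).toMonoidHom) := by
  have h : Cfsg.Agent.Helper3.TwoGen.Hyp P := ⟨hna, hgen, hcore, hfrat⟩
  obtain ⟨M, hMn, hMne, hleast⟩ := Cfsg.Agent.Helper3.TwoGen.exists_least h
  haveI := hMn
  have hFne := Cfsg.Agent.Helper3.TwoGen.gfit_ne_bot h
  have hMF : M ≤ Cfsg.generalizedFittingSubgroup G := hleast _ hFn hFne
  have hFM : Cfsg.generalizedFittingSubgroup G ≤ M := by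
    by_cases hab : ∀ a ∈ M, ∀ b ∈ M, a * b = b * a
    · exact Cfsg.Agent.Helper3.TwoGen.gfit_le_of_abelian h M hMne hleast hab
    · exact (Cfsg.Agent.Helper3.TwoGen.gfit_le_of_nonabelian M hMne hleast hab).2.2
  have hFeq : Cfsg.generalizedFittingSubgroup G = M := le_antisymm hFM hMF
  refine ⟨⟨hFne, fun K hKn hKne => hFM.trans (hleast K hKn hKne)⟩, ?_, ?_⟩
  · exact Cfsg.Agent.Helper3.TwoGen.cyclic_image h (Cfsg.generalizedFittingSubgroup G) hFne
  · intro hnc K L hK hL
    have hna' : ¬ ∀ a ∈ M, ∀ b ∈ M, a * b = b * a := by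
      intro hab
      apply hnc
      rw [hFeq]
      exact ⟨⟨fun a b => Subtype.ext (hab a a.2 b b.2)⟩⟩
    exact Cfsg.Agent.Helper3.TwoGen.transitive_on_components h M hMne hleast hna' K L hK hL


end Cfsg.Agent.S4172
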