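import Cfsg.Statements.S4176
import Cfsg.Agent.Helper4.OrbitSpanC

set_option autoImplicit false
open Cfsg

namespace Cfsg.Agent.S4176

/-- Let k be a field of prime characteristic p, H a finite p-soluble group and ρ a k-linear representation of H on V. Let a be a vector that is fixed by some Sylow p-subgroup of H and whose H-orbit spans V. Then the space of H-fixed vectors has dimension at most 1, and every vector b whose H-orbit has size coprime to the size of the orbit of a is fixed by H. -/
theorem result {k V H : Type*} [Field k] (p : ℕ) [Fact p.Prime] [CharP k p] [AddCommGroup V] [Module k V]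
    [Group H] [Finite H] (hsol : Cfsg.IsPSolvable p H) (ρ : Representation k H V) (a : V)
    (hfix : ∃ P : Sylow p H, ∀ x : H, x ∈ (P : Subgroup H) → ρ x a = a)
    (hspan : Submodule.span k {u : V | ∃ h : H, ρ h a = u} = ⊤) :
    Module.finrank k ρ.invariants ≤ 1 ∧
    ∀ b : V, (Nat.card {u : V | ∃ h : H, ρ h a = u}).Coprime (Nat.card {u : V | ∃ h : H, ρ h b = u}) → ∀ h : H, ρ h b = b := by
  obtain ⟨e, he, hmain⟩ := Cfsg.Agent.Helper4.fixed_eq_smul_of_isPSolvable p ρ a hfix hspan
  refine ⟨?_, ?_⟩
  · have hle : ρ.invariants ≤ Submodule.span k {e} := by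
      intro b hb
      rw [Representation.mem_invariants] at hb
      have hsol : Cfsg.IsPSolvable p (⊤ : Subgroup H) :=
        Cfsg.Agent.Helper4.isPSolvable_subgroup hsol ⊤
      obtain ⟨μ, hμ⟩ := hmain ⊤ hsol (by rw [Subgroup.index_top]; exact Nat.coprime_one_right _) b
        (fun c _ => hb c)
      rw [Submodule.mem_span_singleton]
      exact ⟨μ, hμ.symm⟩
    calc Module.finrank k ρ.invariants ≤ Module.finrank k (Submodule.span k {e}) :=
          Submodule.finrank_mono hle
      _ ≤ 1 := by
          have := finrank_span_le_card (R := k) ({e} : Set V)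
          simpa using this
  · intro b hcop h
    have hsolC : Cfsg.IsPSolvable p (Cfsg.Agent.Helper4.repStabilizer ρ b) :=
      Cfsg.Agent.Helper4.isPSolvable_subgroup hsol _
    rw [← Cfsg.Agent.Helper4.index_repStabilizer ρ b] at hcop
    obtain ⟨μ, hμ⟩ := hmain _ hsolC hcop b (fun c hc => hc)
    rw [hμ, map_smul, he]

end Cfsg.Agent.S4176
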