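import Cfsg.Statements.S4177
import Cfsg.Agent.Helper4.CyclicModule

set_option autoImplicit false
open Cfsg

namespace Cfsg.Agent.S4177

/-- Let k be a field whose characteristic does not divide the order of the finite group H (for instance a field of characteristic zero), and ρ a k-linear representation of H on V. Let a be a vector whose H-orbit spans V. Then the space of H-fixed vectors has dimension at most 1, and every vector b whose H-orbit has size coprime to the size of the orbit of a is fixed by H. -/
theorem result {k V H : Type*} [Field k] [AddCommGroup V] [Module k V] [Group H] [Finite H]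
    (hchar : ¬ ringChar k ∣ Nat.card H) (ρ : Representation k H V) (a : V)
    (hspan : Submodule.span k {u : V | ∃ h : H, ρ h a = u} = ⊤) :
    Module.finrank k ρ.invariants ≤ 1 ∧
    ∀ b : V, (Nat.card {u : V | ∃ h : H, ρ h a = u}).Coprime (Nat.card {u : V | ∃ h : H, ρ h b = u}) → ∀ h : H, ρ h b = b := by
  classical
  letI : Fintype H := Fintype.ofFinite H
  have hHk : (Fintype.card H : k) ≠ 0 := by
    intro h0
    apply hchar
    rw [Nat.card_eq_fintype_card]
    exact (ringChar.spec k _).mp h0
  have hspan' : Submodule.span k (Set.range fun g : H => ρ g a) = ⊤ := hspan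
  constructor
  · have hle : ρ.invariants ≤ Submodule.span k {∑ g : H, ρ g a} := fun v hv =>
      Cfsg.Agent.Helper4.invariant_mem_span_sum hHk ρ a hspan' v hv
    calc Module.finrank k ρ.invariants
        ≤ Module.finrank k (Submodule.span k ({∑ g : H, ρ g a} : Set V)) :=
          Submodule.finrank_mono hle
      _ ≤ 1 := (finrank_span_le_card _).trans (by simp)
  · intro b hcop
    letI act : MulAction H V := MulAction.compHom V (ρ : H →* Module.End k V)
    have hsmul : ∀ (h : H) (v : V), h • v = ρ h v := fun h v => rfl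
    obtain ⟨Sa, hSa⟩ : ∃ S : Subgroup H, S = MulAction.stabilizer H a := ⟨_, rfl⟩
    obtain ⟨Sb, hSb⟩ : ∃ S : Subgroup H, S = MulAction.stabilizer H b := ⟨_, rfl⟩
    have hOa : Nat.card {u : V | ∃ h : H, ρ h a = u} = Sa.index := by
      rw [hSa, MulAction.index_stabilizer, ← Nat.card_coe_set_eq]; rfl
    have hOb : Nat.card {u : V | ∃ h : H, ρ h b = u} = Sb.index := by
      rw [hSb, MulAction.index_stabilizer, ← Nat.card_coe_set_eq]; rfl
    rw [hOa, hOb] at hcop
    have hrel := Cfsg.Agent.Helper4.relIndex_eq_index_of_coprime Sa Sb hcop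
    have hstab : MulAction.stabilizer Sb a = Sa.subgroupOf Sb := by
      ext x
      rw [MulAction.mem_stabilizer_iff, Subgroup.mem_subgroupOf, hSa, MulAction.mem_stabilizer_iff]
      rfl
    have horb : MulAction.orbit Sb a = MulAction.orbit H a := by
      apply Set.eq_of_subset_of_ncard_le
      · rintro _ ⟨x, rfl⟩; exact ⟨x.1, rfl⟩
      · rw [← MulAction.index_stabilizer, ← MulAction.index_stabilizer, hstab, ← hSa]
        exact hrel.ge
      · exact Set.finite_range _
    have htrans : ∀ h : H, ∃ x : Sb, ρ (x : H) a = ρ h a := by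
      intro h
      have : h • a ∈ MulAction.orbit Sb a := by rw [horb]; exact ⟨h, rfl⟩
      obtain ⟨x, hx⟩ := this
      exact ⟨x, hx⟩
    letI : Fintype Sb := Fintype.ofFinite _
    have hspanb : Submodule.span k (Set.range fun g : Sb => (ρ.comp Sb.subtype) g a) = ⊤ := by
      rw [← hspan']
      refine congrArg _ ?_
      apply Set.ext
      intro u
      constructor
      · rintro ⟨x, rfl⟩; exact ⟨x.1, rfl⟩
      · rintro ⟨h, rfl⟩
        obtain ⟨x, hx⟩ := htrans h
        exact ⟨x, hx⟩
    have hSbk : (Fintype.card Sb : k) ≠ 0 := by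
      intro h0
      apply hchar
      have h1 : ringChar k ∣ Fintype.card Sb := (ringChar.spec k _).mp h0
      rw [← Nat.card_eq_fintype_card] at h1
      exact h1.trans (Subgroup.card_subgroup_dvd_card Sb)
    have hb : ∀ g : Sb, (ρ.comp Sb.subtype) g b = b := by
      intro g
      have h1 : (g : H) ∈ MulAction.stabilizer H b := hSb ▸ g.2
      rw [MulAction.mem_stabilizer_iff] at h1
      exact h1
    have hbmem := Cfsg.Agent.Helper4.invariant_mem_span_sum hSbk (ρ.comp Sb.subtype) a hspanb b hb
    obtain ⟨c, hc⟩ := Submodule.mem_span_singleton.mp hbmem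
    have hTH : ∀ h : H, ρ h (∑ g : H, ρ g a) = ∑ g : H, ρ g a := by
      intro h
      simp only [map_sum]
      have h1 : ∀ g : H, ρ h (ρ g a) = ρ (h * g) a := fun g => by rw [map_mul]; rfl
      simp only [h1]
      exact Equiv.sum_comp (Equiv.mulLeft h) (fun g => ρ g a)
    have hdouble : (Fintype.card H : k) • (∑ x : Sb, ρ (x : H) a) =
        (Fintype.card Sb : k) • (∑ g : H, ρ g a) := by
      have e1 : ∑ g : H, ∑ x : Sb, ρ ((x : H) * g) a =
          (Fintype.card H) • (∑ x : Sb, ρ (x : H) a) := by
        rw [← Finset.card_univ, ← Finset.sum_const]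
        apply Finset.sum_congr rfl
        intro g _
        obtain ⟨y, hy⟩ := htrans g
        have : ∀ x : Sb, ρ ((x : H) * g) a = ρ ((x * y : Sb) : H) a := by
          intro x
          rw [map_mul, Module.End.mul_apply, ← hy, ← Module.End.mul_apply, ← map_mul]
          rfl
        simp only [this]
        exact Equiv.sum_comp (Equiv.mulRight y) (fun x : Sb => ρ (x : H) a)
      have e2 : ∑ g : H, ∑ x : Sb, ρ ((x : H) * g) a =
          (Fintype.card Sb) • (∑ g : H, ρ g a) := by
        rw [Finset.sum_comm, ← Finset.card_univ, ← Finset.sum_const]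
        apply Finset.sum_congr rfl
        intro x _
        exact Equiv.sum_comp (Equiv.mulLeft (x : H)) (fun g => ρ g a)
      rw [Nat.cast_smul_eq_nsmul, Nat.cast_smul_eq_nsmul, ← e1, e2]
    have hTb : (∑ x : Sb, ρ (x : H) a) =
        ((Fintype.card H : k)⁻¹ * (Fintype.card Sb : k)) • (∑ g : H, ρ g a) := by
      rw [mul_smul, ← hdouble, smul_smul, inv_mul_cancel₀ hHk, one_smul]
    intro h
    have hc' : b = c • (∑ x : Sb, ρ (x : H) a) := hc.symm
    rw [hc', hTb, map_smul, map_smul, hTH]

end Cfsg.Agent.S4177
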