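import Cfsg.Statements.S4178


set_option autoImplicit false
open Cfsg

namespace Cfsg.Agent.S4178

open MulAction

/-- if the stabilizer of `x` lies in `R`, the index of `R` is at most the orbit size. -/
theorem index_le_card_orbit {H X : Type*} [Group H] [Finite H] [MulAction H X] (R : Subgroup H)
    (x : X) (hstab : stabilizer H x ≤ R) : R.index ≤ Nat.card (orbit H x) := by
  have h1 : (stabilizer H x).index = Nat.card (orbit H x) := by
    rw [index_stabilizer, Nat.card_coe_set_eq]
  rw [← h1]
  apply Nat.le_of_dvd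
  · exact Nat.pos_of_ne_zero Subgroup.index_ne_zero_of_finite
  · exact Subgroup.index_dvd_of_le hstab

/-- the induced action on the quotient by an invariant subspace -/
@[reducible] def quotAction {F V : Type*} [Field F] [AddCommGroup V] [Module F V]
    (H : Subgroup (V ≃ₗ[F] V)) (W : Submodule F V) (hW : ∀ h ∈ H, ∀ w ∈ W, h w ∈ W) :
    MulAction H (V ⧸ W) where
  smul h x := W.mapQ W ((h : V ≃ₗ[F] V) : V →ₗ[F] V) (fun w hw => hW h h.2 w hw) x
  one_smul x := by
    induction x using Submodule.Quotient.induction_on with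
    | H v => rfl
  mul_smul a b x := by
    induction x using Submodule.Quotient.induction_on with
    | H v => rfl

theorem quotAction_mk {F V : Type*} [Field F] [AddCommGroup V] [Module F V]
    (H : Subgroup (V ≃ₗ[F] V)) (W : Submodule F V) (hW : ∀ h ∈ H, ∀ w ∈ W, h w ∈ W)
    (h : H) (v : V) :
    (quotAction H W hW).smul h (Submodule.Quotient.mk v) = Submodule.Quotient.mk ((h : V ≃ₗ[F] V) v) :=
  rfl

/-- Let F be a finite field with q elements, V a non-zero finite-dimensional F-space of dimension d, H a group of invertible linear maps of V, and R the subgroup of H generated by the elements of H that fix some non-zero vector (have eigenvalue 1). Then the index of R in H is at most q^d − 1; and if H leaves invariant some proper non-zero subspace, the index is at most q^(d/2) − 1. -/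
theorem result {F V : Type*} [Field F] [Fintype F] [AddCommGroup V] [Module F V] [FiniteDimensional F V] [Nontrivial V]
    (H : Subgroup (V ≃ₗ[F] V)) :
    (Subgroup.closure {h : ↥H | ∃ v : V, v ≠ 0 ∧ (h : V ≃ₗ[F] V) v = v}).index ≤ Fintype.card F ^ Module.finrank F V - 1 ∧
    ((∃ W : Submodule F V, W ≠ ⊥ ∧ W ≠ ⊤ ∧ ∀ h ∈ H, ∀ w ∈ W, h w ∈ W) →
      ((Subgroup.closure {h : ↥H | ∃ v : V, v ≠ 0 ∧ (h : V ≃ₗ[F] V) v = v}).index : ℝ) ≤ Real.sqrt ((Fintype.card F : ℝ) ^ Module.finrank F V) - 1) := by
  classical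
  have hVfin : Finite V := Module.finite_of_finite F
  have : Fintype V := Fintype.ofFinite V
  have hHfin : Finite (V ≃ₗ[F] V) := Finite.of_injective (fun f => (f : V → V)) (fun f g h => by
    ext x; exact congrFun h x)
  set R := Subgroup.closure {h : ↥H | ∃ v : V, v ≠ 0 ∧ (h : V ≃ₗ[F] V) v = v} with hR
  have hq : 1 < Fintype.card F := Fintype.one_lt_card
  -- stabilizers of nonzero vectors lie in R
  have hstabV : ∀ v : V, v ≠ 0 → stabilizer H v ≤ R := by
    intro v hv h hh
    apply Subgroup.subset_closure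
    exact ⟨v, hv, hh⟩
  -- elements outside R have no nonzero fixed vectors
  have hnofix : ∀ h : H, h ∉ R → ∀ v : V, (h : V ≃ₗ[F] V) v = v → v = 0 := by
    intro h hh v hv
    by_contra hne
    exact hh (Subgroup.subset_closure ⟨v, hne, hv⟩)
  have hcardV : Nat.card V = Fintype.card F ^ Module.finrank F V := by
    rw [Nat.card_eq_fintype_card]; exact Module.card_eq_pow_finrank
  -- general bound: invariant subspace `W ≠ ⊥`
  have hboundW : ∀ W : Submodule F V, W ≠ ⊥ → (∀ h ∈ H, ∀ w ∈ W, h w ∈ W) →
      R.index + 1 ≤ Fintype.card F ^ Module.finrank F W := by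
    intro W hWbot hWinv
    obtain ⟨w, hwW, hw0⟩ := (Submodule.ne_bot_iff W).mp hWbot
    have h1 := index_le_card_orbit R w (hstabV w hw0)
    have hsub : orbit H w ⊆ ((W : Set V) \ {0}) := by
      rintro _ ⟨h, rfl⟩
      refine ⟨hWinv h h.2 w hwW, ?_⟩
      simp only [Set.mem_singleton_iff]
      intro h0
      apply hw0
      have : (h : V ≃ₗ[F] V) w = 0 := h0
      exact (LinearEquiv.map_eq_zero_iff _).mp this
    have h2 : Nat.card (orbit H w) ≤ ((W : Set V) \ {0}).ncard := by
      rw [Nat.card_coe_set_eq]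
      exact Set.ncard_le_ncard hsub
    have h3 : ((W : Set V) \ {0}).ncard = (W : Set V).ncard - 1 := by
      rw [Set.ncard_sdiff_singleton_of_mem W.zero_mem]
    have h4 : (W : Set V).ncard = Fintype.card F ^ Module.finrank F W := by
      rw [← Nat.card_coe_set_eq]
      have : Fintype W := Fintype.ofFinite W
      have : Nat.card W = Fintype.card W := Nat.card_eq_fintype_card
      rw [show Nat.card (W : Set V) = Nat.card W from rfl, this]
      exact Module.card_eq_pow_finrank
    have h5 : 0 < (W : Set V).ncard := by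
      rw [h4]; positivity
    omega
  constructor
  · have htop := hboundW ⊤ top_ne_bot (fun _ _ _ _ => Submodule.mem_top)
    rw [finrank_top] at htop
    omega
  · rintro ⟨W, hWbot, hWtop, hWinv⟩
    have hb1 := hboundW W hWbot hWinv
    -- the quotient action
    let _ := quotAction H W hWinv
    obtain ⟨v, hvW⟩ : ∃ v : V, v ∉ W := by
      by_contra hall
      push Not at hall
      exact hWtop (eq_top_iff.mpr (fun x _ => hall x))
    have hstabQ : stabilizer H (Submodule.Quotient.mk v : V ⧸ W) ≤ R := by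
      intro h hh
      by_contra hnot
      have hfix : (Submodule.Quotient.mk ((h : V ≃ₗ[F] V) v) : V ⧸ W) = Submodule.Quotient.mk v := hh
      rw [Submodule.Quotient.eq] at hfix
      -- the map w ↦ h w - w on W is injective hence surjective
      let φ : W → W := fun w => ⟨(h : V ≃ₗ[F] V) w - w, W.sub_mem (hWinv h h.2 w w.2) w.2⟩
      have hφinj : Function.Injective φ := by
        intro a b hab
        have h1 : (h : V ≃ₗ[F] V) a - a = (h : V ≃ₗ[F] V) b - b := congrArg Subtype.val hab
        have h2 : (h : V ≃ₗ[F] V) ((a : V) - b) = (a : V) - b := by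
          rw [map_sub]
          have : (h : V ≃ₗ[F] V) a - (h : V ≃ₗ[F] V) b - ((a : V) - b) =
            ((h : V ≃ₗ[F] V) a - a) - ((h : V ≃ₗ[F] V) b - b) := by abel
          have h3 : (h : V ≃ₗ[F] V) a - (h : V ≃ₗ[F] V) b - ((a : V) - b) = 0 := by
            rw [this, h1, sub_self]
          exact sub_eq_zero.mp h3
        have h3 := hnofix h hnot _ h2
        exact Subtype.ext (sub_eq_zero.mp h3)
      have hφsurj : Function.Surjective φ := Finite.injective_iff_surjective.mp hφinj
      obtain ⟨w, hw⟩ := hφsurj ⟨(h : V ≃ₗ[F] V) v - v, hfix⟩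
      have h1 : (h : V ≃ₗ[F] V) w - w = (h : V ≃ₗ[F] V) v - v := congrArg Subtype.val hw
      have h2 : (h : V ≃ₗ[F] V) (v - w) = v - w := by
        rw [map_sub]
        have : (h : V ≃ₗ[F] V) v - (h : V ≃ₗ[F] V) w - (v - w) =
            ((h : V ≃ₗ[F] V) v - v) - ((h : V ≃ₗ[F] V) w - w) := by abel
        have h3 : (h : V ≃ₗ[F] V) v - (h : V ≃ₗ[F] V) w - (v - w) = 0 := by
          rw [this, h1, sub_self]
        exact sub_eq_zero.mp h3
      have h3 := hnofix h hnot _ h2
      apply hvW
      rw [sub_eq_zero.mp h3]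
      exact w.2
    have h1 := index_le_card_orbit R (Submodule.Quotient.mk v : V ⧸ W) hstabQ
    have hsub : orbit H (Submodule.Quotient.mk v : V ⧸ W) ⊆ ((Set.univ : Set (V ⧸ W)) \ {0}) := by
      rintro _ ⟨h, rfl⟩
      refine ⟨trivial, ?_⟩
      simp only [Set.mem_singleton_iff]
      intro h0
      have h0' : (Submodule.Quotient.mk ((h : V ≃ₗ[F] V) v) : V ⧸ W) = 0 := h0
      rw [Submodule.Quotient.mk_eq_zero] at h0'
      apply hvW
      have h2 := hWinv (h⁻¹ : H) (h⁻¹).2 _ h0'
      have h3 : ((h⁻¹ : H) : V ≃ₗ[F] V) ((h : V ≃ₗ[F] V) v) = v := by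
        have : ((h⁻¹ : H) : V ≃ₗ[F] V) = ((h : V ≃ₗ[F] V))⁻¹ := rfl
        rw [this]
        exact LinearEquiv.symm_apply_apply _ v
      rw [h3] at h2
      exact h2
    have hQfin : Finite (V ⧸ W) := Module.finite_of_finite F
    have : Fintype (V ⧸ W) := Fintype.ofFinite _
    have h2 : Nat.card (orbit H (Submodule.Quotient.mk v : V ⧸ W)) ≤
        ((Set.univ : Set (V ⧸ W)) \ {0}).ncard := by
      rw [Nat.card_coe_set_eq]
      exact Set.ncard_le_ncard hsub
    have h3 : ((Set.univ : Set (V ⧸ W)) \ {0}).ncard = Nat.card (V ⧸ W) - 1 := by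
      rw [Set.ncard_sdiff_singleton_of_mem (Set.mem_univ _), Set.ncard_univ]
    have h4 : Nat.card (V ⧸ W) = Fintype.card F ^ Module.finrank F (V ⧸ W) := by
      rw [Nat.card_eq_fintype_card]; exact Module.card_eq_pow_finrank
    have h5 : 0 < Nat.card (V ⧸ W) := Nat.card_pos
    have hb2 : R.index + 1 ≤ Fintype.card F ^ Module.finrank F (V ⧸ W) := by omega
    have hdim := W.finrank_quotient_add_finrank
    have hprod : (R.index + 1) ^ 2 ≤ Fintype.card F ^ Module.finrank F V := by
      rw [← hdim, pow_add, sq]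
      exact Nat.mul_le_mul hb2 hb1
    have hreal : ((R.index : ℝ) + 1) ^ 2 ≤ (Fintype.card F : ℝ) ^ Module.finrank F V := by
      exact_mod_cast hprod
    have := Real.le_sqrt_of_sq_le hreal
    linarith

end Cfsg.Agent.S4178
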