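import Mathlib
import Cfsg.Statements.S4194
import Cfsg.Agent.Helper3.CamHerF
-- import your own Cfsg.Agent.* helpers here

set_option autoImplicit false
open Cfsg

namespace Cfsg.Agent.S4194

/-- A finite group G has commutative Sylow 2-subgroups if and only if every 2-element of G (element of order a power of 2) is 2-central, that is, its centralizer contains a Sylow 2-subgroup of G. -/
theorem result {G : Type*} [Group G] [Finite G] (P : Sylow 2 G) :
    IsMulCommutative (P : Subgroup G) ↔ ∀ x : G, (∃ k : ℕ, orderOf x = 2 ^ k) → (∃ Q : Sylow 2 G, (Q : Subgroup G) ≤ Subgroup.centralizer ({x} : Set G)) := by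
  constructor
  · intro hP x hx
    have hcomm : ∀ a b : G, a ∈ P → b ∈ P → a * b = b * a := by
      intro a b ha hb
      have := hP.is_comm.comm (⟨a, ha⟩ : (P : Subgroup G)) ⟨b, hb⟩
      exact congrArg Subtype.val this
    have hT := Cfsg.Agent.Helper3.CamHer.T2_of_orderOf hx
    obtain ⟨Q, hQ⟩ := hT.isPGroup.exists_le_sylow
    obtain ⟨k, rfl⟩ := MulAction.exists_smul_eq G P Q
    refine ⟨k • P, ?_⟩
    intro q hq
    rw [Subgroup.mem_centralizer_singleton_iff]
    have hq' : q ∈ k • P := hq
    have hx' : x ∈ k • P := hQ (Subgroup.mem_zpowers x)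
    rw [Cfsg.Agent.Helper3.CamHer.mem_smul_iff] at hq' hx'
    have := hcomm _ _ hq' hx'
    have e1 : q * x = k * ((k⁻¹ * q * k) * (k⁻¹ * x * k)) * k⁻¹ := by group
    rw [e1, this]; group
  · intro h
    have hTC := Cfsg.Agent.Helper3.CamHer.TC_of_le h
    refine ⟨⟨fun a b => ?_⟩⟩
    apply Subtype.ext
    exact Cfsg.Agent.Helper3.CamHer.camina_herzog hTC P a b a.2 b.2


end Cfsg.Agent.S4194
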