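import Cfsg.Statements.S4195
import Cfsg.Agent.Helper4.ClassSize

set_option autoImplicit false
open Cfsg

namespace Cfsg.Agent.S4195

open Cfsg.Agent.Helper4

/-- An element with odd class size that is conjugate to its inverse squares to one. -/
theorem sq_eq_one_of_real_of_odd_class {G : Type*} [Group G] [Finite G] (x : G)
    (hodd : ¬ 2 ∣ (Subgroup.centralizer ({x} : Set G)).index) (hreal : IsConj x x⁻¹) : x ^ 2 = 1 := by
  classical
  rw [index_centralizer_eq_card_conj] at hodd
  have : Fintype {y : G // IsConj x y} := Fintype.ofFinite _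
  rw [Nat.card_eq_fintype_card] at hodd
  -- inversion on the class
  have hinv : ∀ y : G, IsConj x y → IsConj x y⁻¹ := by
    intro y hy
    have h1 : IsConj x⁻¹ y⁻¹ := by
      obtain ⟨c, hc⟩ := isConj_iff.mp hy
      exact isConj_iff.mpr ⟨c, by rw [← hc]; group⟩
    exact hreal.trans h1
  let σ : Equiv.Perm {y : G // IsConj x y} :=
    { toFun := fun y => ⟨y.1⁻¹, hinv y.1 y.2⟩
      invFun := fun y => ⟨y.1⁻¹, hinv y.1 y.2⟩
      left_inv := fun y => by simp
      right_inv := fun y => by simp }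
  have hσ : σ ^ 2 ^ 1 = 1 := by
    ext y
    simp [σ, pow_two]
  have : Fact (Nat.Prime 2) := ⟨Nat.prime_two⟩
  obtain ⟨a, ha⟩ := Equiv.Perm.exists_fixed_point_of_prime (p := 2) (n := 1) hodd hσ
  have ha' : a.1⁻¹ = a.1 := congrArg Subtype.val ha
  have ha2 : a.1 ^ 2 = 1 := by
    rw [pow_two]
    calc a.1 * a.1 = a.1⁻¹ * a.1 := by rw [ha']
      _ = 1 := inv_mul_cancel _
  obtain ⟨c, hc⟩ := isConj_iff.mp a.2
  have : x = c⁻¹ * a.1 * c := by rw [← hc]; group
  rw [this]
  calc (c⁻¹ * a.1 * c) ^ 2 = c⁻¹ * a.1 ^ 2 * c := by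
        rw [pow_two, pow_two]; group
    _ = 1 := by rw [ha2]; group

/-- Let x be a non-identity element of a finite group G whose centralizer contains a Sylow 2-subgroup of G. If x is conjugate to its inverse, then x has order 2. -/
theorem result {G : Type*} [Group G] [Finite G] (x : G) (hx : x ≠ 1) (P : Sylow 2 G) (hP : (P : Subgroup G) ≤ Subgroup.centralizer ({x} : Set G)) (hreal : IsConj x x⁻¹) : orderOf x = 2 := by
  have : Fact (Nat.Prime 2) := ⟨Nat.prime_two⟩
  have hodd : ¬ 2 ∣ (Subgroup.centralizer ({x} : Set G)).index := by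
    intro h
    exact P.not_dvd_index (h.trans (Subgroup.index_dvd_of_le hP))
  exact orderOf_eq_prime (sq_eq_one_of_real_of_odd_class x hodd hreal) hx

end Cfsg.Agent.S4195
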