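import Cfsg.Statements.S4196
import Cfsg.Agent.Helper4.SylowBasic
import Cfsg.Agent.S4195

set_option autoImplicit false
open Cfsg

namespace Cfsg.Agent.S4196

open Cfsg.Agent.Helper4
open scoped Pointwise

/-- A finite group G has elementary abelian Sylow 2-subgroups (commutative with every element squaring to the identity) if and only if every 2-element of G has a Sylow 2-subgroup in its centralizer and is conjugate to its inverse. -/
theorem result {G : Type*} [Group G] [Finite G] (P : Sylow 2 G) :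
    (IsMulCommutative (P : Subgroup G) ∧ ∀ x ∈ (P : Subgroup G), x ^ 2 = 1) ↔
      ∀ x : G, (∃ k : ℕ, orderOf x = 2 ^ k) → (∃ Q : Sylow 2 G, (Q : Subgroup G) ≤ Subgroup.centralizer ({x} : Set G)) ∧ IsConj x x⁻¹ := by
  have : Fact (Nat.Prime 2) := ⟨Nat.prime_two⟩
  constructor
  · rintro ⟨hcomm, hexp⟩ x hx
    obtain ⟨Q, hxQ⟩ := exists_sylow_mem_of_orderOf_eq_pow x hx
    obtain ⟨g, hg⟩ := sylow_exists_smul_eq P Q
    have hcomm' : ∀ a b : G, a ∈ (P : Subgroup G) → b ∈ (P : Subgroup G) → a * b = b * a := by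
      intro a b ha hb
      have := (isMulCommutative_iff.mp hcomm) ⟨a, ha⟩ ⟨b, hb⟩
      exact congrArg Subtype.val this
    have hxP : g⁻¹ * x * g ∈ (P : Subgroup G) := by
      rw [← hg] at hxQ
      exact (mem_sylow_smul_iff P g x).mp hxQ
    refine ⟨⟨Q, ?_⟩, ?_⟩
    · intro y hy
      have hyP : g⁻¹ * y * g ∈ (P : Subgroup G) := by
        have : y ∈ g • P := by rw [hg]; exact hy
        exact (mem_sylow_smul_iff P g y).mp this
      rw [Subgroup.mem_centralizer_iff]
      intro z hz
      rw [Set.mem_singleton_iff] at hz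
      subst hz
      have h := hcomm' _ _ hxP hyP
      have : z * y = g * ((g⁻¹ * z * g) * (g⁻¹ * y * g)) * g⁻¹ := by group
      rw [this, h]; group
    · have hx2 : (g⁻¹ * x * g) ^ 2 = 1 := hexp _ hxP
      have : x ^ 2 = 1 := by
        have h : (g⁻¹ * x * g) ^ 2 = g⁻¹ * x ^ 2 * g := by rw [pow_two, pow_two]; group
        rw [h] at hx2
        have : x ^ 2 = g * (g⁻¹ * x ^ 2 * g) * g⁻¹ := by group
        rw [this, hx2]; group
      have hinv : x⁻¹ = x := by
        rw [pow_two] at this
        exact inv_eq_of_mul_eq_one_left this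
      rw [hinv]
  · intro h
    have hexp : ∀ x ∈ (P : Subgroup G), x ^ 2 = 1 := by
      intro x hx
      by_cases hx1 : x = 1
      · rw [hx1]; simp
      · obtain ⟨⟨Q, hQ⟩, hreal⟩ := h x (orderOf_eq_pow_of_mem_pgroup _ P.isPGroup' x hx)
        have := Cfsg.Agent.S4195.result x hx1 Q hQ hreal
        rw [← this]; exact pow_orderOf_eq_one x
    refine ⟨?_, hexp⟩
    rw [isMulCommutative_iff]
    rintro ⟨a, ha⟩ ⟨b, hb⟩
    apply Subtype.ext
    change a * b = b * a
    have hab := hexp (a * b) (Subgroup.mul_mem _ ha hb)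
    have ha2 := hexp a ha
    have hb2 := hexp b hb
    rw [pow_two] at hab ha2 hb2
    have ha' : a⁻¹ = a := inv_eq_of_mul_eq_one_left ha2
    have hb' : b⁻¹ = b := inv_eq_of_mul_eq_one_left hb2
    have : (a * b)⁻¹ = a * b := inv_eq_of_mul_eq_one_left hab
    rw [mul_inv_rev, ha', hb'] at this
    exact this.symm

end Cfsg.Agent.S4196
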