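import Cfsg.Statements.S4203
import Cfsg.Agent.Helper4.SylowIndex
import Cfsg.Agent.Helper6.BurnsidePQ

set_option autoImplicit false
open Cfsg

namespace Cfsg.Agent.S4203

open Cfsg.Agent.Helper4


universe u

/-- number theory: if all prime factors of `n` are `≤ 3` then `n = 2^a * 3^b`. -/
theorem eq_two_pow_mul_three_pow (n : ℕ) (hn : n ≠ 0) (h : ∀ q : ℕ, q.Prime → q ∣ n → q ≤ 3) :
    ∃ a b : ℕ, n = 2 ^ a * 3 ^ b := by
  refine ⟨n.factorization 2, (n / 2 ^ n.factorization 2).primeFactorsList.length, ?_⟩
  have h1 : 2 ^ n.factorization 2 * (n / 2 ^ n.factorization 2) = n :=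
    Nat.ordProj_mul_ordCompl_eq_self n 2
  have hm0 : n / 2 ^ n.factorization 2 ≠ 0 := by
    intro h0
    rw [h0, mul_zero] at h1
    exact hn h1.symm
  have h2 : n / 2 ^ n.factorization 2 = 3 ^ (n / 2 ^ n.factorization 2).primeFactorsList.length := by
    apply Nat.eq_prime_pow_of_unique_prime_dvd hm0
    intro d hd hdvd
    have hdn : d ∣ n := hdvd.trans (Nat.ordCompl_dvd n 2)
    have hle := h d hd hdn
    have hne2 : d ≠ 2 := by
      intro h2
      rw [h2] at hdvd
      exact Nat.not_dvd_ordCompl Nat.prime_two hn hdvd
    have hge := hd.two_le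
    omega
  rw [← h2, h1]

theorem arith_aux (p q : ℕ) (hp : p.Prime) (hq : q.Prime) (hqp : q ≤ p)
    (h : q ≡ 1 [MOD p] ∨ q ^ 2 ≡ 1 [MOD p]) : p = 3 := by
  have hp2 := hp.two_le
  have hq2 := hq.two_le
  rcases h with h | h
  · exfalso
    rcases Nat.lt_or_ge q p with hlt | hge
    · have h1 : q % p = 1 % p := h
      rw [Nat.mod_eq_of_lt hlt, Nat.mod_eq_of_lt (by omega)] at h1
      omega
    · have : q = p := le_antisymm hqp hge
      subst this
      have h1 : q % q = 1 % q := h
      rw [Nat.mod_self, Nat.mod_eq_of_lt (by omega)] at h1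
      omega
  · have h1 : p ∣ q ^ 2 - 1 := (Nat.modEq_iff_dvd' (Nat.one_le_pow _ _ (by omega))).mp h.symm
    have h2 : q ^ 2 - 1 = (q - 1) * (q + 1) := by
      have : q ^ 2 = (q - 1) * (q + 1) + 1 := by
        obtain ⟨k, rfl⟩ : ∃ k, q = k + 1 := ⟨q - 1, by omega⟩
        simp only [Nat.add_sub_cancel]; ring
      omega
    rw [h2] at h1
    rcases (Nat.Prime.dvd_mul hp).mp h1 with h3 | h3
    · exfalso
      have := Nat.le_of_dvd (by omega) h3
      omega
    · obtain ⟨c, hc⟩ := h3
      have hc1 : c = 1 := by
        rcases Nat.lt_or_ge c 1 with h0 | h1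
        · have : c = 0 := by omega
          subst this; omega
        · rcases Nat.lt_or_ge c 2 with h2' | h2'
          · omega
          · exfalso
            have : p * 2 ≤ p * c := Nat.mul_le_mul_left p h2'
            omega
      subst hc1
      rw [mul_one] at hc
      -- q + 1 = p, both prime
      rcases hq.eq_two_or_odd with h4 | h4
      · omega
      · exfalso
        rcases hp.eq_two_or_odd with h5 | h5
        · omega
        · omega

theorem aux (n : ℕ) : ∀ (G : Type u) [Group G] [Finite G], Nat.card G = n →
    (∀ M : Subgroup G, IsCoatom M → ∃ p : ℕ, p.Prime ∧ (M.index = p ∨ M.index = p ^ 2)) →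
    Group.IsSolvable G := by
  induction n using Nat.strong_induction_on with
  | _ n ih =>
    intro G _ _ hn h
    by_cases hsub : Subsingleton G
    · infer_instance
    rw [not_subsingleton_iff_nontrivial] at hsub
    have hcard1 : 1 < Nat.card G := Finite.one_lt_card
    -- largest prime divisor p
    have hne : (Nat.card G).primeFactors.Nonempty := by
      rw [Nat.nonempty_primeFactors]; exact hcard1
    obtain ⟨p, hpmem, hpmax⟩ := Finset.exists_max_image (Nat.card G).primeFactors id hne
    have hp : p.Prime := Nat.prime_of_mem_primeFactors hpmem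
    have hpd : p ∣ Nat.card G := Nat.dvd_of_mem_primeFactors hpmem
    have hpmax' : ∀ q : ℕ, q.Prime → q ∣ Nat.card G → q ≤ p := by
      intro q hq hqd
      exact hpmax q (Nat.mem_primeFactors.mpr ⟨hq, hqd, Nat.card_pos.ne'⟩)
    have : Fact p.Prime := ⟨hp⟩
    obtain ⟨P⟩ : Nonempty (Sylow p G) := inferInstance
    by_cases hPn : (P : Subgroup G).Normal
    · -- quotient
      have hPsolv : Group.IsSolvable (P : Subgroup G) := by
        have : Group.IsNilpotent (P : Subgroup G) := P.isPGroup'.isNilpotent
        infer_instance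
      have hPbot : (P : Subgroup G) ≠ ⊥ := P.ne_bot_of_dvd_card hpd
      have hlt : Nat.card (G ⧸ (P : Subgroup G)) < n := by
        rw [← hn, ← Subgroup.index_eq_card]
        have h1 := (P : Subgroup G).card_mul_index
        have h2 : 1 < Nat.card (P : Subgroup G) := by
          rw [Subgroup.one_lt_card_iff_ne_bot]; exact hPbot
        have h3 : 0 < (P : Subgroup G).index := Nat.pos_of_ne_zero (Subgroup.index_ne_zero_of_finite)
        nlinarith
      have hQ : Group.IsSolvable (G ⧸ (P : Subgroup G)) := by
        apply ih _ hlt (G ⧸ (P : Subgroup G)) rfl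
        intro M' hM'
        have hco := isCoatom_comap_of_surjective (QuotientGroup.mk' (P : Subgroup G))
          (QuotientGroup.mk'_surjective _) M' hM'
        obtain ⟨q, hq, hidx⟩ := h _ hco
        rw [Subgroup.index_comap_of_surjective M' (QuotientGroup.mk'_surjective _)] at hidx
        exact ⟨q, hq, hidx⟩
      apply Group.isSolvable_of_ker_le_range (P : Subgroup G).subtype
        (QuotientGroup.mk' (P : Subgroup G))
      rw [QuotientGroup.ker_mk', Subgroup.range_subtype]
    · -- P not normal
      have hNtop : Subgroup.normalizer ((P : Subgroup G) : Set G) ≠ ⊤ := by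
        intro htop
        exact hPn (Subgroup.normalizer_eq_top_iff.mp htop)
      obtain ⟨M, hM, hNM⟩ := (eq_top_or_exists_le_coatom _).resolve_left hNtop
      have hmod := index_modEq_one_of_normalizer_le P M hNM
      obtain ⟨q, hq, hidx⟩ := h M hM
      have hqd : q ∣ Nat.card G := by
        have h1 : M.index ∣ Nat.card G := Subgroup.index_dvd_card M
        rcases hidx with h2 | h2
        · rw [h2] at h1; exact h1
        · rw [h2] at h1; exact (dvd_pow_self q two_ne_zero).trans h1
      have hqp := hpmax' q hq hqd
      have hp3 : p = 3 := by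
        apply arith_aux p q hp hq hqp
        rcases hidx with h2 | h2
        · left; rw [← h2]; exact hmod
        · right; rw [← h2]; exact hmod
      subst hp3
      obtain ⟨a, b, hab⟩ := eq_two_pow_mul_three_pow (Nat.card G) Nat.card_pos.ne' hpmax'
      exact Cfsg.Agent.Helper6.burnside_pq 2 3 a b Nat.prime_two Nat.prime_three hab

/-- A finite group in which every maximal subgroup has index a prime or the square of a prime is solvable. -/
theorem result {G : Type*} [Group G] [Finite G] (h : ∀ M : Subgroup G, IsCoatom M → ∃ p : ℕ, p.Prime ∧ (M.index = p ∨ M.index = p ^ 2)) : Group.IsSolvable G :=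
  aux _ G rfl h

end Cfsg.Agent.S4203
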