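import Cfsg.Statements.S4207
import Cfsg.Agent.Helper4.FrattiniAut

set_option autoImplicit false
open Cfsg

namespace Cfsg.Agent.S4207

/-- Let `P` be a group of order `p^n` whose Frattini subgroup has index `p^r`. Then any group of automorphisms of `P` each of which induces the identity on the Frattini quotient has order dividing `p^(r(n-r))`; in particular it is a `p`-group. -/
theorem result {P : Type*} [Group P] [Finite P] {p n r : ℕ} [Fact p.Prime] (hP : Nat.card P = p ^ n) (hr : (frattini P).index = p ^ r) (A : Subgroup (MulAut P)) (hA : ∀ α ∈ A, ∀ x : P, α x * x⁻¹ ∈ frattini P) : Nat.card A ∣ p ^ (r * (n - r)) := by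
  classical
  have hp : p.Prime := Fact.out
  set Φ := frattini P with hΦ
  have hchar : ∀ (α : MulAut P) (x : P), x ∈ Φ → α x ∈ Φ := by
    intro α x hx
    have h1 := (frattini_characteristic (G := P)).fixed α.symm
    have h2 : x ∈ (frattini P).comap α.symm.toMonoidHom := by rw [h1]; exact hx
    rw [Subgroup.mem_comap] at h2
    have h3 := (frattini_characteristic (G := P)).fixed α
    have : α x ∈ (frattini P).comap α.symm.toMonoidHom := by
      rw [h1]
      have h4 : x ∈ (frattini P).comap α.toMonoidHom := by rw [h3]; exact hx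
      exact h4
    rw [h1] at this
    exact this
  obtain ⟨S, hScard, hSgen⟩ := Cfsg.Agent.Helper4.exists_small_supplement p hp r Φ (by rw [hr])
  have hSgen' : Subgroup.closure (S : Set P) = ⊤ := by
    apply frattini_nongenerating
    rw [sup_comm]; exact hSgen
  -- the set X of tuples congruent to S modulo Φ
  let X := {t : S → P // ∀ y : S, t y * (y : P)⁻¹ ∈ Φ}
  let act : MulAction A X :=
    { smul := fun α t => ⟨fun y => (α : MulAut P) (t.1 y), fun y => by
        have e : (α : MulAut P) (t.1 y) * (y : P)⁻¹ =
            (α : MulAut P) (t.1 y * (y : P)⁻¹) * ((α : MulAut P) (y : P) * (y : P)⁻¹) := by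
          rw [map_mul, map_inv]; group
        rw [e]
        exact Φ.mul_mem (hchar _ _ (t.2 y)) (hA α α.2 y)⟩
      one_smul := fun t => by
        apply Subtype.ext
        funext y
        rfl
      mul_smul := fun α β t => by
        apply Subtype.ext
        funext y
        rfl }
  have hsmul : ∀ (α : A) (t : X) (y : S), (α • t).1 y = (α : MulAut P) (t.1 y) := fun _ _ _ => rfl
  have hfree : ∀ t : X, MulAction.stabilizer A t = ⊥ := by
    intro t
    rw [eq_bot_iff]
    intro α hα
    rw [Subgroup.mem_bot]
    have hfix : ∀ y : S, (α : MulAut P) (t.1 y) = t.1 y := by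
      intro y
      have := congrArg (fun u : X => u.1 y) (MulAction.mem_stabilizer_iff.mp hα)
      simpa [hsmul] using this
    have hgen : Subgroup.closure (Set.range t.1) = ⊤ := by
      apply frattini_nongenerating
      rw [eq_top_iff, ← hSgen', Subgroup.closure_le]
      intro y hy
      have h1 := t.2 ⟨y, hy⟩
      have h2 : y = (t.1 ⟨y, hy⟩ * y⁻¹)⁻¹ * t.1 ⟨y, hy⟩ := by group
      rw [h2]
      apply Subgroup.mul_mem
      · exact Subgroup.mem_sup_right (Φ.inv_mem h1)
      · exact Subgroup.mem_sup_left (Subgroup.subset_closure ⟨⟨y, hy⟩, rfl⟩)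
    have hα1 : (α : MulAut P).toMonoidHom = MonoidHom.id P := by
      apply MonoidHom.eq_of_eqOn_dense hgen
      rintro _ ⟨y, rfl⟩
      exact hfix y
    apply Subtype.ext
    apply MulEquiv.ext
    intro x
    have := congrArg (fun f : P →* P => f x) hα1
    simpa using this
  have hXfin : Finite X := by
    have : Finite (S → P) := inferInstance
    exact Subtype.finite
  have hdvd := Cfsg.Agent.Helper4.card_dvd_of_free hfree
  -- cardinality of X
  have hXcard : Nat.card X = Nat.card Φ ^ S.card := by
    have e : X ≃ (S → Φ) :=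
      { toFun := fun t y => ⟨t.1 y * (y : P)⁻¹, t.2 y⟩
        invFun := fun f => ⟨fun y => (f y : P) * (y : P), fun y => by
          simp only [mul_inv_cancel_right]; exact (f y).2⟩
        left_inv := fun t => by
          apply Subtype.ext; funext y; simp
        right_inv := fun f => by
          funext y; apply Subtype.ext; simp }
    rw [Nat.card_congr e, Nat.card_fun, Nat.card_eq_fintype_card (α := S), Fintype.card_coe]
  -- |Φ| = p^(n-r)
  have hmul := Φ.card_mul_index
  rw [hr, hP] at hmul
  have hrn : r ≤ n := by
    have h1 : p ^ r ∣ p ^ n := Dvd.intro_left _ hmul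
    exact (Nat.pow_dvd_pow_iff_le_right hp.one_lt).mp h1
  have hΦcard : Nat.card Φ = p ^ (n - r) := by
    have h1 : p ^ n = p ^ (n - r) * p ^ r := by rw [← pow_add]; congr 1; omega
    rw [h1] at hmul
    exact Nat.eq_of_mul_eq_mul_right (pow_pos hp.pos r) hmul
  rw [hXcard, hΦcard, ← pow_mul] at hdvd
  apply hdvd.trans
  apply pow_dvd_pow
  rw [mul_comm]
  exact Nat.mul_le_mul_right _ hScard

end Cfsg.Agent.S4207
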