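import Cfsg.Statements.S4208
import Cfsg.Agent.Helper4.FrattiniAut
import Cfsg.Agent.Helper4.FrattiniQuotient
import Cfsg.Agent.Helper4.ElemAbelianCount

set_option autoImplicit false
open Cfsg

namespace Cfsg.Agent.S4208

/-- Let `P` be a group of order `p^n` whose Frattini subgroup has index `p^r`. Then the order of the automorphism group of `P` divides `p^(r(n-r)) · (p^r - 1)(p^r - p) ⋯ (p^r - p^(r-1))`. -/
theorem result {P : Type*} [Group P] [Finite P] {p n r : ℕ} [Fact p.Prime] (hP : Nat.card P = p ^ n) (hr : (frattini P).index = p ^ r) : Nat.card (MulAut P) ∣ p ^ (r * (n - r)) * ∏ i ∈ Finset.range r, (p ^ r - p ^ i) := by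
  classical
  have hp : p.Prime := Fact.out
  have hPp : IsPGroup p P := IsPGroup.of_card hP
  set Φ := frattini P with hΦ
  have hΦn : Φ.Normal := inferInstance
  -- the quotient is elementary abelian
  have hQcard : Nat.card (P ⧸ Φ) = p ^ r := by rw [← Subgroup.index_eq_card, hr]
  have hQcomm : ∀ a b : P ⧸ Φ, a * b = b * a := by
    intro a b
    induction a using QuotientGroup.induction_on with
    | H x =>
    induction b using QuotientGroup.induction_on with
    | H y =>
      have h1 := Cfsg.Agent.Helper4.pgroup_commutator_mem_frattini hPp x y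
      have h2 : ((x * y * x⁻¹ * y⁻¹ : P) : P ⧸ Φ) = 1 := (QuotientGroup.eq_one_iff _).mpr h1
      have h3 : (x : P ⧸ Φ) * (y : P ⧸ Φ) * (x : P ⧸ Φ)⁻¹ * (y : P ⧸ Φ)⁻¹ = 1 := by
        simpa using h2
      calc (x : P ⧸ Φ) * (y : P ⧸ Φ)
          = ((x : P ⧸ Φ) * (y : P ⧸ Φ) * (x : P ⧸ Φ)⁻¹ * (y : P ⧸ Φ)⁻¹) * ((y : P ⧸ Φ) * (x : P ⧸ Φ)) := by group
        _ = (y : P ⧸ Φ) * (x : P ⧸ Φ) := by rw [h3, one_mul]
  have hQexp : ∀ a : P ⧸ Φ, a ^ p = 1 := by
    intro a
    induction a using QuotientGroup.induction_on with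
    | H x =>
      have h1 := Cfsg.Agent.Helper4.pgroup_pow_mem_frattini hPp x
      rw [← QuotientGroup.mk_pow]
      exact (QuotientGroup.eq_one_iff _).mpr h1
  have hcount := Cfsg.Agent.Helper4.card_generating_tuples r hQcomm hQexp hQcard
  -- generating tuples of P
  let Y := {t : Fin r → P // Subgroup.closure (Set.range t) = ⊤}
  let Ybar := {s : Fin r → P ⧸ Φ // Subgroup.closure (Set.range s) = ⊤}
  have hmkout : ∀ q : P ⧸ Φ, ((Quotient.out q : P) : P ⧸ Φ) = q := fun q => QuotientGroup.out_eq' q
  have hgen_of_bar : ∀ t : Fin r → P,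
      Subgroup.closure (Set.range (fun i => ((t i : P) : P ⧸ Φ))) = ⊤ →
      Subgroup.closure (Set.range t) = ⊤ := by
    intro t ht
    apply frattini_nongenerating
    rw [eq_top_iff]
    intro x _
    have h1 : (Subgroup.closure (Set.range t)).map (QuotientGroup.mk' Φ) = ⊤ := by
      rw [MonoidHom.map_closure, ← Set.range_comp]
      exact ht
    have h2 : (QuotientGroup.mk' Φ) x ∈ (Subgroup.closure (Set.range t)).map (QuotientGroup.mk' Φ) := by
      rw [h1]; trivial
    obtain ⟨k, hk, hkx⟩ := h2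
    have h3 : k⁻¹ * x ∈ Φ := QuotientGroup.eq.mp hkx
    have h4 : x = k * (k⁻¹ * x) := by group
    rw [h4]
    exact Subgroup.mul_mem _ (Subgroup.mem_sup_left hk) (Subgroup.mem_sup_right h3)
  have hbar_of_gen : ∀ t : Fin r → P, Subgroup.closure (Set.range t) = ⊤ →
      Subgroup.closure (Set.range (fun i => ((t i : P) : P ⧸ Φ))) = ⊤ := by
    intro t ht
    have h1 : (Subgroup.closure (Set.range t)).map (QuotientGroup.mk' Φ) =
        Subgroup.closure (Set.range (fun i => ((t i : P) : P ⧸ Φ))) := by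
      rw [MonoidHom.map_closure, ← Set.range_comp]; rfl
    rw [← h1, ht, ← MonoidHom.range_eq_map,
      MonoidHom.range_eq_top.mpr (QuotientGroup.mk'_surjective Φ)]
  have eY : Y ≃ Ybar × (Fin r → Φ) :=
    { toFun := fun t => (⟨fun i => ((t.1 i : P) : P ⧸ Φ), hbar_of_gen t.1 t.2⟩,
        fun i => ⟨(Quotient.out ((t.1 i : P) : P ⧸ Φ))⁻¹ * t.1 i,
          QuotientGroup.eq.mp (hmkout _)⟩)
      invFun := fun sf => ⟨fun i => Quotient.out (sf.1.1 i) * (sf.2 i : P), by
        apply hgen_of_bar
        have : (fun i => ((Quotient.out (sf.1.1 i) * (sf.2 i : P) : P) : P ⧸ Φ)) = sf.1.1 := by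
          funext i
          rw [QuotientGroup.mk_mul, hmkout, (QuotientGroup.eq_one_iff _).mpr (sf.2 i).2, mul_one]
        rw [this]
        exact sf.1.2⟩
      left_inv := fun t => by
        apply Subtype.ext
        funext i
        simp
      right_inv := fun sf => by
        have h1 : ∀ i, ((Quotient.out (sf.1.1 i) * (sf.2 i : P) : P) : P ⧸ Φ) = sf.1.1 i := by
          intro i
          rw [QuotientGroup.mk_mul, hmkout, (QuotientGroup.eq_one_iff _).mpr (sf.2 i).2, mul_one]
        apply Prod.ext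
        · apply Subtype.ext
          funext i
          exact h1 i
        · funext i
          apply Subtype.ext
          show (Quotient.out ((Quotient.out (sf.1.1 i) * (sf.2 i : P) : P) : P ⧸ Φ))⁻¹ *
            (Quotient.out (sf.1.1 i) * (sf.2 i : P)) = (sf.2 i : P)
          rw [h1 i]; group }
  have hYcard : Nat.card Y = (∏ i ∈ Finset.range r, (p ^ r - p ^ i)) * Nat.card Φ ^ r := by
    rw [Nat.card_congr eY, Nat.card_prod, hcount, Nat.card_fun, Nat.card_eq_fintype_card (α := Fin r),
      Fintype.card_fin]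
  -- free action of Aut P on Y
  let act : MulAction (MulAut P) Y :=
    { smul := fun α t => ⟨fun i => α (t.1 i), by
        have h1 : Set.range (fun i => α (t.1 i)) = α.toMonoidHom '' Set.range t.1 := by
          rw [← Set.range_comp]; rfl
        rw [h1, ← MonoidHom.map_closure, t.2, ← MonoidHom.range_eq_map]
        exact MonoidHom.range_eq_top.mpr α.surjective⟩
      one_smul := fun t => rfl
      mul_smul := fun α β t => rfl }
  have hsmul : ∀ (α : MulAut P) (t : Y) (i : Fin r), (α • t).1 i = α (t.1 i) := fun _ _ _ => rfl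
  have hfree : ∀ t : Y, MulAction.stabilizer (MulAut P) t = ⊥ := by
    intro t
    rw [eq_bot_iff]
    intro α hα
    rw [Subgroup.mem_bot]
    have hfix : ∀ i, α (t.1 i) = t.1 i := by
      intro i
      have := congrArg (fun u : Y => u.1 i) (MulAction.mem_stabilizer_iff.mp hα)
      simpa [hsmul] using this
    have hα1 : α.toMonoidHom = MonoidHom.id P := by
      apply MonoidHom.eq_of_eqOn_dense t.2
      rintro _ ⟨i, rfl⟩
      exact hfix i
    apply MulEquiv.ext
    intro x
    have := congrArg (fun f : P →* P => f x) hα1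
    simpa using this
  have hYfin : Finite Y := Subtype.finite
  have hAfin : Finite (MulAut P) :=
    Finite.of_injective (fun α : MulAut P => (α : P → P)) (fun a b h => by
      apply MulEquiv.ext; intro x; exact congrFun h x)
  have hdvd := Cfsg.Agent.Helper4.card_dvd_of_free hfree
  -- |Φ| = p^(n-r)
  have hmul := Φ.card_mul_index
  rw [hr, hP] at hmul
  have hrn : r ≤ n := by
    have h1 : p ^ r ∣ p ^ n := Dvd.intro_left _ hmul
    exact (Nat.pow_dvd_pow_iff_le_right hp.one_lt).mp h1
  have hΦcard : Nat.card Φ = p ^ (n - r) := by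
    have h1 : p ^ n = p ^ (n - r) * p ^ r := by rw [← pow_add]; congr 1; omega
    rw [h1] at hmul
    exact Nat.eq_of_mul_eq_mul_right (pow_pos hp.pos r) hmul
  rw [hYcard, hΦcard, ← pow_mul, mul_comm] at hdvd
  rw [mul_comm r (n - r)]
  exact hdvd

end Cfsg.Agent.S4208
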