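import Cfsg.Statements.S4212
import Cfsg.Agent.Helper4.HallFrobB

set_option autoImplicit false
open Cfsg

namespace Cfsg.Agent.S4212

/-- Let `G` be a finite group of order `g`, `c` an element whose conjugacy class has `h` elements, and `n` a natural number. Then the number of elements `x` of `G` with `x^n` conjugate to `c` is a multiple of `gcd(hn, g)`. -/
theorem result {G : Type*} [Group G] [Finite G] (c : G) (n : ℕ) : Nat.gcd (Nat.card {y : G // IsConj c y} * n) (Nat.card G) ∣ Nat.card {x : G // IsConj c (x ^ n)} := by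
  classical
  -- step 1: the count is `h * #{x // x ^ n = c}`
  have hchoose : ∀ y : {y : G // IsConj c y}, ∃ g : G, g * c * g⁻¹ = y.1 := fun y => isConj_iff.1 y.2
  choose g hg using hchoose
  have key1 : ∀ (a x : G), a * c * a⁻¹ = x ^ n → (a⁻¹ * x * a) ^ n = c := by
    intro a x h
    have := conj_pow (a := a⁻¹) (b := x) (i := n)
    rw [inv_inv] at this
    rw [this, ← h]
    group
  have key2 : ∀ x : G, x ^ n = c → x * c = c * x := by
    intro x h
    rw [← h, ← pow_succ', ← pow_succ]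
  have hprod : Nat.card {x : G // IsConj c (x ^ n)} =
      Nat.card {y : G // IsConj c y} * Nat.card {x : G // x ^ n = c} := by
    rw [← Nat.card_prod]
    apply Nat.card_congr
    refine ⟨fun x => (⟨x.1 ^ n, x.2⟩, ⟨(g ⟨x.1 ^ n, x.2⟩)⁻¹ * x.1 * g ⟨x.1 ^ n, x.2⟩, ?_⟩),
      fun p => ⟨g p.1 * p.2.1 * (g p.1)⁻¹, ?_⟩, ?_, ?_⟩
    · exact key1 _ _ (hg ⟨x.1 ^ n, x.2⟩)
    · rw [conj_pow, p.2.2, hg]
      exact p.1.2
    · intro x
      apply Subtype.ext
      show g ⟨x.1 ^ n, x.2⟩ * ((g ⟨x.1 ^ n, x.2⟩)⁻¹ * x.1 * g ⟨x.1 ^ n, x.2⟩) *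
        (g ⟨x.1 ^ n, x.2⟩)⁻¹ = x.1
      group
    · rintro ⟨y, x⟩
      have hx' : (g y * x.1 * (g y)⁻¹) ^ n = y.1 := by rw [conj_pow, x.2, hg]
      have e : (⟨(g y * x.1 * (g y)⁻¹) ^ n, by rw [hx']; exact y.2⟩ : {y : G // IsConj c y}) = y :=
        Subtype.ext hx'
      refine Prod.ext e ?_
      apply Subtype.ext
      show (g ⟨(g y * x.1 * (g y)⁻¹) ^ n, _⟩)⁻¹ * (g y * x.1 * (g y)⁻¹) *
        g ⟨(g y * x.1 * (g y)⁻¹) ^ n, _⟩ = x.1
      rw [e]
      group
  -- step 2: move to the centralizer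
  have hcent : Nat.card {x : G // x ^ n = c} =
      Nat.card {x : Subgroup.centralizer ({c} : Set G) // x ^ n = ⟨c, by
        rw [Subgroup.mem_centralizer_singleton_iff]⟩} := by
    apply Nat.card_congr
    refine ⟨fun x => ⟨⟨x.1, ?_⟩, ?_⟩, fun u => ⟨u.1.1, ?_⟩, ?_, ?_⟩
    · rw [Subgroup.mem_centralizer_singleton_iff]
      exact key2 x.1 x.2
    · apply Subtype.ext
      rw [Subgroup.coe_pow]
      exact x.2
    · have := congrArg Subtype.val u.2
      rwa [Subgroup.coe_pow] at this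
    · intro x
      rfl
    · intro u
      rfl
  have hzc : (⟨c, by rw [Subgroup.mem_centralizer_singleton_iff]⟩ :
      Subgroup.centralizer ({c} : Set G)) ∈ Subgroup.center (Subgroup.centralizer ({c} : Set G)) := by
    rw [Subgroup.mem_center_iff]
    intro u
    apply Subtype.ext
    have := u.2
    rw [Subgroup.mem_centralizer_singleton_iff] at this
    exact this
  have hmain := Cfsg.Agent.Helper4.gcd_dvd_card_pow_eq_central _ hzc n
  rw [hprod, hcent, ← Cfsg.Agent.Helper4.index_centralizer_eq_card_conj,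
    ← Subgroup.index_mul_card (Subgroup.centralizer ({c} : Set G)), Nat.gcd_mul_left]
  exact Nat.mul_dvd_mul_left _ hmain

end Cfsg.Agent.S4212
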