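import Cfsg.Statements.S4218
import Cfsg.Agent.Helper4.HallHigman
import Cfsg.Agent.Helper4.FrattiniQuotient

set_option autoImplicit false
open Cfsg

namespace Cfsg.Agent.S4218

/-- Let `G` be a finite `p`-solvable group, `N₀ = O_{p'}(G)`, `P₁ = O_{p',p}(G)`, and let `F ≤ P₁` be the preimage of the Frattini subgroup of `P₁/N₀`. Then an element `g` of `G` induces the identity on `P₁/F` by conjugation (that is, `g x g⁻¹ x⁻¹ ∈ F` for all `x ∈ P₁`) if and only if `g ∈ P₁`: the group `G/P₁` acts faithfully on `P₁/F`. -/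
theorem result {G : Type*} [Group G] [Finite G] {p : ℕ} [Fact p.Prime] (hG : Cfsg.IsPSolvable p G) (g : G) : (∀ x ∈ Cfsg.pPrimePCore p G, g * x * g⁻¹ * x⁻¹ ∈ ((frattini (↥(Cfsg.pPrimePCore p G) ⧸ (Cfsg.pPrimeCore p G).subgroupOf (Cfsg.pPrimePCore p G))).comap (QuotientGroup.mk' ((Cfsg.pPrimeCore p G).subgroupOf (Cfsg.pPrimePCore p G)))).map (Cfsg.pPrimePCore p G).subtype) ↔ g ∈ Cfsg.pPrimePCore p G := by
  classical
  set N₀ := Cfsg.pPrimeCore p G with hN₀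
  set P₁ := Cfsg.pPrimePCore p G with hP₁
  have hP₁def : P₁ = (Cfsg.pCore p (G ⧸ N₀)).comap (QuotientGroup.mk' N₀) := rfl
  have hmemP₁ : ∀ x : G, x ∈ P₁ ↔ (QuotientGroup.mk' N₀ x) ∈ Cfsg.pCore p (G ⧸ N₀) := by
    intro x
    rw [hP₁def, Subgroup.mem_comap]
  -- the homomorphism P₁ → O_p(G/N₀)
  let φ₀ : ↥P₁ →* ↥(Cfsg.pCore p (G ⧸ N₀)) :=
    ((QuotientGroup.mk' N₀).comp P₁.subtype).codRestrict (Cfsg.pCore p (G ⧸ N₀))
      (fun x => (hmemP₁ x).mp x.2)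
  have hφ₀coe : ∀ y : ↥P₁, ((φ₀ y : ↥(Cfsg.pCore p (G ⧸ N₀))) : G ⧸ N₀) =
      QuotientGroup.mk' N₀ (y : G) := fun y => rfl
  have hker : N₀.subgroupOf P₁ ≤ φ₀.ker := by
    intro y hy
    rw [Subgroup.mem_subgroupOf] at hy
    rw [MonoidHom.mem_ker]
    apply Subtype.ext
    rw [hφ₀coe]
    exact (QuotientGroup.eq_one_iff _).mpr hy
  let ψ : (↥P₁ ⧸ N₀.subgroupOf P₁) →* ↥(Cfsg.pCore p (G ⧸ N₀)) :=
    QuotientGroup.lift (N₀.subgroupOf P₁) φ₀ hker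
  have hψmk : ∀ y : ↥P₁, ψ (QuotientGroup.mk' (N₀.subgroupOf P₁) y) = φ₀ y := fun y => rfl
  have hψsurj : Function.Surjective ψ := by
    rintro ⟨k, hk⟩
    obtain ⟨x, rfl⟩ := QuotientGroup.mk'_surjective N₀ k
    refine ⟨QuotientGroup.mk' (N₀.subgroupOf P₁) ⟨x, (hmemP₁ x).mpr hk⟩, ?_⟩
    rw [hψmk]
    apply Subtype.ext
    rw [hφ₀coe]
  have hψinj : Function.Injective ψ := by
    rw [injective_iff_map_eq_one]
    intro r hr
    obtain ⟨y, rfl⟩ := QuotientGroup.mk'_surjective (N₀.subgroupOf P₁) r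
    rw [hψmk] at hr
    have h1 := congrArg Subtype.val hr
    rw [hφ₀coe] at h1
    have h2 : (y : G) ∈ N₀ := (QuotientGroup.eq_one_iff _).mp h1
    exact (QuotientGroup.eq_one_iff _).mpr (Subgroup.mem_subgroupOf.mpr h2)
  have hfr : frattini (↥P₁ ⧸ N₀.subgroupOf P₁) ≤
      (frattini ↥(Cfsg.pCore p (G ⧸ N₀))).comap ψ :=
    frattini_le_comap_frattini_of_surjective hψsurj
  constructor
  · intro h
    have hGbar : Cfsg.IsPSolvable p (G ⧸ N₀) := Cfsg.Agent.Helper4.isPSolvable_quotient hG N₀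
    have hObar : Cfsg.pPrimeCore p (G ⧸ N₀) = ⊥ :=
      Cfsg.Agent.Helper4.pPrimeCore_quotient_eq_bot p
    rw [hmemP₁]
    apply Cfsg.Agent.Helper4.mem_pCore_of_commutator_mem_frattini hGbar hObar
    intro k hk
    obtain ⟨x, rfl⟩ := QuotientGroup.mk'_surjective N₀ k
    have hx : x ∈ P₁ := (hmemP₁ x).mpr hk
    obtain ⟨y, hy, hyx⟩ := Subgroup.mem_map.mp (h x hx)
    have h2 : ψ (QuotientGroup.mk' (N₀.subgroupOf P₁) y) ∈
        frattini ↥(Cfsg.pCore p (G ⧸ N₀)) := hfr hy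
    rw [hψmk] at h2
    refine Subgroup.mem_map.mpr ⟨φ₀ y, h2, ?_⟩
    change ((φ₀ y : ↥(Cfsg.pCore p (G ⧸ N₀))) : G ⧸ N₀) = _
    rw [hφ₀coe]
    have hyx' : (y : G) = g * x * g⁻¹ * x⁻¹ := hyx
    rw [hyx']
    simp
  · intro hg x hx
    have hRp : IsPGroup p (↥P₁ ⧸ N₀.subgroupOf P₁) :=
      IsPGroup.of_injective (Cfsg.Agent.Helper5.isPGroup_pCore p) ψ hψinj
    have h1 := Cfsg.Agent.Helper4.pgroup_commutator_mem_frattini hRp
      (QuotientGroup.mk' (N₀.subgroupOf P₁) ⟨g, hg⟩) (QuotientGroup.mk' (N₀.subgroupOf P₁) ⟨x, hx⟩)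
    refine Subgroup.mem_map.mpr
      ⟨(⟨g, hg⟩ : ↥P₁) * ⟨x, hx⟩ * (⟨g, hg⟩ : ↥P₁)⁻¹ * (⟨x, hx⟩ : ↥P₁)⁻¹, ?_, rfl⟩
    rw [Subgroup.mem_comap]
    exact h1

end Cfsg.Agent.S4218
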