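import Cfsg.Statements.S4221
import Cfsg.Agent.Hall4.Main

set_option autoImplicit false
open Cfsg

namespace Cfsg.Agent.S4221

open Equiv Cfsg.Agent.Hall4

theorem index_two_of_card {α : Type*} [Fintype α] [DecidableEq α] (G : Subgroup (Perm α))
    (m : ℕ) (hG : Nat.card G = m) (hm : 0 < m) (hfac : (Fintype.card α).factorial = 2 * m) :
    G = alternatingGroup α := by
  apply Equiv.Perm.eq_alternatingGroup_of_index_eq_two
  have h1 := G.index_mul_card
  rw [hG, Nat.card_eq_fintype_card, Fintype.card_perm, hfac] at h1
  have : G.index * m = 2 * m := h1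
  exact Nat.eq_of_mul_eq_mul_right hm this

/-- Let `G` be a `4`-fold transitive permutation group on a finite set of `n` points in which the pointwise stabilizer of some four distinct points has odd order. Then `n = 4` or `n = 5` with `G` the full symmetric group, or `n = 6` or `n = 7` with `G` the alternating group, or `n = 11` and `G` has order `7920`. -/
theorem result {α : Type*} [Fintype α] [DecidableEq α] (G : Subgroup (Equiv.Perm α)) (hG : MulAction.IsMultiplyPretransitive G α 4) (x : Fin 4 ↪ α) (hodd : Odd (Nat.card (MulAction.stabilizer G x))) : ((Fintype.card α = 4 ∨ Fintype.card α = 5) ∧ G = ⊤) ∨ ((Fintype.card α = 6 ∨ Fintype.card α = 7) ∧ G = alternatingGroup α) ∨ (Fintype.card α = 11 ∧ Nat.card G = 7920) := by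
  have S := setup_of_hyp G hG x hodd
  set h := Nat.card (MulAction.stabilizer G x) with hh
  have hcardG := card_G S x
  have hdvd := h_dvd S x
  have hn4 : 4 ≤ Fintype.card α := by
    have := Fintype.card_le_of_embedding x
    simpa using this
  rcases Nat.lt_or_ge (Fintype.card α) 7 with hlt | hge
  · have hcases : Fintype.card α = 4 ∨ Fintype.card α = 5 ∨ Fintype.card α = 6 := by omega
    rcases hcases with h4 | h5 | h6
    · left
      refine ⟨Or.inl h4, ?_⟩
      apply Equiv.Perm.eq_top_of_isMultiplyPretransitive
      rw [Nat.card_eq_fintype_card, h4]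
      exact MulAction.isMultiplyPretransitive_of_le (n := 4) (by norm_num)
        (by rw [Nat.card_eq_fintype_card, h4])
    · left
      refine ⟨Or.inr h5, ?_⟩
      apply Equiv.Perm.eq_top_of_isMultiplyPretransitive
      rw [Nat.card_eq_fintype_card, h5]
      exact hG
    · right; left
      refine ⟨Or.inl h6, ?_⟩
      rw [h6] at hdvd hcardG
      have h2 : h ∣ 2 := by simpa [Nat.factorial] using hdvd
      have hle : h ≤ 2 := Nat.le_of_dvd (by norm_num) h2
      have hodd' := S.odd
      have h1 : h = 1 := by
        interval_cases h
        · exfalso; revert hodd'; decide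
        · rfl
        · exfalso; revert hodd'; decide
      rw [h1] at hcardG
      exact index_two_of_card G 360 (by rw [hcardG]; decide) (by norm_num) (by rw [h6]; decide)
  · rcases main_ge_seven S hge with ⟨h7, h3⟩ | ⟨h11, h1⟩
    · right; left
      refine ⟨Or.inr h7, ?_⟩
      rw [h7, h3] at hcardG
      exact index_two_of_card G 2520 (by rw [hcardG]; decide) (by norm_num) (by rw [h7]; decide)
    · right; right
      refine ⟨h11, ?_⟩
      rw [h11, h1] at hcardG
      rw [hcardG]; decide

end Cfsg.Agent.S4221
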