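import Cfsg.Statements.S4224
import Cfsg.Agent.Helper4.RegularPC

set_option autoImplicit false
open Cfsg

namespace Cfsg.Agent.S4224

/-- In a regular `p`-group, for all elements `a`, `b` and every power `q = p^k`: `a^q` commutes with `b` if and only if the commutator `a⁻¹b⁻¹ab` has `q`-th power equal to `1`. -/
theorem result {G : Type*} [Group G] [Finite G] {p : ℕ} [Fact p.Prime] (hG : Cfsg.IsRegularPGroup p G) (a b : G) (k : ℕ) : a ^ p ^ k * b = b * a ^ p ^ k ↔ (a⁻¹ * b⁻¹ * a * b) ^ p ^ k = 1 := by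
  have h1 := Cfsg.Agent.Helper4.powEqIff_of_isRegularPGroup hG k (b⁻¹ * a * b⁻¹⁻¹) a
  rw [conj_pow] at h1
  have h2 : b⁻¹ * a * b⁻¹⁻¹ * a⁻¹ = a * (a⁻¹ * b⁻¹ * a * b) * a⁻¹ := by group
  rw [h2, conj_pow] at h1
  constructor
  · intro h
    have h3 : b⁻¹ * a ^ p ^ k * b⁻¹⁻¹ = a ^ p ^ k := by
      rw [inv_inv, mul_assoc, h, inv_mul_cancel_left]
    have h4 := h1.1 h3
    have h5 : (a⁻¹ * b⁻¹ * a * b) ^ p ^ k = a⁻¹ * (a * (a⁻¹ * b⁻¹ * a * b) ^ p ^ k * a⁻¹) * a := by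
      group
    rw [h5, h4, mul_one, inv_mul_cancel]
  · intro h
    have h3 := h1.2 (by rw [h, mul_one, mul_inv_cancel])
    rw [inv_inv] at h3
    calc a ^ p ^ k * b = (b * (b⁻¹ * a ^ p ^ k * b)) := by group
      _ = b * a ^ p ^ k := by rw [h3]

end Cfsg.Agent.S4224
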