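import Cfsg.Statements.S4230
-- import your own Cfsg.Agent.* helpers here

set_option autoImplicit false
open Cfsg

namespace Cfsg.Agent.S4230

/-- Let p be an odd prime, q a natural number not divisible by p, and e the multiplicative order of q modulo p. For a natural number f, p divides the value at q of the f-th cyclotomic polynomial if and only if f = e·p^j for some j ≥ 0. -/
theorem result (p q f : ℕ) (hp : p.Prime) (hp2 : p ≠ 2) (hpq : ¬ p ∣ q) :
    ((p : ℤ) ∣ (Polynomial.cyclotomic f ℤ).eval (q : ℤ)) ↔ ∃ j : ℕ, f = orderOf (q : ZMod p) * p ^ j := by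
  haveI : Fact p.Prime := ⟨hp⟩
  have hq0 : (q : ZMod p) ≠ 0 := by
    rw [Ne, ZMod.natCast_eq_zero_iff]; exact hpq
  have hordpos : 0 < orderOf (q : ZMod p) := by
    apply orderOf_pos_iff.mpr
    rw [isOfFinOrder_iff_pow_eq_one]
    exact ⟨p - 1, Nat.sub_pos_of_lt hp.one_lt, ZMod.pow_card_sub_one_eq_one hq0⟩
  have hord_dvd : orderOf (q : ZMod p) ∣ p - 1 :=
    orderOf_dvd_of_pow_eq_one (ZMod.pow_card_sub_one_eq_one hq0)
  have hpord : ¬ p ∣ orderOf (q : ZMod p) := by
    intro h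
    have h1 : p ∣ p - 1 := h.trans hord_dvd
    have h2 := Nat.le_of_dvd (Nat.sub_pos_of_lt hp.one_lt) h1
    have := hp.one_lt
    omega
  have key : ((p : ℤ) ∣ (Polynomial.cyclotomic f ℤ).eval (q : ℤ)) ↔
      (Polynomial.cyclotomic f (ZMod p)).IsRoot (q : ZMod p) := by
    rw [← ZMod.intCast_zmod_eq_zero_iff_dvd, Polynomial.IsRoot.def,
      ← Polynomial.map_cyclotomic_int f (ZMod p)]
    have h := Polynomial.eval_intCast_map (Int.castRingHom (ZMod p)) (Polynomial.cyclotomic f ℤ) (q : ℤ)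
    simp only [Int.cast_natCast, eq_intCast] at h
    rw [h]
  rw [key]
  rcases Nat.eq_zero_or_pos f with rfl | hf
  · simp only [Polynomial.cyclotomic_zero, Polynomial.IsRoot.def, Polynomial.eval_one, one_ne_zero,
      false_iff]
    rintro ⟨j, hj⟩
    have : 0 < orderOf (q : ZMod p) * p ^ j := Nat.mul_pos hordpos (pow_pos hp.pos j)
    omega
  obtain ⟨k, m, hm, hfm⟩ := Nat.exists_eq_pow_mul_and_not_dvd hf.ne' p hp.ne_one
  haveI : NeZero (m : ZMod p) := ⟨by rw [Ne, ZMod.natCast_eq_zero_iff]; exact hm⟩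
  rw [hfm, Polynomial.isRoot_cyclotomic_prime_pow_mul_iff_of_charP]
  constructor
  · intro h
    exact ⟨k, by rw [← h.eq_orderOf, mul_comm]⟩
  · rintro ⟨j, hj⟩
    have hcop1 : Nat.Coprime (p ^ k) (orderOf (q : ZMod p)) :=
      Nat.Coprime.pow_left k ((Nat.Prime.coprime_iff_not_dvd hp).mpr hpord)
    have hcop2 : Nat.Coprime (p ^ j) m :=
      Nat.Coprime.pow_left j ((Nat.Prime.coprime_iff_not_dvd hp).mpr hm)
    have h1 : p ^ k ∣ p ^ j := by
      have : p ^ k ∣ orderOf (q : ZMod p) * p ^ j := ⟨m, hj.symm⟩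
      exact hcop1.dvd_of_dvd_mul_left this
    have h2 : p ^ j ∣ p ^ k := by
      have : p ^ j ∣ p ^ k * m := ⟨orderOf (q : ZMod p), by rw [hj, mul_comm]⟩
      exact hcop2.dvd_of_dvd_mul_right this
    have hkj : p ^ k = p ^ j := Nat.dvd_antisymm h1 h2
    have hm' : m = orderOf (q : ZMod p) := by
      rw [hkj, mul_comm] at hj
      exact Nat.eq_of_mul_eq_mul_right (pow_pos hp.pos j) hj
    rw [hm']
    exact IsPrimitiveRoot.orderOf _

end Cfsg.Agent.S4230
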