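import Cfsg.Statements.S4237
import Cfsg.Agent.Helper3.SubgroupCount
import Cfsg.Agent.Helper4.HallEnumD
import Cfsg.Agent.Helper4.HallEnumF

set_option autoImplicit false
open Cfsg

namespace Cfsg.Agent.S4237

/-- Let G be a finite group, p a prime and a a natural number such that p^(a+1) divides the order of G. Then the number of subgroups of G of order p^a is congruent to 1 or to 1 + p modulo p². -/
theorem result {G : Type*} [Group G] [Finite G] (p a : ℕ) (hp : p.Prime) (hdvd : p ^ (a + 1) ∣ Nat.card G) :
    Nat.card {H : Subgroup G // Nat.card H = p ^ a} ≡ 1 [MOD p ^ 2] ∨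
      Nat.card {H : Subgroup G // Nat.card H = p ^ a} ≡ 1 + p [MOD p ^ 2] := by
  haveI : Fact p.Prime := ⟨hp⟩
  have hdvd' : p ^ a ∣ Nat.card G := dvd_trans (pow_dvd_pow p (Nat.le_succ a)) hdvd
  by_cases hp2 : p = 2
  · subst hp2
    have h1 := Cfsg.Agent.Helper3.card_subgroups_prime_pow_modEq_one (G := G) 2 a hp hdvd'
    have h2 : Nat.card {H : Subgroup G // Nat.card H = 2 ^ a} % 2 = 1 := h1
    have h3 : Nat.card {H : Subgroup G // Nat.card H = 2 ^ a} % 4 = 1 ∨
        Nat.card {H : Subgroup G // Nat.card H = 2 ^ a} % 4 = 3 := by omega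
    rcases h3 with h | h
    · left; exact h
    · right; exact h
  · rcases Nat.eq_zero_or_pos a with ha | ha
    · left
      subst ha
      have : Nat.card {H : Subgroup G // Nat.card H = p ^ 0} = 1 := by
        rw [Nat.card_eq_one_iff_unique]
        constructor
        · constructor
          rintro ⟨H₁, h₁⟩ ⟨H₂, h₂⟩
          rw [pow_zero, Subgroup.card_eq_one] at h₁ h₂
          exact Subtype.ext (h₁.trans h₂.symm)
        · exact ⟨⟨⊥, by rw [pow_zero, Subgroup.card_bot]⟩⟩
      rw [this]
    · have hid := Cfsg.Agent.Helper4.HallEnum.hall_identity (G := G) p a hdvd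
      have hnc := Cfsg.Agent.Helper4.HallEnum.card_noncyclic_modEq (G := G) hp2 a ha hdvd
      rcases hnc with h | h
      · left
        have h1 := Nat.ModEq.mul_left' p h
        rw [mul_zero, ← pow_two] at h1
        exact hid.trans (Nat.ModEq.add_left 1 h1)
      · right
        have h1 := Nat.ModEq.mul_left' p h
        rw [mul_one, ← pow_two] at h1
        exact hid.trans (Nat.ModEq.add_left 1 h1)

end Cfsg.Agent.S4237
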