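import Cfsg.Statements.S4252
import Cfsg.Agent.Helper4.Frobenius

set_option autoImplicit false
open Cfsg

namespace Cfsg.Agent.S4252

open Cfsg.Agent.Helper4
open scoped Pointwise
open MulAction

/-- Let a finite group G act on a finite set Ω with more than one point, transitively but not regularly, so that no non-identity element of G fixes two distinct points. Then the stabilizer H of any point is a Frobenius complement in G (nontrivial, proper, meeting its other conjugates trivially), and the Frobenius kernel of G with respect to H (the identity together with the elements lying in no conjugate of H) is exactly the set consisting of the identity and the elements fixing no point. -/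
theorem result {G Ω : Type*} [Group G] [Finite G] [Fintype Ω] [MulAction G Ω] (hΩ : 1 < Fintype.card Ω)
    (htrans : ∀ α β : Ω, ∃ g : G, g • α = β) (hnreg : ∃ g : G, g ≠ 1 ∧ ∃ α : Ω, g • α = α)
    (hfix : ∀ g : G, g ≠ 1 → ∀ α β : Ω, g • α = α → g • β = β → α = β) (α : Ω) :
    Cfsg.IsFrobeniusComplement (MulAction.stabilizer G α) ∧
      Cfsg.frobeniusKernel (MulAction.stabilizer G α) = {g : G | g = 1 ∨ ∀ ω : Ω, g • ω ≠ ω} := by
  have hconj : ∀ (g x : G), x ∈ MulAut.conj g • stabilizer G α ↔ x • (g • α) = g • α := by
    intro g x
    rw [mem_conj_smul_iff, mem_stabilizer_iff, mul_smul, mul_smul, inv_smul_eq_iff]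
  refine ⟨⟨?_, ?_, ?_⟩, ?_⟩
  · -- nontrivial
    obtain ⟨g, hg1, α0, hg⟩ := hnreg
    obtain ⟨t, ht⟩ := htrans α0 α
    intro hbot
    have hmem : t * g * t⁻¹ ∈ stabilizer G α := by
      rw [mem_stabilizer_iff, mul_smul, mul_smul, ← ht, inv_smul_smul, hg]
    rw [hbot, Subgroup.mem_bot] at hmem
    apply hg1
    have : g = t⁻¹ * (t * g * t⁻¹) * t := by group
    rw [this, hmem]; group
  · -- proper
    obtain ⟨β, hβ⟩ := Fintype.exists_ne_of_one_lt_card hΩ α
    obtain ⟨g, hg⟩ := htrans α β
    intro htop
    have : g ∈ stabilizer G α := by rw [htop]; exact Subgroup.mem_top g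
    rw [mem_stabilizer_iff, hg] at this
    exact hβ this
  · intro g hg
    rw [Subgroup.eq_bot_iff_forall]
    rintro z ⟨hz1, hz2⟩
    by_contra hz
    have h1 : z • α = α := mem_stabilizer_iff.mp hz1
    have h2 : z • (g • α) = g • α := (hconj g z).mp hz2
    have := hfix z hz α (g • α) h1 h2
    exact hg (mem_stabilizer_iff.mpr this.symm)
  · ext x
    simp only [Cfsg.frobeniusKernel, Set.mem_setOf_eq]
    constructor
    · rintro (h | h)
      · left; exact h
      · right
        intro ω hω
        obtain ⟨g, hg⟩ := htrans α ω
        apply h g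
        rw [hconj, hg]; exact hω
    · rintro (h | h)
      · left; exact h
      · right
        intro g hx
        exact h (g • α) ((hconj g x).mp hx)

end Cfsg.Agent.S4252
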