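import Cfsg.Statements.S4253
import Cfsg.Agent.Helper4.Frobenius

set_option autoImplicit false
open Cfsg

namespace Cfsg.Agent.S4253

open Cfsg.Agent.Helper4

/-- Let H be a Frobenius complement in a finite group G (a nontrivial proper subgroup meeting each conjugate gHg⁻¹ with g outside H trivially). Then in the action of G on the left cosets of H by left multiplication, no non-identity element of G fixes two distinct cosets. -/
theorem result {G : Type*} [Group G] [Finite G] (H : Subgroup G) (hH : Cfsg.IsFrobeniusComplement H)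
    (g : G) (hg : g ≠ 1) (a b : G ⧸ H) (ha : g • a = a) (hb : g • b = b) : a = b := by
  induction a using QuotientGroup.induction_on with
  | H x =>
  induction b using QuotientGroup.induction_on with
  | H y =>
  have hx : x⁻¹ * g⁻¹ * x ∈ H := by
    have : (QuotientGroup.mk (g * x) : G ⧸ H) = QuotientGroup.mk x := ha
    rw [QuotientGroup.eq] at this
    simpa [mul_assoc] using this
  have hy : y⁻¹ * g⁻¹ * y ∈ H := by
    have : (QuotientGroup.mk (g * y) : G ⧸ H) = QuotientGroup.mk y := hb
    rw [QuotientGroup.eq] at this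
    simpa [mul_assoc] using this
  rw [QuotientGroup.eq]
  by_contra hxy
  have hz' : (x⁻¹ * y)⁻¹ * (x⁻¹ * g⁻¹ * x) * (x⁻¹ * y) ∈ H := by
    have : (x⁻¹ * y)⁻¹ * (x⁻¹ * g⁻¹ * x) * (x⁻¹ * y) = y⁻¹ * g⁻¹ * y := by group
    rw [this]; exact hy
  have h1 := frob_inter_trivial H hH (x⁻¹ * y) hxy _ hx hz'
  apply hg
  have : g = (x * (x⁻¹ * g⁻¹ * x) * x⁻¹)⁻¹ := by group
  rw [this, h1]; group

end Cfsg.Agent.S4253
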