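import Cfsg.Statements.S4255
import Cfsg.Agent.Helper4.DiscGraphE

set_option autoImplicit false
open Cfsg

namespace Cfsg.Agent.S4255

/-- Let G be a finite group. Call a prime a vertex if it divides some conjugacy class size of G, and two distinct vertices adjacent if their product divides some class size. Suppose this graph is disconnected: the vertices split into two nonempty parts with no vertex of one part adjacent to a vertex of the other. Then G/Z(G) is a Frobenius group with abelian Frobenius complement and with a Frobenius kernel all of whose elements commute. -/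
theorem result {G : Type*} [Group G] [Finite G] (S : Set ℕ) (hS : ∃ p ∈ S, (p.Prime ∧ ∃ g : G, p ∣ (Subgroup.centralizer ({g} : Set G)).index)) (hS' : ∃ q ∉ S, (q.Prime ∧ ∃ g : G, q ∣ (Subgroup.centralizer ({g} : Set G)).index))
    (hdisc : ∀ p q : ℕ, (p.Prime ∧ ∃ g : G, p ∣ (Subgroup.centralizer ({g} : Set G)).index) → (q.Prime ∧ ∃ g : G, q ∣ (Subgroup.centralizer ({g} : Set G)).index) → p ∈ S → q ∉ S → ¬ (∃ g : G, p * q ∣ (Subgroup.centralizer ({g} : Set G)).index)) :
    ∃ H : Subgroup (G ⧸ Subgroup.center G), Cfsg.IsFrobeniusComplement H ∧ IsMulCommutative H ∧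
      ∀ x ∈ Cfsg.frobeniusKernel H, ∀ y ∈ Cfsg.frobeniusKernel H, x * y = y * x := by
  classical
  have hdichS : ∀ g : G, Cfsg.Agent.Helper4.DiscGraph.IsNum S (Cfsg.Agent.Helper4.TwoClass.cs g) ∨
      Cfsg.Agent.Helper4.DiscGraph.IsNum Sᶜ (Cfsg.Agent.Helper4.TwoClass.cs g) := by
    intro g
    by_contra hcon
    push Not at hcon
    obtain ⟨h1, h2⟩ := hcon
    unfold Cfsg.Agent.Helper4.DiscGraph.IsNum at h1 h2
    push Not at h1 h2
    obtain ⟨q, hq, hqd, hqS⟩ := h1
    obtain ⟨p, hp, hpd, hpS⟩ := h2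
    have hpS' : p ∈ S := by
      by_contra hh
      exact hpS hh
    have hpq : p ≠ q := fun heq => hqS (heq ▸ hpS')
    have hcop : p.Coprime q := (Nat.coprime_primes hp hq).2 hpq
    exact hdisc p q ⟨hp, g, hpd⟩ ⟨hq, g, hqd⟩ hpS' hqS ⟨g, hcop.mul_dvd_of_dvd_of_dvd hpd hqd⟩
  obtain ⟨b0, hb0⟩ := Finite.exists_max (fun g : G => Cfsg.Agent.Helper4.TwoClass.cs g)
  have key : ∃ m n : ℕ, Cfsg.Agent.Helper4.TwoClass.TC G m n := by
    rcases hdichS b0 with hb | hb
    · have hH : Cfsg.Agent.Helper4.DiscGraph.Hyp G S b0 := by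
        refine ⟨hdichS, hb0, hb, ?_⟩
        obtain ⟨q, hqS, hq, g, hqd⟩ := hS'
        refine ⟨g, ?_, ?_⟩
        · have h1 := Nat.le_of_dvd (Cfsg.Agent.Helper4.TwoClass.cs_pos g) hqd
          have h2 := hq.two_le
          omega
        · rcases hdichS g with h3 | h3
          · exact absurd (h3 q hq hqd) hqS
          · exact h3
      obtain ⟨n, hn⟩ := hH.exists_TC
      exact ⟨_, n, hn⟩
    · have hH : Cfsg.Agent.Helper4.DiscGraph.Hyp G Sᶜ b0 := by
        refine ⟨?_, hb0, hb, ?_⟩
        · intro g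
          rw [compl_compl]
          exact (hdichS g).symm
        · obtain ⟨p, hpS, hp, g, hpd⟩ := hS
          refine ⟨g, ?_, ?_⟩
          · have h1 := Nat.le_of_dvd (Cfsg.Agent.Helper4.TwoClass.cs_pos g) hpd
            have h2 := hp.two_le
            omega
          · rw [compl_compl]
            rcases hdichS g with h3 | h3
            · exact h3
            · exact absurd hpS (h3 p hp hpd)
      obtain ⟨n, hn⟩ := hH.exists_TC
      exact ⟨_, n, hn⟩
  obtain ⟨m, n, h⟩ := key
  obtain ⟨x, hx⟩ := h.exn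
  obtain ⟨y, hy⟩ := h.exm
  refine ⟨(Subgroup.centralizer ({y} : Set G)).map (QuotientGroup.mk' (Subgroup.center G)),
    h.isFrobeniusComplement hx hy, ?_, ?_⟩
  · refine ⟨⟨fun a b => ?_⟩⟩
    obtain ⟨a', ha', haa⟩ := Subgroup.mem_map.1 a.2
    obtain ⟨b', hb', hbb⟩ := Subgroup.mem_map.1 b.2
    apply Subtype.ext
    change (a : G ⧸ Subgroup.center G) * (b : G ⧸ Subgroup.center G) = b * a
    rw [← haa, ← hbb, ← map_mul, ← map_mul, (h.commute_of_mem_m hy ha' hb').eq]
  · intro u hu v hv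
    rw [h.frobeniusKernel_eq hx hy] at hu hv
    obtain ⟨u', hu', huu⟩ := Subgroup.mem_map.1 hu
    obtain ⟨v', hv', hvv⟩ := Subgroup.mem_map.1 hv
    rw [← huu, ← hvv, ← map_mul, ← map_mul, (h.commute_of_mem_n hx hu' hv').eq]

end Cfsg.Agent.S4255
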