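import Cfsg.Statements.S4257
import Cfsg.Agent.Helper4.DiamD

set_option autoImplicit false
open Cfsg

namespace Cfsg.Agent.S4257

/-- Let G be a finite group. Call a prime a vertex if it divides some conjugacy class size of G, and two distinct vertices adjacent if their product divides some class size. If this graph is connected, then its diameter is at most 3: any two distinct vertices p and q are adjacent, or joined through one or two intermediate vertices. -/
theorem result {G : Type*} [Group G] [Finite G]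
    (hconn : ∀ S : Set ℕ, (∃ p ∈ S, (p.Prime ∧ ∃ g : G, p ∣ (Subgroup.centralizer ({g} : Set G)).index)) → (∃ q ∉ S, (q.Prime ∧ ∃ g : G, q ∣ (Subgroup.centralizer ({g} : Set G)).index)) →
      ∃ p q : ℕ, (p.Prime ∧ ∃ g : G, p ∣ (Subgroup.centralizer ({g} : Set G)).index) ∧ (q.Prime ∧ ∃ g : G, q ∣ (Subgroup.centralizer ({g} : Set G)).index) ∧ p ∈ S ∧ q ∉ S ∧ (∃ g : G, p * q ∣ (Subgroup.centralizer ({g} : Set G)).index))
    (p q : ℕ) (hp : (p.Prime ∧ ∃ g : G, p ∣ (Subgroup.centralizer ({g} : Set G)).index)) (hq : (q.Prime ∧ ∃ g : G, q ∣ (Subgroup.centralizer ({g} : Set G)).index)) (hpq : p ≠ q) :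
    (∃ g : G, p * q ∣ (Subgroup.centralizer ({g} : Set G)).index) ∨ (∃ r : ℕ, (r.Prime ∧ ∃ g : G, r ∣ (Subgroup.centralizer ({g} : Set G)).index) ∧ r ≠ p ∧ r ≠ q ∧ (∃ g : G, p * r ∣ (Subgroup.centralizer ({g} : Set G)).index) ∧ (∃ g : G, r * q ∣ (Subgroup.centralizer ({g} : Set G)).index)) ∨
      (∃ r s : ℕ, (r.Prime ∧ ∃ g : G, r ∣ (Subgroup.centralizer ({g} : Set G)).index) ∧ (s.Prime ∧ ∃ g : G, s ∣ (Subgroup.centralizer ({g} : Set G)).index) ∧ r ≠ p ∧ s ≠ q ∧ r ≠ s ∧ r ≠ q ∧ s ≠ p ∧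
        (∃ g : G, p * r ∣ (Subgroup.centralizer ({g} : Set G)).index) ∧ (∃ g : G, r * s ∣ (Subgroup.centralizer ({g} : Set G)).index) ∧ (∃ g : G, s * q ∣ (Subgroup.centralizer ({g} : Set G)).index)) := by
  classical
  by_contra hcon
  rw [not_or, not_or] at hcon
  obtain ⟨H1, H2, H3⟩ := hcon
  have hmul : ∀ (r s n : ℕ), r.Prime → s.Prime → r ≠ s → r ∣ n → s ∣ n → r * s ∣ n :=
    fun r s n hr hs hne h1 h2 => ((Nat.coprime_primes hr hs).2 hne).mul_dvd_of_dvd_of_dvd h1 h2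
  have hpqdvd : ∀ g : G, p ∣ (Subgroup.centralizer ({g} : Set G)).index →
      q ∣ (Subgroup.centralizer ({g} : Set G)).index → False :=
    fun g h1 h2 => H1 ⟨g, hmul p q _ hp.1 hq.1 hpq h1 h2⟩
  -- the separation property
  have N2 : ∀ (g a b : G) (r s : ℕ), r.Prime → s.Prime →
      p ∣ (Subgroup.centralizer ({a} : Set G)).index → r ∣ (Subgroup.centralizer ({a} : Set G)).index →
      q ∣ (Subgroup.centralizer ({b} : Set G)).index → s ∣ (Subgroup.centralizer ({b} : Set G)).index →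
      r ∣ (Subgroup.centralizer ({g} : Set G)).index → s ∣ (Subgroup.centralizer ({g} : Set G)).index →
      False := by
    intro g a b r s hr hs hpa hra hqb hsb hrg hsg
    by_cases hrp : r = p
    · subst hrp
      by_cases hsq : s = q
      · subst hsq; exact hpqdvd g hrg hsg
      by_cases hsp : s = r
      · subst hsp; exact hpqdvd b hsb hqb
      · exact H2 ⟨s, ⟨hs, b, hsb⟩, hsp, hsq, ⟨g, hmul r s _ hr hs (Ne.symm hsp) hrg hsg⟩,
          ⟨b, hmul s q _ hs hq.1 hsq hsb hqb⟩⟩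
    · by_cases hrq : r = q
      · subst hrq; exact hpqdvd a hpa hra
      by_cases hsq : s = q
      · subst hsq
        exact H2 ⟨r, ⟨hr, a, hra⟩, hrp, hrq, ⟨a, hmul p r _ hp.1 hr (Ne.symm hrp) hpa hra⟩,
          ⟨g, hmul r s _ hr hs hrq hrg hsg⟩⟩
      by_cases hsp : s = p
      · subst hsp; exact hpqdvd b hsb hqb
      by_cases hrs : r = s
      · subst hrs
        exact H2 ⟨r, ⟨hr, a, hra⟩, hrp, hrq, ⟨a, hmul p r _ hp.1 hr (Ne.symm hrp) hpa hra⟩,
          ⟨b, hmul r q _ hr hq.1 hrq hsb hqb⟩⟩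
      · exact H3 ⟨r, s, ⟨hr, a, hra⟩, ⟨hs, b, hsb⟩, hrp, hsq, hrs, hrq, hsp,
          ⟨a, hmul p r _ hp.1 hr (Ne.symm hrp) hpa hra⟩, ⟨g, hmul r s _ hr hs hrs hrg hsg⟩,
          ⟨b, hmul s q _ hs hq.1 hsq hsb hqb⟩⟩
  -- largest class sizes
  obtain ⟨a1, ha1⟩ := hp.2
  obtain ⟨b1, hb1⟩ := hq.2
  have : Nonempty {a : G // p ∣ (Subgroup.centralizer ({a} : Set G)).index} := ⟨⟨a1, ha1⟩⟩
  have : Nonempty {b : G // q ∣ (Subgroup.centralizer ({b} : Set G)).index} := ⟨⟨b1, hb1⟩⟩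
  obtain ⟨⟨a0, ha0⟩, hamax⟩ := Finite.exists_max
    (fun a : {a : G // p ∣ (Subgroup.centralizer ({a} : Set G)).index} =>
      (Subgroup.centralizer ({(a : G)} : Set G)).index)
  obtain ⟨⟨b0, hb0⟩, hbmax⟩ := Finite.exists_max
    (fun b : {b : G // q ∣ (Subgroup.centralizer ({b} : Set G)).index} =>
      (Subgroup.centralizer ({(b : G)} : Set G)).index)
  have hne : (Subgroup.centralizer ({a0} : Set G)).index ≠ (Subgroup.centralizer ({b0} : Set G)).index := by
    intro he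
    rw [he] at ha0
    exact hpqdvd b0 ha0 hb0
  rcases lt_or_gt_of_ne hne with hlt | hgt
  · have h : Cfsg.Agent.Helper4.Diam.DHyp G p
        {s | ∃ b : G, q ∣ (Subgroup.centralizer ({b} : Set G)).index ∧
          s ∣ (Subgroup.centralizer ({b} : Set G)).index} b0 :=
      { hp := hp.1
        exA := ⟨a1, ha1⟩
        sep := by
          rintro g a r s hr hs hpa hra ⟨b, hqb, hsb⟩ hrg hsg
          exact N2 g a b r s hr hs hpa hra hqb hsb hrg hsg
        b0τ := fun s _ hsd => ⟨b0, hb0, hsd⟩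
        lt := fun a ha => lt_of_le_of_lt (hamax ⟨a, ha⟩) hlt }
    exact h.false_of_conn hconn q hq.1 hq.2 (fun a ha hqa => hpqdvd a ha hqa)
  · have h : Cfsg.Agent.Helper4.Diam.DHyp G q
        {r | ∃ a : G, p ∣ (Subgroup.centralizer ({a} : Set G)).index ∧
          r ∣ (Subgroup.centralizer ({a} : Set G)).index} a0 :=
      { hp := hq.1
        exA := ⟨b1, hb1⟩
        sep := by
          rintro g b s r hs hr hqb hsb ⟨a, hpa, hra⟩ hsg hrg
          exact N2 g a b r s hr hs hpa hra hqb hsb hrg hsg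
        b0τ := fun r _ hrd => ⟨a0, ha0, hrd⟩
        lt := fun b hb => lt_of_le_of_lt (hbmax ⟨b, hb⟩) hgt }
    exact h.false_of_conn hconn p hp.1 hp.2 (fun b hb hpb => hpqdvd b hpb hb)

end Cfsg.Agent.S4257
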