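import Cfsg.Statements.S4269
import Cfsg.Agent.Helper2.Conj

set_option autoImplicit false
open Cfsg

namespace Cfsg.Agent.S4269

open Cfsg.Agent.Helper2
open scoped commutatorElement

/-- commuting of elements of an abelian subgroup -/
theorem comm_of_mem {G : Type*} [Group G] (V : Subgroup G) (hV : IsMulCommutative ↥V)
    {x y : G} (hx : x ∈ V) (hy : y ∈ V) : x * y = y * x := by
  have := hV.is_comm.comm (⟨x, hx⟩ : V) ⟨y, hy⟩
  exact congrArg Subtype.val this

/-- `cj h H = H` for `h ∈ H` -/
theorem cj_self_of_mem {G : Type*} [Group G] (H : Subgroup G) {h : G} (hh : h ∈ H) : cj h H = H := by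
  rw [← mem_normalizer_iff_cj]
  exact Subgroup.le_normalizer hh

/-- If `U ≤ V` is `H`-invariant (V abelian normal, `H ⊔ V = ⊤`), then `⁅H,U⁆` is normal. -/
theorem commutator_normal {G : Type*} [Group G]
    (V : Subgroup G) [V.Normal] (hV : IsMulCommutative ↥V) (H : Subgroup G) (hHV : H ⊔ V = ⊤)
    (U : Subgroup G) (hUV : U ≤ V) (hinv : ∀ h ∈ H, cj h U = U) (hWU : ⁅H, U⁆ ≤ U) :
    (⁅H, U⁆ : Subgroup G).Normal := by
  rw [← Subgroup.normalizer_eq_top_iff, eq_top_iff, ← hHV]
  apply sup_le
  · intro h hh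
    rw [mem_normalizer_iff_cj]
    show (⁅H, U⁆ : Subgroup G).map (MulAut.conj h).toMonoidHom = ⁅H, U⁆
    rw [Subgroup.map_commutator]
    have h1 : H.map (MulAut.conj h).toMonoidHom = H := cj_self_of_mem H hh
    have h2 : U.map (MulAut.conj h).toMonoidHom = U := hinv h hh
    rw [h1, h2]
  · intro v hv
    rw [Subgroup.mem_normalizer_iff]
    intro w
    have key : ∀ z : G, z ∈ V → v * z * v⁻¹ = z := by
      intro z hz
      rw [comm_of_mem V hV hv hz, mul_assoc, mul_inv_cancel, mul_one]
    constructor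
    · intro hw
      rw [key w (hUV (hWU hw))]; exact hw
    · intro hw
      have hwV : v * w * v⁻¹ ∈ V := hUV (hWU hw)
      have hwV' : w ∈ V := by
        have := Subgroup.Normal.conj_mem ‹V.Normal› _ hwV v⁻¹
        simpa [mul_assoc] using this
      rw [key w hwV'] at hw; exact hw


/-- Let G be a finite group, V an abelian normal subgroup and H a subgroup with HV = G. Then H is pronormal in G (H and gHg⁻¹ are conjugate inside the subgroup they generate, for every g) if and only if every H-invariant subgroup U of V satisfies U = N_U(H)·[H, U], that is, U is the join of U ∩ N_G(H) and the commutator subgroup [H, U]. -/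
theorem result {G : Type*} [Group G] [Finite G]
    (V : Subgroup G) [V.Normal] (hV : IsMulCommutative ↥V) (H : Subgroup G) (hHV : H ⊔ V = ⊤) :
    Cfsg.IsPronormal H ↔
      ∀ U : Subgroup G, U ≤ V → (∀ h ∈ H, U.map (MulAut.conj h).toMonoidHom = U) →
        U = (U ⊓ Subgroup.normalizer (H : Set G)) ⊔ ⁅H, U⁆ := by
  have hWU : ∀ U : Subgroup G, (∀ h ∈ H, cj h U = U) → ⁅H, U⁆ ≤ U := by
    intro U hinv
    rw [Subgroup.commutator_le]
    intro h hh u hu
    rw [commutatorElement_def]
    have h1 : h * u * h⁻¹ ∈ U := by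
      have := conj_mem_cj U h u hu
      rw [hinv h hh] at this; exact this
    exact U.mul_mem h1 (U.inv_mem hu)
  constructor
  · -- pronormal implies the condition
    intro hpro U hUV hinv
    have hWle := hWU U hinv
    have hWn := commutator_normal V hV H hHV U hUV hinv hWle
    apply le_antisymm
    · intro u hu
      obtain ⟨x, hx, hxeq⟩ := hpro u
      have hcjle : cj u H ≤ ⁅H, U⁆ ⊔ H := by
        rw [cj_le_iff]
        intro h hh
        have h1 : u * h * u⁻¹ = (⁅h, u⁆)⁻¹ * h := by
          rw [commutatorElement_def]; group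
        rw [h1]
        apply Subgroup.mul_mem
        · apply Subgroup.mem_sup_left
          exact Subgroup.inv_mem _ (Subgroup.commutator_mem_commutator hh hu)
        · exact Subgroup.mem_sup_right hh
      have hx' : x ∈ ⁅H, U⁆ ⊔ H := (sup_le le_sup_right hcjle) hx
      have hx'' : x ∈ ((⁅H, U⁆ ⊔ H : Subgroup G) : Set G) := hx'
      rw [Subgroup.normal_mul] at hx''
      obtain ⟨w, hw, h, hh, rfl⟩ := Set.mem_mul.mp hx''
      have h2 : cj u H = cj w H := by
        have : cj (w * h) H = cj w (cj h H) := (cj_cj H w h).symm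
        rw [show H.map (MulAut.conj u).toMonoidHom = cj u H from rfl,
          show H.map (MulAut.conj (w * h)).toMonoidHom = cj (w * h) H from rfl, this,
          cj_self_of_mem H hh] at hxeq
        exact hxeq
      have h3 : w⁻¹ * u ∈ Subgroup.normalizer (H : Set G) := by
        rw [mem_normalizer_iff_cj, ← cj_cj, h2, cj_cj, inv_mul_cancel, cj_one]
      have hwU : w ∈ U := hWle hw
      have h4 : u = w * (w⁻¹ * u) := by group
      rw [h4]
      apply Subgroup.mul_mem
      · exact Subgroup.mem_sup_right hw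
      · apply Subgroup.mem_sup_left
        exact ⟨U.mul_mem (U.inv_mem hwU) hu, h3⟩
    · apply sup_le inf_le_left hWle
  · -- the condition implies pronormal
    intro hcond g
    have hg : g ∈ ((V ⊔ H : Subgroup G) : Set G) := by
      rw [sup_comm, hHV]; trivial
    rw [Subgroup.normal_mul] at hg
    obtain ⟨v, hv, h, hh, rfl⟩ := Set.mem_mul.mp hg
    have hcjg : cj (v * h) H = cj v H := by
      rw [← cj_cj, cj_self_of_mem H hh]
    show ∃ x ∈ H ⊔ cj (v * h) H, cj (v * h) H = cj x H
    rw [hcjg]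
    set L := H ⊔ cj v H with hL
    -- the subgroup Z of V
    have hcomm_mem : ∀ k ∈ H, k * v * k⁻¹ * v⁻¹ ∈ L := by
      intro k hk
      have h1 : k * v * k⁻¹ * v⁻¹ = k * (v * k⁻¹ * v⁻¹) := by group
      rw [h1]
      apply Subgroup.mul_mem
      · exact Subgroup.mem_sup_left hk
      · exact Subgroup.mem_sup_right (conj_mem_cj H v _ (H.inv_mem hk))
    let Z : Subgroup G :=
      { carrier := {u | u ∈ V ∧ ∀ k ∈ H, k * u * k⁻¹ * u⁻¹ ∈ L}
        one_mem' := by
          refine ⟨V.one_mem, ?_⟩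
          intro k _
          simp only [mul_one, mul_inv_cancel, inv_one]
          exact L.one_mem
        mul_mem' := by
          rintro a b ⟨haV, ha⟩ ⟨hbV, hb⟩
          refine ⟨V.mul_mem haV hbV, ?_⟩
          intro k hk
          have hcb : k * b * k⁻¹ * b⁻¹ ∈ V :=
            V.mul_mem (Subgroup.Normal.conj_mem ‹V.Normal› b hbV k) (V.inv_mem hbV)
          have e : k * (a * b) * k⁻¹ * (a * b)⁻¹ =
              (k * a * k⁻¹ * a⁻¹) * (a * (k * b * k⁻¹ * b⁻¹) * a⁻¹) := by group
          rw [e, comm_of_mem V hV haV hcb, mul_assoc (k * b * k⁻¹ * b⁻¹), mul_inv_cancel, mul_one]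
          exact L.mul_mem (ha k hk) (hb k hk)
        inv_mem' := by
          rintro a ⟨haV, ha⟩
          refine ⟨V.inv_mem haV, ?_⟩
          intro k hk
          have hca : k * a * k⁻¹ ∈ V := Subgroup.Normal.conj_mem ‹V.Normal› a haV k
          have e : k * a⁻¹ * k⁻¹ * a⁻¹⁻¹ = (k * a * k⁻¹)⁻¹ * a := by group
          rw [e, comm_of_mem V hV (V.inv_mem hca) haV]
          have e2 : a * (k * a * k⁻¹)⁻¹ = (k * a * k⁻¹ * a⁻¹)⁻¹ := by group
          rw [e2]
          exact L.inv_mem (ha k hk) }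
    have hZV : Z ≤ V := fun u hu => hu.1
    have hvZ : v ∈ Z := ⟨hv, hcomm_mem⟩
    have hZinv_le : ∀ k ∈ H, cj k Z ≤ Z := by
      intro k hk
      rw [cj_le_iff]
      rintro u ⟨huV, hu⟩
      refine ⟨Subgroup.Normal.conj_mem ‹V.Normal› u huV k, ?_⟩
      intro k' hk'
      have e : k' * (k * u * k⁻¹) * k'⁻¹ * (k * u * k⁻¹)⁻¹ =
          k * ((k⁻¹ * k' * k) * u * (k⁻¹ * k' * k)⁻¹ * u⁻¹) * k⁻¹ := by group
      rw [e]
      have h1 : k⁻¹ * k' * k ∈ H := H.mul_mem (H.mul_mem (H.inv_mem hk) hk') hk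
      have h2 := hu _ h1
      have hkL : k ∈ L := Subgroup.mem_sup_left hk
      exact L.mul_mem (L.mul_mem hkL h2) (L.inv_mem hkL)
    have hZinv : ∀ k ∈ H, cj k Z = Z := by
      intro k hk
      apply le_antisymm (hZinv_le k hk)
      have h1 := cj_mono (hZinv_le k⁻¹ (H.inv_mem hk)) k
      rw [cj_cj, mul_inv_cancel, cj_one] at h1
      exact h1
    have hZeq := hcond Z hZV hZinv
    have hWle := hWU Z hZinv
    have hWn := commutator_normal V hV H hHV Z hZV hZinv hWle
    have hWL : ⁅H, Z⁆ ≤ L := by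
      rw [Subgroup.commutator_le]
      intro k hk u hu
      rw [commutatorElement_def]
      exact hu.2 k hk
    have hvmem : v ∈ (((Z ⊓ Subgroup.normalizer (H : Set G)) ⊔ ⁅H, Z⁆ : Subgroup G) : Set G) := by
      rw [← hZeq]; exact hvZ
    rw [Subgroup.mul_normal] at hvmem
    obtain ⟨n, hn, w, hw, rfl⟩ := Set.mem_mul.mp hvmem
    refine ⟨w, hWL hw, ?_⟩
    have hnV : n ∈ V := hZV hn.1
    have hwV : w ∈ V := hZV (hWle hw)
    rw [comm_of_mem V hV hnV hwV, ← cj_cj]
    congr 1
    rw [← mem_normalizer_iff_cj]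
    exact hn.2

end Cfsg.Agent.S4269
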