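import Cfsg.Statements.S4274
import Cfsg.Agent.Helper8.Ord19Orders
import Cfsg.Agent.Helper1.Ord19_Sing
import Cfsg.Agent.Helper2.Ord19_Pairs
import Cfsg.Agent.Helper3.Ord19_Reduction
import Cfsg.Agent.Lead.Ord19_Ord2280

set_option autoImplicit false
open Cfsg

namespace Cfsg.Agent.S4274

/-- A finite group of order 175560 = 2³·3·5·7·11·19 is either simple or has a normal Sylow 19-subgroup. -/
theorem result {G : Type*} [Group G] [Finite G] (hG : Nat.card G = 175560) : IsSimpleGroup G ∨ ∀ P : Sylow 19 G, (P : Subgroup G).Normal := by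
  apply Cfsg.Agent.Helper8.Ord19.reduction _ hG
  intro H _ _ _ d hd h1 h2 hH
  have hP : Cfsg.Agent.Helper8.Ord19.PairsHyp H := by
    intro r s hr hs hrs hfr hfs
    have : Fact r.Prime := ⟨hr⟩
    have : Fact s.Prime := ⟨hs⟩
    exact Cfsg.Agent.Helper8.Ord19.pairs r s hrs hfr hfs
  have hS : Cfsg.Agent.Helper8.Ord19.SingHyp H := by
    intro r hr hf
    have : Fact r.Prime := ⟨hr⟩
    exact Cfsg.Agent.Helper8.Ord19.sing_card r hf
  exact Cfsg.Agent.Helper8.Ord19.no_simple_19d hP hS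
    (fun a b c e => Cfsg.Agent.Helper8.Ord19.ord2280 a b c e) d hd h1 h2 hH

end Cfsg.Agent.S4274
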