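import Cfsg.Statements.S4275
-- import your own Cfsg.Agent.* helpers here

set_option autoImplicit false
open Cfsg

namespace Cfsg.Agent.S4275

/-- Let G be a transitive group of permutations of a finite set Ω, let o ∈ Ω, and let α be an automorphism of G. Then α is induced by conjugation by a permutation of Ω normalizing G if and only if the image under α of the stabilizer of o fixes some point of Ω. -/
theorem result {Ω : Type*} [Fintype Ω] (G : Subgroup (Equiv.Perm Ω)) (htr : MulAction.IsPretransitive G Ω) (o : Ω) (α : G ≃* G) : (∃ σ : Equiv.Perm Ω, σ ∈ Subgroup.normalizer (G : Set (Equiv.Perm Ω)) ∧ ∀ g : G, ((α g : G) : Equiv.Perm Ω) = σ * (g : Equiv.Perm Ω) * σ⁻¹) ↔ ∃ ω : Ω, ∀ g ∈ (MulAction.stabilizer G o).map α.toMonoidHom, g • ω = ω := by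
  classical
  constructor
  · rintro ⟨σ, -, hσ⟩
    refine ⟨σ o, ?_⟩
    rintro _ ⟨h, hh, rfl⟩
    have hho : (h : Equiv.Perm Ω) o = o := hh
    change ((α h : G) : Equiv.Perm Ω) (σ o) = σ o
    rw [hσ h]
    simp [hho]
  · rintro ⟨ω, hω⟩
    have hle : (MulAction.stabilizer G o).map α.toMonoidHom ≤ MulAction.stabilizer G ω :=
      fun g hg => hω g hg
    have heq : (MulAction.stabilizer G o).map α.toMonoidHom = MulAction.stabilizer G ω := by
      obtain ⟨k, hk⟩ := MulAction.exists_smul_eq G o ω
      apply Subgroup.eq_of_le_of_card_ge hle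
      rw [Subgroup.card_map_of_injective α.injective, ← hk,
        MulAction.stabilizer_smul_eq_stabilizer_map_conj,
        Subgroup.card_map_of_injective (MulAut.conj k).injective]
    have hex : ∀ ω' : Ω, ∃ g : G, g • o = ω' := fun ω' => MulAction.exists_smul_eq G o ω'
    choose c hc using hex
    have key : ∀ g : G, α (c (g • o)) • ω = α g • ω := by
      intro g
      have h1 : g⁻¹ * c (g • o) ∈ MulAction.stabilizer G o := by
        rw [MulAction.mem_stabilizer_iff, mul_smul, hc, inv_smul_smul]
      have h2 : α (g⁻¹ * c (g • o)) ∈ MulAction.stabilizer G ω := hle ⟨_, h1, rfl⟩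
      rw [MulAction.mem_stabilizer_iff, map_mul, map_inv, mul_smul, inv_smul_eq_iff] at h2
      exact h2
    have hinj : Function.Injective (fun ω' : Ω => α (c ω') • ω) := by
      intro a b hab
      obtain ⟨g, rfl⟩ := MulAction.exists_smul_eq G o a
      obtain ⟨g', rfl⟩ := MulAction.exists_smul_eq G o b
      simp only [key] at hab
      have h3 : (α g)⁻¹ * α g' ∈ MulAction.stabilizer G ω := by
        rw [MulAction.mem_stabilizer_iff, mul_smul, ← hab, inv_smul_smul]
      rw [← heq] at h3
      obtain ⟨s, hs, hs'⟩ := h3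
      have h4 : s = g⁻¹ * g' := by
        apply α.injective
        rw [map_mul, map_inv]
        exact hs'
      have hs2 : s ∈ MulAction.stabilizer G o := hs
      rw [h4, MulAction.mem_stabilizer_iff, mul_smul, inv_smul_eq_iff] at hs2
      exact hs2.symm
    set σ : Equiv.Perm Ω := Equiv.ofBijective _ (Finite.injective_iff_bijective.mp hinj) with hσ
    have hσapp : ∀ w : Ω, σ w = α (c w) • ω := fun w => rfl
    have hequiv : ∀ (g : G) (w : Ω), σ (g • w) = α g • σ w := by
      intro g w
      obtain ⟨h, rfl⟩ := MulAction.exists_smul_eq G o w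
      rw [← mul_smul, hσapp, hσapp, key, key, map_mul, mul_smul]
    have hconj : ∀ g : G, ((α g : G) : Equiv.Perm Ω) = σ * (g : Equiv.Perm Ω) * σ⁻¹ := by
      intro g
      ext w
      have := hequiv g (σ⁻¹ w)
      simp only [Equiv.Perm.coe_mul, Function.comp_apply]
      change σ ((g : Equiv.Perm Ω) (σ⁻¹ w)) = ((α g : G) : Equiv.Perm Ω) (σ (σ⁻¹ w)) at this
      rw [this]
      simp
    refine ⟨σ, ?_, hconj⟩
    apply Subgroup.mem_normalizer_fintype
    intro n hn
    have := hconj ⟨n, hn⟩
    change σ * n * σ⁻¹ ∈ G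
    rw [← this]
    exact (α ⟨n, hn⟩).2

end Cfsg.Agent.S4275
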