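import Mathlib
import Cfsg.Statements.S4278
import Cfsg.Agent.Helper8.G2OddG

set_option autoImplicit false
open Cfsg

namespace Cfsg.Agent.S4278

/-- In the Chevalley group of type G₂ over a finite field of odd order, any two involutions are conjugate. -/
theorem result {F : Type*} [Field F] [Fintype F] (hF : Odd (Fintype.card F)) (s t : ↥(Cfsg.Lie.chevG2.group F)) (hs : orderOf s = 2) (ht : orderOf t = 2) : IsConj s t := by
  have hs2 : (s : GL Cfsg.Lie.chevG2.Idx F) * s = 1 := by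
    have h := pow_orderOf_eq_one s
    rw [hs, pow_two] at h
    exact congrArg Subtype.val h
  have ht2 : (t : GL Cfsg.Lie.chevG2.Idx F) * t = 1 := by
    have h := pow_orderOf_eq_one t
    rw [ht, pow_two] at h
    exact congrArg Subtype.val h
  have hs1 : (s : GL Cfsg.Lie.chevG2.Idx F) ≠ 1 := by
    intro e
    have h : s = 1 := Subtype.ext e
    rw [h, orderOf_one] at hs
    norm_num at hs
  have ht1 : (t : GL Cfsg.Lie.chevG2.Idx F) ≠ 1 := by
    intro e
    have h : t = 1 := Subtype.ext e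
    rw [h, orderOf_one] at ht
    norm_num at ht
  obtain ⟨g, hg, eg⟩ := Cfsg.Agent.Helper8.G2Odd.inv_conj_z hF s.2 hs2 hs1
  obtain ⟨g', hg', eg'⟩ := Cfsg.Agent.Helper8.G2Odd.inv_conj_z hF t.2 ht2 ht1
  rw [isConj_iff]
  refine ⟨⟨g'⁻¹ * g, mul_mem (inv_mem hg') hg⟩, ?_⟩
  apply Subtype.ext
  have e : (t : GL Cfsg.Lie.chevG2.Idx F) = g'⁻¹ * (g * s * g⁻¹) * g' := by
    rw [eg, ← eg']
    group
  change g'⁻¹ * g * (s : GL Cfsg.Lie.chevG2.Idx F) * (g'⁻¹ * g)⁻¹ = t
  rw [e]
  group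

end Cfsg.Agent.S4278
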