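import Mathlib
import Cfsg.Statements.S4282
import Cfsg.Agent.Helper3.HHLinA
import Cfsg.Agent.Helper3.HHQpowB
import Cfsg.Agent.Helper3.HHConjB
-- import your own Cfsg.Agent.* helpers here

set_option autoImplicit false
open Cfsg

namespace Cfsg.Agent.S4282

set_option maxHeartbeats 800000 in
/-- A critical case behind the Hall–Higman theorem. Let p ≠ q be primes and G a finite group generated by a normal q-subgroup Q and a cyclic p-subgroup generated by x, such that the centralizer of every non-identity element of that cyclic subgroup is its product with the centre of G. Let K be an algebraically closed field of characteristic p and ρ a faithful representation of G on a nonzero finite-dimensional K-space whose restriction to Q is irreducible. If s is the least exponent with (ρ(x) − 1)^s = 0, then |⟨x⟩| − 1 ≤ s ≤ |⟨x⟩|; and if s = |⟨x⟩| − 1 then |⟨x⟩| − 1 is a power of q and Q is non-abelian. -/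
theorem result {G : Type*} [Group G] [Finite G] (p q : ℕ) [Fact p.Prime] [Fact q.Prime] (hpq : p ≠ q) (Q : Subgroup G) [Q.Normal] (hQ : IsPGroup q Q) (x : G) (hx : IsPGroup p (Subgroup.zpowers x)) (hgen : Q ⊔ Subgroup.zpowers x = ⊤) (hC : ∀ y ∈ Subgroup.zpowers x, y ≠ 1 → Subgroup.centralizer ({y} : Set G) = Subgroup.zpowers x ⊔ Subgroup.center G) {K : Type*} [Field K] [IsAlgClosed K] [CharP K p] {V : Type*} [AddCommGroup V] [Module K V] [FiniteDimensional K V] [Nontrivial V] (ρ : Representation K G V) (hfaith : Function.Injective ρ) (hirr : ∀ W : Submodule K V, (∀ g ∈ Q, Submodule.map (ρ g) W ≤ W) → W = ⊥ ∨ W = ⊤) (s : ℕ) (hs : (ρ x - 1) ^ s = 0) (hmin : ∀ k < s, (ρ x - 1) ^ k ≠ 0) : Nat.card (Subgroup.zpowers x) - 1 ≤ s ∧ s ≤ Nat.card (Subgroup.zpowers x) ∧ (s = Nat.card (Subgroup.zpowers x) - 1 → (∃ b : ℕ, Nat.card (Subgroup.zpowers x) - 1 = q ^ b) ∧ ¬ IsMulCommutative Q) := by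
  classical
  have hcardN : Nat.card (Subgroup.zpowers x) = orderOf x := Nat.card_zpowers x
  rw [hcardN]
  obtain ⟨n, hn⟩ := hx.exists_card_eq
  rw [hcardN] at hn
  have hNpos : 0 < orderOf x := orderOf_pos x
  haveI : CharP (Module.End K V) p :=
    charP_of_injective_algebraMap (algebraMap K (Module.End K V)).injective p
  have hs1 : 1 ≤ s := by
    rcases Nat.eq_zero_or_pos s with h0 | h
    · exfalso
      rw [h0, pow_zero] at hs
      exact one_ne_zero hs
    · exact h
  -- s ≤ N
  have hTN : (ρ x - 1) ^ (orderOf x) = 0 := by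
    rw [hn, sub_pow_char_pow_of_commute p n (Commute.one_right _), one_pow, ← map_pow, ← hn,
      pow_orderOf_eq_one, map_one, sub_self]
  have hsN : s ≤ orderOf x := by
    by_contra hlt
    push Not at hlt
    exact hmin _ hlt hTN
  -- s ≤ D
  have hsD : s ≤ Module.finrank K V := by
    by_contra hlt
    push Not at hlt
    apply hmin _ hlt
    have h1 := Module.End.ker_pow_le_ker_pow_finrank (ρ x - 1) s
    rw [hs, LinearMap.ker_zero, top_le_iff] at h1
    exact LinearMap.ker_eq_top.1 h1
  have hDpos : 0 < Module.finrank K V := Module.finrank_pos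
  -- s = 1 forces x = 1
  have hs_one : s = 1 → orderOf x = 1 := by
    intro h
    rw [h, pow_one, sub_eq_zero] at hs
    have : x = 1 := hfaith (by rw [hs, map_one])
    rw [this, orderOf_one]
  -- centralizer hypothesis
  have hcent : ∀ i, 0 < i → i < orderOf x → ∀ g ∈ Q, x ^ i * g = g * x ^ i →
      g ∈ Subgroup.center G := by
    intro i hi0 hiN g hgQ hcomm
    have hy1 : x ^ i ≠ 1 := pow_ne_one_of_lt_orderOf hi0.ne' hiN
    have hyX : x ^ i ∈ Subgroup.zpowers x := Subgroup.pow_mem _ (Subgroup.mem_zpowers x) i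
    have hgC : g ∈ Subgroup.centralizer ({x ^ i} : Set G) :=
      Subgroup.mem_centralizer_singleton_iff.2 hcomm.symm
    rw [hC _ hyX hy1] at hgC
    obtain ⟨a, ha, b, hb, hab⟩ := Subgroup.mem_sup_of_normal_right.1 hgC
    obtain ⟨k, hk⟩ := hQ ⟨g, hgQ⟩
    have hk' : g ^ q ^ k = 1 := by
      have := congrArg Subtype.val hk
      simpa using this
    have hbc : ∀ z : G, z * b = b * z := Subgroup.mem_center_iff.1 hb
    have hapow : a ^ q ^ k ∈ Subgroup.center G := by
      have h1 : a = g * b⁻¹ := by rw [← hab]; group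
      have h2 : Commute g b⁻¹ := by
        have : Commute g b := hbc g
        exact this.inv_right
      rw [h1, h2.mul_pow, hk', one_mul]
      exact Subgroup.pow_mem _ (Subgroup.inv_mem _ hb) _
    have hacop : (q ^ k).Coprime (orderOf a) := by
      obtain ⟨j, hj⟩ := hx ⟨a, ha⟩
      have hj' : a ^ p ^ j = 1 := by
        have := congrArg Subtype.val hj
        simpa using this
      have hdvd : orderOf a ∣ p ^ j := orderOf_dvd_of_pow_eq_one hj'
      apply Nat.Coprime.coprime_dvd_right hdvd
      apply Nat.Coprime.pow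
      exact (Nat.coprime_primes (Fact.out : q.Prime) (Fact.out : p.Prime)).2 hpq.symm
    obtain ⟨m, hm⟩ := exists_pow_eq_self_of_coprime hacop
    have haC : a ∈ Subgroup.center G := by
      rw [← hm]
      exact Subgroup.pow_mem _ hapow _
    rw [← hab]
    exact Subgroup.mul_mem _ haC hb
  -- the two dimension bounds
  have hB1 := Cfsg.Agent.Helper3.HH.conj_dim_bound p q hpq Q hQ x ρ hirr n hn hcent
  have hB2 := Cfsg.Agent.Helper3.HH.commutant_bound (ρ x - 1) s hs
  -- arithmetic
  obtain ⟨D, hD⟩ : ∃ D, D = Module.finrank K V := ⟨_, rfl⟩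
  obtain ⟨f, hf⟩ : ∃ f, f = Module.finrank K
      ↥(Cfsg.Agent.Helper3.HH.homT (ρ x - 1) (ρ x - 1)) := ⟨_, rfl⟩
  obtain ⟨N, hNe⟩ : ∃ N, N = orderOf x := ⟨_, rfl⟩
  rw [← hD, ← hf, ← hNe] at hB1
  rw [← hD, ← hf] at hB2
  rw [← hD] at hsD hDpos
  rw [← hNe] at hsN hs_one hNpos ⊢
  have key : s + 1 ≤ N → s + 1 = N ∧ D = s := by
    intro hlt
    obtain ⟨t, ht⟩ := Nat.exists_eq_add_of_le hlt
    -- N * D^2 + s ≤ s * N + s * D^2
    have h1 : N * (D * D) ≤ s * (N * f) := by
      calc N * (D * D) ≤ N * (s * f) := Nat.mul_le_mul_left _ hB2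
        _ = s * (N * f) := by ring
    have h2 : s * (N * f) + s ≤ s * N + s * (D * D) := by
      have := Nat.mul_le_mul_left s hB1
      calc s * (N * f) + s = s * (N * f + 1) := by ring
        _ ≤ s * (N + D * D) := this
        _ = s * N + s * (D * D) := by ring
    have h3 : N * (D * D) + s ≤ s * N + s * (D * D) := by omega
    rw [ht] at h3
    have h4 : (1 + t) * (D * D) ≤ s * (s + t) := by nlinarith
    have h5 : s * s ≤ D * D := Nat.mul_le_mul hsD hsD
    have h6 : t * (s * s) ≤ s * t := by nlinarith
    rcases Nat.eq_zero_or_pos t with ht0 | htpos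
    · rw [ht0] at h4 ht
      refine ⟨by omega, ?_⟩
      have h7 : D * D ≤ s * s := by nlinarith
      have h8 : D ≤ s := by
        by_contra hc
        push Not at hc
        have := Nat.mul_lt_mul_of_lt_of_le hc hc.le (by omega)
        omega
      omega
    · exfalso
      have h7 : s * s ≤ s := by
        have : t * (s * s) ≤ t * s := by rw [mul_comm t s]; exact h6
        exact Nat.le_of_mul_le_mul_left this htpos
      have h8 : s ≤ 1 := by
        by_contra hc
        push Not at hc
        have : s * 2 ≤ s * s := Nat.mul_le_mul_left s hc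
        omega
      have h9 : s = 1 := by omega
      have := hs_one h9
      omega
  refine ⟨?_, hsN, ?_⟩
  · by_contra hlt
    push Not at hlt
    have := (key (by omega)).1
    omega
  · intro hsN1
    have hlt : s + 1 ≤ N := by omega
    obtain ⟨h1, h2⟩ := key hlt
    constructor
    · -- the degree is a power of q
      obtain ⟨b, hb⟩ := Cfsg.Agent.Helper3.HH.qpow_dim (K := K) q (Nat.card ↥Q)
        (ρ.comp Q.subtype) rfl hQ (by
          intro W hW
          apply hirr W
          intro g hg
          exact hW ⟨g, hg⟩)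
      refine ⟨b, ?_⟩
      rw [← hb, ← hD, h2]
      omega
    · -- Q is not abelian
      intro hcomm
      obtain ⟨v, hv⟩ := exists_ne (0 : V)
      have hinv : ∀ g ∈ Q, Submodule.map (ρ g) (Submodule.span K {v}) ≤ Submodule.span K {v} := by
        intro g hg
        obtain ⟨c, hc⟩ := Cfsg.Agent.Helper3.HH.schur ρ Q hirr (ρ g) (by
          intro h hh
          rw [← map_mul, ← map_mul]
          congr 1
          exact setLike_mul_comm hh hg)
        rintro _ ⟨w, hw, rfl⟩
        rw [hc, LinearMap.smul_apply, Module.End.one_apply]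
        exact Submodule.smul_mem _ _ hw
      have hD1 : D = 1 := by
        rcases hirr _ hinv with h | h
        · exact absurd ((Submodule.span_singleton_eq_bot).1 h) hv
        · rw [hD, ← finrank_top K V, ← h, finrank_span_singleton hv]
      have h9 : s = 1 := by omega
      have := hs_one h9
      omega


end Cfsg.Agent.S4282
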