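import Cfsg.Statements.S4283
import Cfsg.Agent.Helper1.Frobenius
import Cfsg.Agent.Helper4.Frobenius
import Cfsg.Agent.Helper4.ClassSize

set_option autoImplicit false
open Cfsg

namespace Cfsg.Agent.S4283

open scoped Pointwise

/-- Let G be a finite group with centre Z and let K, H be abelian subgroups of G containing Z such that G/Z is a Frobenius group with complement H/Z and kernel K/Z. Then the conjugacy class sizes of G are exactly 1, [G : K] and [G : H], and these two indices are coprime. (This is the converse half of the characterization of finite groups whose conjugacy class sizes are exactly 1, m and n with m and n coprime.) -/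
theorem result {G : Type*} [Group G] [Finite G] (K H : Subgroup G) (hZK : Subgroup.center G ≤ K) (hZH : Subgroup.center G ≤ H) (hK : IsMulCommutative K) (hH : IsMulCommutative H) (hFrob : Cfsg.IsFrobeniusComplement (H.map (QuotientGroup.mk' (Subgroup.center G)))) (hker : Cfsg.frobeniusKernel (H.map (QuotientGroup.mk' (Subgroup.center G))) = (K.map (QuotientGroup.mk' (Subgroup.center G)) : Set (G ⧸ Subgroup.center G))) : Set.range (fun x : G => (Subgroup.centralizer ({x} : Set G)).index) = ({1, K.index, H.index} : Set ℕ) ∧ K.index.Coprime H.index := by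
  classical
  have hπ1 : ∀ x : G, (QuotientGroup.mk' (Subgroup.center G)) x = 1 ↔ x ∈ Subgroup.center G := by
    intro x
    exact QuotientGroup.eq_one_iff x
  -- F0
  have hF0 : ∀ (L : Subgroup G), Subgroup.center G ≤ L → ∀ x : G,
      (QuotientGroup.mk' (Subgroup.center G)) x ∈ L.map (QuotientGroup.mk' (Subgroup.center G)) ↔ x ∈ L := by
    intro L hL x
    constructor
    · rintro ⟨l, hl, hlx⟩
      have h1 : (QuotientGroup.mk' (Subgroup.center G)) (l⁻¹ * x) = 1 := by
        rw [map_mul, map_inv, hlx, inv_mul_cancel]
      rw [hπ1] at h1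
      have h2 : l * (l⁻¹ * x) ∈ L := L.mul_mem hl (hL h1)
      simpa using h2
    · intro hx
      exact ⟨x, hx, rfl⟩
  -- F1
  have hF1 : ∀ g x : G, (QuotientGroup.mk' (Subgroup.center G)) x ∈
      MulAut.conj ((QuotientGroup.mk' (Subgroup.center G)) g) • H.map (QuotientGroup.mk' (Subgroup.center G)) ↔
      g⁻¹ * x * g ∈ H := by
    intro g x
    rw [Cfsg.Agent.Helper4.mem_conj_smul_iff, ← map_inv, ← map_mul, ← map_mul, hF0 H hZH]
  -- F2
  have hF2 : ∀ x : G, x ∈ K ↔ (x ∈ Subgroup.center G ∨ ∀ g : G, g⁻¹ * x * g ∉ H) := by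
    intro x
    rw [← hF0 K hZK x]
    have : (QuotientGroup.mk' (Subgroup.center G)) x ∈ K.map (QuotientGroup.mk' (Subgroup.center G)) ↔
        (QuotientGroup.mk' (Subgroup.center G)) x ∈
          Cfsg.frobeniusKernel (H.map (QuotientGroup.mk' (Subgroup.center G))) := by
      rw [hker]; rfl
    rw [this]
    change ((QuotientGroup.mk' (Subgroup.center G)) x = 1 ∨ ∀ q, (QuotientGroup.mk' (Subgroup.center G)) x ∉
      MulAut.conj q • H.map (QuotientGroup.mk' (Subgroup.center G))) ↔ _
    rw [hπ1]
    constructor
    · rintro (h | h)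
      · exact Or.inl h
      · right
        intro g hg
        exact h _ ((hF1 g x).mpr hg)
    · rintro (h | h)
      · exact Or.inl h
      · right
        intro q
        obtain ⟨g, rfl⟩ := QuotientGroup.mk'_surjective (Subgroup.center G) q
        rw [hF1]
        exact h g
  -- centralizer of a noncentral element of H is H
  have hCH : ∀ x : G, x ∈ H → x ∉ Subgroup.center G → Subgroup.centralizer ({x} : Set G) = H := by
    intro x hxH hxZ
    apply le_antisymm
    · intro c hc
      rw [Subgroup.mem_centralizer_singleton_iff] at hc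
      rw [← hF0 H hZH c]
      have hx1 : (QuotientGroup.mk' (Subgroup.center G)) x ≠ 1 := by rw [Ne, hπ1]; exact hxZ
      have hxH' : (QuotientGroup.mk' (Subgroup.center G)) x ∈ H.map (QuotientGroup.mk' (Subgroup.center G)) :=
        ⟨x, hxH, rfl⟩
      refine Cfsg.Agent.Helper1.mem_of_frobenius hFrob hx1 hxH' ?_
      rw [hF1]
      have : c⁻¹ * x * c = x := by
        rw [mul_assoc, ← hc, ← mul_assoc, inv_mul_cancel, one_mul]
      rw [this]; exact hxH
    · intro c hc
      rw [Subgroup.mem_centralizer_singleton_iff]
      have := hH.is_comm.comm (⟨c, hc⟩ : H) ⟨x, hxH⟩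
      exact congrArg Subtype.val this
  -- centralizer of a noncentral element of K is K
  have hCK : ∀ x : G, x ∈ K → x ∉ Subgroup.center G → Subgroup.centralizer ({x} : Set G) = K := by
    intro x hxK hxZ
    have hxall : ∀ g : G, g⁻¹ * x * g ∉ H := by
      rcases (hF2 x).mp hxK with h | h
      · exact absurd h hxZ
      · exact h
    apply le_antisymm
    · intro c hc
      rw [Subgroup.mem_centralizer_singleton_iff] at hc
      rw [hF2]
      by_contra hcon
      push Not at hcon
      obtain ⟨hcZ, g, hg⟩ := hcon
      -- c' = g⁻¹ c g ∈ H \ Z, x' = g⁻¹ x g commutes with c'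
      have hc'Z : g⁻¹ * c * g ∉ Subgroup.center G := by
        intro h
        apply hcZ
        have := (inferInstance : (Subgroup.center G).Normal).conj_mem _ h g
        simpa [mul_assoc] using this
      have hcomm : g⁻¹ * x * g ∈ Subgroup.centralizer ({g⁻¹ * c * g} : Set G) := by
        rw [Subgroup.mem_centralizer_singleton_iff]
        calc g⁻¹ * x * g * (g⁻¹ * c * g) = g⁻¹ * (x * c) * g := by group
          _ = g⁻¹ * (c * x) * g := by rw [hc]
          _ = g⁻¹ * c * g * (g⁻¹ * x * g) := by group
      rw [hCH _ hg hc'Z] at hcomm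
      exact hxall g hcomm
    · intro c hc
      rw [Subgroup.mem_centralizer_singleton_iff]
      have := hK.is_comm.comm (⟨c, hc⟩ : K) ⟨x, hxK⟩
      exact congrArg Subtype.val this
  -- index for x ∉ K
  have hidx_notK : ∀ x : G, x ∉ K → (Subgroup.centralizer ({x} : Set G)).index = H.index := by
    intro x hxK
    rw [hF2] at hxK
    push Not at hxK
    obtain ⟨hxZ, g, hg⟩ := hxK
    have hx'Z : g⁻¹ * x * g ∉ Subgroup.center G := by
      intro h
      apply hxZ
      have := (inferInstance : (Subgroup.center G).Normal).conj_mem _ h g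
      simpa [mul_assoc] using this
    rw [← hCH _ hg hx'Z, Cfsg.Agent.Helper4.index_centralizer_eq_card_carrier,
      Cfsg.Agent.Helper4.index_centralizer_eq_card_carrier]
    have : ConjClasses.mk x = ConjClasses.mk (g⁻¹ * x * g) := by
      rw [ConjClasses.mk_eq_mk_iff_isConj, isConj_iff]
      exact ⟨g⁻¹, by group⟩
    rw [this]
  -- existence of noncentral elements
  have hexH : ∃ x : G, x ∈ H ∧ x ∉ Subgroup.center G := by
    have h1 := hFrob.1
    rw [Ne, Subgroup.eq_bot_iff_forall] at h1
    push Not at h1
    obtain ⟨q, ⟨x, hx, rfl⟩, hq1⟩ := h1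
    exact ⟨x, hx, fun h => hq1 ((hπ1 x).mpr h)⟩
  have hcount := Cfsg.Agent.Helper1.frobenius_count _ hFrob
  have hKcard : Nat.card (K.map (QuotientGroup.mk' (Subgroup.center G))) =
      (H.map (QuotientGroup.mk' (Subgroup.center G))).index := by
    rw [← hcount.1, hker]
    rfl
  have hHidx : (H.map (QuotientGroup.mk' (Subgroup.center G))).index = H.index := by
    have : H = (H.map (QuotientGroup.mk' (Subgroup.center G))).comap (QuotientGroup.mk' (Subgroup.center G)) := by
      ext x
      rw [Subgroup.mem_comap, hF0 H hZH]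
    conv_rhs => rw [this]
    rw [Subgroup.index_comap_of_surjective _ (QuotientGroup.mk'_surjective _)]
  have hKidx : (K.map (QuotientGroup.mk' (Subgroup.center G))).index = K.index := by
    have : K = (K.map (QuotientGroup.mk' (Subgroup.center G))).comap (QuotientGroup.mk' (Subgroup.center G)) := by
      ext x
      rw [Subgroup.mem_comap, hF0 K hZK]
    conv_rhs => rw [this]
    rw [Subgroup.index_comap_of_surjective _ (QuotientGroup.mk'_surjective _)]
  have hHidx2 : 2 ≤ H.index := by
    have h0 : H.index ≠ 0 := Subgroup.index_ne_zero_of_finite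
    have h1 : H.index ≠ 1 := by
      rw [← hHidx]
      intro h
      exact hFrob.2.1 (Subgroup.index_eq_one.mp h)
    omega
  have hexK : ∃ x : G, x ∈ K ∧ x ∉ Subgroup.center G := by
    by_contra hcon
    push Not at hcon
    have : K.map (QuotientGroup.mk' (Subgroup.center G)) = ⊥ := by
      rw [Subgroup.eq_bot_iff_forall]
      rintro _ ⟨x, hx, rfl⟩
      exact (hπ1 x).mpr (hcon x hx)
    rw [this, Subgroup.card_bot, hHidx] at hKcard
    omega
  constructor
  · ext n
    simp only [Set.mem_range, Set.mem_insert_iff, Set.mem_singleton_iff]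
    constructor
    · rintro ⟨x, rfl⟩
      by_cases hxK : x ∈ K
      · by_cases hxZ : x ∈ Subgroup.center G
        · left
          rw [Subgroup.index_eq_one, Subgroup.centralizer_eq_top_iff_subset]
          intro y hy
          rw [Set.mem_singleton_iff] at hy
          rw [hy]; exact hxZ
        · right; left
          rw [hCK x hxK hxZ]
      · right; right
        exact hidx_notK x hxK
    · rintro (h | h | h)
      · refine ⟨1, ?_⟩
        rw [h, Subgroup.index_eq_one, Subgroup.centralizer_eq_top_iff_subset]
        intro y hy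
        rw [Set.mem_singleton_iff] at hy
        rw [hy]; exact Subgroup.one_mem _
      · obtain ⟨x, hxK, hxZ⟩ := hexK
        exact ⟨x, by rw [hCK x hxK hxZ, h]⟩
      · obtain ⟨x, hxH, hxZ⟩ := hexH
        exact ⟨x, by rw [hCH x hxH hxZ, h]⟩
  · -- coprimality
    have h1 := Subgroup.index_mul_card (K.map (QuotientGroup.mk' (Subgroup.center G)))
    have h2 := Subgroup.index_mul_card (H.map (QuotientGroup.mk' (Subgroup.center G)))
    rw [hKcard, hKidx, hHidx] at h1
    rw [hHidx] at h2
    have h3 : K.index = Nat.card (H.map (QuotientGroup.mk' (Subgroup.center G))) := by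
      have : K.index * H.index = Nat.card (H.map (QuotientGroup.mk' (Subgroup.center G))) * H.index := by
        rw [h1, mul_comm, h2]
      exact Nat.eq_of_mul_eq_mul_right (by omega) this
    rw [h3]
    have h4 := hcount.2
    rw [hHidx] at h4
    have h5 : H.index ≡ 1 [MOD Nat.card (H.map (QuotientGroup.mk' (Subgroup.center G)))] := h4
    have h6 := h5.gcd_eq
    rw [Nat.gcd_one_left] at h6
    rw [Nat.Coprime, Nat.gcd_comm]
    exact h6

end Cfsg.Agent.S4283
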