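import Cfsg.Statements.S4292
import Cfsg.Agent.Helper1.FCRf

set_option autoImplicit false
open Cfsg

namespace Cfsg.Agent.S4292

/-- Let A and B be nontrivial finite groups. Then the direct product A × B occurs as a Frobenius complement if and only if A and B both occur as Frobenius complements and the orders of A and B are coprime. -/
theorem result {A B : Type*} [Group A] [Finite A] [Nontrivial A] [Group B] [Finite B] [Nontrivial B] :
    (∃ (L : Type) (_ : Group L) (_ : Finite L) (H : Subgroup L), Cfsg.IsFrobeniusComplement H ∧ Nonempty ((A × B) ≃* H)) ↔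
    ((∃ (L : Type) (_ : Group L) (_ : Finite L) (H : Subgroup L), Cfsg.IsFrobeniusComplement H ∧ Nonempty (A ≃* H)) ∧
     (∃ (L : Type) (_ : Group L) (_ : Finite L) (H : Subgroup L), Cfsg.IsFrobeniusComplement H ∧ Nonempty (B ≃* H)) ∧
     (Nat.card A).Coprime (Nat.card B)) := by
  constructor
  · rintro ⟨L, iG, iF, H, hF, ⟨e⟩⟩
    refine ⟨?_, ?_, ?_⟩
    · apply Cfsg.Agent.Helper1.FCR.exists_frobenius_of_embedding H hF
        (e.toMonoidHom.comp (MonoidHom.inl A B))
      intro x y hxy
      have := e.injective hxy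
      exact congrArg Prod.fst this
    · apply Cfsg.Agent.Helper1.FCR.exists_frobenius_of_embedding H hF
        (e.toMonoidHom.comp (MonoidHom.inr A B))
      intro x y hxy
      have := e.injective hxy
      exact congrArg Prod.snd this
    · exact Cfsg.Agent.Helper1.FCR.coprime_of_prod_frobenius H hF e
  · rintro ⟨⟨L1, iG1, iF1, H1, hF1, ⟨e1⟩⟩, ⟨L2, iG2, iF2, H2, hF2, ⟨e2⟩⟩, hcop⟩
    obtain ⟨m, τA, hm, hA⟩ := Cfsg.Agent.Helper1.FCR.exists_int_rep_of_frobenius H1 hF1 e1
    obtain ⟨n, τB, hn, hB⟩ := Cfsg.Agent.Helper1.FCR.exists_int_rep_of_frobenius H2 hF2 e2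
    exact Cfsg.Agent.Helper1.FCR.exists_frobenius_prod τA hm hA τB hn hB hcop

end Cfsg.Agent.S4292
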