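import Cfsg.Statements.S4293
import Cfsg.Agent.Helper4.DivisionRingFrobenius

set_option autoImplicit false
open Cfsg

namespace Cfsg.Agent.S4293

/-- A nontrivial finite subgroup of the multiplicative group of a division ring occurs as a Frobenius complement of some finite Frobenius group. -/
theorem result {D : Type*} [DivisionRing D] (H : Subgroup Dˣ) [Finite H] (hH : H ≠ ⊥) :
    ∃ (L : Type) (_ : Group L) (_ : Finite L) (C : Subgroup L), Cfsg.IsFrobeniusComplement C ∧ Nonempty (H ≃* C) := by
  classical
  obtain ⟨p, hp⟩ := CharP.exists D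
  rcases CharP.char_is_prime_or_zero D p with hprime | h0
  · have : Fact p.Prime := ⟨hprime⟩
    apply Cfsg.Agent.Helper4.exists_frobenius_of_prime H hH p hprime
    · intro h
      have hfin : IsOfFinOrder (h : Dˣ) := by
        have h0 : IsOfFinOrder h := isOfFinOrder_of_finite h
        rw [← orderOf_pos_iff] at h0 ⊢
        rwa [Subgroup.orderOf_coe]
      have := Cfsg.Agent.Helper4.not_dvd_orderOf_unit_of_charP p (h : Dˣ) hfin
      rwa [Subgroup.orderOf_coe] at this
    · exact Cfsg.Agent.Helper4.one_notMem_qIdeal_of_charP H p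
  · subst h0
    have : CharZero D := CharP.charP_to_charZero D
    obtain ⟨q, hq1, hq⟩ := Nat.exists_infinite_primes (Nat.card H + 1)
    apply Cfsg.Agent.Helper4.exists_frobenius_of_prime H hH q hq
    · intro h hdvd
      have h1 : orderOf h ≤ Nat.card H := orderOf_le_card
      have h2 := Nat.le_of_dvd (orderOf_pos h) hdvd
      omega
    · exact Cfsg.Agent.Helper4.one_notMem_qIdeal_of_charZero H q hq

end Cfsg.Agent.S4293
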