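import Cfsg.Statements.S4296
import Cfsg.Agent.Helper4.QuatSquareC

set_option autoImplicit false
open Cfsg

namespace Cfsg.Agent.S4296

/-- Let H be a Frobenius complement in a finite group, and suppose some Sylow subgroup of H is not cyclic. Then the number of elements of the Frobenius kernel (the identity together with the elements lying in no conjugate of H) is an odd perfect square. -/
theorem result {L : Type*} [Group L] [Finite L] (H : Subgroup L) (hF : Cfsg.IsFrobeniusComplement H)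
    (hZ : ∃ (p : ℕ) (_ : Fact p.Prime) (P : Sylow p H), ¬ IsCyclic P) :
    Odd (Nat.card (Cfsg.frobeniusKernel H)) ∧ IsSquare (Nat.card (Cfsg.frobeniusKernel H)) := by
  obtain ⟨N, hNeq, hNn, hc⟩ := Cfsg.Agent.Helper6.frobenius_kernel_theorem H hF
  have hcardN : Nat.card (Cfsg.frobeniusKernel H) = Nat.card N := by rw [← hNeq]; rfl
  rw [hcardN]
  have hfpf : ∀ h ∈ H, h ≠ 1 → N ⊓ Subgroup.centralizer {h} = ⊥ :=
    fun h hh hh1 => Cfsg.Agent.Helper4.frobenius_fpf H N hF hNeq h hh hh1
  have hNbot : N ≠ ⊥ := by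
    intro hN0
    have h1 := hc.card_mul_card
    rw [hN0, Subgroup.card_bot, one_mul] at h1
    exact hF.2.1 (Subgroup.card_eq_iff_eq_top H |>.1 h1)
  obtain ⟨p, hpF, P, hP⟩ := hZ
  rcases Cfsg.Agent.S0040.result N H hc hNbot hfpf p P with h1 | ⟨n, ⟨e⟩⟩
  · exact absurd h1 hP
  · have hn : 1 ≤ n := by
      by_contra hn0
      have hn0' : n = 0 := by omega
      subst hn0'
      apply hP
      rw [pow_zero] at e
      have := QuaternionGroup.quaternionGroup_one_isCyclic
      exact e.isCyclic.2 this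
    obtain ⟨m', hm'1, hm'2⟩ : ∃ m' : ℕ, 2 ^ n = 2 * m' ∧ 0 < m' := by
      refine ⟨2 ^ (n - 1), ?_, by positivity⟩
      rw [← pow_succ']
      congr 1
      omega
    obtain ⟨e'⟩ : Nonempty (↥(P : Subgroup H) ≃* QuaternionGroup (2 * m')) := by
      rw [← hm'1]; exact ⟨e⟩
    obtain ⟨u₀, v₀, z₀, hu, hv, hz1, hz2, hvu⟩ := Cfsg.Agent.Helper4.quaternion_exists_uvz m' hm'2
    obtain ⟨j, hj⟩ : ∃ j : QuaternionGroup (2 * m') →* L,
        ∀ x, j x = (((e'.symm x : ↥(P : Subgroup H)) : H) : L) :=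
      ⟨(H.subtype.comp (P : Subgroup H).subtype).comp e'.symm.toMonoidHom, fun x => rfl⟩
    have hjinj : Function.Injective j := by
      intro x y hxy
      rw [hj, hj] at hxy
      exact e'.symm.injective (Subtype.ext (Subtype.ext hxy))
    have hjH : ∀ x, j x ∈ H := by
      intro x; rw [hj]; exact ((e'.symm x : ↥(P : Subgroup H)) : H).2
    have hz1' : j z₀ ≠ 1 := fun h => hz1 (hjinj (h.trans (map_one j).symm))
    exact Cfsg.Agent.Helper4.odd_and_isSquare_card_of_quaternion N (j u₀) (j v₀) (j z₀)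
      (by rw [← map_mul, hu]) (by rw [← map_mul, hv]) hz1' (by rw [← map_mul, hz2, map_one])
      (by rw [← map_mul, hvu, map_mul, map_mul]) (hfpf (j z₀) (hjH z₀) hz1')

end Cfsg.Agent.S4296
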