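import Cfsg.Statements.S4295
import Cfsg.Agent.Helper4.QuatFrobB
import Cfsg.Agent.S4296

set_option autoImplicit false
open Cfsg

namespace Cfsg.Agent.S4295

/-- For a natural number m the following are equivalent: (a) some finite group has a Frobenius complement isomorphic to the quaternion group of order 8 whose Frobenius kernel (the identity together with the elements lying in no conjugate of the complement) has exactly m elements; (b) m is an odd perfect square greater than 1. -/
theorem result (m : ℕ) :
    (∃ (L : Type) (_ : Group L) (_ : Finite L) (H : Subgroup L), Cfsg.IsFrobeniusComplement H ∧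
        Nonempty (H ≃* QuaternionGroup 2) ∧ Nat.card (Cfsg.frobeniusKernel H) = m) ↔
    (Odd m ∧ IsSquare m ∧ 1 < m) := by
  constructor
  · rintro ⟨L, instG, instF, H, hF, ⟨e⟩, hcard⟩
    have h2F : Fact (2 : ℕ).Prime := ⟨Nat.prime_two⟩
    have hcardH : Nat.card H = 2 ^ 3 := by
      rw [Nat.card_congr e.toEquiv, Nat.card_eq_fintype_card, QuaternionGroup.card]
      norm_num
    have hHp : IsPGroup 2 H := IsPGroup.of_card hcardH
    have hnc : ¬ IsCyclic H := by
      intro hcyc
      have hQ : IsCyclic (QuaternionGroup 2) := e.isCyclic.1 hcyc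
      obtain ⟨g, hg⟩ := hQ.exists_generator
      have hcomm : ∀ a b : QuaternionGroup 2, a * b = b * a := by
        intro a b
        obtain ⟨i, rfl⟩ := Subgroup.mem_zpowers_iff.1 (hg a)
        obtain ⟨j, rfl⟩ := Subgroup.mem_zpowers_iff.1 (hg b)
        rw [← zpow_add, ← zpow_add, add_comm]
      have h1 := hcomm (QuaternionGroup.a 1) (QuaternionGroup.xa 0)
      revert h1
      decide
    have hZ : ∃ (p : ℕ) (_ : Fact p.Prime) (P : Sylow p H), ¬ IsCyclic P := by
      obtain ⟨P⟩ : Nonempty (Sylow 2 H) := inferInstance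
      refine ⟨2, h2F, P, ?_⟩
      have hPtop : (⊤ : Subgroup H) = P := P.is_maximal' (hHp.to_subgroup ⊤) le_top
      intro hcyc
      apply hnc
      have h1 : IsCyclic (⊤ : Subgroup H) := by rw [hPtop]; exact hcyc
      exact Subgroup.topEquiv.isCyclic.1 h1
    obtain ⟨h1, h2⟩ := Cfsg.Agent.S4296.result H hF hZ
    rw [hcard] at h1 h2
    refine ⟨h1, h2, ?_⟩
    rw [← hcard, (Cfsg.Agent.Helper1.frobenius_count H hF).1]
    have hidx0 : H.index ≠ 0 := Subgroup.index_ne_zero_of_finite
    have hidx1 : H.index ≠ 1 := fun h => hF.2.1 (Subgroup.index_eq_one.1 h)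
    omega
  · rintro ⟨hodd, ⟨d, rfl⟩, hm⟩
    have hd : Odd d := (Nat.odd_mul.1 hodd).1
    have hd1 : 1 < d := by
      by_contra hd1
      have : d = 0 ∨ d = 1 := by omega
      rcases this with rfl | rfl <;> omega
    exact Cfsg.Agent.Helper4.exists_frobenius_quaternion_of_realizable
      (Cfsg.Agent.Helper4.QuatRealizable.odd_sq d hd hd1) hodd hm

end Cfsg.Agent.S4295
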