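import Cfsg.Statements.S4297
import Cfsg.Agent.Helper4.QuaternionDicyclic
import Cfsg.Agent.S4293

set_option autoImplicit false
open Cfsg

namespace Cfsg.Agent.S4297

/-- For every n ≥ 2 the dicyclic group of order 4n (generated by an element a of order 2n and an element x with x² = aⁿ and x a x⁻¹ = a⁻¹) occurs as a Frobenius complement of some finite Frobenius group. -/
theorem result (n : ℕ) (hn : 2 ≤ n) :
    ∃ (L : Type) (_ : Group L) (_ : Finite L) (H : Subgroup L), Cfsg.IsFrobeniusComplement H ∧ Nonempty (H ≃* QuaternionGroup n) := by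
  have hnpos : 0 < n := by omega
  have : NeZero n := ⟨hnpos.ne'⟩
  obtain ⟨θ, hθ⟩ : ∃ θ : ℝ, θ = Real.pi / n := ⟨_, rfl⟩
  have hu0 : Cfsg.Agent.Helper4.qRot θ ≠ 0 := by
    intro h
    have h1 := Cfsg.Agent.Helper4.qRot_pi_div_pow_two_mul n hnpos
    rw [← hθ, h, zero_pow (by omega)] at h1
    exact zero_ne_one h1
  have hJ0 : Cfsg.Agent.Helper4.qJ ≠ 0 := by
    intro h
    have h1 : Cfsg.Agent.Helper4.qJ.imJ = (0 : Quaternion ℝ).imJ := by rw [h]
    rw [Cfsg.Agent.Helper4.qJ_imJ] at h1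
    exact one_ne_zero h1
  obtain ⟨u, hu_def⟩ : ∃ u : (Quaternion ℝ)ˣ, (u : Quaternion ℝ) = Cfsg.Agent.Helper4.qRot θ :=
    ⟨Units.mk0 _ hu0, rfl⟩
  obtain ⟨J, hJ_def⟩ : ∃ J : (Quaternion ℝ)ˣ, (J : Quaternion ℝ) = Cfsg.Agent.Helper4.qJ :=
    ⟨Units.mk0 _ hJ0, rfl⟩
  have hu : u ^ (2 * n) = 1 := by
    apply Units.ext
    rw [Units.val_pow_eq_pow_val, hu_def, hθ, Units.val_one]
    exact Cfsg.Agent.Helper4.qRot_pi_div_pow_two_mul n hnpos
  have hJ : J * J = u ^ n := by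
    apply Units.ext
    rw [Units.val_mul, Units.val_pow_eq_pow_val, hu_def, hJ_def, hθ,
      Cfsg.Agent.Helper4.qJ_mul_qJ, Cfsg.Agent.Helper4.qRot_pi_div_pow_self n hnpos]
  have huJ : u * J * u = J := by
    apply Units.ext
    rw [Units.val_mul, Units.val_mul, hu_def, hJ_def]
    exact Cfsg.Agent.Helper4.qRot_mul_qJ_mul_qRot θ
  have hord : ∀ k : ℕ, 0 < k → k < 2 * n → u ^ k ≠ 1 := by
    intro k hk0 hk h
    apply Cfsg.Agent.Helper4.qRot_pi_div_pow_ne_one n hnpos k hk0 hk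
    have h1 := congrArg Units.val h
    rw [Units.val_pow_eq_pow_val, hu_def, hθ, Units.val_one] at h1
    exact h1
  have hJu : ∀ k : ℕ, J * u ^ k ≠ 1 := by
    intro k h
    have h1 := congrArg Units.val h
    rw [Units.val_mul, Units.val_pow_eq_pow_val, hu_def, hJ_def, Units.val_one,
      Cfsg.Agent.Helper4.qRot_pow] at h1
    exact Cfsg.Agent.Helper4.qJ_mul_qRot_ne_one _ h1
  have hf := Cfsg.Agent.Helper4.dicyclicHom_injective u J hu hJ huJ hord hJu
  obtain ⟨f, hf_def⟩ : ∃ f : QuaternionGroup n →* (Quaternion ℝ)ˣ,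
      f = Cfsg.Agent.Helper4.dicyclicHom u J hu hJ huJ := ⟨_, rfl⟩
  rw [← hf_def] at hf
  have hfin : Finite f.range := by
    have : Finite (QuaternionGroup n) := inferInstance
    exact Finite.of_equiv _ (MonoidHom.ofInjective hf).toEquiv
  have hcard : Nat.card f.range = 4 * n := by
    rw [← Nat.card_congr (MonoidHom.ofInjective hf).toEquiv, Nat.card_eq_fintype_card,
      QuaternionGroup.card]
  have hne : f.range ≠ ⊥ := by
    intro h
    rw [← Subgroup.card_eq_one] at h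
    omega
  obtain ⟨L, hL1, hL2, C, hC, ⟨e⟩⟩ := Cfsg.Agent.S4293.result f.range hne
  refine ⟨L, hL1, hL2, C, hC, ⟨?_⟩⟩
  exact e.symm.trans (MonoidHom.ofInjective hf).symm

end Cfsg.Agent.S4297
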