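import Cfsg.Statements.S4299
import Cfsg.Agent.Helper4.FrobeniusSemidirect

set_option autoImplicit false
open Cfsg

namespace Cfsg.Agent.S4299

/-- The action of a group of units of `ZMod p` on the additive group of `ZMod p`, written
multiplicatively. -/
noncomputable def affPhi (p : ℕ) (K : Subgroup (ZMod p)ˣ) :
    K →* MulAut (Multiplicative (ZMod p)) :=
  (MulAutMultiplicative (ZMod p)).symm.toMonoidHom.comp (AddAut.mulLeft.comp K.subtype)

theorem affPhi_apply (p : ℕ) (K : Subgroup (ZMod p)ˣ) (k : K) (a : ZMod p) :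
    affPhi p K k (Multiplicative.ofAdd a) = Multiplicative.ofAdd ((k : (ZMod p)ˣ) * a) := rfl

/-- Every nontrivial finite cyclic group occurs as a Frobenius complement of some finite Frobenius group. -/
theorem result {C : Type*} [Group C] [Finite C] [IsCyclic C] [Nontrivial C] :
    ∃ (L : Type) (_ : Group L) (_ : Finite L) (H : Subgroup L), Cfsg.IsFrobeniusComplement H ∧ Nonempty (C ≃* H) := by
  classical
  have hn0 : Nat.card C ≠ 0 := Nat.card_pos.ne'
  obtain ⟨p, hp, _, hmod⟩ := Nat.exists_prime_gt_modEq_one (k := Nat.card C) 0 hn0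
  have hpf : Fact p.Prime := ⟨hp⟩
  have hdvd : Nat.card C ∣ p - 1 := (Nat.modEq_iff_dvd' hp.one_lt.le).mp hmod.symm
  -- a unit of order `Nat.card C`
  obtain ⟨w, hw⟩ := IsCyclic.exists_ofOrder_eq_natCard (α := (ZMod p)ˣ)
  have hcardU : Nat.card (ZMod p)ˣ = p - 1 := by
    rw [Nat.card_eq_fintype_card, ZMod.card_units]
  have hw0 : orderOf w ≠ 0 := by
    rw [hw, hcardU]
    have := hp.one_lt
    omega
  have hdvd' : Nat.card C ∣ orderOf w := by rw [hw, hcardU]; exact hdvd
  set u := w ^ (orderOf w / Nat.card C) with hu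
  have hordu : orderOf u = Nat.card C := orderOf_pow_orderOf_div hw0 hdvd'
  set K := Subgroup.zpowers u with hK
  have hKcard : Nat.card K = Nat.card C := by rw [hK, Nat.card_zpowers, hordu]
  have hKnt : Nontrivial K := by
    have h1 : 1 < Nat.card C := Finite.one_lt_card
    rw [← hKcard] at h1
    exact Finite.one_lt_card_iff_nontrivial.mp h1
  have hNnt : Nontrivial (Multiplicative (ZMod p)) := inferInstance
  have hfpf : ∀ k : K, k ≠ 1 → ∀ a : Multiplicative (ZMod p), affPhi p K k a = a → a = 1 := by
    intro k hk a ha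
    have h1 : ((k : (ZMod p)ˣ) : ZMod p) * Multiplicative.toAdd a = Multiplicative.toAdd a := by
      have := affPhi_apply p K k (Multiplicative.toAdd a)
      rw [ofAdd_toAdd, ha] at this
      exact (congrArg Multiplicative.toAdd this).symm
    have h2 : (((k : (ZMod p)ˣ) : ZMod p) - 1) * Multiplicative.toAdd a = 0 := by
      rw [sub_mul, one_mul, h1, sub_self]
    rcases mul_eq_zero.mp h2 with h3 | h3
    · exfalso
      apply hk
      apply Subtype.ext
      apply Units.ext
      rw [sub_eq_zero] at h3
      simpa using h3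
    · exact congrArg Multiplicative.ofAdd h3
  have hfin : Finite (Multiplicative (ZMod p) ⋊[affPhi p K] K) := by
    have : Finite (Multiplicative (ZMod p)) := inferInstanceAs (Finite (ZMod p))
    exact Finite.of_equiv _ SemidirectProduct.equivProd.symm
  refine ⟨Multiplicative (ZMod p) ⋊[affPhi p K] K, inferInstance, hfin,
    (SemidirectProduct.inr : K →* Multiplicative (ZMod p) ⋊[affPhi p K] K).range,
    Cfsg.Agent.Helper4.isFrobeniusComplement_inr_range (affPhi p K) hfpf, ?_⟩
  have e1 : C ≃* K := mulEquivOfCyclicCardEq hKcard.symm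
  have e2 : K ≃* (SemidirectProduct.inr : K →* Multiplicative (ZMod p) ⋊[affPhi p K] K).range :=
    MonoidHom.ofInjective SemidirectProduct.inr_injective
  exact ⟨e1.trans e2⟩

end Cfsg.Agent.S4299
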