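import Cfsg.Statements.S4300

set_option autoImplicit false
open Cfsg

namespace Cfsg.Agent.S4300

open MulAction

/-- Let G act faithfully and primitively on a set X, and suppose the stabilizer of some point is a simple group. Then either G is simple, or G has a normal subgroup, neither trivial nor the whole group, that acts regularly on X (transitively with trivial point stabilizers). -/
theorem result {G : Type*} [Group G] {X : Type*} [MulAction G X] [FaithfulSMul G X]
    (hprim : MulAction.IsPreprimitive G X) (x : X) (hsimple : IsSimpleGroup (MulAction.stabilizer G x)) :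
    IsSimpleGroup G ∨ ∃ N : Subgroup G, N.Normal ∧ N ≠ ⊥ ∧ N ≠ ⊤ ∧
      MulAction.IsPretransitive N X ∧ ∀ y : X, MulAction.stabilizer N y = ⊥ := by
  by_cases h : ∃ N : Subgroup G, N.Normal ∧ N ≠ ⊥ ∧ N ≠ ⊤
  · right
    obtain ⟨N, hNn, hN1, hN2⟩ := h
    have := hNn
    -- N acts nontrivially
    have hfix : fixedPoints N X ≠ Set.univ := by
      intro hu
      apply hN1
      rw [Subgroup.eq_bot_iff_forall]
      intro n hn
      apply FaithfulSMul.eq_of_smul_eq_smul (α := X)
      intro a
      have : a ∈ fixedPoints N X := by rw [hu]; exact Set.mem_univ a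
      rw [one_smul]
      exact this ⟨n, hn⟩
    have htr : IsPretransitive N X := IsQuasiPreprimitive.isPretransitive_of_normal hfix
    -- the intersection with the stabilizer
    have hK : (N.subgroupOf (stabilizer G x)).Normal := Subgroup.Normal.subgroupOf hNn _
    have hstab : ∀ n ∈ N, n • x = x → n = 1 := by
      rcases hsimple.eq_bot_or_eq_top_of_normal _ hK with hbot | htop
      · intro n hn hnx
        have : (⟨n, hnx⟩ : stabilizer G x) ∈ N.subgroupOf (stabilizer G x) := by
          rw [Subgroup.mem_subgroupOf]; exact hn
        rw [hbot, Subgroup.mem_bot] at this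
        exact congrArg Subtype.val this
      · exfalso
        apply hN2
        rw [Subgroup.subgroupOf_eq_top] at htop
        rw [eq_top_iff]
        intro g _
        obtain ⟨n, hn⟩ := htr.exists_smul_eq x (g • x)
        have h1 : (n : G)⁻¹ * g ∈ stabilizer G x := by
          rw [mem_stabilizer_iff, mul_smul]
          have : (n : G) • x = g • x := hn
          rw [← this, inv_smul_smul]
        have h2 := htop h1
        have : g = (n : G) * ((n : G)⁻¹ * g) := by group
        rw [this]
        exact N.mul_mem n.2 h2
    refine ⟨N, hNn, hN1, hN2, htr, ?_⟩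
    intro y
    rw [Subgroup.eq_bot_iff_forall]
    rintro ⟨m, hm⟩ hmy
    obtain ⟨n, hn⟩ := htr.exists_smul_eq x y
    have hn' : (n : G) • x = y := hn
    have hmy' : m • y = y := by
      have := (mem_stabilizer_iff.mp hmy)
      exact this
    have h1 : ((n : G)⁻¹ * m * n) • x = x := by
      rw [mul_smul, mul_smul, hn', hmy', ← hn', inv_smul_smul]
    have h2 := hstab _ (N.mul_mem (N.mul_mem (N.inv_mem n.2) hm) n.2) h1
    apply Subtype.ext
    change m = 1
    have : m = (n : G) * ((n : G)⁻¹ * m * n) * (n : G)⁻¹ := by group
    rw [this, h2]; group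
  · left
    push Not at h
    have : Nontrivial G := by
      obtain ⟨a, b, hab⟩ := hsimple.toNontrivial
      exact ⟨⟨a.1, b.1, fun h => hab (Subtype.ext h)⟩⟩
    refine ⟨?_⟩
    intro N hN
    by_cases hb : N = ⊥
    · left; exact hb
    · right; exact h N hN hb

end Cfsg.Agent.S4300
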