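import Cfsg.Statements.S4301
import Cfsg.Agent.Helper4.WittExtB

set_option autoImplicit false
open Cfsg

namespace Cfsg.Agent.S4301

/-- One-point extension of a multiply transitive group. Let X be a set and G a group of permutations of Option X (the set X with one extra point ∗ = none) all of whose elements fix ∗, such that G is k-transitive on the points of X for some k ≥ 2, X having at least k points. Suppose a permutation h of Option X and an element g of G satisfy: h interchanges ∗ with a point x of X and fixes a point y of X; g interchanges x and y; (g h)³ and h² lie in G; and for every f in G fixing x, the product h f h lies in G and fixes x. Then an element of the group generated by G and h fixes ∗ exactly when it lies in G, and that group acts (k+1)-transitively on Option X. -/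
theorem result {X : Type*} (G : Subgroup (Equiv.Perm (Option X))) (hfix : ∀ f ∈ G, f none = none)
    (k : ℕ) (hk : 2 ≤ k) (hkX : Nonempty (Fin k ↪ X))
    (htrans : ∀ a b : Fin k ↪ X, ∃ f ∈ G, ∀ i, f (some (a i)) = some (b i))
    (h g : Equiv.Perm (Option X)) (hg : g ∈ G) (x y : X)
    (h1 : h none = some x) (h2 : h (some x) = none) (h3 : h (some y) = some y)
    (h4 : g (some x) = some y) (h5 : g (some y) = some x)
    (h6 : (g * h) ^ 3 ∈ G) (h7 : h ^ 2 ∈ G)
    (h8 : ∀ f ∈ G, f (some x) = some x → h * f * h ∈ G ∧ (h * f * h) (some x) = some x) :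
    (∀ f ∈ Subgroup.closure ((G : Set (Equiv.Perm (Option X))) ∪ {h}), f none = none ↔ f ∈ G) ∧
      MulAction.IsMultiplyPretransitive (Subgroup.closure ((G : Set (Equiv.Perm (Option X))) ∪ {h})) (Option X) (k + 1) := by
  classical
  have hT := Cfsg.Agent.Helper4.witt_closure_le G h hfix k hk hkX htrans g hg x y h2 h3 h4 h6 h7 h8
  have hGK : ∀ f ∈ G, f ∈ Subgroup.closure ((G : Set (Equiv.Perm (Option X))) ∪ {h}) :=
    fun f hf => Subgroup.subset_closure (Or.inl hf)
  have hhK : h ∈ Subgroup.closure ((G : Set (Equiv.Perm (Option X))) ∪ {h}) :=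
    Subgroup.subset_closure (Or.inr rfl)
  have part1 : ∀ f ∈ Subgroup.closure ((G : Set (Equiv.Perm (Option X))) ∪ {h}),
      f none = none ↔ f ∈ G := fun f hf =>
    ⟨fun hfn => Cfsg.Agent.Helper4.wittT_none G h hfix x h1 (hT f hf) hfn, hfix f⟩
  refine ⟨part1, ?_⟩
  have hpre : MulAction.IsPretransitive
      (Subgroup.closure ((G : Set (Equiv.Perm (Option X))) ∪ {h})) (Option X) := by
    rw [MulAction.isPretransitive_iff_base (none : Option X)]
    intro z
    rcases z with _ | w
    · exact ⟨1, one_smul _ _⟩
    · obtain ⟨f, hf, hfw⟩ := Cfsg.Agent.Helper4.witt_one_trans G k hk hkX htrans x w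
      refine ⟨⟨f * h, Subgroup.mul_mem _ (hGK f hf) hhK⟩, ?_⟩
      show f (h none) = some w
      rw [h1, hfw]
  rw [SubMulAction.ofStabilizer.isMultiplyPretransitive (a := (none : Option X))]
  rw [MulAction.isMultiplyPretransitive_iff]
  intro a b
  have hex : ∀ c : Fin k ↪ SubMulAction.ofStabilizer
      (Subgroup.closure ((G : Set (Equiv.Perm (Option X))) ∪ {h})) (none : Option X),
      ∃ c' : Fin k ↪ X, ∀ i, (c i : Option X) = some (c' i) := by
    intro c
    have : ∀ i, ∃ w : X, (c i : Option X) = some w := fun i =>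
      Option.ne_none_iff_exists'.mp (c i).prop
    choose c' hc' using this
    refine ⟨⟨c', ?_⟩, hc'⟩
    intro i j hij
    apply c.injective
    apply Subtype.ext
    rw [hc' i, hc' j, hij]
  obtain ⟨a', ha'⟩ := hex a
  obtain ⟨b', hb'⟩ := hex b
  obtain ⟨f, hf, hfab⟩ := htrans a' b'
  refine ⟨⟨⟨f, hGK f hf⟩, ?_⟩, ?_⟩
  · rw [MulAction.mem_stabilizer_iff]
    exact hfix f hf
  · apply DFunLike.ext
    intro i
    apply Subtype.ext
    show f (a i : Option X) = (b i : Option X)
    rw [ha' i, hb' i, hfab i]

end Cfsg.Agent.S4301
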