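import Cfsg.Statements.S4341
import Cfsg.Agent.Helper4.SylowProduct2

set_option autoImplicit false
open Cfsg

namespace Cfsg.Agent.S4341

/-- Let K be a normal subgroup of a finite group G, p a prime and P a Sylow p-subgroup of G; let N be the normalizer of P ∩ K inside the subgroup PK. Then the number of Sylow p-subgroups of G equals the product of the numbers of Sylow p-subgroups of G/K, of K, and of N/(P ∩ K). (The normality of P ∩ K in N, which always holds, is assumed as a hypothesis so that the quotient can be formed.) -/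
theorem result {G : Type*} [Group G] [Finite G]
    (p : ℕ) [Fact p.Prime] (K : Subgroup G) [K.Normal] (P : Sylow p G) (N : Subgroup G)
    (hN : N = ((P : Subgroup G) ⊔ K) ⊓ Subgroup.normalizer (((P : Subgroup G) ⊓ K : Subgroup G) : Set G))
    [hn : (((P : Subgroup G) ⊓ K).subgroupOf N).Normal] :
    Nat.card (Sylow p G) =
      Nat.card (Sylow p (G ⧸ K)) * Nat.card (Sylow p K) * Nat.card (Sylow p (N ⧸ ((P : Subgroup G) ⊓ K).subgroupOf N)) := by
  subst hN
  have hcardP : Nat.card (P : Subgroup G) = p ^ (Nat.card (⊤ : Subgroup G)).factorization p := by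
    rw [Subgroup.card_top]; exact P.card_eq_multiplicity
  have hTcard : Nat.card ↥((P : Subgroup G) ⊓ K) = p ^ (Nat.card K).factorization p :=
    Cfsg.Agent.Lead.card_inf_eq_ppart_of_normal (N := ⊤) le_top le_top
      (by rw [Subgroup.normalizer_eq_top_iff.mpr ‹K.Normal›]) P.isPGroup' hcardP
  set M := (P : Subgroup G) ⊔ K with hM
  set T := (P : Subgroup G) ⊓ K with hT
  set C := Subgroup.normalizer (T : Set G) with hC
  set N₀ := Subgroup.normalizer ((P : Subgroup G) : Set G) with hN₀
  have hN₀C : N₀ ≤ C := by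
    have haux : ∀ g : G, g ∈ N₀ → ∀ x : G, x ∈ T → g * x * g⁻¹ ∈ T := by
      intro g hg x hx
      exact ⟨(Subgroup.mem_normalizer_iff.mp hg x).mp hx.1, ‹K.Normal›.conj_mem x hx.2 g⟩
    intro g hg
    rw [hC, Subgroup.mem_normalizer_iff]
    intro x
    constructor
    · exact haux g hg x
    · intro hx
      have := haux g⁻¹ (N₀.inv_mem hg) _ hx
      simpa [mul_assoc] using this
  have hPN₀ : (P : Subgroup G) ≤ N₀ := Subgroup.le_normalizer
  have hPM : (P : Subgroup G) ≤ M := le_sup_left
  have hKM : K ≤ M := le_sup_right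
  have hPN : (P : Subgroup G) ≤ M ⊓ C := le_inf hPM (hPN₀.trans hN₀C)
  have h1 := Cfsg.Agent.Helper4.card_sylow_eq_mul K P
  have h2 := Cfsg.Agent.Helper4.card_sylow_subgroup_eq_relIndex P M hPM
  have h3 := Cfsg.Agent.Helper4.card_sylow_subgroup_eq_relIndex P (M ⊓ C) hPN
  -- multiplicativity
  have hH'N : N₀ ⊓ M ≤ M ⊓ C := le_inf inf_le_right (inf_le_left.trans hN₀C)
  have h4 := Subgroup.relIndex_mul_relIndex (N₀ ⊓ M) (M ⊓ C) M hH'N inf_le_left
  have h5 : (N₀ ⊓ M).relIndex M = N₀.relIndex M := Subgroup.inf_relIndex_right N₀ M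
  have h6 : (N₀ ⊓ M).relIndex (M ⊓ C) = N₀.relIndex (M ⊓ C) := by
    have e : N₀ ⊓ M = N₀ ⊓ (M ⊓ C) := by
      apply le_antisymm
      · exact le_inf inf_le_left hH'N
      · exact le_inf inf_le_left (inf_le_right.trans inf_le_left)
    rw [e, Subgroup.inf_relIndex_right]
  -- [M : N] = n_p(K)
  have hMsup : M = (M ⊓ C) ⊔ K := by
    apply le_antisymm
    · rw [hM]; exact sup_le (hPN.trans le_sup_left) le_sup_right
    · exact sup_le inf_le_left hKM
  have h7 : (M ⊓ C).relIndex M = C.relIndex K := by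
    have e := Cfsg.Agent.Helper4.relIndex_sup_of_normal (M ⊓ C) K
    rw [← hMsup] at e
    rw [e, ← Subgroup.inf_relIndex_right (M ⊓ C) K, ← Subgroup.inf_relIndex_right C K]
    congr 1
    apply le_antisymm
    · exact le_inf (inf_le_left.trans inf_le_right) inf_le_right
    · exact le_inf (le_inf (inf_le_right.trans hKM) inf_le_left) inf_le_right
  have h8 : Nat.card (Sylow p K) = C.relIndex K :=
    Cfsg.Agent.Helper4.card_sylow_eq_relIndex_of_card K T inf_le_right hTcard
  -- quotient by the normal p-subgroup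
  have hTp : IsPGroup p (T.subgroupOf (M ⊓ C)) := by
    have : IsPGroup p T := P.isPGroup'.to_le inf_le_left
    exact this.comap_subtype
  have h9 := Cfsg.Agent.Helper4.card_sylow_quotient_pgroup (T.subgroupOf (M ⊓ C)) hTp
  rw [h1, h2, ← h5, ← h4, h6, ← h3, h7, ← h8, h9]
  ring

end Cfsg.Agent.S4341
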