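import Cfsg.Statements.S4303
import Cfsg.Agent.Helper4.SylowCoprime
import Cfsg.Agent.S4341

set_option autoImplicit false
universe u
open Cfsg

namespace Cfsg.Agent.S4303

open Cfsg.Agent.Helper4

theorem card_lt_of_ne_top {G : Type*} [Group G] [Finite G] (M : Subgroup G) (hM : M ≠ ⊤) :
    Nat.card M < Nat.card G := by
  have h1 := M.card_mul_index
  have h0 : M.index ≠ 0 := Subgroup.index_ne_zero_of_finite
  have h2 : M.index ≠ 1 := fun h => hM (Subgroup.index_eq_one.mp h)
  have h3 : 0 < Nat.card M := Nat.card_pos
  have h4 : 2 ≤ M.index := by omega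
  nlinarith

theorem aux (p : ℕ) [Fact p.Prime] (n : ℕ) : ∀ (G : Type u) [Group G] [Finite G], Nat.card G = n →
    ∃ l : List ℕ, l.prod = Nat.card (Sylow p G) ∧
      ∀ m ∈ l, (IsPrimePow m ∧ m % p = 1) ∨
        ∃ (S : Type u) (_ : Group S) (_ : Finite S), IsSimpleGroup S ∧ m = Nat.card (Sylow p S) := by
  induction n using Nat.strong_induction_on with
  | _ n ih =>
    intro G _ _ hn
    have hp : p.Prime := Fact.out
    by_cases hsub : Subsingleton G
    · obtain ⟨P⟩ : Nonempty (Sylow p G) := inferInstance
      have h1 : Nat.card (Sylow p G) ∣ Nat.card G :=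
        (P.card_dvd_index).trans (Subgroup.index_dvd_card _)
      have h2 : Nat.card G = 1 := Nat.card_unique
      rw [h2, Nat.dvd_one] at h1
      exact ⟨[], by rw [h1]; rfl, by simp⟩
    rw [not_subsingleton_iff_nontrivial] at hsub
    by_cases hsimple : IsSimpleGroup G
    · refine ⟨[Nat.card (Sylow p G)], by simp, ?_⟩
      intro m hm
      rw [List.mem_singleton] at hm
      right
      exact ⟨G, inferInstance, inferInstance, hsimple, hm⟩
    have hexK : ∃ K : Subgroup G, K.Normal ∧ K ≠ ⊥ ∧ K ≠ ⊤ := by
      by_contra hno
      push Not at hno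
      apply hsimple
      exact { toNontrivial := hsub
              eq_bot_or_eq_top_of_normal := fun H hH => by
                by_cases hb : H = ⊥
                · exact Or.inl hb
                · exact Or.inr (hno H hH hb) }
    obtain ⟨K, hKn, hKbot, hKtop⟩ := hexK
    obtain ⟨P⟩ : Nonempty (Sylow p G) := inferInstance
    by_cases hbad : (P : Subgroup G) ⊓ K = ⊥ ∧ (P : Subgroup G) ⊔ K = ⊤
    · -- coprime case
      set N := Nat.card (Sylow p G) with hN
      have hNpos : N ≠ 0 := Nat.card_pos.ne'
      refine ⟨N.primeFactors.toList.map (fun q => q ^ N.factorization q), ?_, ?_⟩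
      · rw [Finset.prod_map_toList]
        have := Nat.prod_factorization_pow_eq_self hNpos
        rw [Finsupp.prod, Nat.support_factorization] at this
        exact this
      · intro m hm
        rw [List.mem_map] at hm
        obtain ⟨q, hqmem, rfl⟩ := hm
        rw [Finset.mem_toList] at hqmem
        have hq : q.Prime := Nat.prime_of_mem_primeFactors hqmem
        have hqd : q ∣ N := Nat.dvd_of_mem_primeFactors hqmem
        left
        constructor
        · apply hq.isPrimePow.pow
          exact (hq.factorization_pos_of_dvd hNpos hqd).ne'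
        · have := prime_power_part_card_sylow_modEq_one P K hbad.1 hbad.2 q hq
          have h1 : 1 % p = 1 := Nat.mod_eq_of_lt hp.one_lt
          rw [Nat.ModEq, h1] at this
          exact this
    · -- three-factor formula
      set T := (P : Subgroup G) ⊓ K with hT
      set N := ((P : Subgroup G) ⊔ K) ⊓ Subgroup.normalizer (T : Set G) with hNdef
      have hTN : T ≤ N := le_inf (inf_le_left.trans le_sup_left) Subgroup.le_normalizer
      have hn' : (T.subgroupOf N).Normal :=
        (Subgroup.normal_subgroupOf_iff_le_normalizer hTN).mpr inf_le_right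
      have hform := Cfsg.Agent.S4341.result p K P N rfl
      -- sizes
      have hlt1 : Nat.card (G ⧸ K) < n := by
        rw [← hn, ← Subgroup.index_eq_card]
        have h1 := K.card_mul_index
        have h2 : 1 < Nat.card K := by
          rw [Subgroup.one_lt_card_iff_ne_bot]; exact hKbot
        have h3 : 0 < K.index := Nat.pos_of_ne_zero (Subgroup.index_ne_zero_of_finite)
        nlinarith
      have hlt2 : Nat.card K < n := by rw [← hn]; exact card_lt_of_ne_top K hKtop
      have hlt3 : Nat.card (↥N ⧸ T.subgroupOf N) < n := by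
        rw [← hn]
        have h1 := Subgroup.card_eq_card_quotient_mul_card_subgroup (T.subgroupOf N)
        have h2 : Nat.card (T.subgroupOf N) = Nat.card T :=
          Nat.card_congr (Subgroup.subgroupOfEquivOfLe hTN).toEquiv
        rw [h2] at h1
        have hNle : Nat.card N ≤ Nat.card G := Subgroup.card_le_card_group N
        have hqpos : 0 < Nat.card (↥N ⧸ T.subgroupOf N) := Nat.card_pos
        have hTpos : 0 < Nat.card T := Nat.card_pos
        by_cases hTbot : T = ⊥
        · have hsupne : (P : Subgroup G) ⊔ K ≠ ⊤ := fun h => hbad ⟨hTbot, h⟩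
          have h3 := card_lt_of_ne_top _ hsupne
          have h4 : Nat.card N ≤ Nat.card ↥((P : Subgroup G) ⊔ K) :=
            Subgroup.card_le_of_le inf_le_left
          have h5 : Nat.card (↥N ⧸ T.subgroupOf N) ≤ Nat.card N := by
            rw [h1]; exact Nat.le_mul_of_pos_right _ hTpos
          omega
        · have h3 : 1 < Nat.card T := by
            rw [Subgroup.one_lt_card_iff_ne_bot]; exact hTbot
          have h5 : Nat.card (↥N ⧸ T.subgroupOf N) < Nat.card N := by
            rw [h1]; nlinarith
          omega
      obtain ⟨l₁, hl₁, hg₁⟩ := ih _ hlt1 (G ⧸ K) rfl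
      obtain ⟨l₂, hl₂, hg₂⟩ := ih _ hlt2 K rfl
      obtain ⟨l₃, hl₃, hg₃⟩ := ih _ hlt3 (↥N ⧸ T.subgroupOf N) rfl
      refine ⟨l₁ ++ l₂ ++ l₃, ?_, ?_⟩
      · rw [List.prod_append, List.prod_append, hl₁, hl₂, hl₃, hform]
      · intro m hm
        rw [List.mem_append, List.mem_append] at hm
        rcases hm with (hm | hm) | hm
        · exact hg₁ m hm
        · exact hg₂ m hm
        · exact hg₃ m hm

/-- For a finite group `G` and a prime `p`, the number of Sylow `p`-subgroups of `G` is a product of natural numbers each of which is either a prime power congruent to 1 modulo `p` or the number of Sylow `p`-subgroups of some finite simple group. -/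
theorem result {G : Type u} [Group G] [Finite G]
    (p : ℕ) [Fact p.Prime] :
    ∃ l : List ℕ, l.prod = Nat.card (Sylow p G) ∧
      ∀ m ∈ l, (IsPrimePow m ∧ m % p = 1) ∨
        ∃ (S : Type u) (_ : Group S) (_ : Finite S), IsSimpleGroup S ∧ m = Nat.card (Sylow p S) :=
  aux p _ G rfl

end Cfsg.Agent.S4303
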