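import Cfsg.Statements.S4321
import Cfsg.Agent.Helper4.PSingE

set_option autoImplicit false
open Cfsg

namespace Cfsg.Agent.S4321

/-- Let `G` be a finite group and `p` a prime not dividing the order of the centre of `G`. Consider the primes dividing the size of some conjugacy class of a `p`-singular element (an element of order divisible by `p`), two of them adjacent when their product divides such a class size. Then any two distinct such primes are joined by a path with at most 3 edges (the graph is connected of diameter at most 3). -/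
theorem result {G : Type*} [Group G] [Finite G] (p : ℕ) [Fact p.Prime]
    (hZ : ¬ p ∣ Nat.card ↥(Subgroup.center G)) (r s : ℕ) (hr : (r.Prime ∧ ∃ x : G, p ∣ orderOf x ∧ r ∣ (Subgroup.centralizer ({x} : Set G)).index)) (hs : (s.Prime ∧ ∃ x : G, p ∣ orderOf x ∧ s ∣ (Subgroup.centralizer ({x} : Set G)).index)) (hrs : r ≠ s) :
    (∃ x : G, p ∣ orderOf x ∧ r * s ∣ (Subgroup.centralizer ({x} : Set G)).index) ∨ (∃ t : ℕ, (t.Prime ∧ ∃ x : G, p ∣ orderOf x ∧ t ∣ (Subgroup.centralizer ({x} : Set G)).index) ∧ t ≠ r ∧ t ≠ s ∧ (∃ x : G, p ∣ orderOf x ∧ r * t ∣ (Subgroup.centralizer ({x} : Set G)).index) ∧ (∃ x : G, p ∣ orderOf x ∧ t * s ∣ (Subgroup.centralizer ({x} : Set G)).index)) ∨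
      (∃ t u : ℕ, (t.Prime ∧ ∃ x : G, p ∣ orderOf x ∧ t ∣ (Subgroup.centralizer ({x} : Set G)).index) ∧ (u.Prime ∧ ∃ x : G, p ∣ orderOf x ∧ u ∣ (Subgroup.centralizer ({x} : Set G)).index) ∧ t ≠ r ∧ u ≠ s ∧ t ≠ u ∧ (∃ x : G, p ∣ orderOf x ∧ r * t ∣ (Subgroup.centralizer ({x} : Set G)).index) ∧ (∃ x : G, p ∣ orderOf x ∧ t * u ∣ (Subgroup.centralizer ({x} : Set G)).index) ∧ (∃ x : G, p ∣ orderOf x ∧ u * s ∣ (Subgroup.centralizer ({x} : Set G)).index)) := by
  classical
  by_contra hcon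
  rw [not_or, not_or] at hcon
  obtain ⟨H1, H2, H3⟩ := hcon
  have hmul : ∀ (r1 r2 n : ℕ), r1.Prime → r2.Prime → r1 ≠ r2 → r1 ∣ n → r2 ∣ n → r1 * r2 ∣ n :=
    fun r1 r2 n h1 h2 hne hd1 hd2 =>
      ((Nat.coprime_primes h1 h2).2 hne).mul_dvd_of_dvd_of_dvd hd1 hd2
  obtain ⟨hrp, a, ha, hra⟩ := hr
  obtain ⟨hsp, b, hb, hsb⟩ := hs
  -- the separation property
  have sep : ∀ r' s' : ℕ, r'.Prime → s'.Prime →
      r' ∣ (Subgroup.centralizer ({a} : Set G)).index →
      s' ∣ (Subgroup.centralizer ({b} : Set G)).index →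
      ∀ g : G, p ∣ orderOf g → r' ∣ (Subgroup.centralizer ({g} : Set G)).index →
        s' ∣ (Subgroup.centralizer ({g} : Set G)).index → False := by
    intro r' s' hr' hs' hr'a hs'b g hg hr'g hs'g
    by_cases hrr : r' = r
    · subst hrr
      by_cases hss : s' = s
      · subst hss
        exact H1 ⟨g, hg, hmul _ _ _ hr' hs' hrs hr'g hs'g⟩
      · by_cases hsr : s' = r'
        · subst hsr
          exact H1 ⟨b, hb, hmul _ _ _ hr' hsp hrs hs'b hsb⟩
        · exact H2 ⟨s', ⟨hs', b, hb, hs'b⟩, hsr, hss,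
            ⟨g, hg, hmul _ _ _ hr' hs' (Ne.symm hsr) hr'g hs'g⟩,
            ⟨b, hb, hmul _ _ _ hs' hsp hss hs'b hsb⟩⟩
    · by_cases hr's : r' = s
      · subst hr's
        exact H1 ⟨a, ha, hmul _ _ _ hrp hr' hrs hra hr'a⟩
      · by_cases hss : s' = s
        · subst hss
          exact H2 ⟨r', ⟨hr', a, ha, hr'a⟩, hrr, hr's,
            ⟨a, ha, hmul _ _ _ hrp hr' (Ne.symm hrr) hra hr'a⟩,
            ⟨g, hg, hmul _ _ _ hr' hs' hr's hr'g hs'g⟩⟩
        · by_cases hsr : s' = r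
          · subst hsr
            exact H1 ⟨b, hb, hmul _ _ _ hs' hsp hrs hs'b hsb⟩
          · by_cases hr's' : r' = s'
            · subst hr's'
              exact H2 ⟨r', ⟨hr', a, ha, hr'a⟩, hrr, hr's,
                ⟨a, ha, hmul _ _ _ hrp hr' (Ne.symm hrr) hra hr'a⟩,
                ⟨b, hb, hmul _ _ _ hr' hsp hr's hs'b hsb⟩⟩
            · exact H3 ⟨r', s', ⟨hr', a, ha, hr'a⟩, ⟨hs', b, hb, hs'b⟩, hrr, hss, hr's',
                ⟨a, ha, hmul _ _ _ hrp hr' (Ne.symm hrr) hra hr'a⟩,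
                ⟨g, hg, hmul _ _ _ hr' hs' hr's' hr'g hs'g⟩,
                ⟨b, hb, hmul _ _ _ hs' hsp hss hs'b hsb⟩⟩
  -- one of the two class sizes is prime to p
  have hp := (Fact.out : p.Prime)
  by_cases hpb : p ∣ (Subgroup.centralizer ({b} : Set G)).index
  · have hpa : ¬ p ∣ (Subgroup.centralizer ({a} : Set G)).index := by
      intro hpa
      exact sep p p hp hp hpa hpb a ha hpa hpa
    exact Cfsg.Agent.Helper4.PSing.core hZ b a hb ha
      (fun r' s' hr' hs' h1 h2 g hg h3 h4 => sep s' r' hs' hr' h2 h1 g hg h4 h3) hpa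
  · exact Cfsg.Agent.Helper4.PSing.core hZ a b ha hb sep hpb

end Cfsg.Agent.S4321
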