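import Cfsg.Statements.S4326
import Cfsg.Agent.Helper4.AutQuotAction
import Cfsg.Agent.Helper4.Conj

set_option autoImplicit false
open Pointwise
open Cfsg

namespace Cfsg.Agent.S4326

/-- Let G be a finite group, p a prime, x an automorphism of G of p-power order and M the subgroup of fixed points of x. Suppose that p divides the index of M and that either M is self-normalizing or M has trivial center. Then some conjugate of M is mapped onto itself by x but is not fixed elementwise by x. -/
theorem result {G : Type*} [Group G] [Finite G]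
    (p : ℕ) [Fact p.Prime] (x : MulAut G) (hx : ∃ k : ℕ, orderOf x = p ^ k) (M : Subgroup G)
    (hM : ∀ g : G, g ∈ M ↔ x g = g) (hp : p ∣ M.index)
    (hself : Subgroup.normalizer (M : Set G) = M ∨ Subgroup.center M = ⊥) :
    ∃ g : G, (∀ y ∈ MulAut.conj g • M, x y ∈ MulAut.conj g • M) ∧ ∃ y ∈ MulAut.conj g • M, x y ≠ y := by
  classical
  have hpp : p.Prime := Fact.out
  have hmem : ∀ (g y : G), y ∈ MulAut.conj g • M ↔ g⁻¹ * y * g ∈ M := by
    intro g y
    rw [← Cfsg.Agent.Helper4.map_conj_eq_smul, Cfsg.Agent.Helper4.mem_map_conj_iff]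
  -- all powers of x fix M pointwise
  have hKfix : ∀ φ ∈ Subgroup.zpowers x, ∀ m ∈ M, φ m = m := by
    intro φ hφ m hm
    have hle : Subgroup.zpowers x ≤ MulAction.stabilizer (MulAut G) m := by
      rw [Subgroup.zpowers_le, MulAction.mem_stabilizer_iff]
      exact (hM m).mp hm
    have := hle hφ
    rw [MulAction.mem_stabilizer_iff] at this
    exact this
  have hK : ∀ φ ∈ Subgroup.zpowers x, ∀ m ∈ M, φ m ∈ M := by
    intro φ hφ m hm
    rw [hKfix φ hφ m hm]; exact hm
  -- key claim
  have key : ∃ g : G, g⁻¹ * x g ∈ M ∧ g ∉ Subgroup.normalizer (M : Set G) := by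
    by_contra hcon
    push Not at hcon
    -- every fixed coset is the trivial coset
    have hfixM : ∀ g : G, g⁻¹ * x g ∈ M → g ∈ M := by
      intro g hg
      have hgN := hcon g hg
      rcases hself with h | h
      · rw [h] at hgN; exact hgN
      · -- z = g⁻¹ x g is central in M
        have hz : (⟨g⁻¹ * x g, hg⟩ : M) ∈ Subgroup.center M := by
          rw [Subgroup.mem_center_iff]
          intro m
          apply Subtype.ext
          change (m : G) * (g⁻¹ * x g) = g⁻¹ * x g * (m : G)
          have h1 : g * (m : G) * g⁻¹ ∈ M := (Subgroup.mem_normalizer_iff.mp hgN m).mp m.2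
          have h2 : x (g * (m : G) * g⁻¹) = g * (m : G) * g⁻¹ := (hM _).mp h1
          rw [map_mul, map_mul, map_inv, (hM _).mp m.2] at h2
          -- x g * m * (x g)⁻¹ = g * m * g⁻¹
          calc (m : G) * (g⁻¹ * x g) = g⁻¹ * (g * (m : G) * g⁻¹) * x g := by group
            _ = g⁻¹ * (x g * (m : G) * (x g)⁻¹) * x g := by rw [h2]
            _ = g⁻¹ * x g * (m : G) := by group
        rw [h, Subgroup.mem_bot] at hz
        have h3 : g⁻¹ * x g = 1 := congrArg Subtype.val hz
        have h4 : x g = g := by
          have := congrArg (fun t => g * t) h3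
          simpa using this
        exact (hM g).mpr h4
    letI act : MulAction (Subgroup.zpowers x) (G ⧸ M) :=
      Cfsg.Agent.Helper4.autQuotAction M (Subgroup.zpowers x) hK
    have hPG : IsPGroup p (Subgroup.zpowers x) := by
      obtain ⟨k, hk⟩ := hx
      apply IsPGroup.of_card (n := k)
      rw [Nat.card_zpowers, hk]
    have hmod := hPG.card_modEq_card_fixedPoints (G ⧸ M)
    have hfp : MulAction.fixedPoints (Subgroup.zpowers x) (G ⧸ M) = {(QuotientGroup.mk 1 : G ⧸ M)} := by
      ext q
      induction q using QuotientGroup.induction_on with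
      | H g =>
        rw [Set.mem_singleton_iff, MulAction.mem_fixedPoints]
        constructor
        · intro hq
          have h1 := hq ⟨x, Subgroup.mem_zpowers x⟩
          change (QuotientGroup.mk (x g) : G ⧸ M) = QuotientGroup.mk g at h1
          rw [QuotientGroup.eq] at h1
          have h2 : g⁻¹ * x g ∈ M := by
            have := M.inv_mem h1
            simpa using this
          have h3 := hfixM g h2
          rw [QuotientGroup.eq]
          simpa using h3
        · intro hq φ
          have h3 : g ∈ M := by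
            rw [QuotientGroup.eq] at hq
            simpa using hq
          change (QuotientGroup.mk ((φ : MulAut G) g) : G ⧸ M) = QuotientGroup.mk g
          rw [hKfix φ φ.2 g h3]
    have hc1 : Nat.card ↥({(QuotientGroup.mk 1 : G ⧸ M)} : Set (G ⧸ M)) = 1 := Nat.card_unique
    rw [hfp, hc1] at hmod
    have hidx : Nat.card (G ⧸ M) = M.index := rfl
    rw [hidx] at hmod
    have h0 : M.index ≡ 0 [MOD p] := (Nat.modEq_zero_iff_dvd).mpr hp
    have h1 : (1 : ℕ) ≡ 0 [MOD p] := hmod.symm.trans h0
    have h2 : p ∣ 1 := (Nat.modEq_zero_iff_dvd).mp h1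
    exact hpp.one_lt.ne' (Nat.dvd_one.mp h2)
  obtain ⟨g, hgM, hgN⟩ := key
  refine ⟨g, ?_, ?_⟩
  · intro y hy
    rw [hmem] at hy ⊢
    -- y = g m g⁻¹
    have hxy : x y = x g * (g⁻¹ * y * g) * (x g)⁻¹ := by
      have h1 : y = g * (g⁻¹ * y * g) * g⁻¹ := by group
      conv_lhs => rw [h1]
      rw [map_mul, map_mul, map_inv, (hM _).mp hy]
    rw [hxy]
    have : g⁻¹ * (x g * (g⁻¹ * y * g) * (x g)⁻¹) * g =
        (g⁻¹ * x g) * (g⁻¹ * y * g) * (g⁻¹ * x g)⁻¹ := by group
    rw [this]
    exact M.mul_mem (M.mul_mem hgM hy) (M.inv_mem hgM)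
  · by_contra hcon
    push Not at hcon
    apply hgN
    apply Subgroup.mem_normalizer_fintype
    intro m hm
    have h1 : g * m * g⁻¹ ∈ MulAut.conj g • M := by
      rw [hmem]
      have : g⁻¹ * (g * m * g⁻¹) * g = m := by group
      rw [this]; exact hm
    exact (hM _).mpr (hcon _ h1)

end Cfsg.Agent.S4326
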