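import Cfsg.Statements.S4331
import Cfsg.Agent.Helper4.AGammaL19B
import Cfsg.Agent.Helper4.SubnormalNilp
import Cfsg.Agent.Helper4.PCore

set_option autoImplicit false
open Cfsg

namespace Cfsg.Agent.S4331

/-- There is a finite solvable group G with a subgroup A of order 2 such that every conjugacy class of G contains an element g for which A is subnormal in the subgroup generated by A and g, and yet A is not contained in O_2(G). (So the corresponding criteria for odd primes fail at the prime 2, even for solvable groups.) -/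
theorem result :
    ∃ (G : Type) (_ : Group G) (_ : Finite G) (A : Subgroup G), Group.IsSolvable G ∧ Nat.card A = 2 ∧
      (∀ c : G, ∃ g : G, IsConj c g ∧ (A.subgroupOf (A ⊔ Subgroup.zpowers g)).IsSubnormal) ∧
      ¬ A ≤ Cfsg.pCore 2 G := by
  have h2 : Fact (Nat.Prime 2) := ⟨Nat.prime_two⟩
  refine ⟨Cfsg.Agent.Helper4.AGL19.G, inferInstance, inferInstance,
    Subgroup.zpowers Cfsg.Agent.Helper4.AGL19.a, inferInstance,
    Cfsg.Agent.Helper4.AGL19.card_zpowers_a, ?_, ?_⟩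
  · intro c
    obtain ⟨h, hh⟩ := Cfsg.Agent.Helper4.AGL19.key c
    refine ⟨h * c * h⁻¹, isConj_iff.2 ⟨h, rfl⟩, ?_⟩
    rcases hh with hv | hc
    · exact Cfsg.Agent.Helper4.isSubnormal_subgroupOf_sup_zpowers (p := 2)
        Cfsg.Agent.Helper4.AGL19.S _ Cfsg.Agent.Helper4.AGL19.isPGroup_S
        ((Subgroup.zpowers_le).2 Cfsg.Agent.Helper4.AGL19.a_mem_S) _
        (Subgroup.le_normalizer ((Cfsg.Agent.Helper4.AGL19.mem_S _).2 hv))
    · have hpg : IsPGroup 2 (Subgroup.zpowers Cfsg.Agent.Helper4.AGL19.a) :=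
        IsPGroup.of_card (n := 1) (by rw [Cfsg.Agent.Helper4.AGL19.card_zpowers_a, pow_one])
      refine Cfsg.Agent.Helper4.isSubnormal_subgroupOf_sup_zpowers (p := 2)
        (Subgroup.zpowers Cfsg.Agent.Helper4.AGL19.a) _ hpg le_rfl _ ?_
      apply Subgroup.centralizer_le_normalizer
      rw [Subgroup.mem_centralizer_iff]
      intro x hx
      obtain ⟨n, rfl⟩ := Subgroup.mem_zpowers_iff.1 hx
      have hcomm : Commute Cfsg.Agent.Helper4.AGL19.a (h * c * h⁻¹) := hc.symm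
      exact (hcomm.zpow_left n).eq
  · intro hle
    have ha : Cfsg.Agent.Helper4.AGL19.a ∈ Cfsg.pCore 2 Cfsg.Agent.Helper4.AGL19.G :=
      hle (Subgroup.mem_zpowers _)
    have hn : (Cfsg.pCore 2 Cfsg.Agent.Helper4.AGL19.G).Normal := Cfsg.Agent.Helper4.pCore_normal
    have hu : Cfsg.Agent.Helper4.AGL19.a * Cfsg.Agent.Helper4.AGL19.t *
        Cfsg.Agent.Helper4.AGL19.a⁻¹ * Cfsg.Agent.Helper4.AGL19.t⁻¹ ∈
        Cfsg.pCore 2 Cfsg.Agent.Helper4.AGL19.G := by
      have h1 := hn.conj_mem _ (Subgroup.inv_mem _ ha) Cfsg.Agent.Helper4.AGL19.t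
      have h3 := Subgroup.mul_mem _ ha h1
      simpa only [mul_assoc] using h3
    obtain ⟨k, hk⟩ := (Cfsg.Agent.Helper4.pCore_isPGroup (p := 2)
      (G := Cfsg.Agent.Helper4.AGL19.G)) ⟨_, hu⟩
    have hk' : (Cfsg.Agent.Helper4.AGL19.a * Cfsg.Agent.Helper4.AGL19.t *
        Cfsg.Agent.Helper4.AGL19.a⁻¹ * Cfsg.Agent.Helper4.AGL19.t⁻¹) ^ 2 ^ k = 1 := by
      have := congrArg Subtype.val hk
      simpa using this
    have hd1 := orderOf_dvd_of_pow_eq_one hk'
    have hd2 := orderOf_dvd_of_pow_eq_one Cfsg.Agent.Helper4.AGL19.u_cube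
    have hcop : Nat.Coprime (2 ^ k) 3 := Nat.Coprime.pow_left k (by norm_num)
    have h1 := Nat.eq_one_of_dvd_coprimes hcop hd1 hd2
    exact Cfsg.Agent.Helper4.AGL19.u_ne_one (orderOf_eq_one_iff.1 h1)

end Cfsg.Agent.S4331
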