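import Cfsg.Statements.S4332
import Cfsg.Agent.Helper4.ThreeCycleSubnormal
import Cfsg.Agent.Helper4.PCore

set_option autoImplicit false
open Pointwise
open Cfsg

namespace Cfsg.Agent.S4332

/-- In the symmetric group of degree 8, let A be the subgroup generated by a 3-cycle. Then every conjugacy class contains an element g for which A is subnormal in the subgroup generated by A and its conjugate by g, although O_3 of the symmetric group of degree 8 is trivial. -/
theorem result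
    (σ : Equiv.Perm (Fin 8)) (hσ : σ.IsThreeCycle) :
    (∀ c : Equiv.Perm (Fin 8), ∃ g : Equiv.Perm (Fin 8), IsConj c g ∧
      ((Subgroup.zpowers σ).subgroupOf (Subgroup.zpowers σ ⊔ MulAut.conj g • Subgroup.zpowers σ)).IsSubnormal) ∧
    Cfsg.pCore 3 (Equiv.Perm (Fin 8)) = ⊥ := by
  refine ⟨fun c => Cfsg.Agent.Helper4.exists_conj_threeCycle_subnormal (by simp) σ hσ c, ?_⟩
  have h3 : Fact (Nat.Prime 3) := ⟨Nat.prime_three⟩
  obtain ⟨N, hN⟩ : ∃ N : Subgroup (Equiv.Perm (Fin 8)), N = Cfsg.pCore 3 (Equiv.Perm (Fin 8)) :=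
    ⟨_, rfl⟩
  rw [← hN]
  have hn : N.Normal := by rw [hN]; exact Cfsg.Agent.Helper4.pCore_normal
  have hp : IsPGroup 3 N := by rw [hN]; exact Cfsg.Agent.Helper4.pCore_isPGroup
  have hpow : ∀ n ∈ N, ∃ k : ℕ, n ^ 3 ^ k = 1 := by
    intro n hn'
    obtain ⟨k, hk⟩ := hp ⟨n, hn'⟩
    refine ⟨k, ?_⟩
    have := congrArg Subtype.val hk
    simpa using this
  have hsimple : IsSimpleGroup (alternatingGroup (Fin 8)) :=
    alternatingGroup.isSimpleGroup (by simp)
  have hKn : (N.subgroupOf (alternatingGroup (Fin 8))).Normal := inferInstance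
  rcases hKn.eq_bot_or_eq_top with hbot | htop
  · rw [Subgroup.subgroupOf_eq_bot] at hbot
    rw [eq_bot_iff]
    intro n hn'
    rw [Subgroup.mem_bot]
    have hsq : n * n ∈ alternatingGroup (Fin 8) := by
      rw [Equiv.Perm.mem_alternatingGroup, Equiv.Perm.sign_mul, Int.units_mul_self]
    have h1 : n * n = 1 := by
      have := hbot.le_bot ⟨N.mul_mem hn' hn', hsq⟩
      exact (Subgroup.mem_bot).1 this
    obtain ⟨k, hk⟩ := hpow n hn'
    have hd1 : orderOf n ∣ 2 := orderOf_dvd_of_pow_eq_one (by rw [pow_two]; exact h1)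
    have hd2 : orderOf n ∣ 3 ^ k := orderOf_dvd_of_pow_eq_one hk
    have hcop : Nat.Coprime 2 (3 ^ k) := Nat.Coprime.pow_right k (by norm_num)
    exact orderOf_eq_one_iff.1 (Nat.eq_one_of_dvd_coprimes hcop hd1 hd2)
  · exfalso
    rw [Subgroup.subgroupOf_eq_top] at htop
    have ht : Equiv.swap (0 : Fin 8) 1 * Equiv.swap (2 : Fin 8) 3 ∈ alternatingGroup (Fin 8) := by
      rw [Equiv.Perm.mem_alternatingGroup]; decide
    obtain ⟨k, hk⟩ := hpow _ (htop ht)
    have hd2 : orderOf (Equiv.swap (0 : Fin 8) 1 * Equiv.swap (2 : Fin 8) 3) ∣ 3 ^ k :=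
      orderOf_dvd_of_pow_eq_one hk
    have hd1 : orderOf (Equiv.swap (0 : Fin 8) 1 * Equiv.swap (2 : Fin 8) 3) ∣ 2 :=
      orderOf_dvd_of_pow_eq_one (by decide)
    have hcop : Nat.Coprime 2 (3 ^ k) := Nat.Coprime.pow_right k (by norm_num)
    have h1 := orderOf_eq_one_iff.1 (Nat.eq_one_of_dvd_coprimes hcop hd1 hd2)
    revert h1
    decide

end Cfsg.Agent.S4332
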