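import Cfsg.Statements.S4333
import Cfsg.Agent.Helper1.WielandtCrit
import Cfsg.Agent.Helper1.Coprime

set_option autoImplicit false
open Pointwise
open Cfsg

namespace Cfsg.Agent.S4333


open Cfsg.Agent.Helper1

universe u

theorem sharp_wielandt_aux : ∀ (n : ℕ) (G : Type u) [Group G] [Finite G], Nat.card G = n →
    ∀ A : Subgroup G,
      (∀ a ∈ A, ∀ g : G, (A.subgroupOf (A ⊔ MulAut.conj (g⁻¹ * a * g) • A)).IsSubnormal) →
      A.IsSubnormal := by
  intro n
  induction n using Nat.strong_induction_on with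
  | _ n ih =>
  intro G _ _ hn A h
  by_cases hAtop : A = ⊤
  · rw [hAtop]; exact Subgroup.IsSubnormal.top
  by_contra hnot
  -- Claim 1
  have claim1 : ∀ V B : Subgroup G, V ≠ ⊤ → B ≤ V →
      (∀ b ∈ B, ∀ g : G, (B.subgroupOf (B ⊔ MulAut.conj (g⁻¹ * b * g) • B)).IsSubnormal) →
      (B.subgroupOf V).IsSubnormal := by
    intro V B hV hBV hB
    have hlt : Nat.card V < n := by
      rw [← hn, ← Subgroup.card_top (G := G)]
      exact card_lt_card_of_lt (lt_top_iff_ne_top.2 hV)
    apply ih _ hlt V rfl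
    intro b hb v
    rw [← isSubnormal_subgroupOf_map_iff V.subtype V.subtype_injective, Subgroup.map_sup,
      map_conj_smul, Subgroup.map_subgroupOf_eq_of_le hBV]
    exact hB (b : G) (Subgroup.mem_subgroupOf.1 hb) (v : G)
  -- Claim 2
  have claim2 : ∀ g : G, ∀ b ∈ MulAut.conj g • A, ∀ x : G, ((MulAut.conj g • A).subgroupOf
      (MulAut.conj g • A ⊔ MulAut.conj (x⁻¹ * b * x) • MulAut.conj g • A)).IsSubnormal := by
    intro g b hb x
    rw [mem_conj_smul] at hb
    have h1 := relSubnormal_conj g (h (g⁻¹ * b * g) hb (g⁻¹ * x * g))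
    rw [conj_smul_sup, ← mul_smul, ← map_mul] at h1
    rw [← mul_smul, ← map_mul]
    have h2 : g * ((g⁻¹ * x * g)⁻¹ * (g⁻¹ * b * g) * (g⁻¹ * x * g)) = x⁻¹ * b * x * g := by group
    rwa [h2] at h1
  let U : Set (Subgroup G) := {V | A ≤ V ∧ V ≠ ⊤}
  let S : Subgroup G → Set (Subgroup G) := fun V =>
    {B | (∃ g : G, B = MulAut.conj g • A) ∧ B ≤ V ∧ (B.subgroupOf V).IsSubnormal}
  have hAS : ∀ V ∈ U, A ∈ S V := by
    intro V hV
    exact ⟨⟨1, by simp⟩, hV.1, claim1 V A hV.2 hV.1 h⟩
  have hz := zipper A U ⟨A, le_refl A, hAtop⟩ S (fun V B => Iff.rfl)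
    (by
      intro V hV W hW B hB hBV
      obtain ⟨⟨g, rfl⟩, -, -⟩ := hB
      exact ⟨⟨g, rfl⟩, hBV, claim1 V _ hV.2 hBV (claim2 g)⟩)
    (by
      intro V hV W hW
      have hAX : A ≤ sSup (S V ∩ S W) := le_sSup ⟨hAS V hV, hAS W hW⟩
      have hXV : sSup (S V ∩ S W) ≤ V := sSup_le (fun B hB => hB.1.2.1)
      by_cases hN : Subgroup.normalizer ((sSup (S V ∩ S W) : Subgroup G) : Set G) = ⊤
      · exfalso
        apply hnot
        have hXn : (sSup (S V ∩ S W) : Subgroup G).Normal :=
          Subgroup.normalizer_eq_top_iff.1 hN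
        exact isSubnormal_of_relSubnormal hAX
          (relSubnormal_mono hXV hV.1 (hAS V hV).2.2) hXn.isSubnormal
      · exact ⟨_, ⟨hAX.trans Subgroup.le_normalizer, hN⟩, le_refl _⟩)
  obtain ⟨M, hMU, hM⟩ := hz
  -- conjugates of elements of `A` normalize `M`
  have hXN : ∀ a ∈ A, ∀ g : G, g⁻¹ * a * g ∈ Subgroup.normalizer (M : Set G) := by
    intro a ha g
    have hsub := h a ha g
    obtain ⟨x, hx⟩ : ∃ x, x = g⁻¹ * a * g := ⟨_, rfl⟩
    rw [← hx] at hsub ⊢
    have h1 : MulAut.conj x • A ≤ M := by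
      by_cases hK : A ⊔ MulAut.conj x • A = ⊤
      · exfalso
        apply hnot
        rw [hK] at hsub
        exact isSubnormal_of_relSubnormal le_top hsub Subgroup.IsSubnormal.top
      · exact le_sup_right.trans (hM _ ⟨le_sup_left, hK⟩)
    have h2 : A ≤ MulAut.conj x⁻¹ • M := by
      intro y hy
      rw [mem_conj_smul]
      have h3 := h1 (conj_mem_conj_smul (g := x) hy)
      simpa using h3
    have h3 : MulAut.conj x⁻¹ • M ≠ ⊤ := by
      intro htop
      apply hMU.2
      have h4 := card_conj_smul x⁻¹ M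
      rw [htop, Subgroup.card_top] at h4
      exact (Subgroup.card_eq_iff_eq_top M).1 h4.symm
    have h4 : MulAut.conj x⁻¹ • M ≤ M := hM _ ⟨h2, h3⟩
    have h5 : MulAut.conj x⁻¹ • M = M := by
      apply Subgroup.eq_of_le_of_card_ge h4
      rw [card_conj_smul]
    have h6 : x⁻¹ ∈ Subgroup.normalizer (M : Set G) := mem_normalizer_of_conj_smul_eq h5
    simpa using inv_mem h6
  have hNC : Subgroup.normalClosure (A : Set G) ≤ Subgroup.normalizer (M : Set G) := by
    rw [Subgroup.normalClosure, Subgroup.closure_le]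
    intro y hy
    rw [Group.mem_conjugatesOfSet_iff] at hy
    obtain ⟨b, hb, hby⟩ := hy
    rw [isConj_iff] at hby
    obtain ⟨c, rfl⟩ := hby
    have h1 := hXN b hb c⁻¹
    simpa using h1
  have hAM : (A.subgroupOf M).IsSubnormal := claim1 M A hMU.2 hMU.1 h
  by_cases hNM : Subgroup.normalizer (M : Set G) = ⊤
  · apply hnot
    have hMn : M.Normal := Subgroup.normalizer_eq_top_iff.1 hNM
    exact isSubnormal_of_relSubnormal hMU.1 hAM hMn.isSubnormal
  · have hNtop : Subgroup.normalClosure (A : Set G) ≠ ⊤ := by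
      intro htop
      rw [htop] at hNC
      exact hNM (top_le_iff.1 hNC)
    apply hnot
    exact isSubnormal_of_relSubnormal Subgroup.le_normalClosure
      (claim1 _ A hNtop Subgroup.le_normalClosure h)
      (Subgroup.normalClosure_normal).isSubnormal

/-- Let A be a subgroup of a finite group G. If A is subnormal in the subgroup generated by A and its conjugate by g⁻¹ a g, for every a ∈ A and every g ∈ G, then A is subnormal in G. (A sharpening of Wielandt's subnormality criterion: only conjugates of A by conjugates of elements of A are needed.) -/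
theorem result {G : Type*} [Group G] [Finite G]
    (A : Subgroup G)
    (h : ∀ a ∈ A, ∀ g : G, (A.subgroupOf (A ⊔ MulAut.conj (g⁻¹ * a * g) • A)).IsSubnormal) :
    A.IsSubnormal := by
  exact sharp_wielandt_aux _ G rfl A h

end Cfsg.Agent.S4333
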