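import Cfsg.Statements.S4344
import Cfsg.Agent.Helper4.Cyclic

set_option autoImplicit false
open Cfsg

namespace Cfsg.Agent.S4344

/-- Let S be a finite non-abelian simple group, M a maximal subgroup of S and C a cyclic normal subgroup of M. If a Sylow p-subgroup P of S (for a prime p dividing the order of S) is contained in C, then the number of Sylow p-subgroups of S equals the index of M. -/
theorem result {S : Type*} [Group S] [Finite S]
    [IsSimpleGroup S] (hS : ¬ IsMulCommutative S) (p : ℕ) [Fact p.Prime] (hp : p ∣ Nat.card S)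
    (M : Subgroup S) (hM : IsCoatom M) (C : Subgroup S) (hCM : C ≤ M) (hCn : (C.subgroupOf M).Normal)
    (hC : IsCyclic C) (P : Sylow p S) (hP : (P : Subgroup S) ≤ C) :
    Nat.card (Sylow p S) = M.index := by
  have hPc : IsCyclic (P : Subgroup S) :=
    isCyclic_of_injective (Subgroup.inclusion hP) (Subgroup.inclusion_injective hP)
  obtain ⟨a, ha⟩ := hPc.exists_generator
  have hord : orderOf (a : S) = Nat.card (P : Subgroup S) := by
    rw [Subgroup.orderOf_coe, orderOf_eq_card_of_forall_mem_zpowers ha]
  have hcardpos : 0 < Nat.card (P : Subgroup S) := Nat.card_pos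
  have haC : (a : S) ∈ C := hP a.2
  -- conjugation by elements of M preserves P
  have hconj : ∀ m ∈ M, ∀ x ∈ (P : Subgroup S), m * x * m⁻¹ ∈ (P : Subgroup S) := by
    intro m hm x hx
    have h1 : m * (a : S) * m⁻¹ ∈ C := by
      have := hCn.conj_mem ⟨(a : S), hCM haC⟩ (by rw [Subgroup.mem_subgroupOf]; exact haC) ⟨m, hm⟩
      rw [Subgroup.mem_subgroupOf] at this
      simpa using this
    have h2 : (m * (a : S) * m⁻¹) ^ Nat.card (P : Subgroup S) = 1 := by
      rw [conj_pow, ← hord, pow_orderOf_eq_one, mul_one, mul_inv_cancel]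
    have h3 : m * (a : S) * m⁻¹ ∈ Subgroup.zpowers (a : S) :=
      Cfsg.Agent.Helper4.mem_zpowers_of_pow_eq_one_of_isCyclic' C hC (a : S) _ haC h1 _
        hcardpos hord h2
    have h4 : Subgroup.zpowers (a : S) ≤ (P : Subgroup S) := by
      rw [Subgroup.zpowers_le]; exact a.2
    obtain ⟨k, hk⟩ := Subgroup.mem_zpowers_iff.mp (ha ⟨x, hx⟩)
    have hk' : (a : S) ^ k = x := by
      have := congrArg Subtype.val hk
      simpa using this
    rw [← hk', ← conj_zpow]
    exact Subgroup.zpow_mem _ (h4 h3) k
  have hMN : M ≤ Subgroup.normalizer ((P : Subgroup S) : Set S) := by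
    intro m hm
    rw [Subgroup.mem_normalizer_iff]
    intro x
    constructor
    · exact hconj m hm x
    · intro hx
      have := hconj m⁻¹ (M.inv_mem hm) _ hx
      simpa [mul_assoc] using this
  have hNtop : Subgroup.normalizer ((P : Subgroup S) : Set S) ≠ ⊤ := by
    intro h
    rw [Subgroup.normalizer_eq_top_iff] at h
    rcases h.eq_bot_or_eq_top with h1 | h1
    · exact P.ne_bot_of_dvd_card hp h1
    · apply hS
      have hCtop : C = ⊤ := by
        rw [eq_top_iff, ← h1]; exact hP
      rw [isMulCommutative_iff]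
      intro x y
      have hcomm : IsMulCommutative C := inferInstance
      have := hcomm.is_comm.comm ⟨x, hCtop ▸ Subgroup.mem_top x⟩ ⟨y, hCtop ▸ Subgroup.mem_top y⟩
      exact congrArg Subtype.val this
  have hNM : Subgroup.normalizer ((P : Subgroup S) : Set S) = M := by
    by_contra hne
    exact hNtop (hM.2 _ (lt_of_le_of_ne hMN (Ne.symm hne)))
  rw [Sylow.card_eq_index_normalizer P]
  exact congrArg Subgroup.index hNM

end Cfsg.Agent.S4344
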