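import Cfsg.Statements.S4345
import Cfsg.Agent.Helper4.SylowProduct2
import Cfsg.Agent.Helper4.MaxSolvable
import Cfsg.Agent.S0043

set_option autoImplicit false
open Cfsg

namespace Cfsg.Agent.S4345

universe u

open Cfsg.Agent.Helper4

theorem aux (n : ℕ) : ∀ (G : Type u) [Group G] [Finite G], Nat.card G = n → Group.IsSolvable G →
    ∀ (p ℓ : ℕ) [Fact p.Prime], ℓ.Prime →
      ℓ ^ (Nat.card (Sylow p G)).factorization ℓ ≡ 1 [MOD p] := by
  induction n using Nat.strong_induction_on with
  | _ n ih =>
    intro G _ _ hn hG p ℓ _ hℓ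
    have hp : p.Prime := Fact.out
    by_cases hsub : Subsingleton G
    · obtain ⟨P⟩ : Nonempty (Sylow p G) := inferInstance
      have h1 : Nat.card (Sylow p G) ∣ Nat.card G :=
        (P.card_dvd_index).trans (Subgroup.index_dvd_card _)
      have h2 : Nat.card G = 1 := Nat.card_unique
      rw [h2, Nat.dvd_one] at h1
      rw [h1]
      simp [Nat.ModEq]
    rw [not_subsingleton_iff_nontrivial] at hsub
    obtain ⟨N, hNn, hNne, hNmin⟩ := exists_minimal_normal (G := G)
    obtain ⟨hab, q, hq, hpow⟩ := Cfsg.Agent.S0043.result N hNne hNmin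
    have hq' : Fact q.Prime := ⟨hq⟩
    have hNq : IsPGroup q N := by
      intro x
      refine ⟨1, ?_⟩
      rw [pow_one]
      exact Subtype.ext (by simpa using hpow x.1 x.2)
    obtain ⟨b, hb⟩ := IsPGroup.iff_card.mp hNq
    obtain ⟨P⟩ : Nonempty (Sylow p G) := inferInstance
    obtain ⟨a, ha⟩ := IsPGroup.iff_card.mp P.isPGroup'
    have hmul := card_sylow_eq_mul N P
    -- induction hypothesis for the quotient
    have hlt : Nat.card (G ⧸ N) < n := by
      rw [← hn, ← Subgroup.index_eq_card]
      have h1 := N.card_mul_index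
      have h2 : 1 < Nat.card N := by
        rw [Subgroup.one_lt_card_iff_ne_bot]; exact hNne
      have h3 : 0 < N.index := Nat.pos_of_ne_zero (Subgroup.index_ne_zero_of_finite)
      nlinarith
    have hQ := ih _ hlt (G ⧸ N) rfl inferInstance p ℓ hℓ
    -- m = n_p(PN) is a power of q
    set m := Nat.card (Sylow p ↥((P : Subgroup G) ⊔ N)) with hm
    have hm1 : m ≡ 1 [MOD p] := card_sylow_modEq_one p _
    have hmdvd : m ∣ q ^ b := by
      obtain ⟨P'⟩ : Nonempty (Sylow p ↥((P : Subgroup G) ⊔ N)) := inferInstance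
      have h1 : m ∣ Nat.card ↥((P : Subgroup G) ⊔ N) :=
        (P'.card_dvd_index).trans (Subgroup.index_dvd_card _)
      have h2 := card_mul_relIndex' (le_sup_right : N ≤ (P : Subgroup G) ⊔ N)
      rw [Subgroup.relIndex_sup_right] at h2
      have h3 : N.relIndex (P : Subgroup G) ∣ Nat.card (P : Subgroup G) := Subgroup.relIndex_dvd_card _ _
      have h4 : m ∣ q ^ b * p ^ a := by
        rw [← hb, ← ha]
        exact h1.trans (h2 ▸ Nat.mul_dvd_mul_left _ h3)
      have hcop : Nat.Coprime m (p ^ a) := by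
        apply Nat.Coprime.pow_right
        have := hm1.gcd_eq
        rw [Nat.gcd_one_left] at this
        exact this
      exact hcop.dvd_of_dvd_mul_right h4
    obtain ⟨c, _, hc⟩ := (Nat.dvd_prime_pow hq).mp hmdvd
    have hQpos : Nat.card (Sylow p (G ⧸ N)) ≠ 0 := Nat.card_pos.ne'
    have hmpos : m ≠ 0 := by rw [hc]; exact pow_ne_zero _ hq.pos.ne'
    rw [hmul, Nat.factorization_mul hQpos hmpos, Finsupp.add_apply, pow_add]
    have hsecond : ℓ ^ m.factorization ℓ ≡ 1 [MOD p] := by
      rw [hc, Nat.Prime.factorization_pow hq]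
      by_cases hℓq : ℓ = q
      · subst hℓq
        rw [Finsupp.single_eq_same, ← hc]
        exact hm1
      · rw [Finsupp.single_eq_of_ne (fun h => hℓq h), pow_zero]
    have := hQ.mul hsecond
    simpa using this

/-- Let G be a finite solvable group and p, ℓ primes. Then the largest power of ℓ dividing the number of Sylow p-subgroups of G is congruent to 1 modulo p. -/
theorem result {G : Type*} [Group G] [Finite G]
    (hG : Group.IsSolvable G) (p ℓ : ℕ) [Fact p.Prime] (hℓ : ℓ.Prime) :
    ℓ ^ (Nat.card (Sylow p G)).factorization ℓ ≡ 1 [MOD p] :=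
  aux _ G rfl hG p ℓ hℓ

end Cfsg.Agent.S4345
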