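import Cfsg.Statements.S4346
import Cfsg.Agent.N22.Quot
import Cfsg.Agent.N22.GeoD
import Cfsg.Agent.N22.Perf
import Cfsg.Agent.N22.Char

set_option autoImplicit false
open Cfsg

namespace Cfsg.Agent.S4346

universe u

/-- strong induction on the order: no group of order `n` has exactly 22 Sylow 3-subgroups
(`notes/S4346_helper1.md`) -/
theorem main_aux : ∀ (n : ℕ) (G : Type u) [Group G] [Finite G], Nat.card G = n →
    Nat.card (Sylow 3 G) ≠ 22 := by
  intro n
  induction n using Nat.strong_induction_on with
  | _ n ih =>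
    intro G _ _ hn h22
    have hmin : ∀ (H : Type u) [Group H] [Finite H], Nat.card H < Nat.card G →
        Nat.card (Sylow 3 H) ≠ 22 := by
      intro H _ _ hlt
      exact ih (Nat.card H) (hn ▸ hlt) H rfl
    have hsup := Cfsg.Agent.N22.n22_sup_eq_top h22 hmin
    have hfaith := Cfsg.Agent.N22.n22_faithful h22 hmin
    have hP := Cfsg.Agent.N22.n22_card_three h22 hfaith
    have hperf := Cfsg.Agent.N22.n22_perfect h22 hsup hP
    obtain ⟨P⟩ : Nonempty (Sylow 3 G) := Sylow.nonempty
    exact Cfsg.Agent.N22.n22_char hperf P (hP P) h22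

/-- No finite group has exactly 22 Sylow 3-subgroups. -/
theorem result {G : Type*} [Group G] [Finite G] : Nat.card (Sylow 3 G) ≠ 22 := by
  exact main_aux (Nat.card G) G rfl

end Cfsg.Agent.S4346
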