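import Cfsg.Statements.S4347
import Cfsg.Agent.Helper4.SylowBasic
import Cfsg.Agent.Helper4.Order

set_option autoImplicit false
open Cfsg

namespace Cfsg.Agent.S4347

open Cfsg.Agent.Helper4
open scoped Pointwise

/-- Let G be a finite group and p a prime. Say a Sylow p-subgroup Q is redundant when every element of p-power order lies in some Sylow p-subgroup other than Q. Then G has no redundant Sylow p-subgroup if and only if some element of p-power order lies in exactly one Sylow p-subgroup. -/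
theorem result {G : Type*} [Group G] [Finite G]
    (p : ℕ) [Fact p.Prime] :
    (¬ ∃ Q : Sylow p G, ∀ x : G, (∃ k : ℕ, orderOf x = p ^ k) → ∃ P : Sylow p G, P ≠ Q ∧ x ∈ P) ↔
      ∃ x : G, (∃ k : ℕ, orderOf x = p ^ k) ∧ ∃! P : Sylow p G, x ∈ P := by
  constructor
  · intro h
    obtain ⟨Q⟩ := (inferInstance : Nonempty (Sylow p G))
    have hQ : ¬ ∀ x : G, (∃ k : ℕ, orderOf x = p ^ k) → ∃ P : Sylow p G, P ≠ Q ∧ x ∈ P :=
      fun hh => h ⟨Q, hh⟩
    push Not at hQ
    obtain ⟨x, hx, hxQ⟩ := hQ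
    obtain ⟨R, hR⟩ := exists_sylow_mem_of_orderOf_eq_pow x hx
    have hRQ : R = Q := by
      by_contra hne
      exact hxQ R hne hR
    refine ⟨x, hx, Q, hRQ ▸ hR, ?_⟩
    intro P hP
    by_contra hne
    exact hxQ P hne hP
  · rintro ⟨x, hx, P0, hxP0, huniq⟩ ⟨Q, hQ⟩
    obtain ⟨g, hg⟩ := sylow_exists_smul_eq P0 Q
    have hy : ∃ k : ℕ, orderOf (g * x * g⁻¹) = p ^ k := by
      obtain ⟨k, hk⟩ := hx
      exact ⟨k, by rw [orderOf_conj]; exact hk⟩
    obtain ⟨P, hPQ, hyP⟩ := hQ _ hy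
    have hx' : x ∈ g⁻¹ • P := by
      rw [mem_sylow_smul_iff]
      simpa using hyP
    have := huniq _ hx'
    apply hPQ
    rw [← hg, ← this]
    simp

end Cfsg.Agent.S4347
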