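import Cfsg.Statements.S4348
import Cfsg.Agent.Helper4.PCore
import Cfsg.Agent.Helper4.SylowBasic

set_option autoImplicit false
open Cfsg

namespace Cfsg.Agent.S4348

open Cfsg.Agent.Helper4

/-- Let G be a finite group, p a prime and P a Sylow p-subgroup of G, and let O_p(G) be the largest normal p-subgroup of G. If P/O_p(G) is cyclic, then some element of p-power order of G lies in exactly one Sylow p-subgroup. -/
theorem result {G : Type*} [Group G] [Finite G]
    (p : ℕ) [Fact p.Prime] (P : Sylow p G)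
    [hn : ((Cfsg.pCore p G).subgroupOf (P : Subgroup G)).Normal]
    (hc : IsCyclic ((P : Subgroup G) ⧸ (Cfsg.pCore p G).subgroupOf (P : Subgroup G))) :
    ∃ x : G, (∃ k : ℕ, orderOf x = p ^ k) ∧ ∃! Q : Sylow p G, x ∈ Q := by
  obtain ⟨g, hg⟩ := hc.exists_generator
  obtain ⟨x0, rfl⟩ := QuotientGroup.mk_surjective g
  refine ⟨(x0 : G), orderOf_eq_pow_of_mem_pgroup _ P.isPGroup' _ x0.2, P, x0.2, ?_⟩
  intro Q hQ
  have hPQ : (P : Subgroup G) ≤ (Q : Subgroup G) := by
    intro y hy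
    obtain ⟨k, hk⟩ := Subgroup.mem_zpowers_iff.mp (hg (QuotientGroup.mk ⟨y, hy⟩))
    rw [← QuotientGroup.mk_zpow, QuotientGroup.eq, Subgroup.mem_subgroupOf] at hk
    have ho : ((x0 : G) ^ k)⁻¹ * y ∈ (Q : Subgroup G) := pCore_le_sylow Q (by simpa using hk)
    have hx : (x0 : G) ^ k ∈ (Q : Subgroup G) := (Q : Subgroup G).zpow_mem hQ k
    have : y = (x0 : G) ^ k * (((x0 : G) ^ k)⁻¹ * y) := by group
    rw [this]
    exact (Q : Subgroup G).mul_mem hx ho
  exact Sylow.ext (P.is_maximal' Q.isPGroup' hPQ)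

end Cfsg.Agent.S4348
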