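import Cfsg.Statements.S4349
import Cfsg.Agent.Helper4.SylPermH

set_option autoImplicit false
open Cfsg

namespace Cfsg.Agent.S4349

/-- Let n ≥ 2 and let x be an element of 2-power order of the symmetric group of degree n. Then x lies in exactly one Sylow 2-subgroup if and only if x has at most two fixed points and the nontrivial cycles of x have pairwise different lengths. -/
theorem result (n : ℕ) (hn : 2 ≤ n)
    (x : Equiv.Perm (Fin n)) (hx : ∃ k : ℕ, orderOf x = 2 ^ k) :
    (∃! P : Sylow 2 (Equiv.Perm (Fin n)), x ∈ P) ↔ (n ≤ x.support.card + 2 ∧ x.cycleType.Nodup) := by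
  obtain ⟨k, hk⟩ := hx
  have hx2 : ∃ k : ℕ, x ^ 2 ^ k = 1 := ⟨k, by rw [← hk]; exact pow_orderOf_eq_one x⟩
  have hgi := Cfsg.Agent.Helper4.SylPerm.good_iff x
  rw [Fintype.card_fin] at hgi
  rw [← hgi]
  constructor
  · rintro ⟨P₀, hxP₀, hU⟩
    refine ⟨fun u v w hu hv hw =>
      Cfsg.Agent.Helper4.SylPerm.fixed_le_two_of_unique x hx2 P₀ (fun P hP => hU P hP)
        u v w hu hv hw, ?_⟩
    intro a b ha hper
    have hb : x b ≠ b := by
      intro hb
      have h3 : Function.minimalPeriod x b = 1 :=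
        Function.minimalPeriod_eq_one_iff_isFixedPt.2 hb
      rw [h3] at hper
      exact ha (Function.minimalPeriod_eq_one_iff_isFixedPt.1 hper)
    exact (Cfsg.Agent.Helper4.SylPerm.sameCycle_of_unique x hx2 P₀ (fun P hP => hU P hP)
      a b hb hper).exists_nat_pow_eq
  · intro hg
    obtain ⟨P, hP⟩ := (Cfsg.Agent.Helper4.SylPerm.isPGroup_zpowers_pelt x hx2).exists_le_sylow
    have hxP : x ∈ P := hP (Subgroup.mem_zpowers x)
    refine ⟨P, hxP, fun P' hP' => ?_⟩
    exact Cfsg.Agent.Helper4.SylPerm.unique_sylow_of_good n (Fin n) (by simp) x hx2 hg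
      P' P hP' hxP

end Cfsg.Agent.S4349
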