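import Mathlib
import Cfsg.Statements.S4357
import Cfsg.Agent.Helper3.RedB
import Cfsg.Agent.Helper5.SL2Borel
import Cfsg.Agent.Helper7.FiniteFieldBasics
import Cfsg.Agent.S0262
-- import your own Cfsg.Agent.* helpers here

set_option autoImplicit false
open Cfsg

namespace Cfsg.Agent.S4357

open Cfsg.Agent.Helper3.Red Cfsg.Agent.Helper5.SLB
open Cfsg.Agent.Helper8.SL2C Cfsg.Agent.Helper7.SL2 Cfsg.Agent.Helper8

universe u

theorem uMat_pow {F : Type u} [Field F] (s : F) (n : ℕ) : uMat s ^ n = uMat (n * s) := by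
  induction n with
  | zero => simp [uMat_zero]
  | succ n ih =>
    rw [pow_succ, ih, uMat_mul]
    congr 1
    push_cast
    ring

/-- In the defining characteristic no Sylow subgroup is redundant. -/
theorem not_red_char {F : Type u} [Field F] [Fintype F] (p : ℕ) [hp : Fact p.Prime] [CharP F p] :
    ¬ Red p (Matrix.SpecialLinearGroup (Fin 2) F) := by
  apply not_red_of_forall
  have hne : uMat (1 : F) ≠ 1 := by
    intro h
    rw [← uMat_zero] at h
    exact one_ne_zero (uMat_injective h)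
  have hord : orderOf (uMat (1 : F)) = p := by
    apply orderOf_eq_prime _ hne
    rw [uMat_pow, mul_one, CharP.cast_eq_zero, uMat_zero]
  apply uniq_of_base (unipSylow p) (uMat 1) ⟨1, by rw [hord, pow_one]⟩
  intro P hP
  obtain ⟨c, hc⟩ := MulAction.exists_smul_eq (Matrix.SpecialLinearGroup (Fin 2) F) (unipSylow p) P
  rw [← hc, mem_smul_iff] at hP
  have hP' : c⁻¹ * uMat 1 * c ∈ unip F := hP
  obtain ⟨s, hs⟩ := hP'
  have h10 : (c : Matrix (Fin 2) (Fin 2) F) 1 0 = 0 := by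
    have e : uMat 1 * c = c * uMat s := by rw [hs]; group
    have e10 := congrArg (fun g : Matrix.SpecialLinearGroup (Fin 2) F =>
      (g : Matrix (Fin 2) (Fin 2) F) 1 1) e
    have e00 := congrArg (fun g : Matrix.SpecialLinearGroup (Fin 2) F =>
      (g : Matrix (Fin 2) (Fin 2) F) 0 0) e
    simp only [mul_apply', uMat_00, uMat_01, uMat_10, uMat_11] at e10 e00
    -- e00 : c00 + c10 = c00 ; so c10 = 0
    linear_combination e00
  have hcB : c ∈ borel F := (mem_borel c).mpr h10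
  have hcN := borel_le_normalizer_unip hcB
  rw [← hc]
  apply Sylow.smul_eq_iff_mem_normalizer.mpr
  exact hcN

theorem two_pow_cases (k : ℕ) : 2 ^ k = 1 ∨ 2 ^ k = 2 ∨ ∃ j, 2 ^ k = 4 * j := by
  rcases k with _ | _ | k
  · left; rfl
  · right; left; rfl
  · right; right
    exact ⟨2 ^ k, by rw [pow_succ, pow_succ]; ring⟩

theorem main {F : Type u} [Field F] [Fintype F] (p : ℕ) [hp : Fact p.Prime] :
    Red p (Matrix.SpecialLinearGroup (Fin 2) F) ↔
      (p = 2 ∧ (¬ ∃ k : ℕ, Fintype.card F + 1 = 2 ^ k) ∧ (¬ ∃ k : ℕ, Fintype.card F = 2 ^ k) ∧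
        ¬ ∃ k : ℕ, Fintype.card F = 2 ^ k + 1) := by
  obtain ⟨p₀, hp₀⟩ := CharP.exists F
  have hp₀' : Fact p₀.Prime := ⟨CharP.char_is_prime F p₀⟩
  obtain ⟨n₀, -, hcard₀⟩ := FiniteField.card F p₀
  by_cases hpp : p = p₀
  · subst hpp
    refine ⟨fun h => absurd h (not_red_char p), ?_⟩
    rintro ⟨rfl, -, h2, -⟩
    exact absurd ⟨_, hcard₀⟩ h2
  by_cases hp2 : p = 2
  swap
  · refine ⟨fun h => absurd h ?_, fun h => absurd h.1 hp2⟩
    apply not_red_of_cyclic
    intro Q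
    exact Cfsg.Agent.S0262.result p₀ p hp2 hpp Q
  subst hp2
  have hodd : Odd (Fintype.card F) := by
    rw [hcard₀]
    apply Odd.pow
    rcases hp₀'.out.eq_two_or_odd' with h | h
    · exact absurd h.symm hpp
    · exact h
  have h2 : (2 : F) ≠ 0 := Cfsg.Agent.Helper7.two_ne_zero_of_odd_card hodd
  have hq : 2 ≤ Fintype.card F := Fintype.one_lt_card
  have hcard := Cfsg.Agent.Helper7.SL2.card_SL2 (F := F)
  obtain ⟨j, hj⟩ := hodd
  have hmod : Fintype.card F % 4 = 1 ∨ Fintype.card F % 4 = 3 := by omega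
  rcases hmod with h4 | h4
  · obtain ⟨i, hi⟩ : ∃ i, Fintype.card F = 4 * i + 1 := ⟨Fintype.card F / 4, by omega⟩
    have hi0 : 1 ≤ i := by omega
    have e : (4 * i + 1) ^ 2 - 1 = 16 * i ^ 2 + 8 * i := by
      apply Nat.sub_eq_of_eq_add; ring
    have key := sl2_two h2 (D F) isCyclic_D (4 * i)
      ((4 * i + 1) * (2 * i + 1)) (by rw [card_D, hi]; omega) (Dvd.intro _ rfl)
      (Odd.mul ⟨2 * i, by ring⟩ ⟨i, by ring⟩) (by rw [hcard, hi, e]; ring)
      (fun a ha b hb => D_comm ha hb) (fun a ha haa g hg => D_cent ha haa hg)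
      (fun g hg hgD a ha => D_inv (by omega) hg hgD ha)
    rw [key, hi]
    constructor
    · intro hn
      refine ⟨rfl, ?_, ?_, ?_⟩
      · rintro ⟨k, hk⟩
        rcases two_pow_cases k with h | h | ⟨l, h⟩ <;> omega
      · rintro ⟨k, hk⟩
        rcases two_pow_cases k with h | h | ⟨l, h⟩ <;> omega
      · rintro ⟨k, hk⟩
        exact hn ⟨k, by omega⟩
    · rintro ⟨-, -, -, h3⟩ ⟨k, hk⟩
      exact h3 ⟨k, by omega⟩
  · obtain ⟨i, hi⟩ : ∃ i, Fintype.card F = 4 * i + 3 := ⟨Fintype.card F / 4, by omega⟩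
    obtain ⟨t, ht⟩ := exists_ellt (F := F)
    have e : (4 * i + 3) ^ 2 - 1 = 16 * i ^ 2 + 24 * i + 8 := by
      apply Nat.sub_eq_of_eq_add; ring
    have key := sl2_two h2 (Tc t) (isCyclic_Tc (ellt_sq_ne ht)) (4 * (i + 1))
      ((4 * i + 3) * (2 * i + 1)) (by rw [card_Tc ht, hi]; ring) (Dvd.intro _ rfl)
      (Odd.mul ⟨2 * i + 1, by ring⟩ ⟨i, by ring⟩) (by rw [hcard, hi, e]; ring)
      (fun a ha b hb => Tc_comm ha hb) (fun a ha haa g hg => Tc_cent ha haa hg)
      (fun g hg hgT a ha => Tc_inv (ellt_sq_ne ht) hg hgT ha)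
    rw [key, hi]
    constructor
    · intro hn
      refine ⟨rfl, ?_, ?_, ?_⟩
      · rintro ⟨k, hk⟩
        exact hn ⟨k, by omega⟩
      · rintro ⟨k, hk⟩
        rcases two_pow_cases k with h | h | ⟨l, h⟩ <;> omega
      · rintro ⟨k, hk⟩
        rcases two_pow_cases k with h | h | ⟨l, h⟩
        · omega
        · have hi0 : i = 0 := by omega
          subst hi0
          exact hn ⟨2, by norm_num⟩
        · omega
    · rintro ⟨-, h1, -, -⟩ ⟨k, hk⟩
      exact h1 ⟨k, by omega⟩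

/-- Let F be a finite field with q elements, p a prime and G = SL(2, F). Say a Sylow p-subgroup Q of G is redundant when every element of p-power order lies in some Sylow p-subgroup other than Q. Then G has a redundant Sylow p-subgroup if and only if p = 2 and q is not of any of the forms 2ᵏ - 1, 2ᵏ, 2ᵏ + 1. -/
theorem result {F : Type*} [Field F] [Fintype F] (p : ℕ) [Fact p.Prime] :
    (∃ Q : Sylow p (Matrix.SpecialLinearGroup (Fin 2) F), ∀ x : Matrix.SpecialLinearGroup (Fin 2) F,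
        (∃ k : ℕ, orderOf x = p ^ k) → ∃ P : Sylow p (Matrix.SpecialLinearGroup (Fin 2) F), P ≠ Q ∧ x ∈ P) ↔
      (p = 2 ∧ (¬ ∃ k : ℕ, Fintype.card F + 1 = 2 ^ k) ∧ (¬ ∃ k : ℕ, Fintype.card F = 2 ^ k) ∧
        ¬ ∃ k : ℕ, Fintype.card F = 2 ^ k + 1) := by
  exact main p


end Cfsg.Agent.S4357
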