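import Cfsg.Statements.S4358
import Cfsg.Agent.Helper4.GLpRedG

set_option autoImplicit false
open Cfsg

namespace Cfsg.Agent.S4358

/-- Let p be an odd prime and F a finite field with q elements such that p divides q - 1 but p² does not. Then GL(p, F) has a Sylow p-subgroup Q such that every element of p-power order lies in some Sylow p-subgroup other than Q (a redundant Sylow p-subgroup). -/
theorem result {F : Type*} [Field F] [Fintype F] (p : ℕ) [Fact p.Prime]
    (hp : p ≠ 2) (h1 : p ∣ Fintype.card F - 1) (h2 : ¬ p ^ 2 ∣ Fintype.card F - 1) :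
    ∃ Q : Sylow p (Matrix.GeneralLinearGroup (Fin p) F), ∀ x : Matrix.GeneralLinearGroup (Fin p) F,
      (∃ k : ℕ, orderOf x = p ^ k) → ∃ P : Sylow p (Matrix.GeneralLinearGroup (Fin p) F), P ≠ Q ∧ x ∈ P := by
  classical
  have : NeZero p := ⟨(Fact.out : p.Prime).ne_zero⟩
  have hι : Nat.card (Fin p) = p := by rw [Nat.card_eq_fintype_card, Fintype.card_fin]
  have hcard : Nat.card (Cfsg.Agent.Helper4.GLpRed.Qsub p : Subgroup (Matrix.GeneralLinearGroup (Fin p) F))
      = p ^ (Nat.card (Matrix.GeneralLinearGroup (Fin p) F)).factorization p := by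
    rw [Cfsg.Agent.Helper4.GLpRed.card_Qsub p h1, Cfsg.Agent.Helper4.GLpRed.factorization_card_GL p hp h1 h2,
      Fintype.card_fin, pow_succ]
  refine ⟨Sylow.ofCard _ hcard, ?_⟩
  intro x ⟨k, hk⟩
  have hpg : IsPGroup p (Subgroup.zpowers x) := by
    apply IsPGroup.of_card (n := k)
    rw [Nat.card_zpowers, hk]
  obtain ⟨P₀, hP₀⟩ := hpg.exists_le_sylow
  have hxP₀ : x ∈ P₀ := hP₀ (Subgroup.mem_zpowers x)
  by_cases hPQ : P₀ = Sylow.ofCard _ hcard
  · have hxQ : x ∈ (Cfsg.Agent.Helper4.GLpRed.Qsub p : Subgroup (Matrix.GeneralLinearGroup (Fin p) F)) := by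
      rw [hPQ] at hxP₀
      exact hxP₀
    obtain ⟨g, hg1, hg2⟩ := Cfsg.Agent.Helper4.GLpRed.redundant hι hp h1 x hxQ
    refine ⟨g • Sylow.ofCard _ hcard, ?_, ?_⟩
    · intro heq
      apply hg1
      have := congrArg (fun P : Sylow p (Matrix.GeneralLinearGroup (Fin p) F) =>
        (P : Subgroup (Matrix.GeneralLinearGroup (Fin p) F))) heq
      simpa only [Sylow.coe_subgroup_smul, Sylow.coe_ofCard] using this
    · show x ∈ ((g • Sylow.ofCard _ hcard : Sylow p (Matrix.GeneralLinearGroup (Fin p) F)) : Subgroup (Matrix.GeneralLinearGroup (Fin p) F))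
      rw [Sylow.coe_subgroup_smul, Sylow.coe_ofCard]
      exact hg2
  · exact ⟨P₀, hPQ, hxP₀⟩

end Cfsg.Agent.S4358
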