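import Cfsg.Statements.S4359
import Cfsg.Agent.Lead.GlaubD

set_option autoImplicit false
open Pointwise
open Cfsg
open Cfsg.Agent.Lead.Glaub

namespace Cfsg.Agent.S4359

/-- Let P be a subgroup of a finite group G and g an element such that P ∩ g⁻¹Pg is a normal subgroup of prime index p in g⁻¹Pg. Let n ≥ 1 and let K be the subgroup generated by P and its conjugates g⁻ⁱPgⁱ for i ≤ n. Suppose that g normalizes no non-identity normal subgroup of P and that P meets the center of K trivially. Then the order of P is pᵗ for some t with 1 ≤ t ≤ 3n and t ≠ 3n - 1. -/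
theorem result {G : Type*} [Group G] [Finite G]
    (P : Subgroup G) (g : G) (p : ℕ) (hp : p.Prime)
    (hN : ((P ⊓ MulAut.conj g⁻¹ • P).subgroupOf (MulAut.conj g⁻¹ • P)).Normal)
    (hidx : (P ⊓ MulAut.conj g⁻¹ • P).relIndex (MulAut.conj g⁻¹ • P) = p)
    (n : ℕ) (hn : 1 ≤ n) (K : Subgroup G) (hK : K = ⨆ i ∈ Finset.range (n + 1), MulAut.conj (g ^ i)⁻¹ • P)
    (h1 : ∀ Q : Subgroup G, Q ≤ P → (Q.subgroupOf P).Normal → MulAut.conj g • Q = Q → Q = ⊥)
    (h2 : P ⊓ (Subgroup.center K).map K.subtype = ⊥) :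
    ∃ t : ℕ, Nat.card P = p ^ t ∧ 1 ≤ t ∧ t ≤ 3 * n ∧ t ≠ 3 * n - 1 := by
  have h1' : ∀ Q : Subgroup G, Q ≤ P → (Q.subgroupOf P).Normal →
      MulAut.conj g⁻¹ • Q = Q → Q = ⊥ := by
    intro Q hQP hQn hQ
    apply h1 Q hQP hQn
    have h := congrArg (fun H => MulAut.conj g • H) hQ
    simp only [smul_smul, ← map_mul, mul_inv_cancel, map_one, one_smul] at h
    exact h.symm
  obtain ⟨t, ht1, hPp, hcard⟩ := exists_card_Win (σ := MulAut.conj g⁻¹) hp hN hidx h1'
  have S : Sys (MulAut.conj g⁻¹) P p t := ⟨hp, ht1, hPp, hcard⟩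
  obtain ⟨l, L⟩ := S.exists_lam
  have hPc : ∀ i : ℕ, Pc (MulAut.conj g⁻¹) P i = MulAut.conj (g ^ i)⁻¹ • P := by
    intro i
    unfold Pc
    rw [zpow_natCast, ← map_pow, inv_pow]
  have hPK : P ≤ K := by
    rw [hK]
    have h := le_iSup₂ (f := fun i (_ : i ∈ Finset.range (n + 1)) => MulAut.conj (g ^ i)⁻¹ • P) 0
      (Finset.mem_range.mpr (by omega))
    simpa using h
  have hKc : ∀ X : Subgroup G, (∀ i : ℕ, i ≤ n → Comm X (Pc (MulAut.conj g⁻¹) P i)) →
      Comm X K := by
    intro X hX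
    rw [hK]
    apply Comm.iSup_right
    intro i
    apply Comm.iSup_right
    intro hi
    rw [← hPc]
    exact hX i (by have := Finset.mem_range.mp hi; omega)
  have hI := L.two_mul_le S n K hPK hKc h2
  have hcP : Nat.card P = p ^ t := by
    have h := hcard 0 0 t le_rfl (by simp)
    rwa [Win_self, Pc_zero] at h
  refine ⟨t, hcP, ht1, ?_, ?_⟩
  · rcases Nat.lt_or_ge l t with hl | hl
    · have hII := L.two_t_le S hl
      omega
    · have := L.le
      omega
  · rcases Nat.lt_or_ge l t with hl | hl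
    · have hII := L.two_t_le S hl
      omega
    · have := L.le
      omega

end Cfsg.Agent.S4359
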