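import Cfsg.Statements.S4370
import Cfsg.Agent.Helper4.CyclicCentC
import Cfsg.Agent.Helper4.CyclicCentD

set_option autoImplicit false
open Cfsg

namespace Cfsg.Agent.S4370

/-- Let G be a finite non-abelian nilpotent group. Then the centralizer of every non-central element of G is cyclic if and only if G is isomorphic to the direct product of a generalized quaternion group and a cyclic group of odd order. -/
theorem result {G : Type*} [Group G] [Finite G] (hG : Group.IsNilpotent G)
    (hna : ¬ IsMulCommutative G) :
    (∀ x : G, x ∉ Subgroup.center G → IsCyclic (Subgroup.centralizer ({x} : Set G))) ↔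
      ∃ (k m : ℕ), 1 ≤ k ∧ Odd m ∧ Nonempty (G ≃* QuaternionGroup (2 ^ k) × Multiplicative (ZMod m)) := by
  constructor
  · intro h
    exact Cfsg.Agent.Helper4.exists_quaternion_prod_of_cyclic_centralizers hG hna h
  · rintro ⟨k, m, -, hm, ⟨e⟩⟩ x hx
    have hex : e x ∉ Subgroup.center (QuaternionGroup (2 ^ k) × Multiplicative (ZMod m)) := by
      intro hc
      apply hx
      rw [Subgroup.mem_center_iff] at hc ⊢
      intro g
      apply e.injective
      rw [map_mul, map_mul]
      exact hc (e g)
    have hcyc := Cfsg.Agent.Helper4.isCyclic_centralizer_quaternion_prod hm (e x) hex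
    let f : Subgroup.centralizer ({x} : Set G) →*
        Subgroup.centralizer ({e x} : Set (QuaternionGroup (2 ^ k) × Multiplicative (ZMod m))) :=
      (e.toMonoidHom.comp (Subgroup.centralizer ({x} : Set G)).subtype).codRestrict _ (by
        intro y
        rw [Subgroup.mem_centralizer_iff]
        intro z hz
        rw [Set.mem_singleton_iff] at hz
        subst hz
        have h1 := (Subgroup.mem_centralizer_iff.1 y.2) x rfl
        change e x * e (y : G) = e (y : G) * e x
        rw [← map_mul, ← map_mul, h1])
    have hf : Function.Injective f := by
      intro y z hyz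
      have h1 : e (y : G) = e (z : G) := congrArg Subtype.val hyz
      exact Subtype.ext (e.injective h1)
    exact isCyclic_of_injective f hf

end Cfsg.Agent.S4370
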