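import Cfsg.Statements.S4377

set_option autoImplicit false
open Cfsg

namespace Cfsg.Agent.S4377

open Finset

/-- `b(n) = Σ_{d ∣ n} a(d)` for a finite group, in `Nat.card` form. -/
theorem card_pow_eq_one_eq_sum {G : Type*} [Group G] [Finite G] (n : ℕ) (hn : n ≠ 0) :
    Nat.card {g : G // g ^ n = 1} = ∑ d ∈ Nat.divisors n, Nat.card {g : G // orderOf g = d} := by
  classical
  have : Fintype G := Fintype.ofFinite G
  have key := sum_card_orderOf_eq_card_pow_eq_one (G := G) hn
  rw [Nat.card_eq_fintype_card, Fintype.card_subtype]
  convert key.symm using 2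
  · rename_i d _
    rw [Nat.card_eq_fintype_card, Fintype.card_subtype]

theorem card_orderOf_zero {G : Type*} [Group G] [Finite G] :
    Nat.card {g : G // orderOf g = 0} = 0 := by
  have : IsEmpty {g : G // orderOf g = 0} := ⟨fun g => (orderOf_pos g.1).ne' g.2⟩
  exact Nat.card_of_isEmpty

theorem card_pow_card_eq {G : Type*} [Group G] [Finite G] (k : ℕ) :
    Nat.card {g : G // g ^ (Nat.card G * k) = 1} = Nat.card G := by
  apply Nat.card_congr
  refine Equiv.subtypeUnivEquiv ?_
  intro g
  rw [pow_mul, pow_card_eq_one', one_pow]

/-- Two finite groups have the same number of elements of each order if and only if, for every n, they have the same number of elements g with gⁿ = 1. -/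
theorem result {G H : Type*} [Group G] [Finite G] [Group H] [Finite H] :
    (∀ n : ℕ, Nat.card {g : G // orderOf g = n} = Nat.card {h : H // orderOf h = n}) ↔
      ∀ n : ℕ, Nat.card {g : G // g ^ n = 1} = Nat.card {h : H // h ^ n = 1} := by
  constructor
  · intro h
    have hpos : ∀ n : ℕ, n ≠ 0 → Nat.card {g : G // g ^ n = 1} = Nat.card {h : H // h ^ n = 1} := by
      intro n hn
      rw [card_pow_eq_one_eq_sum n hn, card_pow_eq_one_eq_sum n hn]
      exact Finset.sum_congr rfl (fun d _ => h d)
    intro n
    by_cases hn : n = 0
    · subst hn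
      have hN : Nat.card G * Nat.card H ≠ 0 := Nat.mul_ne_zero Nat.card_pos.ne' Nat.card_pos.ne'
      have := hpos _ hN
      rw [card_pow_card_eq (G := G) (Nat.card H), mul_comm, card_pow_card_eq (G := H) (Nat.card G)] at this
      have e1 : Nat.card {g : G // g ^ 0 = 1} = Nat.card G :=
        Nat.card_congr (Equiv.subtypeUnivEquiv (fun g => pow_zero g))
      have e2 : Nat.card {g : H // g ^ 0 = 1} = Nat.card H :=
        Nat.card_congr (Equiv.subtypeUnivEquiv (fun g => pow_zero g))
      rw [e1, e2, this]
    · exact hpos n hn
  · intro h n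
    induction n using Nat.strong_induction_on with
    | _ n ih =>
      by_cases hn : n = 0
      · subst hn
        rw [card_orderOf_zero, card_orderOf_zero]
      · have hG := card_pow_eq_one_eq_sum (G := G) n hn
        have hH := card_pow_eq_one_eq_sum (G := H) n hn
        rw [← Nat.cons_self_properDivisors hn, Finset.sum_cons] at hG hH
        have hsum : ∑ d ∈ n.properDivisors, Nat.card {g : G // orderOf g = d} =
            ∑ d ∈ n.properDivisors, Nat.card {g : H // orderOf g = d} := by
          apply Finset.sum_congr rfl
          intro d hd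
          exact ih d (Nat.mem_properDivisors.mp hd).2
        have := h n
        omega

end Cfsg.Agent.S4377
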