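import Cfsg.Statements.S4381
import Cfsg.Agent.Helper4.CoprimeActC

set_option autoImplicit false
open Pointwise
open Cfsg

namespace Cfsg.Agent.S4381

/-- Let the finite group A act by automorphisms on the finite group G with the orders of A and G coprime, and assume that A or G is solvable. Call a proper A-invariant subgroup of G maximal A-invariant when no A-invariant subgroup lies strictly between it and G. Then all maximal A-invariant subgroups of G are conjugate under elements of the fixed-point subgroup C_G(A) if and only if G is a p-group for some prime p and A leaves invariant no subgroup strictly between the Frattini subgroup of G and G. In that case, if G is nontrivial, the Frattini subgroup is the only maximal A-invariant subgroup (a trivial G has none). -/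
theorem result {A G : Type*} [Group A] [Finite A]
    [Group G] [Finite G] [MulDistribMulAction A G] (hcop : (Nat.card A).Coprime (Nat.card G)) (hsol : Group.IsSolvable A ∨ Group.IsSolvable G) :
    ((∀ M N : Subgroup G, (M ≠ ⊤ ∧ (∀ a : A, ∀ x ∈ M, a • x ∈ M) ∧ ∀ L : Subgroup G, M < L → (∀ a : A, ∀ x ∈ L, a • x ∈ L) → L = ⊤) → (N ≠ ⊤ ∧ (∀ a : A, ∀ x ∈ N, a • x ∈ N) ∧ ∀ L : Subgroup G, N < L → (∀ a : A, ∀ x ∈ L, a • x ∈ L) → L = ⊤) →
        ∃ c : G, (∀ a : A, a • c = c) ∧ N = MulAut.conj c • M) ↔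
      ((∃ p : ℕ, p.Prime ∧ IsPGroup p G) ∧ ∀ L : Subgroup G, frattini G < L → (∀ a : A, ∀ x ∈ L, a • x ∈ L) → L = ⊤)) ∧
    (((∃ p : ℕ, p.Prime ∧ IsPGroup p G) ∧ ∀ L : Subgroup G, frattini G < L → (∀ a : A, ∀ x ∈ L, a • x ∈ L) → L = ⊤) →
      ∀ M : Subgroup G, (M ≠ ⊤ ∧ (∀ a : A, ∀ x ∈ M, a • x ∈ M) ∧ ∀ L : Subgroup G, M < L → (∀ a : A, ∀ x ∈ L, a • x ∈ L) → L = ⊤) ↔ (M = frattini G ∧ M ≠ ⊤)) := by
  have key2 : ((∃ p : ℕ, p.Prime ∧ IsPGroup p G) ∧ ∀ L : Subgroup G, frattini G < L → (∀ a : A, ∀ x ∈ L, a • x ∈ L) → L = ⊤) →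
      ∀ M : Subgroup G, (M ≠ ⊤ ∧ (∀ a : A, ∀ x ∈ M, a • x ∈ M) ∧ ∀ L : Subgroup G, M < L → (∀ a : A, ∀ x ∈ L, a • x ∈ L) → L = ⊤) ↔ (M = frattini G ∧ M ≠ ⊤) := by
    rintro ⟨_, hmin⟩ M
    exact Cfsg.Agent.Helper4.actMaxInv_iff_of_min hmin M
  refine ⟨⟨?_, ?_⟩, key2⟩
  · intro hconj
    -- Step 1: G is a p-group
    have hpg : ∃ p : ℕ, p.Prime ∧ IsPGroup p G := by
      by_contra hno
      have hnt : (⊥ : Subgroup G) ≠ ⊤ := by
        intro h
        apply hno
        refine ⟨2, Nat.prime_two, IsPGroup.of_card (n := 0) ?_⟩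
        rw [pow_zero, ← Subgroup.card_top (G := G), ← h, Subgroup.card_bot]
      obtain ⟨M, _, hM⟩ := Cfsg.Agent.Helper4.exists_actMaxInv (A := A)
        Cfsg.Agent.Helper4.actInv_bot hnt
      have hdvd : Nat.card G ∣ Nat.card M := by
        rw [← Nat.factorization_prime_le_iff_dvd Nat.card_pos.ne' Nat.card_pos.ne']
        intro r hr
        have : Fact r.Prime := ⟨hr⟩
        obtain ⟨P, hPi, hPc⟩ := Cfsg.Agent.Helper4.exists_invariant_sylow_action hcop hsol r
        have hPt : P ≠ ⊤ := by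
          rintro rfl
          apply hno
          refine ⟨r, hr, IsPGroup.of_card (n := (Nat.card G).factorization r) ?_⟩
          rw [← hPc, Subgroup.card_top]
        obtain ⟨Mr, hPM, hMr⟩ := Cfsg.Agent.Helper4.exists_actMaxInv (A := A) hPi hPt
        obtain ⟨c, _, hc⟩ := hconj M Mr hM hMr
        have hcard : Nat.card Mr = Nat.card M := by
          rw [hc]
          exact (Nat.card_congr (Subgroup.equivSMul (MulAut.conj c) M).toEquiv).symm
        rw [← hr.pow_dvd_iff_le_factorization Nat.card_pos.ne', ← hcard, ← hPc]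
        exact Subgroup.card_dvd_of_le hPM
      exact hM.1 (Subgroup.eq_top_of_le_card _ (Nat.le_of_dvd Nat.card_pos hdvd))
    refine ⟨hpg, ?_⟩
    obtain ⟨p, hp, hG⟩ := hpg
    have : Fact p.Prime := ⟨hp⟩
    intro L hΦL hLi
    by_contra hLt
    have hntG : Nontrivial G := by
      by_contra hnt
      rw [not_nontrivial_iff_subsingleton] at hnt
      exact hLt (Subsingleton.elim _ _)
    have hpA : ¬ p ∣ Nat.card A := by
      intro hpA
      obtain ⟨n, hn⟩ := IsPGroup.iff_card.1 hG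
      have hn0 : n ≠ 0 := by
        rintro rfl
        rw [pow_zero] at hn
        exact absurd hn Finite.one_lt_card.ne'
      have hpG : p ∣ Nat.card G := by
        rw [hn]
        exact dvd_pow_self p hn0
      exact hp.one_lt.ne' (Nat.eq_one_of_dvd_coprimes hcop hpA hpG)
    obtain ⟨L', hL'i, hΦL', hsup, hinf⟩ :=
      Cfsg.Agent.Helper4.exists_invariant_compl_mod_frattini hG hpA hLi hΦL.le
    have hL't : L' ≠ ⊤ := by
      rintro rfl
      rw [inf_top_eq] at hinf
      exact hΦL.ne' hinf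
    obtain ⟨M₁, hLM₁, hM₁⟩ := Cfsg.Agent.Helper4.exists_actMaxInv (A := A) hLi hLt
    obtain ⟨M₂, hLM₂, hM₂⟩ := Cfsg.Agent.Helper4.exists_actMaxInv (A := A) hL'i hL't
    obtain ⟨c, _, hc⟩ := hconj M₁ M₂ hM₁ hM₂
    have hM₁n : M₁.Normal := by
      constructor
      intro x hx g
      have h1 : g * x * g⁻¹ * x⁻¹ ∈ M₁ :=
        hLM₁ (hΦL.le (Cfsg.Agent.Helper4.pgroup_commutator_mem_frattini hG g x))
      have h2 := M₁.mul_mem h1 hx
      rwa [inv_mul_cancel_right] at h2
    rw [Subgroup.Normal.conj_smul_eq_self] at hc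
    apply hM₁.1
    rw [eq_top_iff, ← hsup]
    exact sup_le hLM₁ (hc ▸ hLM₂)
  · rintro hR M N hM hN
    rw [key2 hR M] at hM
    rw [key2 hR N] at hN
    refine ⟨1, fun a => smul_one a, ?_⟩
    rw [map_one, one_smul, hM.1, hN.1]

end Cfsg.Agent.S4381
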