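import Cfsg.Statements.S4385
import Cfsg.Agent.Helper3.Sims.Bridge
import Cfsg.Agent.Helper2.SimsDih
import Cfsg.Agent.Helper2.SimsCore
import Cfsg.Agent.Helper1.SimsEndD

set_option autoImplicit false
open Pointwise
open Cfsg

namespace Cfsg.Agent.S4385

open Cfsg.Agent.Helper3.SimsW

theorem mid_of_index_two {G : Type*} [Group G] [Finite G] {Q D E : Subgroup G} (h1 : Q ≤ D)
    (h2 : D ≤ E) (hc : Nat.card E = 2 * Nat.card Q) : D ≤ Q ∨ E ≤ D := by
  have hidx := relIndex_eq_two_of_card (h1.trans h2) hc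
  have hmul := Subgroup.relIndex_mul_relIndex Q D E h1 h2
  rw [hidx] at hmul
  have hdvd : D.relIndex E ∣ 2 := ⟨Q.relIndex D, by rw [← hmul, mul_comm]⟩
  rcases (Nat.dvd_prime Nat.prime_two).1 hdvd with h | h
  · right; exact Subgroup.relIndex_eq_one.1 h
  · left
    rw [h] at hmul
    have : Q.relIndex D = 1 := by omega
    exact Subgroup.relIndex_eq_one.1 this

theorem index2_le {G : Type*} [Group G] [Finite G] {Q E K : Subgroup G} (hQE : Q ≤ E)
    (hc : Nat.card E = 2 * Nat.card Q) {u : G} (huE : u ∈ E) (huQ : u ∉ Q) (hQK : Q ≤ K)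
    (huK : u ∈ K) : E ≤ K := by
  rcases mid_of_index_two (D := K ⊓ E) (le_inf hQK hQE) inf_le_right hc with h | h
  · exact absurd (h ⟨huK, huE⟩) huQ
  · exact h.trans inf_le_left

/-- Let H be a subgroup of a finite group G whose largest normal 2-subgroup O_2(H) is nontrivial and such that H/O_2(H) is a dihedral group of order at least 4. Let P be a Sylow 2-subgroup of H and S a Sylow 2-subgroup of G containing P. Suppose y ∈ S lies outside P, normalizes P, has y² in the product of P with the centralizer of P in G, and normalizes no non-identity normal subgroup of H contained in P. Then P has order 4, 8 or 16, and H modulo its largest normal subgroup of odd order is isomorphic to the four-group, to the symmetric group of degree 4, or to the direct product of the symmetric group of degree 4 with a group of order 2. -/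
theorem result {G : Type*} [Group G] [Finite G]
    (H : Subgroup G) (hO : Cfsg.pCore 2 ↥H ≠ ⊥) (n : ℕ) (hn : 2 ≤ n) (hdih : Nonempty (↥H ⧸ Cfsg.pCore 2 ↥H ≃* DihedralGroup n))
    (P : Subgroup G) (hPH : P ≤ H) (hP : IsPGroup 2 P) (hPsyl : ¬ 2 ∣ P.relIndex H)
    (S : Sylow 2 G) (hPS : P ≤ (S : Subgroup G)) (y : G) (hyS : y ∈ (S : Subgroup G)) (hyP : y ∉ P)
    (hy2 : y ^ 2 ∈ P ⊔ Subgroup.centralizer (P : Set G)) (hyN : MulAut.conj y • P = P)
    (hyQ : ∀ Q : Subgroup G, Q ≤ P → (Q.subgroupOf H).Normal → MulAut.conj y • Q = Q → Q = ⊥) :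
    (Nat.card P = 4 ∨ Nat.card P = 8 ∨ Nat.card P = 16) ∧
    (Nonempty (↥H ⧸ Cfsg.oddCore ↥H ≃* Multiplicative (ZMod 2) × Multiplicative (ZMod 2)) ∨
     Nonempty (↥H ⧸ Cfsg.oddCore ↥H ≃* Equiv.Perm (Fin 4)) ∨
     Nonempty (↥H ⧸ Cfsg.oddCore ↥H ≃* Equiv.Perm (Fin 4) × Multiplicative (ZMod 2))) := by
  obtain ⟨Q, hQdef, hQne, hQP, hQH, hnodd, hcardP, hcardH, r, hrH, hgen⟩ :=
    Cfsg.Agent.Helper2.SimsDih.dih_facts H hO n hn hdih P hPH hP hPsyl
  have hE1 : MulAut.conj (r * y) • P = MulAut.conj r • P := by rw [conj_mul_smul, hyN]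
  have hcardE : Nat.card (MulAut.conj r • P : Subgroup G) = Nat.card P := card_conj_smul r P
  have hQE : Q ≤ MulAut.conj r • P := by
    intro x hx
    rw [mem_conj_smul]
    apply hQP
    have := conj_mem_of_smul_eq (conj_inv_smul_eq (hQH r hrH)) hx
    simpa using this
  have hinf : P ⊓ MulAut.conj r • P = Q := by
    rcases mid_of_index_two (D := P ⊓ MulAut.conj r • P) (le_inf hQP hQE) inf_le_left hcardP
      with h | h
    · exact le_antisymm h (le_inf hQP hQE)
    · exfalso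
      have h1 : P ≤ MulAut.conj r • P := h.trans inf_le_right
      have h2 : P = MulAut.conj r • P := Subgroup.eq_of_le_of_card_ge h1 (by rw [hcardE])
      rw [← h2, sup_idem] at hgen
      rw [← hgen] at hcardH
      have hpos : 0 < Nat.card P := Nat.card_pos
      have h3 : n = 1 := by
        have : n * Nat.card P = 1 * Nat.card P := by rw [one_mul]; exact hcardH.symm
        exact Nat.eq_of_mul_eq_mul_right hpos this
      omega
  have hNS : ∀ N : Subgroup G, N ≤ P → (∀ h ∈ H, MulAut.conj h • N = N) →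
      MulAut.conj (r * y) • N = N → N = ⊥ := by
    intro N hN h1 h3
    apply hyQ N hN
    · constructor
      intro x hx g
      rw [Subgroup.mem_subgroupOf] at hx ⊢
      have := conj_mem_of_smul_eq (h1 g.1 g.2) hx
      simpa using this
    · rw [conj_mul_smul] at h3
      have h4 := eq_inv_smul_iff.2 h3
      rw [h4]
      exact inv_smul_eq_iff.2 (h1 r hrH).symm
  have hCF : ∀ N : Subgroup G, N ≤ MulAut.conj r • P → (∀ h ∈ H, MulAut.conj h • N = N) →
      (∀ h ∈ H, MulAut.conj ((r * y) * h * (r * y)⁻¹) • N = N) → N = ⊥ := by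
    intro N hN h1 h2
    have hNP : N ≤ P := by
      intro x hx
      have hx' := conj_mem_of_smul_eq (h1 r hrH) hx
      have := hN hx'
      rw [mem_conj_smul] at this
      have e : r⁻¹ * (r * x * r⁻¹) * r = x := by group
      rwa [e] at this
    apply Cfsg.Agent.Helper2.SimsCore.core_free H P hPH y hy2 hyN hyQ N hNP h1
    intro h hh
    have e : y * h * y⁻¹ = r⁻¹ * ((r * y) * h * (r * y)⁻¹) * r := by group
    rw [e]
    have hr : r ∈ Nz N := mem_Nz.2 (h1 r hrH)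
    have hg : (r * y) * h * (r * y)⁻¹ ∈ Nz N := mem_Nz.2 (h2 h hh)
    exact mem_Nz.1 (Subgroup.mul_mem _ (Subgroup.mul_mem _ (Subgroup.inv_mem _ hr) hg) hr)
  obtain ⟨u, v, huP, huQ, hu2, hvE, hvQ, hv2, hcases⟩ :=
    sims_calc H P Q (r * y) r hrH hP hQP hcardP hQne hQH hE1 hgen hinf hNS hCF
  have hEH : MulAut.conj r • P ≤ H := by rw [← hgen]; exact le_sup_right
  have huH : u ∈ H := hPH huP
  have hvH : v ∈ H := hEH hvE
  have hQmem : ∀ q : ↥H, q ∈ Cfsg.pCore 2 ↥H ↔ (q : G) ∈ Q := by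
    intro q
    rw [hQdef]
    constructor
    · intro hq; exact Subgroup.mem_map_of_mem _ hq
    · rintro ⟨q', hq', he⟩
      have : q' = q := Subtype.ext he
      rwa [← this]
  have hcardQA : Nat.card (Cfsg.pCore 2 ↥H) = Nat.card Q := by
    rw [hQdef]
    exact (Subgroup.card_map_of_injective H.subtype_injective).symm
  have hcardA : Nat.card ↥H = n * (2 * Nat.card (Cfsg.pCore 2 ↥H)) := by
    rw [hcardQA, ← hcardP]; exact hcardH
  have hK : H ≤ Q ⊔ Subgroup.closure {u, v} := by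
    have hQK : Q ≤ Q ⊔ Subgroup.closure {u, v} := le_sup_left
    have huK : u ∈ Q ⊔ Subgroup.closure {u, v} :=
      (le_sup_right : Subgroup.closure {u, v} ≤ _) (Subgroup.subset_closure (by simp))
    have hvK : v ∈ Q ⊔ Subgroup.closure {u, v} :=
      (le_sup_right : Subgroup.closure {u, v} ≤ _) (Subgroup.subset_closure (by simp))
    rw [← hgen]
    exact sup_le (index2_le hQP hcardP huP huQ hQK huK)
      (index2_le hQE (by rw [hcardE]; exact hcardP) hvE hvQ hQK hvK)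
  have hgenA : Cfsg.pCore 2 ↥H ⊔ Subgroup.closure {(⟨u, huH⟩ : ↥H), ⟨v, hvH⟩} = ⊤ := by
    rw [eq_top_iff]
    intro x _
    have hx : (x : G) ∈ Q ⊔ Subgroup.closure {u, v} := hK x.2
    have hmap : (Cfsg.pCore 2 ↥H ⊔ Subgroup.closure {(⟨u, huH⟩ : ↥H), ⟨v, hvH⟩}).map H.subtype =
        Q ⊔ Subgroup.closure {u, v} := by
      rw [Subgroup.map_sup, MonoidHom.map_closure, ← hQdef, Set.image_pair]
      rfl
    rw [← hmap] at hx
    obtain ⟨x', hx', he⟩ := hx
    have : x' = x := Subtype.ext he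
    rwa [← this]
  have hu2' : (⟨u, huH⟩ : ↥H) * ⟨u, huH⟩ = 1 := Subtype.ext hu2
  have hv2' : (⟨v, hvH⟩ : ↥H) * ⟨v, hvH⟩ = 1 := Subtype.ext hv2
  obtain ⟨hone, htwo⟩ := Cfsg.Agent.Helper1.SimsEnd.end_game (Cfsg.pCore 2 ↥H) n hnodd hcardA
    (⟨u, huH⟩ : ↥H) ⟨v, hvH⟩ hu2' hv2'
    (fun h => huQ ((hQmem _).1 h)) (fun h => hvQ ((hQmem _).1 h)) hgenA
  rcases hcases with ⟨h4, hcen⟩ | ⟨h816, hexp, hab, huC, hw3, hwC⟩
  · refine ⟨Or.inl h4, Or.inl ?_⟩
    apply hone
    · omega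
    · intro q hq h
      apply Subtype.ext
      have := hcen q.1 ((hQmem q).1 hq) h.1 h.2
      simpa using this
  · have hQ48 : Nat.card (Cfsg.pCore 2 ↥H) = 4 ∨ Nat.card (Cfsg.pCore 2 ↥H) = 8 := by omega
    have g1 : ∀ q ∈ Cfsg.pCore 2 ↥H, q * q = 1 := by
      intro q hq
      apply Subtype.ext
      simpa using hexp q.1 ((hQmem q).1 hq)
    have g2 : ∀ q ∈ Cfsg.pCore 2 ↥H, ∀ q' ∈ Cfsg.pCore 2 ↥H, q * q' = q' * q := by
      intro q hq q' hq'
      apply Subtype.ext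
      simpa using hab q.1 ((hQmem q).1 hq) q'.1 ((hQmem q').1 hq')
    have g3 : ∃ q ∈ Cfsg.pCore 2 ↥H, (⟨u, huH⟩ : ↥H) * q ≠ q * ⟨u, huH⟩ := by
      obtain ⟨q, hq, hne⟩ := huC
      have hqH : q ∈ H := hPH (hQP hq)
      refine ⟨⟨q, hqH⟩, (hQmem _).2 hq, ?_⟩
      intro h
      apply hne
      have := congrArg Subtype.val h
      simpa using this
    have g4 : ∀ q ∈ Cfsg.pCore 2 ↥H,
        ((⟨u, huH⟩ : ↥H) * ⟨v, hvH⟩) ^ 3 * q = q * ((⟨u, huH⟩ : ↥H) * ⟨v, hvH⟩) ^ 3 := by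
      intro q hq
      apply Subtype.ext
      have := hw3 q.1 ((hQmem q).1 hq)
      simpa using this
    have g5 : ∃ q ∈ Cfsg.pCore 2 ↥H,
        ((⟨u, huH⟩ : ↥H) * ⟨v, hvH⟩) * q ≠ q * ((⟨u, huH⟩ : ↥H) * ⟨v, hvH⟩) := by
      obtain ⟨q, hq, hne⟩ := hwC
      have hqH : q ∈ H := hPH (hQP hq)
      refine ⟨⟨q, hqH⟩, (hQmem _).2 hq, ?_⟩
      intro h
      apply hne
      have := congrArg Subtype.val h
      simpa using this
    rcases htwo hQ48 g1 g2 g3 g4 g5 with ⟨hc4, hiso⟩ | ⟨hc8, hiso⟩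
    · exact ⟨Or.inr (Or.inl (by omega)), Or.inr (Or.inl hiso)⟩
    · exact ⟨Or.inr (Or.inr (by omega)), Or.inr (Or.inr hiso)⟩

end Cfsg.Agent.S4385
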