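import Cfsg.Statements.S4387
import Cfsg.Agent.Helper4.ConjUnion

set_option autoImplicit false
open Cfsg

namespace Cfsg.Agent.S4387

open Cfsg.Agent.Helper4
open scoped Pointwise

theorem card_conj_smul {G : Type*} [Group G] (g : G) (M : Subgroup G) :
    Nat.card (MulAut.conj g • M : Subgroup G) = Nat.card M := by
  exact (Nat.card_congr (Subgroup.equivSMul (MulAut.conj g) M).toEquiv).symm

/-- Let G be a non-trivial finite group in which any two maximal subgroups are conjugate. Then G is cyclic of prime-power order. -/
theorem result {G : Type*} [Group G] [Finite G] [Nontrivial G]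
    (h : ∀ M N : Subgroup G, IsCoatom M → IsCoatom N → ∃ g : G, N = MulAut.conj g • M) :
    IsCyclic G ∧ IsPrimePow (Nat.card G) := by
  -- a maximal subgroup
  have hbt : (⊥ : Subgroup G) ≠ ⊤ := bot_ne_top
  obtain ⟨M, hM, -⟩ := (eq_top_or_exists_le_coatom (⊥ : Subgroup G)).resolve_left hbt
  -- every proper subgroup has order dividing |M| and every element in a proper subgroup is in a conjugate
  have hprop : ∀ K : Subgroup G, K ≠ ⊤ → ∃ g : G, K ≤ MulAut.conj g • M := by
    intro K hK
    obtain ⟨N, hN, hKN⟩ := (eq_top_or_exists_le_coatom K).resolve_left hK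
    obtain ⟨g, hg⟩ := h M N hM hN
    exact ⟨g, hg ▸ hKN⟩
  constructor
  · obtain ⟨g, hg⟩ := exists_not_mem_conj M hM.1
    rw [isCyclic_iff_exists_zpowers_eq_top]
    refine ⟨g, ?_⟩
    by_contra hne
    obtain ⟨x, hx⟩ := hprop _ hne
    have := hx (Subgroup.mem_zpowers g)
    rw [Subgroup.mem_pointwise_smul_iff_inv_smul_mem] at this
    apply hg x
    simpa [MulAut.smul_def, mul_assoc] using this
  · by_contra hnpp
    have hcardG : Nat.card G ≠ 0 := Nat.card_pos.ne'
    have hcardM : Nat.card M ≠ 0 := Nat.card_pos.ne'
    have hdvd : Nat.card G ∣ Nat.card M := by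
      rw [← Nat.factorization_prime_le_iff_dvd hcardG hcardM]
      intro p hp
      have : Fact p.Prime := ⟨hp⟩
      obtain ⟨P⟩ := (inferInstance : Nonempty (Sylow p G))
      have hPtop : (P : Subgroup G) ≠ ⊤ := by
        intro htop
        apply hnpp
        have hc := P.card_eq_multiplicity
        rw [htop, Subgroup.card_top] at hc
        rw [isPrimePow_nat_iff]
        refine ⟨p, (Nat.card G).factorization p, hp, ?_, hc.symm⟩
        by_contra h0
        have h0' : (Nat.card G).factorization p = 0 := by omega
        rw [h0', pow_zero] at hc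
        have : Subsingleton G := (Nat.card_eq_one_iff_unique.mp hc).1
        exact not_subsingleton G this
      obtain ⟨g, hg⟩ := hprop _ hPtop
      have h1 : Nat.card (P : Subgroup G) ∣ Nat.card (MulAut.conj g • M : Subgroup G) :=
        Subgroup.card_dvd_of_le hg
      rw [card_conj_smul, P.card_eq_multiplicity] at h1
      exact (hp.pow_dvd_iff_le_factorization hcardM).mp h1
    have hle : Nat.card M ∣ Nat.card G := Subgroup.card_subgroup_dvd_card M
    have heq : Nat.card M = Nat.card G := Nat.dvd_antisymm hle hdvd
    exact hM.1 ((Subgroup.card_eq_iff_eq_top M).mp heq)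

end Cfsg.Agent.S4387
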