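import Cfsg.Statements.S4394
import Cfsg.Agent.Helper7.SchSylB
import Cfsg.Agent.Helper7.SchSylE
import Cfsg.Agent.Helper3.PLen
import Cfsg.Agent.Helper4.HallHigman

set_option autoImplicit false
open Cfsg

namespace Cfsg.Agent.S4394

/-- Let X be a finite minimal non-nilpotent group (not nilpotent, every proper subgroup nilpotent) with a nontrivial normal Sylow p-subgroup P. If G is a finite p-solvable group whose Sylow p-subgroups are isomorphic to P, then G has p-length at most 1. -/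
theorem result {G X : Type*} [Group G] [Finite G] [Group X] [Finite X] (p : ℕ) [Fact p.Prime]
    (hX : Cfsg.IsMinimalNonNilpotent X) (P : Sylow p X) (hPn : (P : Subgroup X).Normal) (hP1 : (P : Subgroup X) ≠ ⊥)
    (hG : Cfsg.IsPSolvable p G) (Q : Sylow p G) (hQ : Nonempty (↥(Q : Subgroup G) ≃* ↥(P : Subgroup X))) : Cfsg.PLengthLE p 1 G := by
  classical
  obtain ⟨e⟩ := hQ
  -- the Sylow subgroups of `G` are abelian or of Schmidt type
  have hT := Cfsg.Agent.Helper7.SchSyl.schSyl_or_comm p hX P hPn hP1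
  have hQT : (∀ a b : ↥(Q : Subgroup G), a * b = b * a) ∨
      Cfsg.Agent.Helper7.SchSyl.SchSyl p ↥(Q : Subgroup G) := by
    rcases hT with hT | hT
    · left
      intro a b
      apply e.injective
      rw [map_mul, map_mul]
      exact hT _ _
    · right
      exact Cfsg.Agent.Helper7.SchSyl.SchSyl.of_mulEquiv e.symm hT
  -- pass to the quotient by `O_{p'}(G)`
  set N := Cfsg.pPrimeCore p G with hN
  have hNcop : (Nat.card N).Coprime p := Cfsg.Agent.Helper1.card_pPrimeCore_coprime p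
  apply Cfsg.Agent.Helper3.PLen.pLengthLE_of_quotient_coprime p N hNcop
  have hsurj := QuotientGroup.mk'_surjective N
  have hsolH : Cfsg.IsPSolvable p (G ⧸ N) := Cfsg.Agent.Helper4.isPSolvable_quotient hG N
  have hOH : Cfsg.pPrimeCore p (G ⧸ N) = ⊥ := Cfsg.Agent.Helper4.pPrimeCore_quotient_eq_bot p
  set Qb : Sylow p (G ⧸ N) := Q.mapSurjective hsurj with hQb
  -- the image of `Q` is isomorphic to `Q`
  have hinj : Function.Injective ((QuotientGroup.mk' N).subgroupMap (Q : Subgroup G)) := by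
    rw [injective_iff_map_eq_one]
    intro a ha
    have h1 : QuotientGroup.mk' N (a : G) = 1 := congrArg Subtype.val ha
    rw [QuotientGroup.mk'_apply, QuotientGroup.eq_one_iff] at h1
    have hcop : (Nat.card (Q : Subgroup G)).Coprime (Nat.card N) := by
      obtain ⟨k, hk⟩ := IsPGroup.iff_card.1 Q.2
      rw [hk]
      exact Nat.Coprime.pow_left k hNcop.symm
    have h2 : (a : G) ∈ (Q : Subgroup G) ⊓ N := Subgroup.mem_inf.2 ⟨a.2, h1⟩
    rw [Cfsg.Agent.Helper1.inf_eq_bot_of_coprime_card hcop, Subgroup.mem_bot] at h2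
    exact Subtype.ext h2
  have e' : ↥(Q : Subgroup G) ≃* ↥(Qb : Subgroup (G ⧸ N)) :=
    MulEquiv.ofBijective ((QuotientGroup.mk' N).subgroupMap (Q : Subgroup G))
      ⟨hinj, MonoidHom.subgroupMap_surjective _ _⟩
  have hQbT : (∀ a b : ↥(Qb : Subgroup (G ⧸ N)), a * b = b * a) ∨
      Cfsg.Agent.Helper7.SchSyl.SchSyl p ↥(Qb : Subgroup (G ⧸ N)) := by
    rcases hQT with hT | hT
    · left
      intro a b
      apply e'.symm.injective
      rw [map_mul, map_mul]
      exact hT _ _
    · right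
      exact Cfsg.Agent.Helper7.SchSyl.SchSyl.of_mulEquiv e' hT
  have hle := Cfsg.Agent.Helper7.SchSyl.sylow_le_pCore hsolH hOH Qb hQbT
  -- `p`-length one
  set R := Cfsg.pCore p (G ⧸ N) with hR
  have ha : Cfsg.PLengthLE p 1 ↥R := by
    obtain ⟨m, hm⟩ := IsPGroup.iff_card.1
      (Cfsg.Agent.Helper4.pCore_isPGroup (G := G ⧸ N) (p := p))
    exact Cfsg.Agent.Helper3.PLen.pLengthLE_one_of_card p hm
  have hb : Cfsg.PLengthLE p 0 ((G ⧸ N) ⧸ R) := by
    apply Cfsg.Agent.Helper3.PLen.pLengthLE_zero_of_coprime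
    have h1 : Nat.card ((G ⧸ N) ⧸ R) = R.index := rfl
    rw [h1]
    have h2 : R.index ∣ (Qb : Subgroup (G ⧸ N)).index := Subgroup.index_dvd_of_le hle
    have h3 : ¬ p ∣ (Qb : Subgroup (G ⧸ N)).index := Qb.not_dvd_index
    have h4 : ¬ p ∣ R.index := fun h => h3 (h.trans h2)
    exact ((Nat.Prime.coprime_iff_not_dvd (Fact.out : p.Prime)).2 h4).symm
  exact Cfsg.Agent.Helper3.PLen.pLengthLE_add p R ha hb

end Cfsg.Agent.S4394
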