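import Mathlib
import Cfsg.Statements.S4396
import Cfsg.Agent.Helper3.SemiFreeF
-- import your own Cfsg.Agent.* helpers here

set_option autoImplicit false
open Cfsg

namespace Cfsg.Agent.S4396

open Cfsg.Agent.Helper3.SemiFreeA Cfsg.Agent.Helper3.SemiFreeB Cfsg.Agent.Helper3.SemiFreeF
open scoped Pointwise

theorem fpf_of_frobenius {A : Type*} [Group A] (Fk Hc : Subgroup A)
    (hHc : Cfsg.IsFrobeniusComplement Hc) (hker : Cfsg.frobeniusKernel Hc = (Fk : Set A)) :
    ∀ h ∈ Hc, h ≠ 1 → ∀ f ∈ Fk, h * f * h⁻¹ = f → f = 1 := by
  intro h hh hne f hf hcomm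
  obtain ⟨_, _, hmal⟩ := hHc
  have hfh : f * h * f⁻¹ = h := by
    have : h * f = f * h := by
      have := congrArg (fun x => x * h) hcomm
      simpa using this
    rw [← this]; group
  have hfHc : f ∈ Hc := by
    by_contra hnot
    have h1 := hmal f hnot
    have h2 : h ∈ Hc ⊓ (MulAut.conj f • Hc) := by
      refine Subgroup.mem_inf.mpr ⟨hh, ?_⟩
      rw [Subgroup.mem_pointwise_smul_iff_inv_smul_mem]
      simp only [MulAut.smul_def, MulAut.conj_inv_apply]
      have : f⁻¹ * h * f = h := by
        calc f⁻¹ * h * f = f⁻¹ * (f * h * f⁻¹) * f := by rw [hfh]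
          _ = h := by group
      rw [this]; exact hh
    rw [h1, Subgroup.mem_bot] at h2
    exact hne h2
  have hfk : f ∈ Cfsg.frobeniusKernel Hc := by rw [hker]; exact hf
  rcases hfk with h1 | h1
  · exact h1
  · exfalso
    apply h1 1
    rw [map_one, one_smul]
    exact hfHc

/-- Let the finite group A act faithfully and linearly on a finite-dimensional vector space V over a field k, and suppose A is a Frobenius group with nilpotent kernel F (every Frobenius kernel is nilpotent) and complement H such that F fixes no nonzero vector. Then V is free as a module for H: there is a subspace W with V the direct sum of the translates hW, h ∈ H. (No assumption on the characteristic of k.) -/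
theorem result {k V A : Type*} [Field k] [AddCommGroup V] [Module k V] [FiniteDimensional k V] [Group A] [Finite A] [DecidableEq A]
    (ρ : Representation k A V) (hρ : Function.Injective ρ)
    (Fk Hc : Subgroup A) [Fk.Normal] (hHc : Cfsg.IsFrobeniusComplement Hc) (hker : Cfsg.frobeniusKernel Hc = (Fk : Set A)) (hnil : Group.IsNilpotent ↥Fk)
    (hCF : ∀ v : V, (∀ f ∈ Fk, ρ f v = v) → v = 0) :
    ∃ W : Submodule k V, DirectSum.IsInternal (fun h : ↥Hc => W.map (ρ (h : A))) := by
  have hfree := nil_free (k := k) Fk Hc hnil (fpf_of_frobenius Fk Hc hHc hker)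
    (Module.finrank k V) V ρ hCF rfl
  exact isInternal_of_hfree (fun h : ↥Hc => ρ (h : A)) hfree


end Cfsg.Agent.S4396
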