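import Cfsg.Statements.S4403
import Cfsg.Agent.Helper4.CyclicSylowH

set_option autoImplicit false
open Cfsg

namespace Cfsg.Agent.S4403

/-- Let K be a finite group, p a prime dividing its order with O_{p'}(K) = 1 (no nontrivial normal subgroup of order prime to p), and P a cyclic Sylow p-subgroup of K. Then either P is normal and self-centralizing in K with K/P cyclic of order dividing p − 1 (so K is the semidirect product of P by a group of automorphisms of P of order dividing p − 1), or the generalized Fitting subgroup F*(K) is a non-abelian simple group and p does not divide the index of F*(K) in K. -/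
theorem result {K : Type*} [Group K] [Finite K] (p : ℕ) [Fact p.Prime] (hp : p ∣ Nat.card K) (hO : Cfsg.pPrimeCore p K = ⊥)
    (P : Sylow p K) (hP : IsCyclic ↥(P : Subgroup K)) :
    ((P : Subgroup K).Normal ∧ Subgroup.centralizer ((P : Subgroup K) : Set K) = (P : Subgroup K) ∧
      (∀ (_ : (P : Subgroup K).Normal), IsCyclic (K ⧸ (P : Subgroup K))) ∧ (P : Subgroup K).index ∣ p - 1) ∨
    (IsSimpleGroup ↥(Cfsg.generalizedFittingSubgroup K) ∧ ¬ IsMulCommutative ↥(Cfsg.generalizedFittingSubgroup K) ∧
      ¬ p ∣ (Cfsg.generalizedFittingSubgroup K).index) := by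
  classical
  by_cases hZ : ∃ Z : Subgroup K, Z.Normal ∧ IsPGroup p Z ∧ Z ≠ ⊥
  · obtain ⟨Z, hZn, hZp, hZ1⟩ := hZ
    haveI := hZn
    exact Or.inl (Cfsg.Agent.Helper4.cyclic_sylow_caseA P hP hO Z hZp hZ1)
  · right
    have hnoP : ∀ Z : Subgroup K, Z.Normal → IsPGroup p Z → Z = ⊥ := by
      intro Z hZn hZp
      by_contra hne
      exact hZ ⟨Z, hZn, hZp, hne⟩
    have hnt : Nontrivial K := by
      rw [← Finite.one_lt_card_iff_nontrivial]
      have hpos : 0 < Nat.card K := Nat.card_pos
      have := Nat.le_of_dvd hpos hp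
      have h2 := (Fact.out : p.Prime).two_le
      omega
    obtain ⟨N, hN⟩ := Cfsg.Agent.Helper4.exists_isMinNormal K
    obtain ⟨hNs, hNna, hpN⟩ :=
      Cfsg.Agent.Helper4.minNormal_simple_of_cyclic_sylow P hP hO hnoP N hN
    haveI : N.Normal := hN.1
    have hF := Cfsg.Agent.Helper4.generalizedFittingSubgroup_eq_of_caseB P hP hO hnoP N hNs hNna hpN
    have hidx := Cfsg.Agent.Helper4.not_dvd_index_of_caseB P hP hnoP N hNs hpN
    rw [hF]
    exact ⟨hNs, hNna, hidx⟩

end Cfsg.Agent.S4403
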