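import Mathlib
import Cfsg.Statements.S4405
import Cfsg.Agent.Helper3.AutExF
-- import your own Cfsg.Agent.* helpers here

set_option autoImplicit false
open Cfsg

namespace Cfsg.Agent.S4405

open Cfsg.Agent.Helper3.AutEx Cfsg.Agent.Helper3.Extra

/-- Let G be a finite group of order 320 = 64·5 whose largest normal 2-subgroup H = O₂(G) equals the Fitting subgroup F(G) and is extraspecial of order 32 containing no elementary abelian subgroup of order 8 (so H is the central product of a quaternion group and a dihedral group of order 8). If T is an involution of G outside H whose centralizer in H contains an elementary abelian subgroup of order 4, then C_H(T) itself is elementary abelian of order 4. -/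
theorem result {G : Type*} [Group G] [Finite G]
    (hG : Nat.card G = 320) (hHF : Cfsg.pCore 2 G = Cfsg.fittingSubgroup G)
    (hex : Cfsg.IsExtraspecial 2 ↥(Cfsg.pCore 2 G)) (h32 : Nat.card ↥(Cfsg.pCore 2 G) = 32)
    (hminus : ∀ A : Subgroup G, A ≤ Cfsg.pCore 2 G → Cfsg.IsElementaryAbelian 2 A → Nat.card ↥A ≤ 4)
    (T : G) (hT : orderOf T = 2) (hTH : T ∉ Cfsg.pCore 2 G)
    (V : Subgroup G) (hV : V ≤ Cfsg.pCore 2 G ⊓ Subgroup.centralizer ({T} : Set G)) (hV4 : Nat.card ↥V = 4) (hVe : Cfsg.IsElementaryAbelian 2 V) :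
    Nat.card ↥(Cfsg.pCore 2 G ⊓ Subgroup.centralizer ({T} : Set G)) = 4 ∧
      Cfsg.IsElementaryAbelian 2 (Cfsg.pCore 2 G ⊓ Subgroup.centralizer ({T} : Set G)) := by
  have : Fact (Nat.Prime 2) := ⟨Nat.prime_two⟩
  have hHn : (Cfsg.pCore 2 G).Normal := Cfsg.Agent.Helper9.pCore_normal
  have hHp : IsPGroup 2 (Cfsg.pCore 2 G) := Cfsg.Agent.Helper9.pCore_isPGroup
  have hQ : Nat.card (G ⧸ Cfsg.pCore 2 G) = 10 := by
    have := Subgroup.card_eq_card_quotient_mul_card_subgroup (Cfsg.pCore 2 G)
    rw [hG, h32] at this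
    omega
  have hsolv : Group.IsSolvable G :=
    isSolvable_of_normal_pgroup (Cfsg.pCore 2 G) hHp (isSolvable_of_card_ten hQ)
  have hC : Subgroup.centralizer ((Cfsg.pCore 2 G : Subgroup G) : Set G) ≤ Cfsg.pCore 2 G := by
    have := Cfsg.Agent.Helper1.centralizer_fittingSubgroup_le (G := G)
    rw [← hHF] at this
    exact this
  have hIn := inClass_of_isExtraspecial hex
  obtain ⟨z, h⟩ := exists_e2 hIn
  have hno8 : ∀ A : Subgroup ↥(Cfsg.pCore 2 G), Cfsg.IsElementaryAbelian 2 A → Nat.card ↥A ≤ 4 := by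
    intro A hA
    have h1 := hminus (A.map (Cfsg.pCore 2 G).subtype) (Subgroup.map_subtype_le A) (by
      obtain ⟨hA1, hA2⟩ := hA
      refine ⟨?_, ?_⟩
      · rw [isMulCommutative_iff]
        rintro ⟨_, a, ha, rfl⟩ ⟨_, b, hb, rfl⟩
        apply Subtype.ext
        have := congrArg Subtype.val (mul_comm' (⟨a, ha⟩ : A) ⟨b, hb⟩)
        simp only [Subgroup.coe_mul] at this
        show (Cfsg.pCore 2 G).subtype a * (Cfsg.pCore 2 G).subtype b =
          (Cfsg.pCore 2 G).subtype b * (Cfsg.pCore 2 G).subtype a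
        rw [← map_mul, ← map_mul, this]
      · rintro _ ⟨a, ha, rfl⟩
        rw [← map_pow, hA2 a ha, map_one])
    rwa [Subgroup.card_map_of_injective (Cfsg.pCore 2 G).subtype_injective] at h1
  have hinv := card_sq_one_of_minus hIn h32 hno8
  have hT2 : T * T = 1 := by rw [← pow_two, ← hT]; exact pow_orderOf_eq_one T
  have hsq : ∀ x ∈ Cfsg.pCore 2 G ⊓ Subgroup.centralizer ({T} : Set G), x ^ 2 = 1 := by
    intro x hx
    obtain ⟨hxH, hxT⟩ := Subgroup.mem_inf.mp hx
    rcases h.sq ⟨x, hxH⟩ with h1 | h1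
    · have := congrArg Subtype.val h1
      rw [pow_two]
      exact this
    · exfalso
      apply no_order4_centralized (Cfsg.pCore 2 G) h hno8 hinv h32 hC hG T hT2 hTH ⟨x, hxH⟩ h1
      have := Subgroup.mem_centralizer_singleton_iff.mp hxT
      show T * x * T⁻¹ = x
      rw [← this]; group
  have hCe : Cfsg.IsElementaryAbelian 2 (Cfsg.pCore 2 G ⊓ Subgroup.centralizer ({T} : Set G)) := by
    refine ⟨?_, hsq⟩
    rw [isMulCommutative_iff]
    rintro ⟨x, hx⟩ ⟨y, hy⟩
    apply Subtype.ext
    have ha : x * x = 1 := by rw [← pow_two]; exact hsq x hx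
    have hb : y * y = 1 := by rw [← pow_two]; exact hsq y hy
    have hba : y * x * (y * x) = 1 := by
      rw [← pow_two]; exact hsq _ (Subgroup.mul_mem _ hy hx)
    show x * y = y * x
    calc x * y = x⁻¹ * y⁻¹ := by
          rw [inv_eq_of_mul_eq_one_left ha, inv_eq_of_mul_eq_one_left hb]
      _ = (y * x)⁻¹ := by group
      _ = y * x := inv_eq_of_mul_eq_one_left hba
  refine ⟨?_, hCe⟩
  have h1 := hminus _ inf_le_left hCe
  have h2 := Subgroup.card_le_of_le hV
  omega


end Cfsg.Agent.S4405
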