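import Mathlib
import Cfsg.Statements.S4406
import Cfsg.Statements.S4406
-- import your own Cfsg.Agent.* helpers here

set_option autoImplicit false
open Cfsg

namespace Cfsg.Agent.S4406
open Cfsg

/-- the alternating group of degree four -/
abbrev A4 := ↥(alternatingGroup (Fin 4))
/-- the direct product -/
abbrev P := A4 × A4

instance instDecEqA4 : DecidableEq A4 := inferInstance

instance instDecEqP : DecidableEq P := inferInstance

set_option maxRecDepth 100000 in
theorem D6 : ∀ b : P, b ^ 6 = 1 := by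
  decide +kernel

/-- `x, y` span a four-group meeting both factors trivially -/
def good (x y : P) : Prop :=
  x ^ 2 = 1 ∧ y ^ 2 = 1 ∧ x.1 ≠ 1 ∧ x.2 ≠ 1 ∧ y.1 ≠ 1 ∧ y.2 ≠ 1 ∧ (x * y).1 ≠ 1 ∧ (x * y).2 ≠ 1

instance (x y : P) : Decidable (good x y) := by unfold good; infer_instance

/-- elements of order three -/
def goodc (c1 c2 : A4) : Prop := c1 ≠ 1 ∧ c2 ≠ 1 ∧ c1 ^ 3 = 1 ∧ c2 ^ 3 = 1

instance (c1 c2 : A4) : Decidable (goodc c1 c2) := by unfold goodc; infer_instance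

/-- `r` normalizes the four-group spanned by `x, y` -/
def normBy (r x y : P) : Prop :=
  (r * x * r⁻¹ = x ∨ r * x * r⁻¹ = y ∨ r * x * r⁻¹ = x * y) ∧
    (r * y * r⁻¹ = x ∨ r * y * r⁻¹ = y ∨ r * y * r⁻¹ = x * y)

instance (r x y : P) : Decidable (normBy r x y) := by unfold normBy; infer_instance

set_option maxRecDepth 100000 in
theorem D3 : ∀ x y : P, good x y → ∀ c1 c2 : A4, goodc c1 c2 →
    normBy (c1, c2) x y ∨ normBy (c1, c2 ^ 2) x y := by
  decide +kernel

theorem sq_eq_one_of_pow (b : P) (k : ℕ) (h : b ^ (2 ^ k) = 1) : b ^ 2 = 1 := by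
  have d1 := orderOf_dvd_of_pow_eq_one h
  have d2 := orderOf_dvd_of_pow_eq_one (D6 b)
  obtain ⟨j, _, hj⟩ := (Nat.dvd_prime_pow Nat.prime_two).1 d1
  rw [hj] at d2
  have hj1 : j ≤ 1 := by
    by_contra hcon
    rw [not_le] at hcon
    have h4 : 2 ^ 2 ∣ 2 ^ j := Nat.pow_dvd_pow 2 hcon
    have : 2 ^ 2 ∣ 6 := h4.trans d2
    revert this
    decide
  apply orderOf_dvd_iff_pow_eq_one.1
  rw [hj]
  exact Nat.pow_dvd_pow 2 hj1 |>.trans (by norm_num)

/-- a fixed element of order three -/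
def c0 : A4 := ⟨Equiv.swap 0 1 * Equiv.swap 1 2, by rw [Equiv.Perm.mem_alternatingGroup]; decide⟩

theorem exists_left (Q : Sylow 3 P) : ∃ c : A4, c ≠ 1 ∧ c ^ 3 = 1 ∧ ((c, 1) : P) ∈ (Q : Subgroup P) := by
  have h3 : Fact (Nat.Prime 3) := ⟨Nat.prime_three⟩
  set u : P := (c0, 1) with hu
  have hu3 : u ^ 3 = 1 := by decide
  have hu1 : u ≠ 1 := by decide
  have ho : orderOf u = 3 := orderOf_eq_prime hu3 hu1
  have hp : IsPGroup 3 (Subgroup.zpowers u) := by
    apply IsPGroup.of_card (n := 1)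
    rw [Nat.card_zpowers, ho, pow_one]
  obtain ⟨Q', hQ'⟩ := hp.exists_le_sylow
  obtain ⟨g, hg⟩ := MulAction.exists_smul_eq P Q' Q
  have hmem : g * u * g⁻¹ ∈ (Q : Subgroup P) := by
    rw [← hg, Sylow.coe_subgroup_smul]
    exact Subgroup.smul_mem_pointwise_smul _ _ _ (hQ' (Subgroup.mem_zpowers u))
  refine ⟨g.1 * c0 * g.1⁻¹, ?_, ?_, ?_⟩
  · intro h
    have : c0 = 1 := by
      have h1 := congrArg (fun z => g.1⁻¹ * z * g.1) h
      simp only [mul_one, inv_mul_cancel] at h1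
      rw [← h1]
      group
    revert this
    decide
  · rw [conj_pow]
    have : c0 ^ 3 = 1 := by decide
    rw [this, mul_one, mul_inv_cancel]
  · have : g * u * g⁻¹ = (g.1 * c0 * g.1⁻¹, 1) := by
      rw [hu]
      ext <;> simp
    rw [← this]
    exact hmem

theorem exists_right (Q : Sylow 3 P) : ∃ c : A4, c ≠ 1 ∧ c ^ 3 = 1 ∧ ((1, c) : P) ∈ (Q : Subgroup P) := by
  have h3 : Fact (Nat.Prime 3) := ⟨Nat.prime_three⟩
  set u : P := (1, c0) with hu
  have hu3 : u ^ 3 = 1 := by decide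
  have hu1 : u ≠ 1 := by decide
  have ho : orderOf u = 3 := orderOf_eq_prime hu3 hu1
  have hp : IsPGroup 3 (Subgroup.zpowers u) := by
    apply IsPGroup.of_card (n := 1)
    rw [Nat.card_zpowers, ho, pow_one]
  obtain ⟨Q', hQ'⟩ := hp.exists_le_sylow
  obtain ⟨g, hg⟩ := MulAction.exists_smul_eq P Q' Q
  have hmem : g * u * g⁻¹ ∈ (Q : Subgroup P) := by
    rw [← hg, Sylow.coe_subgroup_smul]
    exact Subgroup.smul_mem_pointwise_smul _ _ _ (hQ' (Subgroup.mem_zpowers u))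
  refine ⟨g.2 * c0 * g.2⁻¹, ?_, ?_, ?_⟩
  · intro h
    have : c0 = 1 := by
      have h1 := congrArg (fun z => g.2⁻¹ * z * g.2) h
      simp only [mul_one, inv_mul_cancel] at h1
      rw [← h1]
      group
    revert this
    decide
  · rw [conj_pow]
    have : c0 ^ 3 = 1 := by decide
    rw [this, mul_one, mul_inv_cancel]
  · have : g * u * g⁻¹ = (1, g.2 * c0 * g.2⁻¹) := by
      rw [hu]
      ext <;> simp
    rw [← this]
    exact hmem

/-- if `r` of order three maps the generators `x, y` of `B = {1, x, y, xy}` into `B`, it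
normalizes `B` -/
theorem mem_normalizer_of (B : Subgroup P) (x y r : P)
    (hB : ∀ b ∈ B, b = 1 ∨ b = x ∨ b = y ∨ b = x * y) (hx : x ∈ B) (hy : y ∈ B)
    (hr3 : r ^ 3 = 1) (hn : normBy r x y) : r ∈ Subgroup.normalizer (B : Set P) := by
  have hxy : x * y ∈ B := B.mul_mem hx hy
  have hcx : r * x * r⁻¹ ∈ B := by
    rcases hn.1 with h | h | h <;> rw [h] <;> assumption
  have hcy : r * y * r⁻¹ ∈ B := by
    rcases hn.2 with h | h | h <;> rw [h] <;> assumption
  have hfw : ∀ b ∈ B, r * b * r⁻¹ ∈ B := by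
    intro b hb
    rcases hB b hb with rfl | rfl | rfl | rfl
    · simp
    · exact hcx
    · exact hcy
    · have : r * (x * y) * r⁻¹ = (r * x * r⁻¹) * (r * y * r⁻¹) := by group
      rw [this]
      exact B.mul_mem hcx hcy
  rw [Subgroup.mem_set_normalizer_iff]
  intro b
  constructor
  · exact hfw b
  · intro hb
    have h2 := hfw _ (hfw _ hb)
    have : r * (r * (r * b * r⁻¹) * r⁻¹) * r⁻¹ = r ^ 3 * b * (r ^ 3)⁻¹ := by
      simp only [pow_succ, pow_zero, one_mul, mul_inv_rev, mul_assoc]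
    rw [this, hr3] at h2
    simpa using h2

/-- In the direct product P = A₄ × A₄, let X be the Sylow 2-subgroup, X₁ and X₂ its intersections with the two direct factors, Q a Sylow 3-subgroup and Q₁, Q₂ its intersections with the two factors. Then every subgroup B of X of order 4 either meets X₁ or X₂ nontrivially, or is normalized by one of the two subgroups of Q of order 3 other than Q₁ and Q₂. -/
theorem result
    (X : Sylow 2 (↥(alternatingGroup (Fin 4)) × ↥(alternatingGroup (Fin 4))))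
    (Q : Sylow 3 (↥(alternatingGroup (Fin 4)) × ↥(alternatingGroup (Fin 4))))
    (B : Subgroup (↥(alternatingGroup (Fin 4)) × ↥(alternatingGroup (Fin 4)))) (hBX : B ≤ (X : Subgroup _)) (hB4 : Nat.card ↥B = 4) :
    B ⊓ ((X : Subgroup _) ⊓ Subgroup.prod ⊤ ⊥) ≠ ⊥ ∨ B ⊓ ((X : Subgroup _) ⊓ Subgroup.prod ⊥ ⊤) ≠ ⊥ ∨
      ∃ R : Subgroup (↥(alternatingGroup (Fin 4)) × ↥(alternatingGroup (Fin 4))), R ≤ (Q : Subgroup _) ∧ Nat.card ↥R = 3 ∧
        R ≠ (Q : Subgroup _) ⊓ Subgroup.prod ⊤ ⊥ ∧ R ≠ (Q : Subgroup _) ⊓ Subgroup.prod ⊥ ⊤ ∧ R ≤ Subgroup.normalizer (B : Set _) := by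
  have hsq : ∀ b ∈ B, b ^ 2 = 1 := by
    intro b hb
    obtain ⟨k, hk⟩ := X.isPGroup' ⟨b, hBX hb⟩
    have hk' : b ^ (2 ^ k) = 1 := by
      have := congrArg Subtype.val hk
      simpa using this
    exact sq_eq_one_of_pow b k hk'
  by_cases h1 : ∃ b ∈ B, b ≠ 1 ∧ b.2 = 1
  · left
    obtain ⟨b, hb, hb1, hb2⟩ := h1
    intro hbot
    have : b ∈ B ⊓ ((X : Subgroup P) ⊓ Subgroup.prod ⊤ ⊥) :=
      ⟨hb, hBX hb, Subgroup.mem_prod.2 ⟨trivial, hb2⟩⟩
    rw [hbot] at this
    exact hb1 (Subgroup.mem_bot.1 this)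
  by_cases h2 : ∃ b ∈ B, b ≠ 1 ∧ b.1 = 1
  · right; left
    obtain ⟨b, hb, hb1, hb2⟩ := h2
    intro hbot
    have : b ∈ B ⊓ ((X : Subgroup P) ⊓ Subgroup.prod ⊥ ⊤) :=
      ⟨hb, hBX hb, Subgroup.mem_prod.2 ⟨hb2, trivial⟩⟩
    rw [hbot] at this
    exact hb1 (Subgroup.mem_bot.1 this)
  right; right
  have h1' : ∀ b ∈ B, b ≠ 1 → b.2 ≠ 1 := fun b hb hb1 hb2 => h1 ⟨b, hb, hb1, hb2⟩
  have h2' : ∀ b ∈ B, b ≠ 1 → b.1 ≠ 1 := fun b hb hb1 hb2 => h2 ⟨b, hb, hb1, hb2⟩
  have hBn : (B : Set P).ncard = 4 := (Nat.card_coe_set_eq _).symm.trans hB4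
  have hBfin : (B : Set P).Finite := Set.toFinite _
  obtain ⟨x, hxB, hx1⟩ := Set.exists_mem_notMem_of_ncard_lt_ncard (s := {1}) (t := (B : Set P))
    (by rw [Set.ncard_singleton, hBn]; norm_num) (Set.finite_singleton _)
  obtain ⟨y, hyB, hy⟩ := Set.exists_mem_notMem_of_ncard_lt_ncard (s := {1, x}) (t := (B : Set P))
    (by
      have := Set.ncard_insert_le (1 : P) {x}
      rw [Set.ncard_singleton] at this
      rw [hBn]; omega) (Set.toFinite _)
  rw [Set.mem_singleton_iff] at hx1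
  simp only [Set.mem_insert_iff, Set.mem_singleton_iff, not_or] at hy
  obtain ⟨hy1, hyx⟩ := hy
  have hxB' : x ∈ B := hxB
  have hyB' : y ∈ B := hyB
  have hxyB : x * y ∈ B := B.mul_mem hxB' hyB'
  have hx2 : x * x = 1 := by rw [← pow_two]; exact hsq x hxB'
  have hy2 : y * y = 1 := by rw [← pow_two]; exact hsq y hyB'
  have hxy1 : x * y ≠ 1 := by
    intro h
    apply hyx
    calc y = (x * x) * y := by rw [hx2, one_mul]
      _ = x * (x * y) := mul_assoc _ _ _
      _ = x := by rw [h, mul_one]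
  have hcard : ({1, x, y, x * y} : Finset P).card = 4 := by
    rw [Finset.card_insert_of_notMem, Finset.card_insert_of_notMem, Finset.card_insert_of_notMem,
      Finset.card_singleton]
    · simp only [Finset.mem_singleton]
      intro h
      apply hx1
      calc x = x * (y * y) := by rw [hy2, mul_one]
        _ = (x * y) * y := (mul_assoc _ _ _).symm
        _ = y * y := by rw [← h]
        _ = 1 := hy2
    · simp only [Finset.mem_insert, Finset.mem_singleton, not_or]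
      refine ⟨fun h => hyx h.symm, fun h => ?_⟩
      apply hy1
      calc y = (x * x) * y := by rw [hx2, one_mul]
        _ = x * (x * y) := mul_assoc _ _ _
        _ = x * x := by rw [← h]
        _ = 1 := hx2
    · simp only [Finset.mem_insert, Finset.mem_singleton, not_or]
      exact ⟨fun h => hx1 h.symm, fun h => hy1 h.symm, fun h => hxy1 h.symm⟩
  have hsub : ((({1, x, y, x * y} : Finset P) : Set P)) ⊆ (B : Set P) := by
    intro z hz
    simp only [Finset.coe_insert, Finset.coe_singleton, Set.mem_insert_iff,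
      Set.mem_singleton_iff] at hz
    rcases hz with rfl | rfl | rfl | rfl
    · exact B.one_mem
    · exact hxB
    · exact hyB
    · exact hxyB
  have hBeq := Set.eq_of_subset_of_ncard_le hsub
    (by rw [hBn, Set.ncard_coe_finset, hcard]) hBfin
  have hBall : ∀ b ∈ B, b = 1 ∨ b = x ∨ b = y ∨ b = x * y := by
    intro b hb
    have : b ∈ (B : Set P) := hb
    rw [← hBeq] at this
    simpa using this
  have hgood : good x y :=
    ⟨hsq x hxB', hsq y hyB', h2' x hxB' hx1, h1' x hxB' hx1, h2' y hyB' hy1, h1' y hyB' hy1,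
      h2' _ hxyB hxy1, h1' _ hxyB hxy1⟩
  obtain ⟨c1, hc1, hc13, hc1Q⟩ := exists_left Q
  obtain ⟨c2, hc2, hc23, hc2Q⟩ := exists_right Q
  have key : ∃ r : P, r ∈ (Q : Subgroup P) ∧ r ^ 3 = 1 ∧ r.1 ≠ 1 ∧ r.2 ≠ 1 ∧ normBy r x y := by
    rcases D3 x y hgood c1 c2 ⟨hc1, hc2, hc13, hc23⟩ with h | h
    · refine ⟨(c1, c2), ?_, ?_, hc1, hc2, h⟩
      · have : ((c1, c2) : P) = (c1, 1) * (1, c2) := by ext <;> simp
        rw [this]
        exact Subgroup.mul_mem _ hc1Q hc2Q
      · ext <;> simp [hc13, hc23]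
    · refine ⟨(c1, c2 ^ 2), ?_, ?_, hc1, ?_, h⟩
      · have : ((c1, c2 ^ 2) : P) = (c1, 1) * (1, c2) ^ 2 := by ext <;> simp
        rw [this]
        exact Subgroup.mul_mem _ hc1Q (Subgroup.pow_mem _ hc2Q 2)
      · ext
        · simp [hc13]
        · simp only [Prod.pow_snd, Prod.snd_one]
          rw [← pow_mul, show 2 * 3 = 3 * 2 by norm_num, pow_mul, hc23, one_pow]
      · intro h2c
        apply hc2
        have h2c' : c2 ^ 2 = 1 := h2c
        calc c2 = c2 ^ 3 * (c2 ^ 2)⁻¹ := by group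
          _ = 1 := by rw [hc23, h2c', inv_one, mul_one]
  obtain ⟨r, hrQ, hr3, hr1, hr2, hn⟩ := key
  have hrne : r ≠ 1 := by
    intro h
    apply hr1
    rw [h]
    rfl
  have h3 : Fact (Nat.Prime 3) := ⟨Nat.prime_three⟩
  refine ⟨Subgroup.zpowers r, ?_, ?_, ?_, ?_, ?_⟩
  · rw [Subgroup.zpowers_le]
    exact hrQ
  · rw [Nat.card_zpowers]
    exact orderOf_eq_prime hr3 hrne
  · intro h
    have : r ∈ (Q : Subgroup P) ⊓ Subgroup.prod ⊤ ⊥ := by
      rw [← h]
      exact Subgroup.mem_zpowers r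
    exact hr2 (Subgroup.mem_prod.1 this.2).2
  · intro h
    have : r ∈ (Q : Subgroup P) ⊓ Subgroup.prod ⊥ ⊤ := by
      rw [← h]
      exact Subgroup.mem_zpowers r
    exact hr1 (Subgroup.mem_prod.1 this.2).1
  · rw [Subgroup.zpowers_le]
    exact mem_normalizer_of B x y r hBall hxB' hyB' hr3 hn


end Cfsg.Agent.S4406
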