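import Mathlib
import Cfsg.Statements.S4413
import Cfsg.Agent.Helper3.AutExD
-- import your own Cfsg.Agent.* helpers here

set_option autoImplicit false
open Cfsg

namespace Cfsg.Agent.S4413

open Cfsg.Agent.Helper3.AutEx Cfsg.Agent.Helper3.Extra

/-- Let P be an extraspecial 2-group of order 32 with no elementary abelian subgroup of order 8 (the central product of a dihedral and a quaternion group of order 8). Then the inner automorphism group of P has order 16 and the outer automorphism group Aut(P)/Inn(P) is isomorphic to the symmetric group of degree 5; in particular Aut(P) has order 1920. -/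
theorem result {P : Type*} [Group P] [Finite P]
    (hex : Cfsg.IsExtraspecial 2 P) (h32 : Nat.card P = 32)
    (hminus : ∀ A : Subgroup P, Cfsg.IsElementaryAbelian 2 A → Nat.card ↥A ≤ 4)
    [(MulAut.conj : P →* MulAut P).range.Normal] :
    Nat.card ↥(MulAut.conj : P →* MulAut P).range = 16 ∧ Nat.card (MulAut P) = 1920 ∧
      Nonempty ((MulAut P ⧸ (MulAut.conj : P →* MulAut P).range) ≃* Equiv.Perm (Fin 5)) := by
  have : Fact (Nat.Prime 2) := ⟨Nat.prime_two⟩
  have hIn := inClass_of_isExtraspecial hex
  obtain ⟨z, h⟩ := exists_e2 hIn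
  have hpow : ∀ m : ℕ, 2 ^ (2 * m + 1) = 32 → m = 2 := by
    intro m hm
    have : 2 ^ (2 * m + 1) = 2 ^ 5 := by rw [hm]; norm_num
    have := Nat.pow_right_injective (le_refl 2) this
    omega
  have hinv : Nat.card {e : P // e ^ 2 = 1} = 12 := by
    rcases plus_or_minus 32 P hIn h32 with hp | hm
    · exfalso
      obtain ⟨m, hm1, _, A, hA, hAc⟩ := hIn.rank_plus hp
      rw [h32] at hm1
      have hm2 := hpow m hm1.symm
      subst hm2
      have := hminus A hA
      rw [hAc] at this
      norm_num at this
    · obtain ⟨m, _, hm1, hm2⟩ := hm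
      rw [h32] at hm1
      have hm3 := hpow m hm1.symm
      subst hm3
      unfold inv2 at hm2
      norm_num at hm2
      omega
  have hinn : Nat.card ↥(MulAut.conj : P →* MulAut P).range = 16 := by
    have := card_inn hIn.card_center
    omega
  have hker : h.permHom.ker = (MulAut.conj : P →* MulAut P).range :=
    le_antisymm (h.ker_le_range_conj hminus hinv h32) h.range_conj_le_ker
  have hsurj := h.permHom_surjective hminus
  have e1 : MulAut P ⧸ (MulAut.conj : P →* MulAut P).range ≃* Equiv.Perm (XX z) :=
    (QuotientGroup.quotientMulEquivOfEq hker.symm).trans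
      (QuotientGroup.quotientKerEquivOfSurjective _ hsurj)
  have hX : Nat.card (XX z) = 5 := h.card_XX hinv
  have : Fintype (XX z) := Fintype.ofFinite _
  rw [Nat.card_eq_fintype_card] at hX
  have e3 : Equiv.Perm (XX z) ≃* Equiv.Perm (Fin 5) :=
    Equiv.permCongrHom (Fintype.equivFinOfCardEq hX)
  refine ⟨hinn, ?_, ⟨e1.trans e3⟩⟩
  have hq : Nat.card (MulAut P ⧸ (MulAut.conj : P →* MulAut P).range) = 120 := by
    rw [Nat.card_congr (e1.trans e3).toEquiv, Nat.card_eq_fintype_card, Fintype.card_perm,
      Fintype.card_fin]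
    rfl
  rw [Subgroup.card_eq_card_quotient_mul_card_subgroup (MulAut.conj : P →* MulAut P).range, hq,
    hinn]


end Cfsg.Agent.S4413
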