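import Cfsg.Statements.S4415
import Cfsg.Agent.Helper9.HH3.Ind
import Cfsg.Agent.Helper9.HH3.Final1
import Cfsg.Agent.Helper1.HH3C
import Cfsg.Agent.Lead.HH3A
import Cfsg.Agent.Lead.HH3F
import Cfsg.Agent.Helper7.HH3F

set_option autoImplicit false
open Cfsg

namespace Cfsg.Agent.S4415

open Cfsg.Agent.Helper9.HH3

/-- Let S be a finite solvable group acting faithfully on a finite-dimensional space E over the field with three elements, with O₃(S) = 1. Let B ≤ S have order 3 and suppose: E = E₀ ⊕ E₁ with B fixing E₁ pointwise, E₀ B-invariant of order 27 and indecomposable under B (a generator of B has a single Jordan block on E₀); B normalizes but does not centralize some subgroup Q of S that is elementary abelian of order 4; and B is the centre of a Sylow 3-subgroup of S. Put R = [O_{3'}(S), B]. Then R is elementary abelian of order 4 or extraspecial of order 32 containing an elementary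 abelian subgroup of order 8 (a central product of two quaternion groups), and E is the direct sum of a subspace fixed pointwise by R and an RB-invariant subspace on which the subgroup RB acts faithfully and irreducibly. -/
theorem result {S : Type*} [Group S] [Finite S]
    [Group.IsSolvable S] {E : Type*} [AddCommGroup E] [Module (ZMod 3) E] [Finite E] (ρ : Representation (ZMod 3) S E)
    (hfaith : Function.Injective ρ) (hO3 : Cfsg.pCore 3 S = ⊥)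
    (B : Subgroup S) (hB : Nat.card ↥B = 3) (b : S) (hb : Subgroup.zpowers b = B)
    (E₀ E₁ : Submodule (ZMod 3) E) (hE01 : E₀ ⊓ E₁ = ⊥) (hE01' : E₀ ⊔ E₁ = ⊤)
    (hE1 : ∀ v ∈ E₁, ρ b v = v) (hE0inv : ∀ v ∈ E₀, ρ b v ∈ E₀) (hE0 : Nat.card ↥E₀ = 27)
    (hind : ∃ v ∈ E₀, ρ b (ρ b v - v) - (ρ b v - v) ≠ 0)
    (Q : Subgroup S) (hQ : Cfsg.IsElementaryAbelian 2 Q) (hQ4 : Nat.card ↥Q = 4)
    (hBQ : B ≤ Subgroup.normalizer (Q : Set S)) (hBQ' : ¬ B ≤ Subgroup.centralizer (Q : Set S))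
    (P : Sylow 3 S) (hBZ : (Subgroup.center ↥(P : Subgroup S)).map (P : Subgroup S).subtype = B) :
    ((Cfsg.IsElementaryAbelian 2 ⁅Cfsg.pPrimeCore 3 S, B⁆ ∧ Nat.card ↥⁅Cfsg.pPrimeCore 3 S, B⁆ = 4) ∨
      (Cfsg.IsExtraspecial 2 ↥⁅Cfsg.pPrimeCore 3 S, B⁆ ∧ Nat.card ↥⁅Cfsg.pPrimeCore 3 S, B⁆ = 32 ∧
        ∃ A : Subgroup S, A ≤ ⁅Cfsg.pPrimeCore 3 S, B⁆ ∧ Cfsg.IsElementaryAbelian 2 A ∧ Nat.card ↥A = 8)) ∧
    ∃ F₀ F₁ : Submodule (ZMod 3) E, F₀ ⊓ F₁ = ⊥ ∧ F₀ ⊔ F₁ = ⊤ ∧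
      (∀ r ∈ ⁅Cfsg.pPrimeCore 3 S, B⁆, ∀ v ∈ F₁, ρ r v = v) ∧ (∀ r ∈ ⁅Cfsg.pPrimeCore 3 S, B⁆ ⊔ B, ∀ v ∈ F₀, ρ r v ∈ F₀) ∧
      (∀ r ∈ ⁅Cfsg.pPrimeCore 3 S, B⁆ ⊔ B, (∀ v ∈ F₀, ρ r v = v) → r = 1) ∧
      (∀ N : Submodule (ZMod 3) E, N ≤ F₀ → (∀ r ∈ ⁅Cfsg.pPrimeCore 3 S, B⁆ ⊔ B, ∀ v ∈ N, ρ r v ∈ N) → N = ⊥ ∨ N = F₀) := by
  subst hb
  have _ := hO3
  have _ := hE01
  have hord : orderOf b = 3 := by rw [← Nat.card_zpowers]; exact hB
  have hb3 : b ^ 3 = 1 := by rw [← hord]; exact pow_orderOf_eq_one b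
  obtain ⟨v₀, hc⟩ := Cfsg.Agent.Helper1.HH3.cub_of_block ρ hfaith b hb3 E₀ E₁ hE01' hE1 hE0inv
    hE0 hind
  obtain ⟨z₁, z₂, z₃, hf, hQmem, hQB⟩ :=
    Cfsg.Agent.Helper1.HH3.fourCfg_of_four b hb3 Q hQ hQ4 hBQ hBQ'
  have : Fact (Nat.Prime 2) := ⟨Nat.prime_two⟩
  have hQ2 : IsPGroup 2 ↥Q := IsPGroup.of_card (n := 2) (by rw [hQ4]; norm_num)
  have hQN : Q ≤ Cfsg.pPrimeCore 3 S :=
    Cfsg.Agent.Lead.HH3.four_le_pPrimeCore (Subgroup.zpowers b) hB Q hQ2 hBQ hQB P hBZ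
  have hz1Q : z₁ ∈ Q := (hQmem z₁).2 (Or.inr (Or.inl rfl))
  have hz2Q : z₂ ∈ Q := (hQmem z₂).2 (Or.inr (Or.inr (Or.inl rfl)))
  have hNcop : (Nat.card ↥(Cfsg.pPrimeCore 3 S)).Coprime 3 :=
    Cfsg.Agent.Helper1.card_pPrimeCore_coprime 3
  have hpair : ∀ q : ℕ, q.Prime → q ≠ 2 → ∀ T : Subgroup S, T ≤ Cfsg.pPrimeCore 3 S →
      IsPGroup q ↥T → Subgroup.zpowers b ≤ Subgroup.normalizer (T : Set S) →
      Subgroup.zpowers b ≤ Subgroup.centralizer (T : Set S) := by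
    intro q hq hq2 T hTN hT hnorm
    have hbT : ∀ t ∈ T, b * t * b⁻¹ ∈ T := by
      intro t ht
      exact (Subgroup.mem_normalizer_iff.1 (hnorm (Subgroup.mem_zpowers b)) t).1 ht
    have h1 := Cfsg.Agent.Helper7.HH3.pairs hc hf (Cfsg.pPrimeCore 3 S) hNcop (hQN hz1Q)
      (hQN hz2Q) q hq hq2 T hTN hT hbT
    rw [Subgroup.zpowers_le, Subgroup.mem_centralizer_iff]
    intro t ht
    have h2 := h1 t ht
    calc t * b = (b * t * b⁻¹) * b := by rw [h2]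
      _ = b * t := by group
  have hR2 : IsPGroup 2 ↥⁅Cfsg.pPrimeCore 3 S, Subgroup.zpowers b⁆ :=
    Cfsg.Agent.Lead.HH3.isPGroup_two_commutator _ _ hNcop hB hpair
  set R : Subgroup S := ⁅Cfsg.pPrimeCore 3 S, Subgroup.zpowers b⁆ with hR
  have hBN : Subgroup.zpowers b ≤ Subgroup.normalizer ((Cfsg.pPrimeCore 3 S : Subgroup S) : Set S) := by
    rw [Subgroup.normalizer_eq_top]
    exact le_top
  have hcop : (Nat.card ↥(Subgroup.zpowers b)).Coprime (Nat.card ↥(Cfsg.pPrimeCore 3 S)) := by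
    rw [hB]
    exact hNcop.symm
  have hBact : BAct b R := by
    refine ⟨hb3, ?_, ?_⟩
    · intro r hr
      have h1 : Subgroup.zpowers b ≤ Subgroup.normalizer ((R : Subgroup S) : Set S) :=
        Subgroup.normalizer_commutator_ge_right _ _
      exact (Subgroup.mem_normalizer_iff.1 (h1 (Subgroup.mem_zpowers b)) r).1 hr
    · exact Cfsg.Agent.Helper1.coprime_commutator_commutator (Subgroup.zpowers b)
        (Cfsg.pPrimeCore 3 S) hBN hcop (Or.inr inferInstance)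
  have hQR : Q ≤ R := by
    rw [← hQB]
    exact Subgroup.commutator_mono hQN le_rfl
  have hz1R : z₁ ∈ R := hQR hz1Q
  have hz2R : z₂ ∈ R := hQR hz2Q
  have hgood := good_of_bAct hc _ R rfl hR2 hBact
  obtain ⟨d1, d2, d3, d4, d5⟩ := Cfsg.Agent.Lead.HH3.decomposition hc hf hBact hR2 hz1R hz2R
  refine ⟨?_, commE ρ R, fixE ρ R, d1, d2, fun r hr v hv => hv r hr, d3, d4, d5⟩
  rcases hgood with hbot | ⟨h4, hexp⟩ | ⟨c, hcR, hc1, hc2, hcb, hcc, hcu, hsq, hcm, h8 | h32⟩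
  · exfalso
    rw [hbot, Subgroup.mem_bot] at hz1R
    exact hf.ne hz1R
  · left
    refine ⟨⟨?_, ?_⟩, h4⟩
    · rw [isMulCommutative_iff]
      intro x y
      apply Subtype.ext
      show x.1 * y.1 = y.1 * x.1
      have hx := hexp x.1 x.2
      have hy := hexp y.1 y.2
      have hxy := hexp (x.1 * y.1) (R.mul_mem x.2 y.2)
      have hxi : x.1⁻¹ = x.1 := inv_eq_of_mul_eq_one_right hx
      have hyi : y.1⁻¹ = y.1 := inv_eq_of_mul_eq_one_right hy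
      calc x.1 * y.1 = (x.1 * y.1)⁻¹ := eq_inv_of_mul_eq_one_left hxy
        _ = y.1⁻¹ * x.1⁻¹ := mul_inv_rev _ _
        _ = y.1 * x.1 := by rw [hxi, hyi]
    · intro a ha
      rw [pow_two]
      exact hexp a ha
  · exfalso
    have hcen : CenInv b R c := ⟨hcR, hc1, hc2, hcb, hcc, hcu⟩
    obtain ⟨h8c, x, hxR, hxne⟩ := h8
    exact hxne (not_card_eight hcen hf hQR hQ hQmem hQ4 h8c hxR (hBact.inv x hxR))
  · right
    have hcen : CenInv b R c := ⟨hcR, hc1, hc2, hcb, hcc, hcu⟩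
    exact ⟨extraspecial_of_good hcen hsq hcm h32.1, h32.1,
      exists_elemAb_eight hcen hf hQR hQ hQmem hQ4⟩

end Cfsg.Agent.S4415
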