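import Mathlib
import Cfsg.Statements.S4416
import Cfsg.Agent.Helper3.ExtraRank
import Cfsg.Statements.S4416
-- import your own Cfsg.Agent.* helpers here

set_option autoImplicit false
open Cfsg

namespace Cfsg.Agent.S4416
open Cfsg
universe u v
open Cfsg.Agent.Helper3.Extra

theorem two_lt_card {E : Type u} [Group E] [Finite E] (hE : Cfsg.IsExtraspecial 2 E) :
    2 < Nat.card E := by
  have : Fact (Nat.Prime 2) := ⟨Nat.prime_two⟩
  have hC := inClass_of_isExtraspecial hE
  rcases (hC.two_le_card).eq_or_lt with h2 | h2
  · exfalso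
    have htop : Subgroup.center E = ⊤ :=
      Subgroup.eq_top_of_card_eq _ (by rw [hC.card_center, h2])
    have hbot := (commutator_eq_bot_iff_center_eq_top E).2 htop
    have h3 := hE.1.2.2
    rw [hbot, htop] at h3
    have h4 : Nat.card (⊥ : Subgroup E) = Nat.card (⊤ : Subgroup E) := by rw [h3]
    rw [Subgroup.card_bot, Subgroup.card_top] at h4
    omega
  · exact h2

/-- Classification of extraspecial 2-groups in intrinsic form. An extraspecial 2-group has order 2^(2m+1) for some m ≥ 1, and the number of its elements squaring to the identity is either 2^(2m) + 2^m or 2^(2m) − 2^m; two extraspecial 2-groups of the same order with the same number of such elements are isomorphic. (The two cases are the central products of m dihedral groups of order 8, and of m − 1 dihedral groups with one quaternion group.) -/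
theorem result (E : Type*) [Group E] [Finite E] (hE : Cfsg.IsExtraspecial 2 E) :
    (∃ m : ℕ, 1 ≤ m ∧ Nat.card E = 2 ^ (2 * m + 1) ∧
      (Nat.card {x : E // x ^ 2 = 1} = 2 ^ (2 * m) + 2 ^ m ∨ Nat.card {x : E // x ^ 2 = 1} = 2 ^ (2 * m) - 2 ^ m)) ∧
    ∀ (E' : Type*) [Group E'] [Finite E'], Cfsg.IsExtraspecial 2 E' → Nat.card E' = Nat.card E →
      Nat.card {x : E' // x ^ 2 = 1} = Nat.card {x : E // x ^ 2 = 1} → Nonempty (E ≃* E') := by
  have : Fact (Nat.Prime 2) := ⟨Nat.prime_two⟩
  have hC := inClass_of_isExtraspecial hE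
  have h2 := two_lt_card hE
  constructor
  · rcases plus_or_minus _ E hC rfl with ⟨m, hm1, hm2⟩ | ⟨m, hm0, hm1, hm2⟩
    · refine ⟨m, ?_, hm1, Or.inl hm2⟩
      by_contra hm
      have : m = 0 := by omega
      subst this
      rw [hm1] at h2
      norm_num at h2
    · refine ⟨m, hm0, hm1, Or.inr ?_⟩
      have : inv2 E = 2 ^ (2 * m) - 2 ^ m := by omega
      exact this
  · intro E' _ _ hE' hcard hinv
    have hC' := inClass_of_isExtraspecial hE'
    exact unique_of_card_inv2 _ E E' hC hC' rfl hcard hinv.symm


end Cfsg.Agent.S4416
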