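import Mathlib
import Cfsg.Statements.S4417
import Cfsg.Agent.Helper3.PGroupLinH
-- import your own Cfsg.Agent.* helpers here

set_option autoImplicit false
open Cfsg

namespace Cfsg.Agent.S4417

open Cfsg.Agent.Helper3.PGroupLin in
theorem gl_bound {F : Type*} [Field F] [Fintype F] (p : ℕ) [Fact p.Prime]
    (hpq : ¬ p ∣ Fintype.card F) (n : ℕ) (P : Subgroup (GL (Fin n) F)) (hP : IsPGroup p P) :
    derivedSeries ↥P (Nat.log p (n / orderOf ((Fintype.card F : ℕ) : ZMod p)) + 1) = ⊥ := by
  classical
  let ρ : Representation F P (Fin n → F) :=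
    { toFun := fun g => Matrix.toLin' ((g : GL (Fin n) F) : Matrix (Fin n) (Fin n) F)
      map_one' := by
        show Matrix.toLin' (((1 : P) : GL (Fin n) F) : Matrix (Fin n) (Fin n) F) = 1
        rw [Subgroup.coe_one, Units.val_one, Matrix.toLin'_one]
        rfl
      map_mul' := by
        intro x y
        show Matrix.toLin' (((x * y : P) : GL (Fin n) F) : Matrix (Fin n) (Fin n) F) = _
        rw [Subgroup.coe_mul, Units.val_mul, Matrix.toLin'_mul]
        rfl }
  have hρ : ∀ g : P, ρ g = Matrix.toLin' ((g : GL (Fin n) F) : Matrix (Fin n) (Fin n) F) :=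
    fun _ => rfl
  rw [eq_bot_iff]
  intro g hg
  have h1 := derivedSeries_le_ker_finite F p hpq _ rfl n (Fin n → F) P hP ρ
    (Module.finrank_fin_fun F) g hg
  rw [Subgroup.mem_bot]
  rw [hρ] at h1
  have h2 : Matrix.toLin' ((g : GL (Fin n) F) : Matrix (Fin n) (Fin n) F) =
      Matrix.toLin' (1 : Matrix (Fin n) (Fin n) F) := by
    rw [Matrix.toLin'_one]; exact h1
  have h3 := Matrix.toLin'.injective h2
  apply Subtype.ext
  apply Units.ext
  rw [h3]
  rfl

/-- Let F be a field with q elements, p a prime not dividing q, and e the multiplicative order of q modulo p; assume e ≤ n. Then every p-subgroup of GL_n(F) has derived length at most ⌊log₂(n/e)⌋ + 1: that term of its derived series is trivial (n/e is the integer quotient). -/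
theorem result {F : Type*} [Field F] [Fintype F] (q : ℕ) (hF : Fintype.card F = q) (p : ℕ) [Fact p.Prime] (hpq : ¬ p ∣ q) (n e : ℕ) (he : e = orderOf (q : ZMod p)) (hen : e ≤ n) (P : Subgroup (GL (Fin n) F)) (hP : IsPGroup p P) : derivedSeries ↥P (Nat.log 2 (n / e) + 1) = ⊥ := by
  subst hF
  subst he
  have h1 := gl_bound p hpq n P hP
  rw [eq_bot_iff, ← h1]
  apply derivedSeries_antitone
  apply Nat.succ_le_succ
  exact Nat.log_anti_left (by norm_num) (Fact.out : p.Prime).two_le


end Cfsg.Agent.S4417
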