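import Cfsg.Statements.S4419
import Cfsg.Agent.Helper1.FrobPCompl
import Cfsg.Agent.Helper1.Fitting
import Cfsg.Agent.Helper4.PCore
import Cfsg.Agent.Helper4.MetacyclicB

set_option autoImplicit false
open Cfsg

namespace Cfsg.Agent.S4419


open Cfsg.Agent.Helper1 Cfsg.Agent.Helper4

universe u

/-- A `p'`-element of `O_{p',p}(G)` normalizing a `p`-subgroup centralizes it. -/
theorem mem_centralizer_of_mem_pPrimePCore {G : Type u} [Group G] [Finite G] (p : ℕ)
    [hp : Fact p.Prime] (Q : Subgroup G) (hQ : IsPGroup p Q) (g : G)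
    (hg : g ∈ Subgroup.normalizer (Q : Set G)) (hgo : (orderOf g).Coprime p)
    (hgK : g ∈ Cfsg.pPrimePCore p G) : g ∈ Subgroup.centralizer (Q : Set G) := by
  obtain ⟨L, hL⟩ : ∃ L : Subgroup G, L = Cfsg.pPrimeCore p G := ⟨_, rfl⟩
  have hLn : L.Normal := by rw [hL]; infer_instance
  have hLc : (Nat.card L).Coprime p := by rw [hL]; exact card_pPrimeCore_coprime p
  have hgL : g ∈ L := by
    rw [hL]
    unfold Cfsg.pPrimePCore at hgK
    rw [Subgroup.mem_comap] at hgK
    have hpc : IsPGroup p (Cfsg.pCore p (G ⧸ Cfsg.pPrimeCore p G)) := pCore_isPGroup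
    obtain ⟨k, hk⟩ := hpc ⟨_, hgK⟩
    have hk' : (QuotientGroup.mk' (Cfsg.pPrimeCore p G) g) ^ (p ^ k) = 1 := by
      have := congrArg Subtype.val hk
      simpa using this
    have h1 : orderOf (QuotientGroup.mk' (Cfsg.pPrimeCore p G) g) ∣ p ^ k :=
      orderOf_dvd_of_pow_eq_one hk'
    have h2 : orderOf (QuotientGroup.mk' (Cfsg.pPrimeCore p G) g) ∣ orderOf g :=
      orderOf_map_dvd _ g
    have h3 : orderOf (QuotientGroup.mk' (Cfsg.pPrimeCore p G) g) = 1 :=
      Nat.eq_one_of_dvd_coprimes (hgo.pow_right k) h2 h1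
    rw [orderOf_eq_one_iff] at h3
    exact (QuotientGroup.eq_one_iff g).1 h3
  obtain ⟨n, hn⟩ := IsPGroup.iff_card.1 hQ
  have hdisj : Q ⊓ L = ⊥ := by
    apply inf_eq_bot_of_coprime_card
    rw [hn]
    exact (Nat.Coprime.pow_right n hLc).symm
  rw [Subgroup.mem_centralizer_iff]
  intro x hx
  have h1 : g * x * g⁻¹ * x⁻¹ ∈ Q ⊓ L := by
    refine ⟨Q.mul_mem ((Subgroup.mem_normalizer_iff.1 hg x).1 hx) (Q.inv_mem hx), ?_⟩
    have h2 : x * g⁻¹ * x⁻¹ ∈ L := hLn.conj_mem _ (L.inv_mem hgL) x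
    have h3 : g * x * g⁻¹ * x⁻¹ = g * (x * g⁻¹ * x⁻¹) := by group
    rw [h3]
    exact L.mul_mem hgL h2
  rw [hdisj, Subgroup.mem_bot] at h1
  have h4 : g * x = x * g := by
    have := congrArg (· * (x * g)) h1
    simpa [mul_assoc] using this
  exact h4.symm

/-- With a normal `p`-complement, `O_{p',p}(G) = G`. -/
theorem pPrimePCore_eq_top_of_hasNormalPComplement {G : Type u} [Group G] [Finite G] (p : ℕ)
    [hp : Fact p.Prime] (h : Cfsg.HasNormalPComplement p G) : Cfsg.pPrimePCore p G = ⊤ := by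
  obtain ⟨P, N, hN, hc⟩ := h
  have h1 : Nat.card N = (P : Subgroup G).index := hc.index_eq_card.symm
  have hNc : (Nat.card N).Coprime p := by
    rw [h1, Nat.coprime_comm, Nat.Prime.coprime_iff_not_dvd hp.out]
    exact P.not_dvd_index
  have hNL : N ≤ Cfsg.pPrimeCore p G := le_pPrimeCore hN hNc
  have h2 : N.index = Nat.card (P : Subgroup G) := hc.symm.index_eq_card
  obtain ⟨n, hn⟩ := IsPGroup.iff_card.1 P.isPGroup'
  have h3 : (Cfsg.pPrimeCore p G).index ∣ p ^ n := by
    rw [← hn, ← h2]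
    exact Subgroup.index_dvd_of_le hNL
  obtain ⟨k, -, hk⟩ := (Nat.dvd_prime_pow hp.out).1 h3
  have hpg : IsPGroup p (G ⧸ Cfsg.pPrimeCore p G) := by
    apply IsPGroup.of_card (n := k)
    rw [← Subgroup.index_eq_card, hk]
  have htop : Cfsg.pCore p (G ⧸ Cfsg.pPrimeCore p G) = ⊤ := by
    rw [eq_top_iff]
    exact le_pCore ⊤ inferInstance (hpg.to_subgroup ⊤)
  unfold Cfsg.pPrimePCore
  rw [htop, Subgroup.comap_top]

/-- Every `p`-subgroup of a group with metacyclic Sylow `p`-subgroup has Frattini quotient of order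
dividing `p ^ 2`. -/
theorem frattini_index_dvd_of_metacyclic_sylow {G : Type u} [Group G] [Finite G] (p : ℕ)
    [hp : Fact p.Prime] (S : Sylow p G) (hS : Cfsg.IsMetacyclic ↥(S : Subgroup G))
    (Q : Subgroup G) (hQ : IsPGroup p Q) : (frattini Q).index ∣ p ^ 2 := by
  obtain ⟨P, hQP⟩ := hQ.exists_le_sylow
  obtain ⟨g, hg⟩ := MulAction.exists_smul_eq G S P
  subst hg
  let f : ↥Q →* ↥(S : Subgroup G) :=
    ((Sylow.equivSMul S g).symm.toMonoidHom).comp (Subgroup.inclusion hQP)
  have hf : Function.Injective f := by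
    intro x y hxy
    have h1 : Subgroup.inclusion hQP x = Subgroup.inclusion hQP y :=
      (Sylow.equivSMul S g).symm.injective hxy
    exact Subgroup.inclusion_injective hQP h1
  exact metacyclic_frattini_index_dvd hQ (isMetacyclic_of_injective f hf hS)

/-- The Frobenius condition for `r`-elements. -/
theorem mem_centralizer_of_prime_pow_order {G : Type u} [Group G] [Finite G] (p : ℕ)
    [hp : Fact p.Prime] (S : Sylow p G) (hS : Cfsg.IsMetacyclic ↥(S : Subgroup G))
    (hcop : Nat.Coprime (Nat.card (G ⧸ Cfsg.pPrimePCore p G)) (p ^ 2 - 1))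
    (Q : Subgroup G) (hQ : IsPGroup p Q) (g : G) (hg : g ∈ Subgroup.normalizer (Q : Set G))
    (r m : ℕ) (hr : r.Prime) (hrp : r ≠ p) (hgo : orderOf g = r ^ m) :
    g ∈ Subgroup.centralizer (Q : Set G) := by
  by_contra hgC
  have hrF : Fact r.Prime := ⟨hr⟩
  have hQm := frattini_index_dvd_of_metacyclic_sylow p S hS Q hQ
  have h1 : r ∣ p ^ 2 - 1 := prime_dvd_sq_sub_one_of_not_centralizer hrp Q hQ hQm g hg hgo hgC
  have hgcop : (orderOf g).Coprime p := by
    rw [hgo]
    exact Nat.Coprime.pow_left m ((Nat.coprime_primes hr hp.out).2 hrp)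
  have hgK : g ∉ Cfsg.pPrimePCore p G := fun h =>
    hgC (mem_centralizer_of_mem_pPrimePCore p Q hQ g hg hgcop h)
  obtain ⟨K, hK⟩ : ∃ K : Subgroup G, K = Cfsg.pPrimePCore p G := ⟨_, rfl⟩
  have hKn : K.Normal := by
    rw [hK]; unfold Cfsg.pPrimePCore; infer_instance
  rw [← hK] at hgK
  have hcop' : Nat.Coprime (Nat.card (G ⧸ K)) (p ^ 2 - 1) := by
    subst hK; exact hcop
  have h2 : orderOf (QuotientGroup.mk' K g) ∣ r ^ m := by
    rw [← hgo]; exact orderOf_map_dvd _ g
  obtain ⟨j, -, hj⟩ := (Nat.dvd_prime_pow hr).1 h2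
  have hj0 : j ≠ 0 := by
    rintro rfl
    rw [pow_zero, orderOf_eq_one_iff] at hj
    exact hgK ((QuotientGroup.eq_one_iff g).1 hj)
  have h3 : r ∣ orderOf (QuotientGroup.mk' K g) := by
    rw [hj]; exact dvd_pow_self r hj0
  have h4 : r ∣ Nat.card (G ⧸ K) := h3.trans (orderOf_dvd_natCard _)
  have h5 : r ∣ 1 := by
    have := Nat.dvd_gcd h4 h1
    rwa [Nat.Coprime.gcd_eq_one hcop'] at this
  exact hr.one_lt.ne' (Nat.dvd_one.1 h5)

/-- The Frobenius condition for all `p'`-elements. -/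
theorem plocalCentral_of_metacyclic {G : Type u} [Group G] [Finite G] (p : ℕ)
    [hp : Fact p.Prime] (S : Sylow p G) (hS : Cfsg.IsMetacyclic ↥(S : Subgroup G))
    (hcop : Nat.Coprime (Nat.card (G ⧸ Cfsg.pPrimePCore p G)) (p ^ 2 - 1)) :
    PLocalCentral p G := by
  intro Q hQ
  have key : ∀ n : ℕ, ∀ g : G, orderOf g = n → g ∈ Subgroup.normalizer (Q : Set G) →
      n.Coprime p → g ∈ Subgroup.centralizer (Q : Set G) := by
    intro n
    induction n using Nat.strong_induction_on with
    | _ n ih =>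
      intro g hgo hg hnp
      by_cases hn1 : n = 1
      · rw [hn1, orderOf_eq_one_iff] at hgo
        rw [hgo]; exact Subgroup.one_mem _
      have hnpos : 0 < n := by rw [← hgo]; exact orderOf_pos g
      have hrpr : (n.minFac).Prime := Nat.minFac_prime hn1
      have hrn : n.minFac ∣ n := Nat.minFac_dvd n
      obtain ⟨r, hr⟩ : ∃ r, r = n.minFac := ⟨_, rfl⟩
      rw [← hr] at hrpr hrn
      have hrp : r ≠ p := by
        rintro rfl
        have := Nat.dvd_gcd hrn (dvd_refl r)
        rw [Nat.Coprime.gcd_eq_one hnp] at this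
        exact hrpr.one_lt.ne' (Nat.dvd_one.1 this)
      by_cases hall : ∀ s : ℕ, s.Prime → s ∣ n → s = r
      · have hnr : n = r ^ n.primeFactorsList.length :=
          Nat.eq_prime_pow_of_unique_prime_dvd hnpos.ne' (fun {s} hs hsn => hall s hs hsn)
        exact mem_centralizer_of_prime_pow_order p S hS hcop Q hQ g hg r _ hrpr hrp
          (hgo.trans hnr)
      · push Not at hall
        obtain ⟨s, hs, hsn, hsr⟩ := hall
        have hpowlt : ∀ t : ℕ, t.Prime → t ∣ n → g ^ t ∈ Subgroup.centralizer (Q : Set G) := by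
          intro t ht htn
          have h1 : orderOf (g ^ t) = n / t := by
            rw [← hgo]; exact orderOf_pow_of_dvd ht.pos.ne' (by rw [hgo]; exact htn)
          have h2 : n / t < n := Nat.div_lt_self hnpos ht.one_lt
          have h3 : (n / t).Coprime p := Nat.Coprime.coprime_dvd_left (Nat.div_dvd_of_dvd htn) hnp
          exact ih (n / t) h2 (g ^ t) h1 (pow_mem hg t) h3
        have hgr := hpowlt r hrpr hrn
        have hgs := hpowlt s hs hsn
        have hcoprs : Nat.Coprime r s := (Nat.coprime_primes hrpr hs).2 (Ne.symm hsr)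
        have hic : IsCoprime (r : ℤ) (s : ℤ) := Nat.isCoprime_iff_coprime.2 hcoprs
        obtain ⟨a, b, hab⟩ := hic
        have hgeq : g = (g ^ r) ^ a * (g ^ s) ^ b := by
          rw [← zpow_natCast g r, ← zpow_natCast g s, ← zpow_mul, ← zpow_mul, ← zpow_add,
            mul_comm (r : ℤ) a, mul_comm (s : ℤ) b, hab, zpow_one]
        rw [hgeq]
        exact Subgroup.mul_mem _ (Subgroup.zpow_mem _ hgr a) (Subgroup.zpow_mem _ hgs b)
  intro g hg hgcop
  exact key (orderOf g) g rfl hg hgcop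

/-- Let p be a prime and G a finite group whose Sylow p-subgroups are metacyclic (a cyclic normal subgroup with cyclic quotient). Then G has a normal p-complement if and only if the order of G/O_{p′,p}(G) is coprime to p² − 1. -/
theorem result {G : Type*} [Group G] [Finite G] (p : ℕ) [Fact p.Prime] (S : Sylow p G) (hS : Cfsg.IsMetacyclic ↥(S : Subgroup G)) : Cfsg.HasNormalPComplement p G ↔ Nat.Coprime (Nat.card (G ⧸ Cfsg.pPrimePCore p G)) (p ^ 2 - 1) := by
  constructor
  · intro h
    have h1 := pPrimePCore_eq_top_of_hasNormalPComplement p h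
    have h2 : Nat.card (G ⧸ Cfsg.pPrimePCore p G) = 1 := by
      have hKn : (Cfsg.pPrimePCore p G).Normal := by
        unfold Cfsg.pPrimePCore; infer_instance
      rw [← Subgroup.index_eq_card, h1, Subgroup.index_top]
    rw [h2]
    exact Nat.coprime_one_left _
  · intro hcop
    exact frobenius_pcomplement (plocalCentral_of_metacyclic p S hS hcop)

end Cfsg.Agent.S4419
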