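import Cfsg.Statements.S4420
import Cfsg.Agent.Helper4.DGroup

set_option autoImplicit false
open Cfsg

namespace Cfsg.Agent.S4420

/-- Structure of groups in which every element outside some proper subgroup has square 1. Let H be a finite group with a proper subgroup A such that every element outside A has square 1. Then H has an abelian normal subgroup B of index 2 such that every element outside B is an involution inverting every element of B; and if H is not an elementary abelian 2-group, B is the only abelian normal subgroup of index 2 with this property. -/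
theorem result {H : Type*} [Group H] [Finite H] (A : Subgroup H) (hA : A ≠ ⊤) (hD : ∀ x : H, x ∉ A → x ^ 2 = 1) :
    ∃ B : Subgroup H, B.Normal ∧ IsMulCommutative ↥B ∧ B.index = 2 ∧
      (∀ x : H, x ∉ B → x ^ 2 = 1 ∧ ∀ b ∈ B, x * b * x⁻¹ = b⁻¹) ∧
      (¬ (IsMulCommutative H ∧ ∀ x : H, x ^ 2 = 1) →
        ∀ B' : Subgroup H, B'.Normal → IsMulCommutative ↥B' → B'.index = 2 →
          (∀ x : H, x ∉ B' → x ^ 2 = 1 ∧ ∀ b ∈ B', x * b * x⁻¹ = b⁻¹) → B' = B) := by
  by_cases hall : ∀ x : H, x ^ 2 = 1
  · -- elementary abelian case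
    have hcomm := Cfsg.Agent.Helper4.comm_of_forall_sq hall
    have h2 : Fact (Nat.Prime 2) := ⟨Nat.prime_two⟩
    have hpg : IsPGroup 2 H := fun x => ⟨1, by rw [pow_one]; exact hall x⟩
    obtain ⟨N, hN⟩ := IsPGroup.iff_card.mp hpg
    obtain ⟨n, hn⟩ := IsPGroup.iff_card.mp (hpg.to_subgroup A)
    have hnN : n < N := by
      have hle : Nat.card A ≤ Nat.card H := Subgroup.card_le_card_group A
      have hne : Nat.card A ≠ Nat.card H := fun h => hA (Subgroup.eq_top_of_card_eq A h)
      rw [hn, hN] at hle hne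
      have h3 : n ≤ N := (Nat.pow_le_pow_iff_right (by norm_num)).mp hle
      rcases Nat.lt_or_ge n N with h | h
      · exact h
      · exact absurd (by rw [le_antisymm h3 h]) hne
    obtain ⟨B, hBcard, hAB⟩ := Sylow.exists_subgroup_card_pow_prime_le 2 (n := n) (m := N - 1)
      (by rw [hN]; exact pow_dvd_pow 2 (Nat.sub_le N 1)) A hn (by omega)
    have hBidx : B.index = 2 := by
      have h3 := B.card_mul_index
      rw [hBcard, hN] at h3
      have h4 : (2 : ℕ) ^ N = 2 ^ (N - 1) * 2 := by
        rw [← pow_succ]; congr 1; omega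
      rw [h4] at h3
      exact Nat.eq_of_mul_eq_mul_left (by positivity) h3
    refine ⟨B, Subgroup.normal_of_index_eq_two hBidx, ?_, hBidx, ?_, ?_⟩
    · rw [isMulCommutative_iff]
      intro a b
      exact Subtype.ext (hcomm a b)
    · intro x _
      refine ⟨hall x, fun b _ => ?_⟩
      rw [hcomm x b, mul_inv_cancel_right, eq_inv_iff_mul_eq_one, ← sq]
      exact hall b
    · intro h
      exfalso
      apply h
      refine ⟨?_, hall⟩
      rw [isMulCommutative_iff]
      exact hcomm
  · -- A itself works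
    have hA2 : ∃ a₀ ∈ A, a₀ ^ 2 ≠ 1 := by
      by_contra h
      push Not at h
      exact hall (Cfsg.Agent.Helper4.dgroup_sq_of_forall_sq A hD h)
    obtain ⟨a₀, ha₀, ha₀2⟩ := hA2
    have hidx := Cfsg.Agent.Helper4.dgroup_index_two A hA hD ha₀ ha₀2
    refine ⟨A, Cfsg.Agent.Helper4.dgroup_normal A hD, ?_, hidx, ?_, ?_⟩
    · rw [isMulCommutative_iff]
      intro a b
      exact Subtype.ext (Cfsg.Agent.Helper4.dgroup_abelian A hA hD a a.2 b b.2)
    · intro x hx
      exact ⟨hD x hx, fun b hb => Cfsg.Agent.Helper4.dgroup_inverts A hD hx hb⟩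
    · intro _ B' _ _ hB'idx hB'
      have hB'top : B' ≠ ⊤ := by
        intro h
        rw [h, Subgroup.index_top] at hB'idx
        omega
      have hD' : ∀ x : H, x ∉ B' → x ^ 2 = 1 := fun x hx => (hB' x hx).1
      exact le_antisymm (Cfsg.Agent.Helper4.dgroup_le B' A hB'top hD' hD hall)
        (Cfsg.Agent.Helper4.dgroup_le A B' hA hD hD' hall)

end Cfsg.Agent.S4420
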