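import Cfsg.Statements.S4421
import Cfsg.Agent.Helper4.Conj

set_option autoImplicit false
open Cfsg

namespace Cfsg.Agent.S4421

open Cfsg.Agent.Helper4

/-- A factorization of a normalizer from two-step control of fusion. Let `G` be a finite group and `A ≤ S ≤ H` subgroups of `G` such that: (i) `S` controls the `G`-fusion of `A` in the sense that every `G`-conjugate of `A` lying in `S` is an `S`-conjugate of `A`; (ii) `H` controls the `G`-fusion of `S` in the same sense; (iii) every conjugate of `S` by an element of the normalizer of `A` lies in `H`. Then `N_G(A) = N_H(A) · (N_G(S) ∩ N_G(A))`: every element of the normalizer of `A` is a product of an element of `H` normalizing `A` and an element normalizing both `S` and `A`. -/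
theorem result {G : Type*} [Group G] [Finite G] (A S H : Subgroup G)
    (hAS : A ≤ S) (hSH : S ≤ H)
    (h1 : ∀ g : G, A.map (MulAut.conj g).toMonoidHom ≤ S → ∃ s ∈ S, A.map (MulAut.conj g).toMonoidHom = A.map (MulAut.conj s).toMonoidHom)
    (h2 : ∀ g : G, S.map (MulAut.conj g).toMonoidHom ≤ H → ∃ y ∈ H, S.map (MulAut.conj g).toMonoidHom = S.map (MulAut.conj y).toMonoidHom)
    (h3 : ∀ x ∈ Subgroup.normalizer (A : Set G), S.map (MulAut.conj x).toMonoidHom ≤ H) :
    ∀ x ∈ Subgroup.normalizer (A : Set G), ∃ y ∈ H ⊓ Subgroup.normalizer (A : Set G),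
      ∃ z ∈ Subgroup.normalizer (S : Set G) ⊓ Subgroup.normalizer (A : Set G), x = y * z := by
  intro x hx
  obtain ⟨y, hyH, hy⟩ := h2 x (h3 x hx)
  -- w = y⁻¹ x normalizes S
  have hw : S.map (MulAut.conj (y⁻¹ * x)).toMonoidHom = S := by
    rw [map_conj_mul, hy, ← map_conj_mul, inv_mul_cancel, map_conj_one]
  have hwN : y⁻¹ * x ∈ Subgroup.normalizer (S : Set G) := mem_normalizer_of_map_conj_eq S _ hw
  have hAw : A.map (MulAut.conj (y⁻¹ * x)).toMonoidHom ≤ S := by
    calc A.map (MulAut.conj (y⁻¹ * x)).toMonoidHom ≤ S.map (MulAut.conj (y⁻¹ * x)).toMonoidHom :=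
          Subgroup.map_mono hAS
      _ = S := hw
  obtain ⟨s, hsS, hs⟩ := h1 _ hAw
  -- z = s⁻¹ w
  have hzA : A.map (MulAut.conj (s⁻¹ * (y⁻¹ * x))).toMonoidHom = A := by
    rw [map_conj_mul, hs, ← map_conj_mul, inv_mul_cancel, map_conj_one]
  have hzNA : s⁻¹ * (y⁻¹ * x) ∈ Subgroup.normalizer (A : Set G) := mem_normalizer_of_map_conj_eq A _ hzA
  have hsNS : s ∈ Subgroup.normalizer (S : Set G) := Subgroup.le_normalizer hsS
  have hzNS : s⁻¹ * (y⁻¹ * x) ∈ Subgroup.normalizer (S : Set G) :=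
    Subgroup.mul_mem _ (Subgroup.inv_mem _ hsNS) hwN
  refine ⟨y * s, ⟨Subgroup.mul_mem _ hyH (hSH hsS), ?_⟩, s⁻¹ * (y⁻¹ * x), ⟨hzNS, hzNA⟩, by group⟩
  have : y * s = x * (s⁻¹ * (y⁻¹ * x))⁻¹ := by group
  rw [this]
  exact Subgroup.mul_mem _ hx (Subgroup.inv_mem _ hzNA)

end Cfsg.Agent.S4421
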