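import Cfsg.Statements.S4422

set_option autoImplicit false
open Cfsg

namespace Cfsg.Agent.S4422

/-- If all prime factors of a nonzero `m` are `≡ 1 (mod e)` then so is `m`. -/
theorem modEq_one_of_primeFactors (e : ℕ) : ∀ m : ℕ, m ≠ 0 →
    (∀ p : ℕ, p.Prime → p ∣ m → p ≡ 1 [MOD e]) → m ≡ 1 [MOD e] := by
  intro m
  induction m using induction_on_primes with
  | zero => intro h; exact absurd rfl h
  | one => intro _ _; exact Nat.ModEq.refl 1
  | prime_mul p a hp ih =>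
    intro hne h
    have ha : a ≠ 0 := fun h0 => hne (by rw [h0, mul_zero])
    have h1 : p ≡ 1 [MOD e] := h p hp (dvd_mul_right p a)
    have h2 : a ≡ 1 [MOD e] := ih ha (fun r hr hra => h r hr (dvd_mul_of_dvd_right hra p))
    simpa using h1.mul h2

theorem prime_modEq_one (q e p : ℕ) (hq : 2 ≤ q) (he : 1 ≤ e) (hp : p.Prime)
    (hpe : p ∣ q ^ e - 1) (hcop : ∀ i : ℕ, 1 ≤ i → i < e → ¬ p ∣ q ^ i - 1) : p ≡ 1 [MOD e] := by
  have : Fact p.Prime := ⟨hp⟩
  have hpow : ∀ i : ℕ, (p ∣ q ^ i - 1 ↔ (q : ZMod p) ^ i = 1) := by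
    intro i
    have h1 : 1 ≤ q ^ i := Nat.one_le_pow _ _ (by omega)
    rw [← ZMod.natCast_eq_zero_iff, Nat.cast_sub h1, Nat.cast_pow, Nat.cast_one, sub_eq_zero]
  have hqe : (q : ZMod p) ^ e = 1 := (hpow e).mp hpe
  have hq0 : (q : ZMod p) ≠ 0 := by
    intro h0
    rw [h0, zero_pow (by omega)] at hqe
    exact zero_ne_one hqe
  have hd : orderOf (q : ZMod p) ∣ e := orderOf_dvd_of_pow_eq_one hqe
  have hdpos : 0 < orderOf (q : ZMod p) := Nat.pos_of_dvd_of_pos hd he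
  have hde : orderOf (q : ZMod p) = e := by
    by_contra hne
    have hlt : orderOf (q : ZMod p) < e := lt_of_le_of_ne (Nat.le_of_dvd he hd) hne
    exact hcop _ hdpos hlt ((hpow _).mpr (pow_orderOf_eq_one _))
  have h3 : e ∣ p - 1 := hde ▸ ZMod.orderOf_dvd_card_sub_one hq0
  have hp1 : 1 ≤ p := hp.one_lt.le
  exact ((Nat.modEq_iff_dvd' hp1).mpr h3).symm

/-- Primitive divisors of `q^e - 1` are congruent to 1 modulo `e`. Let `q ≥ 2` and `e ≥ 1` be natural numbers and let `m` be a divisor of `q^e - 1` that is coprime to `q^i - 1` for every `1 ≤ i < e` (so `m` divides the primitive part of `q^e - 1`, the largest such divisor). Then `m ≡ 1 (mod e)`. -/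
theorem result (q e m : ℕ) (hq : 2 ≤ q) (he : 1 ≤ e)
    (hm : m ∣ q ^ e - 1) (hcop : ∀ i : ℕ, 1 ≤ i → i < e → Nat.Coprime m (q ^ i - 1)) :
    m % e = 1 % e := by
  have hpos : 0 < q ^ e - 1 := by
    have : 2 ^ e ≤ q ^ e := Nat.pow_le_pow_left hq e
    have : 2 ≤ 2 ^ e := by
      calc 2 = 2 ^ 1 := by norm_num
        _ ≤ 2 ^ e := Nat.pow_le_pow_right (by norm_num) he
    omega
  have hm0 : m ≠ 0 := by
    rintro rfl
    rw [zero_dvd_iff] at hm
    omega
  apply modEq_one_of_primeFactors e m hm0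
  intro p hp hpm
  apply prime_modEq_one q e p hq he hp (hpm.trans hm)
  intro i hi1 hie hdvd
  have := hcop i hi1 hie
  have h1 : p ∣ Nat.gcd m (q ^ i - 1) := Nat.dvd_gcd hpm hdvd
  rw [this] at h1
  exact hp.one_lt.ne' (Nat.dvd_one.mp h1)

end Cfsg.Agent.S4422
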