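import Cfsg.Statements.S4427
import Cfsg.Agent.Helper6.PrCntG

set_option autoImplicit false
open Cfsg

namespace Cfsg.Agent.S4427

/-- Let G be a finite group of order p^a · q^b · r^c with p, q, r distinct primes, and suppose that G has exactly q^b · r^c elements of order not divisible by p. Then G has a normal p-complement: a normal subgroup of order q^b · r^c. -/
theorem result {G : Type*} [Group G] [Finite G] (p q r a b c : ℕ) (hp : p.Prime) (hq : q.Prime) (hr : r.Prime) (hpq : p ≠ q) (hpr : p ≠ r) (hqr : q ≠ r) (hG : Nat.card G = p ^ a * q ^ b * r ^ c) (hcount : Nat.card {g : G // ¬ p ∣ orderOf g} = q ^ b * r ^ c) : ∃ N : Subgroup G, N.Normal ∧ Nat.card N = q ^ b * r ^ c := by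
  classical
  haveI := Fintype.ofFinite G
  haveI : Fact p.Prime := ⟨hp⟩
  haveI : Fact q.Prime := ⟨hq⟩
  haveI : Fact r.Prime := ⟨hr⟩
  obtain ⟨M, -, hM, hpM⟩ := Cfsg.Agent.Helper6.exists_isPModular p hp
  obtain ⟨Q, hQ⟩ := Sylow.exists_subgroup_card_pow_prime (G := G) q (n := b) (by
    rw [hG]
    exact Dvd.dvd.mul_right (Dvd.intro_left _ rfl) _)
  obtain ⟨R, hR⟩ := Sylow.exists_subgroup_card_pow_prime (G := G) r (n := c) (by
    rw [hG]
    exact Dvd.intro_left _ rfl)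
  have hpq' : ¬ p ∣ q ^ b := fun h =>
    hpq ((Nat.prime_dvd_prime_iff_eq hp hq).mp (hp.dvd_of_dvd_pow h))
  have hpr' : ¬ p ∣ r ^ c := fun h =>
    hpr ((Nat.prime_dvd_prime_iff_eq hp hr).mp (hp.dvd_of_dvd_pow h))
  have hcop : (q ^ b).Coprime (r ^ c) :=
    Nat.Coprime.pow _ _ ((Nat.coprime_primes hq hr).mpr hqr)
  have := Cfsg.Agent.Helper6.PrCnt.exists_normal_of_count hM p hpM Q R (by rwa [hQ]) (by rwa [hR])
    (by rwa [hQ, hR]) (p ^ a) (by rw [hG, hQ, hR, mul_assoc]) (by rw [hQ, hR]; exact hcount)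
  rwa [hQ, hR] at this

end Cfsg.Agent.S4427
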