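import Cfsg.Statements.S4437
import Mathlib
import Cfsg.Agent.Helper6.StabilizerIndex
-- import your own Cfsg.Agent.* helpers here

set_option autoImplicit false
open Cfsg

namespace Cfsg.Agent.S4437

/-- Let P be a p-subgroup of the finite group G, H = P·C_G(P), and b a block of H (relative to a maximal ideal M of the algebraic integers containing p) having P as a defect group; let B be the block of G induced by b. Let T be the stabilizer of b in N_G(P): the elements g of N_G(P) such that the g-conjugate of every member of b is again a member of b. Then B has defect group P if and only if p does not divide the index of H in T. -/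
theorem result {G : Type*} [Group G] [Fintype G] (p : ℕ) [Fact p.Prime] (M : Ideal Cfsg.AlgInt) (hM : Cfsg.IsPModular p M) (P : Subgroup G) (hP : IsPGroup p P) (H : Subgroup G) [Fintype H] (hH : H = P ⊔ Subgroup.centralizer (P : Set G)) (b : Set (Cfsg.IrrCharacter H)) (hb : Cfsg.IsPBlock M b) (hbP : Cfsg.IsDefectGroup p M b (P.subgroupOf H)) (B : Set (Cfsg.IrrCharacter G)) (hind : Cfsg.IsInducedBlock M H b B) (T : Subgroup G) (hT : ∀ g : G, g ∈ T ↔ (g ∈ Subgroup.normalizer (P : Set G) ∧ ∀ θ ∈ b, ∀ θ' : Cfsg.IrrCharacter H, (∀ h h' : H, (h' : G) = g * h * g⁻¹ → (θ' : H → ℂ) h' = (θ : H → ℂ) h) → θ' ∈ b)) : Cfsg.IsDefectGroup p M B P ↔ ¬ p ∣ H.relIndex T := by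
  classical
  subst hH
  have hPL : P ≤ P ⊔ Subgroup.centralizer (P : Set G) := le_sup_left
  have hCL : Subgroup.centralizer (P : Set G) ≤ P ⊔ Subgroup.centralizer (P : Set G) :=
    le_sup_right
  have hLN : P ⊔ Subgroup.centralizer (P : Set G) ≤ Subgroup.normalizer (P : Set G) :=
    sup_le Subgroup.le_normalizer (Subgroup.centralizer_le_normalizer _)
  have hNL := Helper6.normalizer_le_normalizer_sup_centralizer P
  have hT' : ∀ g : G, g ∈ T ↔ g ∈ Subgroup.normalizer (P : Set G) ∧
      Cfsg.StabilizesBlock (P ⊔ Subgroup.centralizer (P : Set G)) b g := by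
    intro g
    rw [hT g]
    constructor
    · rintro ⟨hg, h⟩
      refine ⟨hg, hNL hg, fun χ hχ => ⟨Helper6.nconjIrr _ g (hNL hg) χ, ?_,
        Helper6.isConjCharOf_nconjIrr _ g (hNL hg) χ⟩⟩
      exact h χ hχ _ (Helper6.isConjCharOf_nconjIrr _ g (hNL hg) χ)
    · rintro ⟨hg, hgn, hst⟩
      refine ⟨hg, fun θ hθ θ' hθ' => ?_⟩
      obtain ⟨χ', hχ', hc⟩ := hst θ hθ
      have : θ' = χ' := by
        apply Subtype.ext
        funext k'
        have hk : g⁻¹ * (k' : G) * g ∈ P ⊔ Subgroup.centralizer (P : Set G) :=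
          (Subgroup.mem_normalizer_iff''.mp hgn (k' : G)).mp k'.2
        have e1 : (k' : G) = g * ((⟨g⁻¹ * (k' : G) * g, hk⟩ :
            ↥(P ⊔ Subgroup.centralizer (P : Set G))) : G) * g⁻¹ := by
          show (k' : G) = g * (g⁻¹ * (k' : G) * g) * g⁻¹
          group
        rw [hθ' ⟨g⁻¹ * (k' : G) * g, hk⟩ k' e1, hc ⟨g⁻¹ * (k' : G) * g, hk⟩ k' e1]
      rw [this]
      exact hχ'
  exact Helper6.defect_iff_stabilizer_index hM P _ hP hPL hCL hLN hNL b hbP B hind T hT'

end Cfsg.Agent.S4437
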