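import Cfsg.Statements.S4445
import Mathlib
import Cfsg.Agent.Helper6.GlaubS
import Cfsg.Agent.Helper6.GlaubW
-- import your own Cfsg.Agent.* helpers here

set_option autoImplicit false
open Cfsg

namespace Cfsg.Agent.S4445

/-- Inside a finite group Γ let the solvable subgroup S normalise G with the orders of G and S coprime. Then the number of S-invariant irreducible characters of G (χ(s g s⁻¹) = χ(g) for all s ∈ S, g ∈ G) equals the number of conjugacy classes of G mapped to themselves by conjugation by every element of S. -/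
theorem result {Γ : Type*} [Group Γ] [Fintype Γ] (G S : Subgroup Γ) [Fintype G] (hnorm : ∀ s ∈ S, ∀ g ∈ G, s * g * s⁻¹ ∈ G) (hcop : (Nat.card G).Coprime (Nat.card S)) (hsolv : Group.IsSolvable S) : Nat.card {χ : Cfsg.IrrCharacter G // (∀ s ∈ S, ∀ g g' : G, (g' : Γ) = s * g * s⁻¹ → (χ : G → ℂ) g' = (χ : G → ℂ) g)} = Nat.card {K : ConjClasses G // ∀ s ∈ S, ∀ g g' : G, (g' : Γ) = s * g * s⁻¹ → ConjClasses.mk g = K → ConjClasses.mk g' = K} := by
  classical
  set A : Subgroup (MulAut G) := (Helper6.conjHomOn G S hnorm).range with hA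
  have hAsolv : Group.IsSolvable A :=
    Group.isSolvable_of_surjective (Helper6.conjHomOn G S hnorm).rangeRestrict_surjective
  have hAcop : (Nat.card G).Coprime (Nat.card A) :=
    Nat.Coprime.coprime_dvd_right (Subgroup.card_range_dvd _) hcop
  have key := Helper6.card_invariant_irr_eq_card_invariant_classes (Nat.card A) A rfl hAsolv hAcop
  have h1 : Nat.card {χ : Cfsg.IrrCharacter G // (∀ s ∈ S, ∀ g g' : G, (g' : Γ) = s * g * s⁻¹ →
      (χ : G → ℂ) g' = (χ : G → ℂ) g)} =
      Nat.card {χ : Cfsg.IrrCharacter G // Helper6.InvUnder (A : Set (MulAut G)) (χ : G → ℂ)} := by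
    apply Nat.card_congr
    apply Equiv.subtypeEquivRight
    intro χ
    exact (Helper6.invUnder_conj_iff G S hnorm (χ : G → ℂ)).symm
  have h2 : Nat.card {K : ConjClasses G // ∀ s ∈ S, ∀ g g' : G, (g' : Γ) = s * g * s⁻¹ →
      ConjClasses.mk g = K → ConjClasses.mk g' = K} =
      Nat.card {K : ConjClasses G //
        ∀ a ∈ A, ConjClasses.map (a : G ≃* G).toMonoidHom K = K} := by
    apply Nat.card_congr
    apply Equiv.subtypeEquivRight
    intro K
    constructor
    · rintro h a ⟨s, rfl⟩
      obtain ⟨g, rfl⟩ := ConjClasses.exists_rep K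
      rw [Helper6.conjClasses_map_mk']
      exact h s.1 s.2 g _ (Helper6.conjHomOn_apply G S hnorm s g) rfl
    · intro h s hs g g' hg' hK
      have h3 := h (Helper6.conjHomOn G S hnorm ⟨s, hs⟩) ⟨⟨s, hs⟩, rfl⟩
      rw [← hK, Helper6.conjClasses_map_mk'] at h3
      have h4 : Helper6.conjHomOn G S hnorm ⟨s, hs⟩ g = g' := by
        apply Subtype.ext
        rw [Helper6.conjHomOn_apply, hg']
      change ConjClasses.mk ((Helper6.conjHomOn G S hnorm ⟨s, hs⟩) g) = ConjClasses.mk g at h3
      rw [h4] at h3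
      rw [h3, hK]
  rw [h1, h2]
  exact key

end Cfsg.Agent.S4445
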