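import Cfsg.Statements.S4457
import Mathlib
import Cfsg.Agent.Helper6.TwoDegD
import Cfsg.Agent.Helper6.TwoDegE
import Cfsg.Agent.Helper6.TwoDegI
-- import your own Cfsg.Agent.* helpers here

set_option autoImplicit false
open Cfsg

namespace Cfsg.Agent.S4457

/-- Let G be a finite group whose irreducible character degrees are exactly 1 and m (m ≠ 1). Then either G has an abelian normal subgroup of index m, or m is a power of a prime p and G is the direct product of a p-group and an abelian group: there are normal subgroups P and A with P a p-group, A abelian, P ⊓ A = 1 and P ⊔ A = G. -/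
theorem result {G : Type*} [Group G] [Finite G] (m : ℕ) (hcd : ∀ χ : Cfsg.IrrCharacter G, Cfsg.charDegree (χ : G → ℂ) = 1 ∨ Cfsg.charDegree (χ : G → ℂ) = m) (hm : ∃ χ : Cfsg.IrrCharacter G, Cfsg.charDegree (χ : G → ℂ) = m) (hm1 : m ≠ 1) : (∃ A : Subgroup G, A.Normal ∧ (∀ a ∈ A, ∀ b ∈ A, a * b = b * a) ∧ A.index = m) ∨ ∃ p e : ℕ, p.Prime ∧ m = p ^ e ∧ ∃ P A : Subgroup G, P.Normal ∧ A.Normal ∧ IsPGroup p P ∧ (∀ a ∈ A, ∀ b ∈ A, a * b = b * a) ∧ P ⊓ A = ⊥ ∧ P ⊔ A = ⊤ := by
  classical
  haveI : Fintype G := Fintype.ofFinite G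
  have hm0 : m ≠ 0 := by
    obtain ⟨χ, hχ⟩ := hm
    rw [← hχ]
    exact Helper6.charDegree_ne_zero_of_irr χ.2
  obtain ⟨D, hDn, hDab, hDnil, hcopD, hidxD⟩ := Helper6.two_degree_hall m hm0 hcd
  haveI := hDn
  have hcop : Nat.Coprime (Nat.card D) D.index := by
    apply Nat.coprime_of_dvd
    intro p hp hpD hpi
    exact hcopD p hp (hidxD p hp hpi) hpD
  have hcopm : Nat.Coprime (Nat.card D) m := by
    apply Nat.coprime_of_dvd
    intro p hp hpD hpm
    exact hcopD p hp hpm hpD
  by_cases hnc : ∃ d ∈ D, ∃ g : G, g * d * g⁻¹ * d⁻¹ ≠ 1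
  · left
    exact Helper6.two_degree_noncentral m hcd D hDab hcop hcopm hDnil hnc
  · right
    push Not at hnc
    haveI := hDnil
    haveI : Group.IsNilpotent G := by
      apply Subgroup.isNilpotent_of_ker_le_center (QuotientGroup.mk' D)
      rw [QuotientGroup.ker_mk']
      intro d hd
      rw [Subgroup.mem_center_iff]
      intro g
      have h1 := hnc d hd g
      have h2 := congrArg (fun z => z * d * g) h1
      simpa using h2
    exact Helper6.two_degree_nilpotent m hcd hm hm1

end Cfsg.Agent.S4457
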