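import Cfsg.Statements.S4460
import Cfsg.Agent.Helper6.Cd3G
-- import your own Cfsg.Agent.* helpers here

set_option autoImplicit false
open Cfsg

namespace Cfsg.Agent.S4460

/-- A finite group with exactly three distinct irreducible character degrees is solvable of derived length at most 3: its third derived subgroup is trivial. -/
theorem result {G : Type*} [Group G] [Finite G] (hcd : Nat.card {n : ℕ // ∃ χ : Cfsg.IrrCharacter G, Cfsg.charDegree (χ : G → ℂ) = n} = 3) : derivedSeries G 3 = ⊥ := by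
  classical
  haveI : Fintype G := Fintype.ofFinite G
  have hS : ({n : ℕ | ∃ χ : Cfsg.IrrCharacter G, Cfsg.charDegree (χ : G → ℂ) = n}).ncard = 3 := by
    rw [← hcd]
    exact (Nat.card_coe_set_eq _).symm
  obtain ⟨x, y, z, hxy, hxz, hyz, hSeq⟩ := Set.ncard_eq_three.mp hS
  have hmem : ∀ χ : G → ℂ, Cfsg.IsIrrCharacter G χ →
      χ 1 = (x : ℂ) ∨ χ 1 = (y : ℂ) ∨ χ 1 = (z : ℂ) := by
    intro χ hχ
    have h1 : Cfsg.charDegree χ ∈ {n : ℕ | ∃ χ : Cfsg.IrrCharacter G,
        Cfsg.charDegree (χ : G → ℂ) = n} := ⟨⟨χ, hχ⟩, rfl⟩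
    rw [hSeq] at h1
    have h2 := Helper6.charDegree_cast_of_isCharacter (Helper6.IsIrrCharacter.isCharacter hχ)
    rw [← h2]
    simp only [Set.mem_insert_iff, Set.mem_singleton_iff] at h1
    rcases h1 with h | h | h
    · left; rw [h]
    · right; left; rw [h]
    · right; right; rw [h]
  have hone : (1 : ℕ) ∈ {n : ℕ | ∃ χ : Cfsg.IrrCharacter G,
      Cfsg.charDegree (χ : G → ℂ) = n} := by
    refine ⟨⟨fun _ => 1, Helper6.isIrrCharacter_one⟩, ?_⟩
    have h2 := Helper6.charDegree_cast_of_isCharacter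
      (Helper6.IsIrrCharacter.isCharacter (Helper6.isIrrCharacter_one (G := G)))
    exact_mod_cast h2
  rw [hSeq] at hone
  simp only [Set.mem_insert_iff, Set.mem_singleton_iff] at hone
  have key : ∃ m n : ℕ, ∀ χ : G → ℂ, Cfsg.IsIrrCharacter G χ →
      χ 1 = 1 ∨ χ 1 = (m : ℂ) ∨ χ 1 = (n : ℂ) := by
    rcases hone with h | h | h
    · refine ⟨y, z, fun χ hχ => ?_⟩
      have := hmem χ hχ
      rw [← h, Nat.cast_one] at this
      exact this
    · refine ⟨x, z, fun χ hχ => ?_⟩
      have := hmem χ hχ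
      rw [← h, Nat.cast_one] at this
      rcases this with h1 | h1 | h1
      · exact Or.inr (Or.inl h1)
      · exact Or.inl h1
      · exact Or.inr (Or.inr h1)
    · refine ⟨x, y, fun χ hχ => ?_⟩
      have := hmem χ hχ
      rw [← h, Nat.cast_one] at this
      rcases this with h1 | h1 | h1
      · exact Or.inr (Or.inl h1)
      · exact Or.inr (Or.inr h1)
      · exact Or.inl h1
  obtain ⟨m, n, hmn⟩ := key
  have hsolv := Helper6.Cd3.solvable_of_three_degrees (Fintype.card G) G le_rfl m n hmn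
  exact Helper6.Cd3.derived_three_of_solvable hsolv m n hmn

end Cfsg.Agent.S4460
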