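import Mathlib
import Cfsg.Statements.S4474
import Cfsg.Agent.Helper2.RealRepD

set_option autoImplicit false
open Cfsg

namespace Cfsg.Agent.S4474

open Cfsg.Agent.Helper2

/-- Let χ be an irreducible character of the finite group G. Then the Frobenius–Schur indicator of χ (the average over s ∈ G of χ(s²)) equals 1 if and only if χ is afforded by a real representation: there is a representation of G on a real coordinate space whose trace function, viewed in ℂ, is χ. -/
theorem result {G : Type*} [Group G] [Fintype G] (χ : Cfsg.IrrCharacter G) : ((Nat.card G : ℂ)⁻¹ * ∑ s : G, (χ : G → ℂ) (s * s)) = 1 ↔ ∃ (n : ℕ) (ρ : Representation ℝ G (Fin n → ℝ)), ∀ g : G, ((LinearMap.trace ℝ (Fin n → ℝ) (ρ g) : ℝ) : ℂ) = (χ : G → ℂ) g := by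
    constructor
    · intro h
      obtain ⟨n, ρ, hirr, hχ⟩ := χ.2
      haveI := hirr
      have hν : Cfsg.Agent.Helper6.fsInd ρ = 1 := by
        unfold Cfsg.Agent.Helper6.fsInd
        rw [hχ]
        exact h
      obtain ⟨Y, hY1, hYmul, hYtr⟩ := Cfsg.Agent.Helper2.RealRep.exists_real_rep ρ hν
      let σ : Representation ℝ G (Fin n → ℝ) :=
        { toFun := fun g => Matrix.toLin' (Y g)
          map_one' := by rw [hY1, Matrix.toLin'_one]; rfl
          map_mul' := by
            intro g h
            rw [hYmul, Matrix.toLin'_mul]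
            rfl }
      refine ⟨n, σ, ?_⟩
      intro g
      have : σ g = Matrix.toLin' (Y g) := rfl
      rw [this, Cfsg.Agent.Helper2.RealRep.trace_toLin'_real, hYtr, hχ]
    · rintro ⟨n, σ, hσ⟩
      refine Cfsg.Agent.Helper2.RealRep.fsInd_eq_one_of_real (fun g => LinearMap.toMatrix' (σ g))
        ?_ ?_ χ.2 ?_
      · simp only [map_one]
        exact LinearMap.toMatrix'_one
      · intro g h
        simp only [map_mul]
        exact LinearMap.toMatrix'_mul _ _
      · intro g
        rw [← hσ g]
        congr 1
        rw [LinearMap.trace_eq_matrix_trace ℝ (Pi.basisFun ℝ (Fin n)),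
          LinearMap.toMatrix_eq_toMatrix']

end Cfsg.Agent.S4474
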