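import Cfsg.Statements.S4476
import Mathlib
import Cfsg.Agent.Helper6.Involutions
import Cfsg.Agent.Helper6.IrrDegree
import Cfsg.Agent.Helper6.IrrCount
import Cfsg.Agent.Helper6.BrauerPerm
-- import your own Cfsg.Agent.* helpers here

set_option autoImplicit false
open Cfsg

namespace Cfsg.Agent.S4476

/-- Let G be a finite group of even order g with exactly t involutions, and put α = (g − 1)/t (a rational number). Then (a) some non-identity element x of G has at most α² conjugates; and (b) some non-principal real-valued irreducible character of G has degree at most α. -/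
theorem result {G : Type*} [Group G] [Fintype G] (heven : Even (Nat.card G)) (t : ℕ) (ht : Nat.card {x : G // orderOf x = 2} = t) : (∃ x : G, x ≠ 1 ∧ ((Subgroup.centralizer ({x} : Set G)).index : ℚ) ≤ (((Nat.card G : ℚ) - 1) / t) ^ 2) ∧ ∃ χ : Cfsg.IrrCharacter G, (χ : G → ℂ) ≠ (fun _ => 1) ∧ (∀ g : G, ((χ : G → ℂ) g).im = 0) ∧ (Cfsg.charDegree (χ : G → ℂ) : ℚ) ≤ ((Nat.card G : ℚ) - 1) / t := by
  classical
  haveI : Finite (Cfsg.IrrCharacter G) := Cfsg.Agent.Helper6.irr_finite
  haveI : Fintype (Cfsg.IrrCharacter G) := Fintype.ofFinite _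
  set gN : ℝ := (Nat.card G : ℝ) with hgN
  -- the set of square roots of one
  set T : Finset G := Finset.univ.filter (fun s : G => s * s = 1) with hT
  have hTcard : T.card = t + 1 := by
    have h1 : T = insert (1 : G) (Finset.univ.filter (fun s : G => orderOf s = 2)) := by
      ext s
      rw [hT, Finset.mem_filter, Finset.mem_insert, Finset.mem_filter]
      simp only [Finset.mem_univ, true_and]
      constructor
      · intro hs
        have hd : orderOf s ∣ 2 := orderOf_dvd_of_pow_eq_one (by rw [pow_two]; exact hs)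
        rcases (Nat.dvd_prime Nat.prime_two).mp hd with h | h
        · left; exact orderOf_eq_one_iff.mp h
        · right; exact h
      · rintro (rfl | h)
        · exact mul_one 1
        · rw [← pow_two, ← h]; exact pow_orderOf_eq_one s
    have h2 : (1 : G) ∉ Finset.univ.filter (fun s : G => orderOf s = 2) := by
      rw [Finset.mem_filter]
      rintro ⟨-, h⟩
      rw [orderOf_one] at h
      exact absurd h (by norm_num)
    rw [h1, Finset.card_insert_of_notMem h2, ← ht, Nat.card_eq_fintype_card,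
      Fintype.card_subtype]
  have ht1 : 1 ≤ t := by
    haveI : Fact (Nat.Prime 2) := ⟨Nat.prime_two⟩
    have h2 : 2 ∣ Fintype.card G := by
      rw [← Nat.card_eq_fintype_card]; exact even_iff_two_dvd.mp heven
    obtain ⟨x, hx⟩ := exists_prime_orderOf_dvd_card 2 h2
    rw [← ht]
    haveI : Nonempty {x : G // orderOf x = 2} := ⟨⟨x, hx⟩⟩
    exact Nat.card_pos
  have htpos : (0 : ℝ) < (t : ℝ) := by exact_mod_cast ht1
  have hg2 : (2 : ℝ) ≤ gN := by
    have : 2 ≤ Nat.card G := by
      obtain ⟨k, hk⟩ := heven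
      have : 0 < Nat.card G := Nat.card_pos
      omega
    rw [hgN]
    exact_mod_cast this
  -- degrees
  have hdnat : ∀ χ : Cfsg.IrrCharacter G, ∃ n : ℕ, 0 < n ∧ (χ : G → ℂ) 1 = n := fun χ =>
    Cfsg.Agent.Helper6.IsIrrCharacter.apply_one_pos χ.2
  choose dn hdnpos hdn using hdnat
  have hdre : ∀ χ : Cfsg.IrrCharacter G, ((χ : G → ℂ) 1).re = (dn χ : ℝ) := by
    intro χ; rw [hdn χ, Complex.natCast_re]
  have hcd : ∀ χ : Cfsg.IrrCharacter G, Cfsg.charDegree (χ : G → ℂ) = dn χ := by
    intro χ
    unfold Cfsg.charDegree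
    rw [hdre χ, Nat.floor_natCast]
  set χ₀ : Cfsg.IrrCharacter G := ⟨fun _ => (1 : ℂ), Cfsg.Agent.Helper6.isIrrCharacter_one⟩ with hχ₀
  have hχ₀d : dn χ₀ = 1 := by
    have := hdn χ₀
    change (1 : ℂ) = (dn χ₀ : ℂ) at this
    exact_mod_cast this.symm
  set Rl : Finset (Cfsg.IrrCharacter G) :=
    Finset.univ.filter (fun χ : Cfsg.IrrCharacter G => ∀ g, ((χ : G → ℂ) g).im = 0) with hRl
  have hχ₀Rl : χ₀ ∈ Rl := by
    rw [hRl, Finset.mem_filter]
    refine ⟨Finset.mem_univ _, fun g => ?_⟩
    change (1 : ℂ).im = 0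
    exact Complex.one_im
  set R : Finset (Cfsg.IrrCharacter G) := Rl.erase χ₀ with hR
  -- t ≤ Σ_R d
  have hbound : (t : ℝ) ≤ ∑ χ ∈ R, (dn χ : ℝ) := by
    have h1 := Cfsg.Agent.Helper6.card_sq_eq_one_le (G := G)
    rw [← hT, hTcard, ← hRl, ← Finset.add_sum_erase Rl _ hχ₀Rl, ← hR] at h1
    simp_rw [hdre] at h1
    rw [hχ₀d] at h1
    push_cast at h1
    linarith
  -- Σ d² = g
  have hsqall : ∑ χ : Cfsg.IrrCharacter G, (dn χ : ℝ) ^ 2 = gN := by
    have h1 := Cfsg.Agent.Helper6.sum_sq_degrees (G := G)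
    simp_rw [hdn] at h1
    have h2 : ((∑ χ : Cfsg.IrrCharacter G, (dn χ : ℝ) ^ 2 : ℝ) : ℂ) = ((gN : ℝ) : ℂ) := by
      rw [hgN]
      push_cast
      exact h1
    exact Complex.ofReal_injective h2
  have hsqR : ∑ χ ∈ R, (dn χ : ℝ) ^ 2 ≤ gN - 1 := by
    have h1 : ∑ χ ∈ Finset.univ.erase χ₀, (dn χ : ℝ) ^ 2 = gN - 1 := by
      have := Finset.add_sum_erase Finset.univ (fun χ : Cfsg.IrrCharacter G => (dn χ : ℝ) ^ 2)
        (Finset.mem_univ χ₀)
      rw [hsqall] at this
      simp only [hχ₀d] at this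
      push_cast at this
      linarith
    rw [← h1]
    apply Finset.sum_le_sum_of_subset_of_nonneg
    · exact Finset.erase_subset_erase _ (Finset.subset_univ _)
    · intro χ _ _
      positivity
  set α : ℝ := (gN - 1) / t with hα
  have hαpos : 0 < α := by
    rw [hα]
    apply div_pos _ htpos
    linarith
  have hαt : α * t = gN - 1 := by
    rw [hα]; field_simp
  have hRmem : ∀ χ : Cfsg.IrrCharacter G, χ ∈ R ↔
      (χ : G → ℂ) ≠ (fun _ => 1) ∧ ∀ g, ((χ : G → ℂ) g).im = 0 := by
    intro χ
    rw [hR, Finset.mem_erase, hRl, Finset.mem_filter]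
    simp only [Finset.mem_univ, true_and]
    constructor
    · rintro ⟨h1, h2⟩
      refine ⟨?_, h2⟩
      intro h
      apply h1
      exact Subtype.ext h
    · rintro ⟨h1, h2⟩
      refine ⟨?_, h2⟩
      intro h
      apply h1
      rw [h]
  constructor
  · -- part (a)
    by_contra hcon
    push Not at hcon
    have hcon' : ∀ x : G, x ≠ 1 →
        α ^ 2 < ((Subgroup.centralizer ({x} : Set G)).index : ℝ) := by
      intro x hx
      have h := hcon x hx
      have h2 : (((((Nat.card G : ℚ) - 1) / t) ^ 2 : ℚ) : ℝ) <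
          (((Subgroup.centralizer ({x} : Set G)).index : ℚ) : ℝ) := by exact_mod_cast h
      rw [hα, hgN]
      push_cast at h2
      exact h2
    -- Cauchy–Schwarz
    have hCS : (t : ℝ) ^ 2 ≤ (R.card : ℝ) * (gN - 1) := by
      have h1 := sq_sum_le_card_mul_sum_sq (s := R) (f := fun χ => (dn χ : ℝ))
      have h0 : (0 : ℝ) ≤ ∑ χ ∈ R, (dn χ : ℝ) := Finset.sum_nonneg (fun χ _ => by positivity)
      have h2 : (t : ℝ) ^ 2 ≤ (∑ χ ∈ R, (dn χ : ℝ)) ^ 2 := by
        apply pow_le_pow_left₀ htpos.le hbound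
      have h3 : (R.card : ℝ) * ∑ χ ∈ R, (dn χ : ℝ) ^ 2 ≤ (R.card : ℝ) * (gN - 1) :=
        mul_le_mul_of_nonneg_left hsqR (by positivity)
      linarith
    -- number of classes
    have hk : (R.card : ℝ) + 1 ≤ (Fintype.card (ConjClasses G) : ℝ) := by
      have h1 : R.card + 1 ≤ Fintype.card (Cfsg.IrrCharacter G) := by
        have h2 : R.card ≤ (Finset.univ.erase χ₀).card :=
          Finset.card_le_card (Finset.erase_subset_erase _ (Finset.subset_univ _))
        rw [Finset.card_erase_of_mem (Finset.mem_univ _), Finset.card_univ] at h2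
        have : 0 < Fintype.card (Cfsg.IrrCharacter G) := Fintype.card_pos_iff.mpr ⟨χ₀⟩
        omega
      have h3 := Cfsg.Agent.Helper6.card_irr_eq_card_conjClasses (G := G)
      rw [Nat.card_eq_fintype_card, Nat.card_eq_fintype_card] at h3
      rw [h3] at h1
      exact_mod_cast h1
    -- class counting
    have hcls := Cfsg.Agent.Helper6.sum_div_card_class (G := G) (fun _ => (1 : ℂ))
    simp only [one_mul, Finset.sum_const, Finset.card_univ, nsmul_eq_mul, mul_one] at hcls
    have hcls' : ∑ x : G, ((Subgroup.centralizer ({x} : Set G)).index : ℝ)⁻¹ =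
        (Fintype.card (ConjClasses G) : ℝ) := by
      have h1 : ∀ x : G, ((Nat.card (Subgroup.centralizer ({x} : Set G)) : ℂ) / (Nat.card G : ℂ)) =
          ((((Subgroup.centralizer ({x} : Set G)).index : ℝ)⁻¹ : ℝ) : ℂ) := by
        intro x
        have h2 := Subgroup.index_mul_card (Subgroup.centralizer ({x} : Set G))
        have h3 : (Nat.card G : ℂ) = ((Subgroup.centralizer ({x} : Set G)).index : ℂ) *
            (Nat.card (Subgroup.centralizer ({x} : Set G)) : ℂ) := by
          rw [← h2]; push_cast; rfl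
        have h4 : (Nat.card (Subgroup.centralizer ({x} : Set G)) : ℂ) ≠ 0 := by
          have : 0 < Nat.card (Subgroup.centralizer ({x} : Set G)) := Nat.card_pos
          exact_mod_cast this.ne'
        have h5 : ((Subgroup.centralizer ({x} : Set G)).index : ℂ) ≠ 0 := by
          have : (Subgroup.centralizer ({x} : Set G)).index ≠ 0 := Subgroup.index_ne_zero_of_finite
          exact_mod_cast this
        rw [h3]
        push_cast
        field_simp
      simp_rw [h1] at hcls
      rw [← Complex.ofReal_sum] at hcls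
      have h6 : ((Fintype.card (ConjClasses G) : ℂ)) = (((Fintype.card (ConjClasses G) : ℝ)) : ℂ) := by
        push_cast; rfl
      rw [h6] at hcls
      exact Complex.ofReal_injective hcls
    -- split off x = 1
    have hone : ((Subgroup.centralizer ({(1 : G)} : Set G)).index : ℝ)⁻¹ = 1 := by
      rw [Cfsg.Agent.Helper6.centralizer_one, Subgroup.index_top]
      simp
    rw [← Finset.add_sum_erase Finset.univ _ (Finset.mem_univ (1 : G)), hone] at hcls'
    have hlt : ∑ x ∈ Finset.univ.erase (1 : G),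
        ((Subgroup.centralizer ({x} : Set G)).index : ℝ)⁻¹ <
        ∑ x ∈ Finset.univ.erase (1 : G), (α ^ 2)⁻¹ := by
      apply Finset.sum_lt_sum_of_nonempty
      · have : 1 < Fintype.card G := by
          rw [← Nat.card_eq_fintype_card]
          have : (2 : ℝ) ≤ (Nat.card G : ℝ) := hg2
          have h2 : 2 ≤ Nat.card G := by exact_mod_cast this
          omega
        obtain ⟨x, hx⟩ := Fintype.exists_ne_of_one_lt_card this (1 : G)
        exact ⟨x, Finset.mem_erase.mpr ⟨hx, Finset.mem_univ _⟩⟩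
      · intro x hx
        have hx1 := (Finset.mem_erase.mp hx).1
        exact inv_strictAnti₀ (by positivity) (hcon' x hx1)
    rw [Finset.sum_const, Finset.card_erase_of_mem (Finset.mem_univ _), Finset.card_univ,
      nsmul_eq_mul] at hlt
    have hG1 : ((Fintype.card G - 1 : ℕ) : ℝ) = gN - 1 := by
      rw [hgN, Nat.card_eq_fintype_card]
      have : 1 ≤ Fintype.card G := Fintype.card_pos
      push_cast [Nat.cast_sub this]
      ring
    rw [hG1] at hlt
    -- (g-1)/α² = t²/(g-1)
    have hg1pos : 0 < gN - 1 := by linarith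
    have h7 : (gN - 1) * (α ^ 2)⁻¹ = (t : ℝ) ^ 2 / (gN - 1) := by
      rw [hα]
      field_simp
    rw [h7] at hlt
    have h8 : (t : ℝ) ^ 2 / (gN - 1) ≤ (R.card : ℝ) := by
      rw [div_le_iff₀ hg1pos]
      exact hCS
    linarith
  · -- part (b)
    by_contra hcon
    push Not at hcon
    have hcon' : ∀ χ ∈ R, α < (dn χ : ℝ) := by
      intro χ hχ
      obtain ⟨h1, h2⟩ := (hRmem χ).mp hχ
      have h := hcon χ h1 h2
      rw [hcd χ] at h
      have h3 : ((((Nat.card G : ℚ) - 1) / t : ℚ) : ℝ) < (((dn χ : ℕ) : ℚ) : ℝ) := by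
        exact_mod_cast h
      rw [hα, hgN]
      push_cast at h3
      exact h3
    have hRne : R.Nonempty := by
      by_contra hne
      rw [Finset.not_nonempty_iff_eq_empty] at hne
      rw [hne, Finset.sum_empty] at hbound
      linarith
    have hlt : ∑ χ ∈ R, α * (dn χ : ℝ) < ∑ χ ∈ R, (dn χ : ℝ) ^ 2 := by
      apply Finset.sum_lt_sum_of_nonempty hRne
      intro χ hχ
      have h1 := hcon' χ hχ
      have h2 : (0 : ℝ) < (dn χ : ℝ) := by exact_mod_cast hdnpos χ
      nlinarith
    rw [← Finset.mul_sum] at hlt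
    have h3 : α * ∑ χ ∈ R, (dn χ : ℝ) < α * t := by
      rw [hαt]
      linarith
    have h4 := lt_of_mul_lt_mul_left h3 hαpos.le
    linarith

end Cfsg.Agent.S4476
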