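import Cfsg.Statements.S4490
import Mathlib
import Cfsg.Agent.Helper6.RealBlockC
-- import your own Cfsg.Agent.* helpers here

set_option autoImplicit false
open Cfsg

namespace Cfsg.Agent.S4490

/-- Let G be a finite group and M a maximal ideal of the algebraic integers containing 2. Every 2-block B of G whose defect groups are the Sylow 2-subgroups of G (a block of full defect) and which is not the principal block is different from its complex-conjugate block, the block formed by the complex conjugates of the members of B. -/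
theorem result {G : Type*} [Group G] [Finite G] (M : Ideal Cfsg.AlgInt) (hM : Cfsg.IsPModular 2 M) (B : Set (Cfsg.IrrCharacter G)) (hB : Cfsg.IsPBlock M B) (P : Sylow 2 G) (hfull : Cfsg.IsDefectGroup 2 M B (P : Subgroup G)) (hnp : B ≠ Cfsg.principalBlock M G) : {ψ : Cfsg.IrrCharacter G | ∃ χ ∈ B, (ψ : G → ℂ) = fun g => (starRingEnd ℂ) ((χ : G → ℂ) g)} ≠ B := by
  classical
  intro hEq
  apply hnp
  haveI : Fact (Nat.Prime 2) := ⟨Nat.prime_two⟩
  have hdef : Cfsg.blockDefect 2 B = (Nat.card G).factorization 2 := by
    have h := Helper6.card_defectGroup hM.2.1 2 hM.2.2 B hB _ hfull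
    rw [Sylow.card_eq_multiplicity] at h
    exact (Nat.pow_right_injective (le_refl 2) h).symm
  refine Helper6.eq_principalBlock_of_stable hM B hB hdef
    (fun χ => ⟨fun g => (starRingEnd ℂ) ((χ : G → ℂ) g), Helper6.conj_isIrr χ.2⟩) ?_ ?_ ?_
  · intro χ ψ h
    apply Subtype.ext
    funext g
    have h' := congrFun (congrArg Subtype.val h) g
    exact (starRingEnd ℂ).injective h'
  · intro χ hχ
    exact (Set.ext_iff.mp hEq _).mp ⟨χ, hχ, rfl⟩
  · intro χ g _
    change (starRingEnd ℂ) ((χ : G → ℂ) g) = (χ : G → ℂ) g⁻¹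
    exact (Helper6.IsCharacter.inv_eq_conj (Helper6.IsIrrCharacter.isCharacter χ.2) g).symm

end Cfsg.Agent.S4490
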