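import Cfsg.Statements.S4499
import Mathlib
import Cfsg.Agent.Helper6.BrauerFeitC
-- import your own Cfsg.Agent.* helpers here

set_option autoImplicit false
open Cfsg

namespace Cfsg.Agent.S4499

/-- Let G be a finite group whose order has p-part p^a (a ≥ 1), and fix a maximal ideal M of the algebraic integers containing p. If the degree of one irreducible character of a p-block B is divisible by p^(a−1), then the degree of every irreducible character in B is divisible by p^(a−1) (so B has defect at most 1). -/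
theorem result {G : Type*} [Group G] [Finite G] (p : ℕ) [Fact p.Prime] (M : Ideal Cfsg.AlgInt) (hM : Cfsg.IsPModular p M) (hpa : p ∣ Nat.card G) (B : Set (Cfsg.IrrCharacter G)) (hB : Cfsg.IsPBlock M B) (χ : Cfsg.IrrCharacter G) (hχ : χ ∈ B) (hdiv : p ^ ((Nat.card G).factorization p - 1) ∣ Cfsg.charDegree (χ : G → ℂ)) (ψ : Cfsg.IrrCharacter G) (hψ : ψ ∈ B) : p ^ ((Nat.card G).factorization p - 1) ∣ Cfsg.charDegree (ψ : G → ℂ) := by
  classical
  have hp : p.Prime := Fact.out
  obtain ⟨a, ha⟩ : ∃ a : ℕ, a = (Nat.card G).factorization p := ⟨_, rfl⟩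
  rw [← ha] at hdiv ⊢
  have hd0 := Helper6.charDegree_ne_zero_of_irr χ.2
  have hd0ψ := Helper6.charDegree_ne_zero_of_irr ψ.2
  have hv1 : a - 1 ≤ (Cfsg.charDegree (χ : G → ℂ)).factorization p :=
    (Nat.Prime.pow_dvd_iff_le_factorization hp hd0).mp hdiv
  have hv2 : (Cfsg.charDegree (χ : G → ℂ)).factorization p ≤ a := by
    rw [ha]
    exact (Nat.factorization_le_iff_dvd hd0 Nat.card_pos.ne').mpr
      (Helper6.charDegree_dvd_card χ.2) p
  have ha1 : 1 ≤ a := by
    rw [ha]
    exact (Nat.Prime.dvd_iff_one_le_factorization hp Nat.card_pos.ne').mp hpa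
  by_cases hcase : (Cfsg.charDegree (χ : G → ℂ)).factorization p = a
  · have hdvd := Helper6.charDegree_dvd_card χ.2
    have hq0 : Nat.card G / Cfsg.charDegree (χ : G → ℂ) ≠ 0 := by
      intro h0
      have := Nat.div_mul_cancel hdvd
      rw [h0, zero_mul] at this
      exact Nat.card_pos.ne' this.symm
    have hnd : ¬ p ∣ Nat.card G / Cfsg.charDegree (χ : G → ℂ) := by
      intro h
      have h1 : (Nat.card G / Cfsg.charDegree (χ : G → ℂ)).factorization p = 0 := by
        rw [Nat.factorization_div hdvd, Finsupp.tsub_apply, ← ha, hcase, Nat.sub_self]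
      have := (Nat.Prime.dvd_iff_one_le_factorization hp hq0).mp h
      omega
    have hsing := Helper6.blockOf_eq_singleton_of_not_dvd hM.2.1 p hp hM.2.2 χ hnd
    have hBeq := Helper6.eq_blockOf_of_mem hM.2.1 B hB χ hχ
    rw [hBeq, hsing] at hψ
    rw [Set.mem_singleton_iff.mp hψ]
    exact hdiv
  · have hval : (Cfsg.charDegree (χ : G → ℂ)).factorization p + 1 =
        (Nat.card G).factorization p := by
      rw [← ha]
      omega
    have := Helper6.degree_le_of_defect_one hM B hB χ hχ hval ψ hψ
    exact (Nat.Prime.pow_dvd_iff_le_factorization hp hd0ψ).mpr (by omega)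

end Cfsg.Agent.S4499
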