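-- Statement S4502 (row 4502): the theorem Cfsg.chr_prime_to_first_power_p_prime_degree_count (McKay for p ∥ |G|).
-- Proof: the defect-one theory (Cfsg/Agent/D1, D1C): l(B) = e_B for every block of defect one, hence
-- k(N/P) + z(G) = l(G); the p-singular classes of G and N_G(P) correspond (Burnside).
import Cfsg.Statements.S4502
import Cfsg.Agent.D1C.McKayB
import Cfsg.Agent.D1C.Hsec
import Cfsg.Agent.Helper6.PowCongr

set_option autoImplicit false
open Cfsg

namespace Cfsg.Agent.S4502

/-- Let G be a finite group whose order is divisible by the prime p exactly once, and let P be a Sylow p-subgroup. Then the number of irreducible characters of G of degree not divisible by p equals the number of conjugacy classes of the normalizer of P. -/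
theorem result {G : Type*} [Group G] [Finite G] (p : ℕ) [Fact p.Prime] (hdiv : p ∣ Nat.card G) (hsq : ¬ p ^ 2 ∣ Nat.card G) (P : Sylow p G) : Nat.card {χ : Cfsg.IrrCharacter G // ¬ p ∣ Cfsg.charDegree (χ : G → ℂ)} = Nat.card (ConjClasses (Subgroup.normalizer ((P : Subgroup G) : Set G))) := by
  obtain ⟨M, hM⟩ := Cfsg.Agent.Helper6.exists_isPModular p (Fact.out : p.Prime)
  have hP : Nat.card P = p := Cfsg.Agent.D1.d1_mck_card_sylow p hdiv hsq P
  exact Cfsg.Agent.D1.d1_mck_of_sec p hM P hP (Cfsg.Agent.D1.d1_hsec p hM P hP)

end Cfsg.Agent.S4502
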