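import Cfsg.Statements.S4507
import Cfsg.Agent.D1C.Gal6D
import Cfsg.Agent.D1C.GalX
import Cfsg.Agent.D1C.Fin4507
import Cfsg.Agent.D1C.McKay
import Cfsg.Agent.D1C.IneH

set_option autoImplicit false
open Cfsg

namespace Cfsg.Agent.S4507

open Cfsg.Agent.D1 Cfsg.Agent.Helper6 in
/-- Let G be a finite group whose order g is divisible by the prime p exactly once, g′ = g/p, and fix a maximal ideal M of the algebraic integers containing p. Call two irreducible characters p-conjugate when a field automorphism of ℂ fixing the g′-th roots of unity carries one to the other. Let B be a p-block of positive defect (its defect group is a Sylow p-subgroup). Then B contains a subset Y (the exceptional family) such that: Y is a full p-conjugacy class (its members are pairwise p-conjugate and every p-conjugate of a member of Y lies in Y); every member of B outside Y is p-conjugate only to itself; the size t of Y divides p − 1 and B has exactly t + (p − 1)/t members;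 and there are signs δ_χ = ±1 (χ ∈ B) such that for every p-regular element x and every θ ∈ Y, Σ_{χ ∈ B ∖ Y} δ_χ χ(x) + δ_θ θ(x) = 0. -/
theorem result {G : Type*} [Group G] [Finite G] (p : ℕ) [Fact p.Prime] (M : Ideal Cfsg.AlgInt) (hM : Cfsg.IsPModular p M) (hdiv : p ∣ Nat.card G) (hsq : ¬ p ^ 2 ∣ Nat.card G) (B : Set (Cfsg.IrrCharacter G)) (hB : Cfsg.IsPBlock M B) (hd : 0 < Cfsg.blockDefect p B) : ∃ Y : Set (Cfsg.IrrCharacter G), Y ⊆ B ∧ Y.Nonempty ∧ (∀ θ ∈ Y, ∀ ψ : Cfsg.IrrCharacter G, (∃ σ : ℂ ≃+* ℂ, σ (Complex.exp (2 * Real.pi * Complex.I / ((Nat.card G / p ^ (Nat.card G).factorization p) : ℕ))) = Complex.exp (2 * Real.pi * Complex.I / ((Nat.card G / p ^ (Nat.card G).factorization p) : ℕ)) ∧ (ψ : G → ℂ) = fun g => σ ((θ : G → ℂ) g)) ↔ ψ ∈ Y) ∧ (∀ χ ∈ B, χ ∉ Y → ∀ ψ : Cfsg.IrrCharacter G, (∃ σ : ℂ ≃+* ℂ, σ (Complex.exp (2 * Real.pi * Complex.I / ((Nat.card G / p ^ (Nat.card G).factorization p) : ℕ))) = Complex.exp (2 * Real.pi * Complex.I / ((Nat.card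 G / p ^ (Nat.card G).factorization p) : ℕ)) ∧ (ψ : G → ℂ) = fun g => σ ((χ : G → ℂ) g)) → ψ = χ) ∧ Nat.card Y ∣ p - 1 ∧ Nat.card B = Nat.card Y + (p - 1) / Nat.card Y ∧ ∃ δ : Cfsg.IrrCharacter G → ℤ, (∀ χ ∈ B, δ χ = 1 ∨ δ χ = -1) ∧ ∀ x : G, ¬ p ∣ orderOf x → ∀ θ ∈ Y, (∑ᶠ χ ∈ B \ Y, (δ χ : ℂ) * (χ : G → ℂ) x) + (δ θ : ℂ) * (θ : G → ℂ) x = 0 := by
  classical
  -- a Sylow `p`-subgroup, of order `p`, is a defect group of `B`
  obtain ⟨P⟩ : Nonempty (Sylow p G) := inferInstance
  have hP : Nat.card P = p := d1_mck_card_sylow p hdiv hsq P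
  have hBP : Cfsg.IsDefectGroup p M B (P : Subgroup G) := by
    rcases d1_glob_block_cases p hM P hP B hB with h | ⟨χ, hχ, hdvd⟩
    · exact h
    · exfalso
      have hne : B.Nonempty := ⟨χ, by rw [hχ]; exact Set.mem_singleton χ⟩
      have h0 : Cfsg.blockDefect p B = 0 :=
        (blockDefect_eq_zero_iff p B hne).mpr (by
          intro ψ hψ
          rw [hχ] at hψ
          rw [Set.mem_singleton_iff.mp hψ]
          exact hdvd)
      omega
  -- a root, the setup and the concrete structure theorem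
  obtain ⟨b, θ, hroot⟩ := d1_ine_Hroot p hM P hP B hB hBP
  obtain ⟨τ, S⟩ := d1_sec_exists_setup P hP
  have : Fintype ↥(Subgroup.centralizer ((P : Subgroup G) : Set G)) := Fintype.ofFinite _
  obtain ⟨X, Y, w, δ, jj, hXY, hdisj, hX, hY, hw, hδ, hvX, hvY, hbij⟩ :=
    d1_conc_split p hM P hP S B hB hBP b θ hroot
  have htail := d1_fin_s4507_tail p hM P hP S B hB hBP b θ hroot X Y w δ jj hXY hdisj hX hY hw hδ
    hvX hvY hbij
  have hgal := d1_gal_conc_galois p hM P S B hB hBP b θ hroot X Y w δ jj hXY hw hδ hvX hvY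
  have hYB : Y ⊆ B := by rw [hXY]; exact Set.subset_union_right
  have hYne : Y.Nonempty := by
    rcases Set.eq_empty_or_nonempty Y with h | h
    · exfalso
      rw [h] at hY
      have h0 : Nat.card (∅ : Set (Cfsg.IrrCharacter G)) = 0 := Nat.card_of_isEmpty
      rw [h0, zero_mul] at hY
      have := (Fact.out : p.Prime).two_le
      omega
    · exact h
  refine ⟨Y, hYB, hYne, ?_, ?_, htail⟩
  · intro θ' hθ' ψ
    constructor
    · rintro ⟨σ, hfix, hψ⟩
      have h1 : ψ = d1_galc_irr σ θ' := Subtype.ext hψ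
      rw [h1]
      exact ((hgal σ hfix).2 θ' hθ').1
    · intro hψ
      obtain ⟨σ, hfix, hσ⟩ := d1_galx_trans_J p P hP S θ (jj θ') (jj ψ)
      refine ⟨σ, hfix, ?_⟩
      obtain ⟨h1, h2⟩ := (hgal σ hfix).2 θ' hθ'
      have h3 : d1_galc_irr σ θ' = ψ := hbij.injOn h1 hψ (by rw [h2, hσ])
      rw [← h3]
      rfl
  · intro χ hχ hχY ψ
    rintro ⟨σ, hfix, hψ⟩
    have hχX : χ ∈ X := by
      rw [hXY] at hχ
      rcases hχ with h | h
      · exact h
      · exact absurd h hχY
    have h1 : ψ = d1_galc_irr σ χ := Subtype.ext hψ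
    rw [h1]
    exact (hgal σ hfix).1 χ hχX

end Cfsg.Agent.S4507
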