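import Cfsg.Statements.S4508
import Mathlib
import Cfsg.Agent.Lead.SelfCentP
import Cfsg.Agent.Helper6.ScDetA
import Cfsg.Agent.Helper6.ScDetB
import Cfsg.Agent.Helper6.ScDetC
import Cfsg.Agent.Helper6.ScDetF
-- import your own Cfsg.Agent.* helpers here

set_option autoImplicit false
open Cfsg

namespace Cfsg.Agent.S4508

/-- Let the finite group G contain an element x of prime order p with C_G(x) = ⟨x⟩, and let t be the number of conjugacy classes of elements of order p. If G has an irreducible character of degree p − 1, then t is even or the commutator subgroup has even index. -/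
theorem result {G : Type*} [Group G] [Finite G] (p : ℕ) (hp : p.Prime) (x : G) (hx : orderOf x = p) (hC : Subgroup.centralizer ({x} : Set G) = Subgroup.zpowers x) (t : ℕ) (ht : Nat.card {C : ConjClasses G // ∃ g ∈ C.carrier, orderOf g = p} = t) (χ : Cfsg.IrrCharacter G) (hχ : Cfsg.charDegree (χ : G → ℂ) + 1 = p) : Even t ∨ Even (commutator G).index := by
  classical
  haveI : Fact p.Prime := ⟨hp⟩
  haveI : Fintype G := Fintype.ofFinite G
  have hcount := Cfsg.Agent.Lead.SelfCentP.count p x hx hC
  rw [ht] at hcount
  by_cases hte : Even t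
  · left; exact hte
  right
  have htodd : Odd t := Nat.not_even_iff_odd.mp hte
  rcases hp.eq_two_or_odd' with h2 | hpodd
  · subst h2
    have he1 : (Subgroup.zpowers x).relIndex
        (Subgroup.normalizer ((Subgroup.zpowers x : Subgroup G) : Set G)) = 1 :=
      Nat.eq_one_of_mul_eq_one_left hcount
    rw [Cfsg.Agent.Lead.SelfCentP.index_commutator_of_relIndex_eq_one 2 x hx hC he1]
    exact even_two
  · have hp3 : 3 ≤ p := by
      have := hp.two_le
      obtain ⟨k, hk⟩ := hpodd
      omega
    have hpe : Even (p - 1) := by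
      obtain ⟨k, hk⟩ := hpodd
      exact ⟨k, by omega⟩
    have heven : Even ((Subgroup.zpowers x).relIndex
        (Subgroup.normalizer ((Subgroup.zpowers x : Subgroup G) : Set G))) := by
      have h1 : Even (t * (Subgroup.zpowers x).relIndex
          (Subgroup.normalizer ((Subgroup.zpowers x : Subgroup G) : Set G))) := by
        rw [hcount]; exact hpe
      exact (Nat.even_mul.mp h1).resolve_left hte
    have he2 : 2 ≤ (Subgroup.zpowers x).relIndex
        (Subgroup.normalizer ((Subgroup.zpowers x : Subgroup G) : Set G)) := by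
      obtain ⟨m, hm⟩ := heven
      have hne : (Subgroup.zpowers x).relIndex
          (Subgroup.normalizer ((Subgroup.zpowers x : Subgroup G) : Set G)) ≠ 0 := by
        intro h0
        rw [h0, mul_zero] at hcount
        omega
      omega
    obtain ⟨y, hyN, hyord, hypow⟩ := Helper6.exists_generator_mod p x hx hC he2
    obtain ⟨n, ρ, hirr, hρ⟩ := χ.2
    have hn : n + 1 = p := by
      rw [← hχ, ← hρ, Helper6.charDegree_rep]
    have hcardK : Nat.card (Subgroup.zpowers x) = p := by rw [Nat.card_zpowers, hx]
    have hdeg : (χ : G → ℂ) 1 + 1 = (Nat.card (Subgroup.zpowers x) : ℂ) := by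
      rw [hcardK, ← hρ, Representation.char_one, Module.finrank_fin_fun, ← hn]
      push_cast
      ring
    have hTI : ∀ g : G, g ∉ Subgroup.normalizer ((Subgroup.zpowers x : Subgroup G) : Set G) →
        ∀ k ∈ Subgroup.zpowers x, g * k * g⁻¹ ∈ Subgroup.zpowers x → k = 1 := by
      intro g hg k hk hconj
      by_contra hk1
      exact hg (Cfsg.Agent.Lead.SelfCentP.mem_normalizer_of_conj p x hx hk hk1 hconj)
    have hC' : ∀ k ∈ Subgroup.zpowers x, k ≠ 1 →
        Subgroup.centralizer ({k} : Set G) ≤ Subgroup.zpowers x := by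
      intro k hk hk1
      rw [Cfsg.Agent.Lead.SelfCentP.centralizer_eq_of_mem p x hx hC hk hk1]
    have hab : ∀ a ∈ Subgroup.zpowers x, ∀ b ∈ Subgroup.zpowers x, a * b = b * a := by
      intro a ha b hb
      obtain ⟨i, rfl⟩ := Subgroup.mem_zpowers_iff.mp ha
      obtain ⟨j, rfl⟩ := Subgroup.mem_zpowers_iff.mp hb
      exact ((Commute.refl x).zpow_zpow i j).eq
    have hdvd : (Subgroup.zpowers x).relIndex
        (Subgroup.normalizer ((Subgroup.zpowers x : Subgroup G) : Set G)) ∣
        Nat.card (Subgroup.zpowers x) - 1 := by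
      rw [hcardK, ← hcount]
      exact dvd_mul_left _ _
    have hvan := Helper6.sc_vanish_off (Subgroup.zpowers x) hTI hC' hab (χ : G → ℂ) χ.2 hdeg he2 hdvd
    have hdim : Module.finrank ℂ (Fin n → ℂ) = orderOf y * t := by
      rw [Module.finrank_fin_fun, hyord, mul_comm, hcount]
      omega
    have hvan' : ∀ j, 0 < j → j < orderOf y → ρ.character (y ^ j) = 0 := by
      intro j hj hje
      rw [hρ]
      apply hvan (y ^ j) (Subgroup.pow_mem _ hyN j)
      exact hypow j hj (by rw [← hyord]; exact hje)
    have hdet := Helper6.det_eq_neg_one_of_vanishing ρ y t hdim (by rw [hyord]; exact heven)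
      htodd hvan'
    exact Helper6.even_index_commutator_of_det ρ y hdet

end Cfsg.Agent.S4508
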