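import Cfsg.Statements.S4539
import Cfsg.Agent.Helper6.Q2o
import Cfsg.Agent.Helper6.DefectCenter
import Cfsg.Agent.Helper6.DefectOneTwoB

set_option autoImplicit false
open Cfsg

namespace Cfsg.Agent.S4539

/-- Let B be a p-block of the finite group G (relative to a maximal ideal M of the algebraic integers containing p) of defect d with defect group D. Let z be an element of D commuting with every element of D, and let b be a block of the centralizer C of z with defect group D that induces B (a major subsection (z, b)). If b has p-regular rank at most two, then B contains at most p ^ d irreducible characters. -/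
theorem result {G : Type*} [Group G] [Finite G] (p : ℕ) [Fact p.Prime] (M : Ideal Cfsg.AlgInt) (hM : Cfsg.IsPModular p M) (B : Set (Cfsg.IrrCharacter G)) (hB : Cfsg.IsPBlock M B) (D : Subgroup G) (hD : Cfsg.IsDefectGroup p M B D) (z : G) (hzD : z ∈ D) (hzc : ∀ d ∈ D, d * z = z * d) (b : Set (Cfsg.IrrCharacter ↥(Subgroup.centralizer ({z} : Set G)))) (hb : Cfsg.IsInducedBlock M (Subgroup.centralizer ({z} : Set G)) b B) (hbD : Cfsg.IsDefectGroup p M b (D.subgroupOf (Subgroup.centralizer ({z} : Set G)))) (hl : Cfsg.blockRank p b ≤ 2) : Nat.card B ≤ p ^ Cfsg.blockDefect p B := by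
  have hp : p.Prime := Fact.out
  have hDC : D ≤ Subgroup.centralizer ({z} : Set G) := by
    intro d hd
    rw [Subgroup.mem_centralizer_singleton_iff]
    exact hzc d hd
  have hcardD := Cfsg.Agent.Helper6.card_defectGroup hM.2.1 p hM.2.2 B hB D hD
  have hcardb := Cfsg.Agent.Helper6.card_defectGroup hM.2.1 p hM.2.2 b hb.1 _ hbD
  have h3 : Nat.card ↥(D.subgroupOf (Subgroup.centralizer ({z} : Set G))) = Nat.card ↥D :=
    Nat.card_congr (Subgroup.subgroupOfEquivOfLe hDC).toEquiv
  have hmaj : Cfsg.blockDefect p b = Cfsg.blockDefect p B := by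
    have h4 : p ^ Cfsg.blockDefect p b = p ^ Cfsg.blockDefect p B := by
      rw [← hcardb, h3, hcardD]
    exact Nat.pow_right_injective hp.two_le h4
  have hy : ∃ k : ℕ, orderOf z = p ^ k := by
    have hDp : IsPGroup p D := Cfsg.Agent.Helper6.IsDefectGroup.isPGroup hM B hB D hD
    obtain ⟨k, hk⟩ := hDp ⟨z, hzD⟩
    have h5 : z ^ p ^ k = 1 := by
      have := congrArg Subtype.val hk
      simpa using this
    obtain ⟨m, _, hm⟩ := (Nat.dvd_prime_pow hp).mp (orderOf_dvd_of_pow_eq_one h5)
    exact ⟨m, hm⟩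
  obtain ⟨θ₁, hθ₁⟩ : ∃ θ₁ : Cfsg.IrrCharacter ↥(Subgroup.centralizer ({z} : Set G)), θ₁ ∈ b := by
    obtain ⟨θ₁, hb1⟩ := hb.1
    exact ⟨θ₁, hb1 ▸ Cfsg.Agent.Helper6.mem_blockOf_self hM.2.1 θ₁⟩
  have hpos := Cfsg.Agent.Helper6.blockRank_pos p b θ₁ hθ₁
  have hcases : Cfsg.blockRank p b = 1 ∨ Cfsg.blockRank p b = 2 := by omega
  rcases hcases with h1 | h2
  · exact Cfsg.Agent.Helper6.NilAb.card_le_of_major_rank_one hM B hB z hy b hb hmaj h1
  · exact Cfsg.Agent.Helper6.Q2.card_le_of_major_rank_two hM B hB z hy _ rfl b hb hmaj h2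

end Cfsg.Agent.S4539
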