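import Cfsg.Statements.S4540
import Cfsg.Agent.Helper6.Q3j
import Cfsg.Agent.Helper6.DefectCenter

set_option autoImplicit false
open Cfsg

namespace Cfsg.Agent.S4540

/-- Let B be a 2-block of the finite group G (relative to a maximal ideal M of the algebraic integers containing 2) of defect d with defect group D. Let z be an element of D commuting with every element of D, and let b be a block of the centralizer C of z with defect group D that induces B (a major subsection (z, b)). If b has 2-regular rank at most three, then 3·k(B) ≤ 3·k₀(B) + 2·Σ 2 ^ h(χ), where k(B) is the number of members of B, k₀(B) the number of members of height zero, and the sum runs over the members χ of B of positive height h(χ); this bound is at most 3·2 ^ d, so in particular B contains at most 2 ^ d irreducible characters. -/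
theorem result {G : Type*} [Group G] [Finite G] (M : Ideal Cfsg.AlgInt) (hM : Cfsg.IsPModular 2 M) (B : Set (Cfsg.IrrCharacter G)) (hB : Cfsg.IsPBlock M B) (D : Subgroup G) (hD : Cfsg.IsDefectGroup 2 M B D) (z : G) (hzD : z ∈ D) (hzc : ∀ d ∈ D, d * z = z * d) (b : Set (Cfsg.IrrCharacter ↥(Subgroup.centralizer ({z} : Set G)))) (hb : Cfsg.IsInducedBlock M (Subgroup.centralizer ({z} : Set G)) b B) (hbD : Cfsg.IsDefectGroup 2 M b (D.subgroupOf (Subgroup.centralizer ({z} : Set G)))) (hl : Cfsg.blockRank 2 b ≤ 3) : 3 * Nat.card B ≤ 3 * Nat.card {χ : Cfsg.IrrCharacter G // χ ∈ B ∧ Cfsg.blockHeight 2 B (χ : G → ℂ) = 0} + 2 * (∑ᶠ χ ∈ {χ : Cfsg.IrrCharacter G | χ ∈ B ∧ 1 ≤ Cfsg.blockHeight 2 B (χ : G → ℂ)}, 2 ^ Cfsg.blockHeight 2 B (χ : G → ℂ)) ∧ 3 * Nat.card {χ : Cfsg.IrrCharacter G // χ ∈ B ∧ Cfsg.blockHeight 2 B (χ : G → ℂ) = 0} + 2 * (∑ᶠ χ ∈ {χ : Cfsg.IrrCharacter G | χ ∈ B ∧ 1 ≤ Cfsg.blockHeight 2 B (χ : G → ℂ)}, 2 ^ Cfsg.blockHeight 2 B (χ : G → ℂ)) ≤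 3 * 2 ^ Cfsg.blockDefect 2 B := by
  have hDC : D ≤ Subgroup.centralizer ({z} : Set G) := by
    intro d hd
    rw [Subgroup.mem_centralizer_singleton_iff]
    exact hzc d hd
  have hcardD := Cfsg.Agent.Helper6.card_defectGroup hM.2.1 2 hM.2.2 B hB D hD
  have hcardb := Cfsg.Agent.Helper6.card_defectGroup hM.2.1 2 hM.2.2 b hb.1 _ hbD
  have h3 : Nat.card ↥(D.subgroupOf (Subgroup.centralizer ({z} : Set G))) = Nat.card ↥D :=
    Nat.card_congr (Subgroup.subgroupOfEquivOfLe hDC).toEquiv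
  have hmaj : Cfsg.blockDefect 2 b = Cfsg.blockDefect 2 B := by
    have h4 : 2 ^ Cfsg.blockDefect 2 b = 2 ^ Cfsg.blockDefect 2 B := by
      rw [← hcardb, h3, hcardD]
    exact Nat.pow_right_injective (le_refl 2) h4
  have hy : ∃ k : ℕ, orderOf z = 2 ^ k := by
    have hDp : IsPGroup 2 D := Cfsg.Agent.Helper6.IsDefectGroup.isPGroup hM B hB D hD
    obtain ⟨k, hk⟩ := hDp ⟨z, hzD⟩
    have h5 : z ^ 2 ^ k = 1 := by
      have := congrArg Subtype.val hk
      simpa using this
    obtain ⟨m, _, hm⟩ := (Nat.dvd_prime_pow Nat.prime_two).mp (orderOf_dvd_of_pow_eq_one h5)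
    exact ⟨m, hm⟩
  exact Cfsg.Agent.Helper6.Q3.olsson_bound hM B hB z hy _ rfl b hb hmaj hl

end Cfsg.Agent.S4540
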