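import Cfsg.Statements.S4560
import Cfsg.Agent.Helper6.FourTrG

set_option autoImplicit false
open Cfsg

namespace Cfsg.Agent.S4560

/-- For n ≥ 7 the alternating group on n letters has an irreducible character that vanishes at some 2-element and is the restriction of an irreducible character of the symmetric group, and an irreducible character that vanishes at some element of order 3 and is the restriction of an irreducible character of the symmetric group. -/
theorem result (n : ℕ) (hn : 7 ≤ n) : (∃ χ : Cfsg.IrrCharacter (alternatingGroup (Fin n)), (∃ x : alternatingGroup (Fin n), (∃ j : ℕ, orderOf x = 2 ^ j) ∧ (χ : alternatingGroup (Fin n) → ℂ) x = 0) ∧ ∃ ψ : Cfsg.IrrCharacter (Equiv.Perm (Fin n)), ∀ x : alternatingGroup (Fin n), (ψ : Equiv.Perm (Fin n) → ℂ) x = (χ : alternatingGroup (Fin n) → ℂ) x) ∧ (∃ χ : Cfsg.IrrCharacter (alternatingGroup (Fin n)), (∃ y : alternatingGroup (Fin n), orderOf y = 3 ∧ (χ : alternatingGroup (Fin n) → ℂ) y = 0)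 ∧ ∃ ψ : Cfsg.IrrCharacter (Equiv.Perm (Fin n)), ∀ x : alternatingGroup (Fin n), (ψ : Equiv.Perm (Fin n) → ℂ) x = (χ : alternatingGroup (Fin n) → ℂ) x) := by
  classical
  have hn4 : 4 ≤ Fintype.card (Fin n) := by rw [Fintype.card_fin]; omega
  haveI hS4 : MulAction.IsMultiplyPretransitive (Equiv.Perm (Fin n)) (Fin n) 4 :=
    Equiv.Perm.isMultiplyPretransitive (Fin n) 4
  haveI hA4 : MulAction.IsMultiplyPretransitive (alternatingGroup (Fin n)) (Fin n) 4 := by
    haveI := alternatingGroup.isMultiplyPretransitive (Fin n)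
    exact MulAction.isMultiplyPretransitive_of_le (n := Nat.card (Fin n) - 2)
      (by rw [Nat.card_eq_fintype_card, Fintype.card_fin]; omega)
      (by omega)
  -- the three characters on both groups
  have hstdA := Cfsg.Agent.Helper6.FourTr.isIrr_stdF (G := alternatingGroup (Fin n)) (α := Fin n) hn4
  have hstdS := Cfsg.Agent.Helper6.FourTr.isIrr_stdF (G := Equiv.Perm (Fin n)) (α := Fin n) hn4
  have haA := Cfsg.Agent.Helper6.FourTr.isIrr_aF (G := alternatingGroup (Fin n)) (α := Fin n) hn4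
  have haS := Cfsg.Agent.Helper6.FourTr.isIrr_aF (G := Equiv.Perm (Fin n)) (α := Fin n) hn4
  have hbA := Cfsg.Agent.Helper6.FourTr.isIrr_bF (G := alternatingGroup (Fin n)) (α := Fin n) hn4
  have hbS := Cfsg.Agent.Helper6.FourTr.isIrr_bF (G := Equiv.Perm (Fin n)) (α := Fin n) hn4
  refine ⟨?_, ?_⟩
  · -- 2-elements
    have h4 : n % 4 = 0 ∨ n % 4 = 1 ∨ n % 4 = 2 ∨ n % 4 = 3 := by omega
    rcases h4 with h | h | h | h
    · obtain ⟨x, hord, hf, hs⟩ := Cfsg.Agent.Helper6.FourTr.exists_two_elt n (n / 4)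
        (by omega) (by omega)
      refine ⟨⟨_, haA⟩, ⟨x, hord, ?_⟩, ⟨_, haS⟩, fun y => rfl⟩
      show Cfsg.Agent.Helper6.FourTr.aF (Fin n) x = 0
      unfold Cfsg.Agent.Helper6.FourTr.aF
      rw [hf, hs]
      have : n - 4 * (n / 4) = 0 := by omega
      rw [this]
      simp
    · obtain ⟨x, hord, hf, hs⟩ := Cfsg.Agent.Helper6.FourTr.exists_two_elt n (n / 4)
        (by omega) (by omega)
      refine ⟨⟨_, hstdA⟩, ⟨x, hord, ?_⟩, ⟨_, hstdS⟩, fun y => rfl⟩
      show Cfsg.Agent.Helper6.FourTr.stdF (Fin n) x = 0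
      unfold Cfsg.Agent.Helper6.FourTr.stdF
      rw [hf]
      have : n - 4 * (n / 4) = 1 := by omega
      rw [this]
      simp
    · obtain ⟨x, hord, hf, hs⟩ := Cfsg.Agent.Helper6.FourTr.exists_two_elt n (n / 4)
        (by omega) (by omega)
      refine ⟨⟨_, hbA⟩, ⟨x, hord, ?_⟩, ⟨_, hbS⟩, fun y => rfl⟩
      show Cfsg.Agent.Helper6.FourTr.bF (Fin n) x = 0
      unfold Cfsg.Agent.Helper6.FourTr.bF
      rw [hf, hs]
      have : n - 4 * (n / 4) = 2 := by omega
      rw [this]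
      norm_num
    · obtain ⟨x, hord, hf⟩ := Cfsg.Agent.Helper6.FourTr.exists_two_elt_one_fixed n hn h
      refine ⟨⟨_, hstdA⟩, ⟨x, hord, ?_⟩, ⟨_, hstdS⟩, fun y => rfl⟩
      show Cfsg.Agent.Helper6.FourTr.stdF (Fin n) x = 0
      unfold Cfsg.Agent.Helper6.FourTr.stdF
      rw [hf]
      simp
  · -- elements of order 3
    obtain ⟨x, hord, hf, hs⟩ := Cfsg.Agent.Helper6.FourTr.exists_three_elt n (n / 3)
      (by omega) (by omega)
    have h3 : n % 3 = 0 ∨ n % 3 = 1 ∨ n % 3 = 2 := by omega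
    rcases h3 with h | h | h
    · refine ⟨⟨_, haA⟩, ⟨x, hord, ?_⟩, ⟨_, haS⟩, fun y => rfl⟩
      show Cfsg.Agent.Helper6.FourTr.aF (Fin n) x = 0
      unfold Cfsg.Agent.Helper6.FourTr.aF
      rw [hf, hs]
      have : n - 3 * (n / 3) = 0 := by omega
      rw [this]
      simp
    · refine ⟨⟨_, hbA⟩, ⟨x, hord, ?_⟩, ⟨_, hbS⟩, fun y => rfl⟩
      show Cfsg.Agent.Helper6.FourTr.bF (Fin n) x = 0
      unfold Cfsg.Agent.Helper6.FourTr.bF
      rw [hf, hs]
      have : n - 3 * (n / 3) = 1 := by omega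
      rw [this]
      norm_num
    · refine ⟨⟨_, hbA⟩, ⟨x, hord, ?_⟩, ⟨_, hbS⟩, fun y => rfl⟩
      show Cfsg.Agent.Helper6.FourTr.bF (Fin n) x = 0
      unfold Cfsg.Agent.Helper6.FourTr.bF
      rw [hf, hs]
      have : n - 3 * (n / 3) = 2 := by omega
      rw [this]
      norm_num

end Cfsg.Agent.S4560
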