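import Cfsg.Statements.S4565
import Mathlib
import Cfsg.Agent.Helper6.FullyRamA
-- import your own Cfsg.Agent.* helpers here

set_option autoImplicit false
open Cfsg

namespace Cfsg.Agent.S4565

/-- Let χ be an irreducible character of the finite group H that is fully ramified over the normal subgroup Z: the restriction of χ to Z is e times an irreducible character of Z with e ^ 2 equal to the index of Z. If Z ≠ H, then H/Z has no cyclic subgroup that is its own centralizer. -/
theorem result {H : Type*} [Group H] [Finite H] (Z : Subgroup H) [Z.Normal] (χ : Cfsg.IrrCharacter H) (hfr : ∃ (θ : Cfsg.IrrCharacter ↥Z) (e : ℕ), e ^ 2 = Z.index ∧ ∀ z : ↥Z, (χ : H → ℂ) z = (e : ℂ) * (θ : ↥Z → ℂ) z) (hZ : Z ≠ ⊤) (C : Subgroup (H ⧸ Z)) (hC : IsCyclic C) : Subgroup.centralizer (C : Set (H ⧸ Z)) ≠ C := by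
  classical
  haveI := Fintype.ofFinite H
  haveI : Fintype Z := Fintype.ofFinite _
  obtain ⟨θ, e, he, hres⟩ := hfr
  intro hcen
  obtain ⟨c, hc⟩ := hC.exists_generator
  obtain ⟨g, hg⟩ := QuotientGroup.mk_surjective (c : H ⧸ Z)
  have hCz : C = Subgroup.zpowers (g : H ⧸ Z) := by
    apply le_antisymm
    · intro y hy
      have := hc ⟨y, hy⟩
      obtain ⟨k, hk⟩ := Subgroup.mem_zpowers_iff.mp this
      rw [hg]
      refine Subgroup.mem_zpowers_iff.mpr ⟨k, ?_⟩
      have := congrArg Subtype.val hk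
      simpa using this
    · rw [Subgroup.zpowers_le, hg]
      exact c.2
  rw [hCz] at hcen
  have hgZ := Helper6.mem_of_fullyRamified_of_centralizer_zpowers Z (θ : Z → ℂ) θ.2
    (χ : H → ℂ) χ.2 e he hres g hcen
  have h1 : (g : H ⧸ Z) = 1 := (QuotientGroup.eq_one_iff g).mpr hgZ
  rw [h1, Subgroup.zpowers_one_eq_bot] at hcen
  have h2 : (⊤ : Subgroup (H ⧸ Z)) = ⊥ := by
    rw [← hcen]
    symm
    rw [eq_top_iff]
    intro y _
    rw [Subgroup.mem_centralizer_iff]
    intro x hx
    have : x = 1 := by simpa using hx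
    rw [this]
    simp
  apply hZ
  rw [eq_top_iff]
  intro x _
  have : (x : H ⧸ Z) ∈ (⊥ : Subgroup (H ⧸ Z)) := by
    rw [← h2]
    exact Subgroup.mem_top _
  rw [Subgroup.mem_bot] at this
  exact (QuotientGroup.eq_one_iff x).mp this

end Cfsg.Agent.S4565
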