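import Cfsg.Statements.S4566
import Mathlib
import Cfsg.Agent.Helper6.FullyRamified
import Cfsg.Agent.Helper6.Linear
import Cfsg.Agent.Helper6.CentralChar
-- import your own Cfsg.Agent.* helpers here

set_option autoImplicit false
open Cfsg

namespace Cfsg.Agent.S4566

/-- Let N be a central subgroup of the finite group G, ψ a faithful irreducible (hence degree-one) character of N, and χ an irreducible character of G whose restriction to N contains ψ. If g ∈ G and some x ∈ G has commutator x⁻¹ g⁻¹ x g in N but different from 1, then χ g = 0. -/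
theorem result {G : Type*} [Group G] [Fintype G] (N : Subgroup G) [Fintype N] (hN : N ≤ Subgroup.center G) (ψ : Cfsg.IrrCharacter ↥N) (hfaith : ∀ n : ↥N, (ψ : ↥N → ℂ) n = (ψ : ↥N → ℂ) 1 → n = 1) (χ : Cfsg.IrrCharacter G) (hover : Cfsg.classInner (fun n : ↥N => (χ : G → ℂ) n) (ψ : ↥N → ℂ) ≠ 0) (g x : G) (hcomm : x⁻¹ * g⁻¹ * x * g ∈ N) (hne : x⁻¹ * g⁻¹ * x * g ≠ 1) : (χ : G → ℂ) g = 0 := by
  classical
  have hNn : N.Normal := ⟨fun n hn g => by
    have := Subgroup.mem_center_iff.mp (hN hn) g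
    rw [this, mul_inv_cancel_right]
    exact hn⟩
  set z := x⁻¹ * g⁻¹ * x * g with hz
  have hzc : z⁻¹ ∈ Subgroup.center G := hN (N.inv_mem hcomm)
  have hconj : x⁻¹ * g * x = g * z⁻¹ := by
    rw [hz]
    group
  obtain ⟨n, ρ, hirr, hρ⟩ := χ.2
  have := hirr
  have : Nontrivial (Fin n → ℂ) := Cfsg.Agent.Helper6.irr_nontrivial ρ
  have hd : (Module.finrank ℂ (Fin n → ℂ) : ℂ) ≠ 0 := by
    have : Module.finrank ℂ (Fin n → ℂ) ≠ 0 := Module.finrank_pos.ne'
    exact_mod_cast this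
  obtain ⟨ω, hω⟩ := Cfsg.Agent.Helper6.exists_scalar_of_commute ρ (ρ z⁻¹) (by
    intro y
    change ρ z⁻¹ * ρ y = ρ y * ρ z⁻¹
    rw [← map_mul, ← map_mul]
    congr 1
    exact (Subgroup.mem_center_iff.mp hzc y).symm)
  -- (i)
  have h1 : ρ.character (g * z⁻¹) = ω * ρ.character g := by
    unfold Representation.character
    rw [map_mul, hω, mul_smul_comm, map_smul, smul_eq_mul]
    congr 1
  -- (ii)
  have h2 : ρ.character z⁻¹ = ω * (Module.finrank ℂ (Fin n → ℂ) : ℂ) := by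
    unfold Representation.character
    rw [hω, map_smul, LinearMap.trace_id, smul_eq_mul]
  -- (iii)
  have hinv : ∀ y : G, Cfsg.Agent.Helper6.conjFun N (ψ : ↥N → ℂ) y = (ψ : ↥N → ℂ) := by
    intro y
    funext m
    unfold Cfsg.Agent.Helper6.conjFun
    have hm : y * (m : G) * y⁻¹ = (m : G) := by
      have := Subgroup.mem_center_iff.mp (hN m.2) y
      rw [this, mul_inv_cancel_right]
    have hsub : ∀ (w : G) (hw : w ∈ N), w = (m : G) → (ψ : ↥N → ℂ) ⟨w, hw⟩ = (ψ : ↥N → ℂ) m := by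
      intro w hw hwm
      subst hwm
      rfl
    exact hsub _ _ hm
  have hcl := Cfsg.Agent.Helper6.restrict_eq_smul_of_invariant N (χ : G → ℂ) χ.2 (ψ : ↥N → ℂ) ψ.2
    hover hinv
  have hψ1 : (ψ : ↥N → ℂ) 1 = 1 := by
    have hcommN : ∀ a b : ↥N, a * b = b * a := by
      intro a b
      apply Subtype.ext
      exact (Subgroup.mem_center_iff.mp (hN a.2) b).symm
    exact (Cfsg.Agent.Helper6.comm_iff_forall_irr_degree_one.mp hcommN) ψ
  set e := Cfsg.classInner (fun n : ↥N => (χ : G → ℂ) n) (ψ : ↥N → ℂ) with he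
  have hχ1 : (χ : G → ℂ) 1 = e := by
    have := congrFun hcl 1
    rw [Pi.smul_apply, smul_eq_mul, hψ1, mul_one] at this
    exact this
  have hχz : (χ : G → ℂ) z⁻¹ = e * (ψ : ↥N → ℂ) ⟨z⁻¹, N.inv_mem hcomm⟩ := by
    have := congrFun hcl ⟨z⁻¹, N.inv_mem hcomm⟩
    rw [Pi.smul_apply, smul_eq_mul] at this
    exact this
  have hde : (Module.finrank ℂ (Fin n → ℂ) : ℂ) = e := by
    rw [← hχ1, ← hρ, Representation.char_one]
  have hωψ : ω = (ψ : ↥N → ℂ) ⟨z⁻¹, N.inv_mem hcomm⟩ := by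
    rw [← hρ, h2, hde] at hχz
    have he0 : e ≠ 0 := hover
    have : e * ω = e * (ψ : ↥N → ℂ) ⟨z⁻¹, N.inv_mem hcomm⟩ := by rw [← hχz]; ring
    exact mul_left_cancel₀ he0 this
  -- (iv)
  have hω1 : ω ≠ 1 := by
    intro h
    rw [hωψ, ← hψ1] at h
    have := hfaith _ h
    apply hne
    have h3 : z⁻¹ = 1 := congrArg Subtype.val this
    exact inv_eq_one.mp h3
  -- (v)
  have hcf := Cfsg.Agent.Helper6.IsCharacter.isClassFunction
    (Cfsg.Agent.Helper6.IsIrrCharacter.isCharacter χ.2)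
  have h5 : (χ : G → ℂ) g = ω * (χ : G → ℂ) g := by
    have h6 := hcf g x⁻¹
    rw [inv_inv, hconj] at h6
    rw [← hρ] at h6 ⊢
    calc ρ.character g = ρ.character (g * z⁻¹) := h6.symm
      _ = ω * ρ.character g := h1
  have : (1 - ω) * (χ : G → ℂ) g = 0 := by linear_combination h5
  rcases mul_eq_zero.mp this with h | h
  · exact absurd (sub_eq_zero.mp h).symm hω1
  · exact h

end Cfsg.Agent.S4566
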