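import Cfsg.Statements.S4567
import Mathlib
import Cfsg.Agent.Helper6.CentralFaithfulB
-- import your own Cfsg.Agent.* helpers here

set_option autoImplicit false
open Cfsg

namespace Cfsg.Agent.S4567

/-- Let N be a central subgroup of the finite group G and ψ a faithful irreducible (hence degree-one) character of N. Call a coset g N special when every x ∈ G whose commutator x⁻¹ g⁻¹ x g lies in N actually commutes with g (this depends only on the coset). Then the number of irreducible characters of G whose restriction to N contains ψ equals the number of conjugacy classes of G/N consisting of special cosets. -/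
theorem result {G : Type*} [Group G] [Fintype G] (N : Subgroup G) [N.Normal] [Fintype N] (hN : N ≤ Subgroup.center G) (ψ : Cfsg.IrrCharacter ↥N) (hfaith : ∀ n : ↥N, (ψ : ↥N → ℂ) n = (ψ : ↥N → ℂ) 1 → n = 1) : Nat.card {χ : Cfsg.IrrCharacter G // Cfsg.classInner (fun n : ↥N => (χ : G → ℂ) n) (ψ : ↥N → ℂ) ≠ 0} = Nat.card {C : ConjClasses (G ⧸ N) // ∃ g : G, ConjClasses.mk (g : G ⧸ N) = C ∧ ∀ x : G, x⁻¹ * g⁻¹ * x * g ∈ N → x * g = g * x} := by
  classical
  have hcomm : ∀ a b : N, a * b = b * a := by
    intro a b
    apply Subtype.ext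
    exact Subgroup.mem_center_iff.mp (hN b.2) a
  have hψ1 : (ψ : N → ℂ) 1 = 1 := (Helper6.comm_iff_forall_irr_degree_one.mp hcomm) ψ
  obtain ⟨lam, hlam⟩ := Helper6.exists_hom_of_irr_degree_one ψ.2 hψ1
  have hfaith' : ∀ n : N, ((lam n : ℂˣ) : ℂ) = 1 → n = 1 := by
    intro n hn
    apply hfaith
    rw [hψ1]
    have := congrFun hlam n
    rw [this]
    exact hn
  rw [hlam, ← Helper6.finrank_equivariantCF N hN lam,
    Helper6.finrank_equivariantCF_special N hN lam hfaith']

end Cfsg.Agent.S4567
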