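import Cfsg.Statements.S4574
import Mathlib
import Cfsg.Agent.Helper6.GaloisChar
import Cfsg.Agent.Helper6.DegreeDvd
-- import your own Cfsg.Agent.* helpers here

set_option autoImplicit false
open Cfsg

namespace Cfsg.Agent.S4574

/-- Let χ be an irreducible character of the finite group G, of degree d, and let Z(χ) be the set of elements g with |χ g| = d (the centre of χ). Then χ vanishes on at least (d ^ 2 - 1) · |Z(χ)| elements of G, with equality when every value |χ g| is 0, 1 or d. -/
theorem result {G : Type*} [Group G] [Fintype G] [DecidableEq G] (χ : G → ℂ) (hχ : Cfsg.IsIrrCharacter G χ) : (Cfsg.charDegree χ ^ 2 - 1) * (Finset.univ.filter (fun g : G => ‖χ g‖ = (Cfsg.charDegree χ : ℝ))).card ≤ (Finset.univ.filter (fun g : G => χ g = 0)).card ∧ ((∀ g : G, ‖χ g‖ = 0 ∨ ‖χ g‖ = 1 ∨ ‖χ g‖ = (Cfsg.charDegree χ : ℝ)) → (Cfsg.charDegree χ ^ 2 - 1) * (Finset.univ.filter (fun g : G => ‖χ g‖ = (Cfsg.charDegree χ : ℝ))).card = (Finset.univ.filter (fun g : G => χ g = 0)).card) := by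
  classical
  obtain ⟨n, ρ, hirr, rfl⟩ := hχ
  haveI := hirr
  haveI : Nontrivial (Fin n → ℂ) := Cfsg.Agent.Helper6.irr_nontrivial ρ
  have hχirr : Cfsg.IsIrrCharacter G ρ.character := ⟨n, ρ, hirr, rfl⟩
  set d := Module.finrank ℂ (Fin n → ℂ) with hd
  have hdpos : 1 ≤ d := Module.finrank_pos
  have hdeg : Cfsg.charDegree ρ.character = d := by
    unfold Cfsg.charDegree
    rw [Representation.char_one, Complex.natCast_re, Nat.floor_natCast]
  rw [hdeg]
  set Z : Finset G := Finset.univ.filter (fun g : G => ‖ρ.character g‖ = (d : ℝ)) with hZ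
  set V : Finset G := Finset.univ.filter (fun g : G => ρ.character g = 0) with hV
  set S : Finset G := Finset.univ.filter (fun g : G => ¬ ‖ρ.character g‖ = (d : ℝ)) with hS
  have hsum := Cfsg.Agent.Helper6.sum_norm_sq_irr hχirr
  have hclosed : ∀ g ∈ S, ∀ m : ℕ, m.Coprime (Nat.card G) → g ^ m ∈ S := by
    intro g hg m hm
    rw [hS, Finset.mem_filter] at hg ⊢
    refine ⟨Finset.mem_univ _, ?_⟩
    intro h
    apply hg.2
    rw [Cfsg.Agent.Helper6.norm_char_eq_iff] at h ⊢
    exact Cfsg.Agent.Helper6.scalar_of_pow_scalar ρ g m hm h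
  have hB := Cfsg.Agent.Helper6.burnside_amgm ρ S hclosed
  -- V ⊆ S and the nonzero part of S
  have hVS : S.filter (fun g => ρ.character g = 0) = V := by
    rw [hS, hV, Finset.filter_filter]
    apply Finset.filter_congr
    intro g _
    constructor
    · exact fun h => h.2
    · intro h
      refine ⟨?_, h⟩
      rw [h, norm_zero]
      intro h0
      have : (1 : ℝ) ≤ (d : ℝ) := by exact_mod_cast hdpos
      linarith
  have hcardS : (S.filter (fun g => ρ.character g ≠ 0)).card + V.card = S.card := by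
    rw [← hVS, add_comm]
    exact Finset.card_filter_add_card_filter_not (s := S) (fun g => ρ.character g = 0)
  have hZS : Z.card + S.card = Nat.card G := by
    rw [hZ, hS, Finset.card_filter_add_card_filter_not, Finset.card_univ,
      Nat.card_eq_fintype_card]
  have hsplit : ∑ g : G, ‖ρ.character g‖ ^ 2 =
      (d : ℝ) ^ 2 * (Z.card : ℝ) + ∑ g ∈ S, ‖ρ.character g‖ ^ 2 := by
    rw [← Finset.sum_filter_add_sum_filter_not Finset.univ
      (fun g : G => ‖ρ.character g‖ = (d : ℝ))]
    congr 1
    rw [mul_comm, ← nsmul_eq_mul, ← Finset.sum_const]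
    apply Finset.sum_congr rfl
    intro g hg
    rw [(Finset.mem_filter.mp hg).2]
  have h1 : ((S.filter (fun g => ρ.character g ≠ 0)).card : ℝ) + (V.card : ℝ) = (S.card : ℝ) := by
    exact_mod_cast hcardS
  have h2 : (Z.card : ℝ) + (S.card : ℝ) = (Nat.card G : ℝ) := by exact_mod_cast hZS
  rw [hsplit] at hsum
  have hd2 : 1 ≤ d ^ 2 := Nat.one_le_pow _ _ hdpos
  have hcast : (((d ^ 2 - 1) * Z.card : ℕ) : ℝ) = ((d : ℝ) ^ 2 - 1) * (Z.card : ℝ) := by
    push_cast [Nat.cast_sub hd2]
    ring
  constructor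
  · have : (((d ^ 2 - 1) * Z.card : ℕ) : ℝ) ≤ ((V.card : ℕ) : ℝ) := by
      rw [hcast]
      linarith
    exact_mod_cast this
  · intro hvals
    have heq : ∑ g ∈ S, ‖ρ.character g‖ ^ 2 =
        ((S.filter (fun g => ρ.character g ≠ 0)).card : ℝ) := by
      rw [← Finset.sum_filter_add_sum_filter_not S (fun g => ρ.character g ≠ 0)]
      have hz : ∑ g ∈ S.filter (fun g => ¬ ρ.character g ≠ 0), ‖ρ.character g‖ ^ 2 = 0 := by
        apply Finset.sum_eq_zero
        intro g hg
        have := (Finset.mem_filter.mp hg).2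
        push Not at this
        rw [this, norm_zero]
        norm_num
      rw [hz, add_zero]
      have ho : ∀ g ∈ S.filter (fun g => ρ.character g ≠ 0), ‖ρ.character g‖ ^ 2 = 1 := by
        intro g hg
        obtain ⟨hgS, hne⟩ := Finset.mem_filter.mp hg
        have hnd := (Finset.mem_filter.mp hgS).2
        rcases hvals g with h0 | h1' | hd'
        · exact absurd (norm_eq_zero.mp h0) hne
        · rw [h1']; norm_num
        · exact absurd hd' hnd
      rw [Finset.sum_congr rfl ho, Finset.sum_const, nsmul_eq_mul, mul_one]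
    have : (((d ^ 2 - 1) * Z.card : ℕ) : ℝ) = ((V.card : ℕ) : ℝ) := by
      rw [hcast]
      linarith
    exact_mod_cast this

end Cfsg.Agent.S4574
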