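import Mathlib
import Cfsg.Statements.S4582
import Cfsg.Agent.Helper3.TransferSq
-- import your own Cfsg.Agent.* helpers here

set_option autoImplicit false
open Cfsg

namespace Cfsg.Agent.S4582
open Cfsg

theorem commutator_subgroupOf {G : Type*} [Group G] (A B K : Subgroup G) (hA : A ≤ K) (hB : B ≤ K) :
    ⁅A.subgroupOf K, B.subgroupOf K⁆ = ⁅A, B⁆.subgroupOf K := by
  apply Subgroup.map_injective K.subtype_injective
  rw [Subgroup.map_commutator, Subgroup.subgroupOf_map_subtype, Subgroup.subgroupOf_map_subtype,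
    Subgroup.subgroupOf_map_subtype, inf_eq_left.2 hA, inf_eq_left.2 hB]
  have : ⁅A, B⁆ ≤ K := (Subgroup.commutator_mono hA hB).trans (Subgroup.commutator_le_self K)
  rw [inf_eq_left.2 this]

/-- Let N be a normal subgroup of the finite group G, P a Sylow 2-subgroup of G and Q = P ∩ N. Suppose that P/QP' and Q/Q' are elementary abelian (every square of an element of P lies in the subgroup generated by Q and the derived subgroup of P, and every square of an element of Q lies in the derived subgroup of Q), and that the commutator factor group N/N' has odd order. Then P/P' is elementary abelian. -/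
theorem result {G : Type*} [Group G] [Finite G] (N : Subgroup G) [N.Normal] (P : Sylow 2 G)
    (hP : ∀ x ∈ (P : Subgroup G), x ^ 2 ∈ ((P : Subgroup G) ⊓ N) ⊔ ⁅(P : Subgroup G), (P : Subgroup G)⁆)
    (hQ : ∀ x ∈ (P : Subgroup G) ⊓ N, x ^ 2 ∈ ⁅(P : Subgroup G) ⊓ N, (P : Subgroup G) ⊓ N⁆)
    (hodd : Odd (Nat.card (Abelianization N))) :
    ∀ x ∈ (P : Subgroup G), x ^ 2 ∈ ⁅(P : Subgroup G), (P : Subgroup G)⁆ := by
  classical
  set K : Subgroup G := N ⊔ (P : Subgroup G) with hK
  have hNK : N ≤ K := le_sup_left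
  have hPK : (P : Subgroup G) ≤ K := le_sup_right
  set N' : Subgroup ↥K := N.subgroupOf K with hN'
  set P' : Subgroup ↥K := (P : Subgroup G).subgroupOf K with hP'
  have hinf : P' ⊓ N' = ((P : Subgroup G) ⊓ N).subgroupOf K := by
    ext x; simp [hP', hN', Subgroup.mem_subgroupOf]
  have hcomm : ⁅P', P'⁆ = ⁅(P : Subgroup G), (P : Subgroup G)⁆.subgroupOf K :=
    commutator_subgroupOf _ _ K hPK hPK
  have hcommQ : ⁅P' ⊓ N', P' ⊓ N'⁆ =
      ⁅(P : Subgroup G) ⊓ N, (P : Subgroup G) ⊓ N⁆.subgroupOf K := by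
    rw [hinf]
    exact commutator_subgroupOf _ _ K (inf_le_left.trans hPK) (inf_le_left.trans hPK)
  have key := Cfsg.Agent.Helper3.TransferSq.core (G := ↥K) N' P' ?_ ?_ ?_ ?_ ?_ ?_
  · intro x hx
    have := key ⟨x, hPK hx⟩ (by rw [hP', Subgroup.mem_subgroupOf]; exact hx)
    rw [hcomm, Subgroup.mem_subgroupOf] at this
    exact this
  · -- K = N * P
    intro g
    have hg : (g : G) ∈ (↑(N ⊔ (P : Subgroup G)) : Set G) := g.2
    rw [Subgroup.normal_mul] at hg
    obtain ⟨n, hn, u, hu, hnu⟩ := hg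
    refine ⟨⟨n, hNK hn⟩, ?_, ⟨u, hPK hu⟩, ?_, ?_⟩
    · rw [hN', Subgroup.mem_subgroupOf]; exact hn
    · rw [hP', Subgroup.mem_subgroupOf]; exact hu
    · apply Subtype.ext; simp [hnu]
  · obtain ⟨k, hk⟩ := IsPGroup.iff_card.1 P.2
    refine ⟨k, ?_⟩
    rw [← hk]
    exact Nat.card_congr (Subgroup.subgroupOfEquivOfLe hPK).toEquiv
  · have h1 : (P : Subgroup G).relIndex K ∣ (P : Subgroup G).index :=
      Subgroup.relIndex_dvd_index_of_le hPK
    have h2 : ¬ 2 ∣ (P : Subgroup G).index := Sylow.not_dvd_index P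
    have h3 : ¬ 2 ∣ (P : Subgroup G).relIndex K := fun h => h2 (h.trans h1)
    rw [← Nat.not_even_iff_odd, even_iff_two_dvd]
    exact h3
  · intro x hx
    rw [hinf, hcomm, ← Subgroup.subgroupOf_sup ((inf_le_left).trans hPK)
      ((Subgroup.commutator_le_self _).trans hPK), Subgroup.mem_subgroupOf]
    rw [hP', Subgroup.mem_subgroupOf] at hx
    simpa using hP _ hx
  · intro x hx
    rw [hcommQ, Subgroup.mem_subgroupOf]
    rw [hinf, Subgroup.mem_subgroupOf] at hx
    simpa using hQ _ hx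
  · have e : Abelianization ↥N' ≃* Abelianization ↥N :=
      (Subgroup.subgroupOfEquivOfLe hNK).abelianizationCongr
    rw [Nat.card_congr e.toEquiv]
    exact hodd


end Cfsg.Agent.S4582
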