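import Mathlib
import Cfsg.Statements.S4584
import Cfsg.Agent.Helper3.AbIndexP
import Cfsg.Agent.S0095
import Cfsg.Statements.S4584
-- import your own Cfsg.Agent.* helpers here

set_option autoImplicit false
open Cfsg

namespace Cfsg.Agent.S4584
open Cfsg
universe u

theorem not_comm_of_center_ne_top {P : Type u} [Group P] (h : Subgroup.center P ≠ ⊤) :
    ¬ IsMulCommutative P := by
  intro hc
  apply h
  rw [eq_top_iff]
  intro x _
  rw [Subgroup.mem_center_iff]
  intro g
  exact hc.is_comm.comm g x

/-- a non-abelian `p`-group with centre of index `p²` has an abelian subgroup of index `p` -/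
theorem exists_abelian_index_p {P : Type u} [Group P] [Finite P] (p : ℕ) [hp : Fact p.Prime]
    (hidx : (Subgroup.center P).index = p ^ 2) :
    ∃ A : Subgroup P, IsMulCommutative A ∧ A.index = p := by
  have hne : Subgroup.center P ≠ ⊤ := by
    intro h
    rw [h, Subgroup.index_top] at hidx
    have := hp.out.one_lt
    have : 1 < p ^ 2 := Nat.one_lt_pow (by norm_num) this
    omega
  have hna := not_comm_of_center_ne_top hne
  obtain ⟨x, hx⟩ : ∃ x : P, x ∉ Subgroup.center P := by
    by_contra hcon
    push Not at hcon
    exact hne (eq_top_iff.2 fun x _ => hcon x)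
  have hZc : IsMulCommutative (Subgroup.center P) := inferInstance
  set A := Subgroup.center P ⊔ Subgroup.zpowers x with hA
  have hAc : IsMulCommutative A :=
    Cfsg.Agent.Helper3.AbIndexP.isMulCommutative_sup_zpowers hZc
      (fun a ha => (Subgroup.mem_center_iff.1 ha x).symm)
  refine ⟨A, hAc, ?_⟩
  have hle : Subgroup.center P ≤ A := le_sup_left
  have hxA : x ∈ A := (le_sup_right : Subgroup.zpowers x ≤ A) (Subgroup.mem_zpowers x)
  have h1 : (Subgroup.center P).relIndex A * A.index = (Subgroup.center P).index :=
    Subgroup.relIndex_mul_index hle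
  rw [hidx] at h1
  have hAtop : A.index ≠ 1 := by
    intro h
    rw [Subgroup.index_eq_one] at h
    apply hna
    rw [h] at hAc
    exact ⟨⟨fun a b => setLike_mul_comm (s := (⊤ : Subgroup P)) (Subgroup.mem_top a)
      (Subgroup.mem_top b)⟩⟩
  have hrel : (Subgroup.center P).relIndex A ≠ 1 := by
    intro h
    rw [Subgroup.relIndex_eq_one] at h
    exact hx (h hxA)
  have hdvd : A.index ∣ p ^ 2 := ⟨_, by rw [← h1, mul_comm]⟩
  obtain ⟨k, hk, hk2⟩ := (Nat.dvd_prime_pow hp.out).1 hdvd
  have hk0 : k ≠ 0 := by
    intro h; rw [h, pow_zero] at hk2; exact hAtop hk2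
  have hk2' : k ≠ 2 := by
    intro h
    rw [h] at hk2
    rw [hk2] at h1
    have hpos : 0 < p ^ 2 := by have := hp.out.pos; positivity
    have : (Subgroup.center P).relIndex A = 1 := by
      have h3 : (Subgroup.center P).relIndex A * p ^ 2 = 1 * p ^ 2 := by rw [h1, one_mul]
      exact Nat.eq_of_mul_eq_mul_right hpos h3
    exact hrel this
  have : k = 1 := by omega
  rw [hk2, this, pow_one]

/-- Let p be a prime and P a group of order p^4. Then the derived subgroup P' has order p if and only if the centre Z(P) has index p^2 in P. -/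
theorem result {P : Type*} [Group P] [Finite P] (p : ℕ) [Fact p.Prime] (hP : Nat.card P = p ^ 4) :
    Nat.card (commutator P) = p ↔ (Subgroup.center P).index = p ^ 2 := by
  have hp : p.Prime := Fact.out
  have hPG : IsPGroup p P := IsPGroup.of_card hP
  constructor
  · intro hc
    obtain ⟨m, hm⟩ := Cfsg.Agent.S0095.class_two_index p _ P rfl hPG (by rw [hc])
    have hcard := (Subgroup.center P).card_mul_index
    rw [hm, hP] at hcard
    have hm0 : m ≠ 0 := by
      intro h
      rw [h, mul_zero, pow_zero, Subgroup.index_eq_one] at hm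
      have := (commutator_eq_bot_iff_center_eq_top P).2 hm
      rw [this, Subgroup.card_bot] at hc
      exact hp.one_lt.ne hc
    have hdvd : p ^ (2 * m) ∣ p ^ 4 := ⟨_, by rw [← hcard, mul_comm]⟩
    have hle : 2 * m ≤ 4 := (Nat.pow_dvd_pow_iff_le_right hp.one_lt).1 hdvd
    have hm2 : m ≠ 2 := by
      intro h
      rw [h] at hcard
      have hpos : 0 < p ^ 4 := by have := hp.pos; positivity
      have h1 : Nat.card (Subgroup.center P) = 1 := by
        have h3 : Nat.card (Subgroup.center P) * p ^ (2 * 2) = 1 * p ^ 4 := by rw [hcard, one_mul]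
        exact Nat.eq_of_mul_eq_mul_right hpos h3
      have hnt : Nontrivial P := by
        rw [← Finite.one_lt_card_iff_nontrivial, hP]
        exact Nat.one_lt_pow (by norm_num) hp.one_lt
      have := hPG.center_nontrivial
      rw [← Finite.one_lt_card_iff_nontrivial] at this
      omega
    have : m = 1 := by omega
    rw [hm, this]
  · intro hidx
    obtain ⟨A, hA, hAi⟩ := exists_abelian_index_p p hidx
    have hne : Subgroup.center P ≠ ⊤ := by
      intro h
      rw [h, Subgroup.index_top] at hidx
      have : 1 < p ^ 2 := Nat.one_lt_pow (by norm_num) hp.one_lt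
      omega
    have h1 := Cfsg.Agent.Helper3.AbIndexP.index_center hPG (not_comm_of_center_ne_top hne) hA hAi
    rw [hidx, pow_two] at h1
    exact (Nat.eq_of_mul_eq_mul_left hp.pos h1).symm


end Cfsg.Agent.S4584
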