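import Mathlib
import Cfsg.Statements.S4585
import Cfsg.Agent.Helper1.MaxClassNormal
import Cfsg.Agent.S4584
import Cfsg.Statements.S4585
-- import your own Cfsg.Agent.* helpers here

set_option autoImplicit false
open Cfsg

namespace Cfsg.Agent.S4585
open Cfsg
universe u
open Cfsg.Agent.Helper1

theorem lcs_one_eq {P : Type u} [Group P] :
    (⊤ : Subgroup P).lowerCentralSeries 1 = commutator P := by
  rw [Subgroup.lowerCentralSeries_one, commutator_def]

theorem card_lt_of_lt {P : Type u} [Group P] [Finite P] {H K : Subgroup P} (h : H < K) :
    Nat.card H < Nat.card K := by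
  rcases (Subgroup.card_le_of_le h.le).lt_or_eq with h1 | h1
  · exact h1
  · exact absurd (Subgroup.eq_of_le_of_card_ge h.le h1.ge) h.ne

/-- Let p be a prime and P a group of order p^4. Then P' has index p^2 in P if and only if P has maximal nilpotency class, that is, nilpotency class exactly 3. -/
theorem result {P : Type*} [Group P] [Finite P] (p : ℕ) [Fact p.Prime] (hP : Nat.card P = p ^ 4) :
    (commutator P).index = p ^ 2 ↔ Group.nilpotencyClass P = 3 := by
  have hp : p.Prime := Fact.out
  have hPG : IsPGroup p P := IsPGroup.of_card hP
  haveI hnil : Group.IsNilpotent P := hPG.isNilpotent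
  have hex : ∀ k, ∃ a, Nat.card ((⊤ : Subgroup P).lowerCentralSeries k) = p ^ a :=
    fun k => IsPGroup.iff_card.1 (hPG.to_subgroup _)
  constructor
  · intro hidx
    have hcard : Nat.card (commutator P) = p ^ 2 := by
      have h1 := (commutator P).card_mul_index
      rw [hidx, hP] at h1
      have hpos : 0 < p ^ 2 := by have := hp.pos; positivity
      have h2 : Nat.card (commutator P) * p ^ 2 = p ^ 2 * p ^ 2 := by rw [h1]; ring
      exact Nat.eq_of_mul_eq_mul_right hpos h2
    apply le_antisymm
    · -- class ≤ 3
      by_contra hc
      push Not at hc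
      have l1 := lcs_lt_of_lt_class (G := P) (k := 1) (by omega)
      have l2 := lcs_lt_of_lt_class (G := P) (k := 2) (by omega)
      have l3 : (⊤ : Subgroup P).lowerCentralSeries 3 ≠ ⊥ := by
        intro h
        have := Subgroup.lowerCentralSeries_eq_bot_iff_nilpotencyClass_le.1 h
        omega
      obtain ⟨a1, ha1⟩ := hex 1
      obtain ⟨a2, ha2⟩ := hex 2
      obtain ⟨a3, ha3⟩ := hex 3
      have c1 := card_lt_of_lt l1
      have c2 := card_lt_of_lt l2
      rw [ha1, ha2] at c1
      rw [ha2, ha3] at c2
      have e1 : a2 < a1 := (Nat.pow_lt_pow_iff_right hp.one_lt).1 c1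
      have e2 : a3 < a2 := (Nat.pow_lt_pow_iff_right hp.one_lt).1 c2
      have e3 : a3 ≠ 0 := by
        intro h
        rw [h, pow_zero] at ha3
        exact l3 (Subgroup.card_eq_one.1 ha3)
      rw [lcs_one_eq, hcard] at ha1
      have e4 : a1 = 2 := (Nat.pow_right_injective hp.two_le ha1).symm
      omega
    · -- class ≥ 3
      by_contra hc
      push Not at hc
      have h2 : (⊤ : Subgroup P).lowerCentralSeries 2 = ⊥ :=
        Subgroup.lowerCentralSeries_eq_bot_iff_nilpotencyClass_le.2 (by omega)
      rw [Subgroup.lowerCentralSeries_succ, lcs_one_eq] at h2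
      have hle : commutator P ≤ Subgroup.center P := by
        rw [Subgroup.commutator_eq_bot_iff_le_centralizer] at h2
        rw [← Subgroup.centralizer_univ]
        simpa using h2
      have hdvd : (Subgroup.center P).index ∣ p ^ 2 := by
        rw [← hidx]; exact Subgroup.index_dvd_of_le hle
      obtain ⟨k, hk, hk2⟩ := (Nat.dvd_prime_pow hp).1 hdvd
      have hne : commutator P ≠ ⊥ := by
        intro h
        rw [h, Subgroup.card_bot] at hcard
        have : 1 < p ^ 2 := Nat.one_lt_pow (by norm_num) hp.one_lt
        omega
      have hZne : Subgroup.center P ≠ ⊤ := fun h =>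
        hne ((commutator_eq_bot_iff_center_eq_top P).2 h)
      interval_cases k
      · rw [pow_zero, Subgroup.index_eq_one] at hk2
        exact hZne hk2
      · -- cyclic quotient by the centre
        rw [pow_one] at hk2
        have hcyc : IsCyclic (P ⧸ Subgroup.center P) := by
          have : Nat.card (P ⧸ Subgroup.center P) = p := by
            rw [← Subgroup.index_eq_card]; exact hk2
          exact isCyclic_of_prime_card this
        have hcomm := commutative_of_cyclic_center_quotient (QuotientGroup.mk' (Subgroup.center P))
          (by rw [QuotientGroup.ker_mk'])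
        apply hZne
        rw [eq_top_iff]
        intro x _
        rw [Subgroup.mem_center_iff]
        intro g
        exact hcomm g x
      · have := (Cfsg.Agent.S4584.result p hP).2 hk2
        rw [hcard] at this
        have h3 : p ^ 2 = p ^ 1 := by rw [pow_one]; exact this
        have := Nat.pow_right_injective hp.two_le h3
        omega
  · intro hcl
    have h1 := maxClass_card_lcs (G := P) 4 hP (by rw [hcl]) (by norm_num) 1 (by norm_num) (by norm_num)
    rw [lcs_one_eq] at h1
    have h2 := (commutator P).card_mul_index
    rw [h1, hP] at h2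
    have hpos : 0 < p ^ 2 := by have := hp.pos; positivity
    have h3 : p ^ 2 * (commutator P).index = p ^ 2 * p ^ 2 := by
      rw [show 4 - 1 - 1 = 2 from rfl] at h2
      rw [h2]; ring
    exact Nat.eq_of_mul_eq_mul_left hpos h3


end Cfsg.Agent.S4585
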