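import Mathlib
import Cfsg.Statements.S4586
import Cfsg.Agent.Helper3.AbIndexP
import Cfsg.Statements.S4586
-- import your own Cfsg.Agent.* helpers here

set_option autoImplicit false
open Cfsg

namespace Cfsg.Agent.S4586
open Cfsg
universe u
open Cfsg.Agent.Helper3.AbIndexP
open scoped commutatorElement

theorem key {P : Type u} [Group P] [Finite P] (p : ℕ) [hp : Fact p.Prime]
    (N : Subgroup P) [hNn : N.Normal] (hN : N.index = p) (x : P) (hx : x ∉ N) :
    (commutator P).index * Nat.card (commutator N) =
      p * Nat.card {n : N // x * n * x⁻¹ * (n : P)⁻¹ ∈ (commutator N).map N.subtype} := by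
  set M : Subgroup P := (commutator N).map N.subtype with hM
  have hM' : M = ⁅N, N⁆ := by rw [hM, Subgroup.map_subtype_commutator]
  have hMn : M.Normal := by rw [hM']; infer_instance
  have hMN : M ≤ N := by
    rw [hM]; exact Subgroup.map_subtype_le _
  have hMP : M ≤ commutator P := by
    rw [hM', commutator_def]; exact Subgroup.commutator_mono le_top le_top
  let π := QuotientGroup.mk' M
  have hπs : Function.Surjective π := QuotientGroup.mk'_surjective M
  have hker : π.ker = M := QuotientGroup.ker_mk' M
  set A := N.map π with hA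
  have hAi : A.index = p := by
    rw [hA, Subgroup.index_map_eq _ hπs (by rw [hker]; exact hMN), hN]
  have hAp : A.index.Prime := hAi ▸ hp.out
  have hAc : IsMulCommutative A := by
    refine ⟨⟨?_⟩⟩
    rintro ⟨_, a, ha, rfl⟩ ⟨_, b, hb, rfl⟩
    apply Subtype.ext
    show π a * π b = π b * π a
    rw [← commutatorElement_eq_one_iff_mul_comm, ← map_commutatorElement]
    show π ⁅a, b⁆ = 1
    rw [← MonoidHom.mem_ker, hker, hM']
    exact Subgroup.commutator_mem_commutator ha hb
  have hAn : A.Normal := by
    rw [hA]; exact Subgroup.Normal.map hNn π hπs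
  have hxA : π x ∉ A := by
    rintro ⟨n, hn, hnx⟩
    apply hx
    have h1 : n⁻¹ * x ∈ M := by
      rw [← hker, MonoidHom.mem_ker, map_mul, map_inv, hnx, inv_mul_cancel]
    have h2 : x = n * (n⁻¹ * x) := by group
    rw [h2]; exact N.mul_mem hn (hMN h1)
  -- the restriction of `π` to `N`, as a map onto `A`
  let ρ : N →* A := (π.comp N.subtype).codRestrict A (fun n => ⟨n, n.2, rfl⟩)
  have hρs : Function.Surjective ρ := by
    rintro ⟨_, n, hn, rfl⟩
    exact ⟨⟨n, hn⟩, rfl⟩
  let θ : N →* P ⧸ M := (commHom A hAc hAn (π x)).comp ρ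
  have hθ : ∀ n : N, θ n = π (n * x * (n : P)⁻¹ * x⁻¹) := by
    intro n
    show commHom A hAc hAn (π x) (ρ n) = _
    rw [commHom_apply]
    show π n * π x * (π n)⁻¹ * (π x)⁻¹ = _
    rw [map_mul, map_mul, map_mul, map_inv, map_inv]
  have hrange : θ.range = commutator (P ⧸ M) := by
    rw [MonoidHom.range_comp, MonoidHom.range_eq_top.2 hρs, ← MonoidHom.range_eq_map,
      commHom_range_eq A hAc hAn hAp hxA]
  have hkercard : Nat.card θ.ker =
      Nat.card {n : N // x * n * x⁻¹ * (n : P)⁻¹ ∈ M} := by
    apply Nat.card_congr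
    refine Equiv.subtypeEquiv (Equiv.refl _) ?_
    intro n
    rw [Equiv.refl_apply, MonoidHom.mem_ker, hθ, ← MonoidHom.mem_ker, hker]
    have e : x * n * x⁻¹ * (n : P)⁻¹ = (n * x * (n : P)⁻¹ * x⁻¹)⁻¹ := by group
    rw [e, Subgroup.inv_mem_iff]
  -- counting
  have c1 : Nat.card N = Nat.card θ.ker * Nat.card (commutator (P ⧸ M)) := by
    rw [← hrange, ← Subgroup.index_ker, mul_comm]
    exact (Subgroup.index_mul_card θ.ker).symm
  have c2 : Nat.card P = p * Nat.card N := by
    rw [← hN, mul_comm]; exact (Subgroup.card_mul_index N).symm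
  have c3 : Nat.card P = Nat.card (P ⧸ M) * Nat.card M :=
    Subgroup.card_eq_card_quotient_mul_card_subgroup M
  have hQ' : commutator (P ⧸ M) = (commutator P).map π := by
    rw [commutator_def, commutator_def, Subgroup.map_commutator,
      Subgroup.map_top_of_surjective π hπs]
  have c4 : (commutator (P ⧸ M)).index = (commutator P).index := by
    rw [hQ', Subgroup.index_map_eq _ hπs (by rw [hker]; exact hMP)]
  have c5 : Nat.card (P ⧸ M) = Nat.card (commutator (P ⧸ M)) * (commutator P).index := by
    rw [← c4]; exact (Subgroup.card_mul_index _).symm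
  have c6 : Nat.card M = Nat.card (commutator N) := by
    rw [hM]; exact Subgroup.card_map_of_injective (Subgroup.subtype_injective N)
  rw [← hkercard, ← c6]
  have hpos : 0 < Nat.card (commutator (P ⧸ M)) := Nat.card_pos
  have : Nat.card (commutator (P ⧸ M)) * ((commutator P).index * Nat.card M) =
      Nat.card (commutator (P ⧸ M)) * (p * Nat.card θ.ker) := by
    calc Nat.card (commutator (P ⧸ M)) * ((commutator P).index * Nat.card M)
        = (Nat.card (commutator (P ⧸ M)) * (commutator P).index) * Nat.card M := by ring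
      _ = Nat.card P := by rw [← c5, ← c3]
      _ = p * (Nat.card θ.ker * Nat.card (commutator (P ⧸ M))) := by rw [c2, c1]
      _ = _ := by ring
  exact Nat.eq_of_mul_eq_mul_left hpos this

/-- Let p be a prime, P a finite p-group and N a normal subgroup of P of index p. For x ∈ P write c(x) for the number of elements n of N whose commutator x n x⁻¹ n⁻¹ lies in the derived subgroup N' (so c(x)/#N' is the order of the centralizer of x acting on N/N'). Then [P : P'] = p² if and only if c(x) = p·#N' for every x ∈ P outside N, and also if and only if c(x) = p·#N' for some x ∈ P outside N. -/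
theorem result {P : Type*} [Group P] [Finite P] (p : ℕ) [Fact p.Prime] (hP : IsPGroup p P) (N : Subgroup P) [N.Normal] (hN : N.index = p) :
    ((commutator P).index = p ^ 2 ↔ ∀ x : P, x ∉ N →
        Nat.card {n : N // x * n * x⁻¹ * (n : P)⁻¹ ∈ (commutator N).map N.subtype} = p * Nat.card (commutator N)) ∧
    ((commutator P).index = p ^ 2 ↔ ∃ x : P, x ∉ N ∧
        Nat.card {n : N // x * n * x⁻¹ * (n : P)⁻¹ ∈ (commutator N).map N.subtype} = p * Nat.card (commutator N)) := by
  have hp : p.Prime := Fact.out
  have hcpos : 0 < Nat.card (commutator N) := Nat.card_pos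
  have hiff : ∀ x : P, x ∉ N → ((commutator P).index = p ^ 2 ↔
      Nat.card {n : N // x * n * x⁻¹ * (n : P)⁻¹ ∈ (commutator N).map N.subtype} =
        p * Nat.card (commutator N)) := by
    intro x hx
    have h := key p N hN x hx
    constructor
    · intro h1
      rw [h1, pow_two, mul_assoc] at h
      exact (Nat.eq_of_mul_eq_mul_left hp.pos h).symm
    · intro h1
      rw [h1] at h
      have : (commutator P).index * Nat.card (commutator N) = p ^ 2 * Nat.card (commutator N) := by
        rw [h]; ring
      exact Nat.eq_of_mul_eq_mul_right hcpos this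
  obtain ⟨x₀, hx₀⟩ := exists_not_mem (A := N) (hN ▸ hp)
  constructor
  · constructor
    · intro h x hx; exact (hiff x hx).1 h
    · intro h; exact (hiff x₀ hx₀).2 (h x₀ hx₀)
  · constructor
    · intro h; exact ⟨x₀, hx₀, (hiff x₀ hx₀).1 h⟩
    · rintro ⟨x, hx, h⟩; exact (hiff x hx).2 h


end Cfsg.Agent.S4586
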