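import Mathlib
import Cfsg.Statements.S4593
import Cfsg.Agent.Helper3.AbSylAutB
-- import your own Cfsg.Agent.* helpers here

set_option autoImplicit false
open Cfsg

namespace Cfsg.Agent.S4593

open Cfsg.Agent.Helper3.AbSylAut

/-- Let G be a finite group with trivial centre and no nontrivial normal subgroup of odd order, whose Sylow 2-subgroups are abelian, and let P be a Sylow 2-subgroup. Every automorphism of G of 2-power order that fixes P elementwise is inner. -/
theorem result {G : Type*} [Group G] [Finite G] (hZ : Subgroup.center G = ⊥) (hcore : Cfsg.pPrimeCore 2 G = ⊥) (P : Sylow 2 G) (hab : IsMulCommutative (P : Subgroup G))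
    (α : MulAut G) (h2 : ∃ j : ℕ, orderOf α = 2 ^ j) (hfix : ∀ x ∈ (P : Subgroup G), α x = x) :
    ∃ g : G, ∀ x : G, α x = g * x * g⁻¹ := by
  classical
  let A : Subgroup (MulAut G) := Subgroup.zpowers α
  let φ : ↥A →* MulAut G := A.subtype
  let a0 : ↥A := ⟨α, Subgroup.mem_zpowers α⟩
  have : Finite (G ⋊[φ] ↥A) := Finite.of_equiv _ (SemidirectProduct.equivProd (φ := φ)).symm
  let N : Subgroup (G ⋊[φ] ↥A) := (SemidirectProduct.rightHom (φ := φ)).ker
  let a : G ⋊[φ] ↥A := SemidirectProduct.inr a0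
  have hNmem : ∀ h : G ⋊[φ] ↥A, h ∈ N ↔ h.right = 1 := fun h => MonoidHom.mem_ker
  have hNinl : ∀ h : G ⋊[φ] ↥A, h ∈ N → h = SemidirectProduct.inl h.left := by
    intro h hh
    rw [hNmem] at hh
    ext
    · simp
    · simp [hh]
  have hgen : ∀ h : G ⋊[φ] ↥A, ∃ n ∈ N, ∃ k : ℤ, h = n * a ^ k := by
    intro h
    obtain ⟨k, hk⟩ := Subgroup.mem_zpowers_iff.mp h.right.2
    refine ⟨SemidirectProduct.inl h.left, by rw [hNmem]; simp, k, ?_⟩
    have h1 : a0 ^ k = h.right := Subtype.ext (by simpa [a0] using hk)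
    rw [← map_zpow, h1, SemidirectProduct.inl_left_mul_inr_right]
  have ha2 : ∃ j : ℕ, orderOf a = 2 ^ j := by
    obtain ⟨j, hj⟩ := h2
    refine ⟨j, ?_⟩
    rw [orderOf_injective _ SemidirectProduct.inr_injective a0, ← hj]
    exact Subgroup.orderOf_mk α (Subgroup.mem_zpowers α)
  let P₀ : Subgroup (G ⋊[φ] ↥A) := (P : Subgroup G).map SemidirectProduct.inl
  have hP₀N : P₀ ≤ N := by
    rintro _ ⟨x, -, rfl⟩
    rw [hNmem]; simp
  have hP₀2 : IsPGroup 2 P₀ := P.2.map _
  have hP₀max : ∀ Q : Subgroup (G ⋊[φ] ↥A), IsPGroup 2 Q → Q ≤ N → P₀ ≤ Q → Q ≤ P₀ := by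
    intro Q hQ hQN hPQ
    have h1 : IsPGroup 2 (Q.comap (SemidirectProduct.inl (φ := φ))) :=
      hQ.comap_of_injective _ SemidirectProduct.inl_injective
    have h3 : (P : Subgroup G) ≤ Q.comap (SemidirectProduct.inl (φ := φ)) := by
      intro x hx
      exact hPQ ⟨x, hx, rfl⟩
    have h4 := P.is_maximal' h1 h3
    intro q hq
    have h5 := hNinl q (hQN hq)
    refine ⟨q.left, ?_, h5.symm⟩
    rw [← h4]
    show SemidirectProduct.inl q.left ∈ Q
    rw [← h5]
    exact hq
  have habP : ∀ x ∈ P₀, ∀ y ∈ P₀, x * y = y * x := by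
    rintro _ ⟨x, hx, rfl⟩ _ ⟨y, hy, rfl⟩
    have := hab.is_comm.comm (⟨x, hx⟩ : (P : Subgroup G)) ⟨y, hy⟩
    have h1 : x * y = y * x := congrArg Subtype.val this
    rw [← map_mul, ← map_mul, h1]
  have hcent : ∀ x ∈ P₀, a * x = x * a := by
    rintro _ ⟨x, hx, rfl⟩
    ext
    · simp [a, a0, φ, hfix x hx]
    · simp [a]
  have hodd : ∀ M : Subgroup (G ⋊[φ] ↥A), M.Normal → M ≤ N → Odd (Nat.card M) → M = ⊥ := by
    intro M hMn hMN hMo
    have h1 : (M.comap (SemidirectProduct.inl (φ := φ))).Normal := hMn.comap _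
    have h2 : (M.comap (SemidirectProduct.inl (φ := φ))).map SemidirectProduct.inl = M := by
      apply le_antisymm
      · rintro _ ⟨x, hx, rfl⟩; exact hx
      · intro m hm
        have h5 := hNinl m (hMN hm)
        refine ⟨m.left, ?_, h5.symm⟩
        show SemidirectProduct.inl m.left ∈ M
        rw [← h5]; exact hm
    have h3 : Nat.card (M.comap (SemidirectProduct.inl (φ := φ))) = Nat.card M := by
      conv_rhs => rw [← h2]
      exact (Subgroup.card_map_of_injective SemidirectProduct.inl_injective).symm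
    have h4 := Cfsg.Agent.Helper2.ZStar.odd_normal_eq_bot hcore _ h1 (h3 ▸ hMo)
    rw [← h2, h4, Subgroup.map_bot]
  have hNn : N.Normal := MonoidHom.normal_ker _
  obtain ⟨v, hv, hvc⟩ := lemmaB N a hgen ha2 P₀ hP₀N hP₀2 hP₀max habP hcent hodd
  obtain ⟨p, hp, rfl⟩ := hv
  refine ⟨p⁻¹, fun x => ?_⟩
  have h1 := hvc (SemidirectProduct.inl x) (by rw [hNmem]; simp)
  have h2 := congrArg SemidirectProduct.left h1
  simp only [SemidirectProduct.mul_left, SemidirectProduct.left_inl, SemidirectProduct.right_inl,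
    SemidirectProduct.left_inr, SemidirectProduct.right_inr, a, map_one, one_mul, mul_one,
    SemidirectProduct.mul_right] at h2
  have h3 : φ a0 = α := rfl
  rw [h3] at h2
  have h4 : α p = p := hfix p hp
  simp only [MulAut.one_apply, h4, map_mul] at h2
  -- h2 : p * α x = x * p
  rw [inv_inv]
  calc α x = p⁻¹ * (p * α x) := by group
    _ = p⁻¹ * x * p := by rw [h2]; group


end Cfsg.Agent.S4593
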