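import Cfsg.Statements.S4604
import Mathlib
import Cfsg.Agent.S0876
import Cfsg.Agent.Helper6.PowCongr
import Cfsg.Agent.Helper6.BlockBasic2
-- import your own Cfsg.Agent.* helpers here

set_option autoImplicit false
open Cfsg

namespace Cfsg.Agent.S4604

/-- Let G be a finite group, p a prime and p^a the p-part of the order of G. Let x, y ∈ G and let x′, y′ be their p-regular parts: x′ has order prime to p, commutes with x·x′⁻¹, and x·x′⁻¹ has p-power order (likewise for y). Then x′ and y′ are conjugate in G if and only if for every irreducible character χ of G the algebraic integer χ(x)^(p^a) − χ(y)^(p^a) is p times an algebraic integer. -/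
theorem result {G : Type*} [Group G] [Finite G] (p : ℕ) [Fact p.Prime] (x y x' y' : G)
    (hx : (∃ k : ℕ, orderOf (x * x'⁻¹) = p ^ k) ∧ Commute (x * x'⁻¹) x' ∧ ¬ p ∣ orderOf x')
    (hy : (∃ k : ℕ, orderOf (y * y'⁻¹) = p ^ k) ∧ Commute (y * y'⁻¹) y' ∧ ¬ p ∣ orderOf y') :
    IsConj x' y' ↔ ∀ χ : Cfsg.IrrCharacter G, ∃ γ : Cfsg.AlgInt,
      (χ : G → ℂ) x ^ (p ^ (Nat.card G).factorization p) - (χ : G → ℂ) y ^ (p ^ (Nat.card G).factorization p) = (p : ℂ) * (γ : ℂ) := by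
  classical
  have hp : p.Prime := Fact.out
  obtain ⟨⟨kx, hkx⟩, hcx, hx'⟩ := hx
  obtain ⟨⟨ky, hky⟩, hcy, hy'⟩ := hy
  set a := (Nat.card G).factorization p with ha
  have hpow : ∀ u : G, ∀ k : ℕ, orderOf u = p ^ k → u ^ (p ^ a) = 1 := by
    intro u k hk
    have h1 : p ^ k ∣ Nat.card G := by rw [← hk]; exact orderOf_dvd_natCard u
    have h2 : k ≤ a := (hp.pow_dvd_iff_le_factorization (Nat.card_pos (α := G)).ne').mp h1
    apply orderOf_dvd_iff_pow_eq_one.mp
    rw [hk]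
    exact pow_dvd_pow p h2
  have hxeq : x * x'⁻¹ * x' = x := by group
  have hyeq : y * y'⁻¹ * y' = y := by group
  constructor
  · intro hconj χ
    have hχ := Helper6.IsIrrCharacter.isCharacter χ.2
    have hcf := Helper6.IsCharacter.isClassFunction hχ
    obtain ⟨γ₁, h1⟩ := Helper6.char_pow_sub_pow p hχ (x * x'⁻¹) x' hcx ⟨kx, hkx⟩ hx' a
      (hpow _ kx hkx)
    obtain ⟨γ₂, h2⟩ := Helper6.char_pow_sub_pow p hχ (y * y'⁻¹) y' hcy ⟨ky, hky⟩ hy' a
      (hpow _ ky hky)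
    rw [hxeq] at h1
    rw [hyeq] at h2
    have h3 : (χ : G → ℂ) x' = (χ : G → ℂ) y' :=
      Helper6.IsClassFunction.eq_of_isConj hcf hconj
    refine ⟨γ₁ - γ₂, ?_⟩
    push_cast
    rw [mul_sub, ← h1, ← h2, h3]
    ring
  · intro hall
    obtain ⟨M, hM⟩ := Helper6.exists_isPModular p hp
    have hPx : Cfsg.IsPPart p x (x * x'⁻¹) := ⟨x', hxeq, hcx, ⟨kx, hkx⟩, hx'⟩
    have hPy : Cfsg.IsPPart p y (y * y'⁻¹) := ⟨y', hyeq, hcy, ⟨ky, hky⟩, hy'⟩
    have key := (Cfsg.Agent.S0876.result p M hM x y (x * x'⁻¹) (y * y'⁻¹) hPx hPy).mpr ?_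
    · have e1 : (x * x'⁻¹)⁻¹ * x = x' := by group
      have e2 : (y * y'⁻¹)⁻¹ * y = y' := by group
      rwa [e1, e2] at key
    · intro χ
      obtain ⟨γ, hγ⟩ := hall χ
      have hχ := Helper6.IsIrrCharacter.isCharacter χ.2
      haveI : CharP (Cfsg.AlgInt ⧸ (Ideal.span ({(p : Cfsg.AlgInt)} : Set Cfsg.AlgInt))) p :=
        CharP.quotient Cfsg.AlgInt p (Helper6.natCast_prime_mem_nonunits p hp)
      set X : Cfsg.AlgInt := ⟨(χ : G → ℂ) x,
        (mem_integralClosure_iff ℤ ℂ).mpr (Helper6.IsCharacter.isIntegral_value hχ x)⟩ with hX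
      set Y : Cfsg.AlgInt := ⟨(χ : G → ℂ) y,
        (mem_integralClosure_iff ℤ ℂ).mpr (Helper6.IsCharacter.isIntegral_value hχ y)⟩ with hY
      have hXY : X ^ (p ^ a) - Y ^ (p ^ a) = (p : Cfsg.AlgInt) * γ := by
        apply Subtype.ext
        push_cast
        exact hγ
      have hq : Ideal.Quotient.mk (Ideal.span ({(p : Cfsg.AlgInt)} : Set Cfsg.AlgInt))
          ((X - Y) ^ (p ^ a)) = 0 := by
        rw [map_pow, map_sub, sub_pow_char_pow, ← map_pow, ← map_pow, ← map_sub, hXY,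
          Ideal.Quotient.eq_zero_iff_mem]
        exact Ideal.mul_mem_right _ _ (Ideal.mem_span_singleton_self _)
      rw [Ideal.Quotient.eq_zero_iff_mem] at hq
      have hle : Ideal.span ({(p : Cfsg.AlgInt)} : Set Cfsg.AlgInt) ≤ M := by
        rw [Ideal.span_singleton_le_iff_mem]
        exact hM.2.2
      have hmem : X - Y ∈ M := hM.2.1.isPrime.mem_of_pow_mem _ (hle hq)
      have := Helper6.memLocalIdeal_of_mem hM.2.1 hmem
      simpa [hX, hY] using this

end Cfsg.Agent.S4604
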