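import Cfsg.Statements.S4607
import Mathlib
import Cfsg.Agent.Helper6.Ku_Final

set_option autoImplicit false
open Cfsg

namespace Cfsg.Agent.S4607

/-- Let G be a finite group, p a prime, M a maximal ideal of the algebraic integers containing p, and B a p-block of G with defect group D. Then B contains exactly two irreducible characters if and only if D has order 2. -/
theorem result {G : Type*} [Group G] [Finite G] (p : ℕ) [Fact p.Prime] (M : Ideal Cfsg.AlgInt) (hM : Cfsg.IsPModular p M) (B : Set (Cfsg.IrrCharacter G)) (hB : Cfsg.IsPBlock M B) (D : Subgroup G) (hD : Cfsg.IsDefectGroup p M B D) : Nat.card B = 2 ↔ Nat.card D = 2 := by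
  classical
  haveI : Fintype G := Fintype.ofFinite G
  have hcard := Helper6.card_defectGroup hM.2.1 p hM.2.2 B hB D hD
  constructor
  · intro h2
    obtain ⟨hp2, hd1⟩ := Helper6.Ku.defect_of_card_two hM B hB h2
    rw [hcard, hd1, pow_one, hp2]
  · intro hD2
    rw [hcard] at hD2
    have hd0 : Cfsg.blockDefect p B ≠ 0 := by
      intro h0
      rw [h0, pow_zero] at hD2
      omega
    have hp2 : p = 2 := by
      have hdvd : p ∣ 2 := by
        rw [← hD2]
        exact dvd_pow_self p hd0
      exact (Nat.prime_dvd_prime_iff_eq (Fact.out : p.Prime) Nat.prime_two).mp hdvd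
    subst hp2
    have hd1 : Cfsg.blockDefect 2 B = 1 := by
      have : 2 ^ Cfsg.blockDefect 2 B = 2 ^ 1 := by rw [hD2, pow_one]
      exact Nat.pow_right_injective (le_refl 2) this
    exact (Helper6.defect_one_two hM B hB hd1).1

end Cfsg.Agent.S4607
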