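import Cfsg.Statements.S4611
import Mathlib
import Cfsg.Agent.Helper6.PrincipalSolv
import Cfsg.Agent.Helper6.PrincipalPPrime
-- import your own Cfsg.Agent.* helpers here

set_option autoImplicit false
open Cfsg

namespace Cfsg.Agent.S4611

/-- Let G be a finite solvable group and π a nonempty set of primes, each dividing the order of G; fix for each p in π a maximal ideal M p of the algebraic integers containing p. Then the only irreducible character lying in the principal p-block for every p in π is the principal character if and only if G is generated by the subgroups O_{p'}(G), p in π (the largest normal subgroups of order prime to p). -/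
theorem result {G : Type*} [Group G] [Finite G] [Group.IsSolvable G] (π : Set ℕ) (hπ : ∀ p ∈ π, p.Prime ∧ p ∣ Nat.card G) (hne : π.Nonempty) (M : ℕ → Ideal Cfsg.AlgInt) (hM : ∀ p ∈ π, Cfsg.IsPModular p (M p)) :
    (∀ χ : Cfsg.IrrCharacter G, (∀ p ∈ π, χ ∈ Cfsg.principalBlock (M p) G) → (χ : G → ℂ) = fun _ => 1) ↔
      ⨆ p ∈ π, Cfsg.pPrimeCore p G = ⊤ := by
  classical
  have hsolv : Group.IsSolvable G := inferInstance
  have hPB : ∀ p ∈ π, Cfsg.principalBlock (M p) G =
      {χ : Cfsg.IrrCharacter G | ∀ n ∈ Cfsg.pPrimeCore p G, (χ : G → ℂ) n = (χ : G → ℂ) 1} := by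
    intro p hp
    haveI : Fact p.Prime := ⟨(hπ p hp).1⟩
    exact Helper6.principalBlock_eq_of_isPSolvable p (hM p hp)
      (Helper4.SolvPSolv.isPSolvable_of_isSolvable p hsolv)
  haveI hNn : (⨆ p ∈ π, Cfsg.pPrimeCore p G).Normal :=
    Subgroup.biSup_normal π (fun p => Cfsg.pPrimeCore p G) (fun p _ => inferInstance)
  constructor
  · intro h
    by_contra hne'
    obtain ⟨N, hN⟩ : ∃ N : Subgroup G, N = ⨆ p ∈ π, Cfsg.pPrimeCore p G := ⟨_, rfl⟩
    rw [← hN] at hne'
    haveI : N.Normal := by rw [hN]; exact hNn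
    haveI : Finite (Cfsg.IrrCharacter (G ⧸ N)) := Helper6.irr_finite
    haveI : Fintype (Cfsg.IrrCharacter (G ⧸ N)) := Fintype.ofFinite _
    have hex : ∃ χ' : Cfsg.IrrCharacter (G ⧸ N), (χ' : G ⧸ N → ℂ) ≠ fun _ => 1 := by
      by_contra hall
      push Not at hall
      have hsub : ∀ χ' : Cfsg.IrrCharacter (G ⧸ N), χ' = Helper6.trivIrr (G ⧸ N) :=
        fun χ' => Subtype.ext (hall χ')
      have hsum := Helper6.sum_sq_charDegree (G := G ⧸ N)
      rw [Finset.sum_eq_single (Helper6.trivIrr (G ⧸ N))] at hsum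
      · have h1 : Cfsg.charDegree
            ((Helper6.trivIrr (G ⧸ N) : Cfsg.IrrCharacter (G ⧸ N)) : G ⧸ N → ℂ) = 1 :=
          Helper6.charDegree_one_fun
        rw [h1, one_pow] at hsum
        apply hne'
        rw [← Subgroup.index_eq_one]
        exact hsum.symm
      · intro b _ hb
        exact absurd (hsub b) hb
      · intro h
        exact absurd (Finset.mem_univ _) h
    obtain ⟨χ', hχ'⟩ := hex
    have hχ1 := h ⟨(χ' : G ⧸ N → ℂ) ∘ QuotientGroup.mk, Helper6.isIrrCharacter_inflate N χ'⟩ (by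
      intro p hp
      rw [hPB p hp]
      intro n hn
      have hnN : n ∈ N := by
        rw [hN]
        exact (le_biSup (fun p => Cfsg.pPrimeCore p G) hp) hn
      show (χ' : G ⧸ N → ℂ) (QuotientGroup.mk n) = (χ' : G ⧸ N → ℂ) (QuotientGroup.mk 1)
      rw [(QuotientGroup.eq_one_iff n).mpr hnN, QuotientGroup.mk_one])
    apply hχ'
    funext x
    obtain ⟨g, rfl⟩ := QuotientGroup.mk_surjective x
    exact congrFun hχ1 g
  · intro htop χ hχ
    obtain ⟨K, hKn, hK, hdpos, hd1, -⟩ := Helper6.exists_kernel_data χ.2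
    have hle : (⨆ p ∈ π, Cfsg.pPrimeCore p G) ≤ K := by
      apply iSup₂_le
      intro p hp n hn
      rw [hK]
      have := hχ p hp
      rw [hPB p hp] at this
      exact this n hn
    rw [htop] at hle
    have hall : ∀ g, (χ : G → ℂ) g = (χ : G → ℂ) 1 := fun g =>
      (hK g).mp (hle (Subgroup.mem_top g))
    haveI := Fintype.ofFinite G
    have hinner := Helper6.classInner_irr_self χ.2
    rw [Helper6.classInner_def] at hinner
    have hG0 : (Nat.card G : ℂ) ≠ 0 := by
      have : 0 < Nat.card G := Nat.card_pos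
      exact_mod_cast this.ne'
    have hsum : ∑ g : G, (χ : G → ℂ) g * (starRingEnd ℂ) ((χ : G → ℂ) g) =
        (Nat.card G : ℂ) * ((Cfsg.charDegree (χ : G → ℂ) : ℂ) ^ 2) := by
      have : ∀ g ∈ (Finset.univ : Finset G),
          (χ : G → ℂ) g * (starRingEnd ℂ) ((χ : G → ℂ) g) =
            (Cfsg.charDegree (χ : G → ℂ) : ℂ) ^ 2 := by
        intro g _
        rw [hall g, hd1, Complex.conj_natCast, pow_two]
      rw [Finset.sum_congr rfl this, Finset.sum_const, Finset.card_univ, nsmul_eq_mul,
        Nat.card_eq_fintype_card]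
    rw [hsum, ← mul_assoc, inv_mul_cancel₀ hG0, one_mul] at hinner
    have hd : Cfsg.charDegree (χ : G → ℂ) = 1 := by
      have h2 : (Cfsg.charDegree (χ : G → ℂ)) ^ 2 = 1 := by exact_mod_cast hinner
      rcases pow_eq_one_iff.mp h2 with h3 | h3
      · exact h3
      · exact absurd h3 two_ne_zero
    funext g
    rw [hall g, hd1, hd, Nat.cast_one]

end Cfsg.Agent.S4611
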