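import Mathlib
import Cfsg.Statements.S4623
import Cfsg.Agent.Helper3.SymSylC
-- import your own Cfsg.Agent.* helpers here

set_option autoImplicit false
open Cfsg

namespace Cfsg.Agent.S4623

open Cfsg.Agent.Helper3.SymSyl

/-- If some subgroup of the Sylow order is generated by elements of order dividing `p`, the
conclusion holds for every Sylow subgroup. -/
theorem sylow_pow_mem_commutator {G : Type*} [Group G] [Finite G] (p : ℕ) [Fact p.Prime]
    (E : Subgroup G) (hEc : Nat.card E = p ^ (Nat.card G).factorization p) (hEg : GenBy p E)
    (P : Sylow p G) (x : (P : Subgroup G)) : x ^ p ∈ commutator (P : Subgroup G) := by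
  obtain ⟨g, hg⟩ := MulAction.exists_smul_eq G (Sylow.ofCard E hEc) P
  have h1 : (P : Subgroup G) = E.map (MulAut.conj g).toMonoidHom := by
    rw [← hg, Sylow.smul_def, Sylow.pointwise_smul_def, Subgroup.pointwise_smul_def]
    rfl
  have h2 : GenBy p (P : Subgroup G) := by
    rw [h1]; exact hEg.map _
  exact h2.pow_mem_commutator x

/-- For every prime p and every n, a Sylow p-subgroup P of the symmetric group on n letters has P/P' elementary abelian (the p-th power of every element of P lies in the derived subgroup of P), and the same holds for a Sylow p-subgroup of the alternating group on n letters. -/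
theorem result (p : ℕ) [Fact p.Prime] (n : ℕ) (P : Sylow p (Equiv.Perm (Fin n))) (Q : Sylow p (alternatingGroup (Fin n))) :
    (∀ x : (P : Subgroup (Equiv.Perm (Fin n))), x ^ p ∈ commutator (P : Subgroup (Equiv.Perm (Fin n)))) ∧
    (∀ x : (Q : Subgroup (alternatingGroup (Fin n))), x ^ p ∈ commutator (Q : Subgroup (alternatingGroup (Fin n)))) := by
  have hp := (Fact.out : p.Prime)
  constructor
  · obtain ⟨E, hEc, hEg⟩ := exists_sylow_genBy p n (Fin n) (Fintype.card_fin n)
    have hc : Nat.card (Equiv.Perm (Fin n)) = n.factorial := by
      rw [Nat.card_perm, Nat.card_eq_fintype_card, Fintype.card_fin]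
    intro x
    apply sylow_pow_mem_commutator p E _ hEg P x
    rw [hEc, hc, Nat.factorization_def _ hp]
  · by_cases hn : 2 ≤ n
    · obtain ⟨E, hEA, hEc, hEg⟩ := exists_alt_sylow p n hn (Fin n) (Fintype.card_fin n)
      haveI : Nontrivial (Fin n) := Fin.nontrivial_iff_two_le.2 hn
      have hc : Nat.card (alternatingGroup (Fin n)) = n.factorial / 2 := by
        have := two_mul_card_alternatingGroup (α := Fin n)
        rw [Fintype.card_perm, Fintype.card_fin] at this
        rw [Nat.card_eq_fintype_card, ← this, Nat.mul_div_cancel_left _ (by norm_num)]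
      intro x
      apply sylow_pow_mem_commutator p (E.subgroupOf (alternatingGroup (Fin n))) _ _ Q x
      · rw [Nat.card_congr (Subgroup.subgroupOfEquivOfLe hEA).toEquiv, hEc, hc,
          Nat.factorization_def _ hp]
      · apply GenBy.of_map (alternatingGroup (Fin n)).subtype Subtype.val_injective
        rw [Subgroup.map_subgroupOf_eq_of_le hEA]
        exact hEg
    · haveI : Subsingleton (Fin n) := by
        have : n ≤ 1 := by omega
        exact Fin.subsingleton_iff_le_one.2 this
      intro x
      have : x = 1 := Subsingleton.elim _ _
      rw [this, one_pow]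
      exact Subgroup.one_mem _


end Cfsg.Agent.S4623
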