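import Cfsg.Statements.S4626
import Mathlib
import Cfsg.Agent.Helper6.BlockBasic2
import Cfsg.Agent.Helper6.QuotientRep
import Cfsg.Agent.Helper6.RepEigen
import Cfsg.Agent.Helper6.CentralChar
-- import your own Cfsg.Agent.* helpers here

set_option autoImplicit false
open Cfsg

namespace Cfsg.Agent.S4626

/-- Let G be a finite group, p a prime, M a maximal ideal of the algebraic integers containing p, P a Sylow p-subgroup of G and N a normal subgroup of index prime to p containing the centralizer C_G(P). Then every irreducible character of G whose kernel contains N lies in the principal p-block of G. -/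
theorem result {G : Type*} [Group G] [Finite G] (p : ℕ) [Fact p.Prime] (M : Ideal Cfsg.AlgInt) (hM : Cfsg.IsPModular p M) (P : Sylow p G) (N : Subgroup G) [N.Normal] (hidx : ¬ p ∣ N.index)
    (hC : Subgroup.centralizer ((P : Subgroup G) : Set G) ≤ N) (χ : Cfsg.IrrCharacter G) (hker : ∀ n ∈ N, (χ : G → ℂ) n = (χ : G → ℂ) 1) :
    χ ∈ Cfsg.principalBlock M G := by
  classical
  have hp : p.Prime := Fact.out
  obtain ⟨-, hMmax, hpM⟩ := hM
  show Cfsg.SameBlock M (fun _ : G => (1 : ℂ)) (χ : G → ℂ)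
  intro g
  obtain ⟨n, ρ, hirr, hρ⟩ := χ.2
  haveI := hirr
  haveI : Nontrivial (Fin n → ℂ) := Cfsg.Agent.Helper6.irr_nontrivial ρ
  -- ρ is trivial on N
  have hρN : ∀ x ∈ N, ρ x = 1 := by
    intro x hx
    have h1 := hker x hx
    rw [← hρ, Representation.char_one] at h1
    exact (Cfsg.Agent.Helper6.char_eq_finrank_iff ρ x).mp h1
  have hdvd := Cfsg.Agent.Helper6.finrank_dvd_index_of_ker ρ N hρN
  have hχ1 : (χ : G → ℂ) 1 = (Module.finrank ℂ (Fin n → ℂ) : ℂ) := by
    rw [← hρ, Representation.char_one]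
  have hdp : ¬ p ∣ Module.finrank ℂ (Fin n → ℂ) := fun h => hidx (h.trans hdvd)
  have hd0 : (Module.finrank ℂ (Fin n → ℂ) : ℂ) ≠ 0 := by
    have : Module.finrank ℂ (Fin n → ℂ) ≠ 0 := Module.finrank_pos.ne'
    exact_mod_cast this
  set K := (Subgroup.centralizer ({g} : Set G)).index with hK
  have hcc1 : Cfsg.centralChar (fun _ : G => (1 : ℂ)) g = (K : ℂ) := by
    unfold Cfsg.centralChar; simp [hK]
  by_cases hpK : p ∣ K
  · -- both central characters lie in the local ideal
    have h1 : Cfsg.MemLocalIdeal M (Cfsg.centralChar (fun _ : G => (1 : ℂ)) g) := by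
      rw [hcc1]
      have := Cfsg.Agent.Helper6.memLocalIdeal_of_mem hMmax
        (Cfsg.Agent.Helper6.natCast_mem_of_dvd hpM hpK)
      simpa using this
    have h2 : Cfsg.MemLocalIdeal M (Cfsg.centralChar (χ : G → ℂ) g) := by
      have hint : IsIntegral ℤ ((χ : G → ℂ) g) := by
        rw [← hρ]; exact Cfsg.Agent.Helper6.isIntegral_char ρ g
      refine ⟨(K : Cfsg.AlgInt) * ⟨(χ : G → ℂ) g, hint⟩,
        (Module.finrank ℂ (Fin n → ℂ) : Cfsg.AlgInt), ?_, ?_, ?_⟩
      · exact M.mul_mem_right _ (Cfsg.Agent.Helper6.natCast_mem_of_dvd hpM hpK)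
      · exact Cfsg.Agent.Helper6.natCast_not_mem_of_not_dvd hMmax hp hpM hdp
      · unfold Cfsg.centralChar
        rw [hχ1]
        push_cast
        rfl
    exact Cfsg.Agent.Helper6.MemLocalIdeal.sub hMmax h1 h2
  · -- g lies in N
    have hgN : g ∈ N := by
      obtain ⟨x, hcent⟩ := Cfsg.Agent.Helper6.exists_conj_mem_centralizer_sylow p P g hpK
      have h3 := hC hcent
      have h4 := (inferInstance : N.Normal).conj_mem _ h3 x⁻¹
      have h5 : x⁻¹ * (x * g * x⁻¹) * x⁻¹⁻¹ = g := by group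
      rwa [h5] at h4
    have : Cfsg.centralChar (χ : G → ℂ) g = (K : ℂ) := by
      unfold Cfsg.centralChar
      rw [hker g hgN, hχ1, mul_div_assoc, div_self hd0, mul_one]
    rw [hcc1, this, sub_self]
    exact Cfsg.Agent.Helper6.memLocalIdeal_zero hMmax

end Cfsg.Agent.S4626
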