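import Cfsg.Statements.S4629
import Cfsg.Agent.Helper1.OrSn
import Cfsg.Agent.Helper1.OrSo
import Cfsg.Agent.Helper8.StdForms
import Cfsg.Agent.S0286

set_option autoImplicit false
open Cfsg

namespace Cfsg.Agent.S4629

/-- Let F be a finite field of odd order and m ≥ 3. For the commutator subgroup Ω of the isometry group of the non-singular quadratic form x₀² + Σ x_i y_i in dimension 2m + 1 over F, a Sylow 2-subgroup P of Ω has P/P' elementary abelian: the square of every element of P lies in the derived subgroup of P. -/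
theorem result {F : Type*} [Field F] [Fintype F] (hF : Odd (Fintype.card F)) (m : ℕ) (hm : 3 ≤ m) (P : Sylow 2 (Cfsg.Omega F (Cfsg.quadFormOdd m F))) : ∀ x : (P : Subgroup (Cfsg.Omega F (Cfsg.quadFormOdd m F))), x ^ 2 ∈ commutator (P : Subgroup (Cfsg.Omega F (Cfsg.quadFormOdd m F))) := by
  classical
  haveI : Fact (Nat.Prime 2) := ⟨Nat.prime_two⟩
  have h2 : (2 : F) ≠ 0 := Cfsg.Agent.Helper1.SylE.two_ne_zero_of_odd hF
  have hq3 : 3 ≤ Fintype.card F := by
    have h1 : 1 < Fintype.card F := Fintype.one_lt_card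
    obtain ⟨k, hk⟩ := hF
    omega
  have hfun : ⇑(Cfsg.Agent.Helper8.StdForms.oddForm F m) = Cfsg.quadFormOdd m F :=
    funext (Cfsg.Agent.Helper8.StdForms.oddForm_apply F m)
  have hcard := Cfsg.Agent.S0286.result (F := F) rfl hF m
  rw [← hfun] at hcard
  have hord : padicValNat 2 (Nat.card ↥(Cfsg.isometryGroup F
      ⇑(Cfsg.Agent.Helper8.StdForms.oddForm F m))) ≤
      1 + (m * padicValNat 2 (Fintype.card F ^ 2 - 1) + padicValNat 2 m.factorial) := by
    have hpos : Nat.card ↥(Cfsg.isometryGroup F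
      ⇑(Cfsg.Agent.Helper8.StdForms.oddForm F m)) ≠ 0 := Nat.card_pos.ne'
    rw [hcard] at hpos ⊢
    rw [mul_assoc] at hpos ⊢
    rw [padicValNat.mul (by norm_num) (right_ne_zero_of_mul hpos), padicValNat_self,
      Cfsg.Agent.Helper1.SylE.padicValNat_card_sp hF hq3 m]
  have main := Cfsg.Agent.Helper1.OrS.sylow_odd (Cfsg.Agent.Helper8.StdForms.oddForm F m) hF
    (Cfsg.Agent.Helper8.StdForms.oddForm_nondeg F m h2) (m := m) (by omega)
    (by simp; omega) hord
  rw [hfun] at main
  exact main P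

end Cfsg.Agent.S4629
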