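import Cfsg.Statements.S4630
import Cfsg.Agent.Helper1.OrSn
import Cfsg.Agent.Helper1.OrSo
import Cfsg.Agent.Helper8.StdForms
import Cfsg.Agent.S0287
import Cfsg.Agent.S0790

set_option autoImplicit false
open Cfsg

namespace Cfsg.Agent.S4630

/-- Let F be a finite field of odd order and m ≥ 1 with m even or m ≥ 4. For the commutator subgroup Ω of the isometry group of the plus-type quadratic form Σ_{i<m} x_i y_i in dimension 2m over F, a Sylow 2-subgroup P of Ω has P/P' elementary abelian: the square of every element of P lies in the derived subgroup of P. -/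
theorem result {F : Type*} [Field F] [Fintype F] (hF : Odd (Fintype.card F)) (m : ℕ) (hm : 1 ≤ m) (hm' : Even m ∨ 4 ≤ m) (P : Sylow 2 (Cfsg.Omega F (Cfsg.quadFormPlus m F))) : ∀ x : (P : Subgroup (Cfsg.Omega F (Cfsg.quadFormPlus m F))), x ^ 2 ∈ commutator (P : Subgroup (Cfsg.Omega F (Cfsg.quadFormPlus m F))) := by
  classical
  haveI : Fact (Nat.Prime 2) := ⟨Nat.prime_two⟩
  have h2 : (2 : F) ≠ 0 := Cfsg.Agent.Helper1.SylE.two_ne_zero_of_odd hF
  have hq3 : 3 ≤ Fintype.card F := by
    have h1 : 1 < Fintype.card F := Fintype.one_lt_card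
    obtain ⟨k, hk⟩ := hF
    omega
  have hm2 : 2 ≤ m := by
    rcases hm' with ⟨k, hk⟩ | h <;> omega
  have hfun : ⇑(Cfsg.Agent.Helper8.StdForms.plusForm F m) = Cfsg.quadFormPlus m F :=
    funext (Cfsg.Agent.Helper8.StdForms.plusForm_apply F m)
  have hcard := Cfsg.Agent.S0287.result (F := F) rfl m hm
  have hneg := Cfsg.Agent.S0790.result (F := F) rfl hF m hm
  rw [← hfun] at hcard hneg
  obtain ⟨hpm, hp1, hp2⟩ := Cfsg.Agent.Helper1.OrS.v2_pm hF hq3 m hm
  have hv := Cfsg.Agent.Helper1.OrS.v2_even_order hF hq3 m (Fintype.card F ^ m - 1) _ hcard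
    Nat.card_pos.ne'
  have hqm : Fintype.card F ^ m % 2 = 1 := Nat.odd_iff.1 hF.pow
  have main := Cfsg.Agent.Helper1.OrS.sylow_even (Cfsg.Agent.Helper8.StdForms.plusForm F m) hF
    (Cfsg.Agent.Helper8.StdForms.plusForm_nondeg F m) (m := m) hm2
    (by simp; omega)
    (by
      rw [hv]
      exact Cfsg.Agent.Helper1.OrS.v2_full_le m hm _ _ (by omega))
    (by
      intro hno
      rw [hv]
      have h1 : Fintype.card F ^ m % 4 ≠ 1 := fun h => hno (hneg.2 h)
      have h3 : padicValNat 2 (Fintype.card F ^ m - 1) = 1 :=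
        Cfsg.Agent.Helper1.SylE.padicValNat_two_of_mod_four (by omega)
      rw [h3])
  rw [hfun] at main
  exact main P

end Cfsg.Agent.S4630
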