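import Cfsg.Statements.S4631
import Cfsg.Agent.Helper1.OrSn
import Cfsg.Agent.Helper1.OrSo
import Cfsg.Agent.Helper8.StdForms
import Cfsg.Agent.S0288
import Cfsg.Agent.S0791

set_option autoImplicit false
open Cfsg

namespace Cfsg.Agent.S4631

/-- Let F be a finite field of odd order, m ≥ 4, and a, b ∈ F with z₁² + a z₁ z₂ + b z₂² anisotropic. For the commutator subgroup Ω of the isometry group of the minus-type quadratic form Σ_{i<m−1} x_i y_i + (z₁² + a z₁ z₂ + b z₂²) in dimension 2m over F, a Sylow 2-subgroup P of Ω has P/P' elementary abelian: the square of every element of P lies in the derived subgroup of P. -/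
theorem result {F : Type*} [Field F] [Fintype F] (hF : Odd (Fintype.card F)) (m : ℕ) (hm : 4 ≤ m) (a b : F) (hab : ∀ z₁ z₂ : F, z₁ ^ 2 + a * z₁ * z₂ + b * z₂ ^ 2 = 0 → z₁ = 0 ∧ z₂ = 0) (P : Sylow 2 (Cfsg.Omega F (Cfsg.quadFormMinus (m - 1) F a b))) : ∀ x : (P : Subgroup (Cfsg.Omega F (Cfsg.quadFormMinus (m - 1) F a b))), x ^ 2 ∈ commutator (P : Subgroup (Cfsg.Omega F (Cfsg.quadFormMinus (m - 1) F a b))) := by
  classical
  haveI : Fact (Nat.Prime 2) := ⟨Nat.prime_two⟩
  have h2 : (2 : F) ≠ 0 := Cfsg.Agent.Helper1.SylE.two_ne_zero_of_odd hF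
  have hq3 : 3 ≤ Fintype.card F := by
    have h1 : 1 < Fintype.card F := Fintype.one_lt_card
    obtain ⟨k, hk⟩ := hF
    omega
  have hm1 : 1 ≤ m := by omega
  have hfun : ⇑(Cfsg.Agent.Helper8.StdForms.minusForm F (m - 1) a b) =
      Cfsg.quadFormMinus (m - 1) F a b :=
    funext (Cfsg.Agent.Helper8.StdForms.minusForm_apply F (m - 1) a b)
  have hcard := Cfsg.Agent.S0288.result (F := F) rfl m hm1 a b hab
  have hneg := Cfsg.Agent.S0791.result (F := F) rfl hF m hm1 a b hab
  rw [← hfun] at hcard hneg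
  obtain ⟨hpm, hp1, hp2⟩ := Cfsg.Agent.Helper1.OrS.v2_pm hF hq3 m hm1
  have hv := Cfsg.Agent.Helper1.OrS.v2_even_order hF hq3 m (Fintype.card F ^ m + 1) _ hcard
    Nat.card_pos.ne'
  have hqm : Fintype.card F ^ m % 2 = 1 := Nat.odd_iff.1 hF.pow
  have main := Cfsg.Agent.Helper1.OrS.sylow_even
    (Cfsg.Agent.Helper8.StdForms.minusForm F (m - 1) a b) hF
    (Cfsg.Agent.Helper8.StdForms.minusForm_nondeg F (m - 1) hab) (m := m) (by omega)
    (by simp; omega)
    (by
      rw [hv]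
      exact Cfsg.Agent.Helper1.OrS.v2_full_le m hm1 _ _ (by omega))
    (by
      intro hno
      rw [hv]
      have h1 : Fintype.card F ^ m % 4 ≠ 3 := fun h => hno (hneg.2 h)
      have h3 : padicValNat 2 (Fintype.card F ^ m + 1) = 1 :=
        Cfsg.Agent.Helper1.SylE.padicValNat_two_of_mod_four (by omega)
      rw [h3])
  rw [hfun] at main
  exact main P

end Cfsg.Agent.S4631
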