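import Cfsg.Statements.S4633
import Mathlib
import Cfsg.Agent.Helper6.InertialTrivial
import Cfsg.Agent.Helper6.CyclicInertial
-- import your own Cfsg.Agent.* helpers here

set_option autoImplicit false
open Cfsg

namespace Cfsg.Agent.S4633

/-- Let B be a block of the finite group G relative to a maximal ideal M of the algebraic integers containing the prime p, with a nontrivial cyclic defect group P. Let c be a block of C_G(P) inducing B and T the stabilizer of c in N_G(P) (the elements of N_G(P) conjugating c to itself); T contains C_G(P). Then T/C_G(P) is cyclic of order dividing p − 1, and it acts freely on the non-identity elements of P: an element of T fixing some non-identity element of P under conjugation lies in C_G(P). -/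
theorem result {G : Type*} [Group G] [Finite G] (p : ℕ) [Fact p.Prime] (M : Ideal Cfsg.AlgInt) (hM : Cfsg.IsPModular p M) (B : Set (Cfsg.IrrCharacter G)) (hB : Cfsg.IsPBlock M B) (P : Subgroup G) (hPD : Cfsg.IsDefectGroup p M B P) (hP1 : P ≠ ⊥) (hcyc : IsCyclic P) (c : Set (Cfsg.IrrCharacter (Subgroup.centralizer (P : Set G)))) (hc : Cfsg.IsInducedBlock M (Subgroup.centralizer (P : Set G)) c B) (T : Subgroup G) (hT : ∀ g : G, g ∈ T ↔ (g ∈ Subgroup.normalizer (P : Set G) ∧ Cfsg.StabilizesBlock (Subgroup.centralizer (P : Set G)) c g)) [hn : ((Subgroup.centralizer (P : Set G)).subgroupOf T).Normal] : IsCyclic (T ⧸ (Subgroup.centralizer (P : Set G)).subgroupOf T) ∧ (Subgroup.centralizer (P : Set G)).relIndex T ∣ p - 1 ∧ ∀ g ∈ T, ∀ x ∈ P, x ≠ 1 → g * x * g⁻¹ = x → g ∈ Subgroup.centralizer (P : Set G) := by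
  classical
  haveI : Fintype G := Fintype.ofFinite G
  have hMmax : M.IsMaximal := hM.2.1
  have hcard := Helper6.card_defectGroup hMmax p hM.2.2 B hB P hPD
  have hPp : IsPGroup p P := IsPGroup.of_card hcard
  have hab : ∀ x ∈ P, ∀ y ∈ P, x * y = y * x := by
    intro x hx y hy
    have := (IsCyclic.isMulCommutative (α := P)).is_comm.comm ⟨x, hx⟩ ⟨y, hy⟩
    exact congrArg Subtype.val this
  obtain ⟨χ₀, hχ₀⟩ := hB
  have hχ₀B : χ₀ ∈ B := by rw [hχ₀]; exact Helper6.mem_blockOf_self hMmax χ₀
  have hB' : Cfsg.IsPBlock M B := ⟨χ₀, hχ₀⟩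
  have hBe : Cfsg.IsBrauerPairOf p M B P c := by
    refine ⟨⟨hPp, hc.1⟩, hB', fun ξ hξ => ?_⟩
    have h1 := Helper6.brauerOmega_blockCoeff hM P B hB' ξ χ₀ (fun g => by
      rw [Helper6.brauerCentralChar_centralizer_eq]
      exact hc.2.2 ξ hξ χ₀ hχ₀B g)
    rw [if_pos hχ₀B] at h1
    exact h1
  have hmax : Cfsg.IsMaximalBrauerPair p M B P c :=
    Helper6.isMaximalBrauerPair_of_card_eq hM B P c hBe hcard
  have hTN : T ≤ Subgroup.normalizer (P : Set G) := fun g hg => ((hT g).mp hg).1
  have hCT : Subgroup.centralizer (P : Set G) ≤ T := fun g hg =>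
    (hT g).mpr ⟨Subgroup.centralizer_le_normalizer _ hg,
      Helper6.stabilizesBlock_of_mem_centralizer _ _ g hg⟩
  have hpel : ∀ u ∈ T, ∀ k : ℕ, orderOf u = p ^ k → u ∈ Subgroup.centralizer (P : Set G) := by
    intro u hu k hk
    obtain ⟨huN, hust⟩ := (hT u).mp hu
    exact Helper6.pElement_mem_centralizer_of_stabilizes hM B P c hmax hab u huN hust k hk
  exact Helper6.cyclic_inertial p P hP1 hcyc hPp T hTN hCT hpel

end Cfsg.Agent.S4633
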