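import Cfsg.Statements.S4636
import Mathlib
-- import your own Cfsg.Agent.* helpers here

set_option autoImplicit false
open scoped Pointwise
open Cfsg

namespace Cfsg.Agent.S4636

/-- Let P be a nontrivial cyclic p-subgroup of the finite group G and Z its subgroup of order p. For every x outside N_G(Z), P meets its conjugate xPx⁻¹ trivially; consequently N_G(Q) ≤ N_G(Z) for every nontrivial subgroup Q of P. -/
theorem result {G : Type*} [Group G] [Finite G] (p : ℕ) [Fact p.Prime] (P : Subgroup G) (hP : IsPGroup p P) (hP1 : P ≠ ⊥) (hcyc : IsCyclic P) (Z : Subgroup G) (hZ : Z ≤ P) (hZcard : Nat.card Z = p) : (∀ x : G, x ∉ Subgroup.normalizer (Z : Set G) → P ⊓ MulAut.conj x • P = ⊥) ∧ ∀ Q : Subgroup G, Q ≤ P → Q ≠ ⊥ → Subgroup.normalizer (Q : Set G) ≤ Subgroup.normalizer (Z : Set G) := by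
  classical
  haveI : Fintype G := Fintype.ofFinite G
  have hp : p.Prime := Fact.out
  -- uniqueness: every element of P with a^p = 1 lies in Z
  have key : ∀ a ∈ P, a ^ p = 1 → a ∈ Z := by
    intro a haP hap
    haveI : IsCyclic P := hcyc
    have hle := IsCyclic.card_pow_eq_one_le (α := P) hp.pos
    -- the image of Z inside P
    let S : Finset P := Finset.univ.filter (fun a : P => a ^ p = 1)
    let T : Finset P := Finset.univ.filter (fun a : P => (a : G) ∈ Z)
    have hTS : T ⊆ S := by
      intro b hb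
      have hbZ : (b : G) ∈ Z := (Finset.mem_filter.mp hb).2
      apply Finset.mem_filter.mpr ⟨Finset.mem_univ _, ?_⟩
      have : (⟨(b : G), hbZ⟩ : Z) ^ p = 1 := by
        rw [← hZcard]; exact pow_card_eq_one'
      have h2 := congrArg (fun z : Z => (z : G)) this
      simp only [Subgroup.coe_pow, Subgroup.coe_one] at h2
      apply Subtype.ext
      simpa using h2
    have hTcard : T.card = p := by
      rw [← hZcard, Nat.card_eq_fintype_card, ← Finset.card_univ]
      symm
      apply Finset.card_bij (fun (z : Z) _ => (⟨(z : G), hZ z.2⟩ : P))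
      · intro z _; exact Finset.mem_filter.mpr ⟨Finset.mem_univ _, z.2⟩
      · intro z _ z' _ h; apply Subtype.ext; exact congrArg (fun t : P => (t : G)) h
      · intro b hb
        exact ⟨⟨(b : G), (Finset.mem_filter.mp hb).2⟩, Finset.mem_univ _, rfl⟩
    have hST : S = T := by
      symm
      apply Finset.eq_of_subset_of_card_le hTS
      rw [hTcard]; exact hle
    have : (⟨a, haP⟩ : P) ∈ S := by
      apply Finset.mem_filter.mpr ⟨Finset.mem_univ _, ?_⟩
      apply Subtype.ext; simpa using hap
    rw [hST] at this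
    exact (Finset.mem_filter.mp this).2
  have part1 : ∀ x : G, x ∉ Subgroup.normalizer (Z : Set G) → P ⊓ MulAut.conj x • P = ⊥ := by
    intro x hx
    by_contra hne
    apply hx
    set D : Subgroup G := P ⊓ MulAut.conj x • P with hD
    have hDp : IsPGroup p D := hP.to_le inf_le_left
    haveI : Nontrivial D := (Subgroup.nontrivial_iff_ne_bot D).mpr hne
    obtain ⟨n, hn, hcard⟩ := hDp.nontrivial_iff_card.mp inferInstance
    have hdvd : p ∣ Nat.card D := by rw [hcard]; exact dvd_pow_self p hn.ne'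
    obtain ⟨y, hy⟩ := exists_prime_orderOf_dvd_card' p hdvd
    have hyP : (y : G) ∈ P := (Subgroup.mem_inf.mp y.2).1
    have hyxP : (y : G) ∈ MulAut.conj x • P := (Subgroup.mem_inf.mp y.2).2
    have hyo : orderOf (y : G) = p := by rw [Subgroup.orderOf_coe]; exact hy
    have hyp : (y : G) ^ p = 1 := by rw [← hyo]; exact pow_orderOf_eq_one _
    have hyZ : (y : G) ∈ Z := key _ hyP hyp
    obtain ⟨s, hsP, hs⟩ := (Subgroup.mem_smul_pointwise_iff_exists _ _ _).mp hyxP
    have hs' : x * s * x⁻¹ = (y : G) := by simpa [MulAut.smul_def] using hs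
    have hsp : s ^ p = 1 := by
      have : s = x⁻¹ * (y : G) * x⁻¹⁻¹ := by rw [← hs']; group
      rw [this, conj_pow, hyp]; group
    have hsZ : s ∈ Z := key _ hsP hsp
    -- Z = zpowers y
    have hZy : Z = Subgroup.zpowers (y : G) := by
      symm
      apply Subgroup.eq_of_le_of_card_ge
      · rw [Subgroup.zpowers_le]; exact hyZ
      · rw [hZcard, Nat.card_zpowers, hyo]
    -- x⁻¹ normalizes Z
    have hxinv : x⁻¹ ∈ Subgroup.normalizer (Z : Set G) := by
      apply Subgroup.mem_normalizer_fintype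
      intro z hz
      have hz' : z ∈ Subgroup.zpowers (y : G) := by rw [← hZy]; exact hz
      obtain ⟨k, rfl⟩ := Subgroup.mem_zpowers_iff.mp hz'
      have : x⁻¹ * (y : G) ^ k * x⁻¹⁻¹ = s ^ k := by
        have : s = x⁻¹ * (y : G) * x⁻¹⁻¹ := by rw [← hs']; group
        rw [this, conj_zpow]
      rw [this]
      exact Z.zpow_mem hsZ k
    simpa using (Subgroup.normalizer (Z : Set G)).inv_mem hxinv
  refine ⟨part1, ?_⟩
  intro Q hQP hQ x hx
  by_contra hxZ
  have h1 := part1 x hxZ
  apply hQ
  rw [eq_bot_iff, ← h1]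
  intro q hq
  refine Subgroup.mem_inf.mpr ⟨hQP hq, ?_⟩
  rw [Subgroup.mem_smul_pointwise_iff_exists]
  have hx' : x⁻¹ ∈ Subgroup.normalizer (Q : Set G) := (Subgroup.normalizer (Q : Set G)).inv_mem hx
  have := (Subgroup.mem_normalizer_iff.mp hx' q).mp hq
  refine ⟨x⁻¹ * q * x⁻¹⁻¹, hQP this, ?_⟩
  rw [MulAut.smul_def, MulAut.conj_apply]
  group

end Cfsg.Agent.S4636
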