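import Cfsg.Statements.S4691
import Mathlib
import Cfsg.Agent.Helper6.ConjChar
import Cfsg.Agent.Helper1.FrobPCompl
-- import your own Cfsg.Agent.* helpers here

set_option autoImplicit false
open Cfsg

namespace Cfsg.Agent.S4691

/-- Fix a prime p and a maximal ideal M of the algebraic integers containing p. A finite group G has a normal p-complement if and only if its principal p-block is nilpotent. -/
theorem result {G : Type*} [Group G] [Fintype G] (p : ℕ) [Fact p.Prime] (M : Ideal Cfsg.AlgInt) (hM : Cfsg.IsPModular p M) : Cfsg.HasNormalPComplement p G ↔ Cfsg.IsNilpotentBlock p M (Cfsg.principalBlock M G) := by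
  classical
  have hp : p.Prime := Fact.out
  constructor
  · rintro ⟨P, N, hNn, hcomp⟩
    haveI := hNn
    refine ⟨Helper6.isPBlock_principalBlock G, ?_⟩
    intro Q e hQe x hxN _ hxreg
    have hQ : IsPGroup p Q := hQe.1.1
    -- x lies in N
    have hidx : N.index = Nat.card (P : Subgroup G) := hcomp.symm.index_eq_card
    have hcard : Nat.card N * Nat.card (P : Subgroup G) = Nat.card G := hcomp.card_mul_card
    obtain ⟨k, hk⟩ := (IsPGroup.iff_card.mp P.isPGroup')
    have hxpow : x ^ (p ^ k) ∈ N := by
      rw [← QuotientGroup.eq_one_iff, QuotientGroup.mk_pow]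
      have h1 : Nat.card (G ⧸ N) = p ^ k := by
        rw [← Subgroup.index_eq_card, hidx, hk]
      rw [← h1]
      exact pow_card_eq_one'
    have hcop : (p ^ k).Coprime (orderOf x) := by
      apply Nat.Coprime.pow_left
      exact (Nat.Prime.coprime_iff_not_dvd hp).mpr hxreg
    obtain ⟨m, hm⟩ := exists_pow_eq_self_of_coprime hcop
    have hxNmem : x ∈ N := by
      rw [← hm]
      exact N.pow_mem hxpow m
    -- |N| is prime to p
    have hNcop : ¬ p ∣ Nat.card N := by
      intro hdiv
      have hPc : Nat.card (P : Subgroup G) = p ^ (Nat.card G).factorization p :=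
        P.card_eq_multiplicity
      have h2 : p ^ ((Nat.card G).factorization p + 1) ∣ Nat.card G := by
        have h2' : p * p ^ (Nat.card G).factorization p ∣
            Nat.card N * Nat.card (P : Subgroup G) := by
          rw [hPc]
          exact Nat.mul_dvd_mul hdiv (dvd_refl _)
        rw [hcard] at h2'
        rwa [pow_succ, mul_comm]
      have h3 := (Nat.Prime.pow_dvd_iff_le_factorization hp (Nat.card_pos (α := G)).ne').mp h2
      omega
    rw [Subgroup.mem_centralizer_iff]
    intro y hy
    -- the commutator lies in Q ∩ N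
    have hc1 : x * y * x⁻¹ * y⁻¹ ∈ Q :=
      Q.mul_mem ((Subgroup.mem_normalizer_iff.mp hxN y).mp hy) (Q.inv_mem hy)
    have hc2 : x * y * x⁻¹ * y⁻¹ ∈ N := by
      have : x * y * x⁻¹ * y⁻¹ = x * (y * x⁻¹ * y⁻¹) := by group
      rw [this]
      exact N.mul_mem hxNmem (hNn.conj_mem _ (N.inv_mem hxNmem) y)
    have hc3 : x * y * x⁻¹ * y⁻¹ = 1 := by
      obtain ⟨j, hj⟩ := hQ ⟨_, hc1⟩
      have hj' : (x * y * x⁻¹ * y⁻¹) ^ (p ^ j) = 1 := congrArg Subtype.val hj
      have hord1 : orderOf (x * y * x⁻¹ * y⁻¹) ∣ p ^ j := orderOf_dvd_of_pow_eq_one hj'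
      have hord2 : orderOf (x * y * x⁻¹ * y⁻¹) ∣ Nat.card N := by
        have := orderOf_dvd_natCard (⟨_, hc2⟩ : N)
        rwa [← Subgroup.orderOf_coe] at this
      have hcop2 : (p ^ j).Coprime (Nat.card N) :=
        Nat.Coprime.pow_left _ ((Nat.Prime.coprime_iff_not_dvd hp).mpr hNcop)
      have := Nat.eq_one_of_dvd_coprimes hcop2 hord1 hord2
      exact orderOf_eq_one_iff.mp this
    calc y * x = (x * y * x⁻¹ * y⁻¹)⁻¹ * (x * y) := by group
      _ = x * y := by rw [hc3, inv_one, one_mul]
  · intro hnil
    apply Helper1.frobenius_pcomplement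
    intro Q hQ g hg hcop
    apply hnil.2 Q (Cfsg.principalBlock M (Subgroup.centralizer (Q : Set G)))
      (Helper6.isBrauerPairOf_principal hM Q hQ) g hg
      (Helper6.stabilizesBlock_principalBlock _ g
        (Helper6.normalizer_le_normalizer_centralizer Q hg))
    intro hdiv
    have := Nat.Coprime.eq_one_of_dvd hcop.symm hdiv
    exact hp.one_lt.ne' this

end Cfsg.Agent.S4691
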