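import Cfsg.Statements.S4646
import Mathlib
import Cfsg.Agent.Helper6.NilpPrincipal
import Cfsg.Agent.S4691
-- import your own Cfsg.Agent.* helpers here

set_option autoImplicit false
open Cfsg

namespace Cfsg.Agent.S4646

/-- For a finite group G, a prime p and a maximal ideal M of the algebraic integers containing p: the principal block of G is nilpotent if and only if its p-regular rank is 1 (the trivial Brauer character is its only irreducible Brauer character). -/
theorem result {G : Type*} [Group G] [Finite G] (p : ℕ) [Fact p.Prime] (M : Ideal Cfsg.AlgInt) (hM : Cfsg.IsPModular p M) : Cfsg.IsNilpotentBlock p M (Cfsg.principalBlock M G) ↔ Cfsg.blockRank p (Cfsg.principalBlock M G) = 1 := by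
  classical
  haveI : Fintype G := Fintype.ofFinite G
  have hp : p.Prime := Fact.out
  rw [← Cfsg.Agent.S4691.result p M hM,
    Helper6.blockRank_eq_one_iff _ (Helper6.trivIrr_mem_principalBlock hM.2.1)]
  constructor
  · rintro ⟨P, N, hNn, hcomp⟩
    haveI := hNn
    intro χ hχ g hg
    have hgN := Helper6.mem_of_isPRegular_of_isComplement' P N hcomp g hg
    have hcop : (Nat.card N).Coprime p :=
      ((Nat.Prime.coprime_iff_not_dvd hp).mpr
        (Helper6.not_dvd_card_of_isComplement' P N hcomp)).symm
    exact Helper6.principalBlock_subset_kernelSet p hM.2.1 hM.2.2 N hcop hχ g hgN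
  · intro h
    apply Helper6.hasNormalPComplement_of_pRegular_mem
      (Helper6.commonKernel (Cfsg.principalBlock M G))
      (Helper6.not_dvd_card_commonKernel hM _ (Helper6.isPBlock_principalBlock G))
    intro x hx χ hχ
    exact h χ hχ x hx

end Cfsg.Agent.S4646
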