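import Cfsg.Statements.S4653
import Mathlib
import Cfsg.Agent.Helper6.LyingOver
import Cfsg.Agent.Helper6.PCoreChar
import Cfsg.Agent.Helper6.NormalComplementBlock2
-- import your own Cfsg.Agent.* helpers here

set_option autoImplicit false
open Cfsg

namespace Cfsg.Agent.S4653

/-- Fix a prime p and a maximal ideal M of the algebraic integers containing p. Let P be a normal p-subgroup of the finite group G and B a p-block of G. Then the idempotent of B is supported on C_G(P): its coefficient at every element of G outside C_G(P) is zero. -/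
theorem result {G : Type*} [Group G] [Fintype G] (p : ℕ) [Fact p.Prime] (M : Ideal Cfsg.AlgInt) (hM : Cfsg.IsPModular p M) (P : Subgroup G) [P.Normal] (hP : IsPGroup p P) (B : Set (Cfsg.IrrCharacter G)) (hB : Cfsg.IsPBlock M B) (g : G) (hg : g ∉ Subgroup.centralizer (P : Set G)) : Cfsg.blockCoeff B g = 0 := by
  classical
  set N : Subgroup G := Subgroup.centralizer (P : Set G) with hN
  haveI : N.Normal := by rw [hN]; infer_instance
  haveI : Fintype N := Fintype.ofFinite _
  set O : Set (Cfsg.IrrCharacter N) := {θ | ∃ χ ∈ B,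
    Cfsg.classInner (fun n : N => (χ : G → ℂ) n) (θ : N → ℂ) ≠ 0} with hO
  have hOstable : ∀ x : G, ∀ θ ∈ O, Helper6.conjIrr N x θ ∈ O := by
    rintro x θ ⟨χ, hχ, hne⟩
    refine ⟨χ, hχ, ?_⟩
    have hχcf := Helper6.IsCharacter.isClassFunction (Helper6.IsIrrCharacter.isCharacter χ.2)
    have h1 : Cfsg.classInner (fun n : N => (χ : G → ℂ) n) (Helper6.conjFun N (θ : N → ℂ) x) =
        Cfsg.classInner (Helper6.conjFun N (fun n : N => (χ : G → ℂ) n) x)
          (Helper6.conjFun N (θ : N → ℂ) x) := by
      rw [Helper6.conjFun_restrict N (χ : G → ℂ) hχcf x]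
    change Cfsg.classInner (fun n : N => (χ : G → ℂ) n) (Helper6.conjFun N (θ : N → ℂ) x) ≠ 0
    rw [h1, Helper6.classInner_conjFun]
    exact hne
  have hBeq : B = Helper6.lyingOver N O := by
    ext χ'
    constructor
    · intro hχ'
      obtain ⟨θ, hθ⟩ := Helper6.exists_constituent_restrict N χ'
      exact ⟨θ, ⟨χ', hχ', hθ⟩, hθ⟩
    · rintro ⟨θ, ⟨χ, hχ, hne⟩, hne'⟩
      obtain ⟨χ₀, rfl⟩ := hB
      have hsame : Cfsg.SameBlock M (χ : G → ℂ) (χ' : G → ℂ) := by
        intro y
        by_cases hy : y ∈ N
        · have e1 := Helper6.centralChar_eq_induced_of_constituent N χ θ hne ⟨y, hy⟩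
          have e2 := Helper6.centralChar_eq_induced_of_constituent N χ' θ hne' ⟨y, hy⟩
          change Cfsg.centralChar (χ : G → ℂ) y = _ at e1
          change Cfsg.centralChar (χ' : G → ℂ) y = _ at e2
          rw [e1, e2, sub_self]
          exact Helper6.memLocalIdeal_zero hM.2.1
        · exact Helper6.MemLocalIdeal.sub hM.2.1
            (Helper6.centralChar_memLocalIdeal_of_not_mem_centralizer hM P hP χ y hy)
            (Helper6.centralChar_memLocalIdeal_of_not_mem_centralizer hM P hP χ' y hy)
      exact Helper6.sameBlock_trans hM.2.1 hχ hsame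
  rw [hBeq, Helper6.blockCoeff_lyingOver N O hOstable g]
  exact Helper6.extendByZero_not_mem N _ hg

end Cfsg.Agent.S4653
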