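import Cfsg.Statements.S4663
import Mathlib
import Cfsg.Agent.Helper6.MaximalPairNormalizer
-- import your own Cfsg.Agent.* helpers here

set_option autoImplicit false
open Cfsg

namespace Cfsg.Agent.S4663

/-- Fix a prime p and a maximal ideal M of the algebraic integers containing p. Brauer's Third Main Theorem in the language of Brauer pairs: for the principal p-block B₀ of the finite group G and any p-subgroup Q, a p-block e of C_G(Q) makes (Q, e) a Brauer pair of B₀ if and only if e is the principal p-block of C_G(Q). Equivalently, modulo M the truncation to C_G(Q) of the idempotent of B₀ is the idempotent of the principal block of C_G(Q). -/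
theorem result {G : Type*} [Group G] [Fintype G] (p : ℕ) [Fact p.Prime] (M : Ideal Cfsg.AlgInt) (hM : Cfsg.IsPModular p M) (Q : Subgroup G) (hQ : IsPGroup p Q) (e : Set (Cfsg.IrrCharacter (Subgroup.centralizer (Q : Set G)))) (he : Cfsg.IsPBlock M e) : Cfsg.IsBrauerPairOf p M (Cfsg.principalBlock M G) Q e ↔ e = Cfsg.principalBlock M (Subgroup.centralizer (Q : Set G)) := by
  constructor
  · intro hBe
    obtain ⟨R, g, hle, hmaxR⟩ := Helper6.exists_isMaximalBrauerPair_ge
      (Cfsg.principalBlock M G) _ Q e hBe rfl
    have hRdef := Helper6.isDefectGroup_of_isMaximalBrauerPair hM _ R g hmaxR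
    have hRcard := Helper6.card_defectGroup hM.2.1 p hM.2.2 (Cfsg.principalBlock M G)
      (Helper6.isPBlock_principalBlock G) R hRdef
    have hRp := hmaxR.1.1.1
    have hpr := Helper6.isBrauerPairOf_principal hM R hRp
    have hmax₀ := Helper6.isMaximalBrauerPair_of_card_eq hM (Cfsg.principalBlock M G) R
      (Cfsg.principalBlock M (Subgroup.centralizer (R : Set G))) hpr hRcard
    obtain ⟨n, hn, hnP, hg⟩ := Helper6.exists_normalizer_conj_of_isMaximalBrauerPair hM
      (Cfsg.principalBlock M G) R _ g hmax₀ hmaxR
    have hn' : n⁻¹ ∈ Subgroup.normalizer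
        ((Subgroup.centralizer (R : Set G) : Subgroup G) : Set G) := Subgroup.inv_mem _ hn
    have hgeq : g = Cfsg.principalBlock M (Subgroup.centralizer (R : Set G)) := by
      rw [hg]
      apply Set.Subset.antisymm
      · rintro θ ⟨χ, hχ, rfl⟩
        exact Helper6.nconjIrr_mem_of_stabilizes _ _ n
          (Helper6.stabilizesBlock_principalBlock _ n hn) χ hχ
      · intro χ hχ
        refine ⟨Helper6.nconjIrr _ n⁻¹ hn' χ, ?_, Helper6.nconjIrr_inv_cancel _ n hn hn' χ⟩
        exact Helper6.nconjIrr_mem_of_stabilizes _ _ n⁻¹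
          (Helper6.stabilizesBlock_principalBlock _ n⁻¹ hn') χ hχ
    subst hgeq
    have hQR : Q ≤ R := Helper6.SubpairLE.le hle
    have h1 := Helper6.subpairLE_principal hM R hRp _ Q hQR rfl
    exact Helper6.subpairLE_unique hM _ R Q _ ⟨hRp, Helper6.isPBlock_principalBlock _⟩ hQR rfl
      e _ hle h1
  · rintro rfl
    exact Helper6.isBrauerPairOf_principal hM Q hQ

end Cfsg.Agent.S4663
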