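import Cfsg.Statements.S4677
import Mathlib
import Cfsg.Agent.Helper6.BlockFusionRec2
-- import your own Cfsg.Agent.* helpers here

set_option autoImplicit false
open Cfsg

namespace Cfsg.Agent.S4677

/-- Fix a prime p and a maximal ideal M of the algebraic integers containing p, a p-block B of the finite group G and a maximal Brauer pair (P, e) of B. Then the fusion system of B on (P, e) exists and is saturated: there is a saturated fusion system over P, with ambient group G, whose maps with source a subgroup Q of P are exactly the conjugation maps by elements g of G that carry the Brauer pair (Q, e_Q) below (P, e) to a Brauer pair again below (P, e). -/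
theorem result {G : Type*} [Group G] [Fintype G] (p : ℕ) [Fact p.Prime] (M : Ideal Cfsg.AlgInt) (hM : Cfsg.IsPModular p M) (B : Set (Cfsg.IrrCharacter G)) (P : Subgroup G) (e : Set (Cfsg.IrrCharacter (Subgroup.centralizer (P : Set G)))) (hmax : Cfsg.IsMaximalBrauerPair p M B P e) : ∃ F : Cfsg.FusionSystem P, Cfsg.IsBlockFusionSystemOn p M B P e F ∧ F.IsSaturated p := by
  classical
  have hPe : Cfsg.IsBrauerPair p M P e := hmax.1.1
  obtain ⟨F, hFdef⟩ : ∃ F : Cfsg.FusionSystem P, F = Helper6.blockFusionSystem hM P e hPe :=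
    ⟨_, rfl⟩
  have hF : Cfsg.IsBlockFusionSystemOn p M B P e F := by
    rw [hFdef]; exact Helper6.isBlockFusionSystemOn_blockFusionSystem hM B P e hmax
  refine ⟨F, hF, ?_⟩
  intro Q hQP
  obtain ⟨fQ, hfQ, hleQ⟩ := Helper6.exists_subpairLE hM _ P Q e hPe hQP rfl
  have hiff := Helper6.blockFusion_isConj_iff hM B P e F hF Q fQ hQP hleQ
  -- a conjugate with the largest normalizer in `P`
  have hfin : {R : Subgroup G | F.IsConj Q R}.Finite := Set.toFinite _
  have hne : {R : Subgroup G | F.IsConj Q R}.Nonempty := by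
    refine ⟨Q, (hiff Q).mpr ⟨1, ?_, ?_⟩⟩
    · exact (congrArg Sigma.fst (Helper6.conjPair_one (⟨Q, fQ⟩ : Cfsg.BrauerPairIdx G))).symm
    · show Relation.ReflTransGen (Cfsg.NormalSubpairRel p M)
        (Helper6.conjPair (1 : G) (⟨Q, fQ⟩ : Cfsg.BrauerPairIdx G)) ⟨P, e⟩
      rw [Helper6.conjPair_one]
      exact hleQ
  obtain ⟨R, hRmem, hRmax⟩ := Set.exists_max_image _
    (fun R : Subgroup G => Nat.card (Cfsg.FusionSystem.normalizerIn P R)) hfin hne
  obtain ⟨x, hRx, hlex⟩ := (hiff R).mp hRmem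
  subst hRx
  have hRP : Q.map (MulAut.conj x).toMonoidHom ≤ P := Helper6.SubpairLE.le hlex
  have hfR : Cfsg.IsPBlock M (Cfsg.conjBlock Q x fQ) := Helper6.isPBlock_conjBlock Q x fQ hfQ
  have hfn : F.IsFullyNormalized (Q.map (MulAut.conj x).toMonoidHom) := by
    refine ⟨hRP, fun R' hconj => ?_⟩
    apply hRmax R'
    obtain ⟨y, hR'y, hley⟩ := (Helper6.blockFusion_isConj_iff hM B P e F hF _ _ hRP hlex R').mp hconj
    have h1 := Helper6.conjPair_conjPair y x (⟨Q, fQ⟩ : Cfsg.BrauerPairIdx G)
    refine (hiff R').mpr ⟨y * x, ?_, ?_⟩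
    · rw [hR'y]
      exact congrArg Sigma.fst h1
    · show Relation.ReflTransGen (Cfsg.NormalSubpairRel p M)
        (Helper6.conjPair (y * x) (⟨Q, fQ⟩ : Cfsg.BrauerPairIdx G)) ⟨P, e⟩
      rw [← h1]
      exact hley
  exact ⟨_, hRmem,
    Helper6.isFullyAutomized_of_isFullyNormalized hM B P e hmax F hF _ _ hRP hfR hlex hfn,
    Helper6.isReceptive_of_isFullyNormalized hM B P e hmax F hF _ _ hRP hfR hlex hfn⟩

end Cfsg.Agent.S4677
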