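-- Statement S4684 (row 4684): the theorem Cfsg.blk5_height_zero_count_divisible_by_index_of_focal_subgroup.
-- Proof: the Broué–Puig *-construction (Cfsg/Agent/BP): the dual group of P / foc(F) acts freely on the
-- irreducible characters of height zero of B.
import Cfsg.Statements.S4684
import Cfsg.Agent.BP.StarAct
import Cfsg.Agent.BP.BPGlue
import Cfsg.Agent.BP.StarDefB
import Cfsg.Agent.BP.Restrict

set_option autoImplicit false
open Cfsg

namespace Cfsg.Agent.S4684

/-- Fix a prime p and a maximal ideal M of the algebraic integers containing p, a p-block B of the finite group G with maximal Brauer pair (P, e) and fusion system F on P. Then the number of irreducible characters of height zero in B is divisible by the index in P of the focal subgroup of F. -/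
theorem result {G : Type*} [Group G] [Fintype G] (p : ℕ) [Fact p.Prime] (M : Ideal Cfsg.AlgInt) (hM : Cfsg.IsPModular p M) (B : Set (Cfsg.IrrCharacter G)) (P : Subgroup G) (e : Set (Cfsg.IrrCharacter (Subgroup.centralizer (P : Set G)))) (hmax : Cfsg.IsMaximalBrauerPair p M B P e) (F : Cfsg.FusionSystem P) (hF : Cfsg.IsBlockFusionSystemOn p M B P e F) : (F.focalSubgroup.subgroupOf P).index ∣ Nat.card {χ : Cfsg.IrrCharacter G // χ ∈ B ∧ Cfsg.blockHeight p B (χ : G → ℂ) = 0} := by
  apply Cfsg.Agent.BP.bp_height_zero_count hM B P e hmax F hF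
  exact Cfsg.Agent.BP.bp_hBP_linear p M B P e F hF
    (Cfsg.Agent.BP.bp_hBP_of_restrict p M P e
      (fun η _ hst χ hχ => Cfsg.Agent.BP.bp_star_isClassFunction P e η hst χ
        (Cfsg.Agent.Helper6.IsCharacter.isClassFunction hχ))
      (fun η hη hst χ hχ S C hS hC hCS =>
        Cfsg.Agent.BP.bp_star_restrict hM B P e hmax η hη hst χ hχ S C hS hC hCS))

end Cfsg.Agent.S4684
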