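-- Statement S4685 (row 4685): the theorem Cfsg.blk5_height_count_divisible_by_center_mod_focal.
-- Proof: the Broué–Puig *-construction (Cfsg/Agent/BP): the dual group of P / foc(F) acts on the irreducible
-- characters of height h of B, and the stabilizers are trivial on Z(P).
import Cfsg.Statements.S4685
import Cfsg.Agent.BP.StarAct
import Cfsg.Agent.BP.BPGlue
import Cfsg.Agent.BP.StarDefB
import Cfsg.Agent.BP.Restrict

set_option autoImplicit false
open Cfsg

namespace Cfsg.Agent.S4685

/-- Fix a prime p and a maximal ideal M of the algebraic integers containing p, a p-block B of the finite group G with maximal Brauer pair (P, e) and fusion system F on P. Then for every h the number of irreducible characters of height h in B is divisible by the index of Z(P) ∩ foc(F) in Z(P), where foc(F) is the focal subgroup of F. -/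
theorem result {G : Type*} [Group G] [Fintype G] (p : ℕ) [Fact p.Prime] (M : Ideal Cfsg.AlgInt) (hM : Cfsg.IsPModular p M) (B : Set (Cfsg.IrrCharacter G)) (P : Subgroup G) (e : Set (Cfsg.IrrCharacter (Subgroup.centralizer (P : Set G)))) (hmax : Cfsg.IsMaximalBrauerPair p M B P e) (F : Cfsg.FusionSystem P) (hF : Cfsg.IsBlockFusionSystemOn p M B P e F) (h : ℕ) : ((P ⊓ Subgroup.centralizer (P : Set G) ⊓ F.focalSubgroup).subgroupOf (P ⊓ Subgroup.centralizer (P : Set G))).index ∣ Nat.card {χ : Cfsg.IrrCharacter G // χ ∈ B ∧ Cfsg.blockHeight p B (χ : G → ℂ) = h} := by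
  apply Cfsg.Agent.BP.bp_height_count hM B P e hmax F hF
  exact Cfsg.Agent.BP.bp_hBP_linear p M B P e F hF
    (Cfsg.Agent.BP.bp_hBP_of_restrict p M P e
      (fun η _ hst χ hχ => Cfsg.Agent.BP.bp_star_isClassFunction P e η hst χ
        (Cfsg.Agent.Helper6.IsCharacter.isClassFunction hχ))
      (fun η hη hst χ hχ S C hS hC hCS =>
        Cfsg.Agent.BP.bp_star_restrict hM B P e hmax η hη hst χ hχ S C hS hC hCS))

end Cfsg.Agent.S4685
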