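import Cfsg.Statements.S4702
import Cfsg.Agent.Helper2.Sharp3D

set_option autoImplicit false
open Cfsg

namespace Cfsg.Agent.S4702

/-- Let G be a triply transitive permutation group on a finite set of odd size m ≥ 3 in which only the identity fixes three or more points. Then m = 2^a + 1 for some a ≥ 1 and G is isomorphic to SL(2, 2^a). -/
theorem result {α : Type*} [Fintype α] [DecidableEq α] (hm : 3 ≤ Fintype.card α) (hodd : Odd (Fintype.card α)) (G : Subgroup (Equiv.Perm α)) (h3 : MulAction.IsMultiplyPretransitive G α 3) (hfix : ∀ g : G, 3 ≤ Nat.card (MulAction.fixedBy α g) → g = 1) : ∃ a : ℕ, 1 ≤ a ∧ Fintype.card α = 2 ^ a + 1 ∧ ∃ (F : Type) (_ : Field F) (_ : Fintype F), Fintype.card F = 2 ^ a ∧ Nonempty (G ≃* Matrix.SpecialLinearGroup (Fin 2) F) := by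
  classical
  have hS : Cfsg.Agent.Helper2.Sharp3.SharpThree G α := by
    refine Cfsg.Agent.Helper2.Sharp3.sharpThree_of h3 ?_
    intro x
    rw [eq_bot_iff]
    intro g hg
    rw [Subgroup.mem_bot]
    apply hfix g
    rw [MulAction.mem_stabilizer_iff] at hg
    have hinj : Function.Injective (fun i : Fin 3 => (⟨x i, by
        rw [MulAction.mem_fixedBy]
        have := congrArg (fun f : Fin 3 ↪ α => f i) hg
        simpa only [Function.Embedding.smul_apply] using this⟩ : MulAction.fixedBy α g)) := by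
      intro i j hij
      have : x i = x j := congrArg Subtype.val hij
      exact x.injective this
    have := Nat.card_le_card_of_injective _ hinj
    rwa [Nat.card_eq_fintype_card, Fintype.card_fin] at this
  have hcα : Nat.card α = Fintype.card α := Nat.card_eq_fintype_card
  obtain ⟨β, F, FT, hβ, ⟨φ⟩⟩ := hS.exists_pgl (by rw [hcα]; exact hodd) (by rw [hcα]; exact hm)
  obtain ⟨F', i1, i2, hF', ⟨ψ⟩⟩ := Cfsg.Agent.Helper2.Mobius.exists_small_field (K := β)
  have hcF : Fintype.card F' + 1 = Fintype.card α := by rw [hF', hβ, hcα]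
  obtain ⟨p, _, n, hp, hpn⟩ := FiniteField.card' F'
  have heven : Even (Fintype.card F') := by
    rcases Nat.even_or_odd (Fintype.card F') with h | h
    · exact h
    · exfalso
      have : Even (Fintype.card α) := by rw [← hcF]; exact h.add_one
      exact (Nat.not_even_iff_odd.2 hodd) this
  have hp2 : p = 2 := by
    rw [hpn] at heven
    have h2 : Even p := (Nat.even_pow.1 heven).1
    exact (Nat.Prime.even_iff hp).1 h2
  subst hp2
  have hn0 : (n : ℕ) ≠ 0 := n.ne_zero
  have h20 : (2 : F') = 0 := by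
    have := FiniteField.cast_card_eq_zero F'
    rw [hpn, Nat.cast_pow, Nat.cast_ofNat] at this
    exact (pow_eq_zero_iff hn0).1 this
  obtain ⟨χ⟩ := Cfsg.Agent.Helper2.Mobius.nonempty_pgl_equiv_psl (F := F') h20
  have hcenter : Subgroup.center (Matrix.SpecialLinearGroup (Fin 2) F') = ⊥ := by
    rw [eq_bot_iff]
    intro A hA
    rw [Subgroup.mem_bot]
    obtain ⟨r, hr, hrA⟩ := Matrix.SpecialLinearGroup.mem_center_iff.1 hA
    rw [Fintype.card_fin] at hr
    have hr1 : r = 1 := by
      have h1 : (r - 1) ^ 2 = 0 := by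
        have : (r - 1) ^ 2 = r ^ 2 - 2 * r + 1 := by ring
        rw [this, hr, h20]; norm_num
        exact h20
      have := pow_eq_zero_iff (two_ne_zero) |>.1 h1
      exact sub_eq_zero.1 this
    apply Subtype.ext
    rw [← hrA, hr1]
    simp
  let ω : Matrix.ProjectiveSpecialLinearGroup (Fin 2) F' ≃* Matrix.SpecialLinearGroup (Fin 2) F' :=
    (QuotientGroup.quotientMulEquivOfEq hcenter).trans QuotientGroup.quotientBot
  refine ⟨n, Nat.one_le_iff_ne_zero.2 hn0, ?_, F', i1, i2, hpn, ⟨((φ.trans ψ).trans χ).trans ω⟩⟩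
  rw [← hcF, hpn]

end Cfsg.Agent.S4702
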