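import Cfsg.Statements.S4705
import Cfsg.Agent.BR.PmtLocal
import Cfsg.Agent.BR.PmtDet
import Cfsg.Agent.BR.PmtQuot
import Cfsg.Agent.BR.PmtSplit
import Cfsg.Agent.BR.PmtTw
import Cfsg.Agent.BR.PmtVal
import Cfsg.Agent.BR.PmtCnt
import Cfsg.Agent.BR.PmtPerfF

/-!
# S4705: a faithful irreducible character of degree `p - 2` (team proof; plan `notes/S4705_plan.md`)

`BR/PmtLocal` (helper8): block theory of defect one gives the local structure `br_pmt_Hyp`.
`BR/PmtDet` (lead): determinant twist to a central character of odd order; `Z ∩ G'` has exponent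
dividing `p - 2`.  `BR/PmtTw` (helper4): the Galois-twisted family and the relation (T).
`BR/PmtVal` (helper6): the values on the `p`-regular elements.  `BR/PmtCnt` (helper5):
`2 |Syl_p| = (p-1)(p-2)`.  `BR/PmtPerf` (helper7): `G = G' Z`.  `BR/PmtQuot` (helper7): the landed
S0996 on `G ⧸ Z(G)`.  `BR/PmtSplit` (lead): splitting by transfer into a torus.
-/

set_option autoImplicit false
open Cfsg

namespace Cfsg.Agent.S4705

open Cfsg.Agent.BR

/-- Let G be a finite group with centre Z and p > 5 a prime such that a Sylow p-subgroup of G has order p and is not normal. If G has a faithful irreducible character of degree p − 2, then p = 2^a + 1 for some a and G is isomorphic to the direct product of SL(2, 2^a) with Z. -/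
theorem result {G : Type*} [Group G] [Finite G] (p : ℕ) [Fact p.Prime] (hp : 5 < p) (P : Sylow p G) (hP : Nat.card P = p) (hnn : ¬ (P : Subgroup G).Normal) (ζ : G → ℂ) (hζ : Cfsg.IsIrrCharacter G ζ) (hfaith : ∀ g : G, ζ g = ζ 1 → g = 1) (hdeg : Cfsg.charDegree ζ = p - 2) : ∃ (a : ℕ) (F : Type) (_ : Field F) (_ : Fintype F), p = 2 ^ a + 1 ∧ Fintype.card F = 2 ^ a ∧ Nonempty (G ≃* Matrix.SpecialLinearGroup (Fin 2) F × Subgroup.center G) := by
  -- Part A: the local structure (block theory of defect one)
  obtain ⟨θ, l, h⟩ := br_pmt_local p hp P hP hnn ζ hζ hfaith hdeg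
  -- twist by a power of the determinant: the central character gets odd order
  obtain ⟨ζ', θ', h', hodd⟩ := br_pmt_twist p P h
  -- K1-K3: relation (T), values on the p-regular elements, the count
  have hcount : 2 * Nat.card (Sylow p G) = (p - 1) * (p - 2) := by
    classical
    letI : Fintype G := Fintype.ofFinite G
    obtain ⟨J, -, -, -, -, hinner⟩ := br_pmt_T p P h' hodd
    exact br_pmt_cnt_core p P h' hinner
      (fun g hg hgZ hg2 => br_pmt_val_inv p P h' hodd g hg hgZ hg2)
      (fun g hg hg2 => br_pmt_val_zero p P h' hodd g hg hg2)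
      (fun g hg hg4 => br_pmt_val_four p P h' hodd g hg hg4)
  have hperf : commutator G ⊔ Subgroup.center G = ⊤ := br_pmt_perfect p P h' hodd
  -- K4: G / Z(G) is SL(2, 2^a) and p = 2^a + 1
  obtain ⟨a, F, _, _, hpa, hF, ⟨e⟩⟩ := br_pmt_quot p P h' hcount hperf
  have ha : 1 ≤ a := by
    rcases Nat.eq_zero_or_pos a with h0 | h0
    · rw [h0] at hpa; omega
    · exact h0
  -- splitting: Z ∩ G' has exponent dividing p - 2 = 2^a - 1 (determinant), transfer into a torus
  refine ⟨a, F, _, _, hpa, hF, br_pmt_split F a ha hF e hperf ?_⟩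
  intro y hy hy'
  have := br_pmt_det_center hζ hfaith y hy hy'
  rw [hdeg, hpa] at this
  rwa [show 2 ^ a + 1 - 2 = 2 ^ a - 1 by omega] at this

end Cfsg.Agent.S4705
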