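import Mathlib
import Cfsg.Statements.S4706
import Cfsg.Agent.Helper2.PrimeTwoI
import Cfsg.Agent.S1013
import Cfsg.Agent.S0676
import Cfsg.Agent.S4702

set_option autoImplicit false
open Cfsg

namespace Cfsg.Agent.S4706

open Cfsg.Agent.Helper2

/-- Let p > 2 be a prime and G a permutation group on p letters whose Sylow p-subgroup P has normalizer of order 2p. Then either P is normal in G, or p − 1 = 2^a for some a and G is isomorphic to SL(2, 2^a). -/
theorem result {α : Type*} [Fintype α] [DecidableEq α] {p : ℕ} [Fact p.Prime] (hp : 2 < p) (hα : Fintype.card α = p) (G : Subgroup (Equiv.Perm α)) (P : Sylow p G) (hN : Nat.card (Subgroup.normalizer ((P : Subgroup G) : Set G)) = 2 * p) : (P : Subgroup G).Normal ∨ ∃ (a : ℕ) (F : Type) (_ : Field F) (_ : Fintype F), p = 2 ^ a + 1 ∧ Fintype.card F = 2 ^ a ∧ Nonempty (G ≃* Matrix.SpecialLinearGroup (Fin 2) F) := by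
  classical
  have hpp : p.Prime := Fact.out
  by_cases hnorm : (P : Subgroup G).Normal
  · exact Or.inl hnorm
  right
  haveI : Fintype ↥G := Fintype.ofFinite _
  -- the Sylow subgroup has order `p`
  have hPcard : Nat.card (P : Subgroup G) = p := by
    obtain ⟨k, hk⟩ := IsPGroup.iff_card.mp P.isPGroup'
    have hdvd : Nat.card (P : Subgroup G) ∣ 2 * p := by
      rw [← hN]
      exact Subgroup.card_dvd_of_le Subgroup.le_normalizer
    rcases k with _ | _ | k
    · exfalso
      apply hnorm
      have h1 : (P : Subgroup G) = ⊥ := by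
        rw [← Subgroup.card_eq_one, hk, pow_zero]
      rw [h1]
      infer_instance
    · rw [hk]; simp
    · exfalso
      rw [hk] at hdvd
      have h1 : p * p ∣ 2 * p := by
        refine dvd_trans ?_ hdvd
        have : p ^ (k + 1 + 1) = p * p * p ^ k := by ring
        rw [this]
        exact Dvd.intro _ rfl
      have h2 : p ∣ 2 := by
        rw [mul_comm 2 p] at h1
        exact Nat.dvd_of_mul_dvd_mul_left hpp.pos h1
      have := Nat.le_of_dvd (by norm_num) h2
      omega
  obtain ⟨hreg, htrans⟩ := PrimeTwo.regular_of_card (G := ↥G) (Ω := α) (P : Subgroup G) hPcard hα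
  haveI : MulAction.IsPretransitive ↥G α := ⟨fun a b => by
    obtain ⟨k, -, h⟩ := htrans a b
    exact ⟨k, h⟩⟩
  have hsyl : 1 < Nat.card (Sylow p G) := by
    by_contra h
    have h1 : Nat.card (Sylow p G) = 1 := by
      have := Nat.card_pos (α := Sylow p G)
      omega
    rw [Sylow.card_eq_index_normalizer P, Subgroup.index_eq_one] at h1
    exact hnorm (Subgroup.normalizer_eq_top_iff.mp h1)
  have hidx : ((P : Subgroup G).subgroupOf
      (Subgroup.normalizer ((P : Subgroup G) : Set G))).index = 2 := by
    have h1 := Subgroup.card_mul_index ((P : Subgroup G).subgroupOf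
      (Subgroup.normalizer ((P : Subgroup G) : Set G)))
    rw [BrTI.card_subgroupOf_normalizer, hPcard, hN] at h1
    have := hpp.pos
    nlinarith
  have hsimp : IsSimpleGroup ↥G :=
    Cfsg.Agent.S1013.result hα G P hsyl (by rw [hidx]; exact Nat.prime_two)
  have hns : ¬ Group.IsSolvable ↥G := by
    intro hs
    have hcomm := (IsSimpleGroup.comm_iff_isSolvable (G := ↥G)).mpr hs
    apply hnorm
    constructor
    intro n hn g
    rw [hcomm g n, mul_inv_cancel_right]
    exact hn
  have h3 : MulAction.IsMultiplyPretransitive ↥G α 3 :=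
    Cfsg.Agent.S0676.result hα G hns P (by rw [hN]; exact even_two_mul p)
  have hodd : Odd (Fintype.card α) := by
    rw [hα]
    exact hpp.odd_of_ne_two (by omega)
  -- it suffices to show sharp triple transitivity
  suffices hfix : ∀ g : G, 3 ≤ Nat.card (MulAction.fixedBy α g) → g = 1 by
    obtain ⟨a, -, hcard, F, hF1, hF2, hF, hiso⟩ :=
      Cfsg.Agent.S4702.result (by rw [hα]; omega) hodd G h3 hfix
    exact ⟨a, F, hF1, hF2, by rw [← hα, hcard], hF, hiso⟩
  by_cases hbig : 7 < p
  · have hyp : PrimeTwo.Hyp ↥G α p (P : Subgroup G) :=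
      ⟨inferInstance, hpp, hbig, hα, hPcard, hN, h3⟩
    exact fun g hg => hyp.eq_one_of_three_fixed g hg
  -- small degrees
  obtain ⟨x₀⟩ : Nonempty (Fin 3 ↪ α) := by
    rw [Function.Embedding.nonempty_iff_card_le, Fintype.card_fin, hα]
    omega
  have hn := PrimeTwo.card_eq_mul_stab h3 x₀
  rw [hα] at hn
  obtain ⟨t, hn⟩ : ∃ t, Nat.card G = p.descFactorial 3 * t := ⟨_, hn⟩
  have hnpos : 0 < Nat.card G := Nat.card_pos
  have htpos : 0 < t := by
    rcases Nat.eq_zero_or_pos t with h | h
    · rw [h, mul_zero] at hn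
      omega
    · exact h
  have hs : Nat.card (Sylow p G) * (2 * p) = Nat.card G := by
    rw [Sylow.card_eq_index_normalizer P, ← hN, mul_comm]
    exact Subgroup.card_mul_index _
  have hmod : Nat.card (Sylow p G) % p = 1 % p := card_sylow_modEq_one p G
  have hfac : Nat.card G ∣ p.factorial := by
    have h1 : Nat.card G ∣ Nat.card (Equiv.Perm α) := Subgroup.card_subgroup_dvd_card G
    rwa [Nat.card_eq_fintype_card (α := Equiv.Perm α), Fintype.card_perm, hα] at h1
  generalize hs' : Nat.card (Sylow p G) = s at hs hmod hsyl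
  generalize hn' : Nat.card G = n at hn hs hfac hnpos
  have hp7 : p ≤ 7 := by omega
  clear hs'
  interval_cases p
  · -- `p = 3`
    exfalso
    have h2 : Nat.factorial 3 = 6 := by decide
    rw [h2] at hfac
    have h1 : n ≤ 6 := Nat.le_of_dvd (by norm_num) hfac
    omega
  · exact absurd hpp (by norm_num)
  · -- `p = 5`
    have h1 : Nat.descFactorial 5 3 = 60 := by decide
    have h2 : Nat.factorial 5 = 120 := by decide
    rw [h1] at hn
    rw [h2] at hfac
    have h4 : t ∣ 2 := by
      rw [hn] at hfac
      have h3' : 60 * t ∣ 60 * 2 := hfac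
      exact Nat.dvd_of_mul_dvd_mul_left (by norm_num : 0 < 60) h3'
    have h5 : t ≤ 2 := Nat.le_of_dvd (by norm_num) h4
    have h5' : s * 10 = 60 * t := by rw [← hn, ← hs]
    have h6 : t = 1 := by omega
    have h7 : Nat.card G = Nat.descFactorial (Fintype.card α) 3 := by
      rw [hn', hα, h1, hn, h6]
    exact fun g hg => PrimeTwo.eq_one_of_card h3 h7 (by rw [hα]; norm_num) g hg
  · exact absurd hpp (by norm_num)
  · -- `p = 7`
    have h1 : Nat.descFactorial 7 3 = 210 := by decide
    have h2 : Nat.factorial 7 = 5040 := by decide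
    rw [h1] at hn
    rw [h2] at hfac
    have h4 : t ∣ 24 := by
      rw [hn] at hfac
      have h3' : 210 * t ∣ 210 * 24 := hfac
      exact Nat.dvd_of_mul_dvd_mul_left (by norm_num : 0 < 210) h3'
    have h5 : t ≤ 24 := Nat.le_of_dvd (by norm_num) h4
    have h5' : s * 14 = 210 * t := by rw [← hn, ← hs]
    have h6 : t = 1 ∨ t = 8 ∨ t = 15 ∨ t = 22 := by omega
    rcases h6 with h6 | h6 | h6 | h6
    · have h7 : Nat.card G = Nat.descFactorial (Fintype.card α) 3 := by
        rw [hn', hα, h1, hn, h6]
      exact fun g hg => PrimeTwo.eq_one_of_card h3 h7 (by rw [hα]; norm_num) g hg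
    · exfalso
      have h7 : n = 1680 := by rw [hn, h6]
      have h8 := PrimeTwo.card_dvd_alternating G (by rw [hn', h7]; norm_num)
      haveI : Nontrivial α := by
        rw [← Fintype.one_lt_card_iff_nontrivial, hα]
        norm_num
      have h9 := two_mul_card_alternatingGroup (α := α)
      rw [Fintype.card_perm, hα, h2] at h9
      rw [Nat.card_eq_fintype_card (α := ↥(alternatingGroup α)), hn', h7] at h8
      have h10 : Fintype.card ↥(alternatingGroup α) = 2520 := by omega
      rw [h10] at h8
      norm_num at h8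
    · exfalso
      rw [h6] at h4
      norm_num at h4
    · exfalso
      rw [h6] at h4
      norm_num at h4

end Cfsg.Agent.S4706
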