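import Cfsg.Statements.S4713
import Mathlib
import Cfsg.Agent.Helper6.ItoMichler
-- import your own Cfsg.Agent.* helpers here

set_option autoImplicit false
open Cfsg

namespace Cfsg.Agent.S4713

/-- Let p be a prime and G a finite p-solvable group. Then G has a normal abelian Sylow p-subgroup if and only if the degree of every irreducible character of G is prime to p. -/
theorem result {G : Type*} [Group G] [Finite G] (p : ℕ) [Fact p.Prime] (hsolv : Cfsg.IsPSolvable p G) (P : Sylow p G) : ((P : Subgroup G).Normal ∧ IsMulCommutative P) ↔ ∀ χ : Cfsg.IrrCharacter G, ¬ p ∣ Cfsg.charDegree (χ : G → ℂ) := by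
  constructor
  · rintro ⟨hn, hc⟩ χ
    haveI := hn
    apply Helper6.not_dvd_degree_of_abelian_normal p (P : Subgroup G) _ P.not_dvd_index χ
    intro x hx y hy
    have h1 := hc.is_comm.comm (⟨x, hx⟩ : (P : Subgroup G)) ⟨y, hy⟩
    exact congrArg Subtype.val h1
  · intro hdeg
    obtain ⟨Q, hQn, hQab, hQp, hQidx⟩ := Helper6.ito_michler_psolvable p hsolv hdeg
    have hQS : ((hQp.toSylow hQidx : Sylow p G) : Subgroup G).Normal := hQn
    haveI : Unique (Sylow p G) := Sylow.unique_of_normal _ hQS
    have hPQ : P = hQp.toSylow hQidx := Subsingleton.elim _ _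
    have hPQ' : (P : Subgroup G) = Q := by rw [hPQ]; rfl
    constructor
    · rw [hPQ']; exact hQn
    · constructor
      constructor
      rintro ⟨x, hx⟩ ⟨y, hy⟩
      apply Subtype.ext
      change (x : G) * y = y * x
      have hx' : x ∈ Q := by rw [← hPQ']; exact hx
      have hy' : y ∈ Q := by rw [← hPQ']; exact hy
      exact hQab x hx' y hy'

end Cfsg.Agent.S4713
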