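import Cfsg.Statements.S4714
import Mathlib
import Cfsg.Agent.Helper6.PCCharB
-- import your own Cfsg.Agent.* helpers here

set_option autoImplicit false
open Cfsg

namespace Cfsg.Agent.S4714

/-- Let p be a prime, M a maximal ideal of the algebraic integers containing p, D a p-subgroup of the finite group G with G = D·C_G(D), and B a p-block with defect group D. Let χ be a member of B having D in its kernel (there is exactly one, the canonical character of B). Then the irreducible characters in B are exactly the functions θ on G for which there is an irreducible character ζ of D such that θ(yx) = ζ(y)χ(x) whenever y ∈ D, x has order prime to p and x commutes with y, and θ(z) = 0 whenever the p-part of z does not lie in D. -/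
theorem result {G : Type*} [Group G] [Finite G] (p : ℕ) [Fact p.Prime] (M : Ideal Cfsg.AlgInt) (hM : Cfsg.IsPModular p M) (D : Subgroup G) (hD : IsPGroup p D) (hG : D ⊔ Subgroup.centralizer (D : Set G) = ⊤) (B : Set (Cfsg.IrrCharacter G)) (hB : Cfsg.IsPBlock M B) (hBD : Cfsg.IsDefectGroup p M B D) (χ : Cfsg.IrrCharacter G) (hχ : χ ∈ B) (hχD : ∀ y ∈ D, (χ : G → ℂ) y = (χ : G → ℂ) 1) : (∀ θ : Cfsg.IrrCharacter G, θ ∈ B ↔ ∃ ζ : Cfsg.IrrCharacter D, (∀ (y : D) (x : G), ¬ p ∣ orderOf x → Commute (y : G) x → (θ : G → ℂ) ((y : G) * x) = (ζ : D → ℂ) y * (χ : G → ℂ) x) ∧ (∀ z : G, (∀ y : G, Cfsg.IsPPart p z y → y ∉ D) → (θ : G → ℂ) z = 0)) ∧ ∀ ζ : Cfsg.IrrCharacter D, ∃ θ ∈ B, (∀ (y : D) (x : G), ¬ p ∣ orderOf x → Commute (y : G) x → (θ : G → ℂ) ((y : G) * x) = (ζ : D → ℂ) y * (χ : G → ℂ) x) ∧ (∀ z : G, (∀ y : G, Cfsg.IsPPart p z y → y ∉ D) → (θ : G → ℂ) z = 0) := by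
  classical
  haveI := Fintype.ofFinite G
  haveI : Finite (Cfsg.IrrCharacter G) := Helper6.irr_finite
  haveI : Finite (Cfsg.IrrCharacter D) := Helper6.irr_finite
  have hform : ∀ θ : Cfsg.IrrCharacter G, θ ∈ B →
      ∃ ζ : Cfsg.IrrCharacter D, Helper6.PCForm p D (χ : G → ℂ) (θ : G → ℂ) (ζ : D → ℂ) :=
    fun θ hθ => Helper6.pc_char_form hM D hD hG B hB hBD χ hχ hχD θ hθ
  choose Φ hΦ using hform
  let Ψ : B → Cfsg.IrrCharacter D := fun θ => Φ θ.1 θ.2
  have hinj : Function.Injective Ψ := by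
    intro a b hab
    apply Subtype.ext
    apply Subtype.ext
    have ha := hΦ a.1 a.2
    have hb := hΦ b.1 b.2
    have hab' : Φ a.1 a.2 = Φ b.1 b.2 := hab
    rw [hab'] at ha
    exact Helper6.PCForm.ext ha hb
  have hcard : Nat.card (Cfsg.IrrCharacter D) ≤ Nat.card B := by
    rw [Helper6.pc_card_block hM D hD hG B hB hBD, Helper6.card_irr_eq_card_conjClasses]
  have hbij := hinj.bijective_of_nat_card_le hcard
  have hex : ∀ ζ : Cfsg.IrrCharacter D, ∃ θ ∈ B,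
      Helper6.PCForm p D (χ : G → ℂ) (θ : G → ℂ) (ζ : D → ℂ) := by
    intro ζ
    obtain ⟨θ, hθ⟩ := hbij.2 ζ
    refine ⟨θ.1, θ.2, ?_⟩
    have := hΦ θ.1 θ.2
    have h1 : Φ θ.1 θ.2 = ζ := hθ
    rwa [h1] at this
  refine ⟨fun θ => ⟨fun hθ => ?_, fun h => ?_⟩, fun ζ => ?_⟩
  · obtain ⟨ζ, hζ⟩ := hΦ θ hθ |> fun h => (⟨Φ θ hθ, h⟩ : ∃ ζ : Cfsg.IrrCharacter D,
      Helper6.PCForm p D (χ : G → ℂ) (θ : G → ℂ) (ζ : D → ℂ))
    exact ⟨ζ, hζ⟩
  · obtain ⟨ζ, hζ⟩ := h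
    obtain ⟨θ', hθ', hform'⟩ := hex ζ
    have hζ' : Helper6.PCForm p D (χ : G → ℂ) (θ : G → ℂ) (ζ : D → ℂ) := hζ
    have : θ = θ' := Subtype.ext (Helper6.PCForm.ext hζ' hform')
    rw [this]
    exact hθ'
  · obtain ⟨θ, hθ, hf⟩ := hex ζ
    exact ⟨θ, hθ, hf⟩

end Cfsg.Agent.S4714
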