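import Cfsg.Statements.S4731
import Mathlib
import Cfsg.Agent.Helper6.BlockPart
-- import your own Cfsg.Agent.* helpers here

set_option autoImplicit false
open Cfsg

namespace Cfsg.Agent.S4731

/-- Let p ≠ q be primes, M_p and M_q maximal ideals of the algebraic integers containing p and q respectively, and G a finite group with no element of order pq; let q^b be the q-part of the order of G. For a p-block B_p (relative to M_p), a q-block B_q (relative to M_q) and a p-singular element y, the sum of χ(1)χ(y) over the irreducible characters χ lying in both B_p and B_q is q^b times an algebraic integer. -/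
theorem result {G : Type*} [Group G] [Finite G] (p q : ℕ) [Fact p.Prime] [Fact q.Prime] (hpq : p ≠ q) (Mp Mq : Ideal Cfsg.AlgInt) (hMp : Cfsg.IsPModular p Mp) (hMq : Cfsg.IsPModular q Mq) (hno : ∀ g : G, orderOf g ≠ p * q) (b : ℕ) (hb : (Nat.card G).factorization q = b) (Bp : Set (Cfsg.IrrCharacter G)) (hBp : Cfsg.IsPBlock Mp Bp) (Bq : Set (Cfsg.IrrCharacter G)) (hBq : Cfsg.IsPBlock Mq Bq) (y : G) (hy : p ∣ orderOf y) : ∃ ω : Cfsg.AlgInt, ∑ᶠ χ ∈ Bp ∩ Bq, (Cfsg.charDegree (χ : G → ℂ) : ℂ) * (χ : G → ℂ) y = (q : ℂ) ^ b * (ω : ℂ) := by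
  classical
  haveI := Fintype.ofFinite G
  haveI : Finite (Cfsg.IrrCharacter G) := Helper6.irr_finite
  haveI : Fintype (Cfsg.IrrCharacter G) := Fintype.ofFinite _
  have hpp : p.Prime := Fact.out
  have hqp : q.Prime := Fact.out
  have fact2 : ∀ g : G, q ∣ orderOf g → ¬ p ∣ orderOf g := by
    intro g hqg hpg
    have hcop : Nat.Coprime p q := (Nat.coprime_primes hpp hqp).mpr hpq
    have hdvd : p * q ∣ orderOf g := hcop.mul_dvd_of_dvd_of_dvd hpg hqg
    have h0 : orderOf g ≠ 0 := (orderOf_pos g).ne'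
    exact hno _ (orderOf_pow_orderOf_div h0 hdvd)
  obtain ⟨c', hc'⟩ : ∃ c' : Cfsg.IrrCharacter G → ℂ, c' = fun χ =>
    if χ ∈ Bp then (starRingEnd ℂ) ((χ : G → ℂ) y) else 0 := ⟨_, rfl⟩
  have hvan' : ∀ x : G, q ∣ orderOf x →
      ∑ χ : Cfsg.IrrCharacter G, c' χ * (χ : G → ℂ) x = 0 := by
    intro x hx
    have h := Helper6.weak_block_orthogonality hMp.2.1 p hMp.2.2 Bp hBp x y (fact2 x hx) hy
    rw [Helper6.finsum_mem_eq_sum_ite] at h
    refine Eq.trans (Finset.sum_congr rfl ?_) h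
    intro χ _
    rw [hc']
    by_cases hχ : χ ∈ Bp
    · simp only [if_pos hχ]
      rw [mul_comm]
    · simp only [if_neg hχ]
      rw [zero_mul]
  obtain ⟨c, hc⟩ : ∃ c : Cfsg.IrrCharacter G → ℂ, c = fun χ =>
    if χ ∈ Bq then c' χ else 0 := ⟨_, rfl⟩
  have hvan : ∀ x : G, q ∣ orderOf x →
      ∑ χ : Cfsg.IrrCharacter G, c χ * (χ : G → ℂ) x = 0 := by
    intro x hx
    have h := Helper6.blockPart_vanish hMq.2.1 q hMq.2.2 Bq hBq c' hvan' x hx
    refine Eq.trans (Finset.sum_congr rfl ?_) h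
    intro χ _
    rw [hc]
    by_cases hχ : χ ∈ Bq
    · simp only [if_pos hχ]
    · simp only [if_neg hχ]
      rw [zero_mul]
  obtain ⟨Q⟩ : Nonempty (Sylow q G) := inferInstance
  obtain ⟨n, hn⟩ := Helper6.exists_mult_of_vanish q (Q : Subgroup G) Q.2 c hvan
  have hQcard : Nat.card (Q : Subgroup G) = q ^ b := by
    rw [Sylow.card_eq_multiplicity, hb]
  have hint : IsIntegral ℤ (∑ χ : Cfsg.IrrCharacter G,
      if χ ∈ Bp ∩ Bq then (n χ : ℂ) * (χ : G → ℂ) y else 0) := by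
    apply IsIntegral.sum
    intro χ _
    by_cases hχ : χ ∈ Bp ∩ Bq
    · rw [if_pos hχ]
      apply IsIntegral.mul (isIntegral_natCast _)
      obtain ⟨m, ρ, _, hρ⟩ := χ.2
      rw [← hρ]
      exact Helper6.isIntegral_char ρ y
    · rw [if_neg hχ]
      exact isIntegral_zero
  refine ⟨⟨_, hint⟩, ?_⟩
  rw [Helper6.finsum_mem_eq_sum_ite]
  have hdeg : ∀ χ : Cfsg.IrrCharacter G, (Cfsg.charDegree (χ : G → ℂ) : ℂ) = (χ : G → ℂ) 1 :=
    fun χ => Helper6.charDegree_cast_of_isCharacter (Helper6.IsIrrCharacter.isCharacter χ.2)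
  have hmem : ∀ χ : Cfsg.IrrCharacter G, χ ∈ Bp ∩ Bq ↔ (χ ∈ Bp ∧ χ ∈ Bq) := fun χ => Iff.rfl
  have e1 : ∀ χ : Cfsg.IrrCharacter G,
      (if χ ∈ Bp ∩ Bq then (Cfsg.charDegree (χ : G → ℂ) : ℂ) * (χ : G → ℂ) y else 0) =
        (starRingEnd ℂ) (c χ * (χ : G → ℂ) 1) := by
    intro χ
    rw [hc, hc']
    by_cases h1 : χ ∈ Bq
    · by_cases h2 : χ ∈ Bp
      · rw [if_pos ((hmem χ).mpr ⟨h2, h1⟩)]
        simp only [if_pos h1, if_pos h2]
        rw [map_mul, Complex.conj_conj, ← hdeg χ, Complex.conj_natCast, mul_comm]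
      · rw [if_neg (fun h => h2 ((hmem χ).mp h).1)]
        simp only [if_pos h1, if_neg h2]
        rw [zero_mul, map_zero]
    · rw [if_neg (fun h => h1 ((hmem χ).mp h).2)]
      simp only [if_neg h1]
      rw [zero_mul, map_zero]
  have e2 : ∀ χ : Cfsg.IrrCharacter G,
      (if χ ∈ Bp ∩ Bq then (n χ : ℂ) * (χ : G → ℂ) y else 0) =
        (starRingEnd ℂ) (c χ * (n χ : ℂ)) := by
    intro χ
    rw [hc, hc']
    by_cases h1 : χ ∈ Bq
    · by_cases h2 : χ ∈ Bp
      · rw [if_pos ((hmem χ).mpr ⟨h2, h1⟩)]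
        simp only [if_pos h1, if_pos h2]
        rw [map_mul, Complex.conj_conj, Complex.conj_natCast, mul_comm]
      · rw [if_neg (fun h => h2 ((hmem χ).mp h).1)]
        simp only [if_pos h1, if_neg h2]
        rw [zero_mul, map_zero]
    · rw [if_neg (fun h => h1 ((hmem χ).mp h).2)]
      simp only [if_neg h1]
      rw [zero_mul, map_zero]
  have key : ∑ χ : Cfsg.IrrCharacter G,
      (if χ ∈ Bp ∩ Bq then (Cfsg.charDegree (χ : G → ℂ) : ℂ) * (χ : G → ℂ) y else 0) =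
    (q : ℂ) ^ b * ∑ χ : Cfsg.IrrCharacter G,
      if χ ∈ Bp ∩ Bq then (n χ : ℂ) * (χ : G → ℂ) y else 0 := by
    simp_rw [e1, e2]
    rw [← map_sum, ← map_sum, hn, map_mul, hQcard, Complex.conj_natCast]
    push_cast
    rfl
  refine Eq.trans (Finset.sum_congr rfl fun χ _ => ?_) key
  by_cases hχ : χ ∈ Bp ∩ Bq
  · rw [if_pos hχ, if_pos hχ]
  · rw [if_neg hχ, if_neg hχ]

end Cfsg.Agent.S4731
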