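import Cfsg.Statements.S4744
import Mathlib
import Cfsg.Agent.Helper6.PElemSumA
import Cfsg.Agent.Helper6.InvolSylowA
-- import your own Cfsg.Agent.* helpers here

set_option autoImplicit false
open Cfsg

namespace Cfsg.Agent.S4744

/-- Let p be an odd prime and G a finite group of even order divisible by p in which the centralizer of every non-identity p-element has odd order. Then either G has an irreducible character of p-defect zero, or the normalizer of every Sylow p-subgroup P of G has even order and P is abelian. -/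
theorem result {G : Type*} [Group G] [Finite G] (p : ℕ) [Fact p.Prime] (hp2 : p ≠ 2) (hpG : p ∣ Nat.card G) (h2G : 2 ∣ Nat.card G) (hC : ∀ g : G, g ≠ 1 → (∃ k : ℕ, orderOf g = p ^ k) → Odd (Nat.card ↥(Subgroup.centralizer ({g} : Set G)))) : (∃ χ : Cfsg.IrrCharacter G, (Cfsg.charDegree (χ : G → ℂ)).factorization p = (Nat.card G).factorization p) ∨ ∀ P : Sylow p G, Even (Nat.card ↥(Subgroup.normalizer ((P : Subgroup G) : Set G))) ∧ IsMulCommutative ↥(P : Subgroup G) := by
  by_cases hdz : ∃ χ : Cfsg.IrrCharacter G,
      (Cfsg.charDegree (χ : G → ℂ)).factorization p = (Nat.card G).factorization p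
  · exact Or.inl hdz
  · right
    haveI : Fact (Nat.Prime 2) := ⟨Nat.prime_two⟩
    obtain ⟨z, hz⟩ := exists_prime_orderOf_dvd_card' 2 h2G
    have hzC : ¬ p ∣ Nat.card ↥(Subgroup.centralizer ({z} : Set G)) := by
      intro hdvd
      obtain ⟨x, hx⟩ := exists_prime_orderOf_dvd_card' p hdvd
      have hx1 : (x : G) ≠ 1 := by
        intro h
        have h2 : x = 1 := Subtype.ext h
        rw [h2, orderOf_one] at hx
        exact (Fact.out : p.Prime).one_lt.ne hx
      have hxp : ∃ k : ℕ, orderOf (x : G) = p ^ k :=
        ⟨1, by rw [Subgroup.orderOf_coe, hx, pow_one]⟩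
      have hodd := hC (x : G) hx1 hxp
      have hzmem : z ∈ Subgroup.centralizer ({(x : G)} : Set G) := by
        rw [Subgroup.mem_centralizer_iff]
        intro y hy
        rw [Set.mem_singleton_iff] at hy
        rw [hy]
        have := Subgroup.mem_centralizer_iff.mp x.2 z rfl
        exact this.symm
      have h1 := Subgroup.orderOf_dvd_natCard _ hzmem
      rw [hz] at h1
      exact (Nat.not_even_iff_odd.mpr hodd) (even_iff_two_dvd.mpr h1)
    obtain ⟨g, h, hg, hh, hne, hk⟩ :=
      Helper6.exists_conj_quotient_pElement p (fun χ hχ => hdz ⟨χ, hχ⟩) z hzC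
    have hordg : orderOf g = 2 := by
      obtain ⟨c, hc⟩ := isConj_iff.mp hg
      rw [← hc]
      have := (MulAut.conj c).orderOf_eq z
      rw [MulAut.conj_apply] at this
      rw [this, hz]
    have hordh : orderOf h = 2 := by
      obtain ⟨c, hc⟩ := isConj_iff.mp hh
      rw [← hc]
      have := (MulAut.conj c).orderOf_eq z
      rw [MulAut.conj_apply] at this
      rw [this, hz]
    have hgg : g * g = 1 := by
      have := pow_orderOf_eq_one g
      rwa [hordg, pow_two] at this
    have hhh : h * h = 1 := by
      have := pow_orderOf_eq_one h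
      rwa [hordh, pow_two] at this
    have hhinv : h⁻¹ = h := inv_eq_of_mul_eq_one_left hhh
    have hinv : g * (g * h⁻¹) * g⁻¹ = (g * h⁻¹)⁻¹ := by
      calc g * (g * h⁻¹) * g⁻¹ = (g * g) * h⁻¹ * g⁻¹ := by group
        _ = h⁻¹ * g⁻¹ := by rw [hgg, one_mul]
        _ = h * g⁻¹ := by rw [hhinv]
        _ = (g * h⁻¹)⁻¹ := by group
    exact Helper6.sylow_normalizer_even_of_inverted p hC g (g * h⁻¹) hordg hne hk hinv

end Cfsg.Agent.S4744
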