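import Cfsg.Statements.S4754
import Mathlib
import Cfsg.Agent.S0943
import Cfsg.Agent.Helper6.IrrCount
import Cfsg.Agent.Helper6.SmallDegree
-- import your own Cfsg.Agent.* helpers here

set_option autoImplicit false
open Cfsg

namespace Cfsg.Agent.S4754

/-- For elements x, y of a finite group G, the conjugacy class of x y equals the set of all products of a conjugate of x with a conjugate of y if and only if χ(1) χ(a x a⁻¹ b y b⁻¹) = χ(x) χ(y) for all a, b ∈ G and every irreducible character χ. -/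
theorem result {G : Type*} [Group G] [Finite G] (x y : G) : (∀ z : G, IsConj (x * y) z ↔ ∃ a b : G, z = a * x * a⁻¹ * (b * y * b⁻¹)) ↔ ∀ (a b : G) (χ : Cfsg.IrrCharacter G), (χ : G → ℂ) 1 * (χ : G → ℂ) (a * x * a⁻¹ * (b * y * b⁻¹)) = (χ : G → ℂ) x * (χ : G → ℂ) y := by
  constructor
  · intro hcl a b χ
    have hz : IsConj (x * y) (a * x * a⁻¹ * (b * y * b⁻¹)) := (hcl _).mpr ⟨a, b, rfl⟩
    have hχcf := Cfsg.Agent.Helper6.IsCharacter.isClassFunction
      (Cfsg.Agent.Helper6.IsIrrCharacter.isCharacter χ.2)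
    rw [← Cfsg.Agent.Helper6.IsClassFunction.eq_of_isConj hχcf hz]
    symm
    apply Cfsg.Agent.S0943.result χ x y
    intro x' y' hx' hy'
    obtain ⟨c, hc⟩ := isConj_iff.mp hx'
    obtain ⟨d, hd⟩ := isConj_iff.mp hy'
    have hz' : IsConj (x * y) (x' * y') := (hcl _).mpr ⟨c, d, by rw [hc, hd]⟩
    exact (Cfsg.Agent.Helper6.IsClassFunction.eq_of_isConj hχcf hz').symm
  · intro h z
    constructor
    · intro hz
      obtain ⟨g, hg⟩ := isConj_iff.mp hz
      exact ⟨g, g, by rw [← hg]; group⟩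
    · rintro ⟨a, b, rfl⟩
      rw [Cfsg.Agent.Helper6.isConj_iff_forall_irr]
      intro χ
      obtain ⟨d, hd, -, hdpos⟩ := Cfsg.Agent.Helper6.IsIrrCharacter.degree_dvd_card χ.2
      have hχ1 : (χ : G → ℂ) 1 ≠ 0 := by
        rw [hd]
        exact_mod_cast hdpos.ne'
      have h1 := h a b χ
      have h2 := h 1 1 χ
      simp only [one_mul, inv_one, mul_one] at h2
      exact mul_left_cancel₀ hχ1 (h2.trans h1.symm)

end Cfsg.Agent.S4754
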