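import Cfsg.Statements.S4755
import Mathlib
import Cfsg.Agent.S4754
import Cfsg.Agent.Helper6.ClassMult
import Cfsg.Agent.Helper6.Linear
import Cfsg.Agent.Helper6.IrrCount
-- import your own Cfsg.Agent.* helpers here

set_option autoImplicit false
open Cfsg

namespace Cfsg.Agent.S4755

/-- Let x, y be non-identity elements of the finite group G such that χ(x' y') = χ(x') χ(y') for all conjugates x' of x, y' of y and every irreducible character χ. Then the conjugacy class of x y is the set of all products of a conjugate of x with a conjugate of y; every irreducible character of degree greater than 1 vanishes at x y; and the conjugacy class of x y is the coset of the commutator subgroup containing x y. -/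
theorem result {G : Type*} [Group G] [Finite G] (x y : G) (hx : x ≠ 1) (hy : y ≠ 1) (h : ∀ (a b : G) (χ : Cfsg.IrrCharacter G), (χ : G → ℂ) (a * x * a⁻¹ * (b * y * b⁻¹)) = (χ : G → ℂ) (a * x * a⁻¹) * (χ : G → ℂ) (b * y * b⁻¹)) : (∀ z : G, IsConj (x * y) z ↔ ∃ a b : G, z = a * x * a⁻¹ * (b * y * b⁻¹)) ∧ (∀ χ : Cfsg.IrrCharacter G, (χ : G → ℂ) 1 ≠ 1 → (χ : G → ℂ) (x * y) = 0) ∧ (∀ z : G, IsConj (x * y) z ↔ (x * y)⁻¹ * z ∈ commutator G) := by
  classical
  haveI := Fintype.ofFinite G
  haveI : Finite (Cfsg.IrrCharacter G) := Cfsg.Agent.Helper6.irr_finite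
  haveI : Fintype (Cfsg.IrrCharacter G) := Fintype.ofFinite _
  have hcf : ∀ χ : Cfsg.IrrCharacter G, Cfsg.IsClassFunction G (χ : G → ℂ) := fun χ =>
    Cfsg.Agent.Helper6.IsCharacter.isClassFunction
      (Cfsg.Agent.Helper6.IsIrrCharacter.isCharacter χ.2)
  -- simplified hypothesis
  have h' : ∀ (a b : G) (χ : Cfsg.IrrCharacter G),
      (χ : G → ℂ) (a * x * a⁻¹ * (b * y * b⁻¹)) = (χ : G → ℂ) x * (χ : G → ℂ) y := by
    intro a b χ
    rw [h a b χ, hcf χ x a, hcf χ y b]
  -- nonlinear characters: χ x * χ y = 0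
  have hprod : ∀ χ : Cfsg.IrrCharacter G, (χ : G → ℂ) 1 ≠ 1 →
      (χ : G → ℂ) x * (χ : G → ℂ) y = 0 := by
    intro χ hχ1
    obtain ⟨n, ρ, hirr, hρ⟩ := χ.2
    haveI := hirr
    haveI : Nontrivial (Fin n → ℂ) := Cfsg.Agent.Helper6.irr_nontrivial ρ
    have hd : (Module.finrank ℂ (Fin n → ℂ) : ℂ) ≠ 0 := by
      have : Module.finrank ℂ (Fin n → ℂ) ≠ 0 := Module.finrank_pos.ne'
      exact_mod_cast this
    have hmul := Cfsg.Agent.Helper6.class_mult_rep ρ x y 1
    simp only [mul_one] at hmul
    have hlhs : ∑ x' ∈ Cfsg.Agent.Helper6.classFinset x,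
        ∑ y' ∈ Cfsg.Agent.Helper6.classFinset y, ρ.character (x' * y') =
        ((Cfsg.Agent.Helper6.classFinset x).card : ℂ) *
          ((Cfsg.Agent.Helper6.classFinset y).card : ℂ) * (ρ.character x * ρ.character y) := by
      have : ∀ x' ∈ Cfsg.Agent.Helper6.classFinset x,
          ∑ y' ∈ Cfsg.Agent.Helper6.classFinset y, ρ.character (x' * y') =
          ((Cfsg.Agent.Helper6.classFinset y).card : ℂ) * (ρ.character x * ρ.character y) := by
        intro x' hx'
        rw [Cfsg.Agent.Helper6.mem_classFinset] at hx'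
        obtain ⟨a, ha⟩ := isConj_iff.mp hx'
        rw [← nsmul_eq_mul, ← Finset.sum_const]
        apply Finset.sum_congr rfl
        intro y' hy'
        rw [Cfsg.Agent.Helper6.mem_classFinset] at hy'
        obtain ⟨b, hb⟩ := isConj_iff.mp hy'
        have := h' a b χ
        rw [ha, hb, ← hρ] at this
        exact this
      rw [Finset.sum_congr rfl this, Finset.sum_const, nsmul_eq_mul]
      ring
    rw [hlhs, Representation.char_one] at hmul
    have hu0 : ((Cfsg.Agent.Helper6.classFinset x).card : ℂ) ≠ 0 := by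
      have : (Cfsg.Agent.Helper6.classFinset x).card ≠ 0 := by
        rw [Finset.card_ne_zero]
        exact ⟨x, (Cfsg.Agent.Helper6.mem_classFinset x x).mpr (IsConj.refl x)⟩
      exact_mod_cast this
    have hv0 : ((Cfsg.Agent.Helper6.classFinset y).card : ℂ) ≠ 0 := by
      have : (Cfsg.Agent.Helper6.classFinset y).card ≠ 0 := by
        rw [Finset.card_ne_zero]
        exact ⟨y, (Cfsg.Agent.Helper6.mem_classFinset y y).mpr (IsConj.refl y)⟩
      exact_mod_cast this
    have hχ1' : (Module.finrank ℂ (Fin n → ℂ) : ℂ) ≠ 1 := by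
      intro h1
      apply hχ1
      rw [← hρ, Representation.char_one, h1]
    rw [← hρ]
    field_simp at hmul
    have hfac : (ρ.character x * ρ.character y) *
        ((Module.finrank ℂ (Fin n → ℂ) : ℂ) - 1) = 0 := by
      linear_combination hmul
    rcases mul_eq_zero.mp hfac with h0 | h0
    · exact h0
    · exact absurd (sub_eq_zero.mp h0) hχ1'
  have hpart1 : ∀ z : G, IsConj (x * y) z ↔ ∃ a b : G, z = a * x * a⁻¹ * (b * y * b⁻¹) := by
    rw [Cfsg.Agent.S4754.result]
    intro a b χ
    rw [h' a b χ]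
    by_cases hχ1 : (χ : G → ℂ) 1 = 1
    · rw [hχ1, one_mul]
    · rw [hprod χ hχ1, mul_zero]
  have hvanish : ∀ χ : Cfsg.IrrCharacter G, (χ : G → ℂ) 1 ≠ 1 → (χ : G → ℂ) (x * y) = 0 := by
    intro χ hχ1
    have := h' 1 1 χ
    simp only [one_mul, inv_one, mul_one] at this
    rw [this, hprod χ hχ1]
  refine ⟨hpart1, hvanish, ?_⟩
  -- the centralizer of x * y has order |G : G'|
  have hcol := Cfsg.Agent.Helper6.column_orthogonality_aux (x * y) (x * y)
  rw [if_pos (IsConj.refl _)] at hcol
  have hterm : ∀ χ : Cfsg.IrrCharacter G,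
      (χ : G → ℂ) (x * y) * (starRingEnd ℂ) ((χ : G → ℂ) (x * y)) =
      if (χ : G → ℂ) 1 = 1 then 1 else 0 := by
    intro χ
    split_ifs with hχ1
    · obtain ⟨lam, hlam⟩ := Cfsg.Agent.Helper6.exists_hom_of_irr_degree_one χ.2 hχ1
      rw [hlam]
      simp only
      rw [Complex.mul_conj, Complex.normSq_eq_norm_sq]
      have hpow : ((lam (x * y) : ℂˣ) : ℂ) ^ (Nat.card G) = 1 := by
        rw [← Units.val_pow_eq_pow_val, ← map_pow, pow_card_eq_one', map_one, Units.val_one]
      rw [Complex.norm_eq_one_of_pow_eq_one hpow Nat.card_pos.ne']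
      simp
    · rw [hvanish χ hχ1, zero_mul]
  simp_rw [hterm] at hcol
  rw [Finset.sum_boole] at hcol
  have hcent : Nat.card (Subgroup.centralizer ({x * y} : Set G)) = (commutator G).index := by
    have h1 : Nat.card {χ : Cfsg.IrrCharacter G // (χ : G → ℂ) 1 = 1} =
        (Finset.univ.filter (fun χ : Cfsg.IrrCharacter G => (χ : G → ℂ) 1 = 1)).card := by
      rw [Nat.card_eq_fintype_card, Fintype.card_subtype]
    rw [← Cfsg.Agent.Helper6.card_linear_irr, h1]
    exact_mod_cast hcol.symm
  -- cardinalities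
  have hclass := Cfsg.Agent.Helper6.card_conj_mul_card_centralizer (x * y)
  rw [hcent] at hclass
  have hcomm := (commutator G).index_mul_card
  have hidx : 0 < (commutator G).index := Nat.pos_of_ne_zero Subgroup.index_ne_zero_of_finite
  have hcardA : Nat.card {z : G // IsConj (x * y) z} = Nat.card (commutator G) := by
    have : Nat.card {z : G // IsConj (x * y) z} * (commutator G).index =
        Nat.card (commutator G) * (commutator G).index := by
      rw [hclass, ← hcomm, mul_comm]
    exact Nat.eq_of_mul_eq_mul_right hidx this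
  have hsub : ∀ z : G, IsConj (x * y) z → (x * y)⁻¹ * z ∈ commutator G := by
    intro z hz
    obtain ⟨g, hg⟩ := isConj_iff.mp hz
    rw [← hg]
    have : (x * y)⁻¹ * (g * (x * y) * g⁻¹) = (x * y)⁻¹ * g * (x * y)⁻¹⁻¹ * g⁻¹ := by
      rw [inv_inv]
      group
    rw [this]
    exact Subgroup.commutator_mem_commutator (Subgroup.mem_top _) (Subgroup.mem_top _)
  have hcardB : Nat.card {z : G // (x * y)⁻¹ * z ∈ commutator G} = Nat.card (commutator G) := by
    apply Nat.card_congr
    exact
      { toFun := fun z => ⟨(x * y)⁻¹ * z.1, z.2⟩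
        invFun := fun c => ⟨(x * y) * c.1, by rw [inv_mul_cancel_left]; exact c.2⟩
        left_inv := fun z => Subtype.ext (mul_inv_cancel_left (x * y) z.1)
        right_inv := fun c => Subtype.ext (inv_mul_cancel_left (x * y) c.1) }
  intro z
  constructor
  · exact hsub z
  · intro hz
    by_contra hnot
    have hlt : Nat.card {z : G // IsConj (x * y) z} <
        Nat.card {z : G // (x * y)⁻¹ * z ∈ commutator G} := by
      rw [Nat.card_eq_fintype_card, Nat.card_eq_fintype_card, Fintype.card_subtype,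
        Fintype.card_subtype]
      apply Finset.card_lt_card
      rw [Finset.ssubset_iff_of_subset]
      · exact ⟨z, Finset.mem_filter.mpr ⟨Finset.mem_univ _, hz⟩,
          fun hmem => hnot (Finset.mem_filter.mp hmem).2⟩
      · intro w hw
        simp only [Finset.mem_filter, Finset.mem_univ, true_and] at hw ⊢
        exact hsub w hw
    rw [hcardA, hcardB] at hlt
    exact lt_irrefl _ hlt

end Cfsg.Agent.S4755
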