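import Mathlib
import Cfsg.Statements.S4757
import Cfsg.Agent.Helper2.CMinusE

set_option autoImplicit false
open Cfsg

namespace Cfsg.Agent.S4757

open Cfsg.Agent.Helper2

/-- Let u ≠ 1 be an element of the finite group G and c a complex number such that every non-principal irreducible character χ satisfies χ(1) − χ(u) = c or χ(u) = 0. Then the following are equivalent: (a) u has order 2, G is generated by u together with O(G), the largest normal subgroup of G of odd order, and the centralizer of u is {1, u}; (b) G is not perfect; (c) c = 2. -/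
theorem result {G : Type*} [Group G] [Finite G] (u : G) (hu : u ≠ 1) (c : ℂ) (hyp : ∀ χ : Cfsg.IrrCharacter G, (χ : G → ℂ) ≠ (fun _ => (1 : ℂ)) → ((χ : G → ℂ) 1 - (χ : G → ℂ) u = c ∨ (χ : G → ℂ) u = 0)) : ((orderOf u = 2 ∧ Subgroup.zpowers u ⊔ Cfsg.oddCore G = ⊤ ∧ Subgroup.centralizer ({u} : Set G) = Subgroup.zpowers u) ↔ commutator G ≠ ⊤) ∧ (commutator G ≠ ⊤ ↔ c = 2) := by
    have hbc : commutator G ≠ ⊤ → c = 2 := by
      intro hne
      obtain ⟨μ, hμ⟩ := Cfsg.Agent.Helper2.CMinus.exists_hom_ne_one_iff.mp hne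
      exact (Cfsg.Agent.Helper2.CMinus.hom_u_eq_neg_one u hu c hyp μ hμ).2
    refine ⟨⟨?_, ?_⟩, ⟨hbc, ?_⟩⟩
    · rintro ⟨ho, hsup, -⟩
      exact Cfsg.Agent.Helper2.CMinus.not_perfect_of_sup u ho hsup
    · intro hne
      have hcard := Cfsg.Agent.Helper2.CMinus.card_centralizer_two u hu c hyp hne
      obtain ⟨ho, hC⟩ := Cfsg.Agent.Helper2.CMinus.centralizer_eq_zpowers u hu hcard
      refine ⟨ho, ?_, hC⟩
      obtain ⟨μ, hμ⟩ := Cfsg.Agent.Helper2.CMinus.exists_hom_ne_one_iff.mp hne
      have hμu := (Cfsg.Agent.Helper2.CMinus.hom_u_eq_neg_one u hu c hyp μ hμ).1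
      have hμ2 : μ ^ 2 = 1 := by
        by_contra h2
        have := Cfsg.Agent.Helper2.CMinus.hom_unique u hu c hyp (μ ^ 2) μ h2 hμ
        apply hμ
        ext g
        have h3 := congrArg (fun ν : G →* ℂˣ => ν g) this
        simp only [MonoidHom.pow_apply] at h3
        have h4 : μ g * μ g = μ g * 1 := by rw [← pow_two, h3, mul_one]
        rw [mul_left_cancel h4]
        simp
      exact Cfsg.Agent.Helper2.CMinus.sup_eq_top u ho hC μ hμu hμ2
    · intro hc
      exact Cfsg.Agent.Helper2.CMinus.not_perfect_of_c_two u hu c hyp hc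

end Cfsg.Agent.S4757
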