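import Mathlib
import Cfsg.Statements.S4762
import Cfsg.Agent.Helper6.Extraspecial
import Cfsg.Agent.Helper3.ExtraTwo
import Cfsg.Agent.Helper3.OneNonlinA
import Cfsg.Agent.Helper3.OneNonlinB
-- import your own Cfsg.Agent.* helpers here

set_option autoImplicit false
open Cfsg

namespace Cfsg.Agent.S4762
open Cfsg

open Cfsg.Agent.Helper6 Cfsg.Agent.Helper3

theorem degree_eq_one_iff {G : Type*} [Group G] [Finite G] (χ : Cfsg.IrrCharacter G) :
    Cfsg.charDegree (χ : G → ℂ) = 1 ↔ (χ : G → ℂ) 1 = 1 := by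
  have h := charDegree_cast_of_isCharacter (IsIrrCharacter.isCharacter χ.2)
  constructor
  · intro h1; rw [← h, h1, Nat.cast_one]
  · intro h1
    rw [h1] at h
    exact_mod_cast h

theorem forward {G : Type*} [Group G] [Finite G] [Group.IsNilpotent G] (p : ℕ) [hp : Fact p.Prime]
    (h : Nat.card {χ : Cfsg.IrrCharacter G // p ∣ Cfsg.charDegree (χ : G → ℂ)} = 1) :
    p = 2 ∧ Cfsg.IsExtraspecial 2 G := by
  have hP := OneNonlin.isPGroup_of_unique p h
  obtain ⟨m, hm⟩ := IsPGroup.iff_card.1 hP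
  apply OneNonlin.main p hP
  rw [← h]
  apply Nat.card_congr
  apply Equiv.subtypeEquivRight
  intro χ
  rw [← degree_eq_one_iff]
  have hdvd : Cfsg.charDegree (χ : G → ℂ) ∣ p ^ m := by
    rw [← hm]; exact charDegree_dvd_card χ.2
  obtain ⟨a, -, ha⟩ := (Nat.dvd_prime_pow hp.out).1 hdvd
  constructor
  · intro h1
    rw [ha] at h1 ⊢
    apply dvd_pow_self
    rintro rfl
    exact h1 (pow_zero _)
  · intro h1 h2
    rw [h2] at h1
    exact hp.out.one_lt.ne' (Nat.dvd_one.1 h1)

theorem backward {G : Type*} [Group G] [Finite G] (hE : Cfsg.IsExtraspecial 2 G) :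
    Nat.card {χ : Cfsg.IrrCharacter G // 2 ∣ Cfsg.charDegree (χ : G → ℂ)} = 1 := by
  have : Fact (Nat.Prime 2) := ⟨Nat.prime_two⟩
  have hin := Extra.inClass_of_isExtraspecial hE
  have hcard : ∃ m : ℕ, Nat.card G = 2 ^ (2 * m + 1) := by
    rcases Extra.plus_or_minus _ G hin rfl with ⟨m, h1, -⟩ | ⟨m, -, h1, -⟩
    · exact ⟨m, h1⟩
    · exact ⟨m, h1⟩
  obtain ⟨m, hm⟩ := hcard
  have hm0 : m ≠ 0 := by
    rintro rfl
    obtain ⟨⟨-, -, hcomm⟩, hZ⟩ := hE
    have hm' : Nat.card G = 2 := by rw [hm]; norm_num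
    have htop : Subgroup.center G = ⊤ := by
      apply (Subgroup.card_eq_iff_eq_top _).1
      rw [hZ, hm']
    have hbot : commutator G = ⊥ := (commutator_eq_bot_iff_center_eq_top G).2 htop
    rw [hbot] at hcomm
    rw [← hcomm, Subgroup.card_bot] at hZ
    omega
  obtain ⟨hdeg, hcnt⟩ := extraspecial_irr_degrees 2 m hE hm
  have h21 : (2 : ℕ) - 1 = 1 := rfl
  rw [h21] at hcnt
  rw [← hcnt]
  apply Nat.card_congr
  apply Equiv.subtypeEquivRight
  intro χ
  have hc := charDegree_cast_of_isCharacter (IsIrrCharacter.isCharacter χ.2)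
  constructor
  · intro h2
    rcases hdeg χ with h1 | h1
    · exfalso
      rw [(degree_eq_one_iff χ).2 h1] at h2
      omega
    · exact_mod_cast h1
  · intro h1
    have : Cfsg.charDegree (χ : G → ℂ) = 2 ^ m := by
      rw [h1] at hc
      exact_mod_cast hc
    rw [this]
    exact dvd_pow_self 2 hm0

/-- Let p be a prime and G a finite nilpotent group. Then G has exactly one irreducible complex character of degree divisible by p if and only if p = 2 and G is an extraspecial 2-group. -/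
theorem result {G : Type*} [Group G] [Finite G] [Group.IsNilpotent G] (p : ℕ) [Fact p.Prime] : Nat.card {χ : Cfsg.IrrCharacter G // p ∣ Cfsg.charDegree (χ : G → ℂ)} = 1 ↔ (p = 2 ∧ Cfsg.IsExtraspecial 2 G) := by
  constructor
  · exact forward p
  · rintro ⟨rfl, hE⟩
    exact backward hE


end Cfsg.Agent.S4762
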