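import Mathlib
import Cfsg.Statements.S4774
import Cfsg.Agent.Helper8.PSL2DegC

set_option autoImplicit false
open Cfsg

namespace Cfsg.Agent.S4774

/-- Let F be a finite field of odd characteristic t with q > 5 elements and let S be isomorphic to PSL(2,F) or to SL(2,F). Then the vertices of the character degree graph of S are the primes dividing q(q²−1); the prime t is adjacent to no vertex; two distinct primes dividing q² − 1 are adjacent exactly when one of them is 2, or both divide q + 1, or both divide q − 1. -/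
theorem result (F : Type*) [Field F] [Fintype F] (t : ℕ) [Fact t.Prime] [CharP F t] (ht : t ≠ 2) (q : ℕ) (hq : Fintype.card F = q) (h5 : 5 < q) {S : Type*} [Group S] [Finite S] (hS : Nonempty (S ≃* Matrix.ProjectiveSpecialLinearGroup (Fin 2) F) ∨ Nonempty (S ≃* Matrix.SpecialLinearGroup (Fin 2) F)) : Cfsg.degreePrimes S = {r : ℕ | r.Prime ∧ r ∣ q * (q ^ 2 - 1)} ∧ ∀ r s : ℕ, (Cfsg.degreeGraph S).Adj r s ↔ (r ≠ s ∧ r.Prime ∧ s.Prime ∧ r ∣ q ^ 2 - 1 ∧ s ∣ q ^ 2 - 1 ∧ (r = 2 ∨ s = 2 ∨ (r ∣ q + 1 ∧ s ∣ q + 1) ∨ (r ∣ q - 1 ∧ s ∣ q - 1))) := by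
  classical
  subst hq
  have htp : t.Prime := Fact.out
  obtain ⟨n, -, hn⟩ := FiniteField.card F t
  have hodd : Odd (Fintype.card F) := by
    rw [hn]
    exact (htp.odd_of_ne_two ht).pow
  have h1 : ¬ (Fintype.card F - 1 ∣ 4) := by
    intro h
    have hle := Nat.le_of_dvd (by norm_num) h
    omega
  have h2 : ¬ (Fintype.card F + 1 ∣ 4) := by
    intro h
    have hle := Nat.le_of_dvd (by norm_num) h
    omega
  obtain ⟨H1, hq0, hq1, hq2⟩ := Cfsg.Agent.Helper8.PSL2Deg.degrees_of_equiv hS h1 h2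
  obtain ⟨hA, hB⟩ := Cfsg.Agent.Helper8.PSL2Deg.degree_graph_of_degrees htp hn (by omega) H1 hq0 hq1 hq2
  refine ⟨hA, ?_⟩
  have hfac : Fintype.card F ^ 2 - 1 = (Fintype.card F + 1) * (Fintype.card F - 1) := by
    obtain ⟨m, hm⟩ : ∃ m, Fintype.card F = m + 1 := ⟨Fintype.card F - 1, by omega⟩
    rw [hm]
    simp only [Nat.add_sub_cancel]
    have : (m + 1) ^ 2 = (m + 1 + 1) * m + 1 := by ring
    rw [this, Nat.add_sub_cancel]
  have h2a : 2 ∣ Fintype.card F + 1 := by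
    obtain ⟨k, hk⟩ := hodd
    exact ⟨k + 1, by omega⟩
  have h2b : 2 ∣ Fintype.card F - 1 := by
    obtain ⟨k, hk⟩ := hodd
    exact ⟨k, by omega⟩
  intro r s
  rw [hB r s]
  constructor
  · rintro ⟨hne, hr, hs, h⟩
    refine ⟨hne, hr, hs, ?_, ?_, Or.inr (Or.inr h)⟩
    · rw [hfac]
      rcases h with ⟨h, -⟩ | ⟨h, -⟩
      · exact Dvd.dvd.mul_right h _
      · exact Dvd.dvd.mul_left h _
    · rw [hfac]
      rcases h with ⟨-, h⟩ | ⟨-, h⟩
      · exact Dvd.dvd.mul_right h _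
      · exact Dvd.dvd.mul_left h _
  · rintro ⟨hne, hr, hs, hrq, hsq, h⟩
    refine ⟨hne, hr, hs, ?_⟩
    rw [hfac] at hrq hsq
    rcases h with rfl | rfl | h | h
    · rcases (Nat.Prime.dvd_mul hs).mp hsq with h' | h'
      · exact Or.inl ⟨h2a, h'⟩
      · exact Or.inr ⟨h2b, h'⟩
    · rcases (Nat.Prime.dvd_mul hr).mp hrq with h' | h'
      · exact Or.inl ⟨h', h2a⟩
      · exact Or.inr ⟨h', h2b⟩
    · exact Or.inl h
    · exact Or.inr h

end Cfsg.Agent.S4774
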