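import Mathlib
import Cfsg.Statements.S4775
import Cfsg.Agent.Helper8.SzChQ
import Cfsg.Agent.Helper8.SzChR
import Cfsg.Agent.Helper7.SzLie

set_option autoImplicit false
open Cfsg

namespace Cfsg.Agent.S4775

/-- Let F be a finite field with q = 2^(2m+1) ≥ 8 elements and let S be isomorphic to the Suzuki group over F. Then the vertices of the character degree graph of S are 2 and the primes dividing (q − 1)(q² + 1); the primes dividing (q − 1)(q² + 1) are pairwise adjacent, and 2 is adjacent exactly to the primes dividing q − 1. -/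
theorem result (F : Type*) [Field F] [Fintype F] (m : ℕ) (hm : 1 ≤ m) (q : ℕ) (hq : Fintype.card F = q) (hqm : q = 2 ^ (2 * m + 1)) {S : Type*} [Group S] [Finite S] (hS : Nonempty (S ≃* ↥(Cfsg.Lie.Sz F (2 ^ (m + 1))))) : Cfsg.degreePrimes S = {r : ℕ | r.Prime ∧ (r = 2 ∨ r ∣ (q - 1) * (q ^ 2 + 1))} ∧ ∀ r s : ℕ, (Cfsg.degreeGraph S).Adj r s ↔ (r ≠ s ∧ r.Prime ∧ s.Prime ∧ ((r ∣ (q - 1) * (q ^ 2 + 1) ∧ s ∣ (q - 1) * (q ^ 2 + 1)) ∨ (r = 2 ∧ s ∣ q - 1) ∨ (s = 2 ∧ r ∣ q - 1))) := by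
  classical
  have h : Cfsg.Agent.Helper7.Sz.FH F m := ⟨hm, hq.trans hqm⟩
  obtain ⟨e₀⟩ := hS
  have e : S ≃* ↥(Cfsg.Sz F m) := e₀.trans (Cfsg.Agent.Helper7.SzLie.lieEquiv h).symm
  have hdeg := Cfsg.Agent.Helper8.SzCh.charDegrees_eq_mulEquiv e
  have : Fintype ↥(Cfsg.Sz F m) := Fintype.ofFinite _
  have : Fintype ↥(Cfsg.suzukiOvoid F m) := Fintype.ofFinite _
  have : Finite (Cfsg.IrrCharacter ↥(Cfsg.Sz F m)) := Cfsg.Agent.Helper6.irr_finite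
  have : Fintype (Cfsg.IrrCharacter ↥(Cfsg.Sz F m)) := Fintype.ofFinite _
  have hr : 2 ^ m = 2 ∨ 4 ≤ 2 ^ m := by
    rcases Nat.lt_or_ge m 2 with h2 | h2
    · left
      have : m = 1 := by omega
      rw [this, pow_one]
    · right
      calc 4 = 2 ^ 2 := by norm_num
        _ ≤ 2 ^ m := Nat.pow_le_pow_right (by norm_num) h2
  obtain ⟨H, ⟨χ1, h1⟩, ⟨χ2, h2⟩, ⟨χ3, h3⟩, ⟨χ4, h4⟩, ⟨χ5, h5⟩⟩ :=
    (Cfsg.Agent.Helper8.SzCh.szHyp h).degrees hr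
  have hqr : (2 : ℕ) ^ (2 * m + 1) = 2 * (2 ^ m) ^ 2 := by rw [← pow_mul, pow_succ]; ring
  subst hqm
  exact Cfsg.Agent.Helper8.SzCh.graph_of_degrees (S := S) (m := m) (r := 2 ^ m)
    (n₁ := 2 ^ (2 * m + 1) + 2 * 2 ^ m + 1) (n₂ := 2 ^ (2 * m + 1) - 2 * 2 ^ m + 1) rfl hm rfl
    (Cfsg.Agent.Helper8.SzPart.num_prod hqr)
    (by
      rw [hdeg]
      rintro d ⟨χ, rfl⟩
      exact H χ)
    (by rw [hdeg]; exact ⟨χ1, h1⟩) (by rw [hdeg]; exact ⟨χ2, h2⟩) (by rw [hdeg]; exact ⟨χ3, h3⟩)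
    (by rw [hdeg]; exact ⟨χ4, h4⟩) (by rw [hdeg]; exact ⟨χ5, h5⟩)

end Cfsg.Agent.S4775
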