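import Cfsg.Statements.S4784
import Mathlib
import Cfsg.Agent.Helper6.PermCore
import Cfsg.Agent.Helper6.OddReal
-- import your own Cfsg.Agent.* helpers here

set_option autoImplicit false
open Cfsg

namespace Cfsg.Agent.S4784

/-- Let H be a subgroup of the finite group G and consider the permutation character of G on the cosets of H (the function induced from the principal character of H). Then exactly one irreducible constituent of it is real-valued with Frobenius–Schur indicator +1 (namely the principal character) if and only if the normal core of H has odd index in G. -/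
theorem result {G : Type*} [Group G] [Fintype G] (H : Subgroup G) : Nat.card {χ : Cfsg.IrrCharacter G // Cfsg.classInner (Cfsg.indFun H (fun _ : H => (1 : ℂ))) (χ : G → ℂ) ≠ 0 ∧ (∀ g : G, (starRingEnd ℂ) ((χ : G → ℂ) g) = (χ : G → ℂ) g) ∧ (Nat.card G : ℂ)⁻¹ * ∑ g : G, (χ : G → ℂ) (g * g) = 1} = 1 ↔ Odd H.normalCore.index := by
  classical
  haveI : Finite (Cfsg.IrrCharacter G) := Cfsg.Agent.Helper6.irr_finite
  haveI : Fintype (Cfsg.IrrCharacter G) := Fintype.ofFinite _
  have hG0 : (Nat.card G : ℂ) ≠ 0 := by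
    have : 0 < Nat.card G := Nat.card_pos
    exact_mod_cast this.ne'
  have hH0 : (Nat.card H : ℂ) ≠ 0 := by
    have : 0 < Nat.card H := Nat.card_pos
    exact_mod_cast this.ne'
  set π := Cfsg.indFun H (fun _ : H => (1 : ℂ)) with hπ
  have hπchar : Cfsg.IsCharacter G π :=
    Cfsg.Agent.Helper6.isCharacter_indFun H _ Cfsg.Agent.Helper6.isCharacter_one
  let χ₁ : Cfsg.IrrCharacter G := ⟨fun _ => 1, Cfsg.Agent.Helper6.isIrrCharacter_one⟩
  -- the principal character satisfies the predicate
  have hinner1 : Cfsg.classInner π (χ₁ : G → ℂ) = 1 := by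
    haveI : Fintype H := Fintype.ofFinite H
    rw [hπ, Cfsg.Agent.Helper6.frobenius_reciprocity H _ _
      (Cfsg.Agent.Helper6.IsCharacter.isClassFunction Cfsg.Agent.Helper6.isCharacter_one)]
    rw [Cfsg.Agent.Helper6.classInner_def]
    simp only [map_one, mul_one, Finset.sum_const, Finset.card_univ, nsmul_eq_mul]
    rw [Nat.card_eq_fintype_card]
    have : (Fintype.card H : ℂ) ≠ 0 := by
      rw [← Nat.card_eq_fintype_card]; exact hH0
    field_simp
  have hP1 : Cfsg.classInner π (χ₁ : G → ℂ) ≠ 0 ∧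
      (∀ g : G, (starRingEnd ℂ) ((χ₁ : G → ℂ) g) = (χ₁ : G → ℂ) g) ∧
      (Nat.card G : ℂ)⁻¹ * ∑ g : G, (χ₁ : G → ℂ) (g * g) = 1 := by
    refine ⟨by rw [hinner1]; exact one_ne_zero, fun g => map_one _, ?_⟩
    simp only [χ₁, Finset.sum_const, Finset.card_univ, nsmul_eq_mul, mul_one]
    rw [← Nat.card_eq_fintype_card]
    exact inv_mul_cancel₀ hG0
  rw [Nat.card_eq_one_iff_unique]
  constructor
  · rintro ⟨hsub, -⟩
    -- uniqueness: every χ with the property is χ₁
    have huniq : ∀ χ : Cfsg.IrrCharacter G, Cfsg.classInner π (χ : G → ℂ) ≠ 0 →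
        Cfsg.Agent.Helper6.fsIndFun (χ : G → ℂ) = 1 → χ = χ₁ := by
      intro χ h1 h2
      have hreal : ∀ g : G, (starRingEnd ℂ) ((χ : G → ℂ) g) = (χ : G → ℂ) g := by
        rcases Cfsg.Agent.Helper6.irr_fs_cases χ with ⟨hr, -⟩ | ⟨-, h0⟩
        · intro g; exact Complex.conj_eq_iff_im.mpr (hr g)
        · rw [h2] at h0; exact absurd h0 one_ne_zero
      have := hsub.elim ⟨χ, h1, hreal, h2⟩ ⟨χ₁, hP1⟩
      exact congrArg Subtype.val this
    -- the count
    have hformula := Cfsg.Agent.Helper6.sum_fsInd_mul_inner_perm H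
    have hre := congrArg Complex.re hformula
    rw [Complex.re_sum] at hre
    have hterm : ∀ χ : Cfsg.IrrCharacter G, (Cfsg.Agent.Helper6.fsIndFun (χ : G → ℂ) *
        Cfsg.classInner π (χ : G → ℂ)).re ≤ if χ = χ₁ then 1 else 0 := by
      intro χ
      obtain ⟨n, hn⟩ := Cfsg.Agent.Helper6.classInner_char_char_nat hπchar
        (Cfsg.Agent.Helper6.IsIrrCharacter.isCharacter χ.2)
      split_ifs with hχ
      · subst hχ
        rcases Cfsg.Agent.Helper6.irr_fs_cases χ₁ with ⟨-, h1 | h1⟩ | ⟨-, h0⟩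
        · rw [h1, hinner1]; simp
        · rw [h1, hinner1]; simp
        · rw [h0]; simp
      · rcases Cfsg.Agent.Helper6.irr_fs_cases χ with ⟨-, h1 | h1⟩ | ⟨-, h0⟩
        · by_cases hn0 : Cfsg.classInner π (χ : G → ℂ) = 0
          · rw [hn0]; simp
          · exact absurd (huniq χ hn0 h1) hχ
        · rw [h1, hn]; simp
        · rw [h0]; simp
    have hle : ((Finset.univ.filter (fun s : G => s * s ∈ H)).card : ℂ).re / (Nat.card H : ℝ) ≤ 1 := by
      have h3 : (((Finset.univ.filter (fun s : G => s * s ∈ H)).card : ℂ) / (Nat.card H : ℂ)).re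
          = ((Finset.univ.filter (fun s : G => s * s ∈ H)).card : ℝ) / (Nat.card H : ℝ) := by
        rw [← Complex.ofReal_natCast, ← Complex.ofReal_natCast, ← Complex.ofReal_div,
          Complex.ofReal_re]
      rw [Complex.natCast_re, ← h3, ← hre]
      calc ∑ χ : Cfsg.IrrCharacter G, (Cfsg.Agent.Helper6.fsIndFun (χ : G → ℂ) *
            Cfsg.classInner π (χ : G → ℂ)).re
          ≤ ∑ χ : Cfsg.IrrCharacter G, (if χ = χ₁ then (1 : ℝ) else 0) :=
            Finset.sum_le_sum (fun χ _ => hterm χ)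
        _ = 1 := by simp
    rw [Complex.natCast_re] at hle
    have hHpos : (0 : ℝ) < Nat.card H := by exact_mod_cast Nat.card_pos
    rw [div_le_one hHpos] at hle
    have hle' : (Finset.univ.filter (fun s : G => s * s ∈ H)).card ≤ Nat.card H := by
      exact_mod_cast hle
    -- hence s² ∈ H ⇒ s ∈ H
    have hsub2 : Finset.univ.filter (fun s : G => s ∈ H) ⊆
        Finset.univ.filter (fun s : G => s * s ∈ H) := by
      intro s hs
      have := (Finset.mem_filter.mp hs).2
      exact Finset.mem_filter.mpr ⟨Finset.mem_univ _, H.mul_mem this this⟩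
    have hcardH : (Finset.univ.filter (fun s : G => s ∈ H)).card = Nat.card H := by
      rw [Nat.card_eq_fintype_card, Fintype.card_subtype]
    have heq := Finset.eq_of_subset_of_card_le hsub2 (by rw [hcardH]; exact hle')
    have hsq : ∀ s : G, s * s ∈ H → s ∈ H := by
      intro s hs
      have : s ∈ Finset.univ.filter (fun s : G => s * s ∈ H) :=
        Finset.mem_filter.mpr ⟨Finset.mem_univ _, hs⟩
      rw [← heq] at this
      exact (Finset.mem_filter.mp this).2
    have hsqK : ∀ s : G, s * s ∈ H.normalCore → s ∈ H.normalCore := by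
      intro s hs b
      apply hsq
      have := hs b
      have h2 : b * s * b⁻¹ * (b * s * b⁻¹) = b * (s * s) * b⁻¹ := by group
      rw [h2]; exact this
    -- so the quotient has odd order
    rw [Subgroup.index_eq_card]
    by_contra hnodd
    rw [Nat.not_odd_iff_even, even_iff_two_dvd] at hnodd
    haveI : Fact (Nat.Prime 2) := ⟨Nat.prime_two⟩
    obtain ⟨q, hq⟩ := exists_prime_orderOf_dvd_card' 2 hnodd
    obtain ⟨s, rfl⟩ := QuotientGroup.mk_surjective q
    have h1 : (QuotientGroup.mk s : G ⧸ H.normalCore) ^ 2 = 1 := by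
      rw [← hq]; exact pow_orderOf_eq_one _
    have h2 : s * s ∈ H.normalCore := by
      rw [← QuotientGroup.eq_one_iff, QuotientGroup.mk_mul, ← pow_two]
      exact h1
    have h3 := hsqK s h2
    rw [← QuotientGroup.eq_one_iff] at h3
    rw [h3, orderOf_one] at hq
    exact absurd hq (by norm_num)
  · intro hodd
    refine ⟨⟨?_⟩, ⟨⟨χ₁, hP1⟩⟩⟩
    have huniq : ∀ χ : Cfsg.IrrCharacter G, Cfsg.classInner π (χ : G → ℂ) ≠ 0 →
        (Nat.card G : ℂ)⁻¹ * ∑ g : G, (χ : G → ℂ) (g * g) = 1 → χ = χ₁ := by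
      intro χ h1 h2
      have hχc := Cfsg.Agent.Helper6.IsIrrCharacter.isCharacter χ.2
      -- π takes its degree on the core
      have hπk : ∀ k ∈ H.normalCore, π k = π 1 := by
        intro k hk
        rw [hπ, Cfsg.Agent.Helper6.indFun_apply, Cfsg.Agent.Helper6.indFun_apply]
        congr 1
        apply Finset.sum_congr rfl
        intro x _
        have hmem : x⁻¹ * k * x ∈ H := by
          have := hk x⁻¹
          rwa [inv_inv] at this
        rw [Cfsg.Agent.Helper6.extendByZero_mem H _ hmem,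
          Cfsg.Agent.Helper6.extendByZero_mem H _ (by simp : x⁻¹ * 1 * x ∈ H)]
      have hχk : ∀ k ∈ H.normalCore, (χ : G → ℂ) k = (χ : G → ℂ) 1 := fun k hk =>
        Cfsg.Agent.Helper6.constituent_apply_eq_of_apply_eq hπchar χ.2 h1 k (hπk k hk)
      have hconst : ∀ g k, k ∈ H.normalCore → (χ : G → ℂ) (g * k) = (χ : G → ℂ) g :=
        fun g k hk => Cfsg.Agent.Helper6.char_mul_eq_of_apply_eq hχc k (hχk k hk) g
      have hsum := Cfsg.Agent.Helper6.sum_sq_eq_sum_of_odd_index H.normalCore hodd
        (χ : G → ℂ) hconst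
      rw [hsum] at h2
      have hinner : Cfsg.classInner (χ : G → ℂ) (χ₁ : G → ℂ) = 1 := by
        rw [Cfsg.Agent.Helper6.classInner_def, ← h2]
        congr 1
        apply Finset.sum_congr rfl
        intro g _
        simp [χ₁]
      rw [Cfsg.Agent.Helper6.classInner_irr_ite χ.2 χ₁.2] at hinner
      split_ifs at hinner with h
      · exact Subtype.ext h
      · exact absurd hinner zero_ne_one
    rintro ⟨χ, h1, -, h3⟩ ⟨χ', h1', -, h3'⟩
    apply Subtype.ext
    show χ = χ'
    exact (huniq χ h1 h3).trans (huniq χ' h1' h3').symm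

end Cfsg.Agent.S4784
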