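import Cfsg.Statements.S4798
import Mathlib
import Cfsg.Agent.Helper6.SylowInd
-- import your own Cfsg.Agent.* helpers here

set_option autoImplicit false
open Cfsg

namespace Cfsg.Agent.S4798

/-- Let p be a prime and χ a faithful irreducible complex character of the finite group G (χ(g) = χ(1) only for g = 1), so that its codegree is #G / χ(1). Then #G / χ(1) is a power of p if and only if χ is induced from a character of a Sylow p-subgroup of G. -/
theorem result {G : Type*} [Group G] [Fintype G] (p : ℕ) [Fact p.Prime] (χ : Cfsg.IrrCharacter G) (hfaith : ∀ g : G, (χ : G → ℂ) g = (χ : G → ℂ) 1 → g = 1) : (∃ k : ℕ, Nat.card G = p ^ k * Cfsg.charDegree (χ : G → ℂ)) ↔ ∃ (P : Sylow p G) (θ : ↥(P : Subgroup G) → ℂ), Cfsg.IsCharacter ↥(P : Subgroup G) θ ∧ (χ : G → ℂ) = Cfsg.indFun (P : Subgroup G) θ := by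
  classical
  obtain ⟨d, hd1, hddvd, hdpos⟩ := Helper6.IsIrrCharacter.degree_dvd_card χ.2
  have hdeg : Cfsg.charDegree (χ : G → ℂ) = d := by
    unfold Cfsg.charDegree
    rw [hd1]
    simp
  rw [hdeg]
  constructor
  · rintro ⟨k, hk⟩
    obtain ⟨θ, hθ, h⟩ := Helper6.induced_from_sylow_of_codegree_pow p χ.2 d k hd1 hk default
    exact ⟨default, θ, hθ, h⟩
  · rintro ⟨P, θ, hθ, hind⟩
    obtain ⟨t, ht⟩ := Helper6.IsCharacter.apply_one hθ
    have h1 : (χ : G → ℂ) 1 = (((P : Subgroup G).index * t : ℕ) : ℂ) := by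
      rw [hind, Helper6.indFun_apply_one, ht]
      push_cast
      rfl
    have hdt : d = (P : Subgroup G).index * t := by
      rw [hd1] at h1
      exact_mod_cast h1
    obtain ⟨a, ha⟩ := IsPGroup.iff_card.mp P.isPGroup'
    have hPm : Nat.card (P : Subgroup G) * (P : Subgroup G).index = Nat.card G :=
      (P : Subgroup G).card_mul_index
    have hmpos : 0 < (P : Subgroup G).index := Nat.pos_of_ne_zero (Subgroup.index_ne_zero_of_finite)
    have htdvd : t ∣ p ^ a := by
      rw [hdt, ← hPm, ha, mul_comm] at hddvd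
      exact Nat.dvd_of_mul_dvd_mul_right hmpos hddvd
    obtain ⟨j, hja, rfl⟩ := (Nat.dvd_prime_pow (Fact.out : p.Prime)).mp htdvd
    refine ⟨a - j, ?_⟩
    rw [← hPm, ha, hdt]
    have : p ^ a = p ^ (a - j) * p ^ j := by rw [← pow_add, Nat.sub_add_cancel hja]
    rw [this]
    ring

end Cfsg.Agent.S4798
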