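import Cfsg.Statements.S4801
import Cfsg.Agent.Helper6.Codegree

set_option autoImplicit false
open Cfsg

namespace Cfsg.Agent.S4801

/-- The codegree of an irreducible complex character χ of a finite group G is [G : ker χ] / χ(1), where ker χ is the set of elements at which χ takes the value χ(1). Let S be a finite simple group and G a finite group such that every codegree of an irreducible character of S is a codegree of an irreducible character of G. Then the order of S divides the order of G. -/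
theorem result {S : Type*} [Group S] [Finite S] (hS : IsSimpleGroup S) {G : Type*} [Group G] [Finite G] (hsub : ∀ χ : Cfsg.IrrCharacter S, ∃ ψ : Cfsg.IrrCharacter G, (Nat.card S / (Nat.card {g : S // (χ : S → ℂ) g = (χ : S → ℂ) 1} * Cfsg.charDegree (χ : S → ℂ))) = (Nat.card G / (Nat.card {g : G // (ψ : G → ℂ) g = (ψ : G → ℂ) 1} * Cfsg.charDegree (ψ : G → ℂ)))) : Nat.card S ∣ Nat.card G := by
  classical
  haveI : Finite (Cfsg.IrrCharacter S) := Cfsg.Agent.Helper6.irr_finite
  haveI : Fintype (Cfsg.IrrCharacter S) := Fintype.ofFinite _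
  rw [← Nat.factorization_le_iff_dvd Nat.card_pos.ne' Nat.card_pos.ne']
  intro p
  by_cases hp : p.Prime
  swap
  · simp [Nat.factorization_eq_zero_of_not_prime _ hp]
  by_cases hpS : p ∣ Nat.card S
  swap
  · rw [Nat.factorization_eq_zero_of_not_dvd hpS]
    exact Nat.zero_le _
  -- find a nontrivial `χ` of degree prime to `p`
  have hex : ∃ χ : Cfsg.IrrCharacter S, ¬ (∀ n ∈ (⊤ : Subgroup S), (χ : S → ℂ) n = (χ : S → ℂ) 1) ∧
      ¬ p ∣ Cfsg.charDegree (χ : S → ℂ) := by
    by_contra hcon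
    push Not at hcon
    have h1 := Cfsg.Agent.Helper6.sum_sq_charDegree (G := S)
    have h2 := Cfsg.Agent.Helper6.sum_sq_degrees_of_le_ker (G := S) ⊤
    rw [← Finset.sum_filter_add_sum_filter_not Finset.univ
      (fun χ : Cfsg.IrrCharacter S => ∀ n ∈ (⊤ : Subgroup S), (χ : S → ℂ) n = (χ : S → ℂ) 1), h2,
      Subgroup.index_top] at h1
    have h3 : p ∣ ∑ χ ∈ Finset.univ.filter (fun χ : Cfsg.IrrCharacter S =>
        ¬ ∀ n ∈ (⊤ : Subgroup S), (χ : S → ℂ) n = (χ : S → ℂ) 1), Cfsg.charDegree (χ : S → ℂ) ^ 2 := by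
      apply Finset.dvd_sum
      intro χ hχ
      rw [Finset.mem_filter] at hχ
      exact dvd_pow (hcon χ (by simpa using hχ.2)) two_ne_zero
    rw [← h1] at hpS
    have : p ∣ 1 := (Nat.dvd_add_left h3).mp hpS
    exact hp.one_lt.ne' (Nat.dvd_one.mp this)
  obtain ⟨χ, hχnt, hχp⟩ := hex
  obtain ⟨K, hKn, hK, hd0, hd, hdvd⟩ := Cfsg.Agent.Helper6.exists_kernel_data χ.2
  have hKbot : K = ⊥ := by
    rcases hKn.eq_bot_or_eq_top with h | h
    · exact h
    · exfalso
      apply hχnt
      intro n _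
      exact (hK n).mp (h ▸ Subgroup.mem_top n)
  obtain ⟨ψ, hψ⟩ := hsub χ
  obtain ⟨L, hLn, hL, he0, he, hedvd⟩ := Cfsg.Agent.Helper6.exists_kernel_data ψ.2
  rw [Cfsg.Agent.Helper6.codegree_eq χ.2 K hK hd0, Cfsg.Agent.Helper6.codegree_eq ψ.2 L hL he0,
    hKbot, Subgroup.index_bot] at hψ
  -- `|S| / χ(1)` divides `|G|`
  have h1 : L.index / Cfsg.charDegree (ψ : G → ℂ) ∣ Nat.card G :=
    (Nat.div_dvd_of_dvd hedvd).trans (Subgroup.index_dvd_card L)
  rw [← hψ] at h1
  have hdvdS : Cfsg.charDegree (χ : S → ℂ) ∣ Nat.card S := by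
    have := hdvd
    rwa [hKbot, Subgroup.index_bot] at this
  obtain ⟨c, hc⟩ := hdvdS
  rw [hc, Nat.mul_div_cancel_left _ hd0] at h1
  have hc0 : c ≠ 0 := by
    rintro rfl
    rw [mul_zero] at hc
    exact Nat.card_pos.ne' hc
  have h2 : (Nat.card S).factorization p = c.factorization p := by
    rw [hc, Nat.factorization_mul hd0.ne' hc0]
    simp [Nat.factorization_eq_zero_of_not_dvd hχp]
  rw [h2]
  exact (Nat.factorization_le_iff_dvd hc0 Nat.card_pos.ne').mpr h1 p

end Cfsg.Agent.S4801
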