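import Cfsg.Statements.S4802
import Mathlib
import Cfsg.Agent.Helper6.VanishOff
import Cfsg.Agent.Helper6.ColumnOrth
import Cfsg.Agent.Helper6.IrrCount
-- import your own Cfsg.Agent.* helpers here

set_option autoImplicit false
open Cfsg

namespace Cfsg.Agent.S4802

/-- Let N < M be normal subgroups of the finite group G and g ∈ M ∖ N. Then the conjugacy class of g is exactly M ∖ N if and only if every irreducible complex character of G whose kernel contains N takes the same value at all elements of M ∖ N, and every irreducible complex character of G whose kernel does not contain N vanishes at g. -/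
theorem result {G : Type*} [Group G] [Finite G] (N M : Subgroup G) [N.Normal] [M.Normal] (hNM : N < M) (g : G) (hgM : g ∈ M) (hgN : g ∉ N) : {h : G | IsConj g h} = (M : Set G) \ (N : Set G) ↔ ((∀ χ : Cfsg.IrrCharacter G, (∀ x ∈ N, (χ : G → ℂ) x = (χ : G → ℂ) 1) → ∀ x ∈ M, x ∉ N → ∀ y ∈ M, y ∉ N → (χ : G → ℂ) x = (χ : G → ℂ) y) ∧ (∀ χ : Cfsg.IrrCharacter G, (∃ x ∈ N, (χ : G → ℂ) x ≠ (χ : G → ℂ) 1) → (χ : G → ℂ) g = 0)) := by
  classical
  haveI := Fintype.ofFinite G
  haveI : Finite (Cfsg.IrrCharacter G) := Cfsg.Agent.Helper6.irr_finite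
  haveI : Fintype (Cfsg.IrrCharacter G) := Fintype.ofFinite _
  haveI : Fintype ↥N := Fintype.ofFinite _
  have hMn : ∀ x ∈ M, ∀ a : G, a * x * a⁻¹ ∈ M := fun x hx a => Subgroup.Normal.conj_mem inferInstance x hx a
  have hNn : ∀ x ∈ N, ∀ a : G, a * x * a⁻¹ ∈ N := fun x hx a => Subgroup.Normal.conj_mem inferInstance x hx a
  -- conjugates of g lie in M \ N
  have hsub : ∀ h : G, IsConj g h → h ∈ M ∧ h ∉ N := by
    intro h hc
    obtain ⟨a, ha⟩ := isConj_iff.mp hc
    rw [← ha]
    refine ⟨hMn g hgM a, ?_⟩
    intro hn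
    apply hgN
    have := hNn _ hn a⁻¹
    rw [inv_inv] at this
    have h2 : a⁻¹ * (a * g * a⁻¹) * a = g := by group
    rwa [h2] at this
  constructor
  · intro hcl
    have hmem : ∀ x ∈ M, x ∉ N → IsConj g x := by
      intro x hxM hxN
      have : x ∈ (M : Set G) \ (N : Set G) := ⟨hxM, hxN⟩
      rw [← hcl] at this
      exact this
    constructor
    · intro χ _ x hxM hxN y hyM hyN
      have h1 := (Cfsg.Agent.Helper6.isConj_iff_forall_irr g x).mp (hmem x hxM hxN) χ
      have h2 := (Cfsg.Agent.Helper6.isConj_iff_forall_irr g y).mp (hmem y hyM hyN) χ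
      rw [← h1, ← h2]
    · intro χ hker
      obtain ⟨n, ρ, hirr, hρ⟩ := χ.2
      haveI := hirr
      have hker' : ∃ h ∈ N, ρ h ≠ LinearMap.id := by
        obtain ⟨x, hxN, hx⟩ := hker
        refine ⟨x, hxN, ?_⟩
        intro hid
        apply hx
        rw [← hρ, Representation.char_one]
        exact (Cfsg.Agent.Helper6.char_eq_finrank_iff ρ x).mpr hid
      have hsum := Cfsg.Agent.Helper6.sum_coset_char_eq_zero ρ N hker' g
      have hconst : ∀ h : ↥N, ρ.character (g * h) = ρ.character g := by
        intro h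
        have hgh : g * (h : G) ∈ M ∧ g * (h : G) ∉ N := by
          refine ⟨M.mul_mem hgM (hNM.le h.2), ?_⟩
          intro hn
          apply hgN
          have := N.mul_mem hn (N.inv_mem h.2)
          rwa [mul_inv_cancel_right] at this
        have hc := hmem _ hgh.1 hgh.2
        have := (Cfsg.Agent.Helper6.isConj_iff_forall_irr g (g * h)).mp hc χ
        rw [hρ]
        exact this.symm
      simp_rw [hconst] at hsum
      rw [Finset.sum_const, Finset.card_univ, nsmul_eq_mul] at hsum
      rcases mul_eq_zero.mp hsum with h0 | h0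
      · have : Fintype.card ↥N ≠ 0 := Fintype.card_ne_zero
        exact absurd (by exact_mod_cast h0) this
      · rw [← hρ]; exact h0
  · rintro ⟨h1, h2⟩
    apply Set.eq_of_subset_of_subset
    · intro h hc
      exact hsub h hc
    · rintro h ⟨hhM, hhN⟩
      change IsConj g h
      have hcol := Cfsg.Agent.Helper6.column_orthogonality_aux g h
      have hcol' := Cfsg.Agent.Helper6.column_orthogonality_aux g g
      rw [if_pos (IsConj.refl g)] at hcol'
      have hterm : ∀ χ : Cfsg.IrrCharacter G,
          (χ : G → ℂ) g * (starRingEnd ℂ) ((χ : G → ℂ) h) =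
          (χ : G → ℂ) g * (starRingEnd ℂ) ((χ : G → ℂ) g) := by
        intro χ
        by_cases hk : ∀ x ∈ N, (χ : G → ℂ) x = (χ : G → ℂ) 1
        · rw [h1 χ hk g hgM hgN h hhM hhN]
        · push Not at hk
          rw [h2 χ hk, zero_mul, zero_mul]
      simp_rw [hterm] at hcol
      rw [hcol'] at hcol
      by_contra hnc
      rw [if_neg hnc] at hcol
      have hpos : 0 < Nat.card ↥(Subgroup.centralizer ({g} : Set G)) := Nat.card_pos
      have : (Nat.card ↥(Subgroup.centralizer ({g} : Set G)) : ℂ) ≠ 0 := by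
        exact_mod_cast hpos.ne'
      exact this hcol

end Cfsg.Agent.S4802
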