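import Cfsg.Statements.S4814
import Mathlib
import Cfsg.Agent.Helper6.IrrDegree
import Cfsg.Agent.Helper6.Commutators
import Cfsg.Agent.Helper6.OddReal
-- import your own Cfsg.Agent.* helpers here

set_option autoImplicit false
open Cfsg

namespace Cfsg.Agent.S4814

/-- Let G be a finite group such that the sum, over the irreducible complex characters χ of G, of 1/χ(1)² is less than 2. Then every element of G is a product of two commutators. -/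
theorem result {G : Type*} [Group G] [Finite G]
    (h : ∑ᶠ χ : Cfsg.IrrCharacter G, 1 / ‖(χ : G → ℂ) 1‖ ^ 2 < (2 : ℝ)) (g : G) :
    ∃ a b c d : G, (a * b * a⁻¹ * b⁻¹) * (c * d * c⁻¹ * d⁻¹) = g := by
  classical
  haveI := Fintype.ofFinite G
  haveI : Finite (Cfsg.IrrCharacter G) := Cfsg.Agent.Helper6.irr_finite
  haveI : Fintype (Cfsg.IrrCharacter G) := Fintype.ofFinite _
  rw [finsum_eq_sum_of_fintype] at h
  by_contra hcon
  push Not at hcon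
  have hG0 : (Nat.card G : ℂ) ≠ 0 := by
    have : 0 < Nat.card G := Nat.card_pos
    exact_mod_cast this.ne'
  have hd0 : ∀ χ : Cfsg.IrrCharacter G, (χ : G → ℂ) 1 ≠ 0 := fun χ =>
    Cfsg.Agent.Helper6.IsIrrCharacter.apply_one_ne_zero χ.2
  -- Lemma A
  have hA : ∀ x : G, ∑ a : G, ∑ b : G, ∑ χ : Cfsg.IrrCharacter G,
      (χ : G → ℂ) 1 * (χ : G → ℂ) (a * b * a⁻¹ * b⁻¹ * x) =
      ∑ χ : Cfsg.IrrCharacter G,
        (χ : G → ℂ) 1 * (((Nat.card G : ℂ) / (χ : G → ℂ) 1) ^ 2 * (χ : G → ℂ) x) := by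
    intro x
    rw [Cfsg.Agent.Helper6.sum_comm3]
    apply Finset.sum_congr rfl
    intro χ _
    simp_rw [← Finset.mul_sum]
    congr 1
    obtain ⟨n, ρ, hirr, hρ⟩ := χ.2
    haveI := hirr
    rw [← hρ, Cfsg.Agent.Helper6.sum_char_commutator_mul ρ x, Representation.char_one]
  -- each indicator vanishes
  have hzero : ∀ c d : G, ∑ χ : Cfsg.IrrCharacter G,
      (χ : G → ℂ) 1 * (((Nat.card G : ℂ) / (χ : G → ℂ) 1) ^ 2 *
        (χ : G → ℂ) (c * d * c⁻¹ * d⁻¹ * g⁻¹)) = 0 := by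
    intro c d
    rw [← hA]
    apply Finset.sum_eq_zero
    intro a _
    apply Finset.sum_eq_zero
    intro b _
    rw [Cfsg.Agent.Helper6.sum_degree_mul_irr, if_neg]
    intro h1
    apply hcon a b c d
    have h2 : a * b * a⁻¹ * b⁻¹ * (c * d * c⁻¹ * d⁻¹) * g⁻¹ = 1 := by
      rw [mul_assoc]; exact h1
    exact mul_inv_eq_one.mp h2
  have hsum : ∑ c : G, ∑ d : G, ∑ χ : Cfsg.IrrCharacter G,
      (χ : G → ℂ) 1 * (((Nat.card G : ℂ) / (χ : G → ℂ) 1) ^ 2 *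
        (χ : G → ℂ) (c * d * c⁻¹ * d⁻¹ * g⁻¹)) = 0 := by
    apply Finset.sum_eq_zero
    intro c _
    apply Finset.sum_eq_zero
    intro d _
    exact hzero c d
  rw [Cfsg.Agent.Helper6.sum_comm3] at hsum
  have hS : ∑ χ : Cfsg.IrrCharacter G, (χ : G → ℂ) g⁻¹ / (χ : G → ℂ) 1 ^ 3 = 0 := by
    have h1 : ∀ χ : Cfsg.IrrCharacter G, ∑ c : G, ∑ d : G,
        (χ : G → ℂ) 1 * (((Nat.card G : ℂ) / (χ : G → ℂ) 1) ^ 2 *
          (χ : G → ℂ) (c * d * c⁻¹ * d⁻¹ * g⁻¹)) =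
        (Nat.card G : ℂ) ^ 4 * ((χ : G → ℂ) g⁻¹ / (χ : G → ℂ) 1 ^ 3) := by
      intro χ
      simp_rw [← Finset.mul_sum]
      obtain ⟨n, ρ, hirr, hρ⟩ := χ.2
      haveI := hirr
      have hd := hd0 χ
      rw [← hρ] at hd ⊢
      rw [Cfsg.Agent.Helper6.sum_char_commutator_mul ρ g⁻¹, Representation.char_one]
      rw [Representation.char_one] at hd
      field_simp
    simp_rw [h1] at hsum
    rw [← Finset.mul_sum] at hsum
    rcases mul_eq_zero.mp hsum with h2 | h2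
    · exact absurd (pow_eq_zero_iff (by norm_num) |>.mp h2) hG0
    · exact h2
  -- isolate the trivial character
  set χ₀ : Cfsg.IrrCharacter G := ⟨fun _ => (1 : ℂ), Cfsg.Agent.Helper6.isIrrCharacter_one⟩ with hχ₀
  have hsplit := Finset.add_sum_erase Finset.univ
    (fun χ : Cfsg.IrrCharacter G => (χ : G → ℂ) g⁻¹ / (χ : G → ℂ) 1 ^ 3) (Finset.mem_univ χ₀)
  have hsplit' := Finset.add_sum_erase Finset.univ
    (fun χ : Cfsg.IrrCharacter G => 1 / ‖(χ : G → ℂ) 1‖ ^ 2) (Finset.mem_univ χ₀)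
  have e1 : (χ₀ : G → ℂ) g⁻¹ / (χ₀ : G → ℂ) 1 ^ 3 = 1 := by
    change (1 : ℂ) / 1 ^ 3 = 1
    norm_num
  have e2 : 1 / ‖(χ₀ : G → ℂ) 1‖ ^ 2 = (1 : ℝ) := by
    change 1 / ‖(1 : ℂ)‖ ^ 2 = (1 : ℝ)
    norm_num
  beta_reduce at hsplit hsplit'
  rw [e1, hS] at hsplit
  rw [e2] at hsplit'
  have hrest : ∑ χ ∈ Finset.univ.erase χ₀, (χ : G → ℂ) g⁻¹ / (χ : G → ℂ) 1 ^ 3 = -1 := by
    linear_combination hsplit
  have hbound : ‖∑ χ ∈ Finset.univ.erase χ₀, (χ : G → ℂ) g⁻¹ / (χ : G → ℂ) 1 ^ 3‖ ≤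
      ∑ χ ∈ Finset.univ.erase χ₀, 1 / ‖(χ : G → ℂ) 1‖ ^ 2 := by
    refine (norm_sum_le _ _).trans ?_
    apply Finset.sum_le_sum
    intro χ _
    rw [norm_div, norm_pow]
    have hpos : 0 < ‖(χ : G → ℂ) 1‖ := norm_pos_iff.mpr (hd0 χ)
    have hle := Cfsg.Agent.Helper6.IsCharacter.norm_le_norm_one
      (Cfsg.Agent.Helper6.IsIrrCharacter.isCharacter χ.2) g⁻¹
    rw [div_le_div_iff₀ (by positivity) (by positivity)]
    calc ‖(χ : G → ℂ) g⁻¹‖ * ‖(χ : G → ℂ) 1‖ ^ 2 ≤ ‖(χ : G → ℂ) 1‖ * ‖(χ : G → ℂ) 1‖ ^ 2 :=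
          mul_le_mul_of_nonneg_right hle (by positivity)
      _ = 1 * ‖(χ : G → ℂ) 1‖ ^ 3 := by ring
  rw [hrest, norm_neg, norm_one] at hbound
  linarith

end Cfsg.Agent.S4814
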