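import Cfsg.Statements.S4837
import Mathlib
import Cfsg.Agent.Helper6.Gagola2
-- import your own Cfsg.Agent.* helpers here

set_option autoImplicit false
open Cfsg

namespace Cfsg.Agent.S4837

/-- Let G be a finite group of order greater than 2 with an irreducible character χ nonzero on exactly two conjugacy classes, and let N be the set of elements where χ is nonzero, given as a nontrivial normal p-subgroup of G for the prime p. Then for every nonidentity x in N the centralizer C_G(x) is a Sylow p-subgroup of G, and for every irreducible character λ ≠ 1 of N the stabilizer of λ in G (its inertia group) is a Sylow p-subgroup of G. -/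
theorem result {G : Type*} [Group G] [Finite G] (hG : 2 < Nat.card G) (χ : Cfsg.IrrCharacter G) (hχ : Nat.card {C : ConjClasses G // ∃ g ∈ C.carrier, (χ : G → ℂ) g ≠ 0} = 2) (p : ℕ) [Fact p.Prime] (N : Subgroup G) [N.Normal] (hN : ∀ g : G, g ∈ N ↔ (χ : G → ℂ) g ≠ 0) (hNp : IsPGroup p N) (hN1 : N ≠ ⊥) :
    (∀ x ∈ N, x ≠ 1 → ∃ P : Sylow p G, Subgroup.centralizer ({x} : Set G) = P) ∧
      (∀ μ : Cfsg.IrrCharacter N, (μ : N → ℂ) ≠ (fun _ => (1 : ℂ)) → ∃ P : Sylow p G, ∀ g : G, g ∈ (P : Subgroup G) ↔ ∀ n n' : N, (n' : G) = g * n * g⁻¹ → (μ : N → ℂ) n' = (μ : N → ℂ) n) := by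
  classical
  obtain ⟨x0, hx01, hx00, hsupp0⟩ := Helper6.two_classes_extract χ hχ
  have hsuppx : ∀ x ∈ N, x ≠ 1 → ∀ g : G, (χ : G → ℂ) g ≠ 0 → g = 1 ∨ IsConj x g := by
    intro x hx hx1 g hg
    rcases hsupp0 g hg with h | h
    · exact Or.inl h
    · right
      have hx0x : IsConj x0 x := (hsupp0 x ((hN x).mp hx)).resolve_left hx1
      exact hx0x.symm.trans h
  obtain ⟨M, hMn, hM1, hMmin, ⟨q, hq, hMea⟩, hMχ, hMconj⟩ :=
    Helper6.gagola_minimal_normal hG χ hχ
  have hMN : M = N := by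
    ext g
    rw [hN, hMχ]
  have hcommN : ∀ a b : N, a * b = b * a := by
    rw [← hMN]
    exact fun a b => hMea.1.is_comm.comm a b
  constructor
  · intro x hx hx1
    obtain ⟨h1, h2, h3⟩ :=
      Helper6.gagola_centralizer_card hG χ x hx1 (hsuppx x hx hx1) p N hN hNp hx
    exact ⟨Sylow.ofCard _ h1, (Sylow.coe_ofCard _ h1).symm⟩
  · intro μ hμ
    obtain ⟨⟨x, hxN⟩, hx1'⟩ := (Subgroup.ne_bot_iff_exists_ne_one).mp hN1
    have hx1 : x ≠ 1 := fun h => hx1' (Subtype.ext h)
    obtain ⟨h1, h2, h3⟩ :=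
      Helper6.gagola_centralizer_card hG χ x hx1 (hsuppx x hxN hx1) p N hN hNp hxN
    have h4 := Helper6.gagola_inertia_card x N hxN h3 h2 hcommN μ hμ
    have hT : Nat.card (Helper6.conjStab N (μ : N → ℂ)) = p ^ (Nat.card G).factorization p := by
      rw [← h1, ← h4]
      rfl
    refine ⟨Sylow.ofCard _ hT, ?_⟩
    intro g
    rw [Sylow.coe_ofCard, Helper6.mem_conjStab]
    constructor
    · intro h n n' hn'
      have h5 := congrFun h n
      rw [← h5]
      unfold Helper6.conjFun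
      exact congrArg (μ : N → ℂ) (Subtype.ext hn')
    · intro h
      funext n
      exact h n ⟨g * n * g⁻¹, ‹N.Normal›.conj_mem n n.2 g⟩ rfl

end Cfsg.Agent.S4837
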