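import Cfsg.Statements.S4840
import Cfsg.Agent.Helper6.Gagola
import Cfsg.Agent.Gagola.H8_Char
import Cfsg.Agent.Gagola.H8_SolvCam

set_option autoImplicit false
open Cfsg

namespace Cfsg.Agent.S4840

/-- Let G be a finite solvable group of order greater than 2 with an irreducible character nonzero on exactly two conjugacy classes. Then there is exactly one prime p with O_p(G) ≠ 1, and the quotient G/O_p(G) has a normal p-complement and commutative Sylow p-subgroups. -/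
theorem result {G : Type*} [Group G] [Finite G] [hs : Group.IsSolvable G] (hG : 2 < Nat.card G) (χ : Cfsg.IrrCharacter G) (hχ : Nat.card {C : ConjClasses G // ∃ g ∈ C.carrier, (χ : G → ℂ) g ≠ 0} = 2) :
    ∃ p : ℕ, p.Prime ∧ (∀ q : ℕ, q.Prime → (Cfsg.pCore q G ≠ ⊥ ↔ q = p)) ∧
      Cfsg.HasNormalPComplement p (G ⧸ Cfsg.pCore p G) ∧ ∀ Q : Sylow p (G ⧸ Cfsg.pCore p G), IsMulCommutative (Q : Subgroup (G ⧸ Cfsg.pCore p G)) := by
  obtain ⟨N, hNn, hN1, hmin, ⟨p, hp, hel⟩, hχN, -⟩ :=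
    Cfsg.Agent.Helper6.gagola_minimal_normal hG χ hχ
  have hp' : Fact p.Prime := ⟨hp⟩
  have hN' : ∀ g : G, g ∈ N ↔ (χ : G → ℂ) g ≠ 0 := fun g => (hχN g).symm
  have hNp : IsPGroup p N := by
    intro n
    refine ⟨1, ?_⟩
    apply Subtype.ext
    rw [pow_one, Subgroup.coe_pow, Subgroup.coe_one]
    exact hel.2 n n.2
  have hcam : Cfsg.Agent.Gagola.Cam p N := Cfsg.Agent.Gagola.cam_of_char χ hχ hN' hNp hN1
  obtain ⟨h1, h2⟩ := hcam.solvable_structure
  refine ⟨p, hp, fun q hq => hcam.pCore_ne_bot_iff hmin q hq, h1, ?_⟩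
  intro Q
  exact ⟨⟨fun a b => Subtype.ext (h2 (Q : Subgroup (G ⧸ Cfsg.pCore p G)) Q.2 a a.2 b b.2)⟩⟩

end Cfsg.Agent.S4840
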