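import Cfsg.Statements.S4856
import Mathlib
import Cfsg.Agent.Helper6.Commutators
-- import your own Cfsg.Agent.* helpers here

set_option autoImplicit false
open Cfsg

namespace Cfsg.Agent.S4856

/-- For an element z of a finite group G, the number of pairs (x, y) of elements with x y x⁻¹ y⁻¹ = z equals the order of G times the sum over the irreducible characters χ of χ(z)/χ(1). -/
theorem result {G : Type*} [Group G] [Finite G] (z : G) : (Nat.card {xy : G × G // xy.1 * xy.2 * xy.1⁻¹ * xy.2⁻¹ = z} : ℂ) = (Nat.card G : ℂ) * ∑ᶠ χ : Cfsg.IrrCharacter G, (χ : G → ℂ) z / (χ : G → ℂ) 1 := by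
  classical
  haveI := Fintype.ofFinite G
  haveI : Finite (Cfsg.IrrCharacter G) := Cfsg.Agent.Helper6.irr_finite
  haveI : Fintype (Cfsg.IrrCharacter G) := Fintype.ofFinite _
  rw [finsum_eq_sum_of_fintype]
  have hcount := Cfsg.Agent.Helper6.card_commutator_eq (z⁻¹ : G)
  rw [inv_inv] at hcount
  rw [← hcount]
  -- swap the two coordinates
  have hswap : ∀ a b w : G, a * b * a⁻¹ * b⁻¹ = w → b * a * b⁻¹ * a⁻¹ = w⁻¹ := by
    intro a b w h
    rw [← h]
    group
  have hequiv : {xy : G × G // xy.1 * xy.2 * xy.1⁻¹ * xy.2⁻¹ = z} ≃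
      {xy : G × G // xy.1 * xy.2 * xy.1⁻¹ * xy.2⁻¹ = z⁻¹} :=
    { toFun := fun p => ⟨(p.1.2, p.1.1), hswap _ _ _ p.2⟩
      invFun := fun p => ⟨(p.1.2, p.1.1), by
        have := hswap _ _ _ p.2
        rwa [inv_inv] at this⟩
      left_inv := fun p => by simp
      right_inv := fun p => by simp }
  rw [Nat.card_congr hequiv, Nat.card_eq_fintype_card, Fintype.card_subtype]
  rw [Finset.card_filter]
  push_cast
  rw [Fintype.sum_prod_type]

end Cfsg.Agent.S4856
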