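import Cfsg.Statements.S4873
import Mathlib
import Cfsg.Agent.Helper6.FSOddIndex
-- import your own Cfsg.Agent.* helpers here

set_option autoImplicit false
open Cfsg

namespace Cfsg.Agent.S4873

/-- Let N be a normal subgroup of odd index in the finite group G. Then every irreducible complex character of N with Frobenius–Schur indicator +1 lies under exactly one irreducible character of G with Frobenius–Schur indicator +1. -/
theorem result {G : Type*} [Group G] [Finite G] (N : Subgroup G) [N.Normal] (hodd : Odd N.index) (φ : Cfsg.IrrCharacter ↥N) (hφ : (Nat.card ↥N : ℂ)⁻¹ * ∑ᶠ g : ↥N, (φ : ↥N → ℂ) (g * g) = 1) : ∃! χ : Cfsg.IrrCharacter G, (Nat.card G : ℂ)⁻¹ * ∑ᶠ g : G, (χ : G → ℂ) (g * g) = 1 ∧ (∑ᶠ n : ↥N, (χ : G → ℂ) n * (starRingEnd ℂ) ((φ : ↥N → ℂ) n)) ≠ 0 := by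
  classical
  haveI := Fintype.ofFinite G
  haveI : Fintype N := Fintype.ofFinite N
  have hφ' : Helper6.fsIndFun (φ : N → ℂ) = 1 := by
    unfold Helper6.fsIndFun
    rw [← finsum_eq_sum_of_fintype]
    exact hφ
  obtain ⟨χ₀, ⟨h1, h2⟩, huniq⟩ := Helper6.fs_unique_over N hodd φ hφ'
  have hconv1 : ∀ χ : Cfsg.IrrCharacter G,
      ((Nat.card G : ℂ)⁻¹ * ∑ᶠ g : G, (χ : G → ℂ) (g * g) = 1) ↔
        Helper6.fsIndFun (χ : G → ℂ) = 1 := by
    intro χ
    unfold Helper6.fsIndFun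
    rw [finsum_eq_sum_of_fintype]
  have hN0 : (Nat.card N : ℂ) ≠ 0 := by
    have : 0 < Nat.card N := Nat.card_pos
    exact_mod_cast this.ne'
  have hconv2 : ∀ χ : Cfsg.IrrCharacter G,
      ((∑ᶠ n : ↥N, (χ : G → ℂ) n * (starRingEnd ℂ) ((φ : ↥N → ℂ) n)) ≠ 0) ↔
        Cfsg.classInner (fun n : N => (χ : G → ℂ) n) (φ : N → ℂ) ≠ 0 := by
    intro χ
    rw [finsum_eq_sum_of_fintype, Helper6.classInner_def]
    constructor
    · intro h
      exact mul_ne_zero (inv_ne_zero hN0) h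
    · intro h
      exact right_ne_zero_of_mul h
  refine ⟨χ₀, ⟨(hconv1 χ₀).mpr h1, (hconv2 χ₀).mpr h2⟩, ?_⟩
  rintro χ ⟨hχ1, hχ2⟩
  exact huniq χ ⟨(hconv1 χ).mp hχ1, (hconv2 χ).mp hχ2⟩

end Cfsg.Agent.S4873
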