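import Cfsg.Statements.S4888
import Mathlib
import Cfsg.Agent.Helper6.IsaacsSmithA
import Cfsg.Agent.Helper6.IsaacsSmithC
import Cfsg.Agent.Helper6.HeightZeroSolv
import Cfsg.Agent.Helper6.PrincipalSection
import Cfsg.Agent.Helper6.Inflation
import Cfsg.Agent.Helper6.DefectZeroBlock
-- import your own Cfsg.Agent.* helpers here

set_option autoImplicit false
open Cfsg

namespace Cfsg.Agent.S4888

/-- Let G be a finite group, p a prime and M a maximal ideal of the algebraic integers containing p. Then all height-zero irreducible characters of the principal p-block of G (equivalently, all its characters of degree prime to p) have the same degree if and only if G has a normal p-complement. -/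
theorem result {G : Type*} [Group G] [Finite G] (p : ℕ) [Fact p.Prime] (M : Ideal Cfsg.AlgInt) (hM : Cfsg.IsPModular p M) : (∃ d : ℕ, ∀ χ : Cfsg.IrrCharacter G, χ ∈ (Cfsg.principalBlock M G) → Cfsg.blockHeight p (Cfsg.principalBlock M G) (χ : G → ℂ) = 0 → Cfsg.charDegree (χ : G → ℂ) = d) ↔ Cfsg.HasNormalPComplement p G := by
  classical
  have hMmax : M.IsMaximal := hM.2.1
  have hp : p.Prime := Fact.out
  constructor
  · rintro ⟨d, hd⟩
    have hd1 : d = 1 := by
      have h := hd (Helper6.trivIrr G) (Helper6.trivIrr_mem_principalBlock hMmax)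
        ((Helper6.principal_height_zero_iff hMmax p (Helper6.trivIrr G)).mpr (by
          rw [Helper6.charDegree_trivIrr]
          exact fun h => hp.one_lt.ne' (Nat.dvd_one.mp h)))
      rw [Helper6.charDegree_trivIrr] at h
      exact h.symm
    subst hd1
    have hlin : ∀ χ : Cfsg.IrrCharacter G, χ ∈ Cfsg.principalBlock M G →
        ¬ p ∣ Cfsg.charDegree (χ : G → ℂ) → Cfsg.charDegree (χ : G → ℂ) = 1 := by
      intro χ hχ hpd
      exact hd χ hχ ((Helper6.principal_height_zero_iff hMmax p χ).mpr hpd)
    obtain ⟨P⟩ : Nonempty (Sylow p G) := inferInstance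
    exact Helper6.hasNormalPComplement_of_linear_extend P
      (fun μ => Helper6.exists_linear_extension_of_principal_linear hM P hlin μ)
  · rintro ⟨P, N, hNn, hNc⟩
    refine ⟨1, ?_⟩
    intro χ hχ hht
    have hpd : ¬ p ∣ Cfsg.charDegree (χ : G → ℂ) :=
      (Helper6.principal_height_zero_iff hMmax p χ).mp hht
    have hcop : (Nat.card N).Coprime p := by
      rw [← hNc.index_eq_card]
      exact ((Nat.Prime.coprime_iff_not_dvd hp).2 P.not_dvd_index).symm
    have hle : N ≤ Cfsg.pPrimeCore p G := Helper1.le_pPrimeCore hNn hcop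
    have hker : ∀ n ∈ N, (χ : G → ℂ) n = (χ : G → ℂ) 1 := fun n hn =>
      Helper6.pPrimeCore_le_ker_principalBlock hM χ hχ n (hle hn)
    haveI := hNn
    obtain ⟨χ', hχ'⟩ := Helper6.exists_deflate N χ hker
    have hdeg : Cfsg.charDegree (χ : G → ℂ) = Cfsg.charDegree (χ' : G ⧸ N → ℂ) := by
      unfold Cfsg.charDegree
      rw [hχ']
      rfl
    have hdvd : Cfsg.charDegree (χ' : G ⧸ N → ℂ) ∣ Nat.card (G ⧸ N) :=
      Helper6.charDegree_dvd_card χ'.2
    obtain ⟨a, ha⟩ := IsPGroup.iff_card.1 P.2
    rw [← Subgroup.index_eq_card, hNc.symm.index_eq_card, ha, ← hdeg] at hdvd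
    obtain ⟨j, -, hj⟩ := (Nat.dvd_prime_pow hp).1 hdvd
    rcases Nat.eq_zero_or_pos j with h0 | hpos
    · rw [hj, h0, pow_zero]
    · exfalso
      apply hpd
      rw [hj]
      exact dvd_pow_self p hpos.ne'

end Cfsg.Agent.S4888
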