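import Cfsg.Statements.S4911
import Mathlib
import Cfsg.Agent.Helper6.GlaubX
-- import your own Cfsg.Agent.* helpers here

set_option autoImplicit false
open Cfsg

namespace Cfsg.Agent.S4911

/-- Let P and K be subgroups of a finite group with P a p-group normalizing K and K of order prime to p. Then the number of P-invariant real-valued irreducible complex characters of K equals the number of conjugacy classes of K that are real (closed under inversion) and P-invariant. Moreover, if every real-valued irreducible character of K is P-invariant, then every real element of K (one conjugate in K to its inverse) is conjugate in K to an element centralized by P. -/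
theorem result {G : Type*} [Group G] [Finite G] (p : ℕ) [Fact p.Prime] (P K : Subgroup G) (hP : IsPGroup p ↥P) (hK : ¬ p ∣ Nat.card ↥K) (hPK : P ≤ Subgroup.normalizer (K : Set G)) : Nat.card {θ : Cfsg.IrrCharacter ↥K // (∀ k : ↥K, ((θ : ↥K → ℂ) k).im = 0) ∧ (∀ x ∈ P, ∀ k k' : ↥K, (k' : G) = x * (k : G) * x⁻¹ → (θ : ↥K → ℂ) k' = (θ : ↥K → ℂ) k)} = Nat.card {c : ConjClasses ↥K // (∀ k : ↥K, ConjClasses.mk k = c → IsConj k k⁻¹) ∧ ∀ k : ↥K, ConjClasses.mk k = c → ∀ x ∈ P, ∀ k' : ↥K, (k' : G) = x * (k : G) * x⁻¹ → ConjClasses.mk k' = c} ∧ ((∀ θ : Cfsg.IrrCharacter ↥K, (∀ k : ↥K, ((θ : ↥K → ℂ) k).im = 0) → (∀ x ∈ P, ∀ k k' : ↥K, (k' : G) = x * (k : G) * x⁻¹ → (θ : ↥K → ℂ) k' = (θ : ↥K → ℂ) k)) → ∀ k : ↥K, IsConj k k⁻¹ → ∃ k' : ↥K, IsConj k k' ∧ ∀ x ∈ P, x * (k' : G) * x⁻¹ = (k' : G)) := by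
  classical
  haveI : Fintype K := Fintype.ofFinite _
  have hp : p.Prime := Fact.out
  have hnorm : ∀ x ∈ P, ∀ k ∈ K, x * k * x⁻¹ ∈ K := fun x hx k hk =>
    (Subgroup.mem_normalizer_iff.mp (hPK hx) k).mp hk
  set A : Subgroup (MulAut K) := (Helper6.conjHomOn K P hnorm).range with hAdef
  have hA : IsPGroup p A :=
    hP.of_surjective (Helper6.conjHomOn K P hnorm).rangeRestrict
      (Helper6.conjHomOn K P hnorm).rangeRestrict_surjective
  have hcopA : (Nat.card K).Coprime (Nat.card A) := by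
    obtain ⟨j, hj⟩ := IsPGroup.iff_card.mp hA
    rw [hj]
    apply Nat.Coprime.pow_right
    exact ((Nat.Prime.coprime_iff_not_dvd hp).mpr hK).symm
  set C : Subgroup K := Helper6.fixedSub A with hCdef
  haveI : Fintype C := Fintype.ofFinite _
  have hC : ∀ g : K, g ∈ C ↔ ∀ a ∈ A, a g = g := fun g => Helper6.mem_fixedSub A g
  -- translation of the invariance conditions
  have hθinv : ∀ θ : K → ℂ, (∀ x ∈ P, ∀ k k' : K, (k' : G) = x * (k : G) * x⁻¹ → θ k' = θ k) ↔
      Helper6.InvUnder (A : Set (MulAut K)) θ := fun θ =>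
    (Helper6.invUnder_conj_iff K P hnorm θ).symm
  have hcinv : ∀ c : ConjClasses K, (∀ k : K, ConjClasses.mk k = c → ∀ x ∈ P, ∀ k' : K,
      (k' : G) = x * (k : G) * x⁻¹ → ConjClasses.mk k' = c) ↔
      ∀ a ∈ A, ConjClasses.map (a : K ≃* K).toMonoidHom c = c := by
    intro c
    constructor
    · rintro h a ⟨x, rfl⟩
      obtain ⟨k, rfl⟩ := ConjClasses.exists_rep c
      rw [Helper6.conjClasses_map_mk']
      exact h k rfl x.1 x.2 _ (Helper6.conjHomOn_apply K P hnorm x k)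
    · intro h k hk x hx k' hk'
      have h3 := h (Helper6.conjHomOn K P hnorm ⟨x, hx⟩) ⟨⟨x, hx⟩, rfl⟩
      rw [← hk, Helper6.conjClasses_map_mk'] at h3
      have h4 : Helper6.conjHomOn K P hnorm ⟨x, hx⟩ k = k' := by
        apply Subtype.ext
        rw [Helper6.conjHomOn_apply, hk']
      change ConjClasses.mk ((Helper6.conjHomOn K P hnorm ⟨x, hx⟩) k) = ConjClasses.mk k at h3
      rw [h4] at h3
      rw [h3, hk]
  have hchain : Nat.card {θ : Cfsg.IrrCharacter ↥K // (∀ k : ↥K, ((θ : ↥K → ℂ) k).im = 0) ∧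
        Helper6.InvUnder (A : Set (MulAut K)) (θ : K → ℂ)} =
      Nat.card {c : ConjClasses K // (∀ k : K, ConjClasses.mk k = c → IsConj k k⁻¹) ∧
        ∀ a ∈ A, ConjClasses.map (a : K ≃* K).toMonoidHom c = c} := by
    rw [Helper6.card_real_invariant_irr A hA hcopA C hC,
      Helper6.card_real_invariant_classes A hA hK C hC]
    exact Helper6.card_real_irr_eq_card_real_classes (G := C)
  have hpart1 : Nat.card {θ : Cfsg.IrrCharacter ↥K // (∀ k : ↥K, ((θ : ↥K → ℂ) k).im = 0) ∧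
      (∀ x ∈ P, ∀ k k' : ↥K, (k' : G) = x * (k : G) * x⁻¹ →
        (θ : ↥K → ℂ) k' = (θ : ↥K → ℂ) k)} =
      Nat.card {c : ConjClasses ↥K // (∀ k : ↥K, ConjClasses.mk k = c → IsConj k k⁻¹) ∧
        ∀ k : ↥K, ConjClasses.mk k = c → ∀ x ∈ P, ∀ k' : ↥K, (k' : G) = x * (k : G) * x⁻¹ →
          ConjClasses.mk k' = c} := by
    have e1 : Nat.card {θ : Cfsg.IrrCharacter ↥K // (∀ k : ↥K, ((θ : ↥K → ℂ) k).im = 0) ∧
        (∀ x ∈ P, ∀ k k' : ↥K, (k' : G) = x * (k : G) * x⁻¹ →
          (θ : ↥K → ℂ) k' = (θ : ↥K → ℂ) k)} =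
        Nat.card {θ : Cfsg.IrrCharacter ↥K // (∀ k : ↥K, ((θ : ↥K → ℂ) k).im = 0) ∧
          Helper6.InvUnder (A : Set (MulAut K)) (θ : K → ℂ)} := by
      apply Nat.card_congr
      apply Equiv.subtypeEquivRight
      intro θ
      exact and_congr Iff.rfl (hθinv _)
    have e2 : Nat.card {c : ConjClasses ↥K // (∀ k : ↥K, ConjClasses.mk k = c → IsConj k k⁻¹) ∧
        ∀ k : ↥K, ConjClasses.mk k = c → ∀ x ∈ P, ∀ k' : ↥K, (k' : G) = x * (k : G) * x⁻¹ →
          ConjClasses.mk k' = c} =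
        Nat.card {c : ConjClasses K // (∀ k : K, ConjClasses.mk k = c → IsConj k k⁻¹) ∧
          ∀ a ∈ A, ConjClasses.map (a : K ≃* K).toMonoidHom c = c} := by
      apply Nat.card_congr
      apply Equiv.subtypeEquivRight
      intro c
      exact and_congr Iff.rfl (hcinv c)
    rw [e1, e2]
    exact hchain
  refine ⟨hpart1, ?_⟩
  intro hall k hk
  -- all real classes are invariant
  have hcard : Nat.card {c : ConjClasses K // ∀ k : K, ConjClasses.mk k = c → IsConj k k⁻¹} ≤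
      Nat.card {c : ConjClasses K // (∀ k : K, ConjClasses.mk k = c → IsConj k k⁻¹) ∧
        ∀ a ∈ A, ConjClasses.map (a : K ≃* K).toMonoidHom c = c} := by
    rw [← hchain, ← Helper6.card_real_irr_eq_card_real_classes (G := K)]
    apply le_of_eq
    apply Nat.card_congr
    apply Equiv.subtypeEquivRight
    intro θ
    constructor
    · intro h
      exact ⟨h, (hθinv _).mp (hall θ h)⟩
    · intro h
      exact h.1
  haveI : Finite {c : ConjClasses K // ∀ k : K, ConjClasses.mk k = c → IsConj k k⁻¹} :=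
    Subtype.finite
  let i : {c : ConjClasses K // (∀ k : K, ConjClasses.mk k = c → IsConj k k⁻¹) ∧
        ∀ a ∈ A, ConjClasses.map (a : K ≃* K).toMonoidHom c = c} →
      {c : ConjClasses K // ∀ k : K, ConjClasses.mk k = c → IsConj k k⁻¹} :=
    fun c => ⟨c.1, c.2.1⟩
  have hinj : Function.Injective i := by
    intro c c' h
    apply Subtype.ext
    have h' : (i c).1 = (i c').1 := congrArg Subtype.val h
    exact h'
  have hbij := hinj.bijective_of_nat_card_le hcard
  have hkreal : ∀ k' : K, ConjClasses.mk k' = ConjClasses.mk k → IsConj k' k'⁻¹ := by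
    intro k' hk'
    rw [ConjClasses.mk_eq_mk_iff_isConj] at hk'
    have h2 : IsConj k'⁻¹ k⁻¹ := by
      obtain ⟨z, hz⟩ := isConj_iff.mp hk'
      rw [isConj_iff]
      refine ⟨z, ?_⟩
      rw [← hz]
      group
    exact (hk'.trans hk).trans h2.symm
  obtain ⟨⟨c, hc1, hc2⟩, hci⟩ := hbij.2 ⟨ConjClasses.mk k, hkreal⟩
  have hck : c = ConjClasses.mk k := congrArg Subtype.val hci
  subst hck
  obtain ⟨g₀, hg₀, hg₀c⟩ := Helper6.exists_fixed_in_class A hA hK (ConjClasses.mk k) hc2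
  refine ⟨g₀, ?_, ?_⟩
  · rw [← ConjClasses.mk_eq_mk_iff_isConj]
    exact hg₀c.symm
  · intro x hx
    have h1 := hg₀ (Helper6.conjHomOn K P hnorm ⟨x, hx⟩) ⟨⟨x, hx⟩, rfl⟩
    have h2 := congrArg Subtype.val h1
    rw [Helper6.conjHomOn_apply] at h2
    exact h2

end Cfsg.Agent.S4911
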