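import Cfsg.Statements.S4912
import Mathlib
import Cfsg.Agent.Helper6.LinearCountFS
-- import your own Cfsg.Agent.* helpers here

set_option autoImplicit false
open Cfsg

namespace Cfsg.Agent.S4912

/-- Let G be a finite group with a non-abelian minimal normal subgroup N, and let φ be an irreducible complex character of N with stabilizer I in G such that φ extends to an irreducible character of I with Frobenius–Schur indicator +1. Put d = φ(1)·[G : I]. Then the number of linear characters of G with Frobenius–Schur indicator +1 is at most [G : I] times the number of irreducible characters of G of degree d with Frobenius–Schur indicator +1. -/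
theorem result {G : Type*} [Group G] [Finite G] (N : Subgroup G) (hN : N.Normal) (hN1 : N ≠ ⊥) (hmin : ∀ M : Subgroup G, M.Normal → M ≤ N → M = ⊥ ∨ M = N) (hna : ¬ IsMulCommutative ↥N) (φ : Cfsg.IrrCharacter ↥N) (I : Subgroup G) (hI : ∀ g : G, g ∈ I ↔ ∀ n n' : ↥N, (n' : G) = g * (n : G) * g⁻¹ → (φ : ↥N → ℂ) n' = (φ : ↥N → ℂ) n) (hNI : N ≤ I) (hext : ∃ ψ : Cfsg.IrrCharacter ↥I, (Nat.card ↥I : ℂ)⁻¹ * ∑ᶠ g : ↥I, (ψ : ↥I → ℂ) (g * g) = 1 ∧ ∀ n : ↥N, (ψ : ↥I → ℂ) (Subgroup.inclusion hNI n) = (φ : ↥N → ℂ) n) : Nat.card {χ : Cfsg.IrrCharacter G // Cfsg.charDegree (χ : G → ℂ) = 1 ∧ (Nat.card G : ℂ)⁻¹ * ∑ᶠ g : G, (χ : G → ℂ) (g * g) = 1} ≤ I.index * Nat.card {χ : Cfsg.IrrCharacter G // Cfsg.charDegree (χ : G → ℂ) = Cfsg.charDegree (φ : ↥N → ℂ) * I.index ∧ (Nat.card G : ℂ)⁻¹ * ∑ᶠ g : G, (χ : G → ℂ) (g * g) = 1} := by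
  classical
  haveI := hN
  haveI := Fintype.ofFinite G
  haveI : Fintype I := Fintype.ofFinite I
  obtain ⟨ψ, hψfs, hψext⟩ := hext
  rw [finsum_eq_sum_of_fintype] at hψfs
  have hNG := Helper6.le_commutator_of_minimal_nonabelian N hmin hna
  have hI' : ∀ g : G, g ∈ I ↔ Helper6.conjFun N (φ : ↥N → ℂ) g = (φ : ↥N → ℂ) := by
    intro g
    rw [hI g]
    constructor
    · intro h
      funext n
      exact h n ⟨g * n * g⁻¹, hN.conj_mem n n.2 g⟩ rfl
    · intro h n n' hn'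
      have h1 := congrFun h n
      have h2 : n' = ⟨g * n * g⁻¹, hN.conj_mem n n.2 g⟩ := Subtype.ext hn'
      rw [h2]
      exact h1
  obtain ⟨hirr, hdeg, hstab⟩ := Helper6.induced_ext_stab N I hNG φ φ.2 hI' hNI ψ ψ.2 hψext
  obtain ⟨-, -, -, -, hφ1, -⟩ := Helper6.exists_kernel_data φ.2
  have hreal := Helper6.real_of_fs_eq_one ψ.2 hψfs
  have hfs₀ : (Nat.card G : ℂ)⁻¹ * ∑ x : G, Cfsg.indFun I (ψ : ↥I → ℂ) (x * x) = 1 := by
    rw [Helper6.fs_induced_eq N I hNI φ φ.2 hI' ψ (Helper6.IsIrrCharacter.isCharacter ψ.2)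
      hψext hreal]
    exact hψfs
  have hL : Nat.card {χ : Cfsg.IrrCharacter G // Cfsg.charDegree (χ : G → ℂ) = 1 ∧
      (Nat.card G : ℂ)⁻¹ * ∑ᶠ g : G, (χ : G → ℂ) (g * g) = 1} =
      Nat.card {μ : G →* ℂˣ //
        (Nat.card G : ℂ)⁻¹ * ∑ g : G, ((μ (g * g) : ℂˣ) : ℂ) = 1} := by
    apply Nat.card_congr
    refine (Equiv.subtypeEquivRight ?_).trans
      ((Equiv.subtypeSubtypeEquivSubtypeInter
        (fun χ : Cfsg.IrrCharacter G => (χ : G → ℂ) 1 = 1)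
        (fun χ : Cfsg.IrrCharacter G =>
          (Nat.card G : ℂ)⁻¹ * ∑ g : G, (χ : G → ℂ) (g * g) = 1)).symm.trans
        (Equiv.subtypeEquiv (Helper6.homEquivLinearIrr (G := G)) (fun μ => Iff.rfl)).symm)
    intro χ
    obtain ⟨-, -, -, -, hχ1, -⟩ := Helper6.exists_kernel_data χ.2
    rw [finsum_eq_sum_of_fintype]
    apply and_congr_left'
    constructor
    · intro h
      rw [hχ1, h, Nat.cast_one]
    · intro h
      rw [hχ1] at h
      exact_mod_cast h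
  rw [hL]
  apply Helper6.card_le_index_mul_of_stab I (Cfsg.indFun I (ψ : ↥I → ℂ)) hstab
    (fun μ => (Nat.card G : ℂ)⁻¹ * ∑ g : G, ((μ (g * g) : ℂˣ) : ℂ) = 1)
    (fun χ => Cfsg.charDegree (χ : G → ℂ) = Cfsg.charDegree (φ : ↥N → ℂ) * I.index ∧
      (Nat.card G : ℂ)⁻¹ * ∑ᶠ g : G, (χ : G → ℂ) (g * g) = 1)
    (fun μ => ⟨Cfsg.indFun I (ψ : ↥I → ℂ) * fun g => ((μ g : ℂˣ) : ℂ),
      Helper6.IsIrrCharacter.mul_hom μ hirr⟩) (fun μ => rfl)
  intro μ hμ
  simp only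
  constructor
  · generalize hd : Cfsg.charDegree (φ : ↥N → ℂ) = d at hφ1 ⊢
    have h1 : (Cfsg.indFun I (ψ : ↥I → ℂ) * fun g => ((μ g : ℂˣ) : ℂ)) 1 =
        ((d * I.index : ℕ) : ℂ) := by
      rw [Pi.mul_apply, hdeg, hφ1, map_one, Units.val_one, mul_one]
      push_cast
      ring
    unfold Cfsg.charDegree
    rw [h1, Complex.natCast_re, Nat.floor_natCast]
  · rw [finsum_eq_sum_of_fintype, ← hfs₀]
    congr 1
    apply Finset.sum_congr rfl
    intro g _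
    rw [Pi.mul_apply, Helper6.hom_sq_eq_one_of_fs μ hμ g, Units.val_one, mul_one]

end Cfsg.Agent.S4912
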