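import Mathlib
import Cfsg.Statements.S4965
-- import your own Cfsg.Agent.* helpers here

set_option autoImplicit false
open Cfsg

namespace Cfsg.Agent.S4965
open Cfsg

/-- Let X be a finite group with an abelian normal subgroup V (any two elements of V commute), and let φ be the action of X ⧸ V on V induced by conjugation (well defined because V is abelian; the hypothesis hφ says that the class of x acts as conjugation by x). Then X has at most as many conjugacy classes as the semidirect product of V by X ⧸ V formed with this action: the split extension has the largest class number among extensions with the given action. -/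
theorem result {X : Type*} [Group X] [Finite X] (V : Subgroup X) [V.Normal] (hab : ∀ a ∈ V, ∀ b ∈ V, a * b = b * a) (φ : X ⧸ V →* MulAut ↥V) (hφ : ∀ (x : X) (v : ↥V), ((φ (QuotientGroup.mk x) v : ↥V) : X) = x * v * x⁻¹) : Nat.card (ConjClasses X) ≤ Nat.card (ConjClasses (SemidirectProduct ↥V (X ⧸ V) φ)) := by
  classical
  -- cardinalities
  have hcardS : Nat.card (SemidirectProduct ↥V (X ⧸ V) φ) = Nat.card X := by
    rw [Nat.card_congr (SemidirectProduct.equivProd (φ := φ)), Nat.card_prod,
      Subgroup.card_eq_card_quotient_mul_card_subgroup V, mul_comm]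
  have : Finite (SemidirectProduct ↥V (X ⧸ V) φ) :=
    Finite.of_equiv _ (SemidirectProduct.equivProd (φ := φ)).symm
  have h1 := card_comm_eq_card_conjClasses_mul_card X
  have h2 := card_comm_eq_card_conjClasses_mul_card (SemidirectProduct ↥V (X ⧸ V) φ)
  rw [hcardS] at h2
  have hXpos : 0 < Nat.card X := Nat.card_pos
  -- suffices: inequality of commuting pairs
  suffices hsuff : Nat.card { p : X × X // Commute p.1 p.2 } ≤
      Nat.card { p : (SemidirectProduct ↥V (X ⧸ V) φ) × (SemidirectProduct ↥V (X ⧸ V) φ) //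
        Commute p.1 p.2 } by
    rw [h1, h2] at hsuff
    exact Nat.le_of_mul_le_mul_right hsuff hXpos
  -- base points
  have hex : ∀ ab : (X ⧸ V) × (X ⧸ V), ∃ xy : X × X,
      (∃ x y : X, Commute x y ∧ (QuotientGroup.mk x : X ⧸ V) = ab.1 ∧
        (QuotientGroup.mk y : X ⧸ V) = ab.2) →
      (Commute xy.1 xy.2 ∧ (QuotientGroup.mk xy.1 : X ⧸ V) = ab.1 ∧
        (QuotientGroup.mk xy.2 : X ⧸ V) = ab.2) := by
    intro ab
    by_cases h : ∃ x y : X, Commute x y ∧ (QuotientGroup.mk x : X ⧸ V) = ab.1 ∧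
        (QuotientGroup.mk y : X ⧸ V) = ab.2
    · obtain ⟨x, y, hxy⟩ := h
      exact ⟨(x, y), fun _ => hxy⟩
    · exact ⟨(1, 1), fun h' => absurd h' h⟩
  choose base hbase using hex
  -- the map
  let toV : X → ↥V := fun z => if h : z ∈ V then ⟨z, h⟩ else 1
  have htoV : ∀ z (h : z ∈ V), toV z = ⟨z, h⟩ := fun z h => dif_pos h
  let F : {p : X × X // Commute p.1 p.2} →
      {p : (SemidirectProduct ↥V (X ⧸ V) φ) × (SemidirectProduct ↥V (X ⧸ V) φ) // Commute p.1 p.2} :=
    fun p => ⟨(⟨toV (p.1.1 * (base (QuotientGroup.mk p.1.1, QuotientGroup.mk p.1.2)).1⁻¹),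
                  QuotientGroup.mk p.1.1⟩,
               ⟨toV (p.1.2 * (base (QuotientGroup.mk p.1.1, QuotientGroup.mk p.1.2)).2⁻¹),
                  QuotientGroup.mk p.1.2⟩), by
      obtain ⟨⟨x, y⟩, hxy⟩ := p
      simp only
      obtain ⟨hc, hx0, hy0⟩ := hbase (QuotientGroup.mk x, QuotientGroup.mk y) ⟨x, y, hxy, rfl, rfl⟩
      set x0 := (base (QuotientGroup.mk x, QuotientGroup.mk y)).1 with hx0def
      set y0 := (base (QuotientGroup.mk x, QuotientGroup.mk y)).2 with hy0def
      simp only at hx0 hy0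
      have hu : x * x0⁻¹ ∈ V := by
        rw [← QuotientGroup.eq_one_iff, QuotientGroup.mk_mul, QuotientGroup.mk_inv, hx0]
        simp
      have hw : y * y0⁻¹ ∈ V := by
        rw [← QuotientGroup.eq_one_iff, QuotientGroup.mk_mul, QuotientGroup.mk_inv, hy0]
        simp
      rw [htoV _ hu, htoV _ hw]
      rw [commute_iff_eq]
      apply SemidirectProduct.ext
      · simp only [SemidirectProduct.mul_left]
        apply Subtype.ext
        rw [Subgroup.coe_mul, Subgroup.coe_mul, ← hx0, ← hy0, hφ, hφ]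
        simp only
        have hxy' : x * y = y * x := hxy
        have hc' : x0 * y0 = y0 * x0 := hc
        have hc'' : y0⁻¹ * x0⁻¹ = x0⁻¹ * y0⁻¹ := by
          rw [← mul_inv_rev, ← mul_inv_rev, hc']
        calc x * x0⁻¹ * (x0 * (y * y0⁻¹) * x0⁻¹) = x * y * (y0⁻¹ * x0⁻¹) := by group
          _ = y * x * (x0⁻¹ * y0⁻¹) := by rw [hxy', hc'']
          _ = y * y0⁻¹ * (y0 * (x * x0⁻¹) * y0⁻¹) := by group
      · simp only [SemidirectProduct.mul_right]
        rw [← QuotientGroup.mk_mul, ← QuotientGroup.mk_mul, hxy.eq]⟩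
  apply Nat.card_le_card_of_injective F
  rintro ⟨⟨x, y⟩, hxy⟩ ⟨⟨x', y'⟩, hxy'⟩ hF
  have hF' := congrArg Subtype.val hF
  simp only [F, Prod.mk.injEq] at hF'
  obtain ⟨hF1, hF2⟩ := hF'
  have ha : (QuotientGroup.mk x : X ⧸ V) = QuotientGroup.mk x' := congrArg SemidirectProduct.right hF1
  have hb : (QuotientGroup.mk y : X ⧸ V) = QuotientGroup.mk y' := congrArg SemidirectProduct.right hF2
  have hu := congrArg SemidirectProduct.left hF1
  have hw := congrArg SemidirectProduct.left hF2
  simp only at hu hw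
  obtain ⟨hc, hx0, hy0⟩ := hbase (QuotientGroup.mk x, QuotientGroup.mk y) ⟨x, y, hxy, rfl, rfl⟩
  rw [← ha, ← hb] at hu hw
  set x0 := (base (QuotientGroup.mk x, QuotientGroup.mk y)).1 with hx0def
  set y0 := (base (QuotientGroup.mk x, QuotientGroup.mk y)).2 with hy0def
  simp only at hx0 hy0
  have hmem : ∀ z z0 : X, (QuotientGroup.mk z0 : X ⧸ V) = QuotientGroup.mk z → z * z0⁻¹ ∈ V := by
    intro z z0 h
    rw [← QuotientGroup.eq_one_iff, QuotientGroup.mk_mul, QuotientGroup.mk_inv, h]
    simp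
  rw [htoV _ (hmem x x0 hx0), htoV _ (hmem x' x0 (hx0.trans ha))] at hu
  rw [htoV _ (hmem y y0 hy0), htoV _ (hmem y' y0 (hy0.trans hb))] at hw
  have hu' : x * x0⁻¹ = x' * x0⁻¹ := congrArg Subtype.val hu
  have hw' : y * y0⁻¹ = y' * y0⁻¹ := congrArg Subtype.val hw
  have e1 : x = x' := mul_right_cancel hu'
  have e2 : y = y' := mul_right_cancel hw'
  subst e1 e2
  rfl


end Cfsg.Agent.S4965
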