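import Mathlib
import Cfsg.Statements.S4967
import Cfsg.Agent.Helper3.SelfDualAb
-- import your own Cfsg.Agent.* helpers here

set_option autoImplicit false
open Cfsg

namespace Cfsg.Agent.S4967
open Cfsg

open Cfsg.Agent.Helper3.SelfDualAb

theorem part_one {F : Type*} [Field F] {H : Type*} [CommGroup H] [Finite H]
    {V : Type*} [AddCommGroup V] [Module F V]
    (ρ : Representation F H V) (hfaith : Function.Injective ρ)
    (h1 : Module.finrank F V = 1)
    (hB : ∃ B : LinearMap.BilinForm F V, B.Nondegenerate ∧
      ∀ h : H, ∀ x y : V, B (ρ h x) (ρ h y) = B x y) : Nat.card H ≤ 2 := by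
  obtain ⟨B, hnd, hinv⟩ := hB
  obtain ⟨v, hv0, hv⟩ := finrank_eq_one_iff'.1 h1
  have hBv : B v v ≠ 0 := by
    intro h0
    apply hv0
    apply hnd.1
    intro w
    obtain ⟨c, rfl⟩ := hv w
    rw [map_smul, h0, smul_zero]
  choose c hc using fun h : H => hv (ρ h v)
  have hc2 : ∀ h, c h = 1 ∨ c h = -1 := by
    intro h
    have := hinv h v v
    rw [← hc h, map_smul (B (c h • v)), map_smul B, LinearMap.smul_apply, smul_eq_mul,
      smul_eq_mul] at this
    have h2 : (c h - 1) * (c h + 1) * B v v = 0 := by linear_combination this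
    rcases mul_eq_zero.1 h2 with h3 | h3
    · rcases mul_eq_zero.1 h3 with h4 | h4
      · left; exact sub_eq_zero.1 h4
      · right; exact eq_neg_of_add_eq_zero_left h4
    · exact absurd h3 hBv
  have hcinj : Function.Injective c := by
    intro a b hab
    apply hfaith
    apply LinearMap.ext
    intro w
    obtain ⟨d, rfl⟩ := hv w
    rw [map_smul, map_smul, ← hc a, ← hc b, hab]
  by_contra hcon
  push Not at hcon
  have hfin : Fintype H := Fintype.ofFinite H
  rw [Nat.card_eq_fintype_card, Fintype.two_lt_card_iff] at hcon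
  obtain ⟨a, b, d, hab, had, hbd⟩ := hcon
  rcases hc2 a with ha | ha <;> rcases hc2 b with hb | hb <;> rcases hc2 d with hd | hd
  all_goals first
    | exact hab (hcinj (ha.trans hb.symm))
    | exact had (hcinj (ha.trans hd.symm))
    | exact hbd (hcinj (hb.trans hd.symm))

/-- Let F be a finite field with r elements and of characteristic p, H a finite abelian group of order prime to p, and V a faithful irreducible representation of H over F of dimension n (faithful: distinct elements act differently; irreducible: the only H-invariant subspaces are 0 and V). Call V self-dual when it carries a nondegenerate H-invariant bilinear form. If n = 1 and V is self-dual then H has order at most 2. If n ≥ 2 then V is self-dual if and only if n is even and the order of H divides r^(n/2) + 1. -/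
theorem result {F : Type*} [Field F] [Fintype F] (p : ℕ) [Fact p.Prime] [CharP F p] {H : Type*} [CommGroup H] [Finite H] (hcop : ¬ p ∣ Nat.card H) {V : Type*} [AddCommGroup V] [Module F V] [FiniteDimensional F V] (ρ : Representation F H V) (hfaith : Function.Injective ρ) (hirr : ∀ U : Submodule F V, (∀ h : H, ∀ u ∈ U, ρ h u ∈ U) → U = ⊥ ∨ U = ⊤) : (Module.finrank F V = 1 → (∃ B : LinearMap.BilinForm F V, B.Nondegenerate ∧ ∀ h : H, ∀ x y : V, B (ρ h x) (ρ h y) = B x y) → Nat.card H ≤ 2) ∧ (2 ≤ Module.finrank F V → ((∃ B : LinearMap.BilinForm F V, B.Nondegenerate ∧ ∀ h : H, ∀ x y : V, B (ρ h x) (ρ h y) = B x y) ↔ (Even (Module.finrank F V) ∧ Nat.card H ∣ Fintype.card F ^ (Module.finrank F V / 2) + 1))) := by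
  refine ⟨fun h1 hB => part_one ρ hfaith h1 hB, ?_⟩
  intro hn
  have hnt : Nontrivial V := by
    apply Module.nontrivial_of_finrank_pos (R := F)
    omega
  obtain ⟨m, hm, φ, hφ⟩ := exists_model ρ hirr
  have hm' : m.IsMaximal := hm
  have hφs : ∀ h x, φ.symm (chi m h * x) = ρ h (φ.symm x) := by
    intro h x
    apply φ.injective
    rw [LinearEquiv.apply_symm_apply, hφ, LinearEquiv.apply_symm_apply]
  have hfr : Module.finrank F (MonoidAlgebra F H ⧸ m) = Module.finrank F V := φ.finrank_eq.symm
  have hinj : Function.Injective (chi m) := by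
    intro a b hab
    apply hfaith
    apply LinearMap.ext
    intro v
    apply φ.injective
    rw [hφ, hφ, hab]
  constructor
  · rintro ⟨B, hnd, hinv⟩
    have := forward m hinj (LinearMap.BilinForm.congr φ B) (hnd.congr φ)
      (by
        intro h x y
        rw [LinearMap.BilinForm.congr_apply, LinearMap.BilinForm.congr_apply, hφs, hφs, hinv])
      (by rw [hfr]; exact hn)
    rw [hfr] at this
    exact this
  · rintro ⟨⟨i, hi⟩, hdvd⟩
    have hhalf : Module.finrank F V / 2 = i := by omega
    rw [hhalf] at hdvd
    have hpow : ∀ h : H, h ^ (Fintype.card F ^ i + 1) = 1 := by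
      intro h
      obtain ⟨k, hk⟩ := hdvd
      rw [hk, pow_mul, pow_card_eq_one', one_pow]
    obtain ⟨B', hnd', hinv'⟩ := backward m i hpow
    refine ⟨LinearMap.BilinForm.congr φ.symm B', hnd'.congr φ.symm, ?_⟩
    intro h x y
    rw [LinearMap.BilinForm.congr_apply, LinearMap.BilinForm.congr_apply,
      LinearEquiv.symm_symm, hφ, hφ, hinv']


end Cfsg.Agent.S4967
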