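import Cfsg.Statements.S4989
import Mathlib
import Cfsg.Agent.Helper6.GaloisChar
-- import your own Cfsg.Agent.* helpers here

set_option autoImplicit false
open Cfsg

namespace Cfsg.Agent.S4989

/-- Let H be a subgroup of the finite group G and χ an irreducible complex character of G. Then the inner product of the restriction of χ to H with itself, (1/#H)·Σ_{h ∈ H} |χ(h)|², is at most 1 + #(Z ∖ H)/#H, where Z is the set of zeros of χ in G. -/
theorem result {G : Type*} [Group G] [Finite G] (H : Subgroup G) (χ : Cfsg.IrrCharacter G) : (Nat.card ↥H : ℝ)⁻¹ * ∑ᶠ h : ↥H, ‖(χ : G → ℂ) h‖ ^ 2 ≤ 1 + (Set.ncard ({x : G | (χ : G → ℂ) x = 0} \ (H : Set G)) : ℝ) / (Nat.card ↥H : ℝ) := by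
  classical
  haveI := Fintype.ofFinite G
  obtain ⟨n, ρ, hirr, hρ⟩ := χ.2
  have hsum := Cfsg.Agent.Helper6.sum_norm_sq_irr χ.2
  rw [← hρ] at hsum ⊢
  set S : Finset G := Finset.univ.filter (fun g => g ∉ H) with hS
  set T : Finset G := Finset.univ.filter (fun g => g ∈ H) with hT
  have hclosed : ∀ g ∈ S, ∀ m : ℕ, m.Coprime (Nat.card G) → g ^ m ∈ S := by
    intro g hg m hm
    rw [hS, Finset.mem_filter] at hg ⊢
    exact ⟨Finset.mem_univ _, Cfsg.Agent.Helper6.pow_coprime_not_mem H g hg.2 m hm⟩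
  have hB := Cfsg.Agent.Helper6.burnside_amgm ρ S hclosed
  -- rewrite the finsum
  have hfin : ∑ᶠ h : ↥H, ‖ρ.character h‖ ^ 2 = ∑ g ∈ T, ‖ρ.character g‖ ^ 2 := by
    rw [finsum_eq_sum_of_fintype]
    symm
    exact Finset.sum_subtype T (fun x => by rw [hT, Finset.mem_filter]; simp)
      (fun g => ‖ρ.character g‖ ^ 2)
  -- the zero set
  set Z : Finset G := S.filter (fun g => ρ.character g = 0) with hZ
  have hncard : Set.ncard ({x : G | ρ.character x = 0} \ (H : Set G)) = Z.card := by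
    rw [← Set.ncard_coe_finset]
    congr 1
    ext x
    simp only [hZ, hS, Set.mem_sdiff, Set.mem_ofPred_eq, SetLike.mem_coe, Finset.coe_filter,
      Finset.mem_filter, Finset.mem_univ, true_and]
    tauto
  rw [hncard, hfin]
  -- cardinalities
  have hsplit : ∑ g : G, ‖ρ.character g‖ ^ 2 =
      ∑ g ∈ T, ‖ρ.character g‖ ^ 2 + ∑ g ∈ S, ‖ρ.character g‖ ^ 2 := by
    rw [hT, hS]
    exact (Finset.sum_filter_add_sum_filter_not Finset.univ (fun g => g ∈ H) _).symm
  have hcardsplit : (S.filter (fun g => ρ.character g ≠ 0)).card + Z.card = S.card := by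
    rw [hZ, add_comm]
    exact Finset.card_filter_add_card_filter_not (s := S) (fun g => ρ.character g = 0)
  have hST : T.card + S.card = Nat.card G := by
    rw [hT, hS, Finset.card_filter_add_card_filter_not, Finset.card_univ,
      Nat.card_eq_fintype_card]
  have hTcard : T.card = Nat.card ↥H := by
    rw [Nat.card_eq_fintype_card, hT]
    exact (Fintype.card_subtype (fun g => g ∈ H)).symm
  have hHpos : (0 : ℝ) < (Nat.card ↥H : ℝ) := by
    have : 0 < Nat.card ↥H := Nat.card_pos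
    exact_mod_cast this
  have h1 : ((S.filter (fun g => ρ.character g ≠ 0)).card : ℝ) + (Z.card : ℝ) = (S.card : ℝ) := by
    exact_mod_cast hcardsplit
  have h2 : (T.card : ℝ) + (S.card : ℝ) = (Nat.card G : ℝ) := by exact_mod_cast hST
  have h3 : (T.card : ℝ) = (Nat.card ↥H : ℝ) := by exact_mod_cast hTcard
  have hkey : ∑ g ∈ T, ‖ρ.character g‖ ^ 2 ≤ (Nat.card ↥H : ℝ) + (Z.card : ℝ) := by
    rw [hsplit] at hsum
    linarith
  rw [inv_mul_le_iff₀ hHpos]
  calc ∑ g ∈ T, ‖ρ.character g‖ ^ 2 ≤ (Nat.card ↥H : ℝ) + (Z.card : ℝ) := hkey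
    _ = (Nat.card ↥H : ℝ) * (1 + (Z.card : ℝ) / (Nat.card ↥H : ℝ)) := by
      field_simp

end Cfsg.Agent.S4989
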