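import Cfsg.Statements.S5001
import Mathlib
import Cfsg.Agent.Helper6.LinConstA
-- import your own Cfsg.Agent.* helpers here

set_option autoImplicit false
open Cfsg

namespace Cfsg.Agent.S5001

/-- Let p be a prime, G a finite group and B a p-block of G (relative to a maximal ideal M of the algebraic integers containing p) with defect group D. Let Z be a central p-subgroup of G contained in D and λ a linear character of Z (a homomorphism to the nonzero complex numbers). Say an irreducible character χ of G lies over λ when χ(z) = χ(1)λ(z) for all z ∈ Z. If some irreducible character in B lying over λ has height zero, then λ extends to a linear character of D. -/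
theorem result {G : Type*} [Group G] [Finite G] (p : ℕ) [Fact p.Prime] (M : Ideal Cfsg.AlgInt) (hM : Cfsg.IsPModular p M) (B : Set (Cfsg.IrrCharacter G)) (hB : Cfsg.IsPBlock M B) (D : Subgroup G) (hD : Cfsg.IsDefectGroup p M B D) (Z : Subgroup G) (hZc : Z ≤ Subgroup.center G) (hZp : IsPGroup p ↥Z) (hZD : Z ≤ D) (lam : ↥Z →* ℂˣ) (χ : Cfsg.IrrCharacter G) (hχ : χ ∈ B) (hover : (∀ z : ↥Z, (χ : G → ℂ) z = (χ : G → ℂ) 1 * (lam z : ℂ))) (h0 : Cfsg.blockHeight p B (χ : G → ℂ) = 0) : (∃ μ : ↥D →* ℂˣ, ∀ z : ↥Z, μ ⟨(z : G), hZD z.2⟩ = lam z) := by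
  classical
  obtain ⟨hpp, hMmax, hpM⟩ := hM
  obtain ⟨g, hcls, P, hDP⟩ := hD
  have hDcent : ∀ d ∈ D, d * g = g * d := by
    intro d hd
    rw [hDP] at hd
    obtain ⟨c, -, rfl⟩ := Subgroup.mem_map.mp hd
    exact Subgroup.mem_centralizer_singleton_iff.mp c.2
  have hDp : IsPGroup p D := by
    rw [hDP]
    exact P.isPGroup'.map _
  have hval : ¬ Cfsg.MemLocalIdeal M ((χ : G → ℂ) g) := by
    have := Helper6.not_memLocalIdeal_apply_mul hMmax p hpM B hB g hcls 1 (by simp)
      ⟨0, by simp⟩ χ hχ h0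
    rwa [one_mul] at this
  obtain ⟨φ, hφ, hφ1, hΔ⟩ := Helper6.exists_linear_constituent_of_value hMmax p hpM
    (Helper6.IsIrrCharacter.isCharacter χ.2) D hDp g hDcent hval
  obtain ⟨μ, hμ⟩ := Helper6.exists_hom_of_irr_degree_one hφ hφ1
  refine ⟨μ, ?_⟩
  intro z
  have hw : ‖((lam z : ℂˣ) : ℂ)‖ = 1 := by
    have hfin : (lam z) ^ (Nat.card Z) = 1 := by
      rw [← map_pow, pow_card_eq_one', map_one]
    have h2 : ((lam z : ℂˣ) : ℂ) ^ (Nat.card Z) = 1 := by
      rw [← Units.val_pow_eq_pow_val, hfin, Units.val_one]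
    exact Helper6.norm_eq_one_of_pow_eq_one Nat.card_pos h2
  have key := Helper6.constituent_scalar_value (Helper6.IsIrrCharacter.isCharacter hφ) hΔ
    (⟨(z : G), hZD z.2⟩ : D) ((lam z : ℂˣ) : ℂ) hw (by
      show φ _ + ((χ : G → ℂ) (z : G) - φ _) = (φ 1 + ((χ : G → ℂ) ((1 : D) : G) - φ 1)) * _
      rw [add_sub_cancel, add_sub_cancel, Subgroup.coe_one]
      exact hover z)
  rw [hφ1, one_mul, hμ] at key
  exact Units.ext key

end Cfsg.Agent.S5001
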