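import Cfsg.Statements.S5010
import Cfsg.Agent.SQF.Main
import Cfsg.Agent.SQF.Nilp
import Cfsg.Agent.Helper1.Fitting

set_option autoImplicit false
open Cfsg

namespace Cfsg.Agent.S5010

/-- Let `G` be a finite solvable group. If every irreducible complex character degree of `G` is squarefree (1 included), then the derived length of `G` is at most 4. -/
theorem result {G : Type*} [Group G] [Finite G] [Group.IsSolvable G]
    (h : ∀ χ : Cfsg.IrrCharacter G, Squarefree (Cfsg.charDegree (χ : G → ℂ))) : derivedSeries G 4 = ⊥ := by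
  have h2 : derivedSeries G 2 ≤ Cfsg.fittingSubgroup G := Cfsg.Agent.SQF.sqf_derived_le_fitting h
  haveI : Group.IsNilpotent ↥(Cfsg.fittingSubgroup G) :=
    Cfsg.Agent.Helper1.fittingSubgroup_isNilpotent
  have hF2 : derivedSeries ↥(Cfsg.fittingSubgroup G) 2 = ⊥ :=
    Cfsg.Agent.SQF.sqf_nilpotent_metabelian
      (fun θ => Cfsg.Agent.SQF.sqf_degrees_normal h (Cfsg.fittingSubgroup G) θ)
  have key : ∀ k : ℕ, derivedSeries G (2 + k) ≤
      (derivedSeries ↥(Cfsg.fittingSubgroup G) k).map (Cfsg.fittingSubgroup G).subtype := by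
    intro k
    induction k with
    | zero =>
      rw [derivedSeries_zero, ← MonoidHom.range_eq_map, Subgroup.range_subtype]
      exact h2
    | succ k ih =>
      rw [← add_assoc, derivedSeries_succ, derivedSeries_succ, Subgroup.map_commutator]
      exact Subgroup.commutator_mono ih ih
  have h4 := key 2
  rw [hF2, Subgroup.map_bot] at h4
  exact le_bot_iff.mp h4

end Cfsg.Agent.S5010
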