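import Cfsg.Statements.S5011
import Mathlib
-- import your own Cfsg.Agent.* helpers here

set_option autoImplicit false
open Cfsg

namespace Cfsg.Agent.S5011

/-- Let G be a finite non-abelian simple group and ρ an irreducible complex representation of G on a space of dimension greater than one (irreducible in the sense that the only subspaces invariant under every ρ(x) are 0 and the whole space). Then for every non-identity element g of G, the centralizer of g does not act irreducibly: there is a non-zero proper subspace invariant under ρ(c) for every c commuting with g. -/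
theorem result {G : Type*} [Group G] [Finite G] [IsSimpleGroup G]
    (hG : ¬ IsMulCommutative G) {V : Type*} [AddCommGroup V] [Module ℂ V] [FiniteDimensional ℂ V]
    (ρ : Representation ℂ G V)
    (hirr : ∀ W : Submodule ℂ V, (∀ x : G, ∀ v ∈ W, ρ x v ∈ W) → W = ⊥ ∨ W = ⊤)
    (hdim : 1 < Module.finrank ℂ V) (g : G) (hg : g ≠ 1) :
    ∃ W : Submodule ℂ V, W ≠ ⊥ ∧ W ≠ ⊤ ∧ ∀ c ∈ Subgroup.centralizer ({g} : Set G), ∀ v ∈ W, ρ c v ∈ W := by
  classical
  haveI : Nontrivial V := Module.finrank_pos_iff.mp (lt_trans Nat.zero_lt_one hdim)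
  obtain ⟨μ, hμ⟩ := Module.End.exists_eigenvalue (ρ g)
  refine ⟨Module.End.eigenspace (ρ g) μ, ?_, ?_, ?_⟩
  · exact hμ
  · intro htop
    -- ρ g is the scalar μ
    have hscal : ∀ v, ρ g v = μ • v := by
      intro v
      have : v ∈ Module.End.eigenspace (ρ g) μ := by rw [htop]; trivial
      exact Module.End.mem_eigenspace_iff.mp this
    -- the subgroup of elements acting by scalars
    let Z : Subgroup G :=
      { carrier := {x | ∃ c : ℂ, ∀ v, ρ x v = c • v}
        one_mem' := ⟨1, fun v => by simp⟩
        mul_mem' := by
          rintro a b ⟨ca, ha⟩ ⟨cb, hb⟩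
          refine ⟨ca * cb, fun v => ?_⟩
          rw [map_mul, Module.End.mul_apply, hb, map_smul, ha, smul_smul, mul_comm]
        inv_mem' := by
          rintro a ⟨ca, ha⟩
          have hca : ca ≠ 0 := by
            intro h0
            obtain ⟨v, hv⟩ := exists_ne (0 : V)
            have h1 : ρ a⁻¹ (ρ a v) = v := by
              rw [← Module.End.mul_apply, ← map_mul]; simp
            rw [ha, h0, zero_smul, map_zero] at h1
            exact hv h1.symm
          refine ⟨ca⁻¹, fun v => ?_⟩
          have h1 : ρ a⁻¹ (ρ a v) = v := by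
            rw [← Module.End.mul_apply, ← map_mul]; simp
          rw [ha, map_smul] at h1
          calc ρ a⁻¹ v = ca⁻¹ • (ca • ρ a⁻¹ v) := by rw [smul_smul, inv_mul_cancel₀ hca, one_smul]
            _ = ca⁻¹ • v := by rw [h1] }
    have hZn : Z.Normal := by
      constructor
      rintro a ⟨ca, ha⟩ x
      refine ⟨ca, fun v => ?_⟩
      rw [map_mul, map_mul, Module.End.mul_apply, Module.End.mul_apply, ha, map_smul,
        ← Module.End.mul_apply, ← map_mul]
      simp
    have hgZ : g ∈ Z := ⟨μ, hscal⟩
    have hZtop : Z = ⊤ := by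
      rcases hZn.eq_bot_or_eq_top with h | h
      · exfalso; rw [h, Subgroup.mem_bot] at hgZ; exact hg hgZ
      · exact h
    -- every subspace is invariant
    obtain ⟨v, hv⟩ := exists_ne (0 : V)
    have hinv : ∀ x : G, ∀ w ∈ Submodule.span ℂ {v}, ρ x w ∈ Submodule.span ℂ {v} := by
      intro x w hw
      have hx : x ∈ Z := by rw [hZtop]; trivial
      obtain ⟨c, hc⟩ := hx
      rw [hc]
      exact Submodule.smul_mem _ _ hw
    rcases hirr _ hinv with h | h
    · rw [Submodule.span_singleton_eq_bot] at h; exact hv h
    · have h1 : Module.finrank ℂ (Submodule.span ℂ {v}) = 1 := finrank_span_singleton hv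
      rw [h, finrank_top] at h1
      omega
  · intro c hc v hv
    rw [Module.End.mem_eigenspace_iff] at hv ⊢
    have hcomm : c * g = g * c := by
      rw [Subgroup.mem_centralizer_iff] at hc
      exact (hc g rfl).symm
    have : ρ g (ρ c v) = ρ c (ρ g v) := by
      rw [← Module.End.mul_apply, ← Module.End.mul_apply, ← map_mul, ← map_mul, hcomm]
    rw [this, hv, map_smul]

end Cfsg.Agent.S5011
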