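import Mathlib
import Cfsg.Statements.S5015
import Cfsg.Agent.Helper7.RankOneOmega

set_option autoImplicit false
open Cfsg

namespace Cfsg.Agent.S5015

open Cfsg.Agent.Helper7.R1

variable {Y Ω : Type*} [Group Y] [MulAction Y Ω]

/-- `A` is a subgroup of the stabiliser of `α`, normalised by it, regular on the other points. -/
structure RegDatum (α : Ω) (A : Subgroup Y) : Prop where
  le_stab : A ≤ MulAction.stabilizer Y α
  normal : ∀ y ∈ MulAction.stabilizer Y α, conjBy A y = A
  reg : ∀ β γ : Ω, β ≠ α → γ ≠ α → ∃! a : Y, a ∈ A ∧ a • β = γ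

theorem RegDatum.conj {α : Ω} {A : Subgroup Y} (h : RegDatum α A) (y : Y) :
    RegDatum (y • α) (conjBy A y) := by
  refine ⟨?_, ?_, ?_⟩
  · intro x hx
    rw [mem_conjBy] at hx
    have := h.le_stab hx
    rw [MulAction.mem_stabilizer_iff] at this ⊢
    have e : x • y • α = y • ((y⁻¹ * x * y) • α) := by
      simp only [smul_smul]; congr 1; group
    rw [e, this]
  · intro z hz
    rw [MulAction.mem_stabilizer_iff] at hz
    have hz' : y⁻¹ * z * y ∈ MulAction.stabilizer Y α := by
      rw [MulAction.mem_stabilizer_iff]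
      have e : (y⁻¹ * z * y) • α = y⁻¹ • (z • y • α) := by
        simp only [smul_smul]; congr 1; group
      rw [e, hz, smul_smul, inv_mul_cancel, one_smul]
    have := h.normal _ hz'
    rw [conjBy_conjBy]
    have e : z * y = y * (y⁻¹ * z * y) := by group
    rw [e, conjBy_mul, this]
  · intro β γ hβ hγ
    have hβ' : y⁻¹ • β ≠ α := by
      intro e; apply hβ; rw [← e, smul_smul, mul_inv_cancel, one_smul]
    have hγ' : y⁻¹ • γ ≠ α := by
      intro e; apply hγ; rw [← e, smul_smul, mul_inv_cancel, one_smul]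
    obtain ⟨a, ⟨ha, e⟩, huniq⟩ := h.reg _ _ hβ' hγ'
    refine ⟨y * a * y⁻¹, ⟨?_, ?_⟩, ?_⟩
    · rw [mem_conjBy]
      have : y⁻¹ * (y * a * y⁻¹) * y = a := by group
      rwa [this]
    · have e2 : (y * a * y⁻¹) • β = y • (a • y⁻¹ • β) := by
        simp only [smul_smul]; congr 1; group
      rw [e2, e, smul_smul, mul_inv_cancel, one_smul]
    · rintro x ⟨hx, ex⟩
      rw [mem_conjBy] at hx
      have := huniq (y⁻¹ * x * y) ⟨hx, ?_⟩
      · rw [← this]; group
      · have e2 : (y⁻¹ * x * y) • y⁻¹ • β = y⁻¹ • (x • β) := by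
          simp only [smul_smul]; congr 1; group
        rw [e2, ex]

theorem RegDatum.conj_eq_of_smul_eq {α : Ω} {A : Subgroup Y} (h : RegDatum α A) {g g' : Y}
    (e : g • α = g' • α) : conjBy A g = conjBy A g' := by
  have hs : g⁻¹ * g' ∈ MulAction.stabilizer Y α := by
    rw [MulAction.mem_stabilizer_iff, mul_smul, ← e, smul_smul, inv_mul_cancel, one_smul]
  have := h.normal _ hs
  have e2 : g' = g * (g⁻¹ * g') := by group
  rw [e2, conjBy_mul, this]

theorem RegDatum.eq_one_of_fix {α : Ω} {A : Subgroup Y} (h : RegDatum α A) {a : Y} (ha : a ∈ A)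
    {β : Ω} (hβ : β ≠ α) (e : a • β = β) : a = 1 := by
  obtain ⟨a', _, huniq⟩ := h.reg β β hβ hβ
  rw [huniq a ⟨ha, e⟩, huniq 1 ⟨A.one_mem, one_smul _ _⟩]

theorem RegDatum.smul_self {α : Ω} {A : Subgroup Y} (h : RegDatum α A) {a : Y} (ha : a ∈ A) :
    a • α = α := by
  have := h.le_stab ha
  rwa [MulAction.mem_stabilizer_iff] at this

theorem rankOneCondition {α β : Ω} {A B : Subgroup Y} (hA : RegDatum α A) (hB : RegDatum β B)
    (g : Y) (hg : g • α = β) (hAB : conjBy A g = B) (hne : β ≠ α) : RankOneCondition A B := by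
  intro a ha ha1
  have h1 : a⁻¹ • β ≠ β := by
    intro e
    have := hA.eq_one_of_fix (A.inv_mem ha) hne e
    exact ha1 (by simpa using this)
  obtain ⟨b', ⟨hb', eb'⟩, _⟩ := hB.reg α (a⁻¹ • β) hne.symm h1
  refine ⟨b'⁻¹, B.inv_mem hb', ?_, ?_⟩
  · intro e
    have hb1 : b' = 1 := by simpa using e
    rw [hb1, one_smul] at eb'
    apply hne
    have := congrArg (a • ·) eb'
    simp only [smul_smul, mul_inv_cancel, one_smul] at this
    rw [← this, hA.smul_self ha]
  · rw [inv_inv, ← hAB, conjBy_conjBy]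
    apply hA.conj_eq_of_smul_eq
    rw [eb', mul_smul, hg]

theorem exists_third (hΩ : 3 ≤ ENat.card Ω) (α β : Ω) : ∃ δ : Ω, δ ≠ α ∧ δ ≠ β := by
  by_contra hcon
  push Not at hcon
  have hsub : (Set.univ : Set Ω) ⊆ {α, β} := by
    intro δ _
    by_cases h : δ = α
    · left; exact h
    · right; exact hcon δ h
  have h1 := Set.encard_le_encard hsub
  rw [Set.encard_univ] at h1
  have h2 : ({α, β} : Set Ω).encard ≤ 2 := by
    have := Set.encard_insert_le ({β} : Set Ω) α
    rw [Set.encard_singleton] at this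
    exact this.trans (by norm_num)
  have : (3 : ℕ∞) ≤ 2 := hΩ.trans (h1.trans h2)
  exact absurd this (by decide)

/-- Let a group Y act doubly transitively on a set Ω with at least three points, and suppose that the stabilizer of a point α contains a nilpotent subgroup A, normalized by that stabilizer, which acts regularly on the points other than α. Then for any y in Y moving α, the subgroups A and y A y⁻¹ are the unipotent subgroups of a rank one group, and the normal closure of A in Y (the subgroup generated by all conjugates of A) is generated by A and y A y⁻¹ alone. -/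
theorem result {Y Ω : Type*} [Group Y] [MulAction Y Ω]
    (h2 : MulAction.IsMultiplyPretransitive Y Ω 2) (hΩ : 3 ≤ ENat.card Ω) (α : Ω) (A : Subgroup Y)
    (hA : A ≤ MulAction.stabilizer Y α) (hAn : ∀ y ∈ MulAction.stabilizer Y α, Cfsg.conjBy A y = A)
    (hnil : Group.IsNilpotent A) (hreg : ∀ β γ : Ω, β ≠ α → γ ≠ α → ∃! a : Y, a ∈ A ∧ a • β = γ)
    (y : Y) (hy : y ∉ MulAction.stabilizer Y α) :
    Cfsg.IsRankOnePair A (Cfsg.conjBy A y) ∧ Subgroup.normalClosure (A : Set Y) = A ⊔ Cfsg.conjBy A y := by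
  have dA : RegDatum α A := ⟨hA, hAn, hreg⟩
  have dB : RegDatum (y • α) (conjBy A y) := dA.conj y
  have hne : y • α ≠ α := by
    intro e; exact hy (by rwa [MulAction.mem_stabilizer_iff])
  obtain ⟨δ, hδα, hδβ⟩ := exists_third hΩ α (y • α)
  obtain ⟨b₀, ⟨hb₀, eb₀⟩, _⟩ := dB.reg α δ hne.symm hδβ
  have hAB : A ≠ conjBy A y := by
    intro e
    rw [← e] at hb₀
    rw [dA.smul_self hb₀] at eb₀
    exact hδα eb₀.symm
  refine ⟨⟨hAB, hnil, ?_, ?_, ?_⟩, ?_⟩
  · exact Group.nilpotent_of_mulEquiv
      (A.equivMapOfInjective (MulAut.conj y).toMonoidHom (MulAut.conj y).injective)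
  · exact rankOneCondition dA dB y rfl rfl hne
  · refine rankOneCondition dB dA y⁻¹ ?_ ?_ hne.symm
    · rw [smul_smul, inv_mul_cancel, one_smul]
    · rw [conjBy_conjBy, inv_mul_cancel, conjBy_one]
  · apply le_antisymm
    · -- every conjugate of `A` lies in `A ⊔ conjBy A y`
      have htrans : ∀ γ : Ω, ∃ x ∈ A ⊔ conjBy A y, x • α = γ := by
        intro γ
        by_cases hγ : γ = α
        · exact ⟨1, Subgroup.one_mem _, by rw [one_smul, hγ]⟩
        · obtain ⟨a, ⟨ha, ea⟩, _⟩ := dA.reg δ γ hδα hγ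
          refine ⟨a * b₀, Subgroup.mul_mem _ (Subgroup.mem_sup_left ha)
            (Subgroup.mem_sup_right hb₀), ?_⟩
          rw [mul_smul, eb₀, ea]
      have hconj : ∀ g : Y, conjBy A g ≤ A ⊔ conjBy A y := by
        intro g
        obtain ⟨x, hx, ex⟩ := htrans (g • α)
        rw [dA.conj_eq_of_smul_eq ex.symm]
        exact conjBy_le_of_le le_sup_left hx
      rw [Subgroup.normalClosure, Subgroup.closure_le]
      intro z hz
      rw [Group.mem_conjugatesOfSet_iff] at hz
      obtain ⟨a, ha, hconj'⟩ := hz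
      rw [isConj_iff] at hconj'
      obtain ⟨c, rfl⟩ := hconj'
      apply hconj c
      rw [mem_conjBy]
      have : c⁻¹ * (c * a * c⁻¹) * c = a := by group
      rw [this]; exact ha
    · apply sup_le Subgroup.le_normalClosure
      intro x hx
      rw [mem_conjBy] at hx
      have h1 : y⁻¹ * x * y ∈ Subgroup.normalClosure (A : Set Y) := Subgroup.le_normalClosure hx
      have := (Subgroup.normalClosure_normal (s := (A : Set Y))).conj_mem _ h1 y
      have e : y * (y⁻¹ * x * y) * y⁻¹ = x := by group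
      rwa [e] at this

end Cfsg.Agent.S5015
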