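import Mathlib
import Cfsg.Statements.S5023
import Cfsg.Agent.Helper8.RankOneExtra

set_option autoImplicit false
open Cfsg

namespace Cfsg.Agent.S5023

open Cfsg.Agent.Helper7.R1

/-- Let X be a rank one group with unipotent subgroups A and B that acts faithfully on an abelian group V (written additively) with A acting quadratically: a' • (a • v − v) = a • v − v for all a, a' in A and v in V. Then A is either torsion-free or an elementary abelian p-group for some prime p. -/
theorem result {X : Type*} [Group X] {A B : Subgroup X} (h : Cfsg.IsRankOneGroup X A B)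
    {V : Type*} [AddCommGroup V] [DistribMulAction X V] (hf : ∀ x : X, (∀ v : V, x • v = v) → x = 1)
    (hq : ∀ a ∈ A, ∀ a' ∈ A, ∀ v : V, a' • (a • v - v) = a • v - v) :
    (∀ a ∈ A, a ≠ 1 → ¬ IsOfFinOrder a) ∨ ∃ p : ℕ, p.Prime ∧ Cfsg.IsElementaryAbelian p A := by
  have hpair : IsRankOnePair A B := h.2
  -- equality of elements from equality of actions
  have hext : ∀ x y : X, (∀ v : V, x • v = y • v) → x = y := by
    intro x y hxy
    have h1 : x⁻¹ * y = 1 := hf _ (fun v => by rw [mul_smul, ← hxy v, inv_smul_smul])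
    rw [inv_mul_eq_one] at h1
    exact h1
  -- powers of elements of `A`
  have hpow : ∀ a ∈ A, ∀ (k : ℕ) (v : V), a ^ k • v = v + k • (a • v - v) := by
    intro a ha k
    induction k with
    | zero => intro v; simp
    | succ k ih =>
      intro v
      have h1 : a ^ k • (a • v - v) = a • v - v := hq a ha (a ^ k) (A.pow_mem ha k) v
      have h2 : a ^ (k + 1) • v = a ^ k • (a • v - v) + a ^ k • v := by
        rw [pow_succ, mul_smul, ← smul_add, sub_add_cancel]
      rw [h2, h1, ih v, succ_nsmul]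
      abel
  -- `A` is commutative
  have hcomm : IsMulCommutative A := by
    constructor; constructor
    rintro ⟨a, ha⟩ ⟨a', ha'⟩
    apply Subtype.ext
    show a * a' = a' * a
    apply hext
    intro v
    have h1 : a • (a' • v) = (a' • v - v) + a • v := by
      rw [← hq a' ha' a ha v, ← smul_add, sub_add_cancel]
    have h2 : a' • (a • v) = (a • v - v) + a' • v := by
      rw [← hq a ha a' ha' v, ← smul_add, sub_add_cancel]
    rw [mul_smul, mul_smul, h1, h2]
    abel
  by_cases htf : ∀ a ∈ A, a ≠ 1 → ¬ IsOfFinOrder a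
  · exact Or.inl htf
  right
  push Not at htf
  obtain ⟨a₀, ha₀, ha₀1, hfin⟩ := htf
  have hn0 : orderOf a₀ ≠ 0 := (orderOf_pos_iff.2 hfin).ne'
  have hn1 : orderOf a₀ ≠ 1 := fun e => ha₀1 (orderOf_eq_one_iff.1 e)
  obtain ⟨p, hp, hpn⟩ := Nat.exists_prime_and_dvd hn1
  refine ⟨p, hp, hcomm, ?_⟩
  -- an element of order `p`
  obtain ⟨a, ha, hap, ha1⟩ : ∃ a ∈ A, a ^ p = 1 ∧ a ≠ 1 := by
    refine ⟨a₀ ^ (orderOf a₀ / p), A.pow_mem ha₀ _, ?_, ?_⟩
    · have e : orderOf (a₀ ^ (orderOf a₀ / p)) = p := orderOf_pow_orderOf_div hn0 hpn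
      have := pow_orderOf_eq_one (a₀ ^ (orderOf a₀ / p))
      rwa [e] at this
    · intro e
      have e2 : orderOf (a₀ ^ (orderOf a₀ / p)) = p := orderOf_pow_orderOf_div hn0 hpn
      rw [e, orderOf_one] at e2
      have := e2
      exact hp.one_lt.ne this
  have fa1 : ∀ v : V, p • (a • v - v) = 0 := by
    intro v
    have := hpow a ha p v
    rw [hap, one_smul] at this
    exact (left_eq_add.1 this)
  have fa2 : ∀ v : V, a • (p • v) = p • v := by
    intro v
    have h1 : p • (a • v) = p • (a • v - v) + p • v := by rw [← nsmul_add, sub_add_cancel]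
    rw [smul_comm, h1, fa1, zero_add]
  -- a conjugate of `a` in `B`
  obtain ⟨b', hb', hb'1, fb1, fb2⟩ : ∃ b' ∈ B, b' ≠ 1 ∧ (∀ v : V, p • (b' • v - v) = 0) ∧
      (∀ v : V, b' • (p • v) = p • v) := by
    obtain ⟨g, hg⟩ := Cfsg.Agent.Helper8.RootSub.exists_conjBy_of_isRankOnePair hpair
    have hb'smul : ∀ v : V, (g * a * g⁻¹) • v = g • (a • (g⁻¹ • v)) := by
      intro v; rw [mul_smul, mul_smul]
    refine ⟨g * a * g⁻¹, ?_, ?_, ?_, ?_⟩
    · rw [hg, mem_conjBy]
      have : g⁻¹ * (g * a * g⁻¹) * g = a := by group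
      rw [this]; exact ha
    · intro e
      apply ha1
      have := congrArg (fun t => g⁻¹ * t * g) e
      simpa [mul_assoc] using this
    · intro v
      have h1 : (g * a * g⁻¹) • v - v = g • (a • (g⁻¹ • v) - g⁻¹ • v) := by
        rw [hb'smul, smul_sub, smul_inv_smul]
      rw [h1, ← smul_comm, fa1, smul_zero]
    · intro v
      rw [hb'smul, smul_comm g⁻¹ p v, fa2, ← smul_comm g⁻¹ p v, smul_inv_smul]
  intro a₁ ha₁
  by_contra hc1
  have fc1 : ∀ v : V, a₁ ^ p • v = v + p • (a₁ • v - v) := hpow a₁ ha₁ p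
  have fc2 : ∀ v : V, p • v = 0 → a₁ ^ p • v = v := by
    intro v hv
    rw [fc1, nsmul_sub, ← smul_comm, hv, smul_zero, sub_zero, add_zero]
  have hcb : a₁ ^ p * b' = b' * a₁ ^ p := by
    apply hext
    intro v
    have h1 : b' • v = v + (b' • v - v) := by abel
    rw [mul_smul, mul_smul]
    conv_lhs => rw [h1, smul_add, fc2 _ (fb1 v), fc1 v]
    conv_rhs => rw [fc1 v, smul_add, fb2]
    abel
  exact Cfsg.Agent.Helper8.RankOneExtra.not_commute hpair (A.pow_mem ha₁ p) hc1 hb' hb'1 hcb

end Cfsg.Agent.S5023
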