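import Mathlib
import Cfsg.Statements.S5024
import Cfsg.Agent.Helper7.RootSubgroupBasic

set_option autoImplicit false
open Cfsg

namespace Cfsg.Agent.S5024

open Cfsg.Agent.Helper7.R1 Cfsg.Agent.Helper7.Root

/-- If `A ∈ S` lies in the rank one group `⟨C, D⟩` and has a rank one partner `B` inside it, then
`A` is a unipotent subgroup of `⟨C, D⟩`. -/
theorem mem_unipotent_of_le {G : Type*} [Group G] {S : Set (Subgroup G)}
    (hS : Cfsg.IsRootSubgroupSet S) {A B C D : Subgroup G} (hA : A ∈ S) (hC : C ∈ S)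
    (hAB : IsRankOnePair A B) (hCD : IsRankOnePair C D) (hle : A ⊔ B ≤ C ⊔ D) :
    A ∈ unipotentSubgroups C D := by
  by_contra hnot
  have hAle : A ≤ C ⊔ D := le_sup_left.trans hle
  have hfix : ∀ a ∈ A, ∀ E ∈ unipotentSubgroups C D, conjBy E a = E := by
    intro a ha E hE
    by_contra hmove
    have hES : E ∈ S := by
      obtain ⟨x, _, rfl⟩ := hE
      exact hS.conj_mem C hC x
    have hEle : E ≤ C ⊔ D := unipotent_le hE
    rcases hS.pair A hA E hES with h0 | hr | hcase
    · exact hmove (conjBy_of_comm (fun e he => comm_of_commutator_eq_bot h0 ha he))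
    · have ha1 : a ≠ 1 := by
        rintro rfl
        exact hmove (conjBy_one E)
      obtain ⟨e, he, _, e1⟩ := hr.cond_left a ha ha1
      apply hnot
      have : A = conjBy E (e * a⁻¹) := by
        rw [conjBy_mul, ← e1, conjBy_conjBy, mul_inv_cancel, conjBy_one]
      rw [this]
      exact conjBy_mem_unipotent hE
        (Subgroup.mul_mem _ (hEle he) (Subgroup.inv_mem _ (hAle ha)))
    · have hcomm := commutator_case_comm (hS.commutative E hES) hcase ha
      have hE' : conjBy E a ∈ unipotentSubgroups C D := conjBy_mem_unipotent hE (hAle ha)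
      obtain ⟨hp, _⟩ := pair_of_unipotent hCD hE hE' (Ne.symm hmove)
      obtain ⟨e, he, he1⟩ := exists_nonid hp
      apply he1
      apply eq_one_of_conjBy_right hp he
      exact conjBy_of_comm (fun x hx => (hcomm x hx e he).symm)
  obtain ⟨a, ha, ha1⟩ := exists_nonid hAB
  apply ha1
  apply eq_one_of_conjBy_right hAB ha
  apply conjBy_of_comm
  intro b hb
  exact comm_of_fixes_all hCD (hfix a ha) b (hle (Subgroup.mem_sup_right hb))

/-- Let S be a set of abstract root subgroups of G, A and C members of S, B a rank one partner of A in S and D a rank one partner of C in S. If the rank one group ⟨A, B⟩ is contained in ⟨C, D⟩ then the two coincide, and C and D are conjugates of A inside ⟨A, B⟩. -/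
theorem result {G : Type*} [Group G] {S : Set (Subgroup G)} (hS : Cfsg.IsRootSubgroupSet S)
    {A B C D : Subgroup G} (hA : A ∈ S) (hC : C ∈ S) (hB : B ∈ Cfsg.rankOnePartners S A) (hD : D ∈ Cfsg.rankOnePartners S C)
    (hle : A ⊔ B ≤ C ⊔ D) : A ⊔ B = C ⊔ D ∧ C ∈ Cfsg.unipotentSubgroups A B ∧ D ∈ Cfsg.unipotentSubgroups A B := by
  obtain ⟨hBS, hAB⟩ := hB
  obtain ⟨hDS, hCD⟩ := hD
  have h1 : A ∈ unipotentSubgroups C D := mem_unipotent_of_le hS hA hC hAB hCD hle
  have h2 : B ∈ unipotentSubgroups C D :=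
    mem_unipotent_of_le hS hBS hC (RankOnePair_symm hAB) hCD (by rwa [sup_comm])
  have hsup := (pair_of_unipotent hCD h1 h2 hAB.ne).2
  have hΩ := unipotent_eq_of_mem hCD h1 h2 hAB.ne
  refine ⟨hsup, ?_, ?_⟩
  · rw [hΩ]; exact left_mem_unipotent
  · rw [hΩ]; exact right_mem_unipotent hCD

end Cfsg.Agent.S5024
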