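import Mathlib
import Cfsg.Statements.S5026
import Cfsg.Agent.Helper7.RootSubgroupBasic

set_option autoImplicit false
open Cfsg

namespace Cfsg.Agent.S5026

open Cfsg.Agent.Helper7.R1 Cfsg.Agent.Helper7.Root

theorem comm_left {G : Type*} [Group G] {S : Set (Subgroup G)}
    (hS : Cfsg.IsRootSubgroupSet S) (hdeg : Cfsg.IsDegenerateRootSet S)
    {A B E : Subgroup G} (hA : A ∈ S) (hB : B ∈ S) (hE : E ∈ S)
    {a b : G} (ha : a ∈ A) (ha1 : a ≠ 1) (hb : b ∈ B) (hb1 : b ≠ 1)
    (hab : a * b = b * a) (hab1 : a * b ≠ 1)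
    (hcomm : ∀ e ∈ E, (a * b) * e = e * (a * b)) : ∀ e ∈ E, a * e = e * a := by
  rcases hS.pair E hE A hA with h0 | hEA | hcase
  · intro e he
    exact (comm_of_commutator_eq_bot h0 he ha).symm
  swap
  · exact absurd hcase (hdeg E hE A hA)
  exfalso
  have hAE := RankOnePair_symm hEA
  have hfix : conjBy E (b * a) = E := by
    rw [← hab]; exact conjBy_of_comm hcomm
  have hEab : conjBy E a = conjBy E b⁻¹ := by
    rw [conjBy_mul] at hfix
    rw [conjBy_eq_iff] at hfix
    exact hfix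
  rcases hS.pair E hE B hB with h0 | hEB | hcase
  · apply ha1
    apply eq_one_of_conjBy_right hAE ha
    rw [hEab]
    apply conjBy_of_comm
    intro e he
    have := comm_of_commutator_eq_bot h0 he hb
    -- b⁻¹ * e = e * b⁻¹
    have h2 := congrArg (fun t => b⁻¹ * t * b⁻¹) this
    beta_reduce at h2
    have e1 : b⁻¹ * (e * b) * b⁻¹ = b⁻¹ * e := by group
    have e2 : b⁻¹ * (b * e) * b⁻¹ = e * b⁻¹ := by group
    rw [e1, e2] at h2
    exact h2
  swap
  · exact absurd hcase (hdeg E hE B hB)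
  have hBE := RankOnePair_symm hEB
  obtain ⟨e, he, _, e1⟩ := conjBy_right_of_mem_left hAE ha ha1
  have hb1' : b⁻¹ ≠ 1 := by simpa using hb1
  obtain ⟨e', he', _, e2⟩ := conjBy_right_of_mem_left hBE (B.inv_mem hb) hb1'
  have hBconj : B = conjBy A (e'⁻¹ * e) := by
    rw [conjBy_mul, ← e1, hEab, e2, conjBy_conjBy, inv_mul_cancel, conjBy_one]
  have hBΩ : B ∈ unipotentSubgroups A E :=
    ⟨e'⁻¹ * e, Subgroup.mem_sup_right (E.mul_mem (E.inv_mem he') he), hBconj⟩
  by_cases hBA : B = A
  · apply hab1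
    apply eq_one_of_conjBy_right hAE (A.mul_mem ha (hBA ▸ hb))
    exact conjBy_of_comm hcomm
  · obtain ⟨hpAB, hsup⟩ := pair_of_unipotent hAE left_mem_unipotent hBΩ (Ne.symm hBA)
    have hB'Ω : conjBy B a ∈ unipotentSubgroups A E :=
      conjBy_mem_unipotent hBΩ (Subgroup.mem_sup_left ha)
    have hne : B ≠ conjBy B a := by
      intro e3
      exact ha1 (eq_one_of_conjBy_right hpAB ha e3.symm)
    obtain ⟨hp2, _⟩ := pair_of_unipotent hAE hBΩ hB'Ω hne
    have hbmem : b ∈ B ⊓ conjBy B a := by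
      refine ⟨hb, ?_⟩
      change b ∈ conjBy B a
      rw [mem_conjBy]
      have : a⁻¹ * b * a = b := by
        have : a⁻¹ * b * a = a⁻¹ * (b * a) := by group
        rw [this, ← hab]; group
      rwa [this]
    rw [inf_eq_bot hp2, Subgroup.mem_bot] at hbmem
    exact hb1 hbmem

/-- Let S be a degenerate set of abstract root subgroups of G (a set of abstract transvection groups) and let a, b be commuting non-identity elements of members of S with a b ≠ 1. Then the members of S centralizing a b are exactly those centralizing both a and b. -/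
theorem result {G : Type*} [Group G] {S : Set (Subgroup G)} (hS : Cfsg.IsRootSubgroupSet S) (hdeg : Cfsg.IsDegenerateRootSet S)
    {a b : G} (ha : a ∈ Cfsg.rootElements S) (hb : b ∈ Cfsg.rootElements S) (hab : a * b = b * a) (hab1 : a * b ≠ 1) :
    Cfsg.centralizingMembers S (Subgroup.zpowers (a * b)) =
      Cfsg.centralizingMembers S (Subgroup.zpowers a) ∩ Cfsg.centralizingMembers S (Subgroup.zpowers b) := by
  obtain ⟨ha1, A, hA, haA⟩ := ha
  obtain ⟨hb1, B, hB, hbB⟩ := hb
  ext E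
  simp only [centralizingMembers, Set.mem_ofPred_eq, Set.mem_inter_iff, le_centralizer_zpowers_iff]
  constructor
  · rintro ⟨hE, hcomm⟩
    refine ⟨⟨hE, comm_left hS hdeg hA hB hE haA ha1 hbB hb1 hab hab1 hcomm⟩, hE, ?_⟩
    refine comm_left hS hdeg hB hA hE hbB hb1 haA ha1 hab.symm (by rwa [← hab]) ?_
    rw [← hab]; exact hcomm
  · rintro ⟨⟨hE, h1⟩, _, h2⟩
    refine ⟨hE, ?_⟩
    intro e he
    rw [mul_assoc, h2 e he, ← mul_assoc, h1 e he, mul_assoc]

end Cfsg.Agent.S5026
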