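import Mathlib
import Cfsg.Statements.S5027
import Cfsg.Agent.Helper7.RootSubgroupBasic

set_option autoImplicit false
open Cfsg

namespace Cfsg.Agent.S5027

open Cfsg.Agent.Helper7.R1 Cfsg.Agent.Helper7.Root

theorem comm_of_mem_member {G : Type*} [Group G] {S : Set (Subgroup G)}
    (hS : Cfsg.IsRootSubgroupSet S) {A B : Subgroup G} (hBS : B ∈ S) (hAS : A ∈ S)
    (h : IsRankOnePair A B) {z : G}
    (hz : ∀ y : G, z * y * z⁻¹ * y⁻¹ ∈ Subgroup.center G) {a : G} (ha : a ∈ A) :
    z * a = a * z := by
  by_cases ha1 : a = 1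
  · rw [ha1]; simp
  set ζ := z * a * z⁻¹ * a⁻¹ with hζ
  have hζc : ζ ∈ Subgroup.center G := hz a
  rw [Subgroup.mem_center_iff] at hζc
  have hζa : ζ * a = z * a * z⁻¹ := by rw [hζ]; group
  by_cases hζ1 : ζ = 1
  · rw [hζ1, one_mul] at hζa
    have := congrArg (· * z) hζa
    simpa using this.symm
  · exfalso
    have hcent : ∀ x ∈ A ⊔ B, ζ * x = x * ζ := fun x _ => (hζc x).symm
    apply central_mul_not_rootElement hS hBS h hcent hζ1 ha ha1
    refine ⟨?_, conjBy A z, hS.conj_mem A hAS z, ?_⟩
    · rw [hζa]
      intro e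
      apply ha1
      have := congrArg (fun t => z⁻¹ * t * z) e
      simpa [mul_assoc] using this
    · rw [hζa, mem_conjBy]
      have : z⁻¹ * (z * a * z⁻¹) * z = a := by group
      rwa [this]

/-- Let S be a set of abstract root subgroups of G such that every member of S has a rank one partner in S (the graph of rank one pairs on S has no isolated vertex). Then the second centre of G equals its centre. -/
theorem result {G : Type*} [Group G] {S : Set (Subgroup G)} (hS : Cfsg.IsRootSubgroupSet S)
    (hF : ∀ A ∈ S, ¬ Cfsg.IsIsolatedIn (Cfsg.FAdj S) S A) : Subgroup.upperCentralSeries G 2 = Subgroup.center G := by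
  apply le_antisymm
  · intro z hz
    rw [Subgroup.mem_upperCentralSeries_succ_iff] at hz
    have hz' : ∀ y : G, z * y * z⁻¹ * y⁻¹ ∈ Subgroup.center G := by
      intro y
      have := hz y
      rwa [Subgroup.upperCentralSeries_one] at this
    have hle : (⨆ A ∈ S, A) ≤ Subgroup.centralizer ({z} : Set G) := by
      apply iSup₂_le
      intro A hAS a ha
      obtain ⟨B, hBS, hp⟩ := exists_partner (hF A hAS) hAS
      rw [Subgroup.mem_centralizer_iff]
      rintro _ rfl
      exact comm_of_mem_member hS hBS hAS hp hz' ha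
    rw [hS.generates] at hle
    rw [Subgroup.mem_center_iff]
    intro x
    have := hle (Subgroup.mem_top x)
    rw [Subgroup.mem_centralizer_iff] at this
    exact (this z rfl).symm
  · rw [← Subgroup.upperCentralSeries_one]
    exact Subgroup.upperCentralSeries_mono G (by norm_num)

end Cfsg.Agent.S5027
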