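import Mathlib
import Cfsg.Statements.S5030
import Cfsg.Agent.Helper8.RootChainG

set_option autoImplicit false
open Cfsg

namespace Cfsg.Agent.S5030

/-- Let S be a set of abstract root subgroups of G and A, B, C ∈ S with ⁅A, B⁆ ∈ S and ⁅B, C⁆ ∈ S, where A and C are different and commute. For a non-identity b ∈ B put X = ⟨A, b⁻¹ C b⟩ and Y = ⟨b⁻¹ A b, C⟩ and R = ⟨A, B, C⟩. Then X and Y are either both abelian or both nilpotent of class exactly two; X and Y commute elementwise; XY is normal in R with R = (XY) B; and R is nilpotent. -/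
theorem result {G : Type*} [Group G] {S : Set (Subgroup G)} (hS : Cfsg.IsRootSubgroupSet S)
    {A B C : Subgroup G} (hA : A ∈ S) (hB : B ∈ S) (hC : C ∈ S) (hAB : ⁅A, B⁆ ∈ S) (hBC : ⁅B, C⁆ ∈ S)
    (hAC : C ∈ Cfsg.commutingPartners S A)
    {b : G} (hb : b ∈ B) (hb1 : b ≠ 1) :
    ((IsMulCommutative ↥(A ⊔ Cfsg.conjBy C b⁻¹) ∧ IsMulCommutative ↥(Cfsg.conjBy A b⁻¹ ⊔ C)) ∨
      ((¬ IsMulCommutative ↥(A ⊔ Cfsg.conjBy C b⁻¹) ∧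
          ⁅⁅A ⊔ Cfsg.conjBy C b⁻¹, A ⊔ Cfsg.conjBy C b⁻¹⁆, A ⊔ Cfsg.conjBy C b⁻¹⁆ = ⊥) ∧
        (¬ IsMulCommutative ↥(Cfsg.conjBy A b⁻¹ ⊔ C) ∧
          ⁅⁅Cfsg.conjBy A b⁻¹ ⊔ C, Cfsg.conjBy A b⁻¹ ⊔ C⁆, Cfsg.conjBy A b⁻¹ ⊔ C⁆ = ⊥))) ∧
    ⁅A ⊔ Cfsg.conjBy C b⁻¹, Cfsg.conjBy A b⁻¹ ⊔ C⁆ = ⊥ ∧
    (∀ r ∈ A ⊔ B ⊔ C, Cfsg.conjBy ((A ⊔ Cfsg.conjBy C b⁻¹) ⊔ (Cfsg.conjBy A b⁻¹ ⊔ C)) r =
      (A ⊔ Cfsg.conjBy C b⁻¹) ⊔ (Cfsg.conjBy A b⁻¹ ⊔ C)) ∧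
    ((A ⊔ Cfsg.conjBy C b⁻¹) ⊔ (Cfsg.conjBy A b⁻¹ ⊔ C)) ⊔ B = A ⊔ B ⊔ C ∧
    Group.IsNilpotent ↥(A ⊔ B ⊔ C) := by
  open Cfsg.Agent.Helper7.R1 Cfsg.Agent.Helper7.Root Cfsg.Agent.Helper8.RootComm
    Cfsg.Agent.Helper8.RootChain in
  obtain ⟨_, hCA, hcomm0⟩ := hAC
  have hCB' : ⁅C, B⁆ ∈ S := by rw [Subgroup.commutator_comm]; exact hBC
  have h : Chain S A B C := ⟨hS, hA, hB, hC, commCase_of_mem hS hA hB hAB,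
    commCase_of_mem hS hC hB hCB', fun e => hCA e.symm,
    fun a ha c hc => comm_of_commutator_eq_bot hcomm0 ha hc⟩
  have hY : Cfsg.conjBy A b⁻¹ ⊔ C = C ⊔ Cfsg.conjBy A b⁻¹ := sup_comm _ _
  refine ⟨?_, h.XY_comm hb, fun r hr => h.W_conj hb hb1 hr, Chain.W_sup hb, h.nilpotent⟩
  by_cases h0 : ⁅⁅A, B⁆, C⁆ = ⊥
  · left
    have h0' := h.three h0
    refine ⟨h.X_comm h0' hb, ?_⟩
    rw [hY]
    exact h.symm.X_comm h0 hb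
  · right
    have h0' : ⁅⁅C, B⁆, A⁆ ≠ ⊥ := fun e => h0 (h.symm.three e)
    have h2 : Chain2 S A B C := ⟨h, h.commCase h0, h.symm.commCase h0'⟩
    refine ⟨⟨h2.X_not_comm hb hb1, h2.X_class_two hb⟩, ?_⟩
    rw [hY]
    exact ⟨h2.symm.X_not_comm hb hb1, h2.symm.X_class_two hb⟩

end Cfsg.Agent.S5030
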