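import Cfsg.Statements.S5049

set_option autoImplicit false
open Cfsg

namespace Cfsg.Agent.S5049

variable {G : Type*} [Group G]

theorem pCore_normal' {p : ℕ} : (Cfsg.pCore p G).Normal := by
  unfold Cfsg.pCore
  exact Subgroup.sSup_normal _ (fun H hH => hH.1)

theorem pCore_isPGroup' {p : ℕ} [Fact p.Prime] : IsPGroup p (Cfsg.pCore p G) := by
  obtain ⟨Q⟩ := (inferInstance : Nonempty (Sylow p G))
  refine Q.isPGroup'.to_le ?_
  unfold Cfsg.pCore
  apply sSup_le
  rintro N ⟨hNn, hNp⟩
  have h1 : IsPGroup p (N ⊔ (Q : Subgroup G) : Subgroup G) := hNp.to_sup_of_normal_left Q.isPGroup'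
  have h2 := Q.is_maximal' h1 le_sup_right
  calc N ≤ N ⊔ (Q : Subgroup G) := le_sup_left
    _ = Q := h2

/-- An element of `O₂(G)` of odd order is trivial. -/
theorem eq_one_of_odd {x : G} (hx : x ∈ Cfsg.pCore 2 G) (hodd : Odd (orderOf x)) : x = 1 := by
  have : Fact (Nat.Prime 2) := ⟨Nat.prime_two⟩
  obtain ⟨k, hk⟩ := (pCore_isPGroup' (G := G) (p := 2)) ⟨x, hx⟩
  have hk' : x ^ (2 ^ k) = 1 := by
    have := congrArg Subtype.val hk
    simpa using this
  obtain ⟨j, -, hj⟩ := (Nat.dvd_prime_pow Nat.prime_two).1 (orderOf_dvd_of_pow_eq_one hk')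
  rw [hj] at hodd
  rcases Nat.eq_zero_or_pos j with h0 | hpos
  · rw [h0, pow_zero] at hj
    exact orderOf_eq_one_iff.1 hj
  · exfalso
    have : Even (2 ^ j) := (Nat.even_pow' hpos.ne').2 even_two
    exact (Nat.not_even_iff_odd.2 hodd) this

variable {D : Set G}

/-- Two members of `D` whose product lies in `O₂(G)` commute. -/
theorem comm_of_mul_mem (hD : Cfsg.IsOddTranspositionSet D) {a a' : G} (ha : a ∈ D) (ha' : a' ∈ D)
    (h : a * a' ∈ Cfsg.pCore 2 G) : a * a' = a' * a := by
  rcases hD.1.pair a ha a' ha' with h1 | h1 | h1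
  · exact h1
  · have h2 := eq_one_of_odd h h1
    have h3 : a' = a⁻¹ := (eq_inv_of_mul_eq_one_right h2)
    rw [h3, mul_inv_cancel, inv_mul_cancel]
  · exact absurd h1.1 (hD.2 a ha a' ha')

theorem sq_eq_one (hD : Cfsg.IsOddTranspositionSet D) {a : G} (ha : a ∈ D) : a * a = 1 := by
  have := hD.1.orderOf_eq a ha
  rw [← sq, ← this, pow_orderOf_eq_one]

theorem inv_eq_self (hD : Cfsg.IsOddTranspositionSet D) {a : G} (ha : a ∈ D) : a⁻¹ = a :=
  inv_eq_of_mul_eq_one_left (sq_eq_one hD ha)

theorem mul_conj_mem (hD : Cfsg.IsOddTranspositionSet D) {a x : G} (ha : a ∈ D)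
    (hx : x ∈ Cfsg.pCore 2 G) : a * (x * a * x⁻¹) ∈ Cfsg.pCore 2 G := by
  have hn := pCore_normal' (G := G) (p := 2)
  have h1 : a * (x * a * x⁻¹) = (a * x * a⁻¹) * x⁻¹ := by
    rw [inv_eq_self hD ha]
    group
  rw [h1]
  exact (Cfsg.pCore 2 G).mul_mem (hn.conj_mem x hx a) ((Cfsg.pCore 2 G).inv_mem hx)

/-- A member of `D` commuting with `a` commutes with the conjugates of `a` under `O₂(G)`. -/
theorem comm_conj (hD : Cfsg.IsOddTranspositionSet D) {a e x : G} (ha : a ∈ D) (he : e ∈ D)
    (hea : e * a = a * e) (hx : x ∈ Cfsg.pCore 2 G) :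
    e * (x * a * x⁻¹) = (x * a * x⁻¹) * e := by
  have hn := pCore_normal' (G := G) (p := 2)
  have ha' : x * a * x⁻¹ ∈ D := hD.1.conj_mem a ha x
  rcases hD.1.pair e he _ ha' with h1 | h1 | h1
  · exact h1
  · -- the odd order case
    apply comm_of_mul_mem hD he ha'
    have ht := mul_conj_mem hD ha hx
    have hf2 : (e * a) * (e * a) = 1 := by
      calc (e * a) * (e * a) = e * (a * e) * a := by group
        _ = e * (e * a) * a := by rw [hea]
        _ = (e * e) * (a * a) := by group
        _ = 1 := by rw [sq_eq_one hD he, sq_eq_one hD ha, one_mul]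
    have hdec : e * (x * a * x⁻¹) = (e * a) * (a * (x * a * x⁻¹)) := by
      calc e * (x * a * x⁻¹) = e * (a * a) * (x * a * x⁻¹) := by rw [sq_eq_one hD ha, mul_one]
        _ = (e * a) * (a * (x * a * x⁻¹)) := by group
    -- pass to the quotient
    have hπt : (QuotientGroup.mk' (Cfsg.pCore 2 G)) (a * (x * a * x⁻¹)) = 1 := by
      rw [QuotientGroup.mk'_apply, QuotientGroup.eq_one_iff]
      exact ht
    have hπ : (QuotientGroup.mk' (Cfsg.pCore 2 G)) (e * (x * a * x⁻¹)) =
        (QuotientGroup.mk' (Cfsg.pCore 2 G)) (e * a) := by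
      rw [hdec, map_mul, hπt, mul_one]
    obtain ⟨j, hj⟩ := h1
    have hpow : ((QuotientGroup.mk' (Cfsg.pCore 2 G)) (e * a)) ^ (2 * j + 1) = 1 := by
      rw [← hπ, ← map_pow, ← hj, pow_orderOf_eq_one, map_one]
    have hsq : ((QuotientGroup.mk' (Cfsg.pCore 2 G)) (e * a)) ^ 2 = 1 := by
      rw [← map_pow, sq, hf2, map_one]
    rw [pow_succ, pow_mul, hsq, one_pow, one_mul] at hpow
    have hf : e * a ∈ Cfsg.pCore 2 G := by
      rw [← QuotientGroup.eq_one_iff, ← QuotientGroup.mk'_apply]
      exact hpow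
    rw [hdec]
    exact (Cfsg.pCore 2 G).mul_mem hf ht
  · exact absurd h1.1 (hD.2 e he _ ha')

end Cfsg.Agent.S5049

namespace Cfsg.Agent.S5049

open scoped commutatorElement in
/-- Let G be a finite group generated by a set D of odd transpositions (root involutions with no product of order 4), Q = O₂(G), and for a ∈ D let Q_a be the commutator subgroup of Q with a. Then every member of D commuting with a centralizes Q_a; and for b ∈ D with ab of odd order greater than 1, the centralizer of ab in Q is the intersection of the centralizers of a and b in Q. -/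
theorem result {G : Type*} [Group G] [Finite G] {D : Set G} (hD : Cfsg.IsOddTranspositionSet D) {a : G} (ha : a ∈ D) :
    (∀ e ∈ Cfsg.commutingMembers D a, ∀ q ∈ ⁅Cfsg.pCore 2 G, Subgroup.zpowers a⁆, e * q = q * e) ∧
    (∀ b ∈ Cfsg.oddPartners D a,
      Cfsg.pCore 2 G ⊓ Subgroup.centralizer {a * b} = Cfsg.pCore 2 G ⊓ Subgroup.centralizer {a} ⊓ Subgroup.centralizer {b}) := by
  constructor
  · rintro e ⟨he, hea⟩ q hq
    have hle : ⁅Cfsg.pCore 2 G, Subgroup.zpowers a⁆ ≤ Subgroup.centralizer {e} := by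
      rw [Subgroup.commutator_le]
      rintro x hx _ ⟨n, rfl⟩
      rw [Subgroup.mem_centralizer_iff]
      intro h hh
      rw [Set.mem_singleton_iff] at hh
      subst hh
      have h1 : ⁅x, a ^ n⁆ = (x * a * x⁻¹) ^ n * (a ^ n)⁻¹ := by
        rw [commutatorElement_def, conj_zpow]
      rw [h1]
      have c1 : Commute h (x * a * x⁻¹) := comm_conj hD ha he hea hx
      have c2 : Commute h a := hea
      exact ((c1.zpow_right n).mul_right (c2.zpow_right n).inv_right).eq
    have := hle hq
    rw [Subgroup.mem_centralizer_iff] at this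
    exact this e rfl
  · rintro b ⟨hb, hba, hodd⟩
    ext q
    simp only [Subgroup.mem_inf, Subgroup.mem_centralizer_iff, Set.mem_singleton_iff, forall_eq]
    constructor
    · rintro ⟨hq, hqr⟩
      -- `q` centralizes `r = a * b`
      have ha' : q * a * q⁻¹ ∈ D := hD.1.conj_mem a ha q
      have ht := mul_conj_mem hD ha hq
      have hcomm : a * (q * a * q⁻¹) = (q * a * q⁻¹) * a := comm_of_mul_mem hD ha ha' ht
      have haa := sq_eq_one hD ha
      have hbb := sq_eq_one hD hb
      have ha'a' := sq_eq_one hD ha'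
      -- `t` commutes with `r`
      have hinv_a : a * (a * b) * a⁻¹ = (a * b)⁻¹ := by
        rw [inv_eq_self hD ha, mul_inv_rev, inv_eq_self hD ha, inv_eq_self hD hb]
        calc a * (a * b) * a = (a * a) * b * a := by group
          _ = b * a := by rw [haa, one_mul]
      have hinv_a' : (q * a * q⁻¹) * (a * b) * (q * a * q⁻¹)⁻¹ = (a * b)⁻¹ := by
        have h1 : (q * a * q⁻¹) * (a * b) * (q * a * q⁻¹)⁻¹ =
            q * (a * (q⁻¹ * (a * b) * q) * a⁻¹) * q⁻¹ := by group
        have h2 : q⁻¹ * (a * b) * q = a * b := by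
          rw [mul_assoc, hqr, inv_mul_cancel_left]
        rw [h1, h2, hinv_a]
        have h3 : q * (a * b)⁻¹ = (a * b)⁻¹ * q := by
          have := congrArg (fun z => (a * b)⁻¹ * z * (a * b)⁻¹) hqr
          simpa [mul_assoc] using this
        rw [h3, mul_inv_cancel_right]
      have htr : Commute (a * (q * a * q⁻¹)) (a * b) := by
        change a * (q * a * q⁻¹) * (a * b) = a * b * (a * (q * a * q⁻¹))
        have h1 : a * (q * a * q⁻¹) * (a * b) =
            (a * ((q * a * q⁻¹) * (a * b) * (q * a * q⁻¹)⁻¹) * a⁻¹) * (a * (q * a * q⁻¹)) := by group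
        rw [h1, hinv_a']
        have h2 : a * (a * b)⁻¹ * a⁻¹ = a * b := by
          rw [← hinv_a]
          calc a * (a * (a * b) * a⁻¹) * a⁻¹ = (a * a) * (a * b) * (a * a)⁻¹ := by group
            _ = a * b := by rw [haa, one_mul, inv_one, mul_one]
        rw [h2]
      have hdec : (q * a * q⁻¹) * b = (a * (q * a * q⁻¹)) * (a * b) := by
        rw [hcomm]
        calc (q * a * q⁻¹) * b = (q * a * q⁻¹) * (a * a) * b := by rw [haa, mul_one]
          _ = (q * a * q⁻¹) * a * (a * b) := by group
      -- `t = 1`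
      have ht1 : a * (q * a * q⁻¹) = 1 := by
        by_contra hne
        have ht2 : (a * (q * a * q⁻¹)) ^ 2 = 1 := by
          rw [sq]
          calc a * (q * a * q⁻¹) * (a * (q * a * q⁻¹))
              = a * ((q * a * q⁻¹) * a) * (q * a * q⁻¹) := by group
            _ = a * (a * (q * a * q⁻¹)) * (q * a * q⁻¹) := by rw [hcomm]
            _ = (a * a) * ((q * a * q⁻¹) * (q * a * q⁻¹)) := by group
            _ = 1 := by rw [haa, ha'a', one_mul]
        have hot : orderOf (a * (q * a * q⁻¹)) = 2 := orderOf_eq_prime ht2 hne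
        have hr1 : orderOf (a * b) ≠ 1 := by
          intro h1
          rw [orderOf_eq_one_iff] at h1
          apply hba
          have := eq_inv_of_mul_eq_one_right h1
          rw [this, inv_eq_self hD ha]
        have hcop : (orderOf (a * (q * a * q⁻¹))).Coprime (orderOf (a * b)) := by
          rw [hot, Nat.coprime_two_left]
          exact hodd
        have hord : orderOf ((q * a * q⁻¹) * b) = 2 * orderOf (a * b) := by
          rw [hdec, htr.orderOf_mul_eq_mul_orderOf_of_coprime hcop, hot]
        rcases hD.1.pair _ ha' b hb with h1 | h1 | h1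
        · have h2 : ((q * a * q⁻¹) * b) ^ 2 = 1 := by
            rw [sq]
            calc (q * a * q⁻¹) * b * ((q * a * q⁻¹) * b)
                = (q * a * q⁻¹) * (b * (q * a * q⁻¹)) * b := by group
              _ = (q * a * q⁻¹) * ((q * a * q⁻¹) * b) * b := by rw [h1]
              _ = ((q * a * q⁻¹) * (q * a * q⁻¹)) * (b * b) := by group
              _ = 1 := by rw [ha'a', hbb, one_mul]
          have h3 := orderOf_dvd_of_pow_eq_one h2
          rw [hord] at h3
          have h4 : orderOf (a * b) ∣ 1 := by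
            have := Nat.le_of_dvd (by norm_num) h3
            have hpos : 0 < orderOf (a * b) := orderOf_pos _
            exact Nat.dvd_one.2 (by omega)
          exact hr1 (Nat.dvd_one.1 h4)
        · rw [hord] at h1
          exact (Nat.not_odd_iff_even.2 (even_two_mul _)) h1
        · exact hD.2 _ ha' b hb h1.1
      have hqa : a * q = q * a := by
        have h1 : q * a * q⁻¹ = a := by
          have := eq_inv_of_mul_eq_one_right ht1
          rw [this, inv_eq_self hD ha]
        calc a * q = (q * a * q⁻¹) * q := by rw [h1]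
          _ = q * a := by group
      refine ⟨⟨hq, hqa⟩, ?_⟩
      have hb' : b = a * (a * b) := by
        rw [← mul_assoc, haa, one_mul]
      rw [hb', mul_assoc, hqr, ← mul_assoc, hqa, mul_assoc]
    · rintro ⟨⟨hq, hqa⟩, hqb⟩
      refine ⟨hq, ?_⟩
      rw [mul_assoc, hqb, ← mul_assoc, hqa, mul_assoc]

end Cfsg.Agent.S5049
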