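import Mathlib
import Cfsg.Statements.S5057

set_option autoImplicit false
open Cfsg

namespace Cfsg.Agent.S5057

open Equiv

/-- The symmetric group of degree six. -/
abbrev P6 := Equiv.Perm (Fin 6)
/-- The alternating group of degree six. -/
abbrev A6 := ↥(alternatingGroup (Fin 6))

/-- A fixed involution. -/
def a0 : P6 := swap 0 1 * swap 2 3

/-- Even involutions. -/
def Inv (σ : P6) : Prop := σ ^ 2 = 1 ∧ σ ≠ 1 ∧ Equiv.Perm.sign σ = 1

instance decInv : DecidablePred Inv := fun σ =>
  inferInstanceAs (Decidable (σ ^ 2 = 1 ∧ σ ≠ 1 ∧ Equiv.Perm.sign σ = 1))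

/-- The relation between two involutions. -/
def Rel (σ τ : P6) : Prop :=
  σ * τ = τ * σ ∨ (σ * τ) ^ 3 = 1 ∨ (σ * τ) ^ 5 = 1 ∨ ((σ * τ) ^ 4 = 1 ∧ (σ * τ) ^ 2 ≠ 1)

instance decRel (σ τ : P6) : Decidable (Rel σ τ) :=
  inferInstanceAs (Decidable (σ * τ = τ * σ ∨ (σ * τ) ^ 3 = 1 ∨ (σ * τ) ^ 5 = 1 ∨
    ((σ * τ) ^ 4 = 1 ∧ (σ * τ) ^ 2 ≠ 1)))

set_option maxRecDepth 1000000 in
theorem L1 : ∀ σ : P6, Inv σ → ∃ g : P6, Equiv.Perm.sign g = 1 ∧ σ = g * a0 * g⁻¹ := by
  decide +kernel

set_option maxRecDepth 1000000 in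
theorem L2 : ∀ τ : P6, Inv τ → Rel a0 τ := by
  decide +kernel

theorem inv_a0 : Inv a0 := by
  decide +kernel

theorem conj_pow' (g x : P6) (k : ℕ) : (g * x * g⁻¹) ^ k = g * x ^ k * g⁻¹ := by
  induction k with
  | zero => simp
  | succ k ih => rw [pow_succ, ih, pow_succ]; group

theorem conj_eq_one (g x : P6) : g * x * g⁻¹ = 1 ↔ x = 1 := by
  constructor
  · intro h
    have : x = g⁻¹ * (g * x * g⁻¹) * g := by group
    rw [this, h]; group
  · intro h; rw [h]; group

theorem inv_conj (g τ : P6) (h : Inv τ) : Inv (g * τ * g⁻¹) := by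
  obtain ⟨h1, h2, h3⟩ := h
  refine ⟨?_, ?_, ?_⟩
  · rw [conj_pow', h1]; group
  · rw [Ne, conj_eq_one]; exact h2
  · rw [map_mul, map_mul, map_inv, h3]
    simp

theorem rel_conj (g σ τ : P6) (h : Rel σ τ) : Rel (g * σ * g⁻¹) (g * τ * g⁻¹) := by
  have e : g * σ * g⁻¹ * (g * τ * g⁻¹) = g * (σ * τ) * g⁻¹ := by group
  have e' : g * τ * g⁻¹ * (g * σ * g⁻¹) = g * (τ * σ) * g⁻¹ := by group
  unfold Rel
  rw [e, e', conj_pow', conj_pow', conj_pow', conj_pow', conj_eq_one, conj_eq_one, conj_eq_one,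
    Ne, conj_eq_one]
  rcases h with h | h | h | h
  · left; rw [h]
  · right; left; exact h
  · right; right; left; exact h
  · right; right; right; exact h

theorem rel_all (σ τ : P6) (hσ : Inv σ) (hτ : Inv τ) : Rel σ τ := by
  obtain ⟨g, _, rfl⟩ := L1 σ hσ
  have h1 : Inv (g⁻¹ * τ * g⁻¹⁻¹) := inv_conj g⁻¹ τ hτ
  have h2 := rel_conj g a0 _ (L2 _ h1)
  have e : g * (g⁻¹ * τ * g⁻¹⁻¹) * g⁻¹ = τ := by group
  rwa [e] at h2

/-- The set of involutions of the alternating group. -/
abbrev D : Set A6 := {g : A6 | orderOf g = 2}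

theorem inv_of_mem (d : A6) (hd : d ∈ D) : Inv d.1 := by
  have hd' : orderOf d = 2 := hd
  refine ⟨?_, ?_, ?_⟩
  · have := pow_orderOf_eq_one d
    rw [hd'] at this
    exact congrArg Subtype.val this
  · intro h
    have : d = 1 := Subtype.ext h
    rw [this, orderOf_one] at hd'
    norm_num at hd'
  · exact Equiv.Perm.mem_alternatingGroup.mp d.2

theorem mem_of_inv (d : A6) (h : Inv d.1) : d ∈ D := by
  show orderOf d = 2
  apply orderOf_eq_prime
  · exact Subtype.ext h.1
  · intro e
    exact h.2.1 (congrArg Subtype.val e)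

theorem rel_D (d e : A6) (hd : d ∈ D) (he : e ∈ D) : Rel d.1 e.1 :=
  rel_all d.1 e.1 (inv_of_mem d hd) (inv_of_mem e he)

theorem val_pow (x : A6) (k : ℕ) : (x ^ k).1 = x.1 ^ k := rfl

theorem pow_eq_one_iff' (x : A6) (k : ℕ) : x ^ k = 1 ↔ x.1 ^ k = 1 := by
  constructor
  · intro h; exact congrArg Subtype.val h
  · intro h; exact Subtype.ext h

theorem pair_D (d e : A6) (hd : d ∈ D) (he : e ∈ D) :
    d * e = e * d ∨ Odd (orderOf (d * e)) ∨ (orderOf (d * e) = 4 ∧ (d * e) ^ 2 ∈ D) := by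
  rcases rel_D d e hd he with h | h | h | h
  · left; exact Subtype.ext h
  · right; left
    have h3 : (d * e) ^ 3 = 1 := (pow_eq_one_iff' _ _).mpr h
    have := orderOf_dvd_of_pow_eq_one h3
    rcases (Nat.dvd_prime Nat.prime_three).mp this with h1 | h1 <;> rw [h1] <;> decide
  · right; left
    have h5 : (d * e) ^ 5 = 1 := (pow_eq_one_iff' _ _).mpr h
    have := orderOf_dvd_of_pow_eq_one h5
    rcases (Nat.dvd_prime Nat.prime_five).mp this with h1 | h1 <;> rw [h1] <;> decide
  · right; right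
    have h4 : (d * e) ^ 4 = 1 := (pow_eq_one_iff' _ _).mpr h.1
    have h2 : (d * e) ^ 2 ≠ 1 := fun h' => h.2 ((pow_eq_one_iff' _ _).mp h')
    constructor
    · have hdvd : orderOf (d * e) ∣ 2 ^ 2 := orderOf_dvd_of_pow_eq_one h4
      obtain ⟨k, hk, hk2⟩ := (Nat.dvd_prime_pow Nat.prime_two).mp hdvd
      interval_cases k
      · exfalso; apply h2
        rw [pow_zero, orderOf_eq_one_iff] at hk2
        rw [hk2, one_pow]
      · exfalso; apply h2
        rw [pow_one] at hk2
        rw [← hk2]; exact pow_orderOf_eq_one _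
      · exact hk2
    · show orderOf ((d * e) ^ 2) = 2
      apply orderOf_eq_prime
      · rw [← pow_mul]; exact h4
      · exact h2

theorem order_le (d e : A6) (hd : d ∈ D) (he : e ∈ D) : orderOf (d * e) ≤ 5 := by
  rcases rel_D d e hd he with h | h | h | h
  · have hd2 : d ^ 2 = 1 := by have := pow_orderOf_eq_one d; rwa [show orderOf d = 2 from hd] at this
    have he2 : e ^ 2 = 1 := by have := pow_orderOf_eq_one e; rwa [show orderOf e = 2 from he] at this
    have hc : d * e = e * d := Subtype.ext h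
    have : (d * e) ^ 2 = 1 := by
      rw [pow_two]
      calc d * e * (d * e) = d * (e * d) * e := by group
        _ = d * (d * e) * e := by rw [hc]
        _ = d ^ 2 * e ^ 2 := by rw [pow_two, pow_two]; group
        _ = 1 := by rw [hd2, he2, one_mul]
    exact (orderOf_le_of_pow_eq_one (by norm_num) this).trans (by norm_num)
  · exact (orderOf_le_of_pow_eq_one (by norm_num) ((pow_eq_one_iff' _ _).mpr h)).trans (by norm_num)
  · exact orderOf_le_of_pow_eq_one (by norm_num) ((pow_eq_one_iff' _ _).mpr h)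
  · exact (orderOf_le_of_pow_eq_one (by norm_num) ((pow_eq_one_iff' _ _).mpr h.1)).trans
      (by norm_num)

/-- The fixed involution as an element of the alternating group. -/
def d0 : A6 := ⟨a0, Equiv.Perm.mem_alternatingGroup.mpr inv_a0.2.2⟩

theorem d0_mem : d0 ∈ D := mem_of_inv d0 inv_a0

theorem conj_mem_D (d : A6) (hd : d ∈ D) (g : A6) : g * d * g⁻¹ ∈ D := by
  apply mem_of_inv
  exact inv_conj g.1 d.1 (inv_of_mem d hd)

theorem exists_conj (d : A6) (hd : d ∈ D) : ∃ g : A6, d = g * d0 * g⁻¹ := by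
  obtain ⟨g, hg, hgd⟩ := L1 d.1 (inv_of_mem d hd)
  exact ⟨⟨g, Equiv.Perm.mem_alternatingGroup.mpr hg⟩, Subtype.ext hgd⟩

theorem closure_D : Subgroup.closure D = ⊤ := by
  have hN : (Subgroup.closure D).Normal := by
    constructor
    intro n hn g
    induction hn using Subgroup.closure_induction with
    | mem x hx => exact Subgroup.subset_closure (conj_mem_D x hx g)
    | one => rw [mul_one, mul_inv_cancel]; exact Subgroup.one_mem _
    | mul x y _ _ hx hy =>
      have : g * (x * y) * g⁻¹ = (g * x * g⁻¹) * (g * y * g⁻¹) := by group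
      rw [this]; exact Subgroup.mul_mem _ hx hy
    | inv x _ hx =>
      have : g * x⁻¹ * g⁻¹ = (g * x * g⁻¹)⁻¹ := by group
      rw [this]; exact Subgroup.inv_mem _ hx
  have hsimple : IsSimpleGroup A6 := alternatingGroup.isSimpleGroup (by simp)
  rcases hN.eq_bot_or_eq_top with h | h
  · exfalso
    have h1 : d0 ∈ Subgroup.closure D := Subgroup.subset_closure d0_mem
    rw [h, Subgroup.mem_bot] at h1
    have := d0_mem
    rw [h1] at this
    have h2 : orderOf (1 : A6) = 2 := this
    rw [orderOf_one] at h2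
    norm_num at h2
  · exact h

/-- The involutions of the alternating group of degree 6 form a class of root involutions (a single conjugacy class of involutions generating the group, any two of which commute, have product of odd order, or have product of order 4 whose square is again an involution of the class), and the product of any two of them has order at most 5. -/
theorem result :
    Cfsg.IsRootInvolutionClass {g : ↥(alternatingGroup (Fin 6)) | orderOf g = 2} ∧
    ∀ d ∈ {g : ↥(alternatingGroup (Fin 6)) | orderOf g = 2}, ∀ e ∈ {g : ↥(alternatingGroup (Fin 6)) | orderOf g = 2},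
      orderOf (d * e) ≤ 5 := by
  refine ⟨⟨⟨fun d hd => hd, closure_D, fun d hd g => conj_mem_D d hd g,
    fun a ha b hb => pair_D a b ha hb⟩, ⟨d0, d0_mem⟩, ?_⟩, fun d hd e he => order_le d e hd he⟩
  intro a ha b hb
  obtain ⟨g, hg⟩ := exists_conj a ha
  obtain ⟨k, hk⟩ := exists_conj b hb
  refine ⟨k * g⁻¹, ?_⟩
  rw [hk, hg]
  group

end Cfsg.Agent.S5057
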