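import Cfsg.Statements.S5059

set_option autoImplicit false
open Cfsg

universe u

namespace Cfsg.Agent.S5059

variable {k : Type u} [Field k] {M : Type u} [AddCommGroup M] [Module k M]

/-- The unipotent unit `1 + N` for `N` of square zero. -/
def unip (N : M →ₗ[k] M) (hN : N * N = 0) : LinearMap.GeneralLinearGroup k M where
  val := 1 + N
  inv := 1 - N
  val_inv := by
    simp only [add_mul, mul_sub, one_mul, mul_one, hN]
    abel
  inv_val := by
    simp only [sub_mul, mul_add, one_mul, mul_one, hN]
    abel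

theorem unip_val (N : M →ₗ[k] M) (hN : N * N = 0) :
    ((unip N hN : LinearMap.GeneralLinearGroup k M) : M →ₗ[k] M) = 1 + N := rfl

theorem smul_sq (N : M →ₗ[k] M) (hN : N * N = 0) (c : k) : (c • N) * (c • N) = 0 := by
  rw [smul_mul_smul_comm, hN, smul_zero]

/-- The nilpotent part. -/
def nil (τ : LinearMap.GeneralLinearGroup k M) : M →ₗ[k] M := (τ : M →ₗ[k] M) - 1

theorem val_eq (τ : LinearMap.GeneralLinearGroup k M) : (τ : M →ₗ[k] M) = 1 + nil τ := by
  unfold nil
  abel

theorem eq_unip (τ : LinearMap.GeneralLinearGroup k M) (h : nil τ * nil τ = 0) :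
    τ = unip (nil τ) h := Units.ext (val_eq τ)

variable (G : Subgroup (LinearMap.GeneralLinearGroup k M)) (C R : Submodule k M)

/-- The elements of `G` of the form `1 + N` with `N² = 0`, `C ≤ ker N`, `range N ≤ R`, whose scalar
family lies in `G`. -/
structure Good (τ : LinearMap.GeneralLinearGroup k M) : Prop where
  mem : τ ∈ G
  sq : nil τ * nil τ = 0
  fam : Cfsg.scalarFamily τ ⊆ (G : Set (LinearMap.GeneralLinearGroup k M))
  ker : C ≤ LinearMap.ker (nil τ)
  range : LinearMap.range (nil τ) ≤ R

variable {G C R}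

theorem good_one : Good G C R 1 := by
  have h0 : nil (1 : LinearMap.GeneralLinearGroup k M) = 0 := by
    unfold nil
    rw [Units.val_one, sub_self]
  refine ⟨G.one_mem, by rw [h0, zero_mul], ?_, by rw [h0, LinearMap.ker_zero]; exact le_top,
    by rw [h0, LinearMap.range_zero]; exact bot_le⟩
  rintro τ ⟨c, hc⟩
  have : τ = 1 := by
    apply Units.ext
    rw [hc, Units.val_one, sub_self, smul_zero, add_zero]
  rw [this]
  exact G.one_mem

theorem nil_mul_nil (hRC : R ≤ C) {τ τ' : LinearMap.GeneralLinearGroup k M} (h : Good G C R τ)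
    (h' : Good G C R τ') : nil τ * nil τ' = 0 := by
  ext x
  rw [Module.End.mul_apply, LinearMap.zero_apply]
  have h1 : nil τ' x ∈ LinearMap.range (nil τ') := LinearMap.mem_range_self _ x
  exact LinearMap.mem_ker.1 (h.ker (hRC (h'.range h1)))

theorem nil_mul (hRC : R ≤ C) {τ τ' : LinearMap.GeneralLinearGroup k M} (h : Good G C R τ)
    (h' : Good G C R τ') : nil (τ * τ') = nil τ + nil τ' := by
  have h1 := nil_mul_nil hRC h h'
  unfold nil at h1 ⊢
  rw [Units.val_mul]
  have : (τ : M →ₗ[k] M) * (τ' : M →ₗ[k] M) =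
      ((τ : M →ₗ[k] M) - 1) * ((τ' : M →ₗ[k] M) - 1) + (τ : M →ₗ[k] M) + (τ' : M →ₗ[k] M) - 1 := by
    rw [sub_mul, mul_sub, mul_sub, one_mul, mul_one, mul_one]
    abel
  rw [this, h1]
  abel

theorem mem_of_val {τ : LinearMap.GeneralLinearGroup k M} (h : Good G C R τ) (c : k)
    (υ : LinearMap.GeneralLinearGroup k M) (hυ : (υ : M →ₗ[k] M) = 1 + c • nil τ) : υ ∈ G :=
  h.fam ⟨c, hυ⟩

theorem good_mul (hRC : R ≤ C) {τ τ' : LinearMap.GeneralLinearGroup k M} (h : Good G C R τ)
    (h' : Good G C R τ') : Good G C R (τ * τ') := by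
  have h1 := nil_mul_nil hRC h h'
  have h2 := nil_mul_nil hRC h' h
  have hn := nil_mul hRC h h'
  refine ⟨G.mul_mem h.mem h'.mem, ?_, ?_, ?_, ?_⟩
  · rw [hn, add_mul, mul_add, mul_add, h.sq, h'.sq, h1, h2]
    simp
  · rintro υ ⟨c, hc⟩
    have e1 := mem_of_val h c (unip (c • nil τ) (smul_sq _ h.sq c)) rfl
    have e2 := mem_of_val h' c (unip (c • nil τ') (smul_sq _ h'.sq c)) rfl
    have : υ = unip (c • nil τ) (smul_sq _ h.sq c) * unip (c • nil τ') (smul_sq _ h'.sq c) := by
      apply Units.ext
      rw [hc]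
      change 1 + c • nil (τ * τ') = (1 + c • nil τ) * (1 + c • nil τ')
      simp only [hn, add_mul, mul_add, one_mul, mul_one, smul_mul_smul_comm, h1, smul_zero,
        smul_add]
      abel
    rw [this]
    exact G.mul_mem e1 e2
  · intro x hx
    rw [LinearMap.mem_ker, hn, LinearMap.add_apply, LinearMap.mem_ker.1 (h.ker hx),
      LinearMap.mem_ker.1 (h'.ker hx), add_zero]
  · rintro _ ⟨x, rfl⟩
    rw [hn, LinearMap.add_apply]
    exact R.add_mem (h.range (LinearMap.mem_range_self _ x)) (h'.range (LinearMap.mem_range_self _ x))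

theorem nil_inv {τ : LinearMap.GeneralLinearGroup k M} (h : Good G C R τ) : nil τ⁻¹ = -nil τ := by
  have hs : (-nil τ) * (-nil τ) = 0 := by rw [neg_mul_neg, h.sq]
  have h1 : τ⁻¹ = unip (-nil τ) hs := by
    rw [inv_eq_iff_mul_eq_one]
    apply Units.ext
    rw [Units.val_mul, unip_val, Units.val_one, val_eq τ]
    simp only [add_mul, mul_add, one_mul, mul_one, mul_neg, h.sq]
    abel
  unfold nil
  rw [h1, unip_val]
  change 1 + -(nil τ) - 1 = -nil τ
  abel

theorem good_inv {τ : LinearMap.GeneralLinearGroup k M} (h : Good G C R τ) : Good G C R τ⁻¹ := by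
  have hn := nil_inv h
  refine ⟨G.inv_mem h.mem, by rw [hn, neg_mul_neg, h.sq], ?_, ?_, ?_⟩
  · rintro υ ⟨c, hc⟩
    apply mem_of_val h (-c) υ
    rw [hc]
    change 1 + c • nil τ⁻¹ = _
    rw [hn, smul_neg, neg_smul]
  · intro x hx
    rw [LinearMap.mem_ker, hn, LinearMap.neg_apply, LinearMap.mem_ker.1 (h.ker hx), neg_zero]
  · rintro _ ⟨x, rfl⟩
    rw [hn, LinearMap.neg_apply]
    exact R.neg_mem (h.range (LinearMap.mem_range_self _ x))

/-- The subgroup of good elements. -/
def goodSubgroup (hRC : R ≤ C) : Subgroup (LinearMap.GeneralLinearGroup k M) where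
  carrier := {τ | Good G C R τ}
  one_mem' := good_one
  mul_mem' := fun h h' => good_mul hRC h h'
  inv_mem' := fun h => good_inv h

theorem good_comm (hRC : R ≤ C) {τ τ' : LinearMap.GeneralLinearGroup k M} (h : Good G C R τ)
    (h' : Good G C R τ') : τ * τ' = τ' * τ := by
  apply Units.ext
  have e1 := nil_mul hRC h h'
  have e2 := nil_mul hRC h' h
  have : ((τ * τ' : LinearMap.GeneralLinearGroup k M) : M →ₗ[k] M) = 1 + nil (τ * τ') := val_eq _
  rw [this, val_eq (τ' * τ), e1, e2, add_comm (nil τ)]

theorem good_pow (hRC : R ≤ C) {τ : LinearMap.GeneralLinearGroup k M} (h : Good G C R τ) (n : ℕ) :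
    Good G C R (τ ^ n) ∧ nil (τ ^ n) = (n : k) • nil τ := by
  induction n with
  | zero =>
    refine ⟨by rw [pow_zero]; exact good_one, ?_⟩
    rw [pow_zero, Nat.cast_zero, zero_smul]
    unfold nil
    rw [Units.val_one, sub_self]
  | succ n ih =>
    rw [pow_succ]
    refine ⟨good_mul hRC ih.1 h, ?_⟩
    rw [nil_mul hRC ih.1 h, ih.2, Nat.cast_succ, add_smul, one_smul]

end Cfsg.Agent.S5059

namespace Cfsg.Agent.S5059

/-- Let k be a field of characteristic not 2 with k not of order 3, M a finite-dimensional k-vector space and G ≤ GL(M) such that (G, M) is a quadratic pair (M irreducible for G, and G generated by its quadratically acting elements σ whose scalar family 1 + c(σ − 1), c ∈ k, lies in G). Write 𝒬_d for the quadratic elements of G of minimal commutator rank, E(σ) for the subgroup generated by the members of 𝒬_d with the same fixed space and commutator space as σ, and Σ for the set of these subgroups. Then for σ ∈ 𝒬_d the subgroup E(σ) consists exactly of those members together with the identity, it is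 abelian, and if k has prime characteristic p every element of E(σ) has order dividing p. -/
theorem result {k : Type u} [Field k] (hk2 : ringChar k ≠ 2) (hk3 : Nat.card k ≠ 3)
    {M : Type u} [AddCommGroup M] [Module k M] [FiniteDimensional k M]
    {G : Subgroup (LinearMap.GeneralLinearGroup k M)} (hG : Cfsg.IsQuadraticPair G)
    {σ : LinearMap.GeneralLinearGroup k M} (hσ : σ ∈ Cfsg.minimalQuadraticElements G) :
    (Cfsg.sameActionSubgroup G σ : Set (LinearMap.GeneralLinearGroup k M)) = Cfsg.sameActionClass G σ ∪ {1} ∧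
    IsMulCommutative ↥(Cfsg.sameActionSubgroup G σ) ∧
    (∀ p : ℕ, p.Prime → ringChar k = p → ∀ x ∈ Cfsg.sameActionSubgroup G σ, x ^ p = 1) := by
  have _h1 := hk2
  have _h2 := hk3
  have _h3 := hG
  set C : Submodule k M := LinearMap.ker (nil σ) with hC
  set R : Submodule k M := LinearMap.range (nil σ) with hR
  obtain ⟨⟨hσG, ⟨hσsq, hσne⟩, hσfam⟩, hσmin⟩ := hσ
  have hRC : R ≤ C := by
    rintro _ ⟨x, rfl⟩
    rw [hC, LinearMap.mem_ker, ← Module.End.mul_apply]
    change (nil σ * nil σ) x = 0
    have : nil σ * nil σ = 0 := hσsq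
    rw [this, LinearMap.zero_apply]
  -- members of the class are good
  have hgood : ∀ τ ∈ Cfsg.sameActionClass G σ, Good G C R τ := by
    rintro τ ⟨⟨⟨hτG, ⟨hτsq, -⟩, hτfam⟩, -⟩, hker, hrange⟩
    exact ⟨hτG, hτsq, hτfam, le_of_eq hker.symm, le_of_eq hrange⟩
  -- good elements other than the identity are members of the class
  have hclass : ∀ τ, Good G C R τ → τ ≠ 1 → τ ∈ Cfsg.sameActionClass G σ := by
    intro τ hτ hne
    have hq : τ ∈ Cfsg.quadraticElements G := by
      refine ⟨hτ.mem, ⟨hτ.sq, ?_⟩, hτ.fam⟩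
      intro h0
      apply hne
      apply Units.ext
      rw [val_eq τ]
      change 1 + nil τ = 1
      have : nil τ = 0 := h0
      rw [this, add_zero]
    have hle : Module.finrank k (LinearMap.range (nil τ)) ≤ Module.finrank k R :=
      Submodule.finrank_mono hτ.range
    have hge : Module.finrank k R ≤ Module.finrank k (LinearMap.range (nil τ)) := hσmin τ hq
    have hrange : LinearMap.range (nil τ) = R :=
      Submodule.eq_of_le_of_finrank_eq hτ.range (le_antisymm hle hge)
    have hker : LinearMap.ker (nil τ) = C := by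
      symm
      apply Submodule.eq_of_le_of_finrank_eq hτ.ker
      have e1 := LinearMap.finrank_range_add_finrank_ker (nil τ)
      have e2 := LinearMap.finrank_range_add_finrank_ker (nil σ)
      rw [hrange] at e1
      change Module.finrank k R + Module.finrank k C = _ at e2
      omega
    refine ⟨⟨hq, fun τ' hτ' => ?_⟩, hker, hrange⟩
    exact le_trans hle (hσmin τ' hτ')
  have hsub : Cfsg.sameActionSubgroup G σ = goodSubgroup (G := G) hRC := by
    apply le_antisymm
    · unfold Cfsg.sameActionSubgroup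
      rw [Subgroup.closure_le]
      exact hgood
    · intro τ hτ
      by_cases h1 : τ = 1
      · rw [h1]
        exact Subgroup.one_mem _
      · exact Subgroup.subset_closure (hclass τ hτ h1)
  have hmem : ∀ x, x ∈ Cfsg.sameActionSubgroup G σ → Good G C R x := by
    intro x hx
    rw [hsub] at hx
    exact hx
  refine ⟨?_, ?_, ?_⟩
  · ext τ
    rw [hsub]
    constructor
    · intro hτ
      by_cases h1 : τ = 1
      · right
        exact h1
      · left
        exact hclass τ hτ h1
    · rintro (hτ | hτ)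
      · exact hgood τ hτ
      · rw [Set.mem_singleton_iff] at hτ
        rw [hτ]
        exact good_one
  · rw [isMulCommutative_iff]
    intro a b
    apply Subtype.ext
    exact good_comm hRC (hmem a.1 a.2) (hmem b.1 b.2)
  · intro p _ hchar x hx
    have h := (good_pow hRC (hmem x hx) p).2
    have hp0 : (p : k) = 0 := by
      rw [← hchar]
      exact ringChar.Nat.cast_ringChar
    rw [hp0, zero_smul] at h
    apply Units.ext
    rw [val_eq (x ^ p), h, add_zero, Units.val_one]

end Cfsg.Agent.S5059
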