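import Cfsg.Statements.S5060
import Cfsg.Agent.Helper8.DickD
import Cfsg.Agent.Helper8.DickE

set_option autoImplicit false
open Cfsg

namespace Cfsg.Agent.S5060

/-- Let k ⊆ K be fields with the characteristic of k not 2 and k not of order 3, and let α ∈ K be a non-zero element algebraic over k. Then the subgroup of SL₂(K) generated by the upper unitriangular matrices with entry c and the lower unitriangular matrices with entry cα, c ranging over k, is exactly the group of matrices of SL₂(K) with all entries in k(α). -/
theorem result {k K : Type*} [Field k] [Field K] [Algebra k K] (hk2 : ringChar k ≠ 2) (hk3 : Nat.card k ≠ 3)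
    (α : K) (hα : IsAlgebraic k α) (hα0 : α ≠ 0) :
    (Subgroup.closure ({g : Matrix.SpecialLinearGroup (Fin 2) K | ∃ c : k, (g : Matrix (Fin 2) (Fin 2) K) = !![1, algebraMap k K c; 0, 1]} ∪
        {g : Matrix.SpecialLinearGroup (Fin 2) K | ∃ c : k, (g : Matrix (Fin 2) (Fin 2) K) = !![1, 0; algebraMap k K c * α, 1]}) :
      Set (Matrix.SpecialLinearGroup (Fin 2) K)) =
    {g : Matrix.SpecialLinearGroup (Fin 2) K | ∀ i j : Fin 2, (g : Matrix (Fin 2) (Fin 2) K) i j ∈ IntermediateField.adjoin k ({α} : Set K)} := by
  classical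
  have hint : IsIntegral k α := hα.isIntegral
  have h2k : (2 : k) ≠ 0 := Ring.two_ne_zero hk2
  have h2K : (2 : K) ≠ 0 := by
    intro h
    apply h2k
    apply (algebraMap k K).injective
    rw [map_ofNat, h, map_zero]
  -- the generating set
  have hgen : ({g : Matrix.SpecialLinearGroup (Fin 2) K | ∃ c : k, (g : Matrix (Fin 2) (Fin 2) K) = !![1, algebraMap k K c; 0, 1]} ∪
        {g : Matrix.SpecialLinearGroup (Fin 2) K | ∃ c : k, (g : Matrix (Fin 2) (Fin 2) K) = !![1, 0; algebraMap k K c * α, 1]}) =
      ({g | ∃ c : k, g = Cfsg.Agent.Lead.DicksonA.uu (algebraMap k K c)} ∪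
        {g | ∃ c : k, g = Cfsg.Agent.Lead.DicksonA.ll (algebraMap k K c * α)}) := by
    congr 1
    · ext g
      constructor
      · rintro ⟨c, h⟩; exact ⟨c, Subtype.ext h⟩
      · rintro ⟨c, rfl⟩; exact ⟨c, rfl⟩
    · ext g
      constructor
      · rintro ⟨c, h⟩; exact ⟨c, Subtype.ext h⟩
      · rintro ⟨c, rfl⟩; exact ⟨c, rfl⟩
  rw [hgen]
  change ((Cfsg.Agent.Helper8.Dick.LL k α : Subgroup (Matrix.SpecialLinearGroup (Fin 2) K)) :
    Set (Matrix.SpecialLinearGroup (Fin 2) K)) = _
  set F : Subfield K := (IntermediateField.adjoin k ({α} : Set K)).toSubfield with hF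
  have hkF : ∀ c : k, algebraMap k K c ∈ F := fun c =>
    IntermediateField.algebraMap_mem _ c
  have hαF : α ∈ F := IntermediateField.mem_adjoin_simple_self k α
  have hmem : ∀ t : K, t ∈ F → t ∈ Algebra.adjoin k {α} := by
    intro t ht
    rw [← IntermediateField.adjoin_simple_toSubalgebra_of_isAlgebraic hα]
    exact ht
  have hU : ∀ t ∈ F, t ∈ Cfsg.Agent.Helper8.Dick.Uset k α := by
    intro t ht
    rcases finite_or_infinite k with hfin | hinf
    · have hFfin : Finite F := by
        have : FiniteDimensional k (IntermediateField.adjoin k ({α} : Set K)) :=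
          IntermediateField.adjoin.finiteDimensional hint
        have : Finite (IntermediateField.adjoin k ({α} : Set K)) :=
          Module.finite_of_finite k
        exact Finite.of_injective
          (fun z : F => (⟨z.1, z.2⟩ : IntermediateField.adjoin k ({α} : Set K)))
          (fun a b hab => Subtype.ext (by simpa using hab))
      have hcard : 4 ≤ Nat.card k := by
        have := Fintype.ofFinite k
        have h1 : 1 < Nat.card k := by
          rw [Nat.card_eq_fintype_card]; exact Fintype.one_lt_card
        have h2 : Nat.card k ≠ 2 := by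
          intro h
          apply h2k
          have := Nat.cast_card_eq_zero k
          rw [← Nat.card_eq_fintype_card, h] at this
          exact_mod_cast this
        omega
      exact Cfsg.Agent.Helper8.Dick.adjoin_le_Uset_of_finite α hα0 hkF hαF hFfin h2K h2k hcard
        (hmem t ht)
    · exact Cfsg.Agent.Helper8.Dick.adjoin_le_Uset α hint hα0 h2k (hmem t ht)
  rw [Cfsg.Agent.Helper8.Dick.LL_eq_entSub α hα0 hkF hαF hU]
  rfl

end Cfsg.Agent.S5060
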