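import Cfsg.Statements.S5067

set_option autoImplicit false
open Cfsg

namespace Cfsg.Agent.S5067

open scoped commutatorElement

variable {P : Type*} [Group P]

/-- A subgroup containing the commutator subgroup is normal. -/
theorem normal_of_commutator_le {H : Subgroup P} (h : ⁅(⊤ : Subgroup P), (⊤ : Subgroup P)⁆ ≤ H) : H.Normal := by
  constructor
  intro n hn g
  have h1 : g * n * g⁻¹ = ⁅g, n⁆ * n := by
    rw [commutatorElement_def]
    group
  rw [h1]
  exact H.mul_mem (h (Subgroup.commutator_mem_commutator (Subgroup.mem_top g) (Subgroup.mem_top n))) hn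

/-- The normal closure of an abelian subgroup `E` with `E ⊔ F = ⊤`, `F` abelian, lies in `E P'`. -/
theorem normalClosure_le (E : Subgroup P) :
    Subgroup.normalClosure (E : Set P) ≤ E ⊔ ⁅(⊤ : Subgroup P), (⊤ : Subgroup P)⁆ := by
  have : (E ⊔ ⁅(⊤ : Subgroup P), (⊤ : Subgroup P)⁆).Normal := normal_of_commutator_le le_sup_right
  exact Subgroup.normalClosure_le_normal (fun x hx => (le_sup_left : E ≤ _) hx)

/-- The derived subgroup of the normal closure lies in the third term of the lower central series. -/
theorem commutator_normalClosure_le {E : Subgroup P} (hE : IsMulCommutative ↥E) :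
    ⁅Subgroup.normalClosure (E : Set P), Subgroup.normalClosure (E : Set P)⁆ ≤
      ⁅⁅(⊤ : Subgroup P), (⊤ : Subgroup P)⁆, (⊤ : Subgroup P)⁆ := by
  set K : Subgroup P := ⁅⁅(⊤ : Subgroup P), (⊤ : Subgroup P)⁆, (⊤ : Subgroup P)⁆ with hK
  have hcentral : ∀ a ∈ ⁅(⊤ : Subgroup P), (⊤ : Subgroup P)⁆, ∀ g : P,
      Commute (QuotientGroup.mk' K a) (QuotientGroup.mk' K g) := by
    intro a ha g
    rw [← commutatorElement_eq_one_iff_commute, ← map_commutatorElement,
      QuotientGroup.mk'_apply, QuotientGroup.eq_one_iff]
    exact Subgroup.commutator_mem_commutator ha (Subgroup.mem_top g)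
  have hEcomm : ∀ e ∈ E, ∀ e' ∈ E, Commute (QuotientGroup.mk' K e) (QuotientGroup.mk' K e') := by
    intro e he e' he'
    have h1 : e * e' = e' * e := by
      have := (isMulCommutative_iff.1 hE) ⟨e, he⟩ ⟨e', he'⟩
      exact congrArg Subtype.val this
    change QuotientGroup.mk' K e * QuotientGroup.mk' K e' = QuotientGroup.mk' K e' * QuotientGroup.mk' K e
    rw [← map_mul, ← map_mul, h1]
  rw [Subgroup.commutator_le]
  intro g₁ hg₁ g₂ hg₂
  have h1 := normalClosure_le E hg₁
  have h2 := normalClosure_le E hg₂
  rw [← SetLike.mem_coe, Subgroup.mul_normal] at h1 h2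
  obtain ⟨e, he, a, ha, rfl⟩ := h1
  obtain ⟨e', he', a', ha', rfl⟩ := h2
  rw [← QuotientGroup.eq_one_iff, ← QuotientGroup.mk'_apply, map_commutatorElement,
    commutatorElement_eq_one_iff_commute, map_mul, map_mul]
  exact Commute.mul_left (Commute.mul_right (hEcomm e he e' he') (hcentral a' ha' e).symm)
    (Commute.mul_right (hcentral a ha e') (hcentral a ha a'))

theorem lcs_le {E : Subgroup P} (hE : IsMulCommutative ↥E) :
    ∀ i : ℕ, (Subgroup.normalClosure (E : Set P)).lowerCentralSeries (i + 1) ≤
      (⊤ : Subgroup P).lowerCentralSeries (i + 2) := by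
  intro i
  induction i with
  | zero => exact commutator_normalClosure_le hE
  | succ i ih =>
    rw [Subgroup.lowerCentralSeries_succ, Subgroup.lowerCentralSeries_succ _ (i + 2)]
    exact Subgroup.commutator_mono ih le_top

theorem class_lt [Group.IsNilpotent P] (hna : ¬ IsMulCommutative P) {E : Subgroup P}
    (hE : IsMulCommutative ↥E) :
    Group.nilpotencyClass ↥(Subgroup.normalClosure (E : Set P)) < Group.nilpotencyClass P := by
  have hc2 : 2 ≤ Group.nilpotencyClass P := by
    by_contra hlt
    have h1 : Group.nilpotencyClass P ≤ 1 := by omega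
    rw [← Subgroup.lowerCentralSeries_eq_bot_iff_nilpotencyClass_le] at h1
    apply hna
    rw [isMulCommutative_iff]
    intro a b
    have hmem : ⁅a, b⁆ ∈ (⊤ : Subgroup P).lowerCentralSeries 1 :=
      Subgroup.commutator_mem_commutator (Subgroup.mem_top a) (Subgroup.mem_top b)
    rw [h1, Subgroup.mem_bot, commutatorElement_eq_one_iff_commute] at hmem
    exact hmem
  obtain ⟨c, hc⟩ : ∃ c, Group.nilpotencyClass P = c + 2 := ⟨Group.nilpotencyClass P - 2, by omega⟩
  have h1 : (Subgroup.normalClosure (E : Set P)).lowerCentralSeries (c + 1) = ⊥ := by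
    rw [eq_bot_iff]
    refine (lcs_le hE c).trans ?_
    rw [← hc, Subgroup.lowerCentralSeries_nilpotencyClass]
  have h2 : Group.nilpotencyClass ↥(Subgroup.normalClosure (E : Set P)) ≤ c + 1 := by
    rw [← Subgroup.lowerCentralSeries_eq_bot_iff_nilpotencyClass_le,
      ← (Subgroup.map_injective (Subgroup.subtype_injective _)).eq_iff,
      Subgroup.top_subtype_lowerCentralSeries, h1, Subgroup.map_bot]
  omega

end Cfsg.Agent.S5067

namespace Cfsg.Agent.S5067

/-- Let P be a non-abelian nilpotent p-group (every element of p-power order; P possibly infinite) generated by two abelian subgroups E and F. Then the normal closure of E in P, and likewise that of F, has nilpotency class strictly smaller than that of P. -/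
theorem result {P : Type*} [Group P] {p : ℕ} [Fact p.Prime] (hP : IsPGroup p P) [Group.IsNilpotent P]
    (hna : ¬ IsMulCommutative P) {E F : Subgroup P} (hE : IsMulCommutative ↥E) (hF : IsMulCommutative ↥F) (hgen : E ⊔ F = ⊤) :
    Group.nilpotencyClass ↥(Subgroup.normalClosure (E : Set P)) < Group.nilpotencyClass P ∧
    Group.nilpotencyClass ↥(Subgroup.normalClosure (F : Set P)) < Group.nilpotencyClass P := by
  have _h1 := hP
  have _h2 := hgen
  exact ⟨class_lt hna hE, class_lt hna hF⟩

end Cfsg.Agent.S5067
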