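import Cfsg.Statements.S5078
import Mathlib
import Cfsg.Agent.Lead.Fusion

set_option autoImplicit false
open Cfsg

namespace Cfsg.Agent.S5078

open Cfsg.Agent.Lead Cfsg.FusionSystem

/-- In any fusion system over a finite subgroup S, a receptive subgroup is fully centralized. -/
theorem result {Ω : Type*} [Group Ω] {S : Subgroup Ω} [Finite S] (F : Cfsg.FusionSystem S) (P : Subgroup Ω) (hP : F.IsReceptive P) : F.IsFullyCentralized P := by
  refine ⟨hP.1, ?_⟩
  rintro Q ⟨φ, hφ, rfl⟩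
  obtain ⟨ψ, hψ, hinv⟩ := F.inv_mem hφ
  have hrange : ψ.range = P := by
    ext y
    constructor
    · rintro ⟨⟨_, x, rfl⟩, rfl⟩
      rw [hinv x]; exact x.2
    · intro hy
      exact ⟨⟨φ ⟨y, hy⟩, ⟨y, hy⟩, rfl⟩, hinv ⟨y, hy⟩⟩
  obtain ⟨ψ', hψ', hext⟩ := hP.2 φ.range ψ hψ hrange
  have hQS : φ.range ≤ S := Fusion.range_le F hφ
  have hQext : φ.range ≤ extender S φ.range ψ :=
    Fusion.le_extender φ.range hQS ψ (fun x => Fusion.map_mem F hψ x)
  have hCext : centralizerIn S φ.range ≤ extender S φ.range ψ :=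
    Fusion.centralizerIn_le_extender φ.range ψ
  have hfin : Finite (centralizerIn S P) := by
    have : centralizerIn S P ≤ S := inf_le_left
    exact Finite.of_injective (Subgroup.inclusion this) (Subgroup.inclusion_injective this)
  let f : centralizerIn S φ.range → centralizerIn S P := fun c =>
    ⟨ψ' ⟨c.1, hCext c.2⟩, by
      refine ⟨Fusion.map_mem F hψ' _, ?_⟩
      change _ ∈ Subgroup.centralizer (P : Set Ω)
      rw [Subgroup.mem_centralizer_iff]
      intro y hy
      -- y = ψ (φ y)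
      have hq : φ ⟨y, hy⟩ ∈ φ.range := ⟨⟨y, hy⟩, rfl⟩
      have h1 : ψ' ⟨φ ⟨y, hy⟩, hQext hq⟩ = y := by
        rw [hext (φ ⟨y, hy⟩) hq (hQext hq)]
        exact hinv ⟨y, hy⟩
      have hcomm : (φ ⟨y, hy⟩ : Ω) * c.1 = c.1 * φ ⟨y, hy⟩ := by
        have : c.1 ∈ Subgroup.centralizer (φ.range : Set Ω) := c.2.2
        rw [Subgroup.mem_centralizer_iff] at this
        exact this _ hq
      have h2 : (⟨φ ⟨y, hy⟩, hQext hq⟩ : extender S φ.range ψ) * ⟨c.1, hCext c.2⟩ =
          ⟨c.1, hCext c.2⟩ * ⟨φ ⟨y, hy⟩, hQext hq⟩ := Subtype.ext hcomm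
      have h3 := congrArg ψ' h2
      rw [map_mul, map_mul, h1] at h3
      exact h3⟩
  have hinj : Function.Injective f := by
    intro c c' h
    have h1 : ψ' ⟨c.1, hCext c.2⟩ = ψ' ⟨c'.1, hCext c'.2⟩ := congrArg Subtype.val h
    have h2 := F.injective_of_mem hψ' h1
    apply Subtype.ext
    exact congrArg (fun z : extender S φ.range ψ => (z : Ω)) h2
  exact Nat.card_le_card_of_injective f hinj

end Cfsg.Agent.S5078
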