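import Cfsg.Statements.S5080
import Mathlib
import Cfsg.Agent.Lead.Fusion
import Cfsg.Agent.Lead.StronglyEmbedded

set_option autoImplicit false
open Cfsg

namespace Cfsg.Agent.S5080

open Cfsg.Agent.Lead Cfsg.FusionSystem

/-- `Inn(P) ≤ Aut_F(P)` for `P ≤ S`. -/
lemma inn_le_autGroup {Ω : Type*} [Group Ω] {S : Subgroup Ω} (F : Cfsg.FusionSystem S) (P : Subgroup Ω)
    (hP : P ≤ S) : Cfsg.Inn P ≤ F.autGroup P := by
  rintro _ ⟨u, rfl⟩
  apply Subgroup.subset_closure
  have h := F.conj_mem (P := P) (g := (u : Ω)) hP (hP u.2)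
  have : P.subtype.comp (MulAut.conj u).toMonoidHom = conjHom P (u : Ω) := by
    ext x
    simp [conjHom]
  show P.subtype.comp (MulAut.conj u).toMonoidHom ∈ F.Hom P
  rw [this]; exact h

/-- In a saturated fusion system over a finite p-group, every essential subgroup is radical (it is centric and fully normalized by definition, so it is centric-radical and fully normalized). -/
theorem result {Ω : Type*} [Group Ω] {S : Subgroup Ω} [Finite S] (p : ℕ) [Fact p.Prime] (hS : IsPGroup p S) (F : Cfsg.FusionSystem S) (hF : F.IsSaturated p) (P : Subgroup Ω) (hP : F.IsEssential p P) : F.IsRadical p P := by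
  obtain ⟨hcent, hfn, hnorm, E, hE⟩ := hP
  have hPS : P ≤ S := hcent.1
  refine ⟨hPS, ?_⟩
  have hPfin : Finite P := Finite.of_injective (Subgroup.inclusion hPS) (Subgroup.inclusion_injective hPS)
  have hPp : IsPGroup p P := hS.to_le hPS
  have hAutfin : Finite (MulAut P) := inferInstance
  have hInnle := inn_le_autGroup F P hPS
  -- Inn P is a p-group
  have hInnp : IsPGroup p (Cfsg.Inn P) := by
    have : Cfsg.Inn P = (⊤ : Subgroup P).map (MulAut.conj : P →* MulAut P) := by
      rw [← MonoidHom.range_eq_map]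
    rw [this]
    exact (hPp.to_subgroup ⊤).map _
  have hIp : IsPGroup p ((Cfsg.Inn P).subgroupOf (F.autGroup P)) := hInnp.comap_subtype
  have h1 : (Cfsg.Inn P).subgroupOf (F.autGroup P) ≤ Cfsg.pCore p (F.autGroup P) :=
    le_sSup ⟨hnorm, hIp⟩
  have hbot := pCore_eq_bot_of_stronglyPEmbedded p E hE
  have h2 : Cfsg.pCore p (F.autGroup P) ≤ (Cfsg.Inn P).subgroupOf (F.autGroup P) := by
    have hmapp : IsPGroup p ((Cfsg.pCore p (F.autGroup P)).map
        (QuotientGroup.mk' ((Cfsg.Inn P).subgroupOf (F.autGroup P)))) := (isPGroup_pCore' p).map _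
    have hmapn : ((Cfsg.pCore p (F.autGroup P)).map
        (QuotientGroup.mk' ((Cfsg.Inn P).subgroupOf (F.autGroup P)))).Normal :=
      Subgroup.Normal.map inferInstance _ (QuotientGroup.mk'_surjective _)
    have h3 : (Cfsg.pCore p (F.autGroup P)).map
        (QuotientGroup.mk' ((Cfsg.Inn P).subgroupOf (F.autGroup P))) ≤
        Cfsg.pCore p (F.autGroup P ⧸ (Cfsg.Inn P).subgroupOf (F.autGroup P)) := le_sSup ⟨hmapn, hmapp⟩
    rw [hbot, le_bot_iff, Subgroup.map_eq_bot_iff, QuotientGroup.ker_mk'] at h3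
    exact h3
  rw [le_antisymm h2 h1]
  exact Subgroup.map_subgroupOf_eq_of_le hInnle

end Cfsg.Agent.S5080
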