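import Cfsg.Statements.S5100
import Mathlib
import Cfsg.Agent.Lead.GroupFusion

set_option autoImplicit false
open Cfsg

namespace Cfsg.Agent.S5100

open Cfsg.Agent.Lead Cfsg.FusionSystem

/-- In the fusion system of a finite group G on a Sylow p-subgroup S, a subgroup P ≤ S is fully normalized if and only if N_S(P) is a Sylow p-subgroup of N_G(P). -/
theorem result {G : Type*} [Group G] [Finite G] (p : ℕ) [Fact p.Prime] (S : Sylow p G) (P : Subgroup G) (hP : P ≤ S) : (Cfsg.groupFusionSystem (S : Subgroup G)).IsFullyNormalized P ↔ ∃ R : Sylow p ↥(Subgroup.normalizer (P : Set G)), (R : Subgroup ↥(Subgroup.normalizer (P : Set G))) = (Cfsg.FusionSystem.normalizerIn (S : Subgroup G) P).subgroupOf (Subgroup.normalizer (P : Set G)) := by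
  have hNle : ∀ Q : Subgroup G, normalizerIn (S : Subgroup G) Q ≤ Subgroup.normalizer (Q : Set G) :=
    fun Q => inf_le_right
  have hNp : ∀ Q : Subgroup G, IsPGroup p (normalizerIn (S : Subgroup G) Q) :=
    fun Q => S.isPGroup'.to_le inf_le_left
  rw [exists_sylow_eq_subgroupOf_iff _ _ (hNle P)]
  constructor
  · rintro ⟨_, hfull⟩
    obtain ⟨T, hUT, hTH, hTp, hTcard⟩ := exists_le_card_eq_ppart (hNp P) (hNle P)
    obtain ⟨g, hg⟩ := exists_conj_le_sylow S T hTp
    have hPT : P ≤ T := by
      refine le_trans ?_ hUT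
      exact le_inf hP Subgroup.le_normalizer
    have hQS : P.map (MulAut.conj g).toMonoidHom ≤ (S : Subgroup G) := (Subgroup.map_mono hPT).trans hg
    have hconj : (groupFusionSystem (S : Subgroup G)).IsConj P (P.map (MulAut.conj g).toMonoidHom) :=
      (groupFusionSystem_isConj_iff _ _ _).mpr ⟨hP, hQS, g, rfl⟩
    have h1 := hfull _ hconj
    have h2 : T.map (MulAut.conj g).toMonoidHom ≤
        normalizerIn (S : Subgroup G) (P.map (MulAut.conj g).toMonoidHom) := by
      apply le_inf hg
      rw [normalizer_map_conj]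
      exact Subgroup.map_mono hTH
    have h3 : Nat.card T ≤ Nat.card (normalizerIn (S : Subgroup G) (P.map (MulAut.conj g).toMonoidHom)) := by
      rw [← card_map_conj T g]
      exact Subgroup.card_le_of_le h2
    have h4 : Nat.card (normalizerIn (S : Subgroup G) P) ≤ Nat.card T := Subgroup.card_le_of_le hUT
    omega
  · intro hcard
    refine ⟨hP, ?_⟩
    intro Q hQ
    obtain ⟨_, hQS, g, rfl⟩ := (groupFusionSystem_isConj_iff _ _ _).mp hQ
    rw [hcard]
    have := card_le_ppart_of_isPGroup (hNp (P.map (MulAut.conj g).toMonoidHom)) (hNle _)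
    rw [normalizer_map_conj, card_map_conj] at this
    exact this

end Cfsg.Agent.S5100
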