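import Cfsg.Statements.S5101
import Mathlib
import Cfsg.Agent.Lead.GroupFusion

set_option autoImplicit false
open Cfsg

namespace Cfsg.Agent.S5101

open Cfsg.Agent.Lead Cfsg.FusionSystem

/-- In the fusion system of a finite group G on a Sylow p-subgroup S, a subgroup P ≤ S is fully centralized if and only if C_S(P) is a Sylow p-subgroup of C_G(P). -/
theorem result {G : Type*} [Group G] [Finite G] (p : ℕ) [Fact p.Prime] (S : Sylow p G) (P : Subgroup G) (hP : P ≤ S) : (Cfsg.groupFusionSystem (S : Subgroup G)).IsFullyCentralized P ↔ ∃ R : Sylow p ↥(Subgroup.centralizer (P : Set G)), (R : Subgroup ↥(Subgroup.centralizer (P : Set G))) = (Cfsg.FusionSystem.centralizerIn (S : Subgroup G) P).subgroupOf (Subgroup.centralizer (P : Set G)) := by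
  have hNle : ∀ Q : Subgroup G, centralizerIn (S : Subgroup G) Q ≤ Subgroup.centralizer (Q : Set G) :=
    fun Q => inf_le_right
  have hNp : ∀ Q : Subgroup G, IsPGroup p (centralizerIn (S : Subgroup G) Q) :=
    fun Q => S.isPGroup'.to_le inf_le_left
  rw [exists_sylow_eq_subgroupOf_iff _ _ (hNle P)]
  constructor
  · rintro ⟨_, hfull⟩
    obtain ⟨T, hUT, hTH, hTp, hTcard⟩ := exists_le_card_eq_ppart (hNp P) (hNle P)
    -- T * P is a p-group since T centralizes P
    have hTPp : IsPGroup p ↥(T ⊔ P) := by
      have hPn : P ≤ Subgroup.normalizer (T : Set G) := by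
        intro x hx
        rw [Subgroup.mem_normalizer_iff]
        intro t
        have hcomm : ∀ t ∈ T, x * t * x⁻¹ = t := by
          intro t ht
          have := (Subgroup.mem_centralizer_iff.mp (hTH ht)) x hx
          rw [this]; group
        constructor
        · intro ht; rw [hcomm t ht]; exact ht
        · intro ht
          have h1 := hcomm _ ht
          have h2 : x⁻¹ * (x * (x * t * x⁻¹) * x⁻¹) * x = x⁻¹ * (x * t * x⁻¹) * x := by rw [h1]
          have h3 : x * t * x⁻¹ = t := by
            have e1 : x⁻¹ * (x * (x * t * x⁻¹) * x⁻¹) * x = x * t * x⁻¹ := by group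
            have e2 : x⁻¹ * (x * t * x⁻¹) * x = t := by group
            rw [e1, e2] at h2; exact h2
          rw [← h3]; exact ht
      exact IsPGroup.to_sup_of_normal_left' hTp (S.isPGroup'.to_le hP) hPn
    obtain ⟨g, hg⟩ := exists_conj_le_sylow S (T ⊔ P) hTPp
    have hQS : P.map (MulAut.conj g).toMonoidHom ≤ (S : Subgroup G) :=
      (Subgroup.map_mono le_sup_right).trans hg
    have hTS : T.map (MulAut.conj g).toMonoidHom ≤ (S : Subgroup G) :=
      (Subgroup.map_mono le_sup_left).trans hg
    have hconj : (groupFusionSystem (S : Subgroup G)).IsConj P (P.map (MulAut.conj g).toMonoidHom) :=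
      (groupFusionSystem_isConj_iff _ _ _).mpr ⟨hP, hQS, g, rfl⟩
    have h1 := hfull _ hconj
    have h2 : T.map (MulAut.conj g).toMonoidHom ≤
        centralizerIn (S : Subgroup G) (P.map (MulAut.conj g).toMonoidHom) := by
      apply le_inf hTS
      rw [centralizer_map_conj]
      exact Subgroup.map_mono hTH
    have h3 : Nat.card T ≤ Nat.card (centralizerIn (S : Subgroup G) (P.map (MulAut.conj g).toMonoidHom)) := by
      rw [← card_map_conj T g]
      exact Subgroup.card_le_of_le h2
    have h4 : Nat.card (centralizerIn (S : Subgroup G) P) ≤ Nat.card T := Subgroup.card_le_of_le hUT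
    omega
  · intro hcard
    refine ⟨hP, ?_⟩
    intro Q hQ
    obtain ⟨_, hQS, g, rfl⟩ := (groupFusionSystem_isConj_iff _ _ _).mp hQ
    rw [hcard]
    have := card_le_ppart_of_isPGroup (hNp (P.map (MulAut.conj g).toMonoidHom)) (hNle _)
    rw [centralizer_map_conj, card_map_conj] at this
    exact this

end Cfsg.Agent.S5101
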