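import Cfsg.Statements.S5107
import Mathlib
import Cfsg.Agent.Lead.FusionExt
import Cfsg.Agent.S5076

set_option autoImplicit false
open Cfsg

namespace Cfsg.Agent.S5107

open Cfsg.Agent.Lead

/-- If a Sylow p-subgroup S of a finite group G has nilpotency class at most two and its centre is strongly closed in S with respect to G, then every map of the fusion system of G on S is conjugation by an element of N_G(S), and S is the largest subgroup normal in that fusion system. -/
theorem result {G : Type*} [Group G] [Finite G] (p : ℕ) [Fact p.Prime] (S : Sylow p G) (hcl : ⁅(S : Subgroup G), (S : Subgroup G)⁆ ≤ (S : Subgroup G) ⊓ Subgroup.centralizer ((S : Subgroup G) : Set G)) (hZ : Cfsg.IsStronglyClosed ((S : Subgroup G) ⊓ Subgroup.centralizer ((S : Subgroup G) : Set G)) (S : Subgroup G)) : (∀ (P : Subgroup G) (φ : P →* G), φ ∈ (Cfsg.groupFusionSystem (S : Subgroup G)).Hom P → ∃ g ∈ Subgroup.normalizer ((S : Subgroup G) : Set G), ∀ x : P, φ x = g * (x : G) * g⁻¹) ∧ (Cfsg.groupFusionSystem (S : Subgroup G)).core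 = S := by
  set F := Cfsg.groupFusionSystem (S : Subgroup G) with hFdef
  have hF : F.IsSaturated p := Cfsg.Agent.S5076.result p S
  have hS : IsPGroup p (S : Subgroup G) := S.isPGroup'
  set Z : Subgroup G := (S : Subgroup G) ⊓ Subgroup.centralizer ((S : Subgroup G) : Set G) with hZdef
  have hZsc : F.StronglyClosed Z := by
    refine ⟨inf_le_left, fun R hR φ hφ x => ?_⟩
    obtain ⟨-, hφS, g, hg⟩ := hφ
    rw [hg x]
    apply hZ.2 _ (hR x.2) g
    rw [← hg x]
    exact hφS x
  have hSsc : F.StronglyClosed (S : Subgroup G) :=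
    ⟨le_rfl, fun R _ φ hφ x => Fusion.map_mem F hφ x⟩
  have hSn : F.IsNormal (S : Subgroup G) := by
    apply Fusion.isNormal_of_fin_chain p hS F hF (S : Subgroup G) 2 ![⊥, Z, (S : Subgroup G)] rfl rfl
    intro i
    fin_cases i
    · refine ⟨hZsc, ?_⟩
      show ⁅(S : Subgroup G), Z⁆ ≤ ⊥
      rw [Subgroup.commutator_le]
      intro a ha b hb
      rw [Subgroup.mem_bot, commutatorElement_eq_one_iff_mul_comm]
      have := (Subgroup.mem_inf.mp hb).2
      rw [Subgroup.mem_centralizer_iff] at this
      exact this a ha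
    · exact ⟨hSsc, hcl⟩
  refine ⟨fun P φ hφ => ?_, ?_⟩
  · have hPS := Fusion.src_le F hφ
    obtain ⟨α, hα, hαx⟩ := Fusion.exists_aut_extension_of_isNormal F hSn P hPS φ hφ
    have h1 := (Fusion.mem_autGroup_iff F le_rfl α).mp hα
    obtain ⟨-, -, g, hg⟩ := h1
    refine ⟨g, ?_, fun x => ?_⟩
    · apply mem_normalizer_of_conj_mem_of_finite
      intro y hy
      have := hg ⟨y, hy⟩
      rw [← this]
      exact (α ⟨y, hy⟩).2
    · rw [← hαx x]
      exact hg (Subgroup.inclusion hPS x)
  · apply le_antisymm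
    · apply sSup_le
      intro Q hQ
      exact hQ.1
    · exact le_sSup hSn

end Cfsg.Agent.S5107
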