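import Mathlib
import Cfsg.Statements.S5130
import Cfsg.Agent.Helper3.DirFacB
import Cfsg.Agent.S5097
-- import your own Cfsg.Agent.* helpers here

set_option autoImplicit false
open Cfsg

namespace Cfsg.Agent.S5130

open Cfsg.Agent.Lead Cfsg.FusionSystem Cfsg.Agent.Helper3.DirFac

/-- Let F be a saturated fusion system over a finite p-group S that is the direct product of two subgroups S₁ and S₂, each strongly closed in F. Let R be the full subsystem of F over S₁ (all maps of F between subgroups of S₁) and R′ the subsystem over S₁ of those maps that extend to the subgroup generated with S₂ fixing S₂ elementwise. Then R and R′ are saturated, R′ is normal in F and in R, and R is weakly normal in F. -/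
theorem result {Ω : Type*} [Group Ω] {S : Subgroup Ω} [Finite S] (p : ℕ) [Fact p.Prime] (hS : IsPGroup p S) (F : Cfsg.FusionSystem S) (hF : F.IsSaturated p) (S₁ S₂ : Subgroup Ω) (hprod : Cfsg.IsInternalDirectProduct S₁ S₂ S) (h₁ : F.StronglyClosed S₁) (h₂ : F.StronglyClosed S₂) (R R' : Cfsg.FusionSystem S₁) (hR : ∀ P : Subgroup Ω, P ≤ S₁ → R.Hom P = F.Hom P) (hR' : ∀ P : Subgroup Ω, P ≤ S₁ → R'.Hom P = F.centralizerHom S₂ P) : R.IsSaturated p ∧ R'.IsSaturated p ∧ R'.IsNormalIn F p ∧ R'.IsNormalIn R p ∧ R.IsWeaklyNormalIn F p := by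
  obtain ⟨hS₁, hS₂, hcomm, hint, hsup⟩ := hprod
  haveI : Finite S₁ := Fusion.finite_of_le hS₁
  have hS₁p : IsPGroup p S₁ := hS.to_le hS₁
  -- decomposition of `S`
  have hdec : ∀ g ∈ S, ∃ t ∈ S₁, ∃ c : Ω, (∀ x ∈ S₁, c * x = x * c) ∧ g = t * c := by
    intro g hg
    rw [← hsup] at hg
    obtain ⟨t, ht, c, hc, rfl⟩ := exists_mul_of_mem_sup hcomm hg
    exact ⟨t, ht, c, fun x hx => (hcomm x hx c hc).symm, rfl⟩
  have hRsat : R.IsSaturated p := full_isSaturated p F hF S₁ h₁ hdec R hR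
  -- the centralizer system of `S₂`
  have hfc : F.IsFullyCentralized S₂ := by
    refine ⟨hS₂, ?_⟩
    rintro Q ⟨φ, hφ, hr⟩
    have := (Fusion.weaklyClosed_of_stronglyClosed F h₂).2 φ hφ
    rw [← hr, this]
  haveI : Finite ↥(centralizerIn S S₂) := Fusion.finite_of_le inf_le_left
  have hCsat : (Cfsg.Agent.S5097.centSys F S₂ hS₂).IsSaturated p :=
    Fusion.centralizerSystem_isSaturated p hS F hF S₂ hfc _ (fun P => rfl)
  have hS₁C : S₁ ≤ centralizerIn S S₂ := le_centralizerIn_of_comm hS₁ hcomm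
  have hT' : (Cfsg.Agent.S5097.centSys F S₂ hS₂).StronglyClosed S₁ := by
    refine ⟨hS₁C, ?_⟩
    intro P hP φ hφ x
    exact h₁.2 P hP φ hφ.1 x
  have hdec' : ∀ g ∈ centralizerIn S S₂, ∃ t ∈ S₁, ∃ c : Ω, (∀ x ∈ S₁, c * x = x * c) ∧ g = t * c := by
    intro g hg
    exact hdec g hg.1
  have hR'sat : R'.IsSaturated p :=
    full_isSaturated p _ hCsat S₁ hT' hdec' R' (fun P hP => hR' P hP)
  -- subsystem facts
  have hRsub : R.IsSubsystemOf F := full_isSubsystemOf F R hR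
  have hR'subF : R'.IsSubsystemOf F := by
    intro P φ hφ
    rw [hR' P (R'.le_of_mem hφ).1] at hφ
    exact hφ.1
  have hR'subR : R'.IsSubsystemOf R := by
    intro P φ hφ
    rw [hR P (R'.le_of_mem hφ).1]
    exact hR'subF P hφ
  -- strong invariance
  have hSI_R : StrongInv.SI F R := si_full F h₁ R hR
  have hSI_R' : StrongInv.SI F R' := si_cent p hS F hF h₁ h₂ hint hcomm R' hR'
  have hSI_R'R : StrongInv.SI R R' := by
    intro P Q hPQ hQT φ hφ hφQ ψ hψ
    exact hSI_R' P Q hPQ hQT φ hφ hφQ ψ (hRsub Q hψ)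
  have hinvR : R.IsInvariantIn F := StrongInv.invariant_of_SI p hS F hF R hRsub h₁ hSI_R
  have hinvR' : R'.IsInvariantIn F := StrongInv.invariant_of_SI p hS F hF R' hR'subF h₁ hSI_R'
  have hinvR'R : R'.IsInvariantIn R :=
    StrongInv.invariant_of_SI p hS₁p R hRsat R' hR'subR (top_stronglyClosed R) hSI_R'R
  refine ⟨hRsat, hR'sat, ⟨⟨hR'sat, hF, hinvR'⟩, ?_⟩, ⟨⟨hR'sat, hRsat, hinvR'R⟩, ?_⟩,
    ⟨hRsat, hF, hinvR⟩⟩
  · exact ext_cond_F F ⟨hS₁, hS₂, hcomm, hint, hsup⟩ R' hR'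
  · exact ext_cond_R F R R' hR hR'


end Cfsg.Agent.S5130
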