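import Cfsg.Statements.S5142
import Cfsg.Agent.PPN.Local
import Cfsg.Agent.PPN.Claim

set_option autoImplicit false
open Cfsg

namespace Cfsg.Agent.S5142

/-- Let F be a saturated fusion system over a finite p-group S and E a normal subsystem of F over T. Then the p'-residual subsystem of E (the least saturated subsystem of E over T of index prime to p) is contained in every normal subsystem of F over T; together with its normality in F (the case of a weakly normal E) this makes it the least normal subsystem of F over T. -/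
theorem result {Ω : Type*} [Group Ω] {S : Subgroup Ω} [Finite S] (p : ℕ) [Fact p.Prime] (hS : IsPGroup p S) (F : Cfsg.FusionSystem S) (hF : F.IsSaturated p) {T : Subgroup Ω} (E : Cfsg.FusionSystem T) (hE : E.IsNormalIn F p) (D : Cfsg.FusionSystem T) (hD : E.IsPPrimeResidual p D) : ∀ D' : Cfsg.FusionSystem T, D'.IsNormalIn F p → D.IsSubsystemOf D' := by
  intro D' hD'
  have hTS : T ≤ S := hE.1.2.2.2.1.1
  have hfinT : Finite T := Cfsg.Agent.Lead.Fusion.finite_of_le hTS
  have hT : IsPGroup p T := hS.to_le hTS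
  have hEs : E.IsSaturated p := hE.1.1
  have hEF : E.IsSubsystemOf F := hE.1.2.2.1
  have hD'inv : D'.IsInvariantIn F := hD'.1.2.2
  -- the local part: `E1(E) ≤ D'`
  have hE1 := Cfsg.Agent.PPN.ppn_E1_le p hS F hTS E D' hEs hEF hD'inv
  -- the claim: `Aut_E^0(T) ≤ Aut_{D'}(T)`
  have hA0 : Cfsg.Agent.Helper2.PPrimeRes.A0 p E ≤ D'.autGroup T := by
    unfold Cfsg.Agent.Helper2.PPrimeRes.A0
    rw [Subgroup.closure_le]
    rintro a ⟨ha, P, hP, haP⟩
    exact Cfsg.Agent.PPN.ppn_claim p hS F hF E D' hE.1 hD'.1 a ha hP (hE1 P haP)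
  -- hence the maps `α ∘ φ₀` lie in `D'`
  have hbig : ∀ P : Subgroup Ω, E.IsCentric P → (Cfsg.Agent.Helper2.PPrimeRes.bigSys p E).Hom P ⊆ D'.Hom P := by
    rintro P - φ ⟨-, α, hα, φ₀, hφ₀, hv⟩
    obtain ⟨a, ha, hav⟩ := (Cfsg.Agent.Helper2.PPrimeRes.mem_FA_top p E α).mp hα
    have haD := (Cfsg.Agent.Lead.Fusion.mem_autGroup_iff D' le_rfl a).mp (hA0 ha)
    have hαD : α ∈ D'.Hom T := by
      have e : α = T.subtype.comp a.toMonoidHom := by
        ext s
        exact hav s
      rw [e]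
      exact haD
    have hφ₀D : φ₀ ∈ D'.Hom P := hE1 P hφ₀
    have h1 := D'.comp_mem hφ₀D hαD (fun x => (D'.le_of_mem hφ₀D).2 x)
    have e : φ = α.comp (φ₀.codRestrict T (fun x => (D'.le_of_mem hφ₀D).2 x)) := by
      ext x
      exact hv x
    rw [e]
    exact h1
  have hres : (Cfsg.Agent.Helper2.PPrimeRes.resSys p E).IsSubsystemOf D' := Cfsg.Agent.Helper2.PPrimeRes.resSys_le_of p E hbig
  have hDres : D.IsSubsystemOf (Cfsg.Agent.Helper2.PPrimeRes.resSys p E) :=
    hD.2.2 (Cfsg.Agent.Helper2.PPrimeRes.resSys p E) (Cfsg.Agent.Helper2.PPrimeRes.resSys_isSaturated p hT E hEs) (Cfsg.Agent.Helper2.PPrimeRes.resSys_main p hT E hEs).1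
  exact fun P φ hφ => hres P (hDres P hφ)

end Cfsg.Agent.S5142
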