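import Mathlib
import Cfsg.Agent.Helper2.ConstrQuot
import Cfsg.Agent.Lead.FusionSubnormalGroup
import Cfsg.Agent.Lead.FusionQuotGroup
import Cfsg.Statements.S5147
-- import your own Cfsg.Agent.* helpers here

set_option autoImplicit false
open Cfsg

namespace Cfsg.Agent.S5147

/-- Let G be a finite group with Sylow 2-subgroup S whose 2-fusion system on S is constrained, and L a component of G (a subnormal quasisimple subgroup). Then the 2-fusion system of L/Z(L) on the image of S ∩ L is constrained. -/
theorem result {G : Type*} [Group G] [Finite G] (S : Sylow 2 G) (hF : (Cfsg.groupFusionSystem (S : Subgroup G)).IsConstrained 2) (L : Subgroup G) (hL : Cfsg.IsComponent L) : (Cfsg.groupFusionSystem (((S : Subgroup G).subgroupOf L).map (QuotientGroup.mk' (Subgroup.center L)))).IsConstrained 2 := by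
  haveI : Fact (Nat.Prime 2) := ⟨Nat.prime_two⟩
  obtain ⟨hcard, -⟩ := Cfsg.Agent.Lead.Fusion.subnormal_constrained_aux 2 S hF L hL.1 _ rfl inf_le_right
  have hFL := Cfsg.Agent.Lead.Fusion.subnormal_constrained 2 S hF L hL.1
  have hS'eq : (S : Subgroup G).subgroupOf L = ((S : Subgroup G) ⊓ L).subgroupOf L := by
    rw [Subgroup.inf_subgroupOf_right]
  have hcard' : Nat.card ((S : Subgroup G).subgroupOf L) = 2 ^ (Nat.card L).factorization 2 := by
    rw [hS'eq, Cfsg.Agent.Lead.card_subgroupOf_of_le inf_le_right]; exact hcard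
  set SL : Sylow 2 L := Sylow.ofCard ((S : Subgroup G).subgroupOf L) hcard' with hSL
  have hSLcoe : (SL : Subgroup L) = (S : Subgroup G).subgroupOf L := rfl
  have hfac := Cfsg.Agent.Lead.Fusion.group_isFactorSystem 2 SL (Subgroup.center L)
  rw [hSLcoe] at hfac
  have hsat : (groupFusionSystem (((S : Subgroup G).subgroupOf L).map
      (QuotientGroup.mk' (Subgroup.center L)))).IsSaturated 2 := by
    have := Cfsg.Agent.S5076.result 2
      (SL.mapSurjective (QuotientGroup.mk'_surjective (Subgroup.center L)))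
    rwa [Sylow.coe_mapSurjective] at this
  refine ⟨hsat, ?_⟩
  have hS : IsPGroup 2 ((S : Subgroup G).subgroupOf L) := SL.isPGroup'
  refine Cfsg.Agent.Helper2.ConstrQuot.exists_normal_centric_factor 2 hS _ hFL
    (Z0 := (S : Subgroup G).subgroupOf L ⊓ Subgroup.center L) ?_ ?_ _ _ hfac
  · refine ⟨inf_le_left, ?_⟩
    rintro R hR φ ⟨-, -, g, hg⟩ x
    have hxZ : (x : L) ∈ Subgroup.center L := (hR x.2).2
    have hfix : φ x = (x : L) := by
      rw [hg x, Subgroup.mem_center_iff.mp hxZ g]
      group
    rw [hfix]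
    exact hR x.2
  · intro s _ z hz
    exact Subgroup.mem_center_iff.mp hz.2 s

end Cfsg.Agent.S5147
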