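import Cfsg.Statements.S5152
import Cfsg.Agent.CPT.Transport
import Cfsg.Agent.CPT.Step
import Cfsg.Agent.GFS.TopF

set_option autoImplicit false
open Cfsg

namespace Cfsg.Agent.S5152

/-- Dichotomy for saturated fusion systems: a saturated fusion system over a finite p-group is of characteristic p-type (the normalizer system of every nontrivial fully normalized subgroup is constrained) or of component type (the centralizer system of some fully normalized subgroup of order p has a component). -/
theorem result {Ω : Type*} [Group Ω] {S : Subgroup Ω} [Finite S] (p : ℕ) [Fact p.Prime] (hS : IsPGroup p S) (F : Cfsg.FusionSystem S) (hF : F.IsSaturated p) : F.IsOfCharacteristicPType p ∨ F.IsOfComponentType p := by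
  by_cases hch : F.IsOfCharacteristicPType p
  · exact Or.inl hch
  · right
    obtain ⟨U, X, hU, ⟨N, hN, hNnc⟩, hXcard, hXU, hXZ, hXfn⟩ :=
      Cfsg.Agent.CPT.cpt_exists_pair p hS F hF hch
    have hXS : X ≤ S := hXfn.1
    have hCnc := Cfsg.Agent.CPT.cpt_cent_not_constrained p hS F hF hU N hN hNnc hXU hXZ
      (Cfsg.Agent.S5097.centSys F X hXS) (fun _ => rfl)
    have hXfc :=
      (Cfsg.Agent.Lead.Fusion.fullyCentralized_fullyAutomized_of_fullyNormalized p hS F hF hXfn).1
    have hCsat := Cfsg.Agent.Lead.Fusion.centralizerSystem_isSaturated p hS F hF X hXfc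
      (Cfsg.Agent.S5097.centSys F X hXS) (fun _ => rfl)
    have hfinC : Finite ↥(FusionSystem.centralizerIn S X) :=
      Cfsg.Agent.Lead.Fusion.finite_of_le inf_le_left
    have hpC : IsPGroup p ↥(FusionSystem.centralizerIn S X) := hS.to_le inf_le_left
    have h := (Cfsg.Agent.GFS.gfs_top_main p hpC _ hCsat).not.mp hCnc
    obtain ⟨T, D, hD⟩ := not_not.mp h
    exact ⟨X, hXcard, hXfn, _, fun _ => rfl, T, D, hD⟩

end Cfsg.Agent.S5152
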