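import Cfsg.Statements.S5154
import Cfsg.Agent.Helper4.FusTrE

set_option autoImplicit false
open Cfsg

namespace Cfsg.Agent.S5154

/-- Let F be a saturated fusion system over a finite p-group S, C a component of F over T, and γ a map of F with source T. Then the image of C under γ — the fusion system over γ(T) whose maps are the homomorphisms induced along γ by the maps of C — is again a component of F. -/
theorem result {Ω : Type*} [Group Ω] {S : Subgroup Ω} [Finite S] (p : ℕ) [Fact p.Prime] (hS : IsPGroup p S) (F : Cfsg.FusionSystem S) (hF : F.IsSaturated p) {T : Subgroup Ω} (C : Cfsg.FusionSystem T) (hC : C.IsComponentIn F p) (γ : T →* Ω) (hγ : γ ∈ F.Hom T) (E : Cfsg.FusionSystem γ.range) (hE : C.IsFactorSystem ⊥ γ E) : E.IsComponentIn F p := by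
  have hTS : T ≤ S := (F.le_of_mem hγ).1
  have hfinT : Finite T := Cfsg.Agent.Lead.Fusion.finite_of_le hTS
  have hT : IsPGroup p T := hS.to_le hTS
  have hinj := F.injective_of_mem hγ
  have he : ∀ x : ↥T, Cfsg.Agent.Helper4.FusTr.rel (MonoidHom.ofInjective hinj) (x : Ω) (γ x) :=
    fun x => ⟨x.2, rfl⟩
  have hImg : Cfsg.Agent.Helper4.FusTr.Img (MonoidHom.ofInjective hinj) C E :=
    Cfsg.Agent.Helper4.FusTr.Img.of_isFactorSystem (MonoidHom.ofInjective hinj) γ
      (fun _ => rfl) hE
  exact ⟨Cfsg.Agent.Helper4.FusTr.subnormal_image p hS hC.1 hγ E (MonoidHom.ofInjective hinj) he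
    hImg, hImg.quasisimple p hT hC.2⟩

end Cfsg.Agent.S5154
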