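-- S5156: p-solvable fusion systems (terminating residual series iff constrained with p-solvable models).
-- Cuts: PSF/ConstrUp1-3 (constrainedness goes up), PSF/GroupSide, PSF/Bridge, PSF/ModelRes1G, PSF/ModelRes1, PSF/ModelRes2.
import Cfsg.Statements.S5156
import Cfsg.Agent.PSF.ConstrUp3
import Cfsg.Agent.PSF.GroupSide
import Cfsg.Agent.PSF.ModelRes1
import Cfsg.Agent.PSF.ModelRes2
import Cfsg.Agent.S5090
import Cfsg.Agent.S5113
import Cfsg.Agent.S5140
import Cfsg.Agent.Helper1.QCoreC

set_option autoImplicit false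
universe u
open Cfsg

namespace Cfsg.Agent.S5156

open Cfsg.FusionSystem Cfsg.Agent.Lead Cfsg.Agent.PSF

/-- A system over the trivial subgroup is constrained as soon as it is saturated. -/
theorem psf_bot_isConstrained {Ω : Type*} [Group Ω] {S : Subgroup Ω} (p : ℕ) (F : FusionSystem S)
    (hF : F.IsSaturated p) (hbot : S = ⊥) : F.IsConstrained p := by
  refine ⟨hF, ⊥, Fusion.bot_isNormal F, bot_le, fun Q _ => ?_⟩
  intro x hx
  have hxS : x ∈ S := (Subgroup.mem_inf.mp hx).1
  rw [hbot, Subgroup.mem_bot] at hxS
  rw [hxS]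
  exact Q.one_mem

/-- A model of a system over the trivial subgroup is the trivial group. -/
theorem psf_bot_model_isPSolvable {Ω : Type*} [Group Ω] {S : Subgroup Ω} (p : ℕ) [Fact p.Prime]
    (F : FusionSystem S) (hbot : S = ⊥) (G : Type u) [Group G] (ι : S →* G)
    (hG : F.IsModel p G ι) : IsPSolvable p G := by
  obtain ⟨hfin, -, ⟨T, hT⟩, hchar⟩ := hG
  have hrange : ι.range = ⊥ := by
    rw [eq_bot_iff]
    rintro _ ⟨s, rfl⟩
    have hs : (s : Ω) ∈ (⊥ : Subgroup Ω) := hbot ▸ s.2
    rw [Subgroup.mem_bot] at hs
    have : s = 1 := Subtype.ext hs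
    rw [this, map_one]
    exact Subgroup.one_mem _
  have hTbot : (T : Subgroup G) = ⊥ := hT.trans hrange
  have hcard : Nat.card G = Nat.card (T : Subgroup G) * (T : Subgroup G).index :=
    ((T : Subgroup G).card_mul_index).symm
  apply Cfsg.Agent.Helper1.QCore.isPSolvable_of_coprime
  have hidx : ((T : Subgroup G).index).Coprime p := by
    have h := T.not_dvd_index
    exact (Nat.Coprime.symm ((Nat.Prime.coprime_iff_not_dvd Fact.out).mpr h))
  rw [hcard, hTbot, Subgroup.card_bot, one_mul]
  rw [hTbot] at hidx
  exact hidx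

/-- The forward direction. -/
theorem psf_forward {Ω : Type u} [Group Ω] {S : Subgroup Ω} {F : FusionSystem S} {p : ℕ}
    (h : F.HasTerminatingResidualSeries p) :
    p.Prime → Finite S → IsPGroup p S → F.IsSaturated p →
      (F.IsConstrained p ∧
        ∀ (G : Type u) [Group G] (ι : S →* G), F.IsModel p G ι → IsPSolvable p G) := by
  induction h with
  | trivial F p hbot =>
    intro hp _ _ hF
    have : Fact p.Prime := ⟨hp⟩
    exact ⟨psf_bot_isConstrained p F hF hbot,
      fun G _ ι hG => psf_bot_model_isPSolvable p F hbot G ι hG⟩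
  | step F E p D hE hD _ ih =>
    intro hp hfin hS hF
    have : Fact p.Prime := ⟨hp⟩
    have := hfin
    have hEs : E.IsSaturated p := hE.1
    have hTS : E.hyperfocalSubgroup p ≤ _ := Fusion.hyperfocal_le E p
    have hTfin : Finite ↥(E.hyperfocalSubgroup p) := Fusion.finite_of_le hTS
    have ih' := ih hp hTfin (hS.to_le hTS) hD.1
    have hEc : E.IsConstrained p := psf_isConstrained_of_pResidual p hS E hEs D hD ih'.1
    refine ⟨psf_isConstrained_of_pPrimeResidual p hS F hF E hE hEc, ?_⟩
    intro G _ ι hG
    have : Finite G := hG.1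
    obtain ⟨ι1, -, hG1⟩ := psf_model_pPrimeResidual p hS F hF E hE G ι hG
    obtain ⟨ι2, -, hG2⟩ := psf_model_pResidual p hS E hEs D hD ↥(psfG1 p G) ι1 hG1
    have h2 := ih'.2 _ ι2 hG2
    exact (psf_isPSolvable_iff_pResidual_G1 (p := p)).mpr h2

/-- The backward direction, by induction on the order of a `p`-solvable model. -/
theorem psf_backward {Ω : Type u} [Group Ω] (p : ℕ) [Fact p.Prime] :
    ∀ (n : ℕ) {S : Subgroup Ω} [Finite S], IsPGroup p S → ∀ (F : FusionSystem S),
      F.IsSaturated p → ∀ (G : Type u) [Group G] (ι : S →* G), F.IsModel p G ι →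
        IsPSolvable p G → Nat.card G = n → F.HasTerminatingResidualSeries p := by
  intro n
  induction n using Nat.strong_induction_on with
  | _ n ih =>
    intro S _ hS F hF G _ ι hG hsolv hcard
    by_cases hbot : S = ⊥
    · exact HasTerminatingResidualSeries.trivial F p hbot
    · have : Finite G := hG.1
      -- `G` is nontrivial
      have : Nontrivial G := by
        obtain ⟨x, hx1⟩ := (Subgroup.ne_bot_iff_exists_ne_one (H := S)).mp hbot
        exact ⟨⟨ι x, 1, fun h => hx1 (hG.2.1.1 (h.trans (map_one ι).symm))⟩⟩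
      obtain ⟨E, hE⟩ := Cfsg.Agent.S5140.result p hS F hF
      have hEs : E.IsSaturated p := hE.1
      have hTS : E.hyperfocalSubgroup p ≤ S := Fusion.hyperfocal_le E p
      have hTfin : Finite ↥(E.hyperfocalSubgroup p) := Fusion.finite_of_le hTS
      obtain ⟨D, hD, -⟩ := Cfsg.Agent.S5113.result p hS E hEs (E.hyperfocalSubgroup p) hTS le_rfl
      have hD' : E.IsPResidual p D := hD
      obtain ⟨ι1, -, hG1⟩ := psf_model_pPrimeResidual p hS F hF E hE G ι hG
      obtain ⟨ι2, -, hG2⟩ := psf_model_pResidual p hS E hEs D hD' ↥(psfG1 p G) ι1 hG1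
      have hs2 : IsPSolvable p ↥(Cfsg.pResidual p ↥(psfG1 p G)) :=
        (psf_isPSolvable_iff_pResidual_G1 (p := p)).mp hsolv
      have hlt : Nat.card ↥(Cfsg.pResidual p ↥(psfG1 p G)) < n := by
        rw [← hcard, ← Nat.card_congr (psfG2Equiv p G).toEquiv]
        exact psf_card_G2_lt hsolv
      have hDser := ih _ hlt (hS.to_le hTS) D hD.1 _ ι2 hG2 hs2 rfl
      exact HasTerminatingResidualSeries.step F E p D hE hD' hDser

/-- A saturated fusion system over a finite p-group has a terminating alternating chain of p'-residual and p-residual subsystems (the chain reaches the trivial system — the notion of solvability adapted to fusion systems of p-solvable groups) if and only if it is constrained and its models are p-solvable (a model is a finite group realizing the system on a Sylow p-subgroup with self-centralizing largest normal p-subgroup; it exists and is unique up to isomorphism for constrained systems). -/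
theorem result {Ω : Type u} [Group Ω] {S : Subgroup Ω} [Finite S] (p : ℕ) [Fact p.Prime] (hS : IsPGroup p S) (F : Cfsg.FusionSystem S) (hF : F.IsSaturated p) : F.HasTerminatingResidualSeries p ↔ (F.IsConstrained p ∧ ∀ (G : Type u) [Group G] (ι : S →* G), F.IsModel p G ι → Cfsg.IsPSolvable p G) := by
  constructor
  · intro h
    exact psf_forward h Fact.out inferInstance hS hF
  · rintro ⟨hc, hmod⟩
    obtain ⟨G, _, ι, hG⟩ := Cfsg.Agent.S5090.result p hS F hc
    exact psf_backward p _ hS F hF G ι hG (hmod G ι hG) rfl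

end Cfsg.Agent.S5156
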