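import Mathlib
import Cfsg.Statements.S5178
import Cfsg.Agent.Helper3.ExIdxH
-- import your own Cfsg.Agent.* helpers here

set_option autoImplicit false
universe u
open Cfsg

namespace Cfsg.Agent.S5178

open Cfsg.FusionSystem Cfsg.Agent.Lead Cfsg.Agent.Lead.Meta Cfsg.Agent.Lead.Gex Cfsg.Agent.Helper3.ExIdx

open scoped commutatorElement

theorem exists_noncomm {Ω : Type*} [Group Ω] (p : ℕ) [hp : Fact p.Prime] (Q : Subgroup Ω)
    (hQ : Cfsg.IsExtraspecial p ↥Q) : ∃ a ∈ Q, ∃ b ∈ Q, a * b * a⁻¹ * b⁻¹ ≠ 1 := by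
  by_contra hcon
  push Not at hcon
  have h1 : commutator ↥Q = ⊥ := by
    rw [commutator_def, eq_bot_iff, Subgroup.commutator_le]
    intro a _ b _
    rw [Subgroup.mem_bot, commutatorElement_def]
    apply Subtype.ext
    exact hcon a.1 a.2 b.1 b.2
  have h2 : Nat.card (Subgroup.center ↥Q) = 1 := by
    rw [← hQ.1.2.2, h1]
    exact Subgroup.card_bot
  rw [hQ.2] at h2
  exact hp.out.one_lt.ne' h2

/-- With a central element `c ∉ Q`, `S = Q ⟨c⟩` and all commutators of `S` lie in `Z`. -/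
theorem cs_of {Ω : Type*} [Group Ω] {S : Subgroup Ω} [Finite S] (p : ℕ) [hp : Fact p.Prime]
    {Q Z : Subgroup Ω} (hx : XS p S Q Z) {c : Ω} (hcS : c ∈ S) (hcc : ∀ s ∈ S, s * c = c * s)
    (hcQ : c ∉ Q) : CS p S S Z := by
  haveI : Finite Q := Fusion.finite_of_le hx.hQS
  have hgc : ∀ g ∈ Subgroup.zpowers c, ∀ s ∈ S, g * s = s * g := by
    intro g hg s hs
    obtain ⟨k, rfl⟩ := Subgroup.mem_zpowers_iff.mp hg
    have h1 : Commute c s := (hcc s hs).symm
    exact (h1.zpow_left k).eq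
  have hgS : ∀ g ∈ Subgroup.zpowers c, g ∈ S := by
    intro g hg
    exact (Subgroup.zpowers_le.mpr hcS) hg
  obtain ⟨H, hH⟩ : ∃ H : Subgroup Ω, ∀ s, s ∈ H ↔ ∃ q ∈ Q, ∃ g ∈ Subgroup.zpowers c, s = q * g := by
    refine ⟨{ carrier := {s | ∃ q ∈ Q, ∃ g ∈ Subgroup.zpowers c, s = q * g}
              mul_mem' := ?_
              one_mem' := ?_
              inv_mem' := ?_ }, fun s => Iff.rfl⟩
    · rintro _ _ ⟨q, hq, g, hg, rfl⟩ ⟨q', hq', g', hg', rfl⟩
      refine ⟨q * q', Q.mul_mem hq hq', g * g', Subgroup.mul_mem _ hg hg', ?_⟩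
      have h1 := hgc g hg q' (hx.hQS hq')
      calc q * g * (q' * g') = q * (g * q') * g' := by group
        _ = q * (q' * g) * g' := by rw [h1]
        _ = q * q' * (g * g') := by group
    · exact ⟨1, Q.one_mem, 1, Subgroup.one_mem _, by rw [mul_one]⟩
    · rintro _ ⟨q, hq, g, hg, rfl⟩
      refine ⟨q⁻¹, Q.inv_mem hq, g⁻¹, Subgroup.inv_mem _ hg, ?_⟩
      have h1 := hgc g⁻¹ (Subgroup.inv_mem _ hg) q⁻¹ (S.inv_mem (hx.hQS hq))
      rw [mul_inv_rev, h1]
  have hQH : Q ≤ H := by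
    intro q hq
    rw [hH]
    exact ⟨q, hq, 1, Subgroup.one_mem _, by rw [mul_one]⟩
  have hHS : H ≤ S := by
    intro s hs
    rw [hH] at hs
    obtain ⟨q, hq, g, hg, rfl⟩ := hs
    exact S.mul_mem (hx.hQS hq) (hgS g hg)
  have hcH : c ∈ H := by
    rw [hH]
    exact ⟨1, Q.one_mem, c, Subgroup.mem_zpowers c, by rw [one_mul]⟩
  haveI : Finite H := Fusion.finite_of_le hHS
  have hHeq : H = S := by
    obtain ⟨j, hj⟩ := Subgroup.card_dvd_of_le hQH
    have h2 : Nat.card H ∣ Nat.card S := Subgroup.card_dvd_of_le hHS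
    rw [hj, hx.hcard, mul_comm p] at h2
    have hQpos : 0 < Nat.card Q := Nat.card_pos
    have h3 : j ∣ p := Nat.dvd_of_mul_dvd_mul_left hQpos h2
    rcases (Nat.dvd_prime hp.out).mp h3 with h4 | h4
    · exfalso
      apply hcQ
      have h5 : Q = H := by
        apply Subgroup.eq_of_le_of_card_ge hQH
        rw [hj, h4, mul_one]
      rw [h5]
      exact hcH
    · apply Subgroup.eq_of_le_of_card_ge hHS
      rw [hj, h4, hx.hcard, mul_comm]
  have hdec : ∀ s ∈ S, ∃ q ∈ Q, ∃ g ∈ Subgroup.zpowers c, s = q * g := by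
    intro s hs
    rw [← hHeq, hH] at hs
    exact hs
  have hcen : ∀ g ∈ Subgroup.zpowers c, ∀ x ∈ S, ∀ y ∈ S,
      (x * g) * y * (x * g)⁻¹ * y⁻¹ = x * y * x⁻¹ * y⁻¹ := by
    intro g hg x _ y hy
    have h1 := hgc g hg y hy
    calc (x * g) * y * (x * g)⁻¹ * y⁻¹ = x * (g * y) * g⁻¹ * x⁻¹ * y⁻¹ := by group
      _ = x * (y * g) * g⁻¹ * x⁻¹ * y⁻¹ := by rw [h1]
      _ = x * y * x⁻¹ * y⁻¹ := by group
  have hcen2 : ∀ g ∈ Subgroup.zpowers c, ∀ x ∈ S, ∀ y ∈ S,
      x * (y * g) * x⁻¹ * (y * g)⁻¹ = x * y * x⁻¹ * y⁻¹ := by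
    intro g hg x hxS y _
    have h1 := hgc g hg x⁻¹ (S.inv_mem hxS)
    calc x * (y * g) * x⁻¹ * (y * g)⁻¹ = x * y * (g * x⁻¹) * g⁻¹ * y⁻¹ := by group
      _ = x * y * (x⁻¹ * g) * g⁻¹ * y⁻¹ := by rw [h1]
      _ = x * y * x⁻¹ * y⁻¹ := by group
  exact
    { hQS := le_rfl
      hZQ := hx.hZS
      hZcard := hx.hZcard
      hcomm := by
        intro a ha b hb
        obtain ⟨q, hq, g, hg, rfl⟩ := hdec a ha
        obtain ⟨q', hq', g', hg', rfl⟩ := hdec b hb
        rw [hcen g hg q (hx.hQS hq) _ hb, hcen2 g' hg' q (hx.hQS hq) q' (hx.hQS hq')]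
        exact hx.hcomm q hq q' hq'
      hZc := hx.hZc }

/-- Let p be an odd prime, S a finite p-group containing an extraspecial subgroup Q of index p, and F a saturated fusion system over S whose largest subgroup normal in F is trivial. Then the centre of S equals the centre of Q. -/
theorem result {Ω : Type u} [Group Ω] {S : Subgroup Ω} [Finite S] (p : ℕ) [Fact p.Prime] (hp : Odd p) (hS : IsPGroup p S)
    (Q : Subgroup Ω) (hQS : Q ≤ S) (hQ : Cfsg.IsExtraspecial p ↥Q) (hQi : (Q.subgroupOf S).index = p)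
    (F : Cfsg.FusionSystem S) (hF : F.IsSaturated p) (hO : F.core = ⊥) :
    S ⊓ Subgroup.centralizer (S : Set Ω) = Q ⊓ Subgroup.centralizer (Q : Set Ω) := by
  haveI hfact : Fact p.Prime := inferInstance
  have hp2 : p ≠ 2 := by
    rintro rfl
    exact (by decide : ¬ Odd 2) hp
  have hx := xs_of p hS Q hQS hQ hQi
  obtain ⟨Z, hZdef⟩ : ∃ Z : Subgroup Ω, Z = (Subgroup.center ↥Q).map Q.subtype := ⟨_, rfl⟩
  rw [← hZdef] at hx
  have hRHS : Q ⊓ Subgroup.centralizer (Q : Set Ω) = Z := by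
    ext c
    constructor
    · intro hc
      have hcQ : c ∈ Q := hc.1
      have hcc : c ∈ Subgroup.centralizer (Q : Set Ω) := hc.2
      rw [Subgroup.mem_centralizer_iff] at hcc
      exact hx.hcen c hcQ (fun q hq => (hcc q hq).symm)
    · intro hz
      refine Subgroup.mem_inf.mpr ⟨hx.hZQ hz, ?_⟩
      rw [Subgroup.mem_centralizer_iff]
      intro q hq
      exact hx.hZc q (hQS hq) c hz
  rw [hRHS]
  apply le_antisymm
  · intro c hc
    by_contra hcZ
    have hcS : c ∈ S := hc.1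
    have hcc0 : c ∈ Subgroup.centralizer (S : Set Ω) := hc.2
    rw [Subgroup.mem_centralizer_iff] at hcc0
    have hcQ : c ∉ Q := by
      intro hcQ
      apply hcZ
      exact hx.hcen c hcQ (fun q hq => (hcc0 q (hQS hq)).symm)
    have hcs := cs_of p hx hcS hcc0 hcQ
    obtain ⟨a, ha, b, hb, hab⟩ := exists_noncomm p Q hQ
    have hnc : ∃ a ∈ S, ∃ b ∈ S, a * b * a⁻¹ * b⁻¹ ≠ 1 := ⟨a, hQS ha, b, hQS hb, hab⟩
    have hS1 : S ≠ ⊥ := by
      intro hbot
      apply hcZ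
      rw [hbot, Subgroup.mem_bot] at hcS
      rw [hcS]
      exact Z.one_mem
    have hc' : c ∈ centralizerIn S S := hc
    obtain ⟨U, hU1, hUn⟩ := exists_normal_of_center_gt p hp2 hS hcs hnc F hF ⟨c, hc', hcZ⟩ hS1
    apply hU1
    rw [eq_bot_iff, ← hO]
    exact le_sSup hUn
  · intro z hz
    refine Subgroup.mem_inf.mpr ⟨hx.hZS hz, ?_⟩
    rw [Subgroup.mem_centralizer_iff]
    intro s hs
    exact hx.hZc s hs z hz


end Cfsg.Agent.S5178
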