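import Mathlib
import Cfsg.Statements.S5179
import Cfsg.Agent.Helper3.ExIdxC
-- import your own Cfsg.Agent.* helpers here

set_option autoImplicit false
universe u
open Cfsg

namespace Cfsg.Agent.S5179

open Cfsg.FusionSystem Cfsg.Agent.Lead Cfsg.Agent.Lead.Meta Cfsg.Agent.Lead.Gex Cfsg.Agent.Helper3.ExIdx

theorem ess_eq {Ω : Type*} [Group Ω] {S : Subgroup Ω} [Finite S] (p : ℕ) [hp : Fact p.Prime] (hS : IsPGroup p S)
    {Q Z : Subgroup Ω} (hx : XS p S Q Z) (h6 : p ^ 6 ≤ Nat.card S) (F : FusionSystem S)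
    (hF : F.IsSaturated p) (E : Subgroup Ω) (hEQ : E ≤ Q) (hE : F.IsEssential p E) : E = Q := by
  by_contra hne
  have hr : F.IsRadical p E := Fusion.isRadical_of_isEssential p hS F hE
  obtain ⟨hcE, hfnE, hN, M, hM⟩ := hE
  have hES : E ≤ S := hcE.1
  haveI : Finite E := Fusion.finite_of_le hES
  have hEp : IsPGroup p E := hS.to_le hES
  obtain ⟨-, R, hR⟩ := (Fusion.fullyCentralized_fullyAutomized_of_fullyNormalized p hS F hF hfnE).2
  have hZE : Z ≤ E := by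
    intro z hz
    apply hcE.2 E (Fusion.isConj_refl F hES)
    refine Subgroup.mem_inf.mpr ⟨hx.hZS hz, ?_⟩
    rw [Subgroup.mem_centralizer_iff]
    intro e he
    exact hx.hZc e (hES he) z hz
  have hQN : ∀ x ∈ Q, x ∈ Subgroup.normalizer (E : Set Ω) := by
    intro x hxQ
    apply mem_normalizer_of_conj_mem_of_finite
    intro e he
    have h1 : x * e * x⁻¹ = (x * e * x⁻¹ * e⁻¹) * e := by group
    rw [h1]
    exact E.mul_mem (hZE (hx.hcomm x hxQ e (hEQ he))) he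
  obtain ⟨x₀, hx₀Q, hx₀E⟩ := SetLike.exists_of_lt (lt_of_le_of_ne hEQ hne)
  have hcU : ∀ x (hxQ : x ∈ Q), conjAutHom E ⟨x, hQN x hxQ⟩ ∈ autInducedBy S E := fun x hxQ =>
    Fusion.conjAutHom_mem_autInducedBy E _ (hx.hQS hxQ)
  have hcA : ∀ x (hxQ : x ∈ Q), conjAutHom E ⟨x, hQN x hxQ⟩ ∈ F.autGroup E := fun x hxQ =>
    Fusion.autInducedBy_le_autGroup F hES (hcU x hxQ)
  -- conjugation by `x ∈ Q` moves elements of `E` by elements of `Z` and fixes `Z`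
  have hcZ : ∀ x (hxQ : x ∈ Q) (e : E), ((e⁻¹ * conjAutHom E ⟨x, hQN x hxQ⟩ e : E) : Ω) ∈ Z := by
    intro x hxQ e
    show (e : Ω)⁻¹ * (x * e * x⁻¹) ∈ Z
    have h1 := hx.hcomm (e : Ω)⁻¹ (Q.inv_mem (hEQ e.2)) x hxQ
    rw [inv_inv] at h1
    have h2 : (e : Ω)⁻¹ * (x * e * x⁻¹) = (e : Ω)⁻¹ * x * (e : Ω) * x⁻¹ := by group
    rw [h2]
    exact h1
  have hcfix : ∀ x (hxQ : x ∈ Q) (e : E), (e : Ω) ∈ Z → conjAutHom E ⟨x, hQN x hxQ⟩ e = e := by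
    intro x hxQ e he
    apply Subtype.ext
    show x * (e : Ω) * x⁻¹ = (e : Ω)
    rw [hx.hZc x (hx.hQS hxQ) e he, mul_inv_cancel_right]
  -- some automorphism moves `Z`
  have hmove : ∃ α ∈ F.autGroup E, ∃ z : E, (z : Ω) ∈ Z ∧ ((α z : E) : Ω) ∉ Z := by
    by_contra hcon
    push Not at hcon
    apply hx₀E
    refine mem_of_chainStab' p hS F hcE hr
      (chain4_anti (M := Z.subgroupOf E) (W := ⊥) (Z₁ := ⊥) bot_le bot_le)
      (chain4_zero _ _ _) (chain4_four _ _ _) ?_ (hx.hQS hx₀Q) (hQN x₀ hx₀Q) ?_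
    · intro a ha
      apply chain4_inv
      · intro x hxm
        rw [Subgroup.mem_subgroupOf] at hxm ⊢
        exact hcon a ha x hxm
      · intro x hxm
        rw [Subgroup.mem_bot] at hxm ⊢
        rw [hxm, map_one]
      · intro x hxm
        rw [Subgroup.mem_bot] at hxm ⊢
        rw [hxm, map_one]
    · apply chainStab_chain4
      · intro e
        rw [Subgroup.mem_subgroupOf]
        exact hcZ x₀ hx₀Q e
      · intro e he
        rw [Subgroup.mem_subgroupOf] at he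
        rw [hcfix x₀ hx₀Q e he, inv_mul_cancel]
        exact Subgroup.one_mem _
      · intro e he
        rw [Subgroup.mem_bot] at he
        rw [he, map_one, inv_one, one_mul]
        exact Subgroup.one_mem _
      · intro e he
        rw [Subgroup.mem_bot] at he
        rw [he, map_one]
  obtain ⟨α₀, hα₀, ζ₀, hζ₀Z, hζ₀⟩ := hmove
  -- `E` is abelian
  have hab : ∀ a ∈ E, ∀ b ∈ E, a * b = b * a := by
    intro a ha b hb
    by_contra hnc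
    apply hζ₀
    have hw : a * b * a⁻¹ * b⁻¹ ∈ Z := hx.hcomm a (hEQ ha) b (hEQ hb)
    have hw1 : a * b * a⁻¹ * b⁻¹ ≠ 1 := by
      intro h1
      apply hnc
      calc a * b = (a * b * a⁻¹ * b⁻¹) * (b * a) := by group
        _ = b * a := by rw [h1, one_mul]
    obtain ⟨k, hk⟩ := hx.gen hw hw1 hζ₀Z
    have hζ : ζ₀ = ((⟨a, ha⟩ : E) * ⟨b, hb⟩ * (⟨a, ha⟩ : E)⁻¹ * (⟨b, hb⟩ : E)⁻¹) ^ k := by
      apply Subtype.ext
      rw [Subgroup.coe_pow]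
      exact hk
    rw [hζ, map_pow, map_mul, map_mul, map_mul, map_inv, map_inv, Subgroup.coe_pow]
    apply Z.pow_mem
    exact hx.hcomm _ (hEQ (α₀ ⟨a, ha⟩).2) _ (hEQ (α₀ ⟨b, hb⟩).2)
  have hE' := exists_comm_outside p hx h6 hEQ hZE hab hx₀Q hx₀E
  -- the contradiction
  haveI := hN
  obtain ⟨g, hg⟩ := spe_quot ((Inn E).subgroupOf (F.autGroup E)) M hM R
  obtain ⟨z₁, hz₁Z, hz₁1⟩ := hx.exists_ne_one
  obtain ⟨ζ, hζdef⟩ : ∃ ζ : E, ζ = ⟨z₁, hZE hz₁Z⟩ := ⟨_, rfl⟩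
  have hζZ : (ζ : Ω) ∈ Z := by rw [hζdef]; exact hz₁Z
  have hζ1 : (ζ : Ω) ≠ 1 := by rw [hζdef]; exact hz₁1
  obtain ⟨α, hαdef⟩ : ∃ α : MulAut E, α = g.1 := ⟨_, rfl⟩
  have hgen : ∀ e : E, (e : Ω) ∈ Z → ∃ k : ℕ, e = ζ ^ k := by
    intro e he
    obtain ⟨k, hk⟩ := hx.gen hζZ hζ1 he
    refine ⟨k, Subtype.ext ?_⟩
    rw [Subgroup.coe_pow]
    exact hk
  obtain ⟨x, hxQ, hxE, hxw⟩ := hE' ((α ζ : E) : Ω) (α ζ).2
  obtain ⟨x', hx'Q, hx'E, hx'w⟩ := hE' ((α⁻¹ ζ : E) : Ω) (α⁻¹ ζ).2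
  obtain ⟨ca, hcadef⟩ : ∃ ca : MulAut E, ca = conjAutHom E ⟨x, hQN x hxQ⟩ := ⟨_, rfl⟩
  obtain ⟨cb, hcbdef⟩ : ∃ cb : MulAut E, cb = conjAutHom E ⟨x', hQN x' hx'Q⟩ := ⟨_, rfl⟩
  have hcaA : ca ∈ F.autGroup E := hcadef ▸ hcA x hxQ
  have hcbA : cb ∈ F.autGroup E := hcbdef ▸ hcA x' hx'Q
  have hcaZ : ∀ e : E, ((e⁻¹ * ca e : E) : Ω) ∈ Z := fun e => hcadef ▸ hcZ x hxQ e
  have hcbZ : ∀ e : E, ((e⁻¹ * cb e : E) : Ω) ∈ Z := fun e => hcbdef ▸ hcZ x' hx'Q e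
  have hcafix : ∀ e : E, (e : Ω) ∈ Z → ca e = e := fun e he => hcadef ▸ hcfix x hxQ e he
  have hcbfix : ∀ e : E, (e : Ω) ∈ Z → cb e = e := fun e he => hcbdef ▸ hcfix x' hx'Q e he
  have hcaw : ca (α ζ) = α ζ := by
    rw [hcadef]
    apply Subtype.ext
    show x * ((α ζ : E) : Ω) * x⁻¹ = ((α ζ : E) : Ω)
    rw [hxw, mul_inv_cancel_right]
  have hcbw : cb (α⁻¹ ζ) = α⁻¹ ζ := by
    rw [hcbdef]
    apply Subtype.ext
    show x' * ((α⁻¹ ζ : E) : Ω) * x'⁻¹ = ((α⁻¹ ζ : E) : Ω)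
    rw [hx'w, mul_inv_cancel_right]
  obtain ⟨bb, hbbdef⟩ : ∃ bb : MulAut E, bb = α * cb * α⁻¹ := ⟨_, rfl⟩
  have hbbapp : ∀ e, bb e = α (cb (α⁻¹ e)) := fun e => by rw [hbbdef]; rfl
  have hbbcm : ∀ e : E, e⁻¹ * bb e = α ((α⁻¹ e)⁻¹ * cb (α⁻¹ e)) := by
    intro e
    rw [hbbapp, map_mul, map_inv, MulAut.apply_inv_self]
  have hbbζ : bb ζ = ζ := by
    rw [hbbapp, hcbw, MulAut.apply_inv_self]
  have hbbfixZ : ∀ e : E, (e : Ω) ∈ Z → bb e = e := by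
    intro e he
    obtain ⟨k, rfl⟩ := hgen e he
    rw [map_pow, hbbζ]
  have hbbmove : ∀ e : E, ∃ k : ℕ, e⁻¹ * bb e = (α ζ) ^ k := by
    intro e
    obtain ⟨k, hk⟩ := hgen _ (hcbZ (α⁻¹ e))
    refine ⟨k, ?_⟩
    rw [hbbcm, hk, map_pow]
  have hαA : α ∈ F.autGroup E := hαdef ▸ g.2
  obtain ⟨a, hadef⟩ : ∃ a : F.autGroup E, a = ⟨ca, hcaA⟩ := ⟨_, rfl⟩
  obtain ⟨c', hc'def⟩ : ∃ c' : F.autGroup E, c' = ⟨cb, hcbA⟩ := ⟨_, rfl⟩
  obtain ⟨b, hbdef⟩ : ∃ b : F.autGroup E, b = g * c' * g⁻¹ := ⟨_, rfl⟩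
  have ha1 : a.1 = ca := by rw [hadef]
  have hb1 : b.1 = bb := by
    rw [hbdef, hbbdef, hc'def, hαdef]
    rfl
  have hnotinn : ∀ (y : Ω) (hyQ : y ∈ Q), y ∉ E →
      conjAutHom E ⟨y, hQN y hyQ⟩ ∉ Inn E := by
    intro y hyQ hyE hmem
    exact hyE (Fusion.mem_of_conjAutHom_mem_inn F hcE y (hx.hQS hyQ) (hQN y hyQ) hmem)
  apply hg a ?_ ?_ b ?_ ?_ (Subgroup.closure {a, b}) (Subgroup.subset_closure (by simp))
    (Subgroup.subset_closure (by simp)) ?_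
  · rw [hR, Subgroup.mem_subgroupOf, ha1, hcadef]
    exact hcU x hxQ
  · intro hmem
    rw [Subgroup.mem_subgroupOf, ha1, hcadef] at hmem
    exact hnotinn x hxQ hxE hmem
  · have h1 : g⁻¹ * b * g = c' := by rw [hbdef]; group
    rw [h1, hR, Subgroup.mem_subgroupOf, hc'def]
    show cb ∈ autInducedBy S E
    rw [hcbdef]
    exact hcU x' hx'Q
  · intro hmem
    have h1 : g⁻¹ * b * g = c' := by rw [hbdef]; group
    have h2 : c' ∈ (Inn E).subgroupOf (F.autGroup E) := by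
      rw [← h1]
      have h3 := hN.conj_mem b hmem g⁻¹
      rwa [inv_inv] at h3
    rw [Subgroup.mem_subgroupOf, hc'def] at h2
    have h4 : cb ∈ Inn E := h2
    rw [hcbdef] at h4
    exact hnotinn x' hx'Q hx'E h4
  · apply isPGroup_closure_pair_sub hEp (F.autGroup E) a b
    · intro e
      rw [ha1]
      exact hcafix _ (hcaZ e)
    · intro e
      rw [ha1, hb1]
      exact hbbfixZ _ (hcaZ e)
    · intro e
      rw [ha1, hb1]
      obtain ⟨k, hk⟩ := hbbmove e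
      rw [hk, map_pow, hcaw]
    · intro e
      rw [hb1]
      obtain ⟨k, hk⟩ := hbbmove e
      rw [hk, map_pow]
      congr 1
      rw [hbbapp, MulAut.inv_apply_self, hcbfix ζ hζZ]

/-- Let p be an odd prime, S a finite p-group of order at least p⁶ containing an extraspecial subgroup Q of index p, and F a saturated fusion system over S whose largest subgroup normal in F is trivial. Then no proper subgroup of Q is essential in F: an essential subgroup of F contained in Q equals Q. -/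
theorem result {Ω : Type u} [Group Ω] {S : Subgroup Ω} [Finite S] (p : ℕ) [Fact p.Prime] (hp : Odd p) (hS : IsPGroup p S)
    (Q : Subgroup Ω) (hQS : Q ≤ S) (hQ : Cfsg.IsExtraspecial p ↥Q) (hQi : (Q.subgroupOf S).index = p)
    (h6 : p ^ 6 ≤ Nat.card S)
    (F : Cfsg.FusionSystem S) (hF : F.IsSaturated p) (hO : F.core = ⊥)
    (E : Subgroup Ω) (hEQ : E ≤ Q) (hE : F.IsEssential p E) : E = Q := by
  haveI : Fact p.Prime := inferInstance
  exact ess_eq p hS (xs_of p hS Q hQS hQ hQi) h6 F hF E hEQ hE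


end Cfsg.Agent.S5179
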