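import Cfsg.Statements.S5188
import Cfsg.Agent.Lead.StronglyEmbedded
import Cfsg.Agent.Lead.EssAbG
import Cfsg.Agent.Helper4.P4H

set_option autoImplicit false
universe u
open Cfsg

namespace Cfsg.Agent.S5188

/-- Let F be a saturated fusion system over a finite p-group S and H an essential subgroup of order p⁴. Then H is isomorphic to one of: C_p⁴ or C_{p²} × C_p × C_p (any p); C_{p²} × C_{p²} with p ∈ {2, 3}; p^{1+2}_+ × C_p with p odd (the direct product of an extraspecial group of order p³ and exponent p with a group of order p); Q₈ × C₂ (p = 2); or the non-abelian group of order p⁴ of exponent p² whose centre is cyclic of order p² (the central product of an extraspecial group of order p³ with a cyclic group of order p²; for p = 2 this is D₈ ∘ C₄). -/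
theorem result {Ω : Type u} [Group Ω] {S : Subgroup Ω} [Finite S] (p : ℕ) [Fact p.Prime] (hS : IsPGroup p S)
    (F : Cfsg.FusionSystem S) (hF : F.IsSaturated p) (H : Subgroup Ω) (hH : F.IsEssential p H) (hcard : Nat.card H = p ^ 4) :
    Cfsg.IsElementaryAbelian p H ∨
      Nonempty (↥H ≃* Multiplicative (ZMod (p ^ 2) × ZMod p × ZMod p)) ∨
      ((p = 2 ∨ p = 3) ∧ Nonempty (↥H ≃* Multiplicative (ZMod (p ^ 2) × ZMod (p ^ 2)))) ∨
      (Odd p ∧ ∃ (E : Type) (_ : Group E) (_ : Finite E), Cfsg.IsExtraspecial p E ∧ Nat.card E = p ^ 3 ∧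
        (∀ x : E, x ^ p = 1) ∧ Nonempty (↥H ≃* E × Multiplicative (ZMod p))) ∨
      (p = 2 ∧ Nonempty (↥H ≃* QuaternionGroup 2 × Multiplicative (ZMod 2))) ∨
      (¬ IsMulCommutative ↥H ∧ (∀ x ∈ H, x ^ (p ^ 2) = 1) ∧ IsCyclic ↥(Subgroup.center ↥H) ∧
        Nat.card (Subgroup.center ↥H) = p ^ 2) := by
  have hp : p.Prime := Fact.out
  haveI : Finite ↥H := Nat.finite_of_card_ne_zero (by
    rw [hcard]; exact pow_ne_zero _ hp.ne_zero)
  have hH' := hH
  obtain ⟨-, -, hn, E, hE⟩ := hH'
  haveI := hn
  have hpX := hE.1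
  have hcoreX := Cfsg.Agent.Lead.pCore_eq_bot_of_stronglyPEmbedded p E hE
  have hno : ¬ Cfsg.Agent.Helper4.P4A.HasCharChain4 p ↥H := fun hc =>
    Cfsg.Agent.Helper4.P4A.pCore_ne_bot4 hcard hc (F.autGroup H)
      ((Cfsg.Inn ↥H).subgroupOf (F.autGroup H)) hpX hcoreX
  by_cases hcomm : ∀ a b : ↥H, a * b = b * a
  · rcases Cfsg.Agent.Helper4.P4C.abelian_case4 hcard hcomm with h | h | h
    · left
      refine ⟨⟨⟨fun a b => hcomm a b⟩⟩, fun a ha => ?_⟩
      have := congrArg Subtype.val (h ⟨a, ha⟩)
      simpa using this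
    · right; left; exact h
    · right; right; left
      rcases Cfsg.Agent.Lead.EssAb.essential_ab p hS F H hH ⟨⟨fun a b => hcomm a b⟩⟩ h with
        h1 | ⟨hp3, k, ⟨e⟩⟩
      · exfalso
        have := h1.2
        rw [hcard] at this
        exact absurd (Nat.pow_right_injective hp.two_le this) (by norm_num)
      · refine ⟨?_, ?_⟩
        · have h2 := hp.two_le
          interval_cases p
          · exact Or.inl rfl
          · exact Or.inr rfl
        · have hc := Nat.card_congr e.toEquiv
          have hc2 : Nat.card (Multiplicative (ZMod (p ^ k) × ZMod (p ^ k))) = p ^ k * p ^ k := by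
            have : Nat.card (Multiplicative (ZMod (p ^ k) × ZMod (p ^ k))) =
                Nat.card (ZMod (p ^ k) × ZMod (p ^ k)) := Nat.card_congr Multiplicative.toAdd
            rw [this, Nat.card_prod, Nat.card_zmod]
          rw [hcard, hc2, ← pow_add] at hc
          have hk : 4 = k + k := Nat.pow_right_injective hp.two_le hc
          have hk2 : k = 2 := by omega
          subst hk2
          exact ⟨e⟩
  · push Not at hcomm
    have hnc : ∃ a b : ↥H, a * b ≠ b * a := hcomm
    rcases Cfsg.Agent.Helper4.P4H.nonabelian_case hcard hnc with h | h | h | h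
    · exact absurd h hno
    · exact Or.inr (Or.inr (Or.inr (Or.inl h)))
    · exact Or.inr (Or.inr (Or.inr (Or.inr (Or.inl h))))
    · refine Or.inr (Or.inr (Or.inr (Or.inr (Or.inr ⟨?_, ?_, h.2.1, h.2.2⟩))))
      · intro hc
        obtain ⟨a, b, hab⟩ := hnc
        exact hab (hc.is_comm.comm a b)
      · intro x hx
        have := congrArg Subtype.val (h.1 ⟨x, hx⟩)
        simpa using this

end Cfsg.Agent.S5188
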