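import Cfsg.Statements.S5191
import Mathlib
import Cfsg.Agent.Lead.SylowLemmas

set_option autoImplicit false
open Cfsg

namespace Cfsg.Agent.S5191

open Cfsg.Agent.Lead

/-- General version for an arbitrary normal subgroup `N`. -/
lemma key {G : Type*} [Group G] [Finite G] {p : ℕ} [Fact p.Prime] (N : Subgroup G) [N.Normal]
    (S : Sylow p G) (P : Subgroup G) (hP : P ≤ (S : Subgroup G))
    (γ : G ⧸ N)
    (hγ : ∀ x ∈ P, γ * QuotientGroup.mk x * γ⁻¹ ∈ ((S : Subgroup G).map (QuotientGroup.mk' N))) :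
    ∃ g : G, ∀ x ∈ P, g * x * g⁻¹ ∈ S ∧
      (QuotientGroup.mk (g * x * g⁻¹) : G ⧸ N) = γ * QuotientGroup.mk x * γ⁻¹ := by
  obtain ⟨g₀, rfl⟩ := QuotientGroup.mk_surjective γ
  have hScard : Nat.card (S : Subgroup G) = p ^ (Nat.card (⊤ : Subgroup G)).factorization p := by
    rw [Subgroup.card_top]; exact S.card_eq_multiplicity
  have hScard' : Nat.card (S : Subgroup G) = p ^ (Nat.card ↥((S : Subgroup G) ⊔ N)).factorization p :=
    card_eq_ppart_of_le le_sup_left le_top S.isPGroup' hScard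
  have hTM : P.map (MulAut.conj g₀).toMonoidHom ≤ (S : Subgroup G) ⊔ N := by
    rintro _ ⟨x, hx, rfl⟩
    obtain ⟨s, hs, hsx⟩ := hγ x hx
    -- mk s = mk (g₀ x g₀⁻¹)
    have h1 : (QuotientGroup.mk s : G ⧸ N) = QuotientGroup.mk (g₀ * x * g₀⁻¹) := by
      simpa using hsx
    have h2 : s⁻¹ * (g₀ * x * g₀⁻¹) ∈ N := QuotientGroup.eq.mp h1
    have h3 : (MulAut.conj g₀).toMonoidHom x = s * (s⁻¹ * (g₀ * x * g₀⁻¹)) := by
      simp only [MulEquiv.coe_toMonoidHom, MulAut.conj_apply]; group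
    rw [h3]
    exact Subgroup.mul_mem_sup hs h2
  have hTp : IsPGroup p (P.map (MulAut.conj g₀).toMonoidHom) := (S.isPGroup'.to_le hP).map _
  obtain ⟨m, hmM, hm⟩ := exists_conj_le_of_card_eq_ppart (le_sup_left : (S : Subgroup G) ≤ _) hScard' hTM hTp
  obtain ⟨s, hs, n, hn, rfl⟩ := Subgroup.mem_sup_of_normal_right.mp hmM
  refine ⟨n * g₀, ?_⟩
  intro x hx
  have h1 : (MulAut.conj (s * n)).toMonoidHom ((MulAut.conj g₀).toMonoidHom x) ∈ (S : Subgroup G) :=
    hm ⟨_, ⟨x, hx, rfl⟩, rfl⟩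
  have h2 : s⁻¹ * ((MulAut.conj (s * n)).toMonoidHom ((MulAut.conj g₀).toMonoidHom x)) * s ∈ (S : Subgroup G) :=
    Subgroup.mul_mem _ (Subgroup.mul_mem _ (Subgroup.inv_mem _ hs) h1) hs
  have h3 : s⁻¹ * ((MulAut.conj (s * n)).toMonoidHom ((MulAut.conj g₀).toMonoidHom x)) * s =
      n * g₀ * x * (n * g₀)⁻¹ := by
    simp only [MulEquiv.coe_toMonoidHom, MulAut.conj_apply]
    group
  rw [h3] at h2
  refine ⟨h2, ?_⟩
  have hn1 : (QuotientGroup.mk n : G ⧸ N) = 1 := (QuotientGroup.eq_one_iff n).mpr hn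
  simp only [QuotientGroup.mk_mul, QuotientGroup.mk_inv, hn1, one_mul]

/-- Fusion in a finite group G and in its quotient by O_{p'}(G) agree. Let S be a Sylow p-subgroup of G, N = O_{p'}(G) and P ≤ S. If an element of G/N conjugates the image of P into the image of S, then some element g of G conjugates P into S and induces the same map on P modulo N. (Together with the injectivity of S → G/N this says that g ↦ gN induces an isomorphism of the fusion system of G on S with that of G/N on SN/N.) -/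
theorem result {G : Type*} [Group G] [Finite G] {p : ℕ} [Fact p.Prime]
    [hN : (Cfsg.pPrimeCore p G).Normal] (S : Sylow p G) (P : Subgroup G) (hP : P ≤ (S : Subgroup G))
    (γ : G ⧸ Cfsg.pPrimeCore p G)
    (hγ : ∀ x ∈ P, γ * QuotientGroup.mk x * γ⁻¹ ∈ ((S : Subgroup G).map (QuotientGroup.mk' (Cfsg.pPrimeCore p G)))) :
    ∃ g : G, ∀ x ∈ P, g * x * g⁻¹ ∈ S ∧
      (QuotientGroup.mk (g * x * g⁻¹) : G ⧸ Cfsg.pPrimeCore p G) = γ * QuotientGroup.mk x * γ⁻¹ := by
  exact key (Cfsg.pPrimeCore p G) S P hP γ hγ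

end Cfsg.Agent.S5191
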