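import Mathlib
import Cfsg.Statements.S5192
import Cfsg.Agent.Lead.FusionSat2
import Cfsg.Agent.Helper3.CharJ
-- import your own Cfsg.Agent.* helpers here

set_option autoImplicit false
open Cfsg

namespace Cfsg.Agent.S5192

open Cfsg.FusionSystem Cfsg.Agent.Lead Cfsg.Agent.Helper3.Char

theorem range_eq_zpowers {Ω : Type*} [Group Ω] {x : Ω} (φ : Subgroup.zpowers x →* Ω) :
    φ.range = Subgroup.zpowers (φ ⟨x, Subgroup.mem_zpowers x⟩) := by
  ext y
  constructor
  · rintro ⟨⟨_, n, rfl⟩, rfl⟩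
    refine ⟨n, ?_⟩
    change (φ ⟨x, Subgroup.mem_zpowers x⟩) ^ n = φ ⟨x ^ n, _⟩
    rw [← map_zpow]
    rfl
  · rintro ⟨n, rfl⟩
    refine ⟨⟨x, Subgroup.mem_zpowers x⟩ ^ n, ?_⟩
    change φ _ = (φ ⟨x, Subgroup.mem_zpowers x⟩) ^ n
    rw [map_zpow]

theorem isConj_zpowers {Ω : Type*} [Group Ω] {S : Subgroup Ω} (F : FusionSystem S)
    {Q : Subgroup Ω} {ψ : Q →* Ω} (hψ : ψ ∈ F.Hom Q) {x : Ω} (hx : x ∈ Q) :
    F.IsConj (Subgroup.zpowers x) (Subgroup.zpowers (ψ ⟨x, hx⟩)) := by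
  have hle : Subgroup.zpowers x ≤ Q := Subgroup.zpowers_le.mpr hx
  refine ⟨ψ.comp (Subgroup.inclusion hle), Fusion.restrict_mem F hψ hle, ?_⟩
  rw [range_eq_zpowers]
  rfl

theorem eq_of_mem_zpowers_of_orderOf_two {Ω : Type*} [Group Ω] {j y : Ω} (hj : orderOf j = 2)
    (hy : y ∈ Subgroup.zpowers j) (hy1 : y ≠ 1) : y = j := by
  classical
  have hfin : IsOfFinOrder j := by
    rw [← orderOf_pos_iff, hj]; norm_num
  rw [hfin.mem_zpowers_iff_mem_range_orderOf, hj] at hy
  simp only [Finset.mem_image, Finset.mem_range] at hy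
  obtain ⟨n, hn, rfl⟩ := hy
  interval_cases n
  · exact absurd (pow_zero j) hy1
  · exact pow_one j

/-- A Thompson-type transfer for saturated fusion systems. Let F be a saturated fusion system on a finite 2-group S, T a subgroup of S of index 2, and i an involution of S such that every fully normalized F-conjugate of i lies in S but outside T. Then i does not lie in the hyperfocal subgroup of F (the Sylow group of the 2-residual subsystem). -/
theorem result {Ω : Type*} [Group Ω] [Finite Ω] {S : Subgroup Ω}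
    (hS : IsPGroup 2 ↥S) (F : Cfsg.FusionSystem S) (hF : F.IsSaturated 2)
    (T : Subgroup Ω) (hTS : T ≤ S) (hT : T.relIndex S = 2)
    (i : Ω) (hi : i ∈ S) (hi2 : orderOf i = 2)
    (h : ∀ j : Ω, F.IsConjElt i j → F.IsFullyNormalized (Subgroup.zpowers j) → j ∉ T) :
    i ∉ F.hyperfocalSubgroup 2 := by
  have : Fact (Nat.Prime 2) := ⟨Nat.prime_two⟩
  have hidx : (T.subgroupOf S).index = 2 := hT
  -- the sign character with kernel `T`
  obtain ⟨θ, hθ⟩ : ∃ θ : S →* ℤˣ, ∀ s : S, θ s = 1 ↔ (s : Ω) ∈ T := by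
    classical
    have hmul : ∀ a b : S, ((a * b : S) : Ω) ∈ T ↔ ((a : Ω) ∈ T ↔ (b : Ω) ∈ T) := by
      intro a b
      have := Subgroup.mul_mem_iff_of_index_two hidx (a := a) (b := b)
      rw [Subgroup.mem_subgroupOf, Subgroup.mem_subgroupOf, Subgroup.mem_subgroupOf] at this
      exact this
    refine ⟨⟨⟨fun s => if (s : Ω) ∈ T then 1 else -1, ?_⟩, ?_⟩, ?_⟩
    · change (if ((1 : S) : Ω) ∈ T then (1 : ℤˣ) else -1) = 1
      rw [if_pos (show ((1 : S) : Ω) ∈ T from T.one_mem)]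
    · intro a b
      change (if ((a * b : S) : Ω) ∈ T then (1 : ℤˣ) else -1)
        = (if (a : Ω) ∈ T then (1 : ℤˣ) else -1) * (if (b : Ω) ∈ T then (1 : ℤˣ) else -1)
      by_cases ha : (a : Ω) ∈ T <;> by_cases hb : (b : Ω) ∈ T
      · rw [if_pos ha, if_pos hb, if_pos ((hmul a b).mpr ⟨fun _ => hb, fun _ => ha⟩)]; rfl
      · rw [if_pos ha, if_neg hb, if_neg (fun hab => hb ((hmul a b).mp hab |>.mp ha))]; rfl
      · rw [if_neg ha, if_pos hb, if_neg (fun hab => ha ((hmul a b).mp hab |>.mpr hb))]; rfl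
      · rw [if_neg ha, if_neg hb, if_pos ((hmul a b).mpr
          ⟨fun h1 => absurd h1 ha, fun h1 => absurd h1 hb⟩)]; rfl
    · intro s
      change (if (s : Ω) ∈ T then (1 : ℤˣ) else -1) = 1 ↔ _
      by_cases hs : (s : Ω) ∈ T
      · rw [if_pos hs]; exact ⟨fun _ => hs, fun _ => rfl⟩
      · rw [if_neg hs]; exact ⟨fun h1 => absurd h1 (by decide), fun h1 => absurd h1 hs⟩
  -- a fully normalized conjugate
  obtain ⟨Q, ⟨φ, hφ, hφr⟩, hQfn⟩ :=
    Fusion.exists_isConj_fullyNormalized F (Subgroup.zpowers_le.mpr hi)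
  rw [range_eq_zpowers] at hφr
  obtain ⟨j, hj⟩ : ∃ j, j = φ ⟨i, Subgroup.mem_zpowers i⟩ := ⟨_, rfl⟩
  rw [← hj] at hφr
  rw [← hφr] at hQfn
  have hij : F.IsConjElt i j := ⟨φ, hφ, hj.symm⟩
  have hjS : j ∈ S := by rw [hj]; exact Fusion.map_mem F hφ _
  have hj2 : j ^ 2 = 1 := by
    rw [hj, ← map_pow]
    have : (⟨i, Subgroup.mem_zpowers i⟩ : Subgroup.zpowers i) ^ 2 = 1 := by
      apply Subtype.ext
      change i ^ 2 = 1
      rw [← hi2]; exact pow_orderOf_eq_one i
    rw [this, map_one]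
  have hj1 : j ≠ 1 := by
    intro h1
    rw [hj] at h1
    have h2 : φ ⟨i, Subgroup.mem_zpowers i⟩ = φ 1 := by rw [h1, map_one]
    have h3 := F.injective_of_mem hφ h2
    have h4 : i = 1 := congrArg Subtype.val h3
    rw [h4, orderOf_one] at hi2
    norm_num at hi2
  have hjo : orderOf j = 2 := orderOf_eq_prime hj2 hj1
  obtain ⟨V, hV1, hV2⟩ := exists_transfer_sign hS F hF θ
  have hVu : V ⟨j, hjS⟩ = -1 := by
    apply hV2 ⟨j, hjS⟩ (Subtype.ext hj2)
    intro Q' ψ hψ hu hC ht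
    have hnotT : ψ ⟨j, hu⟩ ∉ T := by
      apply h
      · -- conjugate to `i`
        have hv : ∀ x : Subgroup.zpowers i, φ x ∈ Q' := by
          intro x
          have : φ x ∈ φ.range := ⟨x, rfl⟩
          rw [range_eq_zpowers, ← hj] at this
          exact (Subgroup.zpowers_le.mpr hu) this
        obtain ⟨χ, hχ, hχv⟩ := Fusion.comp_mem' F hφ hψ hv
        refine ⟨χ, hχ, ?_⟩
        rw [hχv]
        congr 1
        exact Subtype.ext hj.symm
      · -- fully normalized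
        refine ⟨Subgroup.zpowers_le.mpr ht, fun Q'' hQ'' => ?_⟩
        have hjt : F.IsConj (Subgroup.zpowers j) (Subgroup.zpowers (ψ ⟨j, hu⟩)) :=
          isConj_zpowers F hψ hu
        refine (hQfn.2 Q'' (Fusion.isConj_trans F hjt hQ'')).trans ?_
        -- the normalizer of `⟨j⟩` embeds in the normalizer of `⟨t⟩`
        have hcomm : ∀ s ∈ normalizerIn S (Subgroup.zpowers j), s * j = j * s := by
          intro s hs
          have h1 := (Subgroup.mem_normalizer_iff.mp hs.2 j).mp (Subgroup.mem_zpowers j)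
          have h2 : s * j * s⁻¹ ≠ 1 := by
            intro h3
            apply hj1
            have : j = s⁻¹ * (s * j * s⁻¹) * s := by group
            rw [this, h3]; group
          have h3 := eq_of_mem_zpowers_of_orderOf_two hjo h1 h2
          calc s * j = s * j * s⁻¹ * s := by group
            _ = j * s := by rw [h3]
        have hQ'mem : ∀ s ∈ normalizerIn S (Subgroup.zpowers j), s ∈ Q' := by
          intro s hs
          exact hC ⟨s, hs.1⟩ (Subtype.ext (hcomm s hs))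
        have hmem : ∀ s (hs : s ∈ normalizerIn S (Subgroup.zpowers j)),
            ψ ⟨s, hQ'mem s hs⟩ ∈ normalizerIn S (Subgroup.zpowers (ψ ⟨j, hu⟩)) := by
          intro s hs
          refine Subgroup.mem_inf.mpr ⟨Fusion.map_mem F hψ _, ?_⟩
          have hc : ψ ⟨s, hQ'mem s hs⟩ * ψ ⟨j, hu⟩ = ψ ⟨j, hu⟩ * ψ ⟨s, hQ'mem s hs⟩ := by
            rw [← map_mul, ← map_mul]
            congr 1
            exact Subtype.ext (hcomm s hs)
          apply Subgroup.centralizer_le_normalizer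
          rw [Subgroup.mem_centralizer_iff]
          rintro _ ⟨n, rfl⟩
          exact ((Commute.zpow_right hc n).eq).symm
        have hfin : Finite (normalizerIn S (Subgroup.zpowers (ψ ⟨j, hu⟩))) := inferInstance
        apply Nat.card_le_card_of_injective
          (fun s : normalizerIn S (Subgroup.zpowers j) =>
            (⟨ψ ⟨s, hQ'mem s s.2⟩, hmem s s.2⟩ :
              normalizerIn S (Subgroup.zpowers (ψ ⟨j, hu⟩))))
        intro s s' hss'
        have h1 : ψ ⟨s, hQ'mem s s.2⟩ = ψ ⟨s', hQ'mem s' s'.2⟩ := congrArg Subtype.val hss'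
        have h2 := F.injective_of_mem hψ h1
        have h3 : (s : Ω) = (s' : Ω) := congrArg (fun z : Q' => (z : Ω)) h2
        exact Subtype.ext h3
    rcases Int.units_eq_one_or (θ ⟨ψ ⟨j, hu⟩, ht⟩) with h1 | h1
    · exact absurd ((hθ _).mp h1) hnotT
    · exact h1
  -- conclusion
  intro hhyp
  have hhf : F.hyperfocalSubgroup 2 ≤ F.focalSubgroup := by
    unfold hyperfocalSubgroup focalSubgroup
    apply Subgroup.closure_mono
    rintro _ ⟨P, α, x, hP, -, rfl⟩
    exact ⟨P, P.subtype.comp (α : MulAut P).toMonoidHom, x,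
      (Fusion.mem_autGroup_iff F hP _).mp α.2, rfl⟩
  have hfocS : F.focalSubgroup ≤ (V.ker).map S.subtype := by
    unfold focalSubgroup
    rw [Subgroup.closure_le]
    rintro _ ⟨P, φ', x, hφ', rfl⟩
    have hxS := Fusion.src_le F hφ' x.2
    have hφS := Fusion.map_mem F hφ' x
    refine ⟨(⟨x, hxS⟩ : S)⁻¹ * ⟨φ' x, hφS⟩, ?_, rfl⟩
    rw [SetLike.mem_coe, MonoidHom.mem_ker, map_mul, map_inv, hV1 P φ' hφ' x, inv_mul_cancel]
  obtain ⟨i', hi'ker, hi'⟩ := hfocS (hhf hhyp)
  have h1 : V ⟨i, hi⟩ = 1 := by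
    have : i' = ⟨i, hi⟩ := Subtype.ext hi'
    rw [← this]; exact hi'ker
  have h2 := hV1 _ φ hφ ⟨i, Subgroup.mem_zpowers i⟩
  have h3 : (⟨φ ⟨i, Subgroup.mem_zpowers i⟩, Fusion.map_mem F hφ _⟩ : S) = ⟨j, hjS⟩ :=
    Subtype.ext hj.symm
  rw [h3, hVu] at h2
  have h4 : (⟨((⟨i, Subgroup.mem_zpowers i⟩ : Subgroup.zpowers i) : Ω),
      Fusion.src_le F hφ (⟨i, Subgroup.mem_zpowers i⟩ : Subgroup.zpowers i).2⟩ : S) = ⟨i, hi⟩ := rfl
  rw [h4, h1] at h2
  exact absurd h2 (by decide)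


end Cfsg.Agent.S5192
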