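import Cfsg.Statements.S5201
import Cfsg.Agent.RSL.Main
import Cfsg.Agent.RSL.ResInv
import Cfsg.Agent.RSL.Hyp
import Cfsg.Agent.RSL.SameE
import Cfsg.Agent.CSE.Focal
import Cfsg.Agent.CSE.Largest

set_option autoImplicit false
open Cfsg

namespace Cfsg.Agent.S5201

/-- A reduction to normal subsystems. Let F be a saturated fusion system over a finite p-group S and E a normal subsystem of F over T whose centralizer in S lies in T (every subgroup Y of C_S(T) with E contained in the centralizer fusion system of Y in F satisfies Y ≤ T), and suppose Aut_F(T)/Aut_E(T) is p-solvable. Then F and E have the same residual limit: if F∞ is the residual limit of F (reached by alternately passing to the p-residual and the p'-residual subsystem until nothing changes) and E∞ that of E, then F∞ and E∞ have the same maps. -/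
theorem result {Ω : Type*} [Group Ω] {S : Subgroup Ω} [Finite S] (p : ℕ) [Fact p.Prime] (hS : IsPGroup p S) (F : Cfsg.FusionSystem S) (hF : F.IsSaturated p) {T : Subgroup Ω} (E : Cfsg.FusionSystem T) (hE : E.IsNormalIn F p) (hCE : ∀ Y : Subgroup Ω, Y ≤ Cfsg.FusionSystem.centralizerIn S T → (∀ C : Cfsg.FusionSystem (Cfsg.FusionSystem.centralizerIn S Y), F.IsCentralizerSystem Y C → E.IsSubsystemOf C) → Y ≤ T) [hn : ((E.autGroup T).subgroupOf (F.autGroup T)).Normal] (hsolv : Cfsg.IsPSolvable p (↥(F.autGroup T) ⧸ (E.autGroup T).subgroupOf (F.autGroup T))) {U V : Subgroup Ω} (Finf : Cfsg.FusionSystem U) (hFinf : Finf.IsResidualLimitOf F p) (Einf : Cfsg.FusionSystem V) (hEinf : Einf.IsResidualLimitOf E p) : ∀ P : Subgroup Ω, Finf.Hom P = Einf.Hom P := by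
  classical
  have hEa : E.IsInvariantIn F := hE.1.2.2
  have hTS : T ≤ S := hEa.2.1.1
  have hfinT : Finite T := Cfsg.Agent.Lead.Fusion.finite_of_le hTS
  have hAG : E.autGroup T ≤ F.autGroup T :=
    Cfsg.Agent.Lead.StrongInv.autGroup_le_of_subsystem F E hEa.1 T
  have hstep : ∀ G' : Subgroup (MulAut T), E.autGroup T ≤ G' → G' ≤ F.autGroup T →
      G' ≠ E.autGroup T →
      Cfsg.Agent.RSL.rslKq p (E.autGroup T) G' < G' ∨ Cfsg.Agent.RSL.rslKp p (E.autGroup T) G' < G' :=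
    fun G' h1 h2 h3 =>
      Cfsg.Agent.RSL.rsl_exists_step p (E.autGroup T) (F.autGroup T) hAG hsolv G' h1 h2 h3
  have hctx : Cfsg.Agent.RSL.Ctx p F E F :=
    ⟨hF, Cfsg.Agent.RSL.rsl_resinv_isInvariantIn_self p hS F hF, hE⟩
  obtain ⟨U₀, hU₀, F₀, hsat, hinv, hF₀F, hE₀, hAut, hres⟩ :=
    Cfsg.Agent.RSL.rsl_main p hS F hF E hEa hstep (Nat.card (F.autGroup T)) F hctx le_rfl
  -- the focal subgroup of `C_F(T)` lies in `T`
  have hset : Cfsg.Agent.CSE.Setup p F E := ⟨hS, hF, hE⟩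
  have hC := Cfsg.Agent.CSE.cse_sSup_mem p hset
  have hCT : sSup (Cfsg.Agent.CSE.cseY F E) ≤ T :=
    hCE _ hC.1 (fun C' hC' P φ hφ => by rw [hC' P]; exact hC.2 P hφ)
  have hfoc : ∀ D : Cfsg.FusionSystem (Cfsg.FusionSystem.centralizerIn S T),
      F.IsCentralizerSystem T D → D.focalSubgroup ≤ T :=
    fun D hD => (Cfsg.Agent.CSE.cse_focal_le p hset D hD).trans hCT
  have hhyp := Cfsg.Agent.RSL.rsl_hyperfocal_le p hS F hEa.2.1 E hfoc F₀ hU₀ hsat hF₀F hE₀ hAut
  have hU₀S : U₀ ≤ S := hinv.2.1.1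
  have hfinU : Finite U₀ := Cfsg.Agent.Lead.Fusion.finite_of_le hU₀S
  have hU₀p : IsPGroup p U₀ := hS.to_le hU₀S
  have hsame : Cfsg.Agent.RSL.SameLimit p F₀ E :=
    Cfsg.Agent.RSL.rsl_sameLimit_of_hyperfocal_le p hU₀p F₀ hsat E hE₀ hAut hhyp
  obtain ⟨W, L₀, hL₀⟩ := Cfsg.Agent.RSL.rsl_exists_limit p hU₀p F₀ hsat
  intro P
  have h1 := (hres Finf hFinf).2 L₀ hL₀ P
  have h2 := hsame L₀ Einf hL₀ hEinf P
  rw [← h1, h2]

end Cfsg.Agent.S5201
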