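import Cfsg.Statements.S5202
import Cfsg.Agent.RSL.Main
import Cfsg.Agent.RSL.ResInv

set_option autoImplicit false
open Cfsg

namespace Cfsg.Agent.S5202

/-- Let F be a saturated fusion system over a finite p-group S and E a normal subsystem of F over T such that Aut_F(T)/Aut_E(T) is p-solvable. Then there is a normal subsystem F₀ of F over T·C_S(T) containing E, with Aut_{F₀}(T) = Aut_E(T), containing every residual limit of F, and whose residual limits have the same maps as those of F. -/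
theorem result {Ω : Type*} [Group Ω] {S : Subgroup Ω} [Finite S] (p : ℕ) [Fact p.Prime] (hS : IsPGroup p S) (F : Cfsg.FusionSystem S) (hF : F.IsSaturated p) {T : Subgroup Ω} (E : Cfsg.FusionSystem T) (hE : E.IsNormalIn F p) [hn : ((E.autGroup T).subgroupOf (F.autGroup T)).Normal] (hsolv : Cfsg.IsPSolvable p (↥(F.autGroup T) ⧸ (E.autGroup T).subgroupOf (F.autGroup T))) : ∃ F₀ : Cfsg.FusionSystem (T ⊔ Cfsg.FusionSystem.centralizerIn S T), F₀.IsNormalIn F p ∧ E.IsSubsystemOf F₀ ∧ F₀.autGroup T = E.autGroup T ∧ ∀ {U : Subgroup Ω} (Finf : Cfsg.FusionSystem U), Finf.IsResidualLimitOf F p → Finf.IsSubsystemOf F₀ ∧ ∀ {V : Subgroup Ω} (L : Cfsg.FusionSystem V), L.IsResidualLimitOf F₀ p → ∀ P : Subgroup Ω, L.Hom P = Finf.Hom P := by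
  classical
  have hEa : E.IsInvariantIn F := hE.1.2.2
  have hTS : T ≤ S := hEa.2.1.1
  have hfinT : Finite T := Cfsg.Agent.Lead.Fusion.finite_of_le hTS
  have hAG : E.autGroup T ≤ F.autGroup T :=
    Cfsg.Agent.Lead.StrongInv.autGroup_le_of_subsystem F E hEa.1 T
  have hstep : ∀ G' : Subgroup (MulAut T), E.autGroup T ≤ G' → G' ≤ F.autGroup T →
      G' ≠ E.autGroup T →
      Cfsg.Agent.RSL.rslKq p (E.autGroup T) G' < G' ∨ Cfsg.Agent.RSL.rslKp p (E.autGroup T) G' < G' :=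
    fun G' h1 h2 h3 =>
      Cfsg.Agent.RSL.rsl_exists_step p (E.autGroup T) (F.autGroup T) hAG hsolv G' h1 h2 h3
  have hctx : Cfsg.Agent.RSL.Ctx p F E F :=
    ⟨hF, Cfsg.Agent.RSL.rsl_resinv_isInvariantIn_self p hS F hF, hE⟩
  obtain ⟨U, hU, F₀, hsat, hinv, hF₀F, hEF₀, hAut, hres⟩ :=
    Cfsg.Agent.RSL.rsl_main p hS F hF E hEa hstep (Nat.card (F.autGroup T)) F hctx le_rfl
  subst hU
  refine ⟨F₀, ?_, hEF₀.1.2.2.1, hAut, fun {U} Finf hFinf => hres Finf hFinf⟩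
  refine Cfsg.Agent.RSL.rsl_isNormalIn_of_centralizer_le p F F₀ ⟨hsat, hF, hinv⟩ ?_
  intro c hc
  obtain ⟨hcS, hcC⟩ := Subgroup.mem_inf.mp hc
  refine (le_sup_right : Cfsg.FusionSystem.centralizerIn S T ≤ _) (Subgroup.mem_inf.mpr ⟨hcS, ?_⟩)
  rw [Subgroup.mem_centralizer_iff] at hcC ⊢
  intro t ht
  exact hcC t ((le_sup_left : T ≤ T ⊔ Cfsg.FusionSystem.centralizerIn S T) ht)

end Cfsg.Agent.S5202
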