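import Mathlib
import Cfsg.Statements.S5212
import Cfsg.Agent.S5082
import Cfsg.Agent.S0112
import Cfsg.Agent.S4143
import Cfsg.Agent.S0115
import Cfsg.Agent.S4399
import Cfsg.Agent.S1896
import Cfsg.Agent.Helper4.MetacyclicA
import Cfsg.Agent.Lead.EssAbG
import Cfsg.Agent.Lead.FusionInner
import Cfsg.Agent.Lead.FusionEssNeeded
import Cfsg.Agent.Helper3.Meta2Ess
-- import your own Cfsg.Agent.* helpers here

set_option autoImplicit false
open Cfsg

namespace Cfsg.Agent.S5212

open Cfsg.Agent.Lead Cfsg.FusionSystem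

/-- a 2-group of maximal class is dihedral, semidihedral or generalized quaternion -/
theorem maxclass_contra {G : Type*} [Group G] [Finite G] (n : ℕ) (hn : 3 ≤ n)
    (hG : Nat.card G = 2 ^ n) (hc : Group.nilpotencyClass G = n - 1)
    (hd : ¬ ∃ m : ℕ, Nonempty (G ≃* DihedralGroup m))
    (hq : ¬ ∃ m : ℕ, Nonempty (G ≃* QuaternionGroup m)) (hsd : ¬ Cfsg.IsQuasiDihedral G) :
    False := by
  have hk : IsKleinFour (G ⧸ commutator G) := (Cfsg.Agent.S0115.result n hn hG).1 hc
  have h2 : IsPGroup 2 G := IsPGroup.of_card hG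
  have hab : Nat.card (Abelianization G) = 4 := hk.card_four
  have hexp : ∀ x : Abelianization G, x ^ 2 = 1 := by
    intro x
    have := Monoid.pow_exponent_eq_one x
    rwa [show Monoid.exponent (Abelianization G) = 2 from hk.exponent_two] at this
  rcases Cfsg.Agent.S4399.result h2 hab hexp with h4 | ⟨k, ⟨e⟩⟩ | ⟨k, hcard, a, b, ha, hb, hrel⟩ |
    ⟨k, ⟨e⟩⟩
  · rw [hG] at h4
    have : 2 ^ 3 ≤ 2 ^ n := Nat.pow_le_pow_right (by norm_num) hn
    omega
  · exact hd ⟨_, ⟨e⟩⟩
  · apply hsd
    exact ⟨k + 3, by omega, hcard, a, b, ha, hb, hrel⟩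
  · exact hq ⟨_, ⟨e⟩⟩

/-- the product of two copies written as functions on `Fin 2` -/
def prodEquivFinTwo (A : Type*) [AddCommGroup A] :
    Multiplicative A × Multiplicative A ≃* Multiplicative (Fin 2 → A) where
  toFun x := Multiplicative.ofAdd ![x.1.toAdd, x.2.toAdd]
  invFun f := (Multiplicative.ofAdd (f.toAdd 0), Multiplicative.ofAdd (f.toAdd 1))
  left_inv x := by
    rcases x with ⟨a, b⟩
    rfl
  right_inv f := by
    apply Multiplicative.toAdd.injective
    funext i
    fin_cases i <;> rfl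
  map_mul' x y := by
    apply Multiplicative.toAdd.injective
    funext i
    fin_cases i <;> rfl

/-- in a homocyclic group of exponent at least four, elements of order at most two are squares -/
theorem sq_of_sq_eq_one (k : ℕ) (hk : 2 ≤ k) (x : Multiplicative (ZMod (2 ^ k))) (hx : x ^ 2 = 1) :
    ∃ y : Multiplicative (ZMod (2 ^ k)), x = y ^ 2 := by
  haveI : NeZero (2 ^ k) := ⟨pow_ne_zero _ (by norm_num)⟩
  have h1 : (2 : ℕ) • x.toAdd = 0 := by
    have := congrArg Multiplicative.toAdd hx
    simpa using this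
  obtain ⟨v, hv⟩ : ∃ v : ℕ, v = x.toAdd.val := ⟨_, rfl⟩
  have hxv : x.toAdd = (v : ZMod (2 ^ k)) := by
    rw [hv, ZMod.natCast_zmod_val]
  have h2 : ((2 * v : ℕ) : ZMod (2 ^ k)) = 0 := by
    rw [Nat.cast_mul, ← hxv, ← h1]; simp
  rw [ZMod.natCast_eq_zero_iff] at h2
  have h3 : 2 ^ (k - 1) ∣ v := by
    have e : 2 ^ k = 2 * 2 ^ (k - 1) := by
      rw [← pow_succ']; congr 1; omega
    rw [e] at h2
    exact Nat.dvd_of_mul_dvd_mul_left (by norm_num) h2
  obtain ⟨c, hc⟩ := h3
  refine ⟨Multiplicative.ofAdd ((2 ^ (k - 2) * c : ℕ) : ZMod (2 ^ k)), ?_⟩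
  apply Multiplicative.toAdd.injective
  have e2 : 2 ^ (k - 1) = 2 * 2 ^ (k - 2) := by
    rw [← pow_succ']; congr 1; omega
  rw [toAdd_pow, toAdd_ofAdd, hxv, hc, e2]
  push_cast
  ring

variable {Ω : Type*} [Group Ω] {S : Subgroup Ω}

/-- An essential subgroup has an automorphism group in the system that is not a `p`-group. -/
theorem autGroup_not_isPGroup [Finite S] (p : ℕ) [Fact p.Prime] (F : FusionSystem S)
    (H : Subgroup Ω) (hH : F.IsEssential p H) : ¬ IsPGroup p (F.autGroup H) := by
  intro hp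
  obtain ⟨hc, -, hn, E, hE⟩ := hH
  haveI := hn
  haveI : Finite H := Fusion.finite_of_le hc.1
  have hcore := pCore_eq_bot_of_stronglyPEmbedded p E hE
  have hq : IsPGroup p (↥(F.autGroup H) ⧸ (Inn H).subgroupOf (F.autGroup H)) :=
    hp.to_quotient _
  have htop : (⊤ : Subgroup (↥(F.autGroup H) ⧸ (Inn H).subgroupOf (F.autGroup H))) ≤
      Cfsg.pCore p _ :=
    Cfsg.Agent.Helper1.le_pCore inferInstance (hq.to_subgroup ⊤)
  rw [hcore] at htop
  have h1 : Nat.card (↥(F.autGroup H) ⧸ (Inn H).subgroupOf (F.autGroup H)) = 1 := by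
    rw [← Subgroup.card_top, eq_bot_iff.2 htop, Subgroup.card_bot]
  have h2 := hE.1
  rw [h1] at h2
  exact (Fact.out : p.Prime).one_lt.ne' (Nat.dvd_one.1 h2)

/-- For an abelian essential subgroup the automorphism group has trivial `p`-core. -/
theorem pCore_autGroup_eq_bot [Finite S] (p : ℕ) [Fact p.Prime] (F : FusionSystem S)
    (H : Subgroup Ω) (hH : F.IsEssential p H) (hcomm : ∀ a b : ↥H, a * b = b * a) :
    Cfsg.pCore p ↥(F.autGroup H) = ⊥ := by
  obtain ⟨hc, -, hn, E, hE⟩ := hH
  haveI := hn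
  haveI : Finite H := Fusion.finite_of_le hc.1
  have hInn : Cfsg.Inn ↥H = ⊥ := by
    rw [eq_bot_iff]
    rintro _ ⟨a, rfl⟩
    rw [Subgroup.mem_bot]
    ext x
    simp only [MulAut.conj_apply, MulAut.one_apply]
    rw [hcomm a x, mul_assoc, mul_inv_cancel, mul_one]
  have hN : (Cfsg.Inn ↥H).subgroupOf (F.autGroup H) = ⊥ := by
    rw [hInn, Subgroup.bot_subgroupOf]
  have e : (↥(F.autGroup H) ⧸ (Cfsg.Inn ↥H).subgroupOf (F.autGroup H)) ≃* ↥(F.autGroup H) :=
    (QuotientGroup.quotientMulEquivOfEq hN).trans QuotientGroup.quotientBot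
  have hcoreX := pCore_eq_bot_of_stronglyPEmbedded p E hE
  rw [← Cfsg.Agent.Helper4.pCore_map_mulEquiv e, hcoreX, Subgroup.map_bot]

/-- a subgroup in which a proper subgroup of a 2-group has index two -/
theorem exists_index_two_over [Finite S] (hS : IsPGroup 2 S) {H : Subgroup Ω} (hlt : H < S) :
    ∃ K : Subgroup Ω, H ≤ K ∧ K ≤ S ∧ (H.subgroupOf K).index = 2 := by
  haveI : Fact (Nat.Prime 2) := ⟨Nat.prime_two⟩
  have hHS : H ≤ S := hlt.le
  haveI : Finite H := Fusion.finite_of_le hHS
  obtain ⟨n, hn⟩ := IsPGroup.iff_card.1 hS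
  have hHp : IsPGroup 2 H :=
    hS.of_injective (Subgroup.inclusion hHS) (Subgroup.inclusion_injective hHS)
  obtain ⟨m, hm⟩ := IsPGroup.iff_card.1 hHp
  have hcard' : Nat.card (H.subgroupOf S) = 2 ^ m := by
    rw [Nat.card_congr (Subgroup.subgroupOfEquivOfLe hHS).toEquiv, hm]
  have hmn : m < n := by
    by_contra hge
    push Not at hge
    have h1 : Nat.card S ≤ Nat.card H := by
      rw [hn, hm]; exact Nat.pow_le_pow_right (by norm_num) hge
    have h2 : H.subgroupOf S = ⊤ := by
      apply Subgroup.eq_top_of_card_eq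
      rw [hcard', hn]
      apply le_antisymm
      · exact Nat.pow_le_pow_right (by norm_num) (by
          by_contra hh
          push Not at hh
          have := Subgroup.card_le_card_group (H.subgroupOf S)
          rw [hcard', hn] at this
          have := Nat.pow_lt_pow_right (a := 2) (by norm_num) hh
          omega)
      · exact Nat.pow_le_pow_right (by norm_num) hge
    rw [Subgroup.subgroupOf_eq_top] at h2
    exact absurd (le_antisymm hHS h2) hlt.ne
  have hdvd : 2 ^ (m + 1) ∣ Nat.card S := by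
    rw [hn]; exact pow_dvd_pow 2 (by omega)
  obtain ⟨K, hK, hHK⟩ := Sylow.exists_subgroup_card_pow_succ hdvd hcard'
  refine ⟨K.map S.subtype, ?_, ?_, ?_⟩
  · intro x hx
    exact ⟨⟨x, hHS hx⟩, hHK hx, rfl⟩
  · rintro _ ⟨y, -, rfl⟩
    exact y.2
  · have hle : H ≤ K.map S.subtype := by
      intro x hx
      exact ⟨⟨x, hHS hx⟩, hHK hx, rfl⟩
    have hcK : Nat.card (K.map S.subtype) = 2 ^ (m + 1) := by
      rw [Subgroup.card_map_of_injective S.subtype_injective, hK]
    have h1 := Subgroup.card_mul_index (H.subgroupOf (K.map S.subtype))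
    rw [Nat.card_congr (Subgroup.subgroupOfEquivOfLe hle).toEquiv, hm, hcK, pow_succ] at h1
    exact Nat.eq_of_mul_eq_mul_left (by positivity) h1


/-- the automorphism group of the whole group in the system is inner -/
theorem top_aut [Finite S] (hS : IsPGroup 2 S) (F : FusionSystem S) (hF : F.IsSaturated 2)
    (hm : Cfsg.IsMetacyclic ↥S)
    (hh : ¬ ∃ n k : ℕ, Nonempty (↥S ≃* Multiplicative (Fin k → ZMod (2 ^ n))))
    (hq : ¬ ∃ m : ℕ, Nonempty (↥S ≃* QuaternionGroup m)) :
    F.autGroup S ≤ (innerFusionSystem S).autGroup S := by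
  haveI : Fact (Nat.Prime 2) := ⟨Nat.prime_two⟩
  have hp : IsPGroup 2 (F.autGroup S) := by
    by_contra hnp
    have hA : ¬ IsPGroup 2 (MulAut S) := fun h => hnp (h.to_subgroup _)
    rcases Cfsg.Agent.S1896.result hS hm hA with ⟨⟨e⟩⟩ | ⟨n, ⟨e⟩⟩
    · exact hq ⟨2, ⟨e⟩⟩
    · exact hh ⟨n, 2, ⟨e.trans (prodEquivFinTwo (ZMod (2 ^ n)))⟩⟩
  have h1 := Fusion.autGroup_le_autInducedBy 2 F (Fusion.top_fullyAutomized 2 F hF) hp
  refine h1.trans ?_
  unfold autInducedBy FusionSystem.autGroup
  apply Subgroup.closure_mono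
  rintro α ⟨g, hg, h⟩
  exact ⟨le_rfl, g, hg, fun x => h x⟩

/-- there are no essential subgroups -/
theorem no_essential [Finite S] (hS : IsPGroup 2 S) (F : FusionSystem S) (hF : F.IsSaturated 2)
    (hm : Cfsg.IsMetacyclic ↥S)
    (hd : ¬ ∃ m : ℕ, Nonempty (↥S ≃* DihedralGroup m))
    (hq : ¬ ∃ m : ℕ, Nonempty (↥S ≃* QuaternionGroup m)) (hsd : ¬ Cfsg.IsQuasiDihedral ↥S)
    (H : Subgroup Ω) (hH : F.IsEssential 2 H) : False := by
  haveI : Fact (Nat.Prime 2) := ⟨Nat.prime_two⟩
  have hHS : H ≤ S := hH.1.1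
  have hlt : H < S := Fusion.essential_lt_top 2 hS F hF hH
  haveI : Finite H := Fusion.finite_of_le hHS
  have hcent : centralizerIn S H ≤ H := hH.1.2 H (Fusion.isConj_refl F hHS)
  have hHp : IsPGroup 2 H :=
    hS.of_injective (Subgroup.inclusion hHS) (Subgroup.inclusion_injective hHS)
  have hHm : Cfsg.IsMetacyclic ↥H :=
    Cfsg.Agent.Helper4.isMetacyclic_of_injective (Subgroup.inclusion hHS)
      (Subgroup.inclusion_injective hHS) hm
  have hnp : ¬ IsPGroup 2 (F.autGroup H) := autGroup_not_isPGroup 2 F H hH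
  have hA : ¬ IsPGroup 2 (MulAut H) := fun h => hnp (h.to_subgroup _)
  -- inside the group `S`
  have hcent' : Subgroup.centralizer ((H.subgroupOf S : Subgroup S) : Set S) ≤ H.subgroupOf S := by
    intro c hc
    rw [Subgroup.mem_subgroupOf]
    apply hcent
    refine Subgroup.mem_inf.2 ⟨c.2, ?_⟩
    rw [Subgroup.mem_centralizer_iff]
    intro h hh
    have := hc ⟨h, hHS hh⟩ (by rw [SetLike.mem_coe, Subgroup.mem_subgroupOf]; exact hh)
    exact congrArg Subtype.val this
  obtain ⟨n, hn⟩ := IsPGroup.iff_card.1 hS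
  have hcardH' : Nat.card (H.subgroupOf S) = Nat.card H :=
    Nat.card_congr (Subgroup.subgroupOfEquivOfLe hHS).toEquiv
  have hltcard : Nat.card H < 2 ^ n := by
    rw [← hn]
    have h1 : Nat.card (H.subgroupOf S) ≤ Nat.card S := Subgroup.card_le_card_group _
    rw [hcardH'] at h1
    rcases h1.lt_or_eq with h | h
    · exact h
    · exfalso
      have h2 : H.subgroupOf S = ⊤ := Subgroup.eq_top_of_card_eq _ (by rw [hcardH', h])
      rw [Subgroup.subgroupOf_eq_top] at h2
      exact hlt.ne (le_antisymm hHS h2)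
  rcases Cfsg.Agent.S1896.result hHp hHm hA with ⟨⟨e⟩⟩ | ⟨k, ⟨e⟩⟩
  · -- quaternion of order 8
    have hc8 : Nat.card H = 2 ^ 3 := by
      rw [Nat.card_congr e.toEquiv, Nat.card_eq_fintype_card, QuaternionGroup.card]
      norm_num
    have hn4 : 3 ≤ n := by
      rw [hc8] at hltcard
      have := (Nat.pow_lt_pow_iff_right (a := 2) (by norm_num)).1 hltcard
      omega
    have hna : ¬ IsMulCommutative ↥(H.subgroupOf S) := by
      intro hcm
      have h1 : ∀ a b : QuaternionGroup 2, a * b = b * a := by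
        intro a b
        have e' := (Subgroup.subgroupOfEquivOfLe hHS).trans e
        have := hcm.is_comm.comm (e'.symm a) (e'.symm b)
        have := congrArg e' this
        simpa using this
      have h2 := h1 (QuaternionGroup.a 1) (QuaternionGroup.xa 0)
      revert h2
      decide
    have hcl := Cfsg.Agent.S4143.result n hn (H.subgroupOf S) (by rw [hcardH', hc8]) hna hcent'
    exact maxclass_contra n hn4 hn hcl hd hq hsd
  · -- homocyclic of rank two
    have hcomm : ∀ a b : ↥H, a * b = b * a := by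
      intro a b
      apply e.injective
      rw [map_mul, map_mul, mul_comm]
    have hcardH : Nat.card H = 2 ^ (2 * k) := by
      haveI : NeZero (2 ^ k) := ⟨pow_ne_zero _ (by norm_num)⟩
      rw [Nat.card_congr e.toEquiv, Nat.card_prod]
      have : Nat.card (Multiplicative (ZMod (2 ^ k))) = 2 ^ k := by
        rw [Nat.card_congr Multiplicative.toAdd, Nat.card_zmod]
      rw [this]; ring
    rcases Nat.lt_or_ge k 2 with hk2 | hk2
    · rcases Nat.eq_zero_or_pos k with hk0 | hk1
      · -- H trivial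
        subst hk0
        have hH1 : Nat.card H = 1 := by rw [hcardH]; norm_num
        have hbot : H = ⊥ := Subgroup.card_eq_one.1 hH1
        apply hlt.ne
        apply le_antisymm hHS
        intro s hs
        apply hcent
        refine Subgroup.mem_inf.2 ⟨hs, ?_⟩
        rw [Subgroup.mem_centralizer_iff]
        intro h hh
        rw [hbot, SetLike.mem_coe, Subgroup.mem_bot] at hh
        rw [hh]; simp
      · -- four-group
        have hk : k = 1 := by omega
        subst hk
        have hc4 : Nat.card H = 2 ^ 2 := by rw [hcardH]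
        have hn3 : 3 ≤ n := by
          rw [hc4] at hltcard
          have := (Nat.pow_lt_pow_iff_right (a := 2) (by norm_num)).1 hltcard
          omega
        have hceq : Subgroup.centralizer ((H.subgroupOf S : Subgroup S) : Set S) =
            H.subgroupOf S := by
          apply le_antisymm hcent'
          intro x hx
          rw [Subgroup.mem_centralizer_iff]
          intro y hy
          have := congrArg Subtype.val (hcomm ⟨(y : Ω), hy⟩ ⟨(x : Ω), hx⟩)
          apply Subtype.ext
          simpa using this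
        have hcl := Cfsg.Agent.S0112.result n hn (H.subgroupOf S) (by rw [hcardH', hc4]) hceq
        exact maxclass_contra n hn3 hn hcl hd hq hsd
    · -- exponent at least four
      obtain ⟨K, hHK, hKS, hidx⟩ := exists_index_two_over hS hlt
      haveI : Finite K := Fusion.finite_of_le hKS
      have hKp : IsPGroup 2 K :=
        hS.of_injective (Subgroup.inclusion hKS) (Subgroup.inclusion_injective hKS)
      have hKm : Cfsg.IsMetacyclic ↥K :=
        Cfsg.Agent.Helper4.isMetacyclic_of_injective (Subgroup.inclusion hKS)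
          (Subgroup.inclusion_injective hKS) hm
      have hcoreA := pCore_autGroup_eq_bot 2 F H hH hcomm
      have hKN : K ≤ Subgroup.normalizer (H : Set Ω) := by
        rw [← Subgroup.normal_subgroupOf_iff_le_normalizer hHK]
        exact Subgroup.normal_of_index_eq_two hidx
      apply Cfsg.Agent.Helper3.Meta2Ess.no_homocyclic_aux hKp hKm (H.subgroupOf K) hidx
      · intro x hx y hy
        have := congrArg Subtype.val (hcomm ⟨(x : Ω), hx⟩ ⟨(y : Ω), hy⟩)
        apply Subtype.ext
        simpa using this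
      · intro h hh h2
        have hsqH : ∀ x : ↥H, x ^ 2 = 1 → ∃ y : ↥H, x = y ^ 2 := by
          intro x hx
          have h1 : (e x) ^ 2 = 1 := by rw [← map_pow, hx, map_one]
          obtain ⟨y1, hy1⟩ := sq_of_sq_eq_one k hk2 (e x).1 (by
            have := congrArg Prod.fst h1; simpa using this)
          obtain ⟨y2, hy2⟩ := sq_of_sq_eq_one k hk2 (e x).2 (by
            have := congrArg Prod.snd h1; simpa using this)
          refine ⟨e.symm (y1, y2), ?_⟩
          apply e.injective
          rw [map_pow, e.apply_symm_apply]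
          exact Prod.ext hy1 hy2
        obtain ⟨y, hy⟩ := hsqH ⟨(h : Ω), hh⟩ (by
          apply Subtype.ext
          have := congrArg Subtype.val h2
          simpa using this)
        refine ⟨⟨(y : Ω), hHK y.2⟩, y.2, ?_⟩
        apply Subtype.ext
        have := congrArg Subtype.val hy
        simpa using this
      · intro t ht
        by_contra hcon
        push Not at hcon
        have htN : (t : Ω) ∈ Subgroup.normalizer (H : Set Ω) := hKN t.2
        have htS : (t : Ω) ∈ S := hKS t.2
        have hαA : conjAutHom H ⟨(t : Ω), htN⟩ ∈ F.autGroup H :=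
          Fusion.autInducedBy_le_autGroup F hHS
            (Fusion.conjAutHom_mem_autInducedBy H ⟨(t : Ω), htN⟩ htS)
        have hα1 : conjAutHom H ⟨(t : Ω), htN⟩ = 1 := by
          letI : CommGroup ↥H := { (inferInstance : Group ↥H) with mul_comm := hcomm }
          apply Cfsg.Agent.Lead.EssAb.eq_one_of_trivial_mod_frattini (F.autGroup H) hHp hcoreA _ hαA
          intro x
          obtain ⟨h', hh', hrel⟩ := hcon ⟨(x : Ω), hHK x.2⟩ x.2
          have e1 : x⁻¹ * conjAutHom H ⟨(t : Ω), htN⟩ x = (⟨(h' : Ω), hh'⟩ : ↥H) ^ 2 := by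
            rw [hcomm x⁻¹ (conjAutHom H ⟨(t : Ω), htN⟩ x)]
            apply Subtype.ext
            have := congrArg Subtype.val hrel
            simpa using this
          rw [e1]
          exact Cfsg.Agent.Helper1.IsPGroup.pow_mem_frattini hHp _
        apply ht
        rw [Subgroup.mem_subgroupOf]
        apply hcent
        refine Subgroup.mem_inf.2 ⟨htS, ?_⟩
        rw [Subgroup.mem_centralizer_iff]
        intro h hh
        have := congrArg (fun α : MulAut H => ((α ⟨h, hh⟩ : H) : Ω)) hα1
        simp only [conjAutHom_apply, MulAut.one_apply] at this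
        calc h * (t : Ω) = ((t : Ω) * h * (t : Ω)⁻¹) * t := by rw [this]
          _ = t * h := by group

/-- Let S be a finite metacyclic 2-group that is not homocyclic abelian (a direct product of cyclic groups of one common order), not dihedral, not semidihedral and not generalized quaternion. Then every saturated fusion system over S is the inner fusion system of S. -/
theorem result {Ω : Type*} [Group Ω] {S : Subgroup Ω} [Finite S] (hS : IsPGroup 2 S) (F : Cfsg.FusionSystem S) (hF : F.IsSaturated 2) (hm : Cfsg.IsMetacyclic ↥S) (hh : ¬ ∃ n k : ℕ, Nonempty (↥S ≃* Multiplicative (Fin k → ZMod (2 ^ n)))) (hd : ¬ ∃ m : ℕ, Nonempty (↥S ≃* DihedralGroup m)) (hq : ¬ ∃ m : ℕ, Nonempty (↥S ≃* QuaternionGroup m)) (hsd : ¬ Cfsg.IsQuasiDihedral ↥S) : ∀ P : Subgroup Ω, F.Hom P = (Cfsg.innerFusionSystem S).Hom P := by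
  haveI : Fact (Nat.Prime 2) := ⟨Nat.prime_two⟩
  have hle : F ≤ innerFusionSystem S := by
    apply Cfsg.Agent.S5082.result 2 hS F hF
    intro P hP
    rcases hP with h | h
    · rw [h]
      exact top_aut hS F hF hm hh hq
    · exact absurd h (no_essential hS F hF hm hd hq hsd P)
  intro P
  apply Set.Subset.antisymm (hle P)
  rintro φ ⟨hP, g, hg, hφ⟩
  have e : φ = conjHom P g := by
    ext x
    exact hφ x
  rw [e]
  exact F.conj_mem hP hg


end Cfsg.Agent.S5212
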