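import Cfsg.Statements.S5214
import Cfsg.Agent.S1137
import Cfsg.Agent.S1138
import Cfsg.Agent.Lead.FusionNormalCrit
import Cfsg.Agent.Helper1.SuzFus
-- import your own Cfsg.Agent.* helpers here

set_option autoImplicit false
open Cfsg

namespace Cfsg.Agent.S5214
open Cfsg.FusionSystem Cfsg.Agent.Lead Cfsg.Agent.Helper1.SuzFus

/-- Let S be a Suzuki 2-group (a finite nonabelian 2-group with more than one involution admitting a cyclic group of automorphisms permuting its involutions regularly). Then S is normal in every saturated fusion system over S (such a group is resistant). -/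
theorem result {Ω : Type*} [Group Ω] {S : Subgroup Ω} [Finite S] (hS : IsPGroup 2 S) (F : Cfsg.FusionSystem S) (hF : F.IsSaturated 2) (hsz : Cfsg.IsSuzukiTwoGroup ↥S) : F.IsNormal S := by
  have h37 := Cfsg.Agent.S1137.result hsz
  have h38 := Cfsg.Agent.S1138.result hsz
  apply Fusion.isNormal_of_forall_essential 2 hS F hF S
  intro P hP
  have hPeq : P = S := by
    rcases hP with h | hess
    · exact h
    by_contra hne
    have hc := hess.1
    have hr := Fusion.isRadical_of_isEssential 2 hS F hess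
    have hPS := hc.1
    obtain ⟨g, hgT, hgP⟩ := Fusion.exists_mem_normalizerIn_not_mem hS hPS hne
    have hgS : g ∈ S := (Subgroup.mem_inf.mp hgT).1
    have hgN : g ∈ Subgroup.normalizer (P : Set Ω) := (Subgroup.mem_inf.mp hgT).2
    let Z : Subgroup Ω := (Subgroup.center S).map S.subtype
    have hZmem : ∀ z : Ω, z ∈ Z ↔ ∃ hz : z ∈ S, (⟨z, hz⟩ : S) ∈ Subgroup.center S := by
      intro z
      constructor
      · rintro ⟨y, hy, rfl⟩; exact ⟨y.2, hy⟩
      · rintro ⟨hz, h⟩; exact ⟨⟨z, hz⟩, h, rfl⟩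
    have hZS : Z ≤ S := by rintro _ ⟨y, _, rfl⟩; exact y.2
    have hZcomm : ∀ z ∈ Z, ∀ s ∈ S, s * z = z * s := by
      intro z hz s hs
      obtain ⟨hzS, hzc⟩ := (hZmem z).mp hz
      have := Subgroup.mem_center_iff.mp hzc ⟨s, hs⟩
      exact congrArg Subtype.val this
    have hZ2 : ∀ z ∈ Z, z * z = 1 := by
      intro z hz
      obtain ⟨hzS, hzc⟩ := (hZmem z).mp hz
      exact congrArg Subtype.val (h37.2 _ hzc)
    have hZinv : ∀ x ∈ S, x * x = 1 → x ∈ Z := by
      intro x hx hxx
      by_cases hx1 : x = 1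
      · rw [hx1]; exact Z.one_mem
      · have := (h37.1 ⟨x, hx⟩).mp ⟨fun h => hx1 (congrArg Subtype.val h), Subtype.ext hxx⟩
        exact (hZmem x).mpr ⟨hx, this.1⟩
    have hZP : Z ≤ P := by
      intro z hz
      apply hc.2 P (Fusion.isConj_refl F hPS)
      refine Subgroup.mem_inf.mpr ⟨hZS hz, ?_⟩
      rw [Subgroup.mem_centralizer_iff]
      intro y hy
      exact hZcomm z hz y (hPS hy)
    have hpres : ∀ (a : MulAut P) (x : P), (x : Ω) ∈ Z → ((a x : P) : Ω) ∈ Z := by
      intro a x hx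
      apply hZinv _ (hPS (a x).2)
      have : a x * a x = 1 := by
        rw [← map_mul]
        have : x * x = 1 := Subtype.ext (hZ2 _ hx)
        rw [this, map_one]
      exact congrArg Subtype.val this
    have hBp : IsPGroup 2 (chainStab Z P hZP) := chainStab_isPGroup hZ2
    have hVnormal : ((chainStab Z P hZP).subgroupOf (F.autGroup P)).Normal := by
      constructor
      intro n hn a
      rw [Subgroup.mem_subgroupOf] at hn ⊢
      exact chainStab_conj a.1 (hpres a.1) (hpres a.1⁻¹) hn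
    have hVle : (chainStab Z P hZP).subgroupOf (F.autGroup P) ≤ pCore 2 (F.autGroup P) :=
      le_sSup ⟨hVnormal, hBp.comap_subtype⟩
    have hcgB : conjAutHom P ⟨g, hgN⟩ ∈ chainStab Z P hZP := by
      refine ⟨fun x => ?_, fun x hx => ?_⟩
      · rw [conjAutHom_apply]
        have hxS : (x : Ω) ∈ S := hPS x.2
        have h1 := h38.2.1 (⟨g, hgS⟩⁻¹ : S) (⟨x, hxS⟩⁻¹ : S)
        have h2 : g * (x : Ω) * g⁻¹ * (x : Ω)⁻¹ ∈ Z := by
          rw [hZmem]
          refine ⟨S.mul_mem (S.mul_mem (S.mul_mem hgS hxS) (S.inv_mem hgS)) (S.inv_mem hxS), ?_⟩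
          convert h1 using 1
          apply Subtype.ext
          simp
        exact h2
      · apply Subtype.ext
        rw [conjAutHom_apply]
        have := hZcomm _ hx g hgS
        show g * (x : Ω) * g⁻¹ = x
        rw [this]; group
    have hcgA : conjAutHom P ⟨g, hgN⟩ ∈ F.autGroup P :=
      Fusion.autInducedBy_le_autGroup F hPS (Fusion.conjAutHom_mem_autInducedBy P ⟨g, hgN⟩ hgS)
    have hcgInn : conjAutHom P ⟨g, hgN⟩ ∈ Inn P := by
      rw [← hr.2]
      exact ⟨⟨_, hcgA⟩, hVle (Subgroup.mem_subgroupOf.mpr hcgB), rfl⟩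
    exact hgP (Fusion.mem_of_conjAutHom_mem_inn F hc g hgS hgN hcgInn)
  subst hPeq
  refine ⟨le_rfl, fun α _ => ?_⟩
  have : P.subgroupOf P = ⊤ := by simp
  rw [this, ← MonoidHom.range_eq_map]
  exact MonoidHom.range_eq_top.mpr α.surjective

end Cfsg.Agent.S5214
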