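import Mathlib
import Cfsg.Statements.S5218
import Cfsg.Agent.S5087
import Cfsg.Agent.Lead.FusionAlperinGe
import Cfsg.Agent.Lead.FusionEssNeeded
import Cfsg.Agent.Helper1.AGa
import Cfsg.Agent.Helper3.AgemoMod
-- import your own Cfsg.Agent.* helpers here

set_option autoImplicit false
open Cfsg

namespace Cfsg.Agent.S5218

open Cfsg.Agent.Lead Cfsg.FusionSystem
open scoped commutatorElement

variable {Ω : Type*} [Group Ω] {S : Subgroup Ω}

/-- the subsystem of the maps preserving membership in `Z` -/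
def presSys (F : FusionSystem S) (Z : Subgroup Ω)
    (hZ : ∀ g ∈ S, ∀ x : Ω, x ∈ Z ↔ g * x * g⁻¹ ∈ Z) : FusionSystem S where
  Hom P := {φ | φ ∈ F.Hom P ∧ ∀ x : P, (x : Ω) ∈ Z ↔ φ x ∈ Z}
  le_of_mem h := F.le_of_mem h.1
  injective_of_mem h := F.injective_of_mem h.1
  conj_mem hP hg := ⟨F.conj_mem hP hg, fun x => hZ _ hg x⟩
  comp_mem {P Q φ ψ} hφ hψ h :=
    ⟨F.comp_mem hφ.1 hψ.1 h, fun x => (hφ.2 x).trans (hψ.2 ⟨φ x, h x⟩)⟩
  inv_mem {P φ} hφ := by
    obtain ⟨ψ, hψ, hinv⟩ := F.inv_mem hφ.1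
    refine ⟨ψ, ⟨hψ, ?_⟩, hinv⟩
    rintro ⟨y, x, rfl⟩
    rw [hinv x]
    exact (hφ.2 x).symm

/-- the `p^n`-th powers of the central elements of `R`, inside `R` -/
def agemoZ (p n : ℕ) (R : Subgroup Ω) : Subgroup R :=
  Subgroup.closure {u : R | ∃ v : R, (∀ r : R, r * v = v * r) ∧ u = v ^ (p ^ n)}

theorem aut_agemoZ (p n : ℕ) (R : Subgroup Ω) (α : MulAut R) (y : R) (hy : y ∈ agemoZ p n R) :
    α y ∈ agemoZ p n R := by
  have h : agemoZ p n R ≤ (agemoZ p n R).comap α.toMonoidHom := by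
    unfold agemoZ
    rw [Subgroup.closure_le]
    rintro u ⟨v, hv, rfl⟩
    rw [SetLike.mem_coe, Subgroup.mem_comap]
    apply Subgroup.subset_closure
    refine ⟨α v, fun r => ?_, ?_⟩
    · have h1 := hv (α.symm r)
      have h2 := congrArg α h1
      rw [map_mul, map_mul, MulEquiv.apply_symm_apply] at h2
      exact h2
    · exact map_pow α.toMonoidHom v _
  exact h hy

/-- `℧ⁿ(Z(S))` -/
abbrev Zn (p n : ℕ) (S : Subgroup Ω) : Subgroup Ω :=
  Cfsg.powerClosure p n (S ⊓ Subgroup.centralizer (S : Set Ω))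

theorem Zn_le_center (p n : ℕ) (S : Subgroup Ω) :
    Zn p n S ≤ S ⊓ Subgroup.centralizer (S : Set Ω) := by
  unfold Zn Cfsg.powerClosure
  rw [Subgroup.closure_le]
  rintro y ⟨x, hx, rfl⟩
  exact Subgroup.pow_mem _ hx _

theorem Zn_le_map (p n : ℕ) {R : Subgroup Ω} (hRS : R ≤ S) (hc : centralizerIn S R ≤ R) :
    Zn p n S ≤ (agemoZ p n R).map R.subtype := by
  unfold Zn Cfsg.powerClosure
  rw [Subgroup.closure_le]
  rintro y ⟨x, hx, rfl⟩
  have hxS : x ∈ S := (Subgroup.mem_inf.1 hx).1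
  have hxC := (Subgroup.mem_inf.1 hx).2
  rw [Subgroup.mem_centralizer_iff] at hxC
  have hxR : x ∈ R := by
    apply hc
    refine Subgroup.mem_inf.2 ⟨hxS, ?_⟩
    rw [Subgroup.mem_centralizer_iff]
    intro r hr
    exact hxC r (hRS hr)
  refine ⟨⟨x, hxR⟩ ^ (p ^ n), ?_, rfl⟩
  apply Subgroup.subset_closure
  refine ⟨⟨x, hxR⟩, fun r => ?_, rfl⟩
  apply Subtype.ext
  exact hxC r.1 (hRS r.2)

theorem map_le_Zn (p n : ℕ) (S : Subgroup Ω) :
    (agemoZ p n S).map S.subtype ≤ Zn p n S := by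
  rw [Subgroup.map_le_iff_le_comap]
  unfold agemoZ
  rw [Subgroup.closure_le]
  rintro u ⟨v, hv, rfl⟩
  rw [SetLike.mem_coe, Subgroup.mem_comap]
  apply Subgroup.subset_closure
  refine ⟨v.1, Subgroup.mem_inf.2 ⟨v.2, ?_⟩, rfl⟩
  rw [Subgroup.mem_centralizer_iff]
  intro s hs
  exact congrArg Subtype.val (hv ⟨s, hs⟩)

theorem Zn_conj (p n : ℕ) (S : Subgroup Ω) (g : Ω) (hg : g ∈ S) (x : Ω) :
    x ∈ Zn p n S ↔ g * x * g⁻¹ ∈ Zn p n S := by
  have hc : ∀ y ∈ Zn p n S, g * y * g⁻¹ = y := by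
    intro y hy
    have h1 := (Subgroup.mem_inf.1 (Zn_le_center p n S hy)).2
    rw [Subgroup.mem_centralizer_iff] at h1
    rw [h1 g hg]; group
  constructor
  · intro hx
    rw [hc x hx]; exact hx
  · intro hx
    have h2 := hc _ hx
    have h3 : x = g * x * g⁻¹ := by
      calc x = g⁻¹ * (g * x * g⁻¹) * g := by group
        _ = g⁻¹ * (g * (g * x * g⁻¹) * g⁻¹) * g := by rw [h2]
        _ = g * x * g⁻¹ := by group
    rw [h3]; exact hx

/-- conjugation by `x ∈ N_S(R)` with `x^p ∈ R` fixes the `p^n`-th powers of the elements of `Z(R)` -/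
theorem conj_fix (p : ℕ) [hp : Fact p.Prime] (n : ℕ)
    (hcl : S.lowerCentralSeries (n * (p - 1) + 1) = ⊥)
    (R : Subgroup Ω) (hRS : R ≤ S) (x : Ω) (hxS : x ∈ S)
    (hxN : x ∈ Subgroup.normalizer (R : Set Ω)) (hxp : x ^ p ∈ R)
    (v : Ω) (hvR : v ∈ R) (hvC : ∀ r ∈ R, r * v = v * r) :
    x * v ^ (p ^ n) * x⁻¹ = v ^ (p ^ n) := by
  set A : Subgroup Ω := R ⊓ Subgroup.centralizer (R : Set Ω) with hA
  have hvA : v ∈ A :=
    Subgroup.mem_inf.2 ⟨hvR, by rw [Subgroup.mem_centralizer_iff]; exact fun r hr => hvC r hr⟩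
  have hcomm : ∀ a ∈ A, ∀ b ∈ A, a * b = b * a := fun a ha b hb =>
    (Subgroup.mem_centralizer_iff.1 (Subgroup.mem_inf.1 hb).2) a (Subgroup.mem_inf.1 ha).1
  have hxN' : x⁻¹ ∈ Subgroup.normalizer (R : Set Ω) := Subgroup.inv_mem _ hxN
  have hτA : ∀ a ∈ A, (MulAut.conj x).toMonoidHom a ∈ A := by
    intro a ha
    show x * a * x⁻¹ ∈ A
    refine Subgroup.mem_inf.2 ⟨(Subgroup.mem_normalizer_iff.1 hxN a).1 (Subgroup.mem_inf.1 ha).1, ?_⟩
    rw [Subgroup.mem_centralizer_iff]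
    intro r hr
    have hr' : x⁻¹ * r * x⁻¹⁻¹ ∈ R := (Subgroup.mem_normalizer_iff.1 hxN' r).1 hr
    have h1 := (Subgroup.mem_centralizer_iff.1 (Subgroup.mem_inf.1 ha).2) _ hr'
    calc r * (x * a * x⁻¹) = x * ((x⁻¹ * r * x⁻¹⁻¹) * a) * x⁻¹ := by group
      _ = x * (a * (x⁻¹ * r * x⁻¹⁻¹)) * x⁻¹ := by rw [h1]
      _ = x * a * x⁻¹ * r := by group
  have hit : ∀ (m : ℕ) (a : Ω), (⇑(MulAut.conj x).toMonoidHom)^[m] a = x ^ m * a * (x ^ m)⁻¹ := by
    intro m
    induction m with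
    | zero => intro a; simp
    | succ m ih =>
      intro a
      rw [Function.iterate_succ_apply', ih]
      show x * (x ^ m * a * (x ^ m)⁻¹) * x⁻¹ = _
      rw [pow_succ']; group
  have hτ : ∀ a ∈ A, (⇑(MulAut.conj x).toMonoidHom)^[p] a = a := by
    intro a ha
    rw [hit]
    have h1 := (Subgroup.mem_centralizer_iff.1 (Subgroup.mem_inf.1 ha).2) _ hxp
    rw [h1]; group
  have hlcs : ∀ (m : ℕ) (a : Ω), a ∈ S →
      (fun w => (MulAut.conj x).toMonoidHom w * w⁻¹)^[m] a ∈ S.lowerCentralSeries m := by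
    intro m
    induction m with
    | zero => intro a ha; exact ha
    | succ m ih =>
      intro a ha
      rw [Function.iterate_succ_apply', Subgroup.lowerCentralSeries_succ]
      set w := (fun w => (MulAut.conj x).toMonoidHom w * w⁻¹)^[m] a with hw
      have hw' : w ∈ S.lowerCentralSeries m := ih a ha
      have h1 : ⁅w, x⁆ ∈ ⁅S.lowerCentralSeries m, S⁆ := Subgroup.commutator_mem_commutator hw' hxS
      have h2 : (MulAut.conj x).toMonoidHom w * w⁻¹ = ⁅w, x⁆⁻¹ := by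
        rw [commutatorElement_inv, commutatorElement_def]
        rfl
      show (MulAut.conj x).toMonoidHom w * w⁻¹ ∈ _
      rw [h2]
      exact Subgroup.inv_mem _ h1
  have hδ : ∀ a ∈ A, (fun w => (MulAut.conj x).toMonoidHom w * w⁻¹)^[n * (p - 1) + 1] a = 1 := by
    intro a ha
    have h1 := hlcs (n * (p - 1) + 1) a (hRS (Subgroup.mem_inf.1 ha).1)
    rw [hcl, Subgroup.mem_bot] at h1
    exact h1
  exact Cfsg.Agent.Helper3.AgemoMod.fixes_pow_subgroup A hcomm p hp.out n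
    (MulAut.conj x).toMonoidHom hτA hτ hδ v hvA

/-- an element of `N_S(R)` outside `R` whose `p`-th power lies in `R` -/
theorem exists_pth [Finite S] (p : ℕ) [Fact p.Prime] (hS : IsPGroup p S) (R : Subgroup Ω)
    (hRS : R ≤ S) (hne : R ≠ S) :
    ∃ x ∈ S, x ∈ Subgroup.normalizer (R : Set Ω) ∧ x ∉ R ∧ x ^ p ∈ R := by
  obtain ⟨y, hy, hyR⟩ := Fusion.exists_mem_normalizerIn_not_mem hS hRS hne
  have hyS : y ∈ S := (Subgroup.mem_inf.1 hy).1
  have hyN : y ∈ Subgroup.normalizer (R : Set Ω) := (Subgroup.mem_inf.1 hy).2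
  have hex : ∃ j : ℕ, y ^ (p ^ j) ∈ R := by
    obtain ⟨k, hk⟩ := hS ⟨y, hyS⟩
    refine ⟨k, ?_⟩
    have := congrArg Subtype.val hk
    simp only [Subgroup.coe_pow, Subgroup.coe_one] at this
    rw [this]; exact R.one_mem
  classical
  set j := Nat.find hex with hj
  have hj0 : j ≠ 0 := by
    intro h0
    have := Nat.find_spec hex
    rw [← hj, h0, pow_zero, pow_one] at this
    exact hyR this
  refine ⟨y ^ (p ^ (j - 1)), S.pow_mem hyS _, Subgroup.pow_mem _ hyN _, ?_, ?_⟩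
  · exact Nat.find_min hex (by omega)
  · rw [← pow_mul, ← pow_succ]
    have : j - 1 + 1 = j := by omega
    rw [this]
    exact Nat.find_spec hex

/-- the pointwise stabilizer of the `p^n`-th powers of central elements -/
def stabZ (p n : ℕ) (R : Subgroup Ω) : Subgroup (MulAut R) where
  carrier := {α | ∀ v : R, (∀ r : R, r * v = v * r) → α (v ^ (p ^ n)) = v ^ (p ^ n)}
  one_mem' := fun v _ => rfl
  mul_mem' := fun {a b} ha hb v hv => by
    rw [MulAut.mul_apply, hb v hv, ha v hv]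
  inv_mem' := fun {a} ha v hv => by
    have h := ha v hv
    calc a⁻¹ (v ^ (p ^ n)) = a⁻¹ (a (v ^ (p ^ n))) := by rw [h]
      _ = v ^ (p ^ n) := MulAut.inv_apply_self _ _ _

theorem mem_stabZ (p n : ℕ) (R : Subgroup Ω) (α : MulAut R) :
    α ∈ stabZ p n R ↔ ∀ v : R, (∀ r : R, r * v = v * r) → α (v ^ (p ^ n)) = v ^ (p ^ n) :=
  Iff.rfl

theorem stabZ_normal (p n : ℕ) (R : Subgroup Ω) : (stabZ p n R).Normal := by
  refine ⟨fun a ha b => ?_⟩
  rw [mem_stabZ]
  intro v hv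
  have hv' : ∀ r : R, r * b⁻¹ v = b⁻¹ v * r := by
    intro r
    have h1 := hv (b r)
    have h2 := congrArg (fun z => b⁻¹ z) h1
    simp only [map_mul, MulAut.inv_apply_self] at h2
    exact h2
  have h3 := ha (b⁻¹ v) hv'
  rw [MulAut.mul_apply, MulAut.mul_apply, map_pow, h3, ← map_pow, MulAut.apply_inv_self]

theorem stabZ_fix (p n : ℕ) (R : Subgroup Ω) (α : MulAut R) (hα : α ∈ stabZ p n R) (y : R)
    (hy : y ∈ agemoZ p n R) : α y = y := by
  have h : agemoZ p n R ≤ (α.toMonoidHom).eqLocus (MonoidHom.id R) := by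
    unfold agemoZ
    rw [Subgroup.closure_le]
    rintro u ⟨v, hv, rfl⟩
    exact hα v hv
  exact h hy

set_option maxHeartbeats 400000 in
/-- the step for an essential subgroup -/
theorem ess_step [Finite S] (p : ℕ) [hp : Fact p.Prime] (hS : IsPGroup p S) (F : FusionSystem S)
    (hF : F.IsSaturated p) (n : ℕ) (hcl : S.lowerCentralSeries (n * (p - 1) + 1) = ⊥)
    (R : Subgroup Ω) (hR : F.IsEssential p R)
    (IH : ∀ (Q : Subgroup Ω) (φ : Q →* Ω), φ ∈ F.Hom Q → Nat.card R < Nat.card Q →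
      ∀ y : Q, (y : Ω) ∈ Zn p n S → φ y ∈ Zn p n S)
    (α : MulAut R) (hα : α ∈ F.autGroup R) (y : R) (hy : (y : Ω) ∈ Zn p n S) :
    ((α y : R) : Ω) ∈ Zn p n S := by
  have hRS : R ≤ S := hR.1.1
  haveI : Finite R := Fusion.finite_of_le hRS
  have hcent : centralizerIn S R ≤ R := hR.1.2 R (Fusion.isConj_refl F hRS)
  obtain ⟨hfc, hfa⟩ :=
    Fusion.fullyCentralized_fullyAutomized_of_fullyNormalized p hS F hF hR.2.1
  have hrec := Fusion.receptive_of_fullyCentralized p hS F hF hfc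
  have hRlt := Fusion.essential_lt_top p hS F hF hR
  obtain ⟨x, hxS, hxN, hxR, hxp⟩ := exists_pth p hS R hRS hRlt.ne
  -- `y` lies in `agemoZ`
  have hyA : y ∈ agemoZ p n R := by
    obtain ⟨y', hy', hyy⟩ := Zn_le_map p n hRS hcent hy
    have : y' = y := Subtype.ext hyy
    rw [← this]; exact hy'
  -- the subgroup `V`
  set V : Subgroup (MulAut R) := autInducedBy S R ⊓ stabZ p n R with hV
  have hcx : conjAutHom R ⟨x, hxN⟩ ∈ V := by
    refine Subgroup.mem_inf.2 ⟨Fusion.conjAutHom_mem_autInducedBy R ⟨x, hxN⟩ hxS, ?_⟩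
    rw [mem_stabZ]
    intro v hv
    apply Subtype.ext
    show x * ((v ^ (p ^ n) : R) : Ω) * x⁻¹ = ((v ^ (p ^ n) : R) : Ω)
    rw [Subgroup.coe_pow]
    exact conj_fix p n hcl R hRS x hxS hxN hxp v.1 v.2
      (fun r hr => congrArg Subtype.val (hv ⟨r, hr⟩))
  have hcxI : conjAutHom R ⟨x, hxN⟩ ∉ Inn R := by
    rintro ⟨r₀, hr₀⟩
    apply hxR
    have hc : (r₀ : Ω)⁻¹ * x ∈ centralizerIn S R := by
      refine Subgroup.mem_inf.2 ⟨S.mul_mem (S.inv_mem (hRS r₀.2)) hxS, ?_⟩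
      rw [Subgroup.mem_centralizer_iff]
      intro z hz
      have h1 := congrArg (fun α : MulAut R => ((α ⟨z, hz⟩ : R) : Ω)) hr₀
      simp only [conjAutHom_apply, MulAut.conj_apply, Subgroup.coe_mul, Subgroup.coe_inv] at h1
      calc z * ((r₀ : Ω)⁻¹ * x) = (r₀ : Ω)⁻¹ * ((r₀ : Ω) * z * (r₀ : Ω)⁻¹) * x := by group
        _ = (r₀ : Ω)⁻¹ * (x * z * x⁻¹) * x := by rw [h1]
        _ = (r₀ : Ω)⁻¹ * x * z := by group
    have h2 := hcent hc
    have e : x = (r₀ : Ω) * ((r₀ : Ω)⁻¹ * x) := by group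
    rw [e]
    exact R.mul_mem r₀.2 h2
  have hIV : Inn R ≤ V := by
    intro β hβ
    refine Subgroup.mem_inf.2 ⟨Fusion.inn_le_autInducedBy hRS hβ, ?_⟩
    obtain ⟨r₀, rfl⟩ := hβ
    rw [mem_stabZ]
    intro v hv
    show r₀ * v ^ (p ^ n) * r₀⁻¹ = v ^ (p ^ n)
    have hc : Commute r₀ (v ^ (p ^ n)) := Commute.pow_right (hv r₀) _
    rw [hc.eq]; group
  -- Frattini argument
  obtain ⟨T, hT⟩ := hfa.2
  haveI hNn : (stabZ p n R).Normal := stabZ_normal p n R
  haveI : ((stabZ p n R).subgroupOf (F.autGroup R)).Normal := hNn.subgroupOf _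
  have hfr := Cfsg.Agent.Helper1.AG.frattini_sylow_inf T ((stabZ p n R).subgroupOf (F.autGroup R))
  have hmem : (⟨α, hα⟩ : F.autGroup R) ∈
      Subgroup.normalizer ((((T : Subgroup (F.autGroup R)) ⊓
        (stabZ p n R).subgroupOf (F.autGroup R) : Subgroup (F.autGroup R))) : Set (F.autGroup R)) ⊔
        (stabZ p n R).subgroupOf (F.autGroup R) := by
    rw [hfr]; exact Subgroup.mem_top _
  rw [← SetLike.mem_coe, Subgroup.mul_normal] at hmem
  obtain ⟨β, hβ, ν, hν, hβν⟩ := hmem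
  have hαeq : α = β.1 * ν.1 := by
    have := congrArg Subtype.val hβν
    exact this.symm
  have hνy : ν.1 y = y := stabZ_fix p n R ν.1 (Subgroup.mem_subgroupOf.1 hν) y hyA
  rw [hαeq, MulAut.mul_apply, hνy]
  -- `β` extends
  have hnorm : ∀ v ∈ V, β.1 * v * β.1⁻¹ ∈ V := by
    intro v hv
    have hvA : v ∈ F.autGroup R :=
      Fusion.autInducedBy_le_autGroup F hRS (Subgroup.mem_inf.1 hv).1
    have h1 : (⟨v, hvA⟩ : F.autGroup R) ∈ (T : Subgroup (F.autGroup R)) ⊓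
        (stabZ p n R).subgroupOf (F.autGroup R) := by
      refine Subgroup.mem_inf.2 ⟨?_, ?_⟩
      · rw [hT, Subgroup.mem_subgroupOf]; exact (Subgroup.mem_inf.1 hv).1
      · rw [Subgroup.mem_subgroupOf]; exact (Subgroup.mem_inf.1 hv).2
    have h2 := (Subgroup.mem_normalizer_iff.1 hβ ⟨v, hvA⟩).1 h1
    obtain ⟨h3, h4⟩ := Subgroup.mem_inf.1 h2
    rw [hT, Subgroup.mem_subgroupOf] at h3
    rw [Subgroup.mem_subgroupOf] at h4
    exact Subgroup.mem_inf.2 ⟨h3, h4⟩
  have hext := Fusion.mem_extSet_of_normalizes F hrec β.1 β.2 V hIV inf_le_left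
    ⟨_, hcx, hcxI⟩ hnorm
  obtain ⟨Q, hRQ, φ, hφ, hφβ⟩ := hext
  have hQS := Fusion.src_le F hφ
  haveI : Finite Q := Fusion.finite_of_le hQS
  have hcard : Nat.card R < Nat.card Q := by
    by_contra hge
    push Not at hge
    exact hRQ.ne (Subgroup.eq_of_le_of_card_ge hRQ.le hge)
  have h5 := IH Q φ hφ hcard (Subgroup.inclusion hRQ.le y) hy
  rw [hφβ y] at h5
  exact h5

/-- the case `P = S` -/
theorem top_step (p n : ℕ) (α : MulAut S) (y : S) (hy : (y : Ω) ∈ Zn p n S) :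
    ((α y : S) : Ω) ∈ Zn p n S := by
  have hyA : y ∈ agemoZ p n S := by
    obtain ⟨y', hy', hyy⟩ := Zn_le_map (S := S) p n le_rfl inf_le_left hy
    have : y' = y := Subtype.ext hyy
    rw [← this]; exact hy'
  exact map_le_Zn p n S ⟨α y, aut_agemoZ p n S α y hyA, rfl⟩

/-- all automorphism groups of `S` and of the essential subgroups preserve `℧ⁿ(Z(S))` -/
theorem pres_all [Finite S] (p : ℕ) [hp : Fact p.Prime] (hS : IsPGroup p S) (F : FusionSystem S)
    (hF : F.IsSaturated p) (n : ℕ) (hcl : S.lowerCentralSeries (n * (p - 1) + 1) = ⊥) :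
    ∀ (d : ℕ) (P : Subgroup Ω), (P = S ∨ F.IsEssential p P) → Nat.card S - Nat.card P = d →
      ∀ α ∈ F.autGroup P, ∀ y : P, (y : Ω) ∈ Zn p n S → ((α y : P) : Ω) ∈ Zn p n S := by
  intro d
  induction d using Nat.strong_induction_on with
  | _ d ih =>
  intro P hP hd α hα y hy
  rcases hP with rfl | hess
  · exact top_step p n α y hy
  · have hPS : P ≤ S := hess.1.1
    have hPlt := Fusion.essential_lt_top p hS F hF hess
    apply ess_step p hS F hF n hcl P hess ?_ α hα y hy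
    intro Q φ hφ hcard
    have hQS := Fusion.src_le F hφ
    -- apply the threshold form of Alperin's theorem
    have hE : ∀ P' : Subgroup Ω, (P' = S ∨ F.IsEssential p P') → Nat.card P + 1 ≤ Nat.card P' →
        F.autGroup P' ≤ (presSys F (Zn p n S) (Zn_conj p n S)).autGroup P' := by
      intro P' hP' hm α' hα'
      have hP'S : P' ≤ S := by
        rcases hP' with rfl | h
        · exact le_rfl
        · exact h.1.1
      have hlt : Nat.card S - Nat.card P' < d := by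
        have h1 : Nat.card P' ≤ Nat.card S := Subgroup.card_le_of_le hP'S
        have h2 : Nat.card P ≤ Nat.card S := Subgroup.card_le_of_le hPS
        omega
      have h1 := ih _ hlt P' hP' rfl α' hα'
      have h2 := ih _ hlt P' hP' rfl α'⁻¹ ((F.autGroup P').inv_mem hα')
      apply Subgroup.subset_closure
      refine ⟨(Fusion.mem_autGroup_iff F hP'S α').1 hα', fun z => ⟨h1 z, fun hz => ?_⟩⟩
      have h3 := h2 (α' z) hz
      rwa [MulAut.inv_apply_self] at h3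
    have h4 := Fusion.alperin_ge p hS F hF (presSys F (Zn p n S) (Zn_conj p n S))
      (Nat.card P + 1) hE Q φ hφ hcard
    intro z hz
    exact (h4.2 z).1 hz

/-- Let p be a prime, n a natural number, S a nontrivial finite p-group of nilpotence class at most n(p−1)+1, and F a saturated fusion system over S. Then the subgroup generated by the pⁿ-th powers of the elements of Z(S) is normal in F. -/
theorem result {Ω : Type*} [Group Ω] {S : Subgroup Ω} [Finite S] (p : ℕ) [Fact p.Prime] (hS : IsPGroup p S) (F : Cfsg.FusionSystem S) (hF : F.IsSaturated p) (n : ℕ) (hS1 : S ≠ ⊥) (hcl : Subgroup.lowerCentralSeries S (n * (p - 1) + 1) = ⊥) : F.IsNormal (Cfsg.powerClosure p n (S ⊓ Subgroup.centralizer (S : Set Ω))) := by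
  rw [Cfsg.Agent.S5087.result p hS F hF]
  intro P hP
  have hPS : P ≤ S := by
    rcases hP with rfl | h
    · exact le_rfl
    · exact h.1.1
  have hZP : Zn p n S ≤ P := by
    rcases hP with rfl | h
    · exact (Zn_le_center p n _).trans inf_le_left
    · exact (Zn_le_map p n hPS (h.1.2 P (Fusion.isConj_refl F hPS))).trans
        (Subgroup.map_subtype_le _)
  refine ⟨hZP, fun α hα => ?_⟩
  have h1 := pres_all p hS F hF n hcl _ P hP rfl α hα
  have h2 := pres_all p hS F hF n hcl _ P hP rfl α⁻¹ ((F.autGroup P).inv_mem hα)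
  ext z
  constructor
  · rintro ⟨w, hw, rfl⟩
    rw [SetLike.mem_coe, Subgroup.mem_subgroupOf] at hw
    rw [Subgroup.mem_subgroupOf]
    exact h1 w hw
  · intro hz
    rw [Subgroup.mem_subgroupOf] at hz
    refine ⟨α⁻¹ z, ?_, ?_⟩
    · rw [SetLike.mem_coe, Subgroup.mem_subgroupOf]
      exact h2 z hz
    · exact MulAut.apply_inv_self _ _ _


end Cfsg.Agent.S5218
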