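import Mathlib
import Cfsg.Statements.S5235
import Cfsg.Agent.S5087
import Cfsg.Agent.S5080
import Cfsg.Agent.S5212
import Cfsg.Agent.Helper2.CentFour
import Cfsg.Agent.Helper3.Meta2Str
import Cfsg.Agent.Helper3.RadStab
-- import your own Cfsg.Agent.* helpers here

set_option autoImplicit false
open Cfsg

namespace Cfsg.Agent.S5235

open Cfsg.Agent.Lead Cfsg.FusionSystem

variable {Ω : Type*} [Group Ω] {S : Subgroup Ω}

/-- maps of the system preserve a strongly closed subgroup -/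
theorem map_mem_of_sc (F : FusionSystem S) {T M : Subgroup Ω}
    (hT : F.StronglyClosed T) {ψ : M →* Ω} (hψ : ψ ∈ F.Hom M) (x : M) (hx : (x : Ω) ∈ T) :
    ψ x ∈ T := by
  have hle : M ⊓ T ≤ M := inf_le_left
  have h1 := Fusion.restrict_mem F hψ hle
  exact hT.2 (M ⊓ T) inf_le_right _ h1 ⟨x.1, Subgroup.mem_inf.mpr ⟨x.2, hx⟩⟩

/-- automorphisms in the system preserve a strongly closed subgroup -/
theorem aut_mem_of_sc (F : FusionSystem S) {T R : Subgroup Ω} (hRS : R ≤ S)
    (hT : F.StronglyClosed T) (β : MulAut R) (hβ : β ∈ F.autGroup R) (x : R)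
    (hx : (x : Ω) ∈ T) : ((β x : R) : Ω) ∈ T :=
  map_mem_of_sc F hT ((Fusion.mem_autGroup_iff F hRS β).1 hβ) x hx

/-- a strongly closed subgroup is normalized by `S` -/
theorem conj_mem_of_sc (F : FusionSystem S) {T : Subgroup Ω} (hT : F.StronglyClosed T)
    (g : Ω) (hg : g ∈ S) (x : Ω) (hx : x ∈ T) : g * x * g⁻¹ ∈ T :=
  hT.2 T le_rfl (conjHom T g) (F.conj_mem hT.1 hg) ⟨x, hx⟩

/-- the key consequence of radicality for a strongly closed subgroup not contained in `R` -/
theorem ess_key [Finite S] (hS : IsPGroup 2 S) (F : FusionSystem S) (hF : F.IsSaturated 2)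
    (P : Subgroup Ω) (hP : F.StronglyClosed P) (R : Subgroup Ω) (hR : F.IsEssential 2 R)
    (t : Ω) (htP : t ∈ P) (htN : t ∈ Subgroup.normalizer (R : Set Ω)) (htR : t ∉ R) :
    ¬ IsPGroup 2 (MulAut ↥(P ⊓ R)) ∧
      ∃ x ∈ P ⊓ R, ∀ h' ∈ P ⊓ R, x⁻¹ * (t * x * t⁻¹) ≠ h' ^ 2 := by
  haveI : Fact (Nat.Prime 2) := ⟨Nat.prime_two⟩
  have hPS : P ≤ S := hP.1
  have hRS : R ≤ S := hR.1.1
  haveI : Finite R := Fusion.finite_of_le hRS
  have hRp : IsPGroup 2 R :=
    hS.of_injective (Subgroup.inclusion hRS) (Subgroup.inclusion_injective hRS)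
  have hcent : centralizerIn S R ≤ R := hR.1.2 R (Fusion.isConj_refl F hRS)
  have hrad := Cfsg.Agent.S5080.result 2 hS F hF R hR
  have htS : t ∈ S := hPS htP
  have hτA : conjAutHom R ⟨t, htN⟩ ∈ F.autGroup R :=
    Fusion.autInducedBy_le_autGroup F hRS (Fusion.conjAutHom_mem_autInducedBy R ⟨t, htN⟩ htS)
  have hkey := Cfsg.Agent.Helper3.RadStab.key hRp (F.autGroup R) hrad.2.le (P.subgroupOf R)
    (fun β hβ x hx => aut_mem_of_sc F hRS hP β hβ x hx) (conjAutHom R ⟨t, htN⟩) hτA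
    (by
      intro r
      rw [Subgroup.mem_subgroupOf]
      show ((r : Ω))⁻¹ * (t * (r : Ω) * t⁻¹) ∈ P
      have h1 : (r : Ω)⁻¹ * t * ((r : Ω)⁻¹)⁻¹ ∈ P :=
        conj_mem_of_sc F hP _ (S.inv_mem (hRS r.2)) t htP
      have e : (r : Ω)⁻¹ * (t * (r : Ω) * t⁻¹) = ((r : Ω)⁻¹ * t * ((r : Ω)⁻¹)⁻¹) * t⁻¹ := by group
      rw [e]
      exact P.mul_mem h1 (P.inv_mem htP))
    (by
      rintro ⟨r₀, hr₀⟩
      apply htR
      have hc : (r₀ : Ω)⁻¹ * t ∈ centralizerIn S R := by
        refine Subgroup.mem_inf.2 ⟨S.mul_mem (S.inv_mem (hRS r₀.2)) htS, ?_⟩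
        rw [Subgroup.mem_centralizer_iff]
        intro x hx
        have h1 := congrArg (fun α : MulAut R => ((α ⟨x, hx⟩ : R) : Ω)) hr₀
        simp only [conjAutHom_apply, MulAut.conj_apply, Subgroup.coe_mul, Subgroup.coe_inv] at h1
        -- h1 : r₀ * x * r₀⁻¹ = t * x * t⁻¹
        calc x * ((r₀ : Ω)⁻¹ * t) = (r₀ : Ω)⁻¹ * ((r₀ : Ω) * x * (r₀ : Ω)⁻¹) * t := by group
          _ = (r₀ : Ω)⁻¹ * (t * x * t⁻¹) * t := by rw [h1]
          _ = (r₀ : Ω)⁻¹ * t * x := by group
      have h2 := hcent hc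
      have e : t = (r₀ : Ω) * ((r₀ : Ω)⁻¹ * t) := by group
      rw [e]
      exact R.mul_mem r₀.2 h2)
  obtain ⟨ha, x, hxK, hx⟩ := hkey
  constructor
  · intro h
    apply ha
    have e1 : ↥(P.subgroupOf R) ≃* ↥(P ⊓ R) :=
      (MulEquiv.subgroupCongr (Subgroup.inf_subgroupOf_right P R).symm).trans
        (Subgroup.subgroupOfEquivOfLe inf_le_right)
    exact h.of_equiv (MulAut.congr e1.symm)
  · refine ⟨(x : Ω), Subgroup.mem_inf.2 ⟨hxK, x.2⟩, ?_⟩
    intro h' hh' heq
    apply hx ⟨h', (Subgroup.mem_inf.1 hh').2⟩ (by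
      rw [Subgroup.mem_subgroupOf]; exact (Subgroup.mem_inf.1 hh').1)
    apply Subtype.ext
    simpa using heq

/-- a strongly closed metacyclic subgroup lies in every essential subgroup -/
theorem le_essential [Finite S] (hS : IsPGroup 2 S) (F : FusionSystem S) (hF : F.IsSaturated 2)
    (P : Subgroup Ω) (hP : F.StronglyClosed P) (hm : Cfsg.IsMetacyclic ↥P)
    (hd : ¬ ∃ m : ℕ, Nonempty (↥P ≃* DihedralGroup m))
    (hq : ¬ ∃ m : ℕ, Nonempty (↥P ≃* QuaternionGroup m)) (hsd : ¬ Cfsg.IsQuasiDihedral ↥P)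
    (R : Subgroup Ω) (hR : F.IsEssential 2 R) : P ≤ R := by
  haveI : Fact (Nat.Prime 2) := ⟨Nat.prime_two⟩
  by_contra hPR
  have hPS : P ≤ S := hP.1
  have hRS : R ≤ S := hR.1.1
  haveI : Finite P := Fusion.finite_of_le hPS
  haveI : Finite R := Fusion.finite_of_le hRS
  have hPp : IsPGroup 2 P :=
    hS.of_injective (Subgroup.inclusion hPS) (Subgroup.inclusion_injective hPS)
  -- `S` normalizes `P`
  have hSnorm : S ≤ Subgroup.normalizer (P : Set Ω) := by
    intro g hg
    rw [Subgroup.mem_normalizer_iff]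
    intro x
    constructor
    · exact conj_mem_of_sc F hP g hg x
    · intro h
      have := conj_mem_of_sc F hP g⁻¹ (S.inv_mem hg) _ h
      simpa [mul_assoc] using this
  -- an element of `P` normalizing `R` outside `R`
  obtain ⟨t, htP, htN, htR⟩ : ∃ t ∈ P, t ∈ Subgroup.normalizer (R : Set Ω) ∧ t ∉ R := by
    have hRP : R ≠ R ⊔ P := fun h => hPR (h ▸ le_sup_right)
    have hsupS : R ⊔ P ≤ S := sup_le hRS hPS
    haveI : Finite ↥(R ⊔ P) := Fusion.finite_of_le hsupS
    have hsupp : IsPGroup 2 ↥(R ⊔ P) :=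
      hS.of_injective (Subgroup.inclusion hsupS) (Subgroup.inclusion_injective hsupS)
    obtain ⟨n, hn, hnR⟩ := Fusion.exists_mem_normalizerIn_not_mem hsupp le_sup_left hRP
    have hn1 : n ∈ ((R ⊔ P : Subgroup Ω) : Set Ω) := (Subgroup.mem_inf.1 hn).1
    have hn2 : n ∈ Subgroup.normalizer (R : Set Ω) := (Subgroup.mem_inf.1 hn).2
    rw [Subgroup.coe_mul_of_left_le_normalizer_right R P (hRS.trans hSnorm)] at hn1
    obtain ⟨r, hr, t, ht, rfl⟩ := hn1
    refine ⟨t, ht, ?_, ?_⟩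
    · have e : t = r⁻¹ * (r * t) := by group
      rw [e]
      exact Subgroup.mul_mem _ (Subgroup.inv_mem _ (Subgroup.le_normalizer hr)) hn2
    · intro htR
      exact hnR (R.mul_mem hr htR)
  obtain ⟨ha, -⟩ := ess_key hS F hF P hP R hR t htP htN htR
  -- a subgroup of index two over `P ⊓ R`
  have hlt : P ⊓ R < P ⊓ Subgroup.normalizer (R : Set Ω) := by
    refine lt_of_le_of_ne (inf_le_inf_left P Subgroup.le_normalizer) ?_
    intro h
    have : t ∈ P ⊓ R := by
      rw [h]; exact Subgroup.mem_inf.2 ⟨htP, htN⟩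
    exact htR (Subgroup.mem_inf.1 this).2
  have hNPS : P ⊓ Subgroup.normalizer (R : Set Ω) ≤ S := inf_le_left.trans hPS
  haveI : Finite ↥(P ⊓ Subgroup.normalizer (R : Set Ω)) := Fusion.finite_of_le hNPS
  have hNPp : IsPGroup 2 ↥(P ⊓ Subgroup.normalizer (R : Set Ω)) :=
    hS.of_injective (Subgroup.inclusion hNPS) (Subgroup.inclusion_injective hNPS)
  obtain ⟨Y, hP₀Y, hYNP, hidx⟩ := Cfsg.Agent.S5212.exists_index_two_over hNPp hlt
  have hYP : Y ≤ P := hYNP.trans inf_le_left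
  haveI : Finite Y := Fusion.finite_of_le (hYP.trans hPS)
  haveI : Finite ↥(P ⊓ R) := Fusion.finite_of_le (inf_le_left.trans hPS)
  have hYp : IsPGroup 2 Y :=
    hPp.of_injective (Subgroup.inclusion hYP) (Subgroup.inclusion_injective hYP)
  -- the action of elements of `Y` outside `P ⊓ R`
  have hact : ∀ t' ∈ Y, t' ∉ P ⊓ R →
      ∃ x ∈ P ⊓ R, ∀ h' ∈ P ⊓ R, x⁻¹ * (t' * x * t'⁻¹) ≠ h' ^ 2 := by
    intro t' ht'Y ht'
    have h1 := hYNP ht'Y
    have ht'P : t' ∈ P := (Subgroup.mem_inf.1 h1).1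
    have ht'N : t' ∈ Subgroup.normalizer (R : Set Ω) := (Subgroup.mem_inf.1 h1).2
    have ht'R : t' ∉ R := fun h => ht' (Subgroup.mem_inf.2 ⟨ht'P, h⟩)
    exact (ess_key hS F hF P hP R hR t' ht'P ht'N ht'R).2
  -- an element of `Y` outside `P ⊓ R`
  obtain ⟨t₁, ht₁Y, ht₁⟩ : ∃ t₁ ∈ Y, t₁ ∉ P ⊓ R := by
    by_contra hcon
    push Not at hcon
    have : (P ⊓ R).subgroupOf Y = ⊤ := by
      rw [Subgroup.subgroupOf_eq_top]
      exact hcon
    rw [this, Subgroup.index_top] at hidx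
    omega
  have hcardY : Nat.card Y = 2 * Nat.card ↥(P ⊓ R) := by
    have h1 := Subgroup.card_mul_index ((P ⊓ R).subgroupOf Y)
    rw [Nat.card_congr (Subgroup.subgroupOfEquivOfLe hP₀Y).toEquiv, hidx] at h1
    omega
  obtain ⟨n, hn⟩ := IsPGroup.iff_card.1 hPp
  -- a nonabelian subgroup of order 8 gives maximal class
  have hmax : ∀ B : Subgroup Ω, B ≤ P → Nat.card B = 8 → (∃ x ∈ B, ∃ y ∈ B, x * y ≠ y * x) →
      False := by
    intro B hBP hB8 hna
    have hB' : Nat.card (B.subgroupOf P) = 8 := by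
      rw [Nat.card_congr (Subgroup.subgroupOfEquivOfLe hBP).toEquiv, hB8]
    have hna' : ∃ x ∈ B.subgroupOf P, ∃ y ∈ B.subgroupOf P, x * y ≠ y * x := by
      obtain ⟨x, hx, y, hy, hxy⟩ := hna
      refine ⟨⟨x, hBP hx⟩, hx, ⟨y, hBP hy⟩, hy, ?_⟩
      intro h
      apply hxy
      have := congrArg Subtype.val h
      simpa using this
    have hn3 : 3 ≤ n := by
      have h1 : Nat.card (B.subgroupOf P) ≤ Nat.card P := Subgroup.card_le_card_group _
      rw [hB', hn] at h1
      by_contra hlt3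
      push Not at hlt3
      have : 2 ^ n ≤ 2 ^ 2 := Nat.pow_le_pow_right (by norm_num) (by omega)
      omega
    have hcl := Cfsg.Agent.Helper2.CentFour.maxClass_of_centralizer_le_four n hn3 ↥P hn
      (Cfsg.Agent.Helper3.Meta2Str.exists_centralizer_le_four hPp hm _ hB' hna')
    exact Cfsg.Agent.S5212.maxclass_contra n hn3 hn hcl hd hq hsd
  -- structure of `P ⊓ R`
  have hP₀p : IsPGroup 2 ↥(P ⊓ R) :=
    hPp.of_injective (Subgroup.inclusion inf_le_left) (Subgroup.inclusion_injective inf_le_left)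
  have hP₀m : Cfsg.IsMetacyclic ↥(P ⊓ R) :=
    Cfsg.Agent.Helper4.isMetacyclic_of_injective (Subgroup.inclusion inf_le_left)
      (Subgroup.inclusion_injective (inf_le_left : P ⊓ R ≤ P)) hm
  rcases Cfsg.Agent.S1896.result hP₀p hP₀m ha with ⟨⟨e⟩⟩ | ⟨k, ⟨e⟩⟩
  · -- quaternion of order 8
    apply hmax (P ⊓ R) inf_le_left
    · rw [Nat.card_congr e.toEquiv, Nat.card_eq_fintype_card, QuaternionGroup.card]
    · refine ⟨(e.symm (QuaternionGroup.a 1) : Ω), (e.symm (QuaternionGroup.a 1)).2,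
        (e.symm (QuaternionGroup.xa 0) : Ω), (e.symm (QuaternionGroup.xa 0)).2, ?_⟩
      intro h
      have h1 : e.symm (QuaternionGroup.a 1) * e.symm (QuaternionGroup.xa 0) =
          e.symm (QuaternionGroup.xa 0) * e.symm (QuaternionGroup.a 1) := Subtype.ext h
      rw [← map_mul, ← map_mul] at h1
      have h2 := e.symm.injective h1
      revert h2
      decide
  · -- homocyclic of rank two
    have hcomm : ∀ a b : ↥(P ⊓ R), a * b = b * a := by
      intro a b
      apply e.injective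
      rw [map_mul, map_mul, mul_comm]
    have hcardP₀ : Nat.card ↥(P ⊓ R) = 2 ^ (2 * k) := by
      haveI : NeZero (2 ^ k) := ⟨pow_ne_zero _ (by norm_num)⟩
      rw [Nat.card_congr e.toEquiv, Nat.card_prod]
      have : Nat.card (Multiplicative (ZMod (2 ^ k))) = 2 ^ k := by
        rw [Nat.card_congr Multiplicative.toAdd, Nat.card_zmod]
      rw [this]; ring
    obtain ⟨x, hx, hxne⟩ := hact t₁ ht₁Y ht₁
    rcases Nat.lt_or_ge k 2 with hk2 | hk2
    · rcases Nat.eq_zero_or_pos k with hk0 | hk1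
      · -- trivial intersection
        subst hk0
        have hP₀1 : Nat.card ↥(P ⊓ R) = 1 := by rw [hcardP₀]; norm_num
        have hbot : P ⊓ R = ⊥ := Subgroup.card_eq_one.1 hP₀1
        rw [hbot, Subgroup.mem_bot] at hx
        apply hxne 1 (Subgroup.one_mem _)
        rw [hx]; group
      · -- four-group
        have hk : k = 1 := by omega
        subst hk
        apply hmax Y hYP
        · rw [hcardY, hcardP₀]; norm_num
        · refine ⟨x, hP₀Y hx, t₁, ht₁Y, ?_⟩
          intro h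
          apply hxne 1 (Subgroup.one_mem _)
          calc x⁻¹ * (t₁ * x * t₁⁻¹) = x⁻¹ * ((t₁ * x) * t₁⁻¹) := by group
            _ = x⁻¹ * ((x * t₁) * t₁⁻¹) := by rw [h]
            _ = 1 ^ 2 := by group
    · -- exponent at least four
      have hYm : Cfsg.IsMetacyclic ↥Y :=
        Cfsg.Agent.Helper4.isMetacyclic_of_injective (Subgroup.inclusion hYP)
          (Subgroup.inclusion_injective hYP) hm
      have hYN : Y ≤ Subgroup.normalizer ((P ⊓ R : Subgroup Ω) : Set Ω) := by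
        rw [← Subgroup.normal_subgroupOf_iff_le_normalizer hP₀Y]
        exact Subgroup.normal_of_index_eq_two hidx
      apply Cfsg.Agent.Helper3.Meta2Ess.no_homocyclic_aux hYp hYm ((P ⊓ R).subgroupOf Y) hidx
      · intro x hx y hy
        have := congrArg Subtype.val (hcomm ⟨(x : Ω), hx⟩ ⟨(y : Ω), hy⟩)
        apply Subtype.ext
        simpa using this
      · intro h hh h2
        have hsqH : ∀ x : ↥(P ⊓ R), x ^ 2 = 1 → ∃ y : ↥(P ⊓ R), x = y ^ 2 := by
          intro x hx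
          have h1 : (e x) ^ 2 = 1 := by rw [← map_pow, hx, map_one]
          obtain ⟨y1, hy1⟩ := Cfsg.Agent.S5212.sq_of_sq_eq_one k hk2 (e x).1 (by
            have := congrArg Prod.fst h1; simpa using this)
          obtain ⟨y2, hy2⟩ := Cfsg.Agent.S5212.sq_of_sq_eq_one k hk2 (e x).2 (by
            have := congrArg Prod.snd h1; simpa using this)
          refine ⟨e.symm (y1, y2), ?_⟩
          apply e.injective
          rw [map_pow, e.apply_symm_apply]
          exact Prod.ext hy1 hy2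
        obtain ⟨y, hy⟩ := hsqH ⟨(h : Ω), hh⟩ (by
          apply Subtype.ext
          have := congrArg Subtype.val h2
          simpa using this)
        refine ⟨⟨(y : Ω), hP₀Y y.2⟩, y.2, ?_⟩
        apply Subtype.ext
        have := congrArg Subtype.val hy
        simpa using this
      · intro t' ht'
        obtain ⟨x', hx', hx'ne⟩ := hact (t' : Ω) t'.2 ht'
        refine ⟨⟨x', hP₀Y hx'⟩, hx', ?_⟩
        rintro ⟨h', hh', hrel⟩
        apply hx'ne (h' : Ω) hh'
        have hconjmem : (t' : Ω) * x' * (t' : Ω)⁻¹ ∈ P ⊓ R :=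
          (Subgroup.mem_normalizer_iff.1 (hYN t'.2) x').1 hx'
        have hc := congrArg Subtype.val (hcomm ⟨x', hx'⟩⁻¹ ⟨_, hconjmem⟩)
        have hrel' := congrArg Subtype.val hrel
        simp only [Subgroup.coe_mul, Subgroup.coe_inv, Subgroup.coe_pow] at hc hrel'
        rw [hc]
        exact hrel'

/-- Let F be a saturated fusion system over a finite 2-group S (p = 2) and P a metacyclic subgroup of S strongly closed in F that is not dihedral, not semidihedral and not generalized quaternion (here the group of order 2, the Klein four-group and the cyclic group of order 4 also count as excluded). Then P is normal in F. -/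
theorem result {Ω : Type*} [Group Ω] {S : Subgroup Ω} [Finite S] (p : ℕ) [Fact p.Prime] (hS : IsPGroup p S) (F : Cfsg.FusionSystem S) (hF : F.IsSaturated p) (P : Subgroup Ω) (hP : F.StronglyClosed P) (hp : p = 2) (hm : Cfsg.IsMetacyclic ↥P) (hd : ¬ ∃ m : ℕ, Nonempty (↥P ≃* DihedralGroup m)) (hq : ¬ ∃ m : ℕ, Nonempty (↥P ≃* QuaternionGroup m)) (hsd : ¬ Cfsg.IsQuasiDihedral ↥P) : F.IsNormal P := by
  subst hp
  rw [Cfsg.Agent.S5087.result 2 hS F hF P]
  intro R hR
  have hRS : R ≤ S := by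
    rcases hR with h | h
    · rw [h]
    · exact h.1.1
  constructor
  · rcases hR with h | h
    · rw [h]; exact hP.1
    · exact le_essential hS F hF P hP hm hd hq hsd R h
  · intro α hα
    apply le_antisymm
    · rintro _ ⟨x, hx, rfl⟩
      rw [SetLike.mem_coe, Subgroup.mem_subgroupOf] at hx
      rw [Subgroup.mem_subgroupOf]
      exact aut_mem_of_sc F hRS hP α hα x hx
    · intro y hy
      rw [Subgroup.mem_subgroupOf] at hy
      refine ⟨α⁻¹ y, ?_, ?_⟩
      · rw [SetLike.mem_coe, Subgroup.mem_subgroupOf]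
        exact aut_mem_of_sc F hRS hP α⁻¹ ((F.autGroup R).inv_mem hα) y hy
      · simp


end Cfsg.Agent.S5235
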