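import Cfsg.Statements.S5238
import Cfsg.Agent.Helper4.MCPearl
import Cfsg.Agent.Lead.FusionConj

set_option autoImplicit false
open Cfsg

namespace Cfsg.Agent.S5238

/-- Let p be an odd prime and F a saturated fusion system over a finite p-group S having a pearl: an F-essential subgroup E that is elementary abelian of order p² or nonabelian of order p³. Then S has maximal nilpotency class (if S has order pⁿ with n ≥ 3, the term of index n − 2 of its lower central series, counting S itself as the term of index 0, is nontrivial), and every subgroup of S can be generated by at most p elements (the sectional rank of S is at most p). -/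
theorem result {Ω : Type*} [Group Ω] {S : Subgroup Ω} [Finite S] (p : ℕ) [Fact p.Prime] (hS : IsPGroup p S) (F : Cfsg.FusionSystem S) (hF : F.IsSaturated p) (hp : p ≠ 2) (E : Subgroup Ω) (hE : F.IsEssential p E) (hpearl : (Nat.card E = p ^ 2 ∧ ∀ x ∈ E, x ^ p = 1 ∧ IsMulCommutative ↥E) ∨ (Nat.card E = p ^ 3 ∧ ¬ IsMulCommutative ↥E)) : (∀ n : ℕ, Nat.card S = p ^ n → 3 ≤ n → Subgroup.lowerCentralSeries S (n - 2) ≠ ⊥) ∧ ∀ H : Subgroup Ω, H ≤ S → ∃ T : Finset Ω, T.card ≤ p ∧ Subgroup.closure (T : Set Ω) = H := by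
  classical
  have hES : E ≤ S := hE.1.1
  have hcent : Cfsg.FusionSystem.centralizerIn S E ≤ E := hE.1.2 E (Cfsg.Agent.Lead.Fusion.isConj_refl F hES)
  set E' : Subgroup ↥S := E.subgroupOf S with hE'
  let e : E' ≃* E := Subgroup.subgroupOfEquivOfLe hES
  have hcard : Nat.card E' = Nat.card E := Nat.card_congr e.toEquiv
  have hC' : Subgroup.centralizer (E' : Set ↥S) ≤ E' := by
    intro x hx
    rw [hE', Subgroup.mem_subgroupOf]
    apply hcent
    refine Subgroup.mem_inf.2 ⟨x.2, ?_⟩
    rw [Subgroup.mem_centralizer_iff]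
    intro y hy
    rw [Subgroup.mem_centralizer_iff] at hx
    have h1 := hx ⟨y, hES hy⟩ (by
      show (⟨y, hES hy⟩ : ↥S) ∈ E.subgroupOf S
      rw [Subgroup.mem_subgroupOf]
      exact hy)
    exact congrArg Subtype.val h1
  have hcomm : IsMulCommutative E' ↔ IsMulCommutative E := by
    constructor
    · intro h
      refine ⟨⟨fun a b => ?_⟩⟩
      apply e.symm.injective
      rw [map_mul, map_mul]
      exact h.is_comm.comm _ _
    · intro h
      refine ⟨⟨fun a b => ?_⟩⟩
      apply e.injective
      rw [map_mul, map_mul]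
      exact h.is_comm.comm _ _
  have hpearl' : (Nat.card E' = p ^ 2 ∧ IsMulCommutative E') ∨
      (Nat.card E' = p ^ 3 ∧ ¬ IsMulCommutative E') := by
    rcases hpearl with ⟨h1, h2⟩ | ⟨h1, h2⟩
    · exact Or.inl ⟨hcard.trans h1, hcomm.2 (h2 1 E.one_mem).2⟩
    · exact Or.inr ⟨hcard.trans h1, fun h => h2 (hcomm.1 h)⟩
  obtain ⟨hcls, hgens⟩ := Cfsg.Agent.Helper4.MC.pearl_core hp hS E' hC' hpearl'
  refine ⟨fun n hn h3 hbot => ?_, fun H hHS => ?_⟩
  · haveI : Group.IsNilpotent ↥S := hS.isNilpotent
    rw [← Subgroup.top_subtype_lowerCentralSeries, Subgroup.map_eq_bot_iff_of_injective _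
      S.subtype_injective, Subgroup.lowerCentralSeries_eq_bot_iff_nilpotencyClass_le,
      hcls n hn] at hbot
    omega
  · obtain ⟨T', hT', hcl⟩ := hgens (H.subgroupOf S)
    refine ⟨T'.image Subtype.val, Finset.card_image_le.trans hT', ?_⟩
    rw [Finset.coe_image]
    have h1 : Subgroup.closure (Subtype.val '' (T' : Set ↥S)) =
        (Subgroup.closure (T' : Set ↥S)).map S.subtype := by
      rw [MonoidHom.map_closure]
      rfl
    rw [h1, hcl, Subgroup.map_subgroupOf_eq_of_le hHS]

end Cfsg.Agent.S5238
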