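import Cfsg.Statements.S5239
import Cfsg.Agent.Helper4.MCPearl3
import Cfsg.Agent.Helper9.MCN3
import Cfsg.Agent.Lead.FusionConj

set_option autoImplicit false
open Cfsg

namespace Cfsg.Agent.S5239

/-- Let F be a saturated fusion system over a finite 3-group S having a pearl: an F-essential subgroup E that is elementary abelian of order 9 or nonabelian of order 27. Then either S is extraspecial of order 27 and exponent 3, or S has order at least 81 and every subgroup of S can be generated by at most two elements, or S is isomorphic to the wreath product C₃ ≀ C₃ (a Sylow 3-subgroup of the symmetric group of degree 9). -/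
theorem result {Ω : Type*} [Group Ω] {S : Subgroup Ω} [Finite S] (hS : IsPGroup 3 S) (F : Cfsg.FusionSystem S) (hF : F.IsSaturated 3) [Fact (Nat.Prime 3)] (E : Subgroup Ω) (hE : F.IsEssential 3 E) (hpearl : (Nat.card E = 9 ∧ ∀ x ∈ E, x ^ 3 = 1 ∧ IsMulCommutative ↥E) ∨ (Nat.card E = 27 ∧ ¬ IsMulCommutative ↥E)) : (Cfsg.IsExtraspecial 3 ↥S ∧ Nat.card S = 27 ∧ Monoid.exponent ↥S = 3) ∨ (81 ≤ Nat.card S ∧ ∀ H : Subgroup Ω, H ≤ S → ∃ T : Finset Ω, T.card ≤ 2 ∧ Subgroup.closure (T : Set Ω) = H) ∨ (∃ W : Sylow 3 (Equiv.Perm (Fin 9)), Nonempty (↥S ≃* ↥(W : Subgroup (Equiv.Perm (Fin 9))))) := by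
  classical
  have hES : E ≤ S := hE.1.1
  have hcent : Cfsg.FusionSystem.centralizerIn S E ≤ E :=
    hE.1.2 E (Cfsg.Agent.Lead.Fusion.isConj_refl F hES)
  have hlt : E < S := Cfsg.Agent.Helper9.MC.essential_lt 3 hS F hF E hE
  set E' : Subgroup ↥S := E.subgroupOf S with hE'
  let e : E' ≃* E := Subgroup.subgroupOfEquivOfLe hES
  have hcard : Nat.card E' = Nat.card E := Nat.card_congr e.toEquiv
  have hC' : Subgroup.centralizer (E' : Set ↥S) ≤ E' := by
    intro x hx
    rw [hE', Subgroup.mem_subgroupOf]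
    apply hcent
    refine Subgroup.mem_inf.2 ⟨x.2, ?_⟩
    rw [Subgroup.mem_centralizer_iff]
    intro y hy
    rw [Subgroup.mem_centralizer_iff] at hx
    have h1 := hx ⟨y, hES hy⟩ (by
      show (⟨y, hES hy⟩ : ↥S) ∈ E.subgroupOf S
      rw [Subgroup.mem_subgroupOf]
      exact hy)
    exact congrArg Subtype.val h1
  have hcomm : IsMulCommutative E' ↔ IsMulCommutative E := by
    constructor
    · intro h
      refine ⟨⟨fun a b => ?_⟩⟩
      apply e.symm.injective
      rw [map_mul, map_mul]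
      exact h.is_comm.comm _ _
    · intro h
      refine ⟨⟨fun a b => ?_⟩⟩
      apply e.injective
      rw [map_mul, map_mul]
      exact h.is_comm.comm _ _
  have hpearl' : (Nat.card E' = 3 ^ 2 ∧ IsMulCommutative E') ∨
      (Nat.card E' = 3 ^ 3 ∧ ¬ IsMulCommutative E') := by
    rcases hpearl with ⟨h1, h2⟩ | ⟨h1, h2⟩
    · exact Or.inl ⟨by rw [hcard, h1]; norm_num, hcomm.2 (h2 1 E.one_mem).2⟩
    · exact Or.inr ⟨by rw [hcard, h1]; norm_num, fun h => h2 (hcomm.1 h)⟩
  obtain ⟨hcls, -⟩ := Cfsg.Agent.Helper4.MC.pearl_core (p := 3) (by norm_num) hS E' hC' hpearl'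
  obtain ⟨n, hn⟩ := IsPGroup.iff_card.1 hS
  have hcls' := hcls n hn
  -- `E'` is a proper subgroup
  have hE'top : E' < ⊤ := by
    refine lt_of_le_of_ne le_top ?_
    intro h
    rw [hE', Subgroup.subgroupOf_eq_top] at h
    exact absurd h (not_le_of_gt hlt)
  have hcardlt : Nat.card E' < Nat.card S := by
    have := Cfsg.Agent.Helper1.card_lt_card_of_lt hE'top
    rwa [Subgroup.card_top] at this
  have hE9 : 9 ≤ Nat.card E' := by
    rcases hpearl' with ⟨h1, -⟩ | ⟨h1, -⟩ <;> rw [h1] <;> norm_num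
  have hn3 : 3 ≤ n := by
    by_contra hcon
    have h1 : (3 : ℕ) ^ n ≤ 3 ^ 2 := Nat.pow_le_pow_right (by norm_num) (by omega)
    rw [hn] at hcardlt
    omega
  rcases Nat.lt_or_ge n 4 with h4 | h4
  · -- order 27
    obtain rfl : n = 3 := by omega
    have hS27 : Nat.card S = 27 := by rw [hn]; norm_num
    have hE9' : Nat.card E = 9 := by
      rcases hpearl with ⟨h1, -⟩ | ⟨h1, -⟩
      · exact h1
      · rw [hcard, h1, hS27] at hcardlt
        omega
    obtain ⟨h1, h2⟩ := Cfsg.Agent.Helper9.MC.pearl_27 hS F hF E hE hE9' hS27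
    exact Or.inl ⟨h1, hS27, h2⟩
  · -- order at least 81
    right
    have hMC : Cfsg.Agent.Helper4.MC.IsMC 3 n ↥S := ⟨hn, hn3, hcls'⟩
    have hex : ∃ s : ↥S, Cfsg.Agent.Helper4.MC.IsUniform 3 s := by
      rcases hpearl' with ⟨h1, -⟩ | ⟨h1, h2⟩
      · exact Cfsg.Agent.Helper5.MC.exists_uniform_of_sq hMC E' h1 hC'
      · exact Cfsg.Agent.Helper5.MC.exists_uniform_of_cube hMC h4 E' h1 h2 hC'
    rcases Cfsg.Agent.Helper4.MC.pearl_core3 hMC h4 hex with hgens | hW
    · left
      refine ⟨?_, fun H hHS => ?_⟩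
      · rw [hn]
        calc 81 = 3 ^ 4 := by norm_num
          _ ≤ 3 ^ n := Nat.pow_le_pow_right (by norm_num) h4
      · obtain ⟨T', hT', hcl⟩ := hgens (H.subgroupOf S)
        refine ⟨T'.image Subtype.val, Finset.card_image_le.trans hT', ?_⟩
        rw [Finset.coe_image]
        have h1 : Subgroup.closure (Subtype.val '' (T' : Set ↥S)) =
            (Subgroup.closure (T' : Set ↥S)).map S.subtype := by
          rw [MonoidHom.map_closure]
          rfl
        rw [h1, hcl, Subgroup.map_subgroupOf_eq_of_le hHS]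
    · exact Or.inr hW

end Cfsg.Agent.S5239
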