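import Cfsg.Statements.S5292
import Mathlib
import Cfsg.Agent.Helper6.FusPSolvA
import Cfsg.Agent.Helper6.FusPSolvB
import Cfsg.Agent.Lead.ModelM
import Cfsg.Agent.Lead.PSolvC
import Cfsg.Agent.Helper4.SolvPSolv
import Cfsg.Agent.Helper4.HallHigman
import Cfsg.Agent.Helper4.PSolvable
import Cfsg.Agent.Helper1.Fitting2

set_option autoImplicit false
universe u
open Cfsg

namespace Cfsg.Agent.S5292

open Cfsg.Agent.Helper6.FusPSolv Cfsg.Agent.Lead

/-- Let F be a saturated fusion system over a finite p-group S. Then F is the fusion system of some finite p-solvable group on a Sylow p-subgroup if and only if F is constrained (some subgroup normal in F is centric in F) and the group of automorphisms that F induces on its largest normal subgroup O_p(F) is p-solvable. -/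
theorem result {Ω : Type u} [Group Ω] {S : Subgroup Ω} [Finite S] (p : ℕ) [Fact p.Prime] (hS : IsPGroup p S)
    (F : Cfsg.FusionSystem S) (hF : F.IsSaturated p) :
    (∃ (G : Type u) (_ : Group G) (_ : Finite G) (ι : S →* G), Cfsg.IsPSolvable p G ∧ F.IsRealizedBy ι ∧
        ∃ T : Sylow p G, (T : Subgroup G) = ι.range) ↔
      (F.IsConstrained p ∧ Cfsg.IsPSolvable p ↥(F.autGroup F.core)) := by
  have hQ : F.core ≤ S := (Fusion.core_isNormal F).1
  constructor
  · rintro ⟨G, instG, hfin, ι, hsolv, hι, T, hT⟩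
    have hHc : (Nat.card (Cfsg.pPrimeCore p G)).Coprime p :=
      Cfsg.Agent.Helper1.card_pPrimeCore_coprime p
    obtain ⟨hι', T', hT'⟩ := isRealizedBy_quotient ι F hι T hT (Cfsg.pPrimeCore p G) hHc
    have hsolv' : Cfsg.IsPSolvable p (G ⧸ Cfsg.pPrimeCore p G) :=
      Cfsg.Agent.Helper4.isPSolvable_quotient hsolv _
    have hO : Cfsg.pPrimeCore p (G ⧸ Cfsg.pPrimeCore p G) = ⊥ :=
      Cfsg.Agent.Helper1.pPrimeCore_quotient_pPrimeCore p
    have hcent := Cfsg.Agent.Helper4.centralizer_pCore_le_of_isPSolvable hsolv' hO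
    have hmodel : F.IsModel p (G ⧸ Cfsg.pPrimeCore p G)
        ((QuotientGroup.mk' (Cfsg.pPrimeCore p G)).comp ι) :=
      ⟨inferInstance, hι', ⟨T', hT'⟩, hcent⟩
    refine ⟨Fusion.isConstrained_of_isModel p F _ hmodel, ?_⟩
    have hmap := Model.map_core_eq_pCore p hS F _ hmodel
    have hn : ((F.core.subgroupOf S).map
        ((QuotientGroup.mk' (Cfsg.pPrimeCore p G)).comp ι)).Normal := by
      rw [show (F.core.subgroupOf S) = Model.Qs S F.core from rfl, hmap]
      exact Cfsg.Agent.Helper4.pCore_normal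
    exact PSolvGL2.isPSolvable_of_surjective (autHom _ F hι' hQ hn) (autHom_surjective _ F hι' hQ hn) hsolv'
  · rintro ⟨hcon, hsolvA⟩
    obtain ⟨G, instG, ι, hmodel⟩ := Model.exists_isModel p hS F hcon
    have hmap := Model.map_core_eq_pCore p hS F ι hmodel
    obtain ⟨hfin, hι, ⟨T, hT⟩, hcent⟩ := hmodel
    have hn : ((F.core.subgroupOf S).map ι).Normal := by
      rw [show (F.core.subgroupOf S) = Model.Qs S F.core from rfl, hmap]
      exact Cfsg.Agent.Helper4.pCore_normal
    have hker : (autHom ι F hι hQ hn).ker ≤ Cfsg.pCore p G := by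
      refine (ker_autHom_le ι F hι hQ hn).trans ?_
      rw [show (F.core.subgroupOf S) = Model.Qs S F.core from rfl, hmap]
      exact hcent
    have hkerp : IsPGroup p (autHom ι F hι hQ hn).ker :=
      (Cfsg.Agent.Helper5.isPGroup_pCore p).to_le hker
    haveI := hfin
    have hcard : ∃ m : ℕ, Nat.card (autHom ι F hι hQ hn).ker = p ^ m := IsPGroup.iff_card.mp hkerp
    have hq : Cfsg.IsPSolvable p (G ⧸ (autHom ι F hι hQ hn).ker) :=
      PSolvGL2.isPSolvable_of_injective (QuotientGroup.kerLift (autHom ι F hι hQ hn))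
        (QuotientGroup.kerLift_injective _) hsolvA
    exact ⟨G, instG, hfin, ι,
      Cfsg.Agent.Helper4.SolvPSolv.isPSolvable_of_quotient _ (Or.inl hcard) hq, hι, T, hT⟩

end Cfsg.Agent.S5292
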