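import Cfsg.Statements.S5306
import Mathlib
import Cfsg.Agent.Lead.Thompson
import Cfsg.Agent.Lead.TI

set_option autoImplicit false
open Cfsg

namespace Cfsg.Agent.S5306

open Cfsg.Agent.Lead

/-- Let P be a Sylow p-subgroup of the finite group X and J = J(P) its Thompson subgroup (generated by the elementary abelian subgroups of P of largest order). If x and y lie in the centre of J and y = g x g⁻¹ for some g in X, then y = n x n⁻¹ for some n in the normalizer N_X(J). -/
theorem result {X : Type*} [Group X] [Finite X] (p : ℕ) [Fact p.Prime] (P : Sylow p X) (J : Subgroup X) (hJ : J = Cfsg.thompsonSubgroupOf p (P : Subgroup X))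
    (x y : X) (hx : x ∈ J ∧ ∀ j ∈ J, Commute j x) (hy : y ∈ J ∧ ∀ j ∈ J, Commute j y) (g : X) (hg : g * x * g⁻¹ = y) :
    ∃ n ∈ Subgroup.normalizer (J : Set X), n * x * n⁻¹ = y := by
  have hJP : J ≤ (P : Subgroup X) := hJ ▸ thompsonSubgroupOf_le p _
  have hJp : IsPGroup p J := P.isPGroup'.to_le hJP
  -- weak closure
  have hWC : ∀ h : X, J.map (MulAut.conj h).toMonoidHom ≤ (P : Subgroup X) →
      h ∈ Subgroup.normalizer (J : Set X) := by
    intro h hh
    rw [← map_conj_eq_iff_mem_normalizer']
    rw [hJ] at hh ⊢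
    exact thompsonSubgroupOf_map_conj_eq p _ h hh
  set C := Subgroup.centralizer ({y} : Set X) with hC
  have hJC : J ≤ C := by
    intro j hj
    rw [hC, Subgroup.mem_centralizer_iff]
    intro z hz
    rw [Set.mem_singleton_iff] at hz
    rw [hz]
    exact ((hy.2 j hj).eq).symm
  have hJgC : J.map (MulAut.conj g).toMonoidHom ≤ C := by
    rintro _ ⟨j, hj, rfl⟩
    rw [hC, Subgroup.mem_centralizer_iff]
    intro z hz
    rw [Set.mem_singleton_iff] at hz
    rw [hz, ← hg]
    simp only [MulEquiv.coe_toMonoidHom, MulAut.conj_apply]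
    have := (hx.2 j hj).eq
    have e1 : g * x * g⁻¹ * (g * j * g⁻¹) = g * (x * j) * g⁻¹ := by group
    have e2 : g * j * g⁻¹ * (g * x * g⁻¹) = g * (j * x) * g⁻¹ := by group
    rw [e1, e2, this]
  obtain ⟨T, hJT, hTC, hTp, hTcard⟩ := exists_le_card_eq_ppart hJp hJC
  obtain ⟨c, hcC, hc⟩ := exists_conj_le_of_card_eq_ppart hTC hTcard hJgC (hJp.map _)
  obtain ⟨k, hk⟩ := exists_conj_le_sylow P T hTp
  have h1 : k ∈ Subgroup.normalizer (J : Set X) := hWC k ((Subgroup.map_mono hJT).trans hk)
  have h2 : k * (c * g) ∈ Subgroup.normalizer (J : Set X) := by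
    apply hWC
    have : J.map (MulAut.conj (k * (c * g))).toMonoidHom =
        ((J.map (MulAut.conj g).toMonoidHom).map (MulAut.conj c).toMonoidHom).map
          (MulAut.conj k).toMonoidHom := by
      rw [Subgroup.map_map, Subgroup.map_map]
      congr 1
      ext z
      simp [mul_assoc]
    rw [this]
    exact (Subgroup.map_mono hc).trans hk
  have h3 : c * g ∈ Subgroup.normalizer (J : Set X) := by
    have := Subgroup.mul_mem _ (Subgroup.inv_mem _ h1) h2
    simpa using this
  refine ⟨c * g, h3, ?_⟩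
  have hcy : c * y = y * c := by
    have := (Subgroup.mem_centralizer_iff.mp hcC) y (Set.mem_singleton y)
    exact this.symm
  calc c * g * x * (c * g)⁻¹ = c * (g * x * g⁻¹) * c⁻¹ := by group
    _ = c * y * c⁻¹ := by rw [hg]
    _ = y := by rw [hcy]; group

end Cfsg.Agent.S5306
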