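import Cfsg.Statements.S5309
import Cfsg.Agent.GFC.Sub
import Cfsg.Agent.GFC.YmaxMain
import Cfsg.Agent.S5146

set_option autoImplicit false
open Cfsg

namespace Cfsg.Agent.S5309

/-- Self-centralizing property of the generalized Fitting subsystem. Let F be a saturated fusion system over a finite p-group S and D a generalized Fitting subsystem of F, over U. Then the centre of D is the largest subgroup Y of C_S(U) centralized by D in F, in the sense that every map of D extends to a map of F fixing Y elementwise: the centre of D is such a subgroup, and every such Y lies in the centre of D. -/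
theorem result {Ω : Type*} [Group Ω] {S : Subgroup Ω} [Finite S] (p : ℕ) [Fact p.Prime] (hS : IsPGroup p S) (F : Cfsg.FusionSystem S) (hF : F.IsSaturated p)
    {U : Subgroup Ω} (D : Cfsg.FusionSystem U) (hD : D.IsGeneralizedFittingOf F p) :
    (D.center ≤ Cfsg.FusionSystem.centralizerIn S U ∧ ∀ P : Subgroup Ω, D.Hom P ⊆ F.centralizerHom D.center P) ∧
      ∀ Y : Subgroup Ω, Y ≤ Cfsg.FusionSystem.centralizerIn S U →
        (∀ P : Subgroup Ω, D.Hom P ⊆ F.centralizerHom Y P) → Y ≤ D.center := by
  refine ⟨Cfsg.Agent.GFC.gfc_part1 p hS F hF D hD, fun Y hY hDY => ?_⟩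
  refine Cfsg.Agent.GFC.gfc_part2 p hS F hF ?_ D hD Y hY hDY
  intro C D₁ hCS hsat hno
  haveI : Finite C := Finite.of_injective _ (Subgroup.inclusion_injective hCS)
  exact (Cfsg.Agent.S5146.result p (hS.to_le hCS) D₁ hsat).mpr hno

end Cfsg.Agent.S5309
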