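import Cfsg.Statements.S5311
import Cfsg.Agent.Helper4.FusTrE

set_option autoImplicit false
open Cfsg

namespace Cfsg.Agent.S5311

/-- The layer of a saturated fusion system F over a finite p-group S is characteristic in F: for every automorphism α of S that is an automorphism of F (α and its inverse are morphisms from F to F) and every layer E of F over T, α carries T onto T and, for every map φ of E with source P, the map induced by α on α(P) (that is, α ∘ φ ∘ α⁻¹) is a map of E. -/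
theorem result {Ω : Type*} [Group Ω] {S : Subgroup Ω} [Finite S] (p : ℕ) [Fact p.Prime] (hS : IsPGroup p S) (F : Cfsg.FusionSystem S) (hF : F.IsSaturated p)
    (α : ↥S ≃* ↥S) (hα : F.IsMorphism F (S.subtype.comp α.toMonoidHom))
    (hα' : F.IsMorphism F (S.subtype.comp α.symm.toMonoidHom))
    {T : Subgroup Ω} (E : Cfsg.FusionSystem T) (hE : E.IsLayerOf F p) :
    Cfsg.FusionSystem.imageAlong (S.subtype.comp α.toMonoidHom) T = T ∧
      ∀ (P : Subgroup Ω) (φ : ↥P →* Ω), φ ∈ E.Hom P →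
        ∀ φ' : ↥(Cfsg.FusionSystem.imageAlong (S.subtype.comp α.toMonoidHom) P) →* Ω,
          Cfsg.FusionSystem.InducedAlong (S.subtype.comp α.toMonoidHom) φ φ' →
            φ' ∈ E.Hom (Cfsg.FusionSystem.imageAlong (S.subtype.comp α.toMonoidHom) P) := by
  have hFF : Cfsg.Agent.Helper4.FusTr.Img α F F :=
    Cfsg.Agent.Helper4.FusTr.Img.of_isMorphism α hα hα'
  have hFF' : Cfsg.Agent.Helper4.FusTr.Img α.symm F F := hFF.symm
  obtain ⟨hEn, hEc, hEmin⟩ := hE
  have hTS : T ≤ S := hEn.1.2.2.2.1.1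
  -- a general statement, applied to `α` and to `α.symm`
  have key : ∀ (β : ↥S ≃* ↥S), Cfsg.Agent.Helper4.FusTr.Img β F F →
      Cfsg.Agent.Helper4.FusTr.Img β.symm F F →
      E.IsSubsystemOf (Cfsg.Agent.Helper4.FusTr.imgFS β E hTS) := by
    intro β hβ hβ'
    have hE' := Cfsg.Agent.Helper4.FusTr.imgFS_img β E hTS
    apply hEmin _ _ (hE'.isNormalIn p hS hβ hEn)
    intro U C hC
    have hUS : U ≤ S := Cfsg.Agent.Lead.Fusion.le_of_isSubnormalIn hC.1
    have hC₁ := Cfsg.Agent.Helper4.FusTr.imgFS_img β.symm C hUS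
    have hC₁c := hC₁.isComponentIn p hS hβ' hC
    have hsub := hEc _ _ hC₁c
    exact (Cfsg.Agent.Helper4.FusTr.Img.of_symm hC₁).isSubsystemOf hE' hsub
  have h1 := key α hFF hFF'
  have h2 := key α.symm hFF' hFF
  have hE' := Cfsg.Agent.Helper4.FusTr.imgFS_img α E hTS
  have hE'' := Cfsg.Agent.Helper4.FusTr.imgFS_img α.symm E hTS
  -- `E' ⊆ E`
  have h3 : (Cfsg.Agent.Helper4.FusTr.imgFS α E hTS).IsSubsystemOf E :=
    hE'.isSubsystemOf (Cfsg.Agent.Helper4.FusTr.Img.of_symm hE'') h2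
  have hT1 : T ≤ Cfsg.Agent.Helper4.FusTr.mapS α T :=
    ((Cfsg.Agent.Helper4.FusTr.imgFS α E hTS).le_of_mem
      (h1 T (Cfsg.Agent.Lead.Fusion.subtype_mem E le_rfl))).1
  have hT2 : Cfsg.Agent.Helper4.FusTr.mapS α T ≤ T :=
    (E.le_of_mem (h3 _ (Cfsg.Agent.Lead.Fusion.subtype_mem
      (Cfsg.Agent.Helper4.FusTr.imgFS α E hTS) le_rfl))).1
  refine ⟨le_antisymm hT2 hT1, fun P φ hφ φ' hind => ?_⟩
  have hi : Cfsg.Agent.Helper4.FusTr.Ind α φ φ' :=
    Cfsg.Agent.Helper4.FusTr.Ind.of_inducedAlong hind rfl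
  exact h3 _ ((hE'.iff hi).mp hφ)

end Cfsg.Agent.S5311
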