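import Cfsg.Statements.S5322
import Cfsg.Agent.Helper4.J3FusData
import Cfsg.Agent.Helper9.J3C.Transport

set_option autoImplicit false
open Cfsg

namespace Cfsg.Agent.S5322

/-- For a finite group G isomorphic to the third Janko group J₃, the 2-fusion system of G on a Sylow 2-subgroup is simple: saturated, over a nontrivial 2-group, with no normal subsystem other than the trivial one and itself. -/
theorem result {G : Type*} [Group G] [Finite G] (hG : Cfsg.Spor.IsoJ3 G) (S : Sylow 2 G) : (Cfsg.groupFusionSystem (S : Subgroup G)).IsSimple 2 := by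
  obtain ⟨F, _, _, ω, hF, hω, ⟨e⟩⟩ := hG
  obtain ⟨-, -, ⟨e2⟩⟩ := Cfsg.Agent.Helper9.J3C.threeJ3_facts hF ω hω
  let φ : ↥Cfsg.Agent.Helper9.J3.G ≃* G := (e.trans e2).symm
  have hz := Cfsg.Agent.Helper9.J3Z.ZData.map φ Cfsg.Agent.Helper9.J3Z.zdata
  have he := Cfsg.Agent.Helper4.J3Fus.Extra.map φ Cfsg.Agent.Helper4.J3Fus.extraG
  have hc : (Nat.card G).factorization 2 = 7 := by
    rw [← Nat.card_congr φ.toEquiv]
    exact Cfsg.Agent.Helper4.J3Fus.fact_G
  obtain ⟨S₀, hS₀⟩ := Cfsg.Agent.Helper4.J3Fus.ZD.exists_crit hz he hc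
  have : Fact (Nat.Prime 2) := ⟨Nat.prime_two⟩
  have hS1 : (S₀ : Subgroup G) ≠ ⊥ := by
    intro hbot
    have h1 := S₀.card_eq_multiplicity
    rw [hbot, hc, Subgroup.card_bot] at h1
    norm_num at h1
  exact Cfsg.Agent.Lead.SimpCrit.crit_all 2 S₀ hS1 hS₀ S

end Cfsg.Agent.S5322
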