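import Mathlib
import Cfsg.Statements.S5329
import Cfsg.Agent.Helper3.CharI
-- import your own Cfsg.Agent.* helpers here

set_option autoImplicit false
open Cfsg

namespace Cfsg.Agent.S5329

open Cfsg.FusionSystem Cfsg.Agent.Lead Cfsg.Agent.Helper3.Char

open scoped commutatorElement

/-- For a saturated fusion system F over a finite p-group S, the focal subgroup and the derived subgroup of S meet the centre Z(F) of the system in the same subgroup: foc(F) ∩ Z(F) = S′ ∩ Z(F). -/
theorem result {Ω : Type*} [Group Ω] {S : Subgroup Ω} [Finite S] (p : ℕ) [Fact p.Prime] (hS : IsPGroup p S) (F : Cfsg.FusionSystem S) (hF : F.IsSaturated p) : F.focalSubgroup ⊓ F.center = ⁅(S : Subgroup Ω), (S : Subgroup Ω)⁆ ⊓ F.center := by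
  obtain ⟨n, V, hpn, hV1, hV2⟩ := exists_transfer p hS F hF (Abelianization.of (G := S))
  have hcomm : ⁅(S : Subgroup Ω), S⁆ = (commutator S).map S.subtype := by
    rw [commutator_def, Subgroup.map_commutator, ← MonoidHom.range_eq_map, Subgroup.range_subtype]
  apply le_antisymm
  · rintro z ⟨hzfoc, hzc⟩
    refine ⟨?_, hzc⟩
    have hfocS : F.focalSubgroup ≤ (V.ker).map S.subtype := by
      unfold focalSubgroup
      rw [Subgroup.closure_le]
      rintro _ ⟨P, φ, x, hφ, rfl⟩
      have hxS := Fusion.src_le F hφ x.2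
      have hφS := Fusion.map_mem F hφ x
      refine ⟨(⟨x, hxS⟩ : S)⁻¹ * ⟨φ x, hφS⟩, ?_, rfl⟩
      rw [SetLike.mem_coe, MonoidHom.mem_ker, map_mul, map_inv, hV1 P φ hφ x, inv_mul_cancel]
    obtain ⟨z', hz'ker, rfl⟩ := hfocS hzfoc
    have h1 : V z' = 1 := hz'ker
    rw [hV2 z' hzc] at h1
    have h2 : z' ^ n ∈ commutator S := by
      rw [← Abelianization.ker_of, MonoidHom.mem_ker, map_pow]; exact h1
    have h3 : z' ∈ commutator S := by
      obtain ⟨k, hk⟩ := hS z'
      have hp : p.Prime := Fact.out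
      have hcop : n.Coprime (orderOf z') := by
        apply Nat.Coprime.coprime_dvd_right (orderOf_dvd_of_pow_eq_one hk)
        exact Nat.Coprime.pow_right k ((Nat.Prime.coprime_iff_not_dvd hp).mpr hpn).symm
      obtain ⟨m, hm⟩ := exists_pow_eq_self_of_coprime hcop
      rw [← hm]
      exact Subgroup.pow_mem _ h2 m
    rw [hcomm]
    exact ⟨z', h3, rfl⟩
  · apply inf_le_inf_right
    rw [Subgroup.commutator_le]
    intro x hx y hy
    unfold focalSubgroup
    apply Subgroup.subset_closure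
    refine ⟨S, conjHom S y, ⟨x⁻¹, S.inv_mem hx⟩, F.conj_mem le_rfl hy, ?_⟩
    change ⁅x, y⁆ = (x⁻¹)⁻¹ * (y * x⁻¹ * y⁻¹)
    rw [commutatorElement_def, inv_inv]
    group


end Cfsg.Agent.S5329
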