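import Mathlib
import Cfsg.Statements.S5344
import Cfsg.Statements.S5344
import Cfsg.Agent.Helper3.S4Pres
-- import your own Cfsg.Agent.* helpers here

set_option autoImplicit false
open Cfsg

namespace Cfsg.Agent.S5344
open Cfsg

universe u

/-- two non-commuting involutions whose product squares or cubes to one have product of order 3 -/
theorem cube_of_not_commute {G : Type u} [Group G] {a b : G} (ha : a ^ 2 = 1) (hb : b ^ 2 = 1)
    (h : (a * b) ^ 2 = 1 ∨ (a * b) ^ 3 = 1) (hab : ¬ Commute a b) : (a * b) ^ 3 = 1 := by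
  rcases h with h | h
  · exfalso
    apply hab
    have ha' : a⁻¹ = a := by rw [inv_eq_iff_mul_eq_one, ← pow_two, ha]
    have hb' : b⁻¹ = b := by rw [inv_eq_iff_mul_eq_one, ← pow_two, hb]
    have h1 : a * b * (a * b) = 1 := by rw [← pow_two]; exact h
    have h2 : a * b = (a * b)⁻¹ := by rw [eq_inv_iff_mul_eq_one]; exact h1
    rw [mul_inv_rev, ha', hb'] at h2
    exact h2
  · exact h

/-- In a set of 3-transpositions, let a, b, c be members with a and c different and commuting, while neither a nor c commutes with b (a 3-string). Then there is an injective homomorphism from the symmetric group of degree 4 into the ambient group sending the transpositions (0 1), (1 2), (2 3) to a, b, c; so a, b, c generate a copy of the symmetric group of degree 4 in which they are transpositions. -/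
theorem result {G : Type*} [Group G] {D : Set G} (hD : Cfsg.IsThreeTranspositionSet D) {a b c : G} (ha : a ∈ D) (hb : b ∈ D) (hc : c ∈ D) (hac : a ≠ c) (hac' : Commute a c) (hab : ¬ Commute a b) (hbc : ¬ Commute b c) : ∃ φ : Equiv.Perm (Fin 4) →* G, Function.Injective φ ∧ φ (Equiv.swap 0 1) = a ∧ φ (Equiv.swap 1 2) = b ∧ φ (Equiv.swap 2 3) = c := by
  obtain ⟨hord, hprod⟩ := hD
  have ha2 : a ^ 2 = 1 := by rw [← hord a ha]; exact pow_orderOf_eq_one a
  have hb2 : b ^ 2 = 1 := by rw [← hord b hb]; exact pow_orderOf_eq_one b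
  have hc2 : c ^ 2 = 1 := by rw [← hord c hc]; exact pow_orderOf_eq_one c
  have hab3 := cube_of_not_commute ha2 hb2 (hprod a ha b hb) hab
  have hbc3 := cube_of_not_commute hb2 hc2 (hprod b hb c hc) hbc
  have hac2 : (a * c) ^ 2 = 1 := by
    rw [hac'.mul_pow, ha2, hc2, one_mul]
  obtain ⟨φ, h1, h2, h3⟩ := Cfsg.Agent.Helper3.S4Pres.exists_hom a b c ha2 hb2 hc2 hab3 hbc3 hac2
  refine ⟨φ, ?_, h1, h2, h3⟩
  apply Cfsg.Agent.Helper3.S4Pres.injective_of_ne_one
  rw [map_mul, h1, h3]
  intro h
  apply hac
  have hc' : c⁻¹ = c := by rw [inv_eq_iff_mul_eq_one, ← pow_two, hc2]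
  rw [← hc']
  exact eq_inv_of_mul_eq_one_left h


end Cfsg.Agent.S5344
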