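import Cfsg.Statements.S5345
import Cfsg.Agent.Helper9.Invol

set_option autoImplicit false
open Cfsg

namespace Cfsg.Agent.S5345

/-- A subgroup generated by pairwise commuting elements squaring to one is a 2-group. -/
theorem isPGroup_closure_of_commuting_invols {G : Type*} [Group G] (E : Set G)
    (hsq : ∀ a ∈ E, a * a = 1) (hcomm : ∀ a ∈ E, ∀ b ∈ E, a * b = b * a) :
    IsPGroup 2 (Subgroup.closure E) := by
  have hC : IsMulCommutative (Subgroup.closure E) := Subgroup.isMulCommutative_closure hcomm
  have hall : ∀ x ∈ Subgroup.closure E, x * x = 1 := by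
    intro x hx
    induction hx using Subgroup.closure_induction with
    | mem x hx => exact hsq x hx
    | one => simp
    | mul x y hx hy ihx ihy =>
      have hxy : x * y = y * x := by
        have := hC.is_comm.comm (⟨x, hx⟩ : Subgroup.closure E) ⟨y, hy⟩
        exact congrArg Subtype.val this
      calc x * y * (x * y) = x * (y * x) * y := by simp only [mul_assoc]
        _ = x * (x * y) * y := by rw [hxy]
        _ = (x * x) * (y * y) := by simp only [mul_assoc]
        _ = 1 := by rw [ihx, ihy, one_mul]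
    | inv x hx ih =>
      have : (x * x)⁻¹ = 1 := by rw [ih, inv_one]
      rw [mul_inv_rev] at this
      exact this
  intro x
  refine ⟨1, ?_⟩
  apply Subtype.ext
  have := hall x x.2
  simp [pow_two, this]

/-- Let D be a conjugation-invariant generating set of 3-transpositions of a finite group G and T a Sylow 2-subgroup of G. Then the members of D lying in T generate an abelian subgroup, and their number is the width of D (the largest number of pairwise commuting members of D). -/
theorem result {G : Type*} [Group G] [Finite G] {D : Set G} (hD : Cfsg.IsThreeTranspositionGroup D) (T : Sylow 2 G) : IsMulCommutative (Subgroup.closure {d : G | d ∈ D ∧ d ∈ T}) ∧ {d : G | d ∈ D ∧ d ∈ T}.ncard = Cfsg.commutingWidth D := by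
  have : Fact (Nat.Prime 2) := ⟨Nat.prime_two⟩
  obtain ⟨⟨hord, hprod⟩, hconj, _⟩ := hD
  have hsq : ∀ d ∈ D, d * d = 1 := fun d hd => Cfsg.Agent.Helper9.mul_self_of_orderOf_two (hord d hd)
  -- members of D in T commute pairwise
  have hcommT : ∀ x ∈ {d : G | d ∈ D ∧ d ∈ T}, ∀ y ∈ {d : G | d ∈ D ∧ d ∈ T}, x * y = y * x := by
    rintro x ⟨hxD, hxT⟩ y ⟨hyD, hyT⟩
    rcases hprod x hxD y hyD with h | h
    · exact (Cfsg.Agent.Helper9.commute_of_sq (hsq x hxD) (hsq y hyD) h).eq
    · -- x*y has order dividing 3 and a power of 2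
      have hxyT : x * y ∈ (T : Subgroup G) := T.mul_mem hxT hyT
      obtain ⟨k, hk⟩ := T.isPGroup' ⟨x * y, hxyT⟩
      have hk' : (x * y) ^ 2 ^ k = 1 := by
        have := congrArg Subtype.val hk
        simpa using this
      have h1 : orderOf (x * y) ∣ 3 := orderOf_dvd_of_pow_eq_one h
      have h2 : orderOf (x * y) ∣ 2 ^ k := orderOf_dvd_of_pow_eq_one hk'
      have h3 : Nat.Coprime 3 (2 ^ k) := Nat.Coprime.pow_right _ (by decide)
      have h4 : orderOf (x * y) = 1 := Nat.eq_one_of_dvd_coprimes h3 h1 h2
      have h5 : x * y = 1 := orderOf_eq_one_iff.mp h4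
      have h6 : x = y⁻¹ := eq_inv_of_mul_eq_one_left h5
      have h7 : y⁻¹ = y := inv_eq_of_mul_eq_one_left (hsq y hyD)
      rw [h6, h7]
  refine ⟨Subgroup.isMulCommutative_closure hcommT, ?_⟩
  have hfin : {d : G | d ∈ D ∧ d ∈ T}.Finite := Set.toFinite _
  unfold Cfsg.commutingWidth
  symm
  apply IsGreatest.csSup_eq
  constructor
  · exact ⟨{d : G | d ∈ D ∧ d ∈ T}, fun x hx => hx.1, hfin,
      fun a ha b hb => hcommT a ha b hb, rfl⟩
  · rintro n ⟨E, hED, hEfin, hEcomm, rfl⟩
    have hE2 : IsPGroup 2 (Subgroup.closure E) :=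
      isPGroup_closure_of_commuting_invols E (fun a ha => hsq a (hED ha))
        (fun a ha b hb => (hEcomm a ha b hb).eq)
    obtain ⟨P', hP'⟩ := IsPGroup.exists_le_sylow hE2
    obtain ⟨g, hg⟩ := MulAction.exists_smul_eq G T P'
    -- conjugating E by g⁻¹ lands inside D ∩ T
    have hmaps : Set.MapsTo (fun x => g⁻¹ * x * g) E {d : G | d ∈ D ∧ d ∈ T} := by
      intro x hx
      refine ⟨?_, ?_⟩
      · have := hconj g⁻¹ x (hED hx)
        rwa [inv_inv] at this
      · have h1 : x ∈ ((g • T : Sylow 2 G) : Subgroup G) := by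
          rw [hg]; exact hP' (Subgroup.subset_closure hx)
        rw [Sylow.coe_subgroup_smul, Subgroup.mem_pointwise_smul_iff_inv_smul_mem] at h1
        rw [MulAut.smul_def, ← map_inv, MulAut.conj_apply, inv_inv] at h1
        exact h1
    have hinj : Set.InjOn (fun x => g⁻¹ * x * g) E := by
      intro x _ y _ hxy
      have : g⁻¹ * x * g = g⁻¹ * y * g := hxy
      exact mul_left_cancel (mul_right_cancel this)
    exact Set.ncard_le_ncard_of_injOn _ hmaps hinj hfin

end Cfsg.Agent.S5345
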