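import Mathlib
import Cfsg.Statements.S5358
import Cfsg.Agent.Helper8.ReflMatrix

set_option autoImplicit false
open Cfsg

namespace Cfsg.Agent.S5358

open Cfsg.Agent.Helper8.QuadForm Cfsg.Agent.Helper8.Reflections Cfsg.Agent.Helper8.ReflMatrix

/-- Let Q be a non-degenerate quadratic form on the n-dimensional coordinate space over the field with three elements and u, v vectors of the same non-zero norm Q(u) = Q(v) spanning different lines (v ≠ u and v ≠ −u). Then the reflection matrices of u and v commute if and only if u and v are orthogonal for the polar form of Q. -/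
theorem result (n : ℕ) (Q : QuadraticForm (ZMod 3) (Fin n → ZMod 3)) (hQ : (QuadraticMap.polarBilin Q).Nondegenerate) (u v : Fin n → ZMod 3) (hu : Q u ≠ 0) (huv : Q u = Q v) (h1 : v ≠ u) (h2 : v ≠ -u) : Commute (Cfsg.reflectionMatrix (⇑Q) u) (Cfsg.reflectionMatrix (⇑Q) v) ↔ QuadraticMap.polar (⇑Q) u v = 0 := by
  have h2' : (2 : ZMod 3) ≠ 0 := by decide
  have hv : Q v ≠ 0 := by rw [← huv]; exact hu
  have hmul : ∀ a b x : Fin n → ZMod 3,
      (Cfsg.reflectionMatrix (⇑Q) a * Cfsg.reflectionMatrix (⇑Q) b).mulVec x
        = refl Q a (refl Q b x) := by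
    intro a b x
    rw [← Matrix.mulVec_mulVec, reflectionMatrix_mulVec, reflectionMatrix_mulVec]
  constructor
  · intro hc
    by_contra hβ
    have h3 := congrArg (fun M => Matrix.mulVec M v) hc.eq
    simp only [hmul] at h3
    rw [refl_self Q hv, map_neg, refl_apply Q u v, refl_apply Q v (v - _)] at h3
    rw [QuadraticMap.polar_sub_right, QuadraticMap.polar_smul_right, polar_self',
      QuadraticMap.polar_comm Q v u, smul_eq_mul] at h3
    obtain ⟨β, hβdef⟩ : ∃ β, β = QuadraticMap.polar Q u v := ⟨_, rfl⟩
    rw [← hβdef] at h3 hβ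
    rw [← huv] at h3
    -- `(2β/a) u = (β²/a²) v`
    have h4 : (2 * β / Q u) • u = (β / Q u * (β / Q u)) • v := by
      have e1 : (2 * Q u - β / Q u * β) / Q u = 2 - β / Q u * (β / Q u) := by
        field_simp
      rw [e1] at h3
      have h5 : (2 * β / Q u) • u - (β / Q u * (β / Q u)) • v = 0 := by
        have e2 : (2 * β / Q u) • u - (β / Q u * (β / Q u)) • v
            = (-(v - (β / Q u) • u)) - (v - (β / Q u) • u - (2 - β / Q u * (β / Q u)) • v) := by
          rw [sub_smul, two_smul, mul_div_assoc, two_mul, add_smul]
          abel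
        rw [e2, h3, sub_self]
      exact sub_eq_zero.mp h5
    -- hence `u = λ v`
    have h6 : u = (β / (2 * Q u)) • v := by
      have h7 := congrArg (fun y => (Q u / (2 * β)) • y) h4
      simp only [smul_smul] at h7
      have e3 : Q u / (2 * β) * (2 * β / Q u) = 1 := by field_simp
      have e4 : Q u / (2 * β) * (β / Q u * (β / Q u)) = β / (2 * Q u) := by field_simp
      rw [e3, e4, one_smul] at h7
      exact h7
    obtain ⟨l, hl⟩ : ∃ l, l = β / (2 * Q u) := ⟨_, rfl⟩
    rw [← hl] at h6
    have h8 : l * l = 1 := by
      have := huv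
      rw [h6, QuadraticMap.map_smul, smul_eq_mul] at this
      have h9 : (l * l - 1) * Q v = 0 := by linear_combination this
      rcases mul_eq_zero.mp h9 with h | h
      · linear_combination h
      · exact absurd h hv
    have h10 : (l - 1) * (l + 1) = 0 := by linear_combination h8
    rcases mul_eq_zero.mp h10 with h | h
    · apply h1
      have : l = 1 := by linear_combination h
      rw [h6, this, one_smul]
    · apply h2
      have : l = -1 := by linear_combination h
      rw [h6, this, neg_smul, one_smul, neg_neg]
  · intro hβ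
    have hβ' : QuadraticMap.polar Q v u = 0 := by rw [QuadraticMap.polar_comm]; exact hβ
    apply matrix_ext
    intro x
    rw [hmul, hmul, refl_apply Q u (refl Q v x), refl_apply Q v (refl Q u x), refl_apply Q v x,
      refl_apply Q u x]
    rw [QuadraticMap.polar_sub_right, QuadraticMap.polar_smul_right, hβ,
      QuadraticMap.polar_sub_right, QuadraticMap.polar_smul_right, hβ']
    simp only [smul_zero, sub_zero]
    abel

end Cfsg.Agent.S5358
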