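import Cfsg.Statements.S5363
import Cfsg.Agent.Helper9.Invol
import Cfsg.Agent.S0442

set_option autoImplicit false
open Cfsg

namespace Cfsg.Agent.S5363

open Cfsg.Agent.Helper9

theorem pow_odd_of_sq {G : Type*} [Group G] {t : G} (ht : t * t = 1) {n : ℕ} (hn : Odd n) :
    t ^ n = t := by
  obtain ⟨j, rfl⟩ := hn
  rw [pow_succ, pow_mul, pow_two, ht, one_pow, one_mul]

/-- `b` also inverts powers of `a * b`. -/
theorem invol_conj_pow' {G : Type*} [Group G] {a b : G} (ha : a * a = 1) (hb : b * b = 1) (k : ℕ) :
    b * (a * b) ^ k * b = ((a * b) ^ k)⁻¹ := by
  have hai : a⁻¹ = a := inv_eq_of_mul_eq_one_left ha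
  have hbi : b⁻¹ = b := inv_eq_of_mul_eq_one_left hb
  have h1 : b * (a * b) * b = (a * b)⁻¹ := by
    rw [mul_inv_rev, hai, hbi]
    calc b * (a * b) * b = b * a * (b * b) := by simp only [mul_assoc]
      _ = b * a := by rw [hb, mul_one]
  have h2 : b * (a * b) ^ k * b⁻¹ = (b * (a * b) * b⁻¹) ^ k := (conj_pow).symm
  rw [hbi] at h2
  rw [h2, h1, _root_.inv_pow]

/-- Let D be a conjugation-invariant set of involutions of a finite group G. Then every product of two members of D has odd order or order 2 if and only if, for every a in D and every b in D different from a and commuting with a, the members of D commuting with a b are exactly those commuting with both a and b. -/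
theorem result {G : Type*} [Group G] [Finite G] {D : Set G} (hinv : ∀ d ∈ D, orderOf d = 2) (hconj : ∀ g : G, ∀ d ∈ D, g * d * g⁻¹ ∈ D) : (∀ a ∈ D, ∀ b ∈ D, Odd (orderOf (a * b)) ∨ orderOf (a * b) = 2) ↔ ∀ a ∈ D, ∀ b ∈ D, b ≠ a → Commute a b → {y : G | y ∈ D ∧ Commute (a * b) y} = {y : G | y ∈ D ∧ Commute a y} ∩ {y : G | y ∈ D ∧ Commute b y} := by
  constructor
  · intro hord a ha b hb hba hcomm
    have ha2 := mul_self_of_orderOf_two (hinv a ha)
    have hb2 := mul_self_of_orderOf_two (hinv b hb)
    have hab' : a * b = b * a := hcomm.eq
    have ht2 : (a * b) * (a * b) = 1 := by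
      calc (a * b) * (a * b) = a * (b * a) * b := by simp only [mul_assoc]
        _ = a * (a * b) * b := by rw [hab']
        _ = (a * a) * (b * b) := by simp only [mul_assoc]
        _ = 1 := by rw [ha2, hb2, one_mul]
    have ht1 : a * b ≠ 1 := by
      intro h
      apply hba
      have : b = a⁻¹ := eq_inv_of_mul_eq_one_right h
      rw [this, inv_eq_self_of_mul_self ha2]
    have hta : Commute (a * b) a := (Commute.refl a).mul_left hcomm.symm
    have hb_eq : b = a * (a * b) := by rw [← mul_assoc, ha2, one_mul]
    have ha_eq : a = b * (a * b) := by rw [hab', ← mul_assoc, hb2, one_mul]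
    ext y
    simp only [Set.mem_setOf_eq, Set.mem_inter_iff]
    constructor
    · rintro ⟨hy, hty⟩
      have hy2 := mul_self_of_orderOf_two (hinv y hy)
      have hay : Commute a y := by
        rcases hord a ha y hy with hodd | h2
        · -- odd order n
          rcases hord b hb y hy with hodd' | h2'
          · exfalso
            apply ht1
            set n := orderOf (a * y) with hn
            set k := orderOf (b * y) with hk
            have hby : b * y = (a * y) * (a * b) := by
              have e : (a * b) * y = y * (a * b) := hty
              calc b * y = a * ((a * b) * y) := by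
                    rw [← mul_assoc a, ← mul_assoc a, ha2, one_mul]
                _ = a * (y * (a * b)) := by rw [e]
                _ = (a * y) * (a * b) := by rw [mul_assoc]
            have hcom : Commute (a * y) (a * b) := (hta.symm.mul_left hty.symm)
            have h1 : (a * y) ^ k * (a * b) = 1 := by
              have : (b * y) ^ k = 1 := pow_orderOf_eq_one _
              rw [hby, hcom.mul_pow, pow_odd_of_sq ht2 hodd'] at this
              exact this
            have h2 : a * b = ((a * y) ^ k)⁻¹ := eq_inv_of_mul_eq_one_right h1
            have h3 : (a * b) ^ n = 1 := by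
              rw [h2, _root_.inv_pow, ← pow_mul, mul_comm, pow_mul, pow_orderOf_eq_one, one_pow,
                inv_one]
            rwa [pow_odd_of_sq ht2 hodd] at h3
          · have hby : Commute b y := by
              apply commute_of_sq hb2 hy2
              rw [← h2']; exact pow_orderOf_eq_one _
            rw [ha_eq]
            exact hby.mul_left hty
        · apply commute_of_sq ha2 hy2
          rw [← h2]; exact pow_orderOf_eq_one _
      refine ⟨⟨hy, hay⟩, hy, ?_⟩
      rw [hb_eq]
      exact hay.mul_left hty
    · rintro ⟨⟨hy, hay⟩, _, hby⟩
      exact ⟨hy, hay.mul_left hby⟩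
  · intro h a ha b hb
    have ha2 := mul_self_of_orderOf_two (hinv a ha)
    have hb2 := mul_self_of_orderOf_two (hinv b hb)
    have hai : a⁻¹ = a := inv_eq_self_of_mul_self ha2
    have hbi : b⁻¹ = b := inv_eq_self_of_mul_self hb2
    set u := a * b with hu
    have hpos : 0 < orderOf u := orderOf_pos u
    rcases Nat.even_or_odd (orderOf u) with heven | hodd
    · right
      obtain ⟨m, hm⟩ := heven
      have hm' : orderOf u = 2 * m := by rw [hm]; ring
      by_contra hne
      have hm2 : 2 ≤ m := by
        rcases Nat.lt_or_ge m 2 with hlt | hge
        · exfalso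
          interval_cases m
          · omega
          · exact hne hm'
        · exact hge
      -- z = u^m is an involution
      set z := u ^ m with hz
      have hz2 : z * z = 1 := by
        rw [hz, ← pow_add, ← hm]; exact pow_orderOf_eq_one u
      have hz1 : z ≠ 1 := by
        intro h1
        have := orderOf_dvd_of_pow_eq_one h1
        have := Nat.le_of_dvd (by omega) this
        omega
      have hzi : z⁻¹ = z := inv_eq_self_of_mul_self hz2
      have haz : a * z * a = z := by
        have := Cfsg.Agent.S0442.invol_conj_pow ha2 hb2 m
        rw [← hu, ← hz, hzi] at this; exact this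
      have hbz : b * z * b = z := by
        have := invol_conj_pow' ha2 hb2 m
        rw [← hu, ← hz, hzi] at this; exact this
      have hcaz : Commute a z := by
        show a * z = z * a
        calc a * z = a * z * (a * a) := by rw [ha2, mul_one]
          _ = (a * z * a) * a := by simp only [mul_assoc]
          _ = z * a := by rw [haz]
      have hcbz : Commute b z := by
        show b * z = z * b
        calc b * z = b * z * (b * b) := by rw [hb2, mul_one]
          _ = (b * z * b) * b := by simp only [mul_assoc]
          _ = z * b := by rw [hbz]
      -- c = a * z is in D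
      have hcD : a * z ∈ D := by
        rcases Nat.even_or_odd m with hme | hmo
        · obtain ⟨j, hj⟩ := hme
          -- (u^j)⁻¹ * a * u^j = a * u^j * u^j
          have h1 := Cfsg.Agent.S0442.invol_conj_pow ha2 hb2 j
          rw [← hu] at h1
          have h2 : (u ^ j)⁻¹ * a * ((u ^ j)⁻¹)⁻¹ = a * z := by
            rw [inv_inv, ← h1, hz, hj, pow_add]
            calc a * u ^ j * a * a * u ^ j = a * u ^ j * (a * a) * u ^ j := by
                  simp only [mul_assoc]
              _ = a * (u ^ j * u ^ j) := by rw [ha2, mul_one, mul_assoc]
          rw [← h2]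
          exact hconj _ a ha
        · obtain ⟨j, hj⟩ := hmo
          have h1 := Cfsg.Agent.S0442.invol_conj_pow ha2 hb2 j
          rw [← hu] at h1
          have h2 : (u ^ j)⁻¹ * b * ((u ^ j)⁻¹)⁻¹ = a * z := by
            rw [inv_inv, ← h1, hz, hj]
            have hbu : b = a * u := by rw [hu, ← mul_assoc, ha2, one_mul]
            calc a * u ^ j * a * b * u ^ j = a * u ^ j * a * (a * u) * u ^ j := by rw [← hbu]
              _ = a * u ^ j * (a * a) * u * u ^ j := by simp only [mul_assoc]
              _ = a * (u ^ j * u * u ^ j) := by rw [ha2, mul_one]; simp only [mul_assoc]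
              _ = a * u ^ (2 * j + 1) := by
                    rw [← pow_succ, ← pow_add]
                    congr 2; ring
          rw [← h2]
          exact hconj _ b hb
      have hca : a * z ≠ a := by
        intro h1
        apply hz1
        have : a * z = a * 1 := by rw [mul_one]; exact h1
        exact mul_left_cancel this
      have hcomm : Commute a (a * z) := (Commute.refl a).mul_right hcaz
      have hset := h a ha (a * z) hcD hca hcomm
      have haaz : a * (a * z) = z := by rw [← mul_assoc, ha2, one_mul]
      have hbmem : b ∈ {y : G | y ∈ D ∧ Commute (a * (a * z)) y} := by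
        refine ⟨hb, ?_⟩
        rw [haaz]; exact hcbz.symm
      rw [hset] at hbmem
      have hab : Commute a b := hbmem.1.2
      -- then u^2 = 1
      have hu2 : u ^ 2 = 1 := by
        rw [pow_two, hu]
        calc a * b * (a * b) = a * (b * a) * b := by simp only [mul_assoc]
          _ = a * (a * b) * b := by rw [hab.eq]
          _ = (a * a) * (b * b) := by simp only [mul_assoc]
          _ = 1 := by rw [ha2, hb2, one_mul]
      have := orderOf_dvd_of_pow_eq_one hu2
      have := Nat.le_of_dvd (by norm_num) this
      omega
    · left; exact hodd

end Cfsg.Agent.S5363
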