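import Cfsg.Statements.S5364
import Cfsg.Agent.Helper9.Invol

set_option autoImplicit false
open Cfsg

namespace Cfsg.Agent.S5364

open Cfsg.Agent.Helper9

theorem mem_zpowers_invol {G : Type*} [Group G] {t x : G} (ht : orderOf t = 2)
    (hx : x ∈ Subgroup.zpowers t) : x = 1 ∨ x = t := by
  obtain ⟨k, rfl⟩ := Subgroup.mem_zpowers_iff.1 hx
  rw [← zpow_mod_orderOf, ht]
  have h := Int.emod_two_eq_zero_or_one k
  rcases h with h | h
  · left
    have : k % ((2 : ℕ) : ℤ) = 0 := by simpa using h
    rw [this, zpow_zero]
  · right
    have : k % ((2 : ℕ) : ℤ) = 1 := by simpa using h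
    rw [this, zpow_one]

/-- Let D be a conjugation-invariant set of involutions of a finite group G and t an involution in the centre of G such that d t does not lie in D for any d in D. If the images of the members of D in G modulo the subgroup generated by t satisfy the 3-transposition order conditions (each has order 2 and any two have product of order at most 3), then so do the members of D. -/
theorem result {G : Type*} [Group G] [Finite G] {D : Set G} (hinv : ∀ d ∈ D, orderOf d = 2) (hconj : ∀ g : G, ∀ d ∈ D, g * d * g⁻¹ ∈ D) (t : G) (ht : orderOf t = 2) (htZ : t ∈ Subgroup.center G) (hDt : ∀ d ∈ D, d * t ∉ D) [(Subgroup.zpowers t).Normal] (himg : Cfsg.IsThreeTranspositionSet ((QuotientGroup.mk : G → G ⧸ Subgroup.zpowers t) '' D)) : Cfsg.IsThreeTranspositionSet D := by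
  refine ⟨hinv, ?_⟩
  intro d hd e he
  have hd2 := mul_self_of_orderOf_two (hinv d hd)
  have he2 := mul_self_of_orderOf_two (hinv e he)
  have hdi : d⁻¹ = d := inv_eq_self_of_mul_self hd2
  have hei : e⁻¹ = e := inv_eq_self_of_mul_self he2
  have htc : ∀ g : G, g * t = t * g := fun g => Subgroup.mem_center_iff.1 htZ g
  have hq := himg.2 _ ⟨d, hd, rfl⟩ _ ⟨e, he, rfl⟩
  rcases hq with hq | hq
  · -- (d e)^2 ∈ ⟨t⟩
    rw [← QuotientGroup.mk_mul, ← QuotientGroup.mk_pow, QuotientGroup.eq_one_iff] at hq
    rcases mem_zpowers_invol ht hq with h1 | h1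
    · exact Or.inl h1
    · exfalso
      apply hDt e he
      -- d e d = e t
      have hc := hconj d e he
      rw [hdi] at hc
      have : d * e * d = e * t := by
        rw [pow_two] at h1
        -- d e d e = t → d e d = t e
        calc d * e * d = (d * e * (d * e)) * e := by
              simp only [mul_assoc]; rw [he2, mul_one]
          _ = t * e := by rw [h1]
          _ = e * t := (htc e).symm
      rwa [this] at hc
  · rw [← QuotientGroup.mk_mul, ← QuotientGroup.mk_pow, QuotientGroup.eq_one_iff] at hq
    rcases mem_zpowers_invol ht hq with h1 | h1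
    · exact Or.inr h1
    · exfalso
      apply hDt d hd
      have hc := hconj (d * e * (d * e)) e he
      have hginv : (d * e * (d * e))⁻¹ = e * d * (e * d) := by
        rw [mul_inv_rev, mul_inv_rev, hdi, hei]
      rw [hginv] at hc
      have : d * e * (d * e) * e * (e * d * (e * d)) = d * t := by
        rw [pow_succ, pow_two] at h1
        calc d * e * (d * e) * e * (e * d * (e * d))
            = d * e * (d * e) * ((e * e) * d) * (e * d) := by simp only [mul_assoc]
          _ = (d * e * (d * e) * (d * e)) * d := by rw [he2, one_mul]; simp only [mul_assoc]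
          _ = t * d := by rw [h1]
          _ = d * t := (htc d).symm
      rwa [this] at hc

end Cfsg.Agent.S5364
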