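import Mathlib
import Cfsg.Agent.Helper5.L34Two
import Cfsg.Agent.S2088
import Cfsg.Statements.S5387
-- import your own Cfsg.Agent.* helpers here

set_option autoImplicit false
open Cfsg

namespace Cfsg.Agent.S5387

/-- Up to isomorphism there is at most one quasisimple group whose centre is elementary abelian of order 4 and whose central quotient is isomorphic to the projective special linear group of dimension 3 over the field with four elements: any two such groups are isomorphic. -/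
theorem result {L₁ L₂ : Type*} [Group L₁] [Finite L₁] [Group L₂] [Finite L₂] (F : Type) [Field F] [Fintype F] (hF : Fintype.card F = 4) (h₁ : Cfsg.IsQuasisimple L₁) (h₂ : Cfsg.IsQuasisimple L₂) (hc₁ : Nat.card (Subgroup.center L₁) = 4) (hc₂ : Nat.card (Subgroup.center L₂) = 4) (he₁ : ∀ x ∈ Subgroup.center L₁, x * x = 1) (he₂ : ∀ x ∈ Subgroup.center L₂, x * x = 1) (e₁ : L₁ ⧸ Subgroup.center L₁ ≃* Matrix.ProjectiveSpecialLinearGroup (Fin 3) F) (e₂ : L₂ ⧸ Subgroup.center L₂ ≃* Matrix.ProjectiveSpecialLinearGroup (Fin 3) F) : Nonempty (L₁ ≃* L₂) := by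
  classical
  obtain ⟨⟨Γ, iΓ, fΓ, σ, hσ, ⟨ψ⟩⟩, hall⟩ := Cfsg.Agent.S2088.result hF
  obtain ⟨L₁', i1, f1, ⟨ι₁⟩, p1, τ₁, s1, k1, x1⟩ :=
    Cfsg.Agent.Helper5.L34Two.stem_data L₁ h₁ hc₁ he₁ e₁
  obtain ⟨L₂', i2, f2, ⟨ι₂⟩, p2, τ₂, s2, k2, x2⟩ :=
    Cfsg.Agent.Helper5.L34Two.stem_data L₂ h₂ hc₂ he₂ e₂
  have pG : Group.IsPerfect (Matrix.ProjectiveSpecialLinearGroup (Fin 3) F) :=
    Group.IsPerfect.ofSurjective (f := τ₁) s1.1
  have pΓ : Group.IsPerfect Γ := Cfsg.Agent.Helper5.CoverU.perfect_of_stem σ hσ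
  have hmax : ∀ (Γ' : Type) [Group Γ'] [Finite Γ']
      (σ' : Γ' →* Matrix.ProjectiveSpecialLinearGroup (Fin 3) F), Cfsg.IsStemExtension σ' →
      Nat.card σ'.ker ≤ Nat.card σ.ker := by
    intro Γ' _ _ σ' h'
    obtain ⟨π, hπ⟩ := hall Γ' σ' h'
    rw [Nat.card_congr ψ.toEquiv]
    exact Nat.card_le_card_of_surjective π hπ
  obtain ⟨φ₁, hs1, hc1⟩ := Cfsg.Agent.Helper5.CoverU.exists_lift σ τ₁ hσ s1 hmax
  obtain ⟨φ₂, hs2, hc2⟩ := Cfsg.Agent.Helper5.CoverU.exists_lift σ τ₂ hσ s2 hmax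
  obtain ⟨E⟩ := Cfsg.Agent.Helper5.L34Two.unique_of_cover σ hσ.1 ψ τ₁ τ₂ φ₁ φ₂ hs1 hs2 hc1 hc2
    k1 k2 x1 x2
  exact ⟨ι₁.symm.trans (E.trans ι₂)⟩

end Cfsg.Agent.S5387
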