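import Cfsg.Statements.S5393
import Cfsg.Agent.Helper9.Golay.Inter

set_option autoImplicit false
open Cfsg

namespace Cfsg.Agent.S5393

open Cfsg.Agent.Helper9.Golay
open scoped Pointwise

theorem smul_support₂' (σ : Equiv.Perm GolayPt) (w : GolayPt → ZMod 2) :
    σ • support₂ w = support₂ (fun p => w (σ.symm p)) := by
  have := inv_smul_support₂ σ⁻¹ w
  rw [inv_inv] at this
  exact this

/-- the mask of the all-ones word. -/
def onesM : ℕ := 2 ^ 24 - 1

theorem decW_onesM : decW onesM = fun _ => (1 : ZMod 2) := by
  funext p
  revert p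
  decide +kernel

theorem onesM_mem : onesM ∈ codeList := by decide +kernel

theorem dod1_facts : (57274 : ℕ) ∈ codeList ∧ popc 57274 = 12 ∧ popc (dod0 ^^^ 57274) = 8 ∧
    dod0 ∈ codeList ∧ popc dod0 = 12 := by decide +kernel

theorem popc_xor_ones : codeList.all (fun m => popc (m ^^^ onesM) + popc m == 24) = true := by
  decide +kernel

/-- an invariant subspace containing one word of a given orbit of supports contains them all. -/
theorem mem_of_sameOrbit (W : Submodule (ZMod 2) (GolayPt → ZMod 2))
    (hinv : ∀ σ ∈ M24, ∀ w ∈ W, (fun p => w (σ.symm p)) ∈ W) {m m' : ℕ}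
    (hm : decW m ∈ W) (h : SameOrbit (suppM m) (suppM m')) : decW m' ∈ W := by
  obtain ⟨g, hg⟩ := h
  have h1 := hinv g.1 g.2 _ hm
  have h2 : support₂ (fun p => decW m (g.1.symm p)) = support₂ (decW m') := by
    rw [← smul_support₂']
    exact hg
  rw [← eq_of_support₂_eq h2]
  exact h1

/-- The length-24 code built from the squares modulo 23 contains the all-ones word, and the code modulo the all-ones word is an irreducible module over the field with two elements for the code's automorphism group: a subspace of the code that contains the all-ones word and is invariant under every coordinate permutation preserving the code is either the span of the all-ones word or the whole code. -/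
theorem result : (fun _ : Cfsg.GolayPt => (1 : ZMod 2)) ∈ Cfsg.golayCode ∧ ∀ W : Submodule (ZMod 2) (Cfsg.GolayPt → ZMod 2), (fun _ => (1 : ZMod 2)) ∈ W → W ≤ Cfsg.golayCode → (∀ σ ∈ Cfsg.M24, ∀ w ∈ W, (fun p => w (σ.symm p)) ∈ W) → W = Submodule.span (ZMod 2) {fun _ => (1 : ZMod 2)} ∨ W = Cfsg.golayCode := by
  have hone : (fun _ : Cfsg.GolayPt => (1 : ZMod 2)) ∈ Cfsg.golayCode := genW_mem none
  refine ⟨hone, ?_⟩
  intro W h1W hWC hinv
  by_cases hsub : W ≤ Submodule.span (ZMod 2) {fun _ : Cfsg.GolayPt => (1 : ZMod 2)}
  · left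
    apply le_antisymm hsub
    rw [Submodule.span_le]
    intro x hx
    rw [Set.mem_singleton_iff] at hx
    rw [hx]; exact h1W
  · right
    apply le_antisymm hWC
    -- find a word of W outside the span of the all-ones word
    rw [SetLike.not_le_iff_exists] at hsub
    obtain ⟨w, hwW, hwn⟩ := hsub
    obtain ⟨m, hm, rfl⟩ := exists_mask_of_mem (hWC hwW)
    -- W contains an octad word
    have hoct : ∃ a ∈ codeList, popc a = 8 ∧ decW a ∈ W := by
      rcases popc_mem_codeList hm with h | h | h | h | h
      · exfalso
        apply hwn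
        rw [eq_zero_of_popc_eq_zero (codeList_lt hm) h, decW_zero]
        exact Submodule.zero_mem _
      · exact ⟨m, hm, h, hwW⟩
      · -- a dodecad: use transitivity and two dodecads meeting in eight points
        obtain ⟨hd1, hd1p, hx8, hd0, hd0p⟩ := dod1_facts
        have hsm : suppM m ∈ Cfsg.dodecads := (mem_dodecads_iff _).mpr ⟨m, hm, h, rfl⟩
        have hs0 : suppM dod0 ∈ Cfsg.dodecads := (mem_dodecads_iff _).mpr ⟨dod0, hd0, hd0p, rfl⟩
        have hs1 : suppM 57274 ∈ Cfsg.dodecads := (mem_dodecads_iff _).mpr ⟨57274, hd1, hd1p, rfl⟩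
        have hW0 : decW dod0 ∈ W := mem_of_sameOrbit W hinv hwW (transitive_dodecads hsm hs0)
        have hW1 : decW 57274 ∈ W := mem_of_sameOrbit W hinv hwW (transitive_dodecads hsm hs1)
        refine ⟨dod0 ^^^ 57274, xor_mem_codeList hd0 hd1, hx8, ?_⟩
        rw [decW_xor]
        exact W.add_mem hW0 hW1
      · -- weight 16: add the all-ones word
        refine ⟨m ^^^ onesM, xor_mem_codeList hm onesM_mem, ?_, ?_⟩
        · have := List.all_eq_true.mp popc_xor_ones m hm
          simp only [beq_iff_eq] at this
          omega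
        · rw [decW_xor, decW_onesM]
          exact W.add_mem hwW h1W
      · exfalso
        apply hwn
        have h0 : popc (m ^^^ onesM) = 0 := by
          have := List.all_eq_true.mp popc_xor_ones m hm
          simp only [beq_iff_eq] at this
          omega
        have h2 := eq_zero_of_popc_eq_zero (codeList_lt (xor_mem_codeList hm onesM_mem)) h0
        have h3 : m = onesM := Nat.xor_eq_zero_iff.mp h2
        rw [h3, decW_onesM]
        exact Submodule.subset_span rfl
    obtain ⟨a, ha, ha8, haW⟩ := hoct
    have hsa : suppM a ∈ Cfsg.octads := (mem_octads_iff _).mpr ⟨a, ha, ha8, rfl⟩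
    -- all basis words are in W
    refine le_trans golayCode_le_span_basis ?_
    rw [Submodule.span_le]
    rintro x ⟨b, hb, rfl⟩
    have hsb : suppM b ∈ Cfsg.octads :=
      (mem_octads_iff _).mpr ⟨b, basis12_mem_codeList b hb, basis12_popc b hb, rfl⟩
    exact mem_of_sameOrbit W hinv haW (transitive_octads hsa hsb)

end Cfsg.Agent.S5393
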