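import Mathlib
import Cfsg.Statements.S5396
import Cfsg.Agent.Helper3.ExtraModel
import Cfsg.Statements.S5396
-- import your own Cfsg.Agent.* helpers here

set_option autoImplicit false
open Cfsg

namespace Cfsg.Agent.S5396
open Cfsg
open Cfsg.Agent.Helper3.Extra

theorem sSup_eq {E : Type} [Group E] [Finite E] (r : ℕ) (hr : Cfsg.PRankLE 2 r E)
    (A : Subgroup E) (hA : Cfsg.IsElementaryAbelian 2 A) (hAc : Nat.card A = 2 ^ r) :
    sSup {k : ℕ | ∃ A : Subgroup E, Cfsg.IsElementaryAbelian 2 A ∧ Nat.card A = 2 ^ k} = r := by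
  apply IsGreatest.csSup_eq
  refine ⟨⟨A, hA, hAc⟩, ?_⟩
  rintro k ⟨B, hB, hBc⟩
  have := hr B hB.1 hB.2
  rw [hBc] at this
  exact (Nat.pow_le_pow_iff_right (by norm_num)).1 this

/-- For every n ≥ 1 there exist finite extraspecial 2-groups of order 2^(2n+1) whose 2-rank (the largest rank of an elementary abelian subgroup) is n, and ones whose 2-rank is n + 1 (so for each such order there are two non-isomorphic extraspecial 2-groups, told apart by their 2-rank). -/
theorem result (n : ℕ) (hn : 1 ≤ n) : ∀ r ∈ ({n, n + 1} : Set ℕ), ∃ (E : Type) (_ : Group E) (_ : Finite E), Cfsg.IsExtraspecial 2 E ∧ Nat.card E = 2 ^ (2 * n + 1) ∧ sSup {k : ℕ | ∃ A : Subgroup E, Cfsg.IsElementaryAbelian 2 A ∧ Nat.card A = 2 ^ k} = r := by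
  have : Fact (Nat.Prime 2) := ⟨Nat.prime_two⟩
  have hlt : 2 < 2 ^ (2 * n + 1) := by
    calc 2 = 2 ^ 1 := by norm_num
      _ < 2 ^ (2 * n + 1) := Nat.pow_lt_pow_right (by norm_num) (by omega)
  intro r hr
  rcases hr with rfl | rfl
  · obtain ⟨E, _, _, hC, hcard, hinv⟩ := exists_minus_model r hn
    refine ⟨E, inferInstance, inferInstance, hC.isExtraspecial (by rw [hcard]; exact hlt), hcard, ?_⟩
    obtain ⟨m, _, hm1, hrk, A, hA, hAc⟩ := hC.rank_minus ⟨r, hn, hcard, hinv⟩
    have hm : m = r := by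
      have := hm1.symm.trans hcard
      have := Nat.pow_right_injective (le_refl 2) this
      omega
    subst hm
    exact sSup_eq m hrk A hA hAc
  · obtain ⟨E, _, _, hC, hcard, hinv⟩ := exists_plus_model n
    refine ⟨E, inferInstance, inferInstance, hC.isExtraspecial (by rw [hcard]; exact hlt), hcard, ?_⟩
    obtain ⟨m, hm1, hrk, A, hA, hAc⟩ := hC.rank_plus ⟨n, hcard, hinv⟩
    have hm : m = n := by
      have := hm1.symm.trans hcard
      have := Nat.pow_right_injective (le_refl 2) this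
      omega
    subst hm
    exact sSup_eq (m + 1) hrk A hA hAc


end Cfsg.Agent.S5396
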