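import Cfsg.Statements.S5408
import Cfsg.Agent.Helper9.MonsterType.Frame

set_option autoImplicit false
open Cfsg

namespace Cfsg.Agent.S5408

/-- Let G be a finite group of Monster type at the involution z with Q the extraspecial normal subgroup of order 2^25 of C = C_G(z) (so C/Q is identified with the first Conway group with Q modulo its centre the Leech lattice modulo 2, and z is not weakly closed in Q). Then Q is of plus type: it contains an elementary abelian subgroup of order 2^13. -/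
theorem result {G : Type*} [Group G] [Finite G] (z : G) (Q : Subgroup (Subgroup.centralizer ({z} : Set G))) [Q.Normal] (hM : Cfsg.IsOfMonsterType z Q) : ∃ E : Subgroup Q, Cfsg.IsElementaryAbelian 2 E ∧ Nat.card E = 2 ^ 13 := by
  obtain ⟨hset, e, ψ, hψ⟩ := hM
  have m0 := Cfsg.Agent.Helper9.MonsterType.mt_of Q e ψ hset hψ
  obtain ⟨g, hsQ', hs1⟩ := m0.nwc
  have xs := Cfsg.Agent.Helper3.LargeX.XS.of_lx m0.lx g hsQ' hs1
  obtain ⟨v, hvn, hv⟩ := m0.conj_rep64 g hsQ' hs1
  obtain ⟨g0, hg0⟩ := Cfsg.Agent.Helper9.Leech.trans64 (Cfsg.Agent.Helper9.Leech.e8 none) v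
    (Cfsg.Agent.Helper9.Leech.sqNorm_e8 none) hvn
  have hv' : Cfsg.Agent.Helper9.MonsterType.Rep Q
      (Cfsg.Agent.Helper9.MonsterType.twistPsi Q ψ g0) (Cfsg.Agent.Helper9.Leech.e8 none)
      (g * z * g⁻¹) := by
    obtain ⟨hx, hxQ, h⟩ := hv
    refine ⟨hx, hxQ, ?_⟩
    show ψ (g0 • Cfsg.Agent.Helper9.Leech.e8 none) = _
    rw [hg0]; exact h
  obtain ⟨-, -, -, -, h5, -⟩ := Cfsg.Agent.Helper9.MonsterType.frame_core Q
    (Cfsg.Agent.Helper9.MonsterType.twistE Q e g0) (Cfsg.Agent.Helper9.MonsterType.twistPsi Q ψ g0)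
    hset (Cfsg.Agent.Helper9.MonsterType.twist_iso Q e ψ hψ g0) g hsQ' hs1 hv' _ _ rfl rfl
  have hea := xs.thm4' m0.sq
  have h5' : Nat.card ↥xs.E = 2 ^ 13 := h5
  have hle1 : xs.E ≤ Subgroup.centralizer ({z} : Set G) :=
    le_trans inf_le_left (Subgroup.map_subtype_le Q)
  have hle2 : xs.E.subgroupOf (Subgroup.centralizer ({z} : Set G)) ≤ Q := by
    intro h hh
    rw [Subgroup.mem_subgroupOf] at hh
    have h1 : (h : G) ∈ Q.map (Subgroup.centralizer ({z} : Set G)).subtype :=
      (Subgroup.mem_inf.mp hh).1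
    obtain ⟨_, h2⟩ := (Cfsg.Agent.Helper9.MonsterType.mem_map_iff Q _).mp h1
    exact h2
  refine ⟨(xs.E.subgroupOf (Subgroup.centralizer ({z} : Set G))).subgroupOf Q, ⟨?_, ?_⟩, ?_⟩
  · constructor
    constructor
    intro a b
    apply Subtype.ext
    apply Subtype.ext
    apply Subtype.ext
    have ha : (((a : Q) : Subgroup.centralizer ({z} : Set G)) : G) ∈ xs.E :=
      Subgroup.mem_subgroupOf.mp (Subgroup.mem_subgroupOf.mp a.2)
    have hb : (((b : Q) : Subgroup.centralizer ({z} : Set G)) : G) ∈ xs.E :=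
      Subgroup.mem_subgroupOf.mp (Subgroup.mem_subgroupOf.mp b.2)
    exact xs.E_comm ha hb
  · intro a ha
    have ha' : ((a : Subgroup.centralizer ({z} : Set G)) : G) ∈ xs.E :=
      Subgroup.mem_subgroupOf.mp (Subgroup.mem_subgroupOf.mp ha)
    have h1 := hea.2 _ ha'
    apply Subtype.ext
    apply Subtype.ext
    simpa using h1
  · rw [Cfsg.Agent.Helper9.MonsterType.card_subgroupOf_of_le hle2,
      Cfsg.Agent.Helper9.MonsterType.card_subgroupOf_of_le hle1, h5']

end Cfsg.Agent.S5408
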