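import Cfsg.Statements.S5409
import Cfsg.Agent.Helper9.MonsterType.Frame

set_option autoImplicit false
open Cfsg

namespace Cfsg.Agent.S5409

/-- Let G be a finite group of Monster type at the involution z with Q the extraspecial normal subgroup of order 2^25 of C = C_G(z) (so C/Q is identified with the first Conway group with Q modulo its centre the Leech lattice modulo 2, and z is not weakly closed in Q). Then for a conjugate s = g z g⁻¹ of z lying in Q and different from z, the intersection of Q with its conjugate g Q g⁻¹ (both regarded as subgroups of G) has order 2^13. -/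
theorem result {G : Type*} [Group G] [Finite G] (z : G) (Q : Subgroup (Subgroup.centralizer ({z} : Set G))) [Q.Normal] (hM : Cfsg.IsOfMonsterType z Q) (s : G) (hsQ : ∃ hsc : s ∈ Subgroup.centralizer ({z} : Set G), (⟨s, hsc⟩ : Subgroup.centralizer ({z} : Set G)) ∈ Q) (hs : IsConj z s) (hs1 : s ≠ z) (g : G) (hg : g * z * g⁻¹ = s) : Nat.card ↥((Q.map (Subgroup.centralizer ({z} : Set G)).subtype) ⊓ (Q.map (Subgroup.centralizer ({z} : Set G)).subtype).map (MulAut.conj g).toMonoidHom) = 2 ^ 13 := by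
  obtain ⟨hset, e, ψ, hψ⟩ := hM
  subst hg
  have m0 := Cfsg.Agent.Helper9.MonsterType.mt_of Q e ψ hset hψ
  have hsQ' := (Cfsg.Agent.Helper9.MonsterType.mem_map_iff Q _).mpr hsQ
  obtain ⟨v, hvn, hv⟩ := m0.conj_rep64 g hsQ' hs1
  obtain ⟨g0, hg0⟩ := Cfsg.Agent.Helper9.Leech.trans64 (Cfsg.Agent.Helper9.Leech.e8 none) v
    (Cfsg.Agent.Helper9.Leech.sqNorm_e8 none) hvn
  have hv' : Cfsg.Agent.Helper9.MonsterType.Rep Q
      (Cfsg.Agent.Helper9.MonsterType.twistPsi Q ψ g0) (Cfsg.Agent.Helper9.Leech.e8 none)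
      (g * z * g⁻¹) := by
    obtain ⟨hx, hxQ, h⟩ := hv
    refine ⟨hx, hxQ, ?_⟩
    show ψ (g0 • Cfsg.Agent.Helper9.Leech.e8 none) = _
    rw [hg0]; exact h
  obtain ⟨-, -, -, -, h5, -⟩ := Cfsg.Agent.Helper9.MonsterType.frame_core Q
    (Cfsg.Agent.Helper9.MonsterType.twistE Q e g0) (Cfsg.Agent.Helper9.MonsterType.twistPsi Q ψ g0)
    hset (Cfsg.Agent.Helper9.MonsterType.twist_iso Q e ψ hψ g0) g hsQ' hs1 hv' _ _ rfl rfl
  exact h5

end Cfsg.Agent.S5409
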