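import Mathlib
import Cfsg.Statements.S5422
import Cfsg.Agent.Helper3.LargeXK
import Cfsg.Agent.Helper3.LargeXL
-- import your own Cfsg.Agent.* helpers here

set_option autoImplicit false
open Cfsg

namespace Cfsg.Agent.S5422

open Cfsg.Agent.Helper3.LargeX

/-- The four-group generated by two commuting involutions. -/
def fourSub {G : Type*} [Group G] (z x : G) (hz2 : z * z = 1) (hx2 : x * x = 1)
    (hzx : z * x = x * z) : Subgroup G where
  carrier := {v | v = 1 ∨ v = z ∨ v = x ∨ v = z * x}
  one_mem' := Or.inl rfl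
  mul_mem' := by
    have e1 : z * (z * x) = x := by rw [← mul_assoc, hz2, one_mul]
    have e2 : x * z = z * x := hzx.symm
    have e3 : x * (z * x) = z := by rw [← mul_assoc, e2, mul_assoc, hx2, mul_one]
    have e4 : z * x * z = x := by rw [hzx, mul_assoc, hz2, mul_one]
    have e5 : z * x * x = z := by rw [mul_assoc, hx2, mul_one]
    have e6 : z * x * (z * x) = 1 := by rw [← mul_assoc, e4, hx2]
    intro a b ha hb
    rcases ha with rfl | rfl | rfl | rfl
    · rw [one_mul]; exact hb
    · rcases hb with rfl | rfl | rfl | rfl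
      · rw [mul_one]; exact Or.inr (Or.inl rfl)
      · rw [hz2]; exact Or.inl rfl
      · exact Or.inr (Or.inr (Or.inr rfl))
      · rw [e1]; exact Or.inr (Or.inr (Or.inl rfl))
    · rcases hb with rfl | rfl | rfl | rfl
      · rw [mul_one]; exact Or.inr (Or.inr (Or.inl rfl))
      · rw [e2]; exact Or.inr (Or.inr (Or.inr rfl))
      · rw [hx2]; exact Or.inl rfl
      · rw [e3]; exact Or.inr (Or.inl rfl)
    · rcases hb with rfl | rfl | rfl | rfl
      · rw [mul_one]; exact Or.inr (Or.inr (Or.inr rfl))
      · rw [e4]; exact Or.inr (Or.inr (Or.inl rfl))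
      · rw [e5]; exact Or.inr (Or.inl rfl)
      · rw [e6]; exact Or.inl rfl
  inv_mem' := by
    have e4 : z * x * z = x := by rw [hzx, mul_assoc, hz2, mul_one]
    have e6 : z * x * (z * x) = 1 := by rw [← mul_assoc, e4, hx2]
    intro a ha
    rcases ha with rfl | rfl | rfl | rfl
    · rw [inv_one]; exact Or.inl rfl
    · rw [inv_eq_of_mul_eq_one_left hz2]; exact Or.inr (Or.inl rfl)
    · rw [inv_eq_of_mul_eq_one_left hx2]; exact Or.inr (Or.inr (Or.inl rfl))
    · rw [inv_eq_of_mul_eq_one_left e6]; exact Or.inr (Or.inr (Or.inr rfl))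

/-- Let Q be an extraspecial 2-subgroup of the finite group G whose centralizer in G is its centre Z and which is normal in the centralizer of Z; suppose Q has width at least 2 (order 2^(2w+1) with w ≥ 2) and g is an element of G not normalizing Z with g Z g⁻¹ inside Q. Then Z lies inside g Q g⁻¹; writing V for the subgroup generated by Z and g Z g⁻¹ (a four-group), the normalizer of V induces on V its full automorphism group, that is, the centralizer of V has index 6 in the normalizer of V; and Q is a large extraspecial 2-subgroup of G. -/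
theorem result {G : Type*} [Group G] [Finite G] (Q : Subgroup G) (hL1 : Cfsg.IsExtraspecial 2 ↥Q) (hL2 : Subgroup.centralizer (Q : Set G) = ((Subgroup.center ↥Q).map Q.subtype)) (hL3 : Subgroup.centralizer (((Subgroup.center ↥Q).map Q.subtype) : Set G) ≤ Subgroup.normalizer (Q : Set G)) (w : ℕ) (hw : 2 ≤ w) (hcard : Nat.card ↥Q = 2 ^ (2 * w + 1)) (g : G) (hg : g ∉ Subgroup.normalizer (((Subgroup.center ↥Q).map Q.subtype) : Set G)) (hZg : (((Subgroup.center ↥Q).map Q.subtype)).map (MulAut.conj g).toMonoidHom ≤ Q) : ((Subgroup.center ↥Q).map Q.subtype) ≤ (Q).map (MulAut.conj g).toMonoidHom ∧ (Subgroup.centralizer ((((Subgroup.center ↥Q).map Q.subtype) ⊔ (((Subgroup.center ↥Q).map Q.subtype)).map (MulAut.conj g).toMonoidHom : Subgroup G) : Set G)).relIndex (Subgroup.normalizer ((((Subgroup.center ↥Q).map Q.subtype) ⊔ (((Subgroup.center ↥Q).map Q.subtype)).map (MulAut.conj g).toMonoidHom : Subgroup G) : Set G)) = 6 ∧ Cfsg.IsLargeExtraspecial Q := by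
  have hsC : Subgroup.centralizer (Q : Set G) ≤ Q := by
    rw [hL2]; exact Subgroup.map_subtype_le _
  obtain ⟨z, hLX, hZ⟩ := lx_of_extraspecial Q hL1 hsC hL3
  set Z := (Subgroup.center ↥Q).map Q.subtype with hZdef
  have hzZ : z ∈ Z := (hZ z).mpr (Or.inr rfl)
  have hx : g * z * g⁻¹ ∈ Q := hZg (conj_mem_conj Z g z hzZ)
  have hxz : g * z * g⁻¹ ≠ z := by
    intro h1
    apply hg
    rw [Subgroup.mem_normalizer_iff]
    intro y
    rw [hZ, hZ]
    constructor
    · rintro (rfl | rfl)
      · left; group
      · right; exact h1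
    · rintro (h2 | h2)
      · left
        have : y = g⁻¹ * (g * y * g⁻¹) * g := by group
        rw [this, h2]; group
      · right
        have e : g⁻¹ * z * g = z := by
          conv_lhs => rw [← h1]
          group
        have : y = g⁻¹ * (g * y * g⁻¹) * g := by group
        rw [this, h2, e]
  have hP := hLX.conj g
  have hzP := hLX.main g hx
  refine ⟨?_, ?_, hL1, hL2, hL3, fun K hK hQK => hLX.odd_trivial g hx hxz K hK hQK⟩
  · intro y hy
    rcases (hZ y).mp hy with rfl | rfl
    · exact Subgroup.one_mem _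
    · exact hzP
  · set x := g * z * g⁻¹ with hxdef
    have hzx : z * x = x * z := (hLX.z_comm x hx).symm
    have hVeq : Z ⊔ Z.map (MulAut.conj g).toMonoidHom = fourSub z x hLX.z_sq hP.z_sq hzx := by
      apply le_antisymm
      · apply sup_le
        · intro y hy
          rcases (hZ y).mp hy with rfl | rfl
          · exact Or.inl rfl
          · exact Or.inr (Or.inl rfl)
        · intro y hy
          rw [mem_conj_iff, hZ] at hy
          rcases hy with h2 | h2
          · left
            have : y = g * (g⁻¹ * y * g) * g⁻¹ := by group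
            rw [this, h2]; group
          · right; right; left
            have : y = g * (g⁻¹ * y * g) * g⁻¹ := by group
            rw [this, h2]
      · intro y hy
        have h1 : z ∈ Z ⊔ Z.map (MulAut.conj g).toMonoidHom := Subgroup.mem_sup_left hzZ
        have h2 : x ∈ Z ⊔ Z.map (MulAut.conj g).toMonoidHom :=
          Subgroup.mem_sup_right (conj_mem_conj Z g z hzZ)
        rcases hy with rfl | rfl | rfl | rfl
        · exact Subgroup.one_mem _
        · exact h1
        · exact h2
        · exact Subgroup.mul_mem _ h1 h2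
    rw [hVeq]
    obtain ⟨q0, hq0, hq0x⟩ := hLX.exists_noncomm hx hP.z_ne hxz
    obtain ⟨p0, hp0, hp0z⟩ := hP.exists_noncomm hzP hLX.z_ne (Ne.symm hxz)
    apply relIndex_four (fourSub z x hLX.z_sq hP.z_sq hzx) z x q0 p0 (fun v => Iff.rfl)
      hLX.z_ne hP.z_ne hxz hLX.z_sq hP.z_sq hzx (hLX.conj_z hq0) hq0x (hP.conj_z hp0)
    rw [hp0z, hzx]


end Cfsg.Agent.S5422
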