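import Mathlib
import Cfsg.Statements.S5427
import Cfsg.Agent.Lead.LargeSimple

set_option autoImplicit false
open Cfsg

namespace Cfsg.Agent.S5427

open Cfsg.Agent.Helper3.LargeX Cfsg.Agent.Lead.LargeQuot

/-- Let z be an involution of the finite group G whose centralizer C has generalized Fitting subgroup Q, an extraspecial 2-group of width at least 2 (order 2^(2w+1), w ≥ 2). Let K be a subgroup of G such that the subgroup U generated by the K-conjugates of z is abelian and C is generated by the C-conjugates of U. Suppose that either some K-conjugate of z other than z lies in Q, or some element u of U ∩ Q outside the subgroup generated by z has z in the largest normal 2-subgroup of its centralizer. Then G is simple and Q is a large extraspecial 2-subgroup of G. -/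
theorem result {G : Type*} [Group G] [Finite G] (z : G) (hz : orderOf z = 2) (Q : Subgroup G) (hQC : Q ≤ Subgroup.centralizer ({z} : Set G)) (hF : (Cfsg.generalizedFittingSubgroup ↥(Subgroup.centralizer ({z} : Set G))).map (Subgroup.centralizer ({z} : Set G)).subtype = Q) (hQ : Cfsg.IsExtraspecial 2 ↥Q) (w : ℕ) (hw : 2 ≤ w) (hcard : Nat.card ↥Q = 2 ^ (2 * w + 1)) (K U : Subgroup G) (hU : U = Subgroup.closure {x : G | ∃ k ∈ K, x = k * z * k⁻¹}) (hUab : IsMulCommutative ↥U) (hgen : Subgroup.closure {x : G | ∃ c ∈ Subgroup.centralizer ({z} : Set G), ∃ u ∈ U, x = c * u * c⁻¹} = Subgroup.centralizer ({z} : Set G)) (h3 : (∃ k ∈ K, k * z * k⁻¹ ∈ Q ∧ k * z * k⁻¹ ≠ z) ∨ ∃ u ∈ U ⊓ Q, u ∉ Subgroup.zpowers z ∧ (∃ hz' : z ∈ Subgroup.centralizer ({u} : Set G), (⟨z, hz'⟩ : ↥(Subgroup.centralizer ({u} : Set G))) ∈ Cfsg.pCore 2 ↥(Subgroup.centralizer ({u} : Set G)))) : IsSimpleGroup G ∧ Cfsg.IsLargeExtraspecial Q := by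
  subst hU
  have : Fact (Nat.Prime 2) := ⟨Nat.prime_two⟩
  obtain ⟨hz1, hz2⟩ := sq_of_orderOf_two hz
  have hzc : ∀ q ∈ Q, q * z = z * q := fun q hq =>
    Subgroup.mem_centralizer_singleton_iff.mp (hQC hq)
  have hzQ : z ∈ Q := fstar_selfC z Q hF z rfl (fun q hq => (hzc q hq).symm)
  have hsC : Subgroup.centralizer (Q : Set G) ≤ Q := by
    intro c hc
    rw [Subgroup.mem_centralizer_iff] at hc
    exact fstar_selfC z Q hF c (hc z hzQ).symm (fun q hq => (hc q hq).symm)
  obtain ⟨hLX, hZ, hsq⟩ := lx_of_fstar z hz Q hQC hF hQ hzQ hsC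
  have hUsq : ∀ x ∈ Subgroup.closure {x : G | ∃ k ∈ K, x = k * z * k⁻¹}, x * x = 1 := by
    intro x hx
    induction hx using Subgroup.closure_induction with
    | mem y hy =>
      obtain ⟨k, _, rfl⟩ := hy
      calc k * z * k⁻¹ * (k * z * k⁻¹) = k * (z * z) * k⁻¹ := by group
        _ = 1 := by rw [hz2]; group
    | one => exact one_mul 1
    | mul a b ha hb iha ihb =>
      have hab : a * b = b * a :=
        congrArg Subtype.val (hUab.is_comm.comm (⟨a, ha⟩ :
          ↥(Subgroup.closure {x : G | ∃ k ∈ K, x = k * z * k⁻¹})) ⟨b, hb⟩)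
      calc a * b * (a * b) = a * (b * a) * b := by group
        _ = a * (a * b) * b := by rw [hab]
        _ = (a * a) * (b * b) := by group
        _ = 1 := by rw [iha, ihb, one_mul]
    | inv a ha iha =>
      calc a⁻¹ * a⁻¹ = (a * a)⁻¹ := by group
        _ = 1 := by rw [iha, inv_one]
  have hodd : ∀ X : Subgroup G, Odd (Nat.card X) → Q ≤ Subgroup.normalizer (X : Set G) →
      X = ⊥ := by
    intro X hX hQX
    rcases h3 with ⟨k, _, hkQ, hkz⟩ | ⟨u, huUQ, huz, hz', hzO⟩
    · exact hLX.odd_trivial k hkQ hkz X hX hQX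
    · have hu2 : u * u = 1 := hUsq u huUQ.1
      have hu1 : u ≠ 1 := fun e => huz (e ▸ one_mem _)
      have huz' : u ≠ z := fun e => huz (e ▸ Subgroup.mem_zpowers z)
      refine odd_trivial_of hLX u huUQ.2 hu2 hu1 huz'
        ((Cfsg.pCore 2 ↥(Subgroup.centralizer ({u} : Set G))).map
          (Subgroup.centralizer ({u} : Set G)).subtype)
        (Cfsg.Agent.Helper9.pCore_isPGroup.map _) ⟨⟨z, hz'⟩, hzO, rfl⟩ ?_ X hX hQX
      intro c hc q hq
      obtain ⟨q', hq', rfl⟩ := hq
      have hcC : c ∈ Subgroup.centralizer ({u} : Set G) :=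
        Subgroup.mem_centralizer_singleton_iff.mpr hc
      have hn : (Cfsg.pCore 2 ↥(Subgroup.centralizer ({u} : Set G))).Normal :=
        Cfsg.Agent.Helper9.pCore_normal
      have := hn.conj_mem q' hq' ⟨c, hcC⟩
      exact ⟨_, this, by simp⟩
  refine ⟨?_, hQ, ?_, ?_, hodd⟩
  · -- simplicity
    refine { exists_pair_ne := ⟨z, 1, hz1⟩, eq_bot_or_eq_top_of_normal := ?_ }
    intro N hN
    by_cases hN1 : N = ⊥
    · exact Or.inl hN1
    · right
      have hzN : z ∈ N := z_mem_of_normal hLX hodd N hN hN1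
      apply eq_top_of_centralizer_le hLX N hN
      rw [← hgen, Subgroup.closure_le]
      rintro x ⟨c, _, u, hu, rfl⟩
      apply hN.conj_mem
      have hUN : Subgroup.closure {x : G | ∃ k ∈ K, x = k * z * k⁻¹} ≤ N := by
        rw [Subgroup.closure_le]
        rintro y ⟨k, _, rfl⟩
        exact hN.conj_mem z hzN k
      exact hUN hu
  · -- the centralizer of Q is its centre
    ext c
    rw [hZ, Subgroup.mem_centralizer_iff]
    constructor
    · intro h
      have hcQ : c ∈ Q := hsC (Subgroup.mem_centralizer_iff.mpr h)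
      exact hLX.cent c hcQ (fun b hb => (h b hb).symm)
    · rintro (h | h)
      · intro y _; rw [h]; simp
      · intro y hy; rw [h]; exact hzc y hy
  · -- the centralizer of the centre normalizes Q
    intro c hc
    rw [Subgroup.mem_centralizer_iff] at hc
    have hcz : c * z = z * c := (hc z ((hZ z).mpr (Or.inr rfl))).symm
    have hcz' : c⁻¹ * z = z * c⁻¹ := by
      calc c⁻¹ * z = c⁻¹ * (z * c) * c⁻¹ := by group
        _ = c⁻¹ * (c * z) * c⁻¹ := by rw [hcz]
        _ = z * c⁻¹ := by group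
    rw [Subgroup.mem_normalizer_iff]
    intro y
    constructor
    · intro hy; exact hLX.norm c hcz y hy
    · intro hy
      have := hLX.norm c⁻¹ hcz' _ hy
      have e : c⁻¹ * (c * y * c⁻¹) * c⁻¹⁻¹ = y := by group
      rwa [e] at this

end Cfsg.Agent.S5427
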