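import Mathlib
import Cfsg.Statements.S5428
import Cfsg.Agent.Lead.LargeCoprime

set_option autoImplicit false
open Cfsg

namespace Cfsg.Agent.S5428

open Cfsg.Agent.Helper3.LargeX Cfsg.Agent.Lead.LargeQuot

/-- Let z be an involution of the finite group G whose centralizer C has generalized Fitting subgroup Q extraspecial (as a 2-group), let A be a subgroup of C of odd order, and let R be the centralizer of A in Q; suppose R has order at least 32, the largest normal subgroup of odd order of the centralizer of the subgroup generated by A and R lies in A, the order of that centralizer is not divisible by 4, and g is an element of G with g z g⁻¹ in R but outside the centre Z of Q. Let M be the subgroup generated by A and the centralizer of A (A is normal in it). Then: the centralizer in M of the subgroup generated by R and A, joined with A, equals the subgroup generated by A and Z; the image of R in M/A is a large extraspecial 2-subgroup of M/A; and g z g⁻¹ is conjugate to z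 inside the subgroup generated by R and the centralizer of A in g Q g⁻¹. -/
theorem result {G : Type*} [Group G] [Finite G] (z : G) (hz : orderOf z = 2) (Q : Subgroup G) (hQC : Q ≤ Subgroup.centralizer ({z} : Set G)) (hF : (Cfsg.generalizedFittingSubgroup ↥(Subgroup.centralizer ({z} : Set G))).map (Subgroup.centralizer ({z} : Set G)).subtype = Q) (hQ : Cfsg.IsExtraspecial 2 ↥Q) (A : Subgroup G) (hA : A ≤ Subgroup.centralizer ({z} : Set G)) (hAodd : Odd (Nat.card ↥A)) (R : Subgroup G) (hR : R = Q ⊓ Subgroup.centralizer (A : Set G)) (hR32 : 32 ≤ Nat.card ↥R) (hO : (Cfsg.oddCore ↥(Subgroup.centralizer ((A ⊔ R : Subgroup G) : Set G))).map (Subgroup.centralizer ((A ⊔ R : Subgroup G) : Set G)).subtype ≤ A) (h4 : ¬ 4 ∣ Nat.card ↥(Subgroup.centralizer ((A ⊔ R : Subgroup G) : Set G))) (g : G) (hgR : g * z * g⁻¹ ∈ R) (hgZ : g * z * g⁻¹ ∉ ((Subgroup.center ↥Q).map Q.subtype)) (M : Subgroup G) (hM : M = Subgroup.centralizer (A : Set G) ⊔ A) [hn : (A.subgroupOf M).Normal] : (M ⊓ Subgroup.centralizer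 ((R ⊔ A : Subgroup G) : Set G)) ⊔ A = A ⊔ ((Subgroup.center ↥Q).map Q.subtype) ∧ Cfsg.IsLargeExtraspecial ((R.subgroupOf M).map (QuotientGroup.mk' (A.subgroupOf M))) ∧ ∃ x ∈ R ⊔ ((Q).map (MulAut.conj g).toMonoidHom ⊓ Subgroup.centralizer (A : Set G)), x * (g * z * g⁻¹) * x⁻¹ = z := by
  subst hR hM
  obtain ⟨hz1, hz2⟩ := sq_of_orderOf_two hz
  have hAz : ∀ a ∈ A, a * z = z * a := fun a ha =>
    Subgroup.mem_centralizer_singleton_iff.mp (hA ha)
  have hzc : ∀ q ∈ Q, q * z = z * q := fun q hq =>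
    Subgroup.mem_centralizer_singleton_iff.mp (hQC hq)
  have hzQ : z ∈ Q := fstar_selfC z Q hF z rfl (fun q hq => (hzc q hq).symm)
  have hsC : Subgroup.centralizer (Q : Set G) ≤ Q := by
    intro c hc
    rw [Subgroup.mem_centralizer_iff] at hc
    exact fstar_selfC z Q hF c (hc z hzQ).symm (fun q hq => (hc q hq).symm)
  obtain ⟨hLX, hZ, hsq⟩ := lx_of_fstar z hz Q hQC hF hQ hzQ hsC
  obtain ⟨u, hu⟩ : ∃ u, u = g * z * g⁻¹ := ⟨_, rfl⟩
  have hLXg : LX (Q.map (MulAut.conj g).toMonoidHom) u := by rw [hu]; exact hLX.conj g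
  have hzQg : z ∈ Q.map (MulAut.conj g).toMonoidHom := hLX.main g hgR.1
  rw [← hu] at hgR hgZ ⊢
  have huQ : u ∈ Q := hgR.1
  have huA : ∀ a ∈ A, a * u = u * a := fun a ha => Subgroup.mem_centralizer_iff.mp hgR.2 a ha
  have hu1 : u ≠ 1 := fun h => hgZ ((hZ u).mpr (Or.inl h))
  have huz : u ≠ z := fun h => hgZ ((hZ u).mpr (Or.inr h))
  have hzR : z ∈ Q ⊓ Subgroup.centralizer (A : Set G) :=
    ⟨hzQ, Subgroup.mem_centralizer_iff.mpr (fun a ha => hAz a ha)⟩
  have hq0 : ∃ q0 ∈ Q ⊓ Subgroup.centralizer (A : Set G), q0 * u * q0⁻¹ = z * u := by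
    by_contra hcon
    push Not at hcon
    rcases cent_fixed hLX A hAz hAodd huQ huA (by
      intro r hr hrA
      rcases hLX.comm_or hr huQ with h1 | h1
      · exact h1.symm
      · exact absurd h1 (hcon r ⟨hr, Subgroup.mem_centralizer_iff.mpr hrA⟩)) with h | h
    · exact hu1 h
    · exact huz h
  have hp0 : ∃ p0 ∈ Q.map (MulAut.conj g).toMonoidHom ⊓ Subgroup.centralizer (A : Set G),
      p0 * z * p0⁻¹ = u * z := by
    by_contra hcon
    push Not at hcon
    rcases cent_fixed hLXg A huA hAodd hzQg hAz (by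
      intro r hr hrA
      rcases hLXg.comm_or hr hzQg with h1 | h1
      · exact h1.symm
      · exact absurd h1 (hcon r ⟨hr, Subgroup.mem_centralizer_iff.mpr hrA⟩)) with h | h
    · exact hz1 h
    · exact huz h.symm
  obtain ⟨q0, hq0P, hq0u⟩ := hq0
  obtain ⟨p0, hp0P, hp0z⟩ := hp0
  have hp0u : p0 * u * p0⁻¹ = u := hLXg.conj_z hp0P.1
  have huu : u * u = 1 := hLXg.z_sq
  have hzu : z * u = u * z := (hzc u huQ).symm
  have hx : (p0 * q0) * u * (p0 * q0)⁻¹ = z := by
    have e : (p0 * q0) * u * (p0 * q0)⁻¹ = p0 * (q0 * u * q0⁻¹) * p0⁻¹ := by group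
    rw [e, hq0u]
    have e2 : p0 * (z * u) * p0⁻¹ = (p0 * z * p0⁻¹) * (p0 * u * p0⁻¹) := by group
    rw [e2, hp0z, hp0u]
    calc u * z * u = u * (z * u) := by group
      _ = u * (u * z) := by rw [hzu]
      _ = (u * u) * z := by group
      _ = z := by rw [huu, one_mul]
  -- the centralizer of `A ⊔ R`
  have hD : ∀ d : G, (∀ a ∈ A, a * d = d * a) →
      (∀ r ∈ Q ⊓ Subgroup.centralizer (A : Set G), r * d = d * r) → d ∈ A ∨ z⁻¹ * d ∈ A := by
    intro d hdA hdR
    have hmemD : ∀ e : G, e ∈ Subgroup.centralizer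
        ((A ⊔ (Q ⊓ Subgroup.centralizer (A : Set G)) : Subgroup G) : Set G) ↔
        (∀ a ∈ A, a * e = e * a) ∧
          (∀ r ∈ Q ⊓ Subgroup.centralizer (A : Set G), r * e = e * r) := by
      intro e
      rw [Subgroup.mem_centralizer_iff]
      constructor
      · intro h
        exact ⟨fun a ha => h a (Subgroup.mem_sup_left ha),
          fun r hr => h r (Subgroup.mem_sup_right hr)⟩
      · rintro ⟨h1, h2⟩ y hy
        have hle : A ⊔ (Q ⊓ Subgroup.centralizer (A : Set G)) ≤
            Subgroup.centralizer ({e} : Set G) :=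
          sup_le (fun a ha => Subgroup.mem_centralizer_singleton_iff.mpr (h1 a ha))
            (fun r hr => Subgroup.mem_centralizer_singleton_iff.mpr (h2 r hr))
        exact Subgroup.mem_centralizer_singleton_iff.mp (hle hy)
    have hdD := (hmemD d).mpr ⟨hdA, hdR⟩
    have hzD := (hmemD z).mpr ⟨hAz, fun r hr => hzc r hr.1⟩
    obtain ⟨K, hKn, hKodd, hK⟩ := two_odd_split
      (⟨z, hzD⟩ : ↥(Subgroup.centralizer
        ((A ⊔ (Q ⊓ Subgroup.centralizer (A : Set G)) : Subgroup G) : Set G)))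
      (by
        intro e
        apply Subtype.ext
        exact (((hmemD e).mp e.2).2 z hzR).symm)
      (by intro h; exact hz1 (congrArg Subtype.val h)) (Subtype.ext hz2) h4
    have hKle : K ≤ Cfsg.oddCore ↥(Subgroup.centralizer
        ((A ⊔ (Q ⊓ Subgroup.centralizer (A : Set G)) : Subgroup G) : Set G)) :=
      le_sSup ⟨hKn, Nat.coprime_two_right.mpr hKodd⟩
    have hKA : ∀ e : ↥(Subgroup.centralizer
        ((A ⊔ (Q ⊓ Subgroup.centralizer (A : Set G)) : Subgroup G) : Set G)),
        e ∈ K → (e : G) ∈ A := fun e he => hO ⟨e, hKle he, rfl⟩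
    rcases hK ⟨d, hdD⟩ with h | h
    · left; exact hKA _ h
    · right
      have := hKA _ h
      simpa using this
  -- decomposition of the elements of `M`
  have hdec : ∀ c ∈ Subgroup.centralizer (A : Set G) ⊔ A,
      ∃ a ∈ A, ∃ c0 ∈ Subgroup.centralizer (A : Set G), c = a * c0 := by
    intro c hc
    rw [sup_comm] at hc
    exact Cfsg.Agent.Helper1.mem_sup_of_le_normalizer
      (Subgroup.centralizer_le_normalizer (A : Set G)) hc
  have hconjA : ∀ a ∈ A, ∀ w ∈ Subgroup.centralizer (A : Set G), a * w * a⁻¹ = w := by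
    intro a ha w hw
    rw [Subgroup.mem_centralizer_iff.mp hw a ha, mul_inv_cancel_right]
  have hconj : (p0 * q0)⁻¹ * z * (p0 * q0)⁻¹⁻¹ = u := by
    rw [← hx]
    group
  have hzinv : z⁻¹ = z := hLX.z_inv
  refine ⟨?_, ?_, p0 * q0, Subgroup.mul_mem _ (Subgroup.mem_sup_right hp0P)
    (Subgroup.mem_sup_left hq0P), hx⟩
  · apply le_antisymm
    · refine sup_le ?_ le_sup_left
      intro d hd
      have hd2 := (Subgroup.mem_inf.mp hd).2
      rw [Subgroup.mem_centralizer_iff] at hd2
      rcases hD d (fun a ha => hd2 a (Subgroup.mem_sup_right ha))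
        (fun r hr => hd2 r (Subgroup.mem_sup_left hr)) with h | h
      · exact Subgroup.mem_sup_left h
      · have e : d = z * (z⁻¹ * d) := by group
        rw [e]
        exact Subgroup.mul_mem _ (Subgroup.mem_sup_right ((hZ z).mpr (Or.inr rfl)))
          (Subgroup.mem_sup_left h)
    · refine sup_le le_sup_right ?_
      intro y hy
      rcases (hZ y).mp hy with h | h
      · rw [h]; exact one_mem _
      · rw [h]
        apply Subgroup.mem_sup_left
        apply Subgroup.mem_inf.mpr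
        refine ⟨Subgroup.mem_sup_left hzR.2, ?_⟩
        rw [Subgroup.mem_centralizer_iff]
        intro b hb
        have hle : (Q ⊓ Subgroup.centralizer (A : Set G)) ⊔ A ≤
            Subgroup.centralizer ({z} : Set G) := sup_le (fun r hr => hQC hr.1) hA
        exact Subgroup.mem_centralizer_singleton_iff.mp (hle hb)
  · have hxM : (p0 * q0)⁻¹ ∈ Subgroup.centralizer (A : Set G) ⊔ A :=
      Subgroup.mem_sup_left (Subgroup.inv_mem _ (Subgroup.mul_mem _ hp0P.2 hq0P.2))
    apply large_quot (Subgroup.centralizer (A : Set G) ⊔ A) A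
      (Q ⊓ Subgroup.centralizer (A : Set G)) (inf_le_right.trans le_sup_left) z hzR
      (not_mem_odd_of_sq hAodd hz2 hz1) hz2
      (fun x hx y hy => hLX.comm x hx.1 y hy.1) (fun x hx => hsq x hx.1)
      (fun y hy => hLX.z_comm y hy.1) ?_ ?_ (p0 * q0)⁻¹ hxM ?_ ?_
    · -- self-centralizing
      intro c hcM h
      obtain ⟨a, ha, c0, hc0, rfl⟩ := hdec c hcM
      have hc0A : ∀ a' ∈ A, a' * c0 = c0 * a' := Subgroup.mem_centralizer_iff.mp hc0
      have hc0R : ∀ r ∈ Q ⊓ Subgroup.centralizer (A : Set G), r * c0 = c0 * r := by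
        intro y hy
        have hw : c0 * y * c0⁻¹ ∈ Subgroup.centralizer (A : Set G) :=
          Subgroup.mul_mem _ (Subgroup.mul_mem _ hc0 hy.2) (Subgroup.inv_mem _ hc0)
        have e : a * c0 * y * (a * c0)⁻¹ * y⁻¹ = (a * (c0 * y * c0⁻¹) * a⁻¹) * y⁻¹ := by group
        have hb := h y hy
        rw [e, hconjA a ha _ hw] at hb
        -- b = c0 y c0⁻¹ y⁻¹ ∈ A
        have hby : Commute (c0 * y * c0⁻¹ * y⁻¹) y :=
          Subgroup.mem_centralizer_iff.mp hy.2 _ hb
        have hy4 : y ^ 4 = 1 := by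
          have e4 : y ^ 4 = (y * y) * (y * y) := by
            rw [show (4 : ℕ) = 2 + 2 from rfl, pow_add, pow_two]
          rw [e4]
          rcases hsq y hy.1 with h2 | h2
          · rw [h2, one_mul]
          · rw [h2, hz2]
        have hb4 : (c0 * y * c0⁻¹ * y⁻¹) ^ 2 ^ 2 = 1 := by
          have e1 : (c0 * y * c0⁻¹ * y⁻¹ * y) ^ 4 = (c0 * y * c0⁻¹ * y⁻¹) ^ 4 * y ^ 4 :=
            hby.mul_pow 4
          have e2 : c0 * y * c0⁻¹ * y⁻¹ * y = c0 * y * c0⁻¹ := by group
          rw [e2, conj_pow, hy4, mul_one, mul_inv_cancel, mul_one] at e1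
          have e5 : (2 : ℕ) ^ 2 = 4 := by norm_num
          rw [e5]
          exact e1.symm
        have hb1 := eq_one_of_odd_of_pow hAodd hb 2 hb4
        have e3 : y * c0 = (c0 * y * c0⁻¹ * y⁻¹)⁻¹ * c0 * y := by group
        rw [e3, hb1, inv_one, one_mul]
      rcases hD c0 hc0A hc0R with h1 | h1
      · left; exact A.mul_mem ha h1
      · right
        have hza : z⁻¹ * a = a * z⁻¹ := by
          rw [hzinv]; exact (hAz a ha).symm
        have e : z⁻¹ * (a * c0) = a * (z⁻¹ * c0) := by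
          rw [← mul_assoc, hza, mul_assoc]
        rw [e]
        exact A.mul_mem ha h1
    · -- normalizing
      intro c hcM h y hy
      obtain ⟨a, ha, c0, hc0, rfl⟩ := hdec c hcM
      have hw : c0 * z * c0⁻¹ ∈ Subgroup.centralizer (A : Set G) :=
        Subgroup.mul_mem _ (Subgroup.mul_mem _ hc0 hzR.2) (Subgroup.inv_mem _ hc0)
      have e : a * c0 * z * (a * c0)⁻¹ * z⁻¹ = (a * (c0 * z * c0⁻¹) * a⁻¹) * z⁻¹ := by group
      rw [e, hconjA a ha _ hw] at h
      have hbz : Commute (c0 * z * c0⁻¹ * z⁻¹) z := hAz _ h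
      have hb2 : (c0 * z * c0⁻¹ * z⁻¹) ^ 2 ^ 1 = 1 := by
        have e1 : (c0 * z * c0⁻¹ * z⁻¹ * z) ^ 2 = (c0 * z * c0⁻¹ * z⁻¹) ^ 2 * z ^ 2 :=
          hbz.mul_pow 2
        have e2 : c0 * z * c0⁻¹ * z⁻¹ * z = c0 * z * c0⁻¹ := by group
        have hzz : z ^ 2 = 1 := by rw [pow_two, hz2]
        rw [e2, conj_pow, hzz, mul_one, mul_inv_cancel, mul_one] at e1
        rw [pow_one]
        exact e1.symm
      have hb1 := eq_one_of_odd_of_pow hAodd h 1 hb2
      have hc0z : c0 * z = z * c0 := by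
        have e3 : c0 * z = (c0 * z * c0⁻¹ * z⁻¹) * z * c0 := by group
        rw [e3, hb1, one_mul]
      have hy' : c0 * y * c0⁻¹ ∈ Q ⊓ Subgroup.centralizer (A : Set G) :=
        ⟨fstar_conj_mem z Q hF c0 hc0z y hy.1,
          Subgroup.mul_mem _ (Subgroup.mul_mem _ hc0 hy.2) (Subgroup.inv_mem _ hc0)⟩
      refine ⟨c0 * y * c0⁻¹, hy', ?_⟩
      have e4 : a * c0 * y * (a * c0)⁻¹ = a * (c0 * y * c0⁻¹) * a⁻¹ := by group
      rw [e4, hconjA a ha _ hy'.2, inv_mul_cancel]
      exact one_mem _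
    · refine ⟨u, hgR, ?_⟩
      rw [hconj, inv_mul_cancel]
      exact one_mem _
    · rw [hconj]
      apply not_mem_odd_of_sq hAodd
      · rw [hzinv]
        calc z * u * (z * u) = z * (u * z) * u := by group
          _ = z * (z * u) * u := by rw [hzu]
          _ = (z * z) * (u * u) := by group
          _ = 1 := by rw [hz2, huu, one_mul]
      · intro h
        apply huz
        have e : u = z * (z⁻¹ * u) := by group
        rw [e, h, mul_one]

end Cfsg.Agent.S5428
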