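import Mathlib
import Cfsg.Statements.S5429
import Cfsg.Agent.Lead.LargeSetting

set_option autoImplicit false
open Cfsg

namespace Cfsg.Agent.S5429

open Cfsg.Agent.Helper3.LargeX Cfsg.Agent.Lead.LargeQuot

/-- Let z be an involution of the finite group G with centralizer C whose generalized Fitting subgroup Q is extraspecial of width at least 3 (order 2^(2w+1), w ≥ 3); let g be an element of G with g z g⁻¹ in Q but outside the centre Z of Q, and t an involution lying in both Q and g Q g⁻¹ that is not conjugate to z; write P for the centralizer of t in Q and suppose that the elements of C acting trivially by conjugation on P modulo the subgroup generated by t and z are exactly the elements of Q. Then the image of P in the centralizer of t modulo the subgroup generated by t is a large extraspecial 2-subgroup there, and g z g⁻¹ is conjugate to z inside the subgroup generated by P and the centralizer of t in g Q g⁻¹. -/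
theorem result {G : Type*} [Group G] [Finite G] (z : G) (hz : orderOf z = 2) (Q : Subgroup G) (hQC : Q ≤ Subgroup.centralizer ({z} : Set G)) (hF : (Cfsg.generalizedFittingSubgroup ↥(Subgroup.centralizer ({z} : Set G))).map (Subgroup.centralizer ({z} : Set G)).subtype = Q) (hQ : Cfsg.IsExtraspecial 2 ↥Q) (w : ℕ) (hw : 3 ≤ w) (hcard : Nat.card ↥Q = 2 ^ (2 * w + 1)) (g : G) (hgQ : g * z * g⁻¹ ∈ Q) (hgZ : g * z * g⁻¹ ∉ ((Subgroup.center ↥Q).map Q.subtype)) (t : G) (ht : orderOf t = 2) (htQ : t ∈ Q ⊓ (Q).map (MulAut.conj g).toMonoidHom) (htz : ¬ IsConj z t) (P : Subgroup G) (hP : P = Q ⊓ Subgroup.centralizer ({t} : Set G)) (hCP : ∀ c ∈ Subgroup.centralizer ({z} : Set G), (∀ x ∈ P, ∃ y ∈ Subgroup.closure ({t, z} : Set G), c * x * c⁻¹ = x * y) ↔ c ∈ Q) [hn : ((Subgroup.zpowers t).subgroupOf (Subgroup.centralizer ({t} : Set G))).Normal] : Cfsg.IsLargeExtraspecial ((P.subgroupOf (Subgroup.centralizer ({t} : Set G))).map (QuotientGroup.mk' ((Subgroup.zpowers t).subgroupOf (Subgroup.centralizer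 ({t} : Set G))))) ∧ ∃ x ∈ P ⊔ ((Q).map (MulAut.conj g).toMonoidHom ⊓ Subgroup.centralizer ({t} : Set G)), x * (g * z * g⁻¹) * x⁻¹ = z := by
  subst hP
  obtain ⟨hz1, hz2⟩ := sq_of_orderOf_two hz
  obtain ⟨ht1, ht2⟩ := sq_of_orderOf_two ht
  have htQ' : t ∈ Q := htQ.1
  have htQg : t ∈ Q.map (MulAut.conj g).toMonoidHom := htQ.2
  have hzc : ∀ q ∈ Q, q * z = z * q := fun q hq =>
    Subgroup.mem_centralizer_singleton_iff.mp (hQC hq)
  have hzCz : z ∈ Subgroup.centralizer ({z} : Set G) :=
    Subgroup.mem_centralizer_singleton_iff.mpr rfl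
  have hzQ : z ∈ Q := by
    apply (hCP z hzCz).mp
    intro x hx
    refine ⟨1, one_mem _, ?_⟩
    have := hzc x hx.1
    rw [mul_one, ← this, mul_inv_cancel_right]
  have hsC : Subgroup.centralizer (Q : Set G) ≤ Q := by
    intro c hc
    rw [Subgroup.mem_centralizer_iff] at hc
    have hcz : c * z = z * c := (hc z hzQ).symm
    apply (hCP c (Subgroup.mem_centralizer_singleton_iff.mpr hcz)).mp
    intro x hx
    refine ⟨1, one_mem _, ?_⟩
    have := hc x hx.1
    rw [mul_one, ← this, mul_inv_cancel_right]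
  obtain ⟨hLX, hZ, hsq⟩ := lx_of_fstar z hz Q hQC hF hQ hzQ hsC
  obtain ⟨u, hu⟩ : ∃ u, u = g * z * g⁻¹ := ⟨_, rfl⟩
  have hLXg : LX (Q.map (MulAut.conj g).toMonoidHom) u := by rw [hu]; exact hLX.conj g
  have hzQg : z ∈ Q.map (MulAut.conj g).toMonoidHom := hLX.main g hgQ
  rw [← hu] at hgQ hgZ ⊢
  have hu1 : u ≠ 1 := fun h => hgZ ((hZ u).mpr (Or.inl h))
  have huz : u ≠ z := fun h => hgZ ((hZ u).mpr (Or.inr h))
  have htz' : t ≠ z := by
    intro h
    apply htz
    rw [h]
  have hut : u ≠ t := by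
    intro h
    apply htz
    rw [isConj_iff]
    exact ⟨g, by rw [← hu, h]⟩
  obtain ⟨q1, hq1, hq1t⟩ := hLX.exists_noncomm htQ' ht1 htz'
  have hzt_conj : ∀ c : G, c * z * c⁻¹ ≠ z * t := by
    intro c hc
    apply htz
    rw [isConj_iff]
    refine ⟨q1⁻¹ * c, ?_⟩
    have e : q1⁻¹ * c * z * (q1⁻¹ * c)⁻¹ = q1⁻¹ * (c * z * c⁻¹) * q1 := by group
    rw [e, hc, ← hq1t]
    group
  have huzt : u ≠ z * t := by rw [hu]; exact hzt_conj g
  have htu : t * u = u * t := hLXg.z_comm t htQg
  have hztc : z * t = t * z := (hzc t htQ').symm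
  have huP : u ∈ Q ⊓ Subgroup.centralizer ({t} : Set G) :=
    ⟨hgQ, Subgroup.mem_centralizer_singleton_iff.mpr htu.symm⟩
  have hq0 : ∃ q0 ∈ Q ⊓ Subgroup.centralizer ({t} : Set G), q0 * u * q0⁻¹ = z * u := by
    by_contra hcon
    push Not at hcon
    have h4 := hLX.mem_four_of_centralizes htQ' ht2 hgQ (by
      intro r hr hrt
      rcases hLX.comm_or hr hgQ with h1 | h1
      · exact h1.symm
      · exact absurd h1 (hcon r ⟨hr, Subgroup.mem_centralizer_singleton_iff.mpr hrt⟩))
    rcases h4 with h | h | h | h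
    · exact hu1 h
    · exact huz h
    · exact hut h
    · exact huzt h
  have hp0 : ∃ p0 ∈ Q.map (MulAut.conj g).toMonoidHom ⊓ Subgroup.centralizer ({t} : Set G),
      p0 * z * p0⁻¹ = u * z := by
    by_contra hcon
    push Not at hcon
    have h4 := hLXg.mem_four_of_centralizes htQg ht2 hzQg (by
      intro r hr hrt
      rcases hLXg.comm_or hr hzQg with h1 | h1
      · exact h1.symm
      · exact absurd h1 (hcon r ⟨hr, Subgroup.mem_centralizer_singleton_iff.mpr hrt⟩))
    rcases h4 with h | h | h | h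
    · exact hz1 h
    · exact huz h.symm
    · exact htz' h.symm
    · apply huzt
      have e : z * t = u * t * t := by rw [← h]
      rw [e, mul_assoc, ht2, mul_one]
  obtain ⟨q0, hq0P, hq0u⟩ := hq0
  obtain ⟨p0, hp0P, hp0z⟩ := hp0
  have hp0u : p0 * u * p0⁻¹ = u := hLXg.conj_z hp0P.1
  have huu : u * u = 1 := hLXg.z_sq
  have hzu : z * u = u * z := (hzc u hgQ).symm
  have hx : (p0 * q0) * u * (p0 * q0)⁻¹ = z := by
    have e : (p0 * q0) * u * (p0 * q0)⁻¹ = p0 * (q0 * u * q0⁻¹) * p0⁻¹ := by group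
    rw [e, hq0u]
    have e2 : p0 * (z * u) * p0⁻¹ = (p0 * z * p0⁻¹) * (p0 * u * p0⁻¹) := by group
    rw [e2, hp0z, hp0u]
    calc u * z * u = u * (z * u) := by group
      _ = u * (u * z) := by rw [hzu]
      _ = (u * u) * z := by group
      _ = z := by rw [huu, one_mul]
  have hzK : z ∉ Subgroup.zpowers t := by
    rw [mem_zpowers_of_sq ht2]
    rintro (h | h)
    · exact hz1 h
    · exact htz' h.symm
  have key : ∀ c : G, c * z * c⁻¹ * z⁻¹ ∈ Subgroup.zpowers t → c * z = z * c := by
    intro c hc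
    rw [mem_zpowers_of_sq ht2] at hc
    rcases hc with h | h
    · have e : c * z = (c * z * c⁻¹ * z⁻¹) * z * c := by group
      rw [e, h, one_mul]
    · exfalso
      apply hzt_conj c
      have e : c * z * c⁻¹ = (c * z * c⁻¹ * z⁻¹) * z := by group
      rw [e, h, hztc]
  refine ⟨?_, p0 * q0, Subgroup.mul_mem _ (Subgroup.mem_sup_right hp0P)
    (Subgroup.mem_sup_left hq0P), hx⟩
  have hxCt : (p0 * q0)⁻¹ ∈ Subgroup.centralizer ({t} : Set G) :=
    Subgroup.inv_mem _ (Subgroup.mul_mem _ hp0P.2 hq0P.2)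
  have hconj : (p0 * q0)⁻¹ * z * (p0 * q0)⁻¹⁻¹ = u := by
    rw [← hx]
    group
  apply large_quot (Subgroup.centralizer ({t} : Set G)) (Subgroup.zpowers t)
    (Q ⊓ Subgroup.centralizer ({t} : Set G)) inf_le_right z
    ⟨hzQ, Subgroup.mem_centralizer_singleton_iff.mpr hztc⟩ hzK hz2
    (fun x hx y hy => hLX.comm x hx.1 y hy.1) (fun x hx => hsq x hx.1)
    (fun y hy => hLX.z_comm y hy.1) ?_ ?_ (p0 * q0)⁻¹ hxCt ?_ ?_
  · -- self-centralizing
    intro c hcN h
    have hzP : z ∈ Q ⊓ Subgroup.centralizer ({t} : Set G) :=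
      ⟨hzQ, Subgroup.mem_centralizer_singleton_iff.mpr hztc⟩
    have hcz : c * z = z * c := key c (h z hzP)
    have hcQ : c ∈ Q := by
      apply (hCP c (Subgroup.mem_centralizer_singleton_iff.mpr hcz)).mp
      intro x hx
      have h1 := h x hx
      rw [mem_zpowers_of_sq ht2] at h1
      rcases h1 with h1 | h1
      · refine ⟨1, one_mem _, ?_⟩
        have e : c * x * c⁻¹ = (c * x * c⁻¹ * x⁻¹) * x := by group
        rw [e, h1, one_mul, mul_one]
      · refine ⟨t, Subgroup.subset_closure (by simp), ?_⟩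
        have e : c * x * c⁻¹ = (c * x * c⁻¹ * x⁻¹) * x := by group
        rw [e, h1]
        exact (Subgroup.mem_centralizer_singleton_iff.mp hx.2).symm
    have h4 := hLX.mem_four_of_centralizes htQ' ht2 hcQ (by
      intro r hr hrt
      have h1 := h r ⟨hr, Subgroup.mem_centralizer_singleton_iff.mpr hrt⟩
      rcases hLX.comm c hcQ r hr with h2 | h2
      · have e : c * r = (c * r * c⁻¹ * r⁻¹) * r * c := by group
        rw [e, h2, one_mul]
      · rw [h2] at h1
        exact absurd h1 hzK)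
    rcases h4 with h5 | h5 | h5 | h5
    · left; rw [h5]; exact one_mem _
    · right; rw [h5, inv_mul_cancel]; exact one_mem _
    · left; rw [h5]; exact Subgroup.mem_zpowers t
    · right; rw [h5, inv_mul_cancel_left]; exact Subgroup.mem_zpowers t
  · -- normalizing
    intro c hcN h y hy
    have hcz : c * z = z * c := key c h
    refine ⟨c * y * c⁻¹, ⟨fstar_conj_mem z Q hF c hcz y hy.1,
      Subgroup.mul_mem _ (Subgroup.mul_mem _ hcN hy.2) (Subgroup.inv_mem _ hcN)⟩, ?_⟩
    rw [inv_mul_cancel]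
    exact one_mem _
  · refine ⟨u, huP, ?_⟩
    rw [hconj, inv_mul_cancel]
    exact one_mem _
  · rw [hconj, mem_zpowers_of_sq ht2]
    rintro (h | h)
    · apply huz
      have e : u = z * (z⁻¹ * u) := by group
      rw [e, h, mul_one]
    · apply huzt
      have e : u = z * (z⁻¹ * u) := by group
      rw [e, h]

end Cfsg.Agent.S5429
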