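import Mathlib
import Cfsg.Statements.S5431
import Cfsg.Agent.Helper3.LargeXT
-- import your own Cfsg.Agent.* helpers here

set_option autoImplicit false
open Cfsg

namespace Cfsg.Agent.S5431

open Cfsg.Agent.Helper3.LargeX
open scoped commutatorElement

/-- Let Q be a large extraspecial 2-subgroup of the finite group G (extraspecial; centralizer equal to its centre; normal in the centralizer of its centre; normalizing no non-trivial subgroup of odd order) with centre generated by z, an involution, of width w ≥ 2 (order 2^(2w+1)); let g be an element outside the centralizer H of z with g z g⁻¹ in Q; write V for the subgroup generated by z and g z g⁻¹, X for the subgroup generated by Q and g Q g⁻¹, R for the subgroup generated by the centralizer of z in g Q g⁻¹ and the centralizer of g z g⁻¹ in Q, and E for the intersection of Q and g Q g⁻¹. Then V is the centre of R, E lies in the second centre of R, R is nilpotent of class at most 3, E and R/E are elementary abelian, R/E is the direct product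 of the images of the centralizer of g z g⁻¹ in Q and of the centralizer of z in g Q g⁻¹ (R is their product and they meet in E), and the commutator subgroup of X and E lies in V. -/
theorem result {G : Type*} [Group G] [Finite G] (Q : Subgroup G) (hQ : Cfsg.IsLargeExtraspecial Q) (z : G) (hz : ((Subgroup.center ↥Q).map Q.subtype) = Subgroup.zpowers z) (hz2 : orderOf z = 2) (w : ℕ) (hw : 2 ≤ w) (hcard : Nat.card ↥Q = 2 ^ (2 * w + 1)) (g : G) (hgH : g ∉ Subgroup.centralizer ({z} : Set G)) (hgQ : g * z * g⁻¹ ∈ Q) (V X R E : Subgroup G) (hV : V = Subgroup.closure ({z, g * z * g⁻¹} : Set G)) (hX : X = Q ⊔ (Q).map (MulAut.conj g).toMonoidHom) (hR : R = ((Q).map (MulAut.conj g).toMonoidHom ⊓ Subgroup.centralizer ({z} : Set G)) ⊔ (Q ⊓ Subgroup.centralizer ({g * z * g⁻¹} : Set G))) (hE : E = Q ⊓ (Q).map (MulAut.conj g).toMonoidHom) : (Subgroup.center ↥R).map R.subtype = V ∧ E ≤ (Subgroup.upperCentralSeries ↥R 2).map R.subtype ∧ Subgroup.upperCentralSeries ↥R 3 = ⊤ ∧ Cfsg.IsElementaryAbelian 2 E ∧ (∀ x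 ∈ R, ∀ y ∈ R, x * y * x⁻¹ * y⁻¹ ∈ E ∧ x ^ 2 ∈ E) ∧ ((Q).map (MulAut.conj g).toMonoidHom ⊓ Subgroup.centralizer ({z} : Set G)) ⊓ (Q ⊓ Subgroup.centralizer ({g * z * g⁻¹} : Set G)) = E ∧ ⁅X, E⁆ ≤ V := by
  obtain ⟨hE2, hC, hN, -⟩ := hQ
  have hsC : Subgroup.centralizer (Q : Set G) ≤ Q := by
    rw [hC]; exact Subgroup.map_subtype_le _
  obtain ⟨z', hLX, hZ⟩ := lx_of_extraspecial Q hE2 hsC hN
  have hz1 : z ≠ 1 := by
    intro h1
    rw [h1, orderOf_one] at hz2
    omega
  have hzz' : z = z' := by
    have : z ∈ (Subgroup.center ↥Q).map Q.subtype := by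
      rw [hz]; exact Subgroup.mem_zpowers z
    rcases (hZ z).mp this with h | h
    · exact absurd h hz1
    · exact h
  subst hzz'
  have hsq := sq_of_extraspecial Q hE2 z hZ
  have hxz : g * z * g⁻¹ ≠ z := by
    intro h1
    apply hgH
    rw [Subgroup.mem_centralizer_singleton_iff]
    have : g * z = (g * z * g⁻¹) * g := by group
    rw [this, h1]
  have s := XS.of_lx hLX g hgQ hxz
  have hVs : V = s.V := by rw [hV, s.V_eq_closure]
  have hXs : X = s.X := hX
  have hRs : R = s.R := hR
  have hEs : E = s.E := hE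
  subst hVs
  subst hXs
  subst hRs
  subst hEs
  -- V ≤ centre of R (as subtype elements)
  have hVcen : ∀ (v : G) (hv : v ∈ s.V), (⟨v, s.E_le_R (s.V_le_E hv)⟩ : s.R) ∈ Subgroup.center s.R := by
    intro v hv
    rw [Subgroup.mem_center_iff]
    intro r
    apply Subtype.ext
    simp only [Subgroup.coe_mul]
    exact ((s.center_R (s.E_le_R (s.V_le_E hv))).mpr hv r r.2).symm
  have hEZ2 : ∀ (e : G) (he : e ∈ s.E),
      (⟨e, s.E_le_R he⟩ : s.R) ∈ Subgroup.upperCentralSeries s.R 2 := by
    intro e he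
    rw [Subgroup.mem_upperCentralSeries_succ_iff]
    intro y
    rw [Subgroup.upperCentralSeries_one]
    have h1 := s.XE_comm_mem_V (s.R_le_X y.2) he
    have h2 := s.V.inv_mem h1
    have e1 : ((y : G) * e * (y : G)⁻¹ * e⁻¹)⁻¹ = e * (y : G) * e⁻¹ * (y : G)⁻¹ := by group
    rw [e1] at h2
    have := hVcen _ h2
    convert this using 1
    apply Subtype.ext
    rfl
  have hcomm : ∀ a y : s.R,
      (⟨(a : G) * (y : G) * (a : G)⁻¹ * (y : G)⁻¹, s.E_le_R (s.comm_mem_E a.2 y.2)⟩ : s.R) = ⁅a, y⁆ := by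
    intro a y
    apply Subtype.ext
    rfl
  refine ⟨?_, ?_, ?_, s.thm4' hsq, ?_, s.thm6', ?_⟩
  · ext c
    constructor
    · rintro ⟨c', hc', rfl⟩
      apply (s.center_R c'.2).mp
      intro r hr
      have h3 := Subgroup.mem_center_iff.mp hc' ⟨r, hr⟩
      have h4 := congrArg Subtype.val h3
      simp only [Subgroup.coe_mul] at h4
      exact h4.symm
    · intro hv
      exact ⟨⟨c, s.E_le_R (s.V_le_E hv)⟩, hVcen c hv, rfl⟩
  · intro e he
    exact ⟨⟨e, s.E_le_R he⟩, hEZ2 e he, rfl⟩
  · rw [eq_top_iff]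
    intro a _
    rw [Subgroup.mem_upperCentralSeries_succ_iff]
    intro y
    have h1 := s.comm_mem_E a.2 y.2
    have := hEZ2 _ h1
    rw [← hcomm a y]
    exact this
  · intro a ha b hb
    refine ⟨s.comm_mem_E ha hb, ?_⟩
    rw [pow_two]; exact s.sq_mem_E hsq ha
  · rw [Subgroup.commutator_le]
    intro a ha e he
    rw [commutatorElement_def]
    exact s.XE_comm_mem_V ha he


end Cfsg.Agent.S5431
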