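import Cfsg.Statements.S5433
import Cfsg.Agent.Helper9.LargeExtra

set_option autoImplicit false
open Cfsg

namespace Cfsg.Agent.S5433

/-- Let Q be a large extraspecial 2-subgroup of the finite group G (extraspecial; centralizer equal to its centre; normal in the centralizer of its centre; normalizing no non-trivial subgroup of odd order), and L a normal subgroup of G containing Q. Then G is the product of L and the normalizer of Q. -/
theorem result {G : Type*} [Group G] [Finite G] (Q : Subgroup G) (hQ : Cfsg.IsLargeExtraspecial Q) (L : Subgroup G) [L.Normal] (hQL : Q ≤ L) : L ⊔ Subgroup.normalizer (Q : Set G) = ⊤ := by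
  have : Fact (Nat.Prime 2) := ⟨Nat.prime_two⟩
  obtain ⟨hL1, hL2, hL3, -⟩ := hQ
  have hQ2 : IsPGroup 2 ↥Q := Cfsg.Agent.Helper9.isPGroup_of_isExtraspecial Q hL1
  have hcard : Nat.card (Subgroup.center ↥Q) = 2 := hL1.2
  -- a Sylow 2-subgroup of L containing Q
  obtain ⟨P, hP⟩ := IsPGroup.exists_le_sylow (hQ2.comap_subtype (K := L))
  set T : Subgroup G := (P : Subgroup ↥L).map L.subtype with hT
  have hQT : Q ≤ T := by
    intro q hq
    exact ⟨⟨q, hQL hq⟩, hP (show (⟨q, hQL hq⟩ : ↥L) ∈ Q.subgroupOf L from hq), rfl⟩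
  have hT2 : IsPGroup 2 ↥T := P.isPGroup'.map _
  have hfrat : Subgroup.normalizer (T : Set G) ⊔ L = ⊤ := Sylow.normalizer_sup_eq_top P
  -- Q is nontrivial, hence so is T
  have hQnt : ∃ q ∈ Q, q ≠ 1 := by
    obtain ⟨w, hw, _⟩ := (Nat.card_eq_two_iff' (1 : Subgroup.center ↥Q)).mp hcard
    refine ⟨((w : ↥Q) : G), (w : ↥Q).2, ?_⟩
    intro h
    apply hw
    apply Subtype.ext
    apply Subtype.ext
    exact h
  have hTnt : Nontrivial ↥T := by
    obtain ⟨q, hq, hq1⟩ := hQnt
    refine ⟨⟨⟨q, hQT hq⟩, 1, ?_⟩⟩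
    intro h
    exact hq1 (congrArg Subtype.val h)
  have hcn : Nontrivial ↥(Subgroup.center ↥T) := hT2.center_nontrivial
  obtain ⟨t, ht1⟩ := exists_ne (1 : ↥(Subgroup.center ↥T))
  have htT : ((t : ↥T) : G) ∈ T := (t : ↥T).2
  have htc : ∀ x ∈ T, x * ((t : ↥T) : G) = ((t : ↥T) : G) * x := by
    intro x hx
    have := Subgroup.mem_center_iff.mp t.2 ⟨x, hx⟩
    exact congrArg Subtype.val this
  have htne : ((t : ↥T) : G) ≠ 1 := by
    intro h
    apply ht1
    apply Subtype.ext
    apply Subtype.ext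
    exact h
  -- the central elements of T lie in Z(Q)
  have hcZ : ∀ u ∈ T, (∀ x ∈ T, x * u = u * x) →
      u ∈ ((Subgroup.center ↥Q).map Q.subtype) := by
    intro u _ huc
    rw [← hL2, Subgroup.mem_centralizer_iff]
    intro q hq
    exact huc q (hQT hq)
  have hZ2 : ∀ z ∈ ((Subgroup.center ↥Q).map Q.subtype), z = 1 ∨ z = ((t : ↥T) : G) := by
    have hcZt := hcZ _ htT htc
    rintro _ ⟨y, hy, rfl⟩
    obtain ⟨yc, hyc, hycc⟩ := hcZt
    obtain ⟨w, _, hw2⟩ := (Nat.card_eq_two_iff' (1 : Subgroup.center ↥Q)).mp hcard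
    by_cases hy1 : y = 1
    · left; rw [hy1]; simp
    · right
      have e1 : (⟨y, hy⟩ : Subgroup.center ↥Q) = w := hw2 _ (by
        intro h; apply hy1; exact congrArg Subtype.val h)
      have e2 : (⟨yc, hyc⟩ : Subgroup.center ↥Q) = w := hw2 _ (by
        intro h; apply htne
        have h' : yc = 1 := congrArg Subtype.val h
        rw [← hycc, h']; simp)
      have : y = yc := congrArg Subtype.val (e1.trans e2.symm)
      rw [← hycc, this]
  -- N(T) ≤ N(Q)
  have hNT : Subgroup.normalizer (T : Set G) ≤ Subgroup.normalizer (Q : Set G) := by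
    intro n hn
    apply hL3
    rw [Subgroup.mem_centralizer_iff]
    intro z hz
    rcases hZ2 z hz with h | h
    · rw [h]; simp
    · rw [h]
      -- n t n⁻¹ is central in T and non-trivial
      have h1 : n * ((t : ↥T) : G) * n⁻¹ ∈ T := (Subgroup.mem_normalizer_iff.mp hn _).mp htT
      have h2 : ∀ x ∈ T, x * (n * ((t : ↥T) : G) * n⁻¹) = (n * ((t : ↥T) : G) * n⁻¹) * x := by
        intro x hx
        have hx' : n⁻¹ * x * n ∈ T := by
          apply (Subgroup.mem_normalizer_iff.mp hn _).mpr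
          have e : n * (n⁻¹ * x * n) * n⁻¹ = x := by group
          rw [e]; exact hx
        have h3 := htc _ hx'
        calc x * (n * ((t : ↥T) : G) * n⁻¹) = n * ((n⁻¹ * x * n) * ((t : ↥T) : G)) * n⁻¹ := by group
          _ = n * (((t : ↥T) : G) * (n⁻¹ * x * n)) * n⁻¹ := by rw [h3]
          _ = (n * ((t : ↥T) : G) * n⁻¹) * x := by group
      have h4 := hcZ _ h1 h2
      rcases hZ2 _ h4 with h5 | h5
      · exfalso
        apply htne
        have : ((t : ↥T) : G) = n⁻¹ * (n * ((t : ↥T) : G) * n⁻¹) * n := by group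
        rw [this, h5]; group
      · calc ((t : ↥T) : G) * n = (n * ((t : ↥T) : G) * n⁻¹) * n := by rw [h5]
          _ = n * ((t : ↥T) : G) := by group
  rw [eq_top_iff, ← hfrat, sup_comm]
  exact sup_le_sup_left hNT L

end Cfsg.Agent.S5433
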