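import Mathlib
import Cfsg.Statements.S5434
import Cfsg.Agent.Helper3.ExtraCore
import Cfsg.Agent.Helper1.Coprime
-- import your own Cfsg.Agent.* helpers here

set_option autoImplicit false
open Cfsg

namespace Cfsg.Agent.S5434

universe u

open scoped commutatorElement
open Cfsg.Agent.Helper3.Extra

/-- A subgroup `X` of `Q` (in the class) containing the centre and whose own centre lies in `Z(Q)`
is again in the class. -/
theorem sub_inClass {G : Type u} [Group G] {p : ℕ} (Q X : Subgroup G) (hE : InClass p ↥Q)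
    (hXQ : X ≤ Q) (hZX : (Subgroup.center ↥Q).map Q.subtype ≤ X)
    (hcen : ∀ x ∈ X, (∀ y ∈ X, x * y = y * x) → x ∈ (Subgroup.center ↥Q).map Q.subtype) :
    InClass p ↥X := by
  have key : ∀ x : ↥X, x ∈ Subgroup.center ↥X ↔ (x : G) ∈ (Subgroup.center ↥Q).map Q.subtype := by
    intro x
    constructor
    · intro hx
      apply hcen x.1 x.2
      intro y hy
      have := Subgroup.mem_center_iff.mp hx ⟨y, hy⟩
      exact (congrArg Subtype.val this).symm
    · rintro ⟨z', hz', hzz⟩
      rw [Subgroup.mem_center_iff]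
      intro g
      apply Subtype.ext
      show (g : G) * (x : G) = (x : G) * (g : G)
      rw [← hzz]
      have := Subgroup.mem_center_iff.mp hz' ⟨g, hXQ g.2⟩
      exact congrArg Subtype.val this
  have hmap : (Subgroup.center ↥X).map X.subtype = (Subgroup.center ↥Q).map Q.subtype := by
    ext g
    constructor
    · rintro ⟨x, hx, rfl⟩
      exact (key x).mp hx
    · intro hg
      exact ⟨⟨g, hZX hg⟩, (key _).mpr hg, rfl⟩
  refine ⟨?_, ?_, ?_⟩
  · rw [← Subgroup.card_map_of_injective (Subgroup.subtype_injective X) , hmap,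
      Subgroup.card_map_of_injective (Subgroup.subtype_injective Q)]
    exact hE.card_center
  · intro a b
    rw [key]
    exact ⟨⁅(⟨a, hXQ a.2⟩ : ↥Q), ⟨b, hXQ b.2⟩⁆, hE.comm_mem _ _, rfl⟩
  · intro a
    rw [key]
    exact ⟨(⟨a, hXQ a.2⟩ : ↥Q) ^ p, hE.pow_mem _, rfl⟩

/-- Let Q be a large extraspecial 2-subgroup of the finite group G (extraspecial; centralizer equal to its centre; normal in the centralizer of its centre; normalizing no non-trivial subgroup of odd order), and A a non-trivial subgroup of odd order of the normalizer of Q. Then Q is the central product of the centralizer of A in Q and the commutator subgroup [Q, A] (they generate Q and commute elementwise), [Q, A] is extraspecial, and the centralizer of A in Q is either the centre of Q or extraspecial. -/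
theorem result {G : Type*} [Group G] [Finite G] (Q : Subgroup G) (hQ : Cfsg.IsLargeExtraspecial Q) (A : Subgroup G) (hA : A ≤ Subgroup.normalizer (Q : Set G)) (hAodd : Odd (Nat.card ↥A)) (hA1 : A ≠ ⊥) : (Q ⊓ Subgroup.centralizer (A : Set G)) ⊔ ⁅Q, A⁆ = Q ∧ (∀ x ∈ Q ⊓ Subgroup.centralizer (A : Set G), ∀ y ∈ ⁅Q, A⁆, x * y = y * x) ∧ Cfsg.IsExtraspecial 2 ↥⁅Q, A⁆ ∧ (Q ⊓ Subgroup.centralizer (A : Set G) = ((Subgroup.center ↥Q).map Q.subtype) ∨ Cfsg.IsExtraspecial 2 ↥(Q ⊓ Subgroup.centralizer (A : Set G))) := by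
  classical
  obtain ⟨hExt, hCQ, -, -⟩ := hQ
  have hE : InClass 2 ↥Q := inClass_of_isExtraspecial hExt
  set Z : Subgroup G := (Subgroup.center ↥Q).map Q.subtype with hZdef
  set C : Subgroup G := Q ⊓ Subgroup.centralizer (A : Set G) with hCdef
  set D : Subgroup G := ⁅Q, A⁆ with hDdef
  have hZQ : Z ≤ Q := Subgroup.map_subtype_le _
  have hZcard : Nat.card Z = 2 := by
    rw [hZdef, Subgroup.card_map_of_injective (Subgroup.subtype_injective Q)]
    exact hE.card_center
  -- elements of `Z` commute with `Q`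
  have hZcomm : ∀ z ∈ Z, ∀ q ∈ Q, z * q = q * z := by
    rintro z ⟨z', hz', rfl⟩ q hq
    have := Subgroup.mem_center_iff.mp hz' ⟨q, hq⟩
    exact (congrArg Subtype.val this).symm
  have hmemZ : ∀ x ∈ Q, (∀ q ∈ Q, x * q = q * x) → x ∈ Z := by
    intro x hx h
    have hc : (⟨x, hx⟩ : ↥Q) ∈ Subgroup.center ↥Q := by
      rw [Subgroup.mem_center_iff]
      intro g
      apply Subtype.ext
      exact (h g g.2).symm
    exact ⟨⟨x, hx⟩, hc, rfl⟩
  -- uniqueness of the nontrivial element of `Z`
  have hZuniq : ∀ x ∈ Z, ∀ y ∈ Z, x ≠ 1 → y ≠ 1 → x = y := by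
    intro x hx y hy hx1 hy1
    have h2 := (Nat.card_eq_two_iff' (1 : ↥Z)).mp hZcard
    obtain ⟨w, -, hw⟩ := h2
    have hxw : (⟨x, hx⟩ : ↥Z) = w := hw _ (fun h => hx1 (congrArg Subtype.val h))
    have hyw : (⟨y, hy⟩ : ↥Z) = w := hw _ (fun h => hy1 (congrArg Subtype.val h))
    exact congrArg Subtype.val (hxw.trans hyw.symm)
  -- commutators and squares
  have hcommZ : ∀ x ∈ Q, ∀ y ∈ Q, ⁅x, y⁆ ∈ Z := fun x hx y hy =>
    ⟨⁅(⟨x, hx⟩ : ↥Q), ⟨y, hy⟩⁆, hE.comm_mem _ _, rfl⟩
  -- `A` centralizes `Z`
  have hAZ : ∀ a ∈ A, ∀ z ∈ Z, a * z * a⁻¹ = z := by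
    intro a ha z hz
    by_cases hz1 : z = 1
    · rw [hz1]; group
    have hna := Subgroup.mem_normalizer_iff.mp (hA ha)
    have hmem : a * z * a⁻¹ ∈ Z := by
      apply hmemZ _ ((hna z).mp (hZQ hz))
      intro q hq
      have hq' : a⁻¹ * q * a ∈ Q := by
        have := (hna (a⁻¹ * q * a)).mpr (by
          have : a * (a⁻¹ * q * a) * a⁻¹ = q := by group
          rw [this]; exact hq)
        exact this
      have h1 := hZcomm z hz _ hq'
      calc a * z * a⁻¹ * q = a * (z * (a⁻¹ * q * a)) * a⁻¹ := by group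
        _ = a * ((a⁻¹ * q * a) * z) * a⁻¹ := by rw [h1]
        _ = q * (a * z * a⁻¹) := by group
    have hne : a * z * a⁻¹ ≠ 1 := by
      intro h
      apply hz1
      have : z = a⁻¹ * (a * z * a⁻¹) * a := by group
      rw [this, h]; group
    exact hZuniq _ hmem _ hz hne hz1
  have hZcentA : Z ≤ Subgroup.centralizer (A : Set G) := by
    intro z hz
    rw [Subgroup.mem_centralizer_iff]
    intro a ha
    have h1 := hAZ a ha z hz
    calc a * z = a * z * a⁻¹ * a := by group
      _ = z * a := by rw [h1]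
  have hZC : Z ≤ C := le_inf hZQ hZcentA
  have hCQ' : C ≤ Q := inf_le_left
  -- coprimality
  have hPG : IsPGroup 2 ↥Q := hExt.1.1
  obtain ⟨k, hk⟩ := IsPGroup.iff_card.mp hPG
  have hcop : (Nat.card A).Coprime (Nat.card Q) := by
    rw [hk]
    apply Nat.Coprime.pow_right
    exact hAodd.coprime_two_right
  have hsolvQ : Group.IsSolvable ↥Q := by
    haveI : Group.IsNilpotent ↥Q := hPG.isNilpotent
    infer_instance
  -- (1) generation
  have hgen : C ⊔ D = Q := by
    have := Cfsg.Agent.Helper1.coprime_commutator_sup_centralizer A Q hA hcop (Or.inr hsolvQ)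
    rw [sup_comm]
    exact this
  have hDQ : D ≤ Q := Subgroup.le_normalizer_iff_commutator_le_left.1 hA
  -- (2) three subgroups lemma
  have h3 : ⁅⁅Q, A⁆, C⁆ = ⊥ := by
    apply Subgroup.commutator_commutator_eq_bot_of_rotate
    · -- ⁅⁅A, C⁆, Q⁆ = ⊥
      have h1 : ⁅A, C⁆ = ⊥ := by
        rw [Subgroup.commutator_comm, Subgroup.commutator_eq_bot_iff_le_centralizer]
        exact inf_le_right
      rw [h1]
      exact Subgroup.commutator_bot_left Q
    · -- ⁅⁅C, Q⁆, A⁆ = ⊥
      have h1 : ⁅C, Q⁆ ≤ Z := by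
        rw [Subgroup.commutator_le]
        intro x hx y hy
        exact hcommZ x (hCQ' hx) y hy
      have h2 : ⁅Z, A⁆ = ⊥ := by
        rw [Subgroup.commutator_eq_bot_iff_le_centralizer]
        exact hZcentA
      exact le_bot_iff.mp (h2 ▸ Subgroup.commutator_mono h1 le_rfl)
  have hCD : ∀ x ∈ C, ∀ y ∈ D, x * y = y * x := by
    intro x hx y hy
    have h4 : D ≤ Subgroup.centralizer (C : Set G) :=
      Subgroup.commutator_eq_bot_iff_le_centralizer.mp h3
    have := Subgroup.mem_centralizer_iff.mp (h4 hy) x hx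
    exact this
  -- an element of `Q` commuting with `C` and `D` is central
  have hcentral : ∀ x ∈ Q, (∀ y ∈ C, x * y = y * x) → (∀ y ∈ D, x * y = y * x) → x ∈ Z := by
    intro x hx h1 h2
    apply hmemZ x hx
    intro q hq
    have hle : C ⊔ D ≤ Subgroup.centralizer ({x} : Set G) := by
      apply sup_le
      · intro y hy
        rw [Subgroup.mem_centralizer_iff]
        intro g hg
        rw [Set.mem_singleton_iff] at hg
        rw [hg]
        exact h1 y hy
      · intro y hy
        rw [Subgroup.mem_centralizer_iff]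
        intro g hg
        rw [Set.mem_singleton_iff] at hg
        rw [hg]
        exact h2 y hy
    rw [hgen] at hle
    have := Subgroup.mem_centralizer_iff.mp (hle hq) x rfl
    exact this
  -- `D` is not abelian
  have hDnonab : ∃ u ∈ D, ∃ v ∈ D, ⁅u, v⁆ ≠ 1 := by
    by_contra hcon
    push Not at hcon
    have hDZ : D ≤ Z := by
      intro d hd
      apply hcentral d (hDQ hd)
      · intro y hy
        exact (hCD y hy d hd).symm
      · intro y hy
        exact commutatorElement_eq_one_iff_mul_comm.mp (hcon d hd y hy)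
    have hQC : Q ≤ C := by
      rw [← hgen]
      exact sup_le le_rfl (hDZ.trans hZC)
    have hAle : A ≤ Z := by
      rw [← hCQ]
      intro a ha
      rw [Subgroup.mem_centralizer_iff]
      intro q hq
      have h1 : q ∈ Subgroup.centralizer (A : Set G) := (hQC hq).2
      exact (Subgroup.mem_centralizer_iff.mp h1 a ha).symm
    have hdvd : Nat.card A ∣ 2 := hZcard ▸ Subgroup.card_dvd_of_le hAle
    have hone : Nat.card A = 1 := by
      rcases (Nat.dvd_prime Nat.prime_two).mp hdvd with h | h
      · exact h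
      · rw [h] at hAodd
        exact absurd hAodd (by decide)
    exact hA1 (Subgroup.card_eq_one.mp hone)
  obtain ⟨u, hu, v, hv, huv⟩ := hDnonab
  have huvZ : ⁅u, v⁆ ∈ Z := hcommZ u (hDQ hu) v (hDQ hv)
  have huvD : ⁅u, v⁆ ∈ D := by
    rw [commutatorElement_def]
    exact D.mul_mem (D.mul_mem (D.mul_mem hu hv) (D.inv_mem hu)) (D.inv_mem hv)
  have hZD : Z ≤ D := by
    intro z hz
    by_cases hz1 : z = 1
    · rw [hz1]; exact D.one_mem
    · rw [hZuniq z hz _ huvZ hz1 huv]
      exact huvD
  -- the two subgroups are in the class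
  have hED : InClass 2 ↥D := by
    apply sub_inClass Q D hE hDQ hZD
    intro x hx h
    apply hcentral x (hDQ hx)
    · intro y hy
      exact (hCD y hy x hx).symm
    · exact h
  have hEC : InClass 2 ↥C := by
    apply sub_inClass Q C hE hCQ' hZC
    intro x hx h
    apply hcentral x (hCQ' hx)
    · exact h
    · intro y hy
      exact hCD x hx y hy
  refine ⟨hgen, hCD, ?_, ?_⟩
  · apply hED.isExtraspecial
    -- 2 < card D
    by_contra hle
    push Not at hle
    have hDZ : Z = D := Subgroup.eq_of_le_of_card_ge hZD (by rw [hZcard]; exact hle)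
    apply huv
    rw [commutatorElement_eq_one_iff_mul_comm]
    exact hZcomm u (hDZ ▸ hu) v (hDQ hv)
  · by_cases hcard : 2 < Nat.card C
    · right
      exact hEC.isExtraspecial hcard
    · left
      push Not at hcard
      exact (Subgroup.eq_of_le_of_card_ge hZC (by rw [hZcard]; exact hcard)).symm


end Cfsg.Agent.S5434
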