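import Mathlib
import Cfsg.Statements.S5436
import Cfsg.Agent.Helper3.LxsA
import Cfsg.Agent.Helper2.Layer3
-- import your own Cfsg.Agent.* helpers here

set_option autoImplicit false
open Cfsg

namespace Cfsg.Agent.S5436

/-- A fixed-point-free involutory conjugation inverts every element. -/
theorem inverts_of_fixedPointFree {G : Type*} [Group G] [Finite G] (L : Subgroup G) (z : G)
    (hz : z * z = 1) (hzL : ∀ x ∈ L, z * x * z⁻¹ ∈ L) (hfpf : ∀ x ∈ L, z * x = x * z → x = 1) :
    ∀ a ∈ L, z * a * z⁻¹ = a⁻¹ := by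
  have hzinv : z⁻¹ = z := inv_eq_of_mul_eq_one_left hz
  let f : ↥L → ↥L := fun x => ⟨(x : G)⁻¹ * (z * x * z⁻¹), L.mul_mem (L.inv_mem x.2) (hzL x x.2)⟩
  have hinj : Function.Injective f := by
    intro x y hxy
    have h1 : (x : G)⁻¹ * (z * x * z⁻¹) = (y : G)⁻¹ * (z * y * z⁻¹) :=
      congrArg (fun t : ↥L => (t : G)) hxy
    have h2 : z * ((y : G) * (x : G)⁻¹) = ((y : G) * (x : G)⁻¹) * z := by
      have e1 : (y : G) * (x : G)⁻¹ = z * y * z⁻¹ * (z * x * z⁻¹)⁻¹ := by
        have : (y : G) * ((x : G)⁻¹ * (z * x * z⁻¹)) = z * y * z⁻¹ := by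
          rw [h1]; group
        rw [← this]; group
      have e2 : z * y * z⁻¹ * (z * x * z⁻¹)⁻¹ = z * ((y : G) * (x : G)⁻¹) * z⁻¹ := by group
      rw [e2] at e1
      calc z * ((y : G) * (x : G)⁻¹) = z * ((y : G) * (x : G)⁻¹) * z⁻¹ * z := by group
        _ = ((y : G) * (x : G)⁻¹) * z := by rw [← e1]
    have h3 := hfpf _ (L.mul_mem y.2 (L.inv_mem x.2)) h2
    apply Subtype.ext
    have : (y : G) = x := mul_inv_eq_one.mp h3
    exact this.symm
  have hsurj : Function.Surjective f := Finite.surjective_of_injective hinj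
  intro a ha
  obtain ⟨x, hx⟩ := hsurj ⟨a, ha⟩
  have hx' : (x : G)⁻¹ * (z * x * z⁻¹) = a := congrArg (fun t : ↥L => (t : G)) hx
  rw [← hx']
  have e1 : z * ((x : G)⁻¹ * (z * x * z⁻¹)) * z⁻¹ = z * (x : G)⁻¹ * z * x * (z * z)⁻¹ := by group
  have e2 : ((x : G)⁻¹ * (z * x * z⁻¹))⁻¹ = z * (x : G)⁻¹ * z⁻¹ * x := by group
  rw [e1, e2, hz, inv_one, mul_one, hzinv]

theorem eq_one_or_eq_of_card_two {A : Type*} [Group A] (h : Nat.card A = 2) {a : A} (ha : a ≠ 1)
    (x : A) : x = 1 ∨ x = a := by
  obtain ⟨y, _, hy⟩ := (Nat.card_eq_two_iff' (1 : A)).mp h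
  by_cases hx : x = 1
  · left; exact hx
  · right; rw [hy x hx, hy a ha]

/-- Let z be an involution of the finite group G with centralizer H whose generalized Fitting subgroup Q is extraspecial of width at least 2 (order 2^(2w+1), w ≥ 2); suppose some conjugate of z other than z lies in Q, H/Q is a non-abelian simple group, H acts irreducibly by conjugation on Q modulo the subgroup generated by z (the only H-invariant subgroups of Q containing z are that subgroup and Q), and Q is not the subgroup generated by the conjugates of z lying in H. Then G is simple. -/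
theorem result {G : Type*} [Group G] [Finite G] (z : G) (hz : orderOf z = 2) (Q : Subgroup (Subgroup.centralizer ({z} : Set G))) [Q.Normal] (hF : Cfsg.generalizedFittingSubgroup ↥(Subgroup.centralizer ({z} : Set G)) = Q) (hQ : Cfsg.IsExtraspecial 2 ↥Q) (w : ℕ) (hw : 2 ≤ w) (hcard : Nat.card ↥Q = 2 ^ (2 * w + 1)) (hnwc : ∃ g : G, (∃ hq : g * z * g⁻¹ ∈ Subgroup.centralizer ({z} : Set G), (⟨g * z * g⁻¹, hq⟩ : Subgroup.centralizer ({z} : Set G)) ∈ Q) ∧ g * z * g⁻¹ ≠ z) (hsimp : IsSimpleGroup (↥(Subgroup.centralizer ({z} : Set G)) ⧸ Q)) (hna : ¬ IsMulCommutative (↥(Subgroup.centralizer ({z} : Set G)) ⧸ Q)) (hirr : ∀ W : Subgroup (Subgroup.centralizer ({z} : Set G)), W.Normal → W ≤ Q → (W = Q ∨ ∀ x ∈ W, (x : G) ∈ Subgroup.zpowers z)) (hwcl : Subgroup.closure {x : Subgroup.centralizer ({z} : Set G) | IsConj z (x : G)} ≠ Q) : IsSimpleGroup G := by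
  have : Fact (Nat.Prime 2) := ⟨Nat.prime_two⟩
  obtain ⟨H, hH⟩ : ∃ H : Subgroup G, H = Subgroup.centralizer ({z} : Set G) := ⟨_, rfl⟩
  subst hH
  have hmemH : ∀ x : G, x ∈ Subgroup.centralizer ({z} : Set G) ↔ x * z = z * x :=
    fun x => Subgroup.mem_centralizer_singleton_iff
  have hz1 : z ≠ 1 := by
    intro h; rw [h, orderOf_one] at hz; omega
  have hzsq : z * z = 1 := by
    rw [← pow_two, ← hz]; exact pow_orderOf_eq_one z
  have hzinv : z⁻¹ = z := inv_eq_of_mul_eq_one_left hzsq
  have hzH : z ∈ Subgroup.centralizer ({z} : Set G) := (hmemH z).mpr rfl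
  -- C_H(Q) ≤ Q
  have hCQ : Subgroup.centralizer (Q : Set ↥(Subgroup.centralizer ({z} : Set G))) ≤ Q := by
    have := Cfsg.Agent.Helper2.centralizer_generalizedFittingSubgroup_le
      (G := ↥(Subgroup.centralizer ({z} : Set G)))
    rw [hF] at this
    exact this
  have hzQ : (⟨z, hzH⟩ : ↥(Subgroup.centralizer ({z} : Set G))) ∈ Q := by
    apply hCQ
    rw [Subgroup.mem_centralizer_iff]
    intro q _
    apply Subtype.ext
    exact (hmemH q).mp q.2
  have hIC := Cfsg.Agent.Helper3.Extra.inClass_of_isExtraspecial hQ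
  -- elements of Q centralizing Q are 1 or z
  have hcenQ : ∀ c : ↥(Subgroup.centralizer ({z} : Set G)), (∀ q ∈ Q, c * q = q * c) →
      (c : G) = 1 ∨ (c : G) = z := by
    intro c hc
    have hcQ : c ∈ Q := by
      apply hCQ
      rw [Subgroup.mem_centralizer_iff]
      intro q hq
      exact (hc q hq).symm
    have hcc : (⟨c, hcQ⟩ : ↥Q) ∈ Subgroup.center ↥Q := by
      rw [Subgroup.mem_center_iff]
      intro q
      apply Subtype.ext
      exact (hc q q.2).symm
    have hzc : (⟨⟨z, hzH⟩, hzQ⟩ : ↥Q) ∈ Subgroup.center ↥Q := by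
      rw [Subgroup.mem_center_iff]
      intro q
      apply Subtype.ext; apply Subtype.ext
      exact (hmemH _).mp (q : ↥(Subgroup.centralizer ({z} : Set G))).2
    have hne : (⟨⟨⟨z, hzH⟩, hzQ⟩, hzc⟩ : Subgroup.center ↥Q) ≠ 1 := by
      intro e
      apply hz1
      have e1 := congrArg (fun t : Subgroup.center ↥Q => (((t : ↥Q) :
        ↥(Subgroup.centralizer ({z} : Set G))) : G)) e
      exact e1
    rcases eq_one_or_eq_of_card_two hIC.card_center hne ⟨⟨c, hcQ⟩, hcc⟩ with e | e
    · left
      have e1 := congrArg (fun t : Subgroup.center ↥Q => (((t : ↥Q) :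
        ↥(Subgroup.centralizer ({z} : Set G))) : G)) e
      exact e1
    · right
      have e1 := congrArg (fun t : Subgroup.center ↥Q => (((t : ↥Q) :
        ↥(Subgroup.centralizer ({z} : Set G))) : G)) e
      exact e1
  -- commutators in Q are 1 or z
  have hcommQ : ∀ a ∈ Q, ∀ b ∈ Q, ((a * b * a⁻¹ * b⁻¹ :
      ↥(Subgroup.centralizer ({z} : Set G))) : G) = 1 ∨
      ((a * b * a⁻¹ * b⁻¹ : ↥(Subgroup.centralizer ({z} : Set G))) : G) = z := by
    intro a ha b hb
    have h1 := hIC.comm_mem ⟨a, ha⟩ ⟨b, hb⟩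
    have h2 : ∀ q ∈ Q, (a * b * a⁻¹ * b⁻¹) * q = q * (a * b * a⁻¹ * b⁻¹) := by
      intro q hq
      have := Subgroup.mem_center_iff.mp h1 ⟨q, hq⟩
      have e1 := congrArg (fun t : ↥Q => (t : ↥(Subgroup.centralizer ({z} : Set G)))) this
      simp only [commutatorElement_def, Subgroup.coe_mul, Subgroup.coe_inv] at e1
      exact e1.symm
    exact hcenQ _ h2
  -- Q is a 2-group
  have hQ2 : ∀ q ∈ Q, ∃ k : ℕ, ((q : ↥(Subgroup.centralizer ({z} : Set G))) : G) ^ (2 ^ k) = 1 := by
    intro q hq
    obtain ⟨k, hk⟩ := hQ.1.1 ⟨q, hq⟩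
    refine ⟨k, ?_⟩
    have e1 := congrArg (fun t : ↥Q => ((t : ↥(Subgroup.centralizer ({z} : Set G))) : G)) hk
    simpa using e1
  -- the conjugate t
  obtain ⟨g, ⟨htH, htQ⟩, htz⟩ := hnwc
  obtain ⟨t, ht⟩ : ∃ t : G, t = g * z * g⁻¹ := ⟨_, rfl⟩
  rw [← ht] at htz
  have htH' : t ∈ Subgroup.centralizer ({z} : Set G) := by rw [ht]; exact htH
  have htQ' : (⟨t, htH'⟩ : ↥(Subgroup.centralizer ({z} : Set G))) ∈ Q := by
    have e : (⟨t, htH'⟩ : ↥(Subgroup.centralizer ({z} : Set G))) = ⟨g * z * g⁻¹, htH⟩ := by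
      apply Subtype.ext; exact ht
    rw [e]; exact htQ
  have ht1 : t ≠ 1 := by
    intro e
    apply hz1
    rw [ht] at e
    have : z = g⁻¹ * (g * z * g⁻¹) * g := by group
    rw [this, e]; group
  -- some q ∈ Q conjugates t to z * t
  obtain ⟨q, hqQ, hqt⟩ : ∃ q : ↥(Subgroup.centralizer ({z} : Set G)), q ∈ Q ∧
      (q : G) * t * (q : G)⁻¹ = z * t := by
    have hnc : ¬ ∀ q ∈ Q, (⟨t, htH'⟩ : ↥(Subgroup.centralizer ({z} : Set G))) * q =
        q * ⟨t, htH'⟩ := by
      intro h
      rcases hcenQ _ h with e | e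
      · exact ht1 e
      · exact htz e
    push Not at hnc
    obtain ⟨q, hq, hne⟩ := hnc
    refine ⟨q, hq, ?_⟩
    rcases hcommQ q hq _ htQ' with e | e
    · exfalso
      apply hne
      apply Subtype.ext
      simp only [Subgroup.coe_mul, Subgroup.coe_inv] at e
      have : (q : G) * t = t * q := by
        calc (q : G) * t = ((q : G) * t * (q : G)⁻¹ * t⁻¹) * (t * q) := by group
          _ = t * q := by rw [e, one_mul]
      exact this.symm
    · simp only [Subgroup.coe_mul, Subgroup.coe_inv] at e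
      calc (q : G) * t * (q : G)⁻¹ = ((q : G) * t * (q : G)⁻¹ * t⁻¹) * t := by group
        _ = z * t := by rw [e]
  -- elements of X ∩ Q' of a subgroup X whose intersection with Q is controlled
  -- Step 1: normal subgroups of odd order are trivial
  have hstep1 : ∀ X : Subgroup G, X.Normal → Odd (Nat.card X) → X = ⊥ := by
    intro X hXn hXodd
    have hodd_el : ∀ x ∈ X, ∀ k : ℕ, x ^ (2 ^ k) = 1 → x = 1 := by
      intro x hx k hk
      have h1 : orderOf x ∣ 2 ^ k := orderOf_dvd_of_pow_eq_one hk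
      have h2 : orderOf x ∣ Nat.card X := by
        have := orderOf_dvd_natCard (⟨x, hx⟩ : ↥X)
        rwa [Subgroup.orderOf_mk] at this
      have h3 : Nat.Coprime (2 ^ k) (Nat.card X) :=
        Nat.Coprime.pow_left k (Nat.coprime_two_left.mpr hXodd)
      have h4 : orderOf x = 1 := Nat.eq_one_of_dvd_coprimes h3 h1 h2
      exact orderOf_eq_one_iff.mp h4
    have hfpf : ∀ x ∈ X, z * x = x * z → x = 1 := by
      intro x hx hxz
      have hxH : x ∈ Subgroup.centralizer ({z} : Set G) := (hmemH x).mpr hxz.symm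
      have hcen : ∀ q ∈ Q, (⟨x, hxH⟩ : ↥(Subgroup.centralizer ({z} : Set G))) * q = q * ⟨x, hxH⟩ := by
        intro q hq
        have h1 : (⟨x, hxH⟩ : ↥(Subgroup.centralizer ({z} : Set G))) * q * (⟨x, hxH⟩)⁻¹ * q⁻¹ ∈ Q :=
          Q.mul_mem (‹Q.Normal›.conj_mem q hq _) (Q.inv_mem hq)
        have h2 : x * (q : G) * x⁻¹ * (q : G)⁻¹ ∈ X := by
          have : x * (q : G) * x⁻¹ * (q : G)⁻¹ = x * ((q : G) * x⁻¹ * (q : G)⁻¹) := by group
          rw [this]
          exact X.mul_mem hx (hXn.conj_mem _ (X.inv_mem hx) _)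
        obtain ⟨k, hk⟩ := hQ2 _ h1
        simp only [Subgroup.coe_mul, Subgroup.coe_inv] at hk
        have h3 := hodd_el _ h2 k hk
        apply Subtype.ext
        simp only [Subgroup.coe_mul]
        calc x * (q : G) = (x * (q : G) * x⁻¹ * (q : G)⁻¹) * ((q : G) * x) := by group
          _ = (q : G) * x := by rw [h3, one_mul]
      have hxQ : (⟨x, hxH⟩ : ↥(Subgroup.centralizer ({z} : Set G))) ∈ Q := by
        apply hCQ
        rw [Subgroup.mem_centralizer_iff]
        intro q hq
        exact (hcen q hq).symm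
      obtain ⟨k, hk⟩ := hQ2 _ hxQ
      exact hodd_el x hx k hk
    have hzX : ∀ x ∈ X, z * x * z⁻¹ ∈ X := fun x hx => hXn.conj_mem x hx z
    have hinv := inverts_of_fixedPointFree X z hzsq hzX hfpf
    -- t inverts X
    have htinv : ∀ x ∈ X, t * x * t⁻¹ = x⁻¹ := by
      intro x hx
      have h1 : g⁻¹ * x * g ∈ X := by
        have := hXn.conj_mem x hx g⁻¹
        simpa using this
      have h2 := hinv _ h1
      rw [ht]
      calc g * z * g⁻¹ * x * (g * z * g⁻¹)⁻¹ = g * (z * (g⁻¹ * x * g) * z⁻¹) * g⁻¹ := by group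
        _ = g * (g⁻¹ * x * g)⁻¹ * g⁻¹ := by rw [h2]
        _ = x⁻¹ := by group
    -- z * t inverts X as well
    have hztinv : ∀ x ∈ X, (z * t) * x * (z * t)⁻¹ = x⁻¹ := by
      intro x hx
      have h1 : (q : G)⁻¹ * x * (q : G) ∈ X := by
        have := hXn.conj_mem x hx (q : G)⁻¹
        simpa using this
      have h2 := htinv _ h1
      rw [← hqt]
      calc (q : G) * t * (q : G)⁻¹ * x * ((q : G) * t * (q : G)⁻¹)⁻¹
          = (q : G) * (t * ((q : G)⁻¹ * x * (q : G)) * t⁻¹) * (q : G)⁻¹ := by group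
        _ = (q : G) * ((q : G)⁻¹ * x * (q : G))⁻¹ * (q : G)⁻¹ := by rw [h2]
        _ = x⁻¹ := by group
    rw [eq_bot_iff]
    intro x hx
    rw [Subgroup.mem_bot]
    have h1 := hztinv x hx
    have h2 : (z * t) * x * (z * t)⁻¹ = x := by
      calc (z * t) * x * (z * t)⁻¹ = z * (t * x * t⁻¹) * z⁻¹ := by group
        _ = z * x⁻¹ * z⁻¹ := by rw [htinv x hx]
        _ = (x⁻¹)⁻¹ := hinv _ (X.inv_mem hx)
        _ = x := inv_inv x
    have h3 : x = x⁻¹ := h2.symm.trans h1
    have h4 : x ^ (2 ^ 1) = 1 := by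
      rw [pow_one, pow_two]
      calc x * x = x * x⁻¹ := by rw [← h3]
        _ = 1 := mul_inv_cancel x
    exact hodd_el x hx 1 h4
  -- Step 2
  have hzpow : ∀ x : G, x ∈ Subgroup.zpowers z → x = 1 ∨ x = z :=
    fun x hx => Cfsg.Agent.Helper3.Lxs.mem_zpowers_of_sq hzsq hx
  have hstep2 : ∀ N : Subgroup G, N.Normal → N = ⊥ ∨ N = ⊤ := by
    intro N hNn
    obtain ⟨NH, hNH⟩ : ∃ NH : Subgroup ↥(Subgroup.centralizer ({z} : Set G)),
      NH = N.subgroupOf (Subgroup.centralizer ({z} : Set G)) := ⟨_, rfl⟩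
    have hNHn : NH.Normal := by rw [hNH]; exact hNn.subgroupOf _
    have hmemNH : ∀ x : ↥(Subgroup.centralizer ({z} : Set G)), x ∈ NH ↔ (x : G) ∈ N := by
      intro x; rw [hNH, Subgroup.mem_subgroupOf]
    have hW1n : (NH ⊓ Q).Normal := inferInstance
    by_cases hzN : z ∈ N
    · right
      -- Q ≤ NH
      have htN : t ∈ N := by rw [ht]; exact hNn.conj_mem z hzN g
      have hQNH : Q ≤ NH := by
        rcases hirr (NH ⊓ Q) hW1n inf_le_right with e | e
        · rw [← e]; exact inf_le_left
        · exfalso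
          have h1 : (⟨t, htH'⟩ : ↥(Subgroup.centralizer ({z} : Set G))) ∈ NH ⊓ Q :=
            ⟨(hmemNH _).mpr htN, htQ'⟩
          rcases hzpow _ (e _ h1) with e1 | e1
          · exact ht1 e1
          · exact htz e1
      -- H ≤ N
      have hHN : Subgroup.centralizer ({z} : Set G) ≤ N := by
        have hmapn : (NH.map (QuotientGroup.mk' Q)).Normal :=
          hNHn.map _ (QuotientGroup.mk'_surjective Q)
        rcases hmapn.eq_bot_or_eq_top with e | e
        · exfalso
          -- NH ≤ Q
          have hNHQ : NH ≤ Q := by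
            intro x hx
            have h1 : QuotientGroup.mk' Q x ∈ NH.map (QuotientGroup.mk' Q) := ⟨x, hx, rfl⟩
            rw [e, Subgroup.mem_bot] at h1
            exact (QuotientGroup.eq_one_iff x).mp h1
          apply hwcl
          obtain ⟨S, hS⟩ : ∃ S : Set ↥(Subgroup.centralizer ({z} : Set G)),
            S = {x : Subgroup.centralizer ({z} : Set G) | IsConj z (x : G)} := ⟨_, rfl⟩
          rw [← hS]
          have hSN : ∀ x ∈ S, x ∈ NH := by
            intro x hx
            rw [hS] at hx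
            obtain ⟨c, hc⟩ := isConj_iff.mp hx
            rw [hmemNH, ← hc]
            exact hNn.conj_mem z hzN c
          have hcle : Subgroup.closure S ≤ Q := by
            rw [Subgroup.closure_le]
            intro x hx
            exact hNHQ (hSN x hx)
          have hnormal : (Subgroup.closure S).Normal := by
            have h1 : Subgroup.closure S = Subgroup.normalClosure S := by
              apply le_antisymm Subgroup.closure_le_normalClosure
              unfold Subgroup.normalClosure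
              apply Subgroup.closure_mono
              intro y hy
              rw [Group.mem_conjugatesOfSet_iff] at hy
              obtain ⟨x, hx, hxy⟩ := hy
              rw [hS] at hx ⊢
              obtain ⟨c, hc⟩ := isConj_iff.mp hxy
              have h2 : IsConj (x : G) (y : G) := by
                rw [isConj_iff]
                refine ⟨(c : G), ?_⟩
                rw [← hc]; simp
              exact hx.trans h2
            rw [h1]; exact Subgroup.normalClosure_normal
          rcases hirr _ hnormal hcle with e1 | e1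
          · exact e1
          · exfalso
            have h1 : (⟨t, htH'⟩ : ↥(Subgroup.centralizer ({z} : Set G))) ∈ Subgroup.closure S := by
              apply Subgroup.subset_closure
              rw [hS]
              show IsConj z t
              rw [isConj_iff]
              exact ⟨g, ht.symm⟩
            rcases hzpow _ (e1 _ h1) with e2 | e2
            · exact ht1 e2
            · exact htz e2
        · -- NH = ⊤
          intro x hx
          have h1 : QuotientGroup.mk' Q (⟨x, hx⟩ : ↥(Subgroup.centralizer ({z} : Set G))) ∈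
              NH.map (QuotientGroup.mk' Q) := by rw [e]; trivial
          obtain ⟨y, hy, hyx⟩ := h1
          have h2 : y⁻¹ * ⟨x, hx⟩ ∈ Q := by
            have := QuotientGroup.eq.mp hyx
            exact this
          have h3 : y * (y⁻¹ * ⟨x, hx⟩) ∈ NH := NH.mul_mem hy (hQNH h2)
          rw [mul_inv_cancel_left] at h3
          exact (hmemNH _).mp h3
      -- Frattini
      have hQ'2 : IsPGroup 2 ↥(Q.map (Subgroup.centralizer ({z} : Set G)).subtype) :=
        hQ.1.1.map _
      obtain ⟨T, hQT⟩ := hQ'2.exists_le_sylow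
      have hQT' : ∀ q ∈ Q, (q : G) ∈ (T : Subgroup G) := fun q hq => hQT ⟨q, hq, rfl⟩
      have hcenG : ∀ c : G, (∀ q ∈ Q, c * (q : G) = (q : G) * c) → c = 1 ∨ c = z := by
        intro c hc
        have hcz : c * z = z * c := hc ⟨z, hzH⟩ hzQ
        have hcH : c ∈ Subgroup.centralizer ({z} : Set G) := (hmemH c).mpr hcz
        apply hcenQ ⟨c, hcH⟩
        intro q hq
        apply Subtype.ext
        exact hc q hq
      have hzT : z ∈ (T : Subgroup G) := hQT' ⟨z, hzH⟩ hzQ
      have hnt : Nontrivial ↥(T : Subgroup G) := by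
        refine ⟨⟨⟨z, hzT⟩, 1, ?_⟩⟩
        intro e
        exact hz1 (congrArg (fun t : ↥(T : Subgroup G) => (t : G)) e)
      have hcen := IsPGroup.center_nontrivial (T.isPGroup')
      obtain ⟨c, hc1⟩ := exists_ne (1 : Subgroup.center ↥(T : Subgroup G))
      have hcT : ∀ s : ↥(T : Subgroup G), s * (c : ↥(T : Subgroup G)) = (c : ↥(T : Subgroup G)) * s :=
        fun s => Subgroup.mem_center_iff.mp c.2 s
      have hcz : ((c : ↥(T : Subgroup G)) : G) = z := by
        have hcen' : ∀ q ∈ Q, ((c : ↥(T : Subgroup G)) : G) * (q : G) =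
            (q : G) * ((c : ↥(T : Subgroup G)) : G) := by
          intro q hq
          have := hcT ⟨q, hQT' q hq⟩
          exact (congrArg (fun t : ↥(T : Subgroup G) => (t : G)) this).symm
        rcases hcenG _ hcen' with e | e
        · exfalso; apply hc1
          apply Subtype.ext; apply Subtype.ext; exact e
        · exact e
      have hTz : ∀ s ∈ (T : Subgroup G), s * z = z * s := by
        intro s hs
        have := hcT ⟨s, hs⟩
        rw [← hcz]
        exact congrArg (fun t : ↥(T : Subgroup G) => (t : G)) this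
      have hTH : (T : Subgroup G) ≤ Subgroup.centralizer ({z} : Set G) :=
        fun s hs => (hmemH s).mpr (hTz s hs)
      have hNT : Subgroup.normalizer ((T : Subgroup G) : Set G) ≤
          Subgroup.centralizer ({z} : Set G) := by
        intro n hn
        rw [hmemH]
        have hn' := Subgroup.mem_normalizer_iff.mp hn
        -- n z n⁻¹ centralizes Q
        have h1 : ∀ q ∈ Q, (n * z * n⁻¹) * (q : G) = (q : G) * (n * z * n⁻¹) := by
          intro q hq
          have h2 : n⁻¹ * (q : G) * n ∈ (T : Subgroup G) := by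
            rw [hn']
            have : n * (n⁻¹ * (q : G) * n) * n⁻¹ = (q : G) := by group
            rw [this]; exact hQT' q hq
          have h3 := hTz _ h2
          calc (n * z * n⁻¹) * (q : G) = n * (z * (n⁻¹ * (q : G) * n)) * n⁻¹ := by group
            _ = n * ((n⁻¹ * (q : G) * n) * z) * n⁻¹ := by rw [h3]
            _ = (q : G) * (n * z * n⁻¹) := by group
        rcases hcenG _ h1 with e | e
        · exfalso
          apply hz1
          have : z = n⁻¹ * (n * z * n⁻¹) * n := by group
          rw [this, e]; group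
        · calc n * z = (n * z * n⁻¹) * n := by group
            _ = z * n := by rw [e]
      have hTN : (T : Subgroup G) ≤ N := hTH.trans hHN
      have hfr := Sylow.normalizer_sup_eq_top' T hTN
      rw [eq_top_iff, ← hfr]
      exact sup_le (hNT.trans hHN) le_rfl
    · left
      -- NH ⊓ Q = ⊥
      have hW1 : ∀ y ∈ NH ⊓ Q, (y : G) = 1 := by
        intro y hy
        rcases hirr (NH ⊓ Q) hW1n inf_le_right with e | e
        · exfalso
          apply hzN
          have : (⟨z, hzH⟩ : ↥(Subgroup.centralizer ({z} : Set G))) ∈ NH ⊓ Q := by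
            rw [e]; exact hzQ
          exact (hmemNH _).mp this.1
        · rcases hzpow _ (e y hy) with e1 | e1
          · exact e1
          · exfalso; apply hzN
            rw [← e1]; exact (hmemNH _).mp hy.1
      have hfpf : ∀ x ∈ N, z * x = x * z → x = 1 := by
        intro x hx hxz
        have hxH : x ∈ Subgroup.centralizer ({z} : Set G) := (hmemH x).mpr hxz.symm
        have hxNH : (⟨x, hxH⟩ : ↥(Subgroup.centralizer ({z} : Set G))) ∈ NH := (hmemNH _).mpr hx
        have hcen : ∀ q ∈ Q, (⟨x, hxH⟩ : ↥(Subgroup.centralizer ({z} : Set G))) * q =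
            q * ⟨x, hxH⟩ := by
          intro q hq
          have h1 : (⟨x, hxH⟩ : ↥(Subgroup.centralizer ({z} : Set G))) * q * (⟨x, hxH⟩)⁻¹ * q⁻¹ ∈ Q :=
            Q.mul_mem (‹Q.Normal›.conj_mem q hq _) (Q.inv_mem hq)
          have h2 : (⟨x, hxH⟩ : ↥(Subgroup.centralizer ({z} : Set G))) * q * (⟨x, hxH⟩)⁻¹ * q⁻¹ ∈ NH := by
            have : (⟨x, hxH⟩ : ↥(Subgroup.centralizer ({z} : Set G))) * q * (⟨x, hxH⟩)⁻¹ * q⁻¹ =
                ⟨x, hxH⟩ * (q * (⟨x, hxH⟩)⁻¹ * q⁻¹) := by group
            rw [this]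
            exact NH.mul_mem hxNH (hNHn.conj_mem _ (NH.inv_mem hxNH) _)
          have h3 := hW1 _ ⟨h2, h1⟩
          apply Subtype.ext
          simp only [Subgroup.coe_mul, Subgroup.coe_inv] at h3 ⊢
          calc x * (q : G) = (x * (q : G) * x⁻¹ * (q : G)⁻¹) * ((q : G) * x) := by group
            _ = (q : G) * x := by rw [h3, one_mul]
        have hxQ : (⟨x, hxH⟩ : ↥(Subgroup.centralizer ({z} : Set G))) ∈ Q := by
          apply hCQ
          rw [Subgroup.mem_centralizer_iff]
          intro q hq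
          exact (hcen q hq).symm
        exact hW1 _ ⟨hxNH, hxQ⟩
      have hzNc : ∀ x ∈ N, z * x * z⁻¹ ∈ N := fun x hx => hNn.conj_mem x hx z
      have hinv := inverts_of_fixedPointFree N z hzsq hzNc hfpf
      apply hstep1 N hNn
      rw [← Nat.not_even_iff_odd, even_iff_two_dvd]
      intro h2
      obtain ⟨y, hy⟩ := exists_prime_orderOf_dvd_card' 2 h2
      have hy2 : (y : G) * (y : G) = 1 := by
        have := pow_orderOf_eq_one y
        rw [hy] at this
        have e1 := congrArg (fun t : ↥N => (t : G)) this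
        simpa [pow_two] using e1
      have hyinv : (y : G)⁻¹ = y := inv_eq_of_mul_eq_one_left hy2
      have h3 := hinv y y.2
      rw [hyinv] at h3
      have h4 : z * (y : G) = (y : G) * z := by
        calc z * (y : G) = (z * (y : G) * z⁻¹) * z := by group
          _ = (y : G) * z := by rw [h3]
      have h5 := hfpf y y.2 h4
      have h6 : y = 1 := Subtype.ext h5
      rw [h6, orderOf_one] at hy
      omega
  exact { exists_pair_ne := ⟨z, 1, hz1⟩, eq_bot_or_eq_top_of_normal := hstep2 }


end Cfsg.Agent.S5436
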