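import Cfsg.Statements.S5437
import Mathlib

set_option autoImplicit false
open Cfsg

namespace Cfsg.Agent.S5437

theorem mem_map_conj {G : Type*} [Group G] (H : Subgroup G) (g x : G) :
    x ∈ H.map (MulAut.conj g).toMonoidHom ↔ g⁻¹ * x * g ∈ H := by
  rw [Subgroup.mem_map]
  constructor
  · rintro ⟨h, hh, rfl⟩
    simp only [MulEquiv.coe_toMonoidHom, MulAut.conj_apply]
    have : g⁻¹ * (g * h * g⁻¹) * g = h := by group
    rw [this]; exact hh
  · intro h
    refine ⟨g⁻¹ * x * g, h, ?_⟩
    simp only [MulEquiv.coe_toMonoidHom, MulAut.conj_apply]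
    group

theorem fix_coset_iff {G : Type*} [Group G] (H : Subgroup G) (g x : G) :
    x • (QuotientGroup.mk g : G ⧸ H) = QuotientGroup.mk g ↔ g⁻¹ * x * g ∈ H := by
  rw [MulAction.Quotient.smul_mk, QuotientGroup.eq, smul_eq_mul]
  constructor
  · intro h
    have := H.inv_mem h
    have e : ((x * g)⁻¹ * g)⁻¹ = g⁻¹ * x * g := by group
    rwa [e] at this
  · intro h
    have := H.inv_mem h
    have e : (g⁻¹ * x * g)⁻¹ = (x * g)⁻¹ * g := by group
    rwa [e] at this

/-- Let I be a set of involutions of the finite group G closed under conjugation, and H a subgroup of G. The following are equivalent: (1) for every member x of I lying in H, the conjugates of x lying in H form a single H-class and the centralizer of x lies in H; (2) for every g outside H, no member of I lies in both H and g H g⁻¹; (3) every member of I lying in H fixes exactly one coset in the action of G on the cosets of H. -/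
theorem result {G : Type*} [Group G] [Finite G] (I : Set G) (hI : ∀ x ∈ I, orderOf x = 2) (hIc : ∀ g : G, ∀ x ∈ I, g * x * g⁻¹ ∈ I) (H : Subgroup G) : ((∀ x ∈ I, x ∈ H → (∀ g : G, g * x * g⁻¹ ∈ H → ∃ h ∈ H, h * x * h⁻¹ = g * x * g⁻¹) ∧ Subgroup.centralizer ({x} : Set G) ≤ H) ↔ (∀ g : G, g ∉ H → ∀ x ∈ I, ¬ (x ∈ H ∧ x ∈ (H : Subgroup G).map (MulAut.conj g).toMonoidHom))) ∧ ((∀ g : G, g ∉ H → ∀ x ∈ I, ¬ (x ∈ H ∧ x ∈ (H : Subgroup G).map (MulAut.conj g).toMonoidHom)) ↔ ∀ x ∈ I, x ∈ H → ∃! c : G ⧸ H, x • c = c) := by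
  refine ⟨⟨?_, ?_⟩, ⟨?_, ?_⟩⟩
  · -- (1) → (2)
    intro h1 g hg x hxI ⟨hxH, hxg⟩
    rw [mem_map_conj] at hxg
    obtain ⟨hcl, hcen⟩ := h1 x hxI hxH
    have hxg' : g⁻¹ * x * g⁻¹⁻¹ ∈ H := by rwa [inv_inv]
    obtain ⟨h, hh, he⟩ := hcl g⁻¹ hxg'
    rw [inv_inv] at he
    -- g * h centralizes x
    have hc : g * h ∈ Subgroup.centralizer ({x} : Set G) := by
      rw [Subgroup.mem_centralizer_iff]
      intro t ht
      rw [Set.mem_singleton_iff] at ht
      subst ht
      -- t * (g h) = (g h) * t
      have e1 : g * (h * t * h⁻¹) * g⁻¹ = t := by rw [he]; group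
      calc t * (g * h) = (g * (h * t * h⁻¹) * g⁻¹) * (g * h) := by rw [e1]
        _ = g * h * t := by group
    have := hcen hc
    apply hg
    have e : g = (g * h) * h⁻¹ := by group
    rw [e]
    exact H.mul_mem this (H.inv_mem hh)
  · -- (2) → (1)
    intro h2 x hxI hxH
    refine ⟨?_, ?_⟩
    · intro g hgx
      by_cases hg : g ∈ H
      · exact ⟨g, hg, rfl⟩
      · exfalso
        apply h2 g hg (g * x * g⁻¹) (hIc g x hxI)
        refine ⟨hgx, ?_⟩
        rw [mem_map_conj]
        have : g⁻¹ * (g * x * g⁻¹) * g = x := by group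
        rw [this]; exact hxH
    · intro g hg
      by_contra hgH
      apply h2 g hgH x hxI
      refine ⟨hxH, ?_⟩
      rw [mem_map_conj]
      have := Subgroup.mem_centralizer_iff.1 hg x (Set.mem_singleton x)
      -- this : x * g = g * x
      have e : g⁻¹ * x * g = x := by
        rw [mul_assoc, this, ← mul_assoc, inv_mul_cancel, one_mul]
      rw [e]; exact hxH
  · -- (2) → (3)
    intro h2 x hxI hxH
    refine ⟨(QuotientGroup.mk 1 : G ⧸ H), ?_, ?_⟩
    · show x • (QuotientGroup.mk 1 : G ⧸ H) = QuotientGroup.mk 1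
      rw [fix_coset_iff]
      simpa using hxH
    · intro c
      induction c using Quotient.inductionOn' with
      | h g =>
        intro hc
        have hc' : x • (QuotientGroup.mk g : G ⧸ H) = QuotientGroup.mk g := hc
        rw [fix_coset_iff] at hc'
        show (QuotientGroup.mk g : G ⧸ H) = QuotientGroup.mk 1
        by_contra hne
        have hg : g ∉ H := by
          intro hg
          apply hne
          rw [QuotientGroup.eq]
          simpa using H.inv_mem hg
        apply h2 g hg x hxI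
        exact ⟨hxH, (mem_map_conj H g x).2 hc'⟩
  · -- (3) → (2)
    intro h3 g hg x hxI ⟨hxH, hxg⟩
    rw [mem_map_conj] at hxg
    obtain ⟨c, _, hcu⟩ := h3 x hxI hxH
    have e1 : (QuotientGroup.mk 1 : G ⧸ H) = c := by
      apply hcu
      show x • (QuotientGroup.mk 1 : G ⧸ H) = QuotientGroup.mk 1
      rw [fix_coset_iff]
      simpa using hxH
    have e2 : (QuotientGroup.mk g : G ⧸ H) = c := by
      apply hcu
      show x • (QuotientGroup.mk g : G ⧸ H) = QuotientGroup.mk g
      rw [fix_coset_iff]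
      exact hxg
    have := e1.trans e2.symm
    rw [QuotientGroup.eq] at this
    apply hg
    simpa using this

end Cfsg.Agent.S5437
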