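import Cfsg.Statements.S5438
import Cfsg.Agent.Helper9.SylowSub

set_option autoImplicit false
open Cfsg

namespace Cfsg.Agent.S5438

theorem orderOf_conj_eq {G : Type*} [Group G] (g x : G) : orderOf (g * x * g⁻¹) = orderOf x := by
  have := MulEquiv.orderOf_eq (MulAut.conj g) x
  rwa [MulAut.conj_apply] at this

/-- Let z be a 2-central involution of the finite group G (an involution central in some Sylow 2-subgroup) and H a subgroup containing z such that the coset H is the only coset of H fixed by z (in the action of G on the cosets of H). Then H has odd index in G, and for every 2-element x of H the conjugates of x lying in H form a single H-class. -/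
theorem result {G : Type*} [Group G] [Finite G] (z : G) (hz : Cfsg.IsTwoCentralInvolution z) (H : Subgroup G) (hzH : z ∈ H) (hfix : ∀ g : G, g⁻¹ * z * g ∈ H → g ∈ H) : Odd H.index ∧ ∀ x ∈ H, (∃ k : ℕ, orderOf x = 2 ^ k) → ∀ g : G, g * x * g⁻¹ ∈ H → ∃ h ∈ H, h * x * h⁻¹ = g * x * g⁻¹ := by
  have : Fact (Nat.Prime 2) := ⟨Nat.prime_two⟩
  obtain ⟨hz2, S, hzS, hSz⟩ := hz
  have hSH : (S : Subgroup G) ≤ H := by
    intro s hs
    apply hfix
    have : s * z = z * s := hSz s hs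
    have e : s⁻¹ * z * s = z := by
      calc s⁻¹ * z * s = s⁻¹ * (z * s) := by group
        _ = s⁻¹ * (s * z) := by rw [this]
        _ = z := by group
    rw [e]; exact hzH
  refine ⟨?_, ?_⟩
  · have h1 : H.index ∣ (S : Subgroup G).index := Subgroup.index_dvd_of_le hSH
    have h2 : ¬ 2 ∣ (S : Subgroup G).index := S.not_dvd_index
    rw [← Nat.not_even_iff_odd, even_iff_two_dvd]
    intro h3
    exact h2 (dvd_trans h3 h1)
  · intro x hxH hx2 g hgx
    set y : G := g * x * g⁻¹ with hy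
    have hy2 : ∃ k : ℕ, orderOf y = 2 ^ k := by
      obtain ⟨k, hk⟩ := hx2
      exact ⟨k, by rw [hy, orderOf_conj_eq, hk]⟩
    -- conjugate x and y into S inside H
    have key : ∀ u ∈ H, (∃ k : ℕ, orderOf u = 2 ^ k) → ∃ h ∈ H, h * u * h⁻¹ ∈ (S : Subgroup G) := by
      intro u hu hu2
      obtain ⟨h, hh, hhu⟩ := Cfsg.Agent.Helper9.conj_into_sylow_of_subgroup H (S.subtype hSH) u hu hu2
      refine ⟨h, hh, ?_⟩
      obtain ⟨w, hw, hwe⟩ := hhu
      rw [Sylow.coe_subtype] at hw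
      have : (w : G) ∈ (S : Subgroup G) := Subgroup.mem_subgroupOf.mp hw
      rw [← hwe]; exact this
    obtain ⟨h₁, hh₁, hx'⟩ := key x hxH hx2
    obtain ⟨h₂, hh₂, hy'⟩ := key y hgx hy2
    set x' : G := h₁ * x * h₁⁻¹ with hx'def
    set y' : G := h₂ * y * h₂⁻¹ with hy'def
    set g' : G := h₂ * g * h₁⁻¹ with hg'def
    have hyx : y' = g' * x' * g'⁻¹ := by
      rw [hy'def, hg'def, hx'def, hy]; group
    have hx'z : x' * z = z * x' := hSz x' hx'
    have hy'z : y' * z = z * y' := hSz y' hy'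
    -- work in the centralizer of y'
    have hzC : z ∈ Subgroup.centralizer ({y'} : Set G) :=
      Subgroup.mem_centralizer_singleton_iff.mpr hy'z.symm
    have hgzC : g' * z * g'⁻¹ ∈ Subgroup.centralizer ({y'} : Set G) := by
      rw [Subgroup.mem_centralizer_singleton_iff, hyx]
      calc g' * z * g'⁻¹ * (g' * x' * g'⁻¹) = g' * (z * x') * g'⁻¹ := by group
        _ = g' * (x' * z) * g'⁻¹ := by rw [hx'z]
        _ = g' * x' * g'⁻¹ * (g' * z * g'⁻¹) := by group
    have hz2' : ∃ k : ℕ, orderOf z = 2 ^ k := ⟨1, by rw [hz2, pow_one]⟩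
    have hgz2 : ∃ k : ℕ, orderOf (g' * z * g'⁻¹) = 2 ^ k :=
      ⟨1, by rw [orderOf_conj_eq, hz2, pow_one]⟩
    obtain ⟨R, _, hR2, hzR, c, hcC, hcR⟩ :=
      Cfsg.Agent.Helper9.exists_common_two_subgroup (Subgroup.centralizer ({y'} : Set G))
        z (g' * z * g'⁻¹) hzC hgzC hz2' hgz2
    obtain ⟨k, hk⟩ := Cfsg.Agent.Helper9.exists_conj_le_sylow S R hR2
    have hkH : k ∈ H := hfix k (hSH (hk z hzR))
    have hcg : c * g' ∈ H := by
      have h1 : k⁻¹ * (c * (g' * z * g'⁻¹) * c⁻¹) * k ∈ H := hSH (hk _ hcR)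
      have e : k⁻¹ * (c * (g' * z * g'⁻¹) * c⁻¹) * k
          = ((c * g')⁻¹ * k)⁻¹ * z * ((c * g')⁻¹ * k) := by group
      rw [e] at h1
      have h2 : (c * g')⁻¹ * k ∈ H := hfix _ h1
      have h3 : (c * g')⁻¹ ∈ H := by
        have := H.mul_mem h2 (H.inv_mem hkH)
        simpa [mul_assoc] using this
      exact (H.inv_mem_iff).mp h3
    have hcy : c * y' = y' * c := (Subgroup.mem_centralizer_singleton_iff.mp hcC)
    refine ⟨h₂⁻¹ * (c * g') * h₁, H.mul_mem (H.mul_mem (H.inv_mem hh₂) hcg) hh₁, ?_⟩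
    calc h₂⁻¹ * (c * g') * h₁ * x * (h₂⁻¹ * (c * g') * h₁)⁻¹
        = h₂⁻¹ * (c * (g' * (h₁ * x * h₁⁻¹) * g'⁻¹) * c⁻¹) * h₂ := by group
      _ = h₂⁻¹ * (c * y' * c⁻¹) * h₂ := by rw [← hx'def, ← hyx]
      _ = h₂⁻¹ * (y' * c * c⁻¹) * h₂ := by rw [hcy]
      _ = y := by rw [hy'def]; group

end Cfsg.Agent.S5438
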