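import Cfsg.Statements.S5439
import Cfsg.Agent.Helper9.Dihedral
import Cfsg.Agent.Helper9.Invol
import Cfsg.Agent.Helper9.Coset

set_option autoImplicit false
open Cfsg

namespace Cfsg.Agent.S5439

/-- Let I and J be two different conjugacy classes of involutions of the finite group G and H a subgroup such that every member of I ∪ J fixes exactly one coset in the action on the cosets of H, and such that for every a in I ∩ H and every b in (I ∪ J) ∩ H different from a and commuting with it, the centralizer of a b lies in H. Then H = G. -/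
theorem result {G : Type*} [Group G] [Finite G] (I J : Set G) (a₀ b₀ : G) (ha₀ : orderOf a₀ = 2) (hb₀ : orderOf b₀ = 2) (hI : I = {x | IsConj a₀ x}) (hJ : J = {x | IsConj b₀ x}) (hIJ : I ≠ J) (H : Subgroup G) (hfix : ∀ x ∈ I ∪ J, ∃! c : G ⧸ H, x • c = c) (hcent : ∀ a ∈ I, a ∈ H → ∀ b ∈ I ∪ J, b ∈ H → a ≠ b → a * b = b * a → Subgroup.centralizer ({a * b} : Set G) ≤ H) : H = ⊤ := by
  subst hI hJ
  have ha₀2 : a₀ * a₀ = 1 := Cfsg.Agent.Helper9.mul_self_of_orderOf_two ha₀
  have hb₀2 : b₀ * b₀ = 1 := Cfsg.Agent.Helper9.mul_self_of_orderOf_two hb₀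
  have hI2 : ∀ x, IsConj a₀ x → x * x = 1 := by
    intro x hx
    obtain ⟨g, rfl⟩ := isConj_iff.mp hx
    exact Cfsg.Agent.Helper9.conj_mul_self ha₀2 g
  have hJ2 : ∀ x, IsConj b₀ x → x * x = 1 := by
    intro x hx
    obtain ⟨g, rfl⟩ := isConj_iff.mp hx
    exact Cfsg.Agent.Helper9.conj_mul_self hb₀2 g
  have hIc : ∀ x, IsConj a₀ x → ∀ g : G, IsConj a₀ (g * x * g⁻¹) := fun x hx g =>
    hx.trans (isConj_iff.mpr ⟨g, rfl⟩)
  have hJc : ∀ x, IsConj b₀ x → ∀ g : G, IsConj b₀ (g * x * g⁻¹) := fun x hx g =>
    hx.trans (isConj_iff.mpr ⟨g, rfl⟩)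
  -- Claim A
  have claimA : ∀ a, IsConj a₀ a → a ∈ H → ∀ b, IsConj b₀ b → b ∈ H := by
    intro a ha haH b hb
    have ha2 := hI2 a ha
    have hb2 := hJ2 b hb
    have hai : a⁻¹ = a := inv_eq_of_mul_eq_one_left ha2
    have hbi : b⁻¹ = b := inv_eq_of_mul_eq_one_left hb2
    set r : G := a * b with hr
    have hNpos : 0 < orderOf r := orderOf_pos r
    have key1 : ∀ k : ℕ, a * (r ^ k)⁻¹ = r ^ k * a := by
      intro k
      have h := Cfsg.Agent.Helper9.invol_left_conj_pow ha2 hb2 k
      rw [← hr] at h
      rw [← h]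
      calc a * (a * r ^ k * a) = (a * a) * r ^ k * a := by simp only [mul_assoc]
        _ = r ^ k * a := by rw [ha2, one_mul]
    rcases Nat.even_or_odd' (orderOf r) with ⟨m, hm | hm⟩
    · -- even order
      have hm0 : m ≠ 0 := by
        intro h; rw [h] at hm; omega
      have hmlt : m < orderOf r := by omega
      set u : G := r ^ m with hu
      have hu1 : u ≠ 1 := pow_ne_one_of_lt_orderOf hm0 hmlt
      have huu : u * u = 1 := by
        rw [hu, ← pow_add, ← two_mul, ← hm, pow_orderOf_eq_one]
      have hui : u⁻¹ = u := inv_eq_of_mul_eq_one_left huu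
      have hau : a * u * a = u := by
        have h := Cfsg.Agent.Helper9.invol_left_conj_pow ha2 hb2 m
        rw [← hr, ← hu, hui] at h
        exact h
      have hbu : b * u * b = u := by
        have h := Cfsg.Agent.Helper9.invol_right_conj_pow ha2 hb2 m
        rw [← hr, ← hu, hui] at h
        exact h
      have hau' : a * u = u * a := by
        calc a * u = a * u * (a * a) := by rw [ha2, mul_one]
          _ = (a * u * a) * a := by simp only [mul_assoc]
          _ = u * a := by rw [hau]
      have hbu' : b * u = u * b := by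
        calc b * u = b * u * (b * b) := by rw [hb2, mul_one]
          _ = (b * u * b) * b := by simp only [mul_assoc]
          _ = u * b := by rw [hbu]
      have huH : u ∈ H := by
        apply Cfsg.Agent.Helper9.mem_of_unique_fix haH (hfix a (Or.inl ha))
        have e : u⁻¹ * a * u = a := by
          rw [mul_assoc, hau', ← mul_assoc, inv_mul_cancel, one_mul]
        rw [e]; exact haH
      have huaIJ : u * a ∈ {x | IsConj a₀ x} ∪ {x | IsConj b₀ x} := by
        rcases Nat.even_or_odd' m with ⟨k, hk | hk⟩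
        · left
          have e : u * a = r ^ k * a * (r ^ k)⁻¹ := by
            rw [mul_assoc, key1 k, ← mul_assoc, ← pow_add, ← two_mul, ← hk]
          show IsConj a₀ (u * a)
          rw [e]
          exact hIc a ha _
        · right
          have e : u * a = r ^ k * (a * b * a⁻¹) * (r ^ k)⁻¹ := by
            rw [hai]
            calc u * a = r ^ k * r * r ^ k * a := by
                  rw [hu, hk, ← pow_succ, ← pow_add]
                  congr 2; omega
              _ = r ^ k * r * (a * (r ^ k)⁻¹) := by rw [key1 k]; simp only [mul_assoc]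
              _ = r ^ k * (a * b * a) * (r ^ k)⁻¹ := by rw [hr]; simp only [mul_assoc]
          show IsConj b₀ (u * a)
          rw [e]
          exact hJc _ (hJc b hb a) _
      have hne : a ≠ u * a := by
        intro h
        apply hu1
        have : u * a = 1 * a := by rw [one_mul]; exact h.symm
        exact mul_right_cancel this
      have hcomm : a * (u * a) = (u * a) * a := by
        rw [← mul_assoc, hau, mul_assoc, ha2, mul_one]
      have hc := hcent a ha haH (u * a) huaIJ (H.mul_mem huH haH) hne hcomm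
      have e : a * (u * a) = u := by rw [← mul_assoc, hau]
      rw [e] at hc
      apply hc
      rw [Subgroup.mem_centralizer_singleton_iff]
      exact hbu'
    · -- odd order: a and b are conjugate, contradiction
      exfalso
      apply hIJ
      have hab : IsConj a b := by
        rw [isConj_iff]
        refine ⟨a * r ^ (m + 1), ?_⟩
        have h1 : r ^ (m + 1) * r ^ (m + 1) = r := by
          rw [← pow_add]
          have : m + 1 + (m + 1) = orderOf r + 1 := by omega
          rw [this, pow_succ, pow_orderOf_eq_one, one_mul]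
        calc a * r ^ (m + 1) * a * (a * r ^ (m + 1))⁻¹
            = a * (r ^ (m + 1) * a) * (r ^ (m + 1))⁻¹ * a⁻¹ := by rw [mul_inv_rev]; simp only [mul_assoc]
          _ = a * (a * (r ^ (m + 1))⁻¹) * (r ^ (m + 1))⁻¹ * a⁻¹ := by rw [key1]
          _ = (a * a) * (r ^ (m + 1) * r ^ (m + 1))⁻¹ * a⁻¹ := by rw [mul_inv_rev]; simp only [mul_assoc]
          _ = b := by rw [ha2, one_mul, h1, hr, mul_inv_rev, hai, hbi, mul_assoc, ha2, mul_one]
      have h0 : IsConj a₀ b₀ := (ha.trans hab).trans hb.symm
      ext x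
      constructor
      · intro hx; exact h0.symm.trans hx
      · intro hx; exact h0.trans hx
  -- an element of I in H
  obtain ⟨c, hc, _⟩ := hfix a₀ (Or.inl (IsConj.refl a₀))
  obtain ⟨g₁, hg₁⟩ := Cfsg.Agent.Helper9.exists_conj_mem_of_fix ⟨c, hc⟩
  have ha₁ : IsConj a₀ (g₁⁻¹ * a₀ * g₁) := by
    have := hIc a₀ (IsConj.refl a₀) g₁⁻¹
    rwa [inv_inv] at this
  have hJH : ∀ b, IsConj b₀ b → b ∈ H := claimA _ ha₁ hg₁
  rw [eq_top_iff]
  intro g _
  apply Cfsg.Agent.Helper9.mem_of_unique_fix (hJH b₀ (IsConj.refl b₀))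
    (hfix b₀ (Or.inr (IsConj.refl b₀)))
  apply hJH
  have := hJc b₀ (IsConj.refl b₀) g⁻¹
  rwa [inv_inv] at this

end Cfsg.Agent.S5439
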