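import Cfsg.Statements.S5515
import Cfsg.Agent.S1265
import Cfsg.Agent.S2608
import Cfsg.Agent.Helper7.StZ
import Cfsg.Agent.Helper7.D4OK
import Cfsg.Agent.Helper9.AutEmb
import Cfsg.Agent.Helper9.S4Six

set_option autoImplicit false
open Cfsg

namespace Cfsg.Agent.S5515

/-- `PΩ⁺₈(3)` has trivial centre (it is the Chevalley group `D₄(3)`). -/
theorem s5515_center :
    Subgroup.center (Cfsg.POmega (ZMod 3) (Cfsg.quadFormPlus 4 (ZMod 3))) = ⊥ := by
  obtain ⟨e0⟩ := Cfsg.Agent.Helper7.D4O.d4_equiv_pomega (F := ZMod 3)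
  have h := Cfsg.Agent.Helper7.St.center_group_eq_bot (D := Cfsg.Lie.chevD4) (K := ZMod 3)
    (by simp)
  rw [Subgroup.eq_bot_iff_forall]
  intro z hz
  have h1 : e0.symm z ∈ Subgroup.center ↥(Cfsg.Lie.chevD4.group (ZMod 3)) := by
    rw [Subgroup.mem_center_iff] at hz ⊢
    intro g
    have h2 := hz (e0 g)
    apply e0.injective
    rw [map_mul, map_mul, MulEquiv.apply_symm_apply]
    exact h2
  rw [h, Subgroup.mem_bot] at h1
  have h3 := congrArg e0 h1
  rwa [MulEquiv.apply_symm_apply, map_one] at h3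

/-- `Out(PΩ⁺₈(3)) ≅ Sym 4`. -/
theorem s5515_out :
    Nonempty (Cfsg.Out (Cfsg.POmega (ZMod 3) (Cfsg.quadFormPlus 4 (ZMod 3))) ≃*
      Equiv.Perm (Fin 4)) := by
  haveI : Fact (Nat.Prime 3) := ⟨by norm_num⟩
  have hO := Cfsg.Agent.S2608.result (F := ZMod 3) (p := 3) (f := 1) (m := 4) le_rfl
    (by rw [ZMod.card, pow_one]) (by norm_num) le_rfl
  rw [if_pos rfl] at hO
  obtain ⟨o⟩ := hO
  haveI : Subsingleton (Multiplicative (ZMod 1)) :=
    inferInstanceAs (Subsingleton (Multiplicative (Fin 1)))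
  haveI : Unique (Multiplicative (ZMod 1)) := ⟨⟨1⟩, fun a => Subsingleton.elim _ _⟩
  exact ⟨o.trans MulEquiv.prodUnique⟩

/-- Let G and G′ be finite groups whose generalized Fitting subgroups are isomorphic to PΩ⁺(8, 3) (the commutator subgroup of the isometry group of the hyperbolic quadratic form in dimension 8 over the field with three elements, modulo its centre) with quotients isomorphic to the symmetric group of degree 3. Then G and G′ are isomorphic. -/
theorem result {G G' : Type*} [Group G] [Finite G] [Group G'] [Finite G'] (hF : Nonempty (↥(Cfsg.generalizedFittingSubgroup G) ≃* Cfsg.POmega (ZMod 3) (Cfsg.quadFormPlus 4 (ZMod 3)))) (hF' : Nonempty (↥(Cfsg.generalizedFittingSubgroup G') ≃* Cfsg.POmega (ZMod 3) (Cfsg.quadFormPlus 4 (ZMod 3)))) [hn : (Cfsg.generalizedFittingSubgroup G).Normal] [hn' : (Cfsg.generalizedFittingSubgroup G').Normal] (hq : Nonempty (G ⧸ Cfsg.generalizedFittingSubgroup G ≃* Equiv.Perm (Fin 3))) (hq' : Nonempty (G'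 ⧸ Cfsg.generalizedFittingSubgroup G' ≃* Equiv.Perm (Fin 3))) : Nonempty (G ≃* G') := by
  obtain ⟨e⟩ := hF
  obtain ⟨e'⟩ := hF'
  obtain ⟨q⟩ := hq
  obtain ⟨q'⟩ := hq'
  obtain ⟨o⟩ := s5515_out
  have hZ := s5515_center
  have hC : Subgroup.centralizer (Cfsg.generalizedFittingSubgroup G : Set G) ≤
      Cfsg.generalizedFittingSubgroup G := Cfsg.Agent.S1265.result
  have hC' : Subgroup.centralizer (Cfsg.generalizedFittingSubgroup G' : Set G') ≤
      Cfsg.generalizedFittingSubgroup G' := Cfsg.Agent.S1265.result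
  have h6 : Nat.card (Equiv.Perm (Fin 3)) = 6 := by
    rw [Nat.card_eq_fintype_card, Fintype.card_perm, Fintype.card_fin]
    rfl
  have hc : Nat.card (Cfsg.Agent.Helper9.AutEmb.aePsi (Cfsg.generalizedFittingSubgroup G) e).range
      = 6 := by
    rw [Cfsg.Agent.Helper9.AutEmb.card_aePsi_range _ e hZ hC, Nat.card_congr q.toEquiv, h6]
  have hc' : Nat.card
      (Cfsg.Agent.Helper9.AutEmb.aePsi (Cfsg.generalizedFittingSubgroup G') e').range = 6 := by
    rw [Cfsg.Agent.Helper9.AutEmb.card_aePsi_range _ e' hZ hC', Nat.card_congr q'.toEquiv, h6]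
  obtain ⟨x, hx⟩ := Cfsg.Agent.Helper9.S4Six.conj_of_card_six' o _ _ hc hc'
  exact Cfsg.Agent.Helper9.AutEmb.iso_of_conj hZ _ e hC _ e' hC' x hx

end Cfsg.Agent.S5515
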