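import Mathlib
import Cfsg.Statements.S5541
-- import your own Cfsg.Agent.* helpers here

set_option autoImplicit false
open Cfsg

namespace Cfsg.Agent.S5541

/-- Let ρ be a representation of a group H on a finite-dimensional real vector space U whose only ρ-invariant subspaces are the zero subspace and U, and suppose U carries a non-zero ρ-invariant symmetric bilinear form. Then the following are equivalent: (1) there is a non-zero ρ-equivariant commutative bilinear product on U of which every ρ-equivariant bilinear product is a scalar multiple; (2) there is a non-zero ρ-invariant trilinear form on U that is symmetric under all permutations of its arguments and of which every ρ-invariant trilinear form is a scalar multiple. -/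
theorem result {H : Type*} [Group H] {U : Type*} [AddCommGroup U] [Module ℝ U] [FiniteDimensional ℝ U] (ρ : Representation ℝ H U) (hirr : ∀ W : Submodule ℝ U, (∀ g : H, W.map (ρ g) ≤ W) → W = ⊥ ∨ W = ⊤) (B : LinearMap.BilinForm ℝ U) (hB0 : B ≠ 0) (hBs : ∀ u v, B u v = B v u) (hBi : ∀ (g : H) (u v : U), B (ρ g u) (ρ g v) = B u v) : (∃ m : U →ₗ[ℝ] U →ₗ[ℝ] U, m ≠ 0 ∧ (∀ u v, m u v = m v u) ∧ (∀ (g : H) (u v : U), m (ρ g u) (ρ g v) = ρ g (m u v)) ∧ ∀ m' : U →ₗ[ℝ] U →ₗ[ℝ] U, (∀ (g : H) (u v : U), m' (ρ g u) (ρ g v) = ρ g (m' u v)) → ∃ c : ℝ, m' = c • m) ↔ (∃ t : U →ₗ[ℝ] U →ₗ[ℝ] U →ₗ[ℝ] ℝ, t ≠ 0 ∧ (∀ u v w, t u v w = t v u w ∧ t u v w = t u w v) ∧ (∀ (g : H) (u v w : U), t (ρ g u) (ρ g v) (ρ g w) = t u v w) ∧ ∀ t' : U →ₗ[ℝ] U →ₗ[ℝ] U →ₗ[ℝ] ℝ, (∀ (g : H) (u v w : U), t' (ρ g u) (ρ g v) (ρ g w) = t' u v w) → ∃ c : ℝ, t' = c • t) := by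
  classical
  -- nondegeneracy of B
  have hgg : ∀ (g : H) (y : U), ρ g (ρ g⁻¹ y) = y := by
    intro g y
    rw [← Module.End.mul_apply, ← map_mul, mul_inv_cancel, map_one, Module.End.one_apply]
  have hsep : ∀ x : U, (∀ y, B x y = 0) → x = 0 := by
    intro x hx
    have hK : ∀ g : H, (LinearMap.ker B).map (ρ g) ≤ LinearMap.ker B := by
      rintro g _ ⟨x, hx, rfl⟩
      rw [SetLike.mem_coe, LinearMap.mem_ker] at hx
      rw [LinearMap.mem_ker]
      ext y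
      rw [← hgg g y, hBi, hx]
      rfl
    rcases hirr _ hK with h | h
    · have hxk : x ∈ LinearMap.ker B := by
        rw [LinearMap.mem_ker]
        ext y
        exact hx y
      rw [h] at hxk
      exact (Submodule.mem_bot ℝ).mp hxk
    · exfalso
      apply hB0
      ext u v
      have hu : u ∈ LinearMap.ker B := by rw [h]; trivial
      rw [LinearMap.mem_ker] at hu
      rw [hu]
      rfl
  have hnd : B.Nondegenerate := ⟨hsep, fun y hy => hsep y (fun x => by rw [hBs]; exact hy x)⟩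
  have hinj : ∀ x y : U, (∀ w, B x w = B y w) → x = y := by
    intro x y h
    have := hsep (x - y) (fun w => by rw [map_sub, LinearMap.sub_apply, h w, sub_self])
    exact sub_eq_zero.mp this
  -- the correspondence
  let Φ : (U →ₗ[ℝ] U →ₗ[ℝ] U) → (U →ₗ[ℝ] U →ₗ[ℝ] U →ₗ[ℝ] ℝ) := fun m => m.compr₂ B
  let Ψ : (U →ₗ[ℝ] U →ₗ[ℝ] U →ₗ[ℝ] ℝ) → (U →ₗ[ℝ] U →ₗ[ℝ] U) :=
    fun t => t.compr₂ ((B.toDual hnd).symm : Module.Dual ℝ U →ₗ[ℝ] U)
  have hΦ : ∀ m u v w, Φ m u v w = B (m u v) w := fun m u v w => rfl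
  have hΨ : ∀ t u v w, B (Ψ t u v) w = t u v w := by
    intro t u v w
    change B ((B.toDual hnd).symm (t u v)) w = t u v w
    rw [LinearMap.BilinForm.apply_toDual_symm_apply]
  have F1 : ∀ m : U →ₗ[ℝ] U →ₗ[ℝ] U, (∀ (g : H) (u v : U), m (ρ g u) (ρ g v) = ρ g (m u v)) →
      ∀ (g : H) (u v w : U), Φ m (ρ g u) (ρ g v) (ρ g w) = Φ m u v w := by
    intro m hm g u v w
    rw [hΦ, hΦ, hm, hBi]
  have F2 : ∀ t : U →ₗ[ℝ] U →ₗ[ℝ] U →ₗ[ℝ] ℝ,
      (∀ (g : H) (u v w : U), t (ρ g u) (ρ g v) (ρ g w) = t u v w) →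
      ∀ (g : H) (u v : U), Ψ t (ρ g u) (ρ g v) = ρ g (Ψ t u v) := by
    intro t ht g u v
    apply hinj
    intro w
    rw [hΨ]
    have e1 : t (ρ g u) (ρ g v) w = t u v (ρ g⁻¹ w) := by
      rw [← ht g u v (ρ g⁻¹ w), hgg]
    have e2 : B (ρ g (Ψ t u v)) w = B (Ψ t u v) (ρ g⁻¹ w) := by
      rw [← hBi g (Ψ t u v) (ρ g⁻¹ w), hgg]
    rw [e1, e2, hΨ]
  have ext3 : ∀ t t' : U →ₗ[ℝ] U →ₗ[ℝ] U →ₗ[ℝ] ℝ, (∀ u v w, t u v w = t' u v w) → t = t' := by
    intro t t' h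
    ext u v w
    exact h u v w
  have ext2 : ∀ m m' : U →ₗ[ℝ] U →ₗ[ℝ] U, (∀ u v w, B (m u v) w = B (m' u v) w) → m = m' := by
    intro m m' h
    ext u v
    exact hinj _ _ (h u v)
  constructor
  · rintro ⟨m, hm0, hmc, hme, hmu⟩
    have ht0 : Φ m ≠ 0 := by
      intro h
      apply hm0
      apply ext2
      intro u v w
      rw [← hΦ, h]
      simp
    have huniv : ∀ t' : U →ₗ[ℝ] U →ₗ[ℝ] U →ₗ[ℝ] ℝ,
        (∀ (g : H) (u v w : U), t' (ρ g u) (ρ g v) (ρ g w) = t' u v w) → ∃ c : ℝ, t' = c • Φ m := by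
      intro t' ht'
      obtain ⟨c, hc⟩ := hmu (Ψ t') (F2 t' ht')
      refine ⟨c, ?_⟩
      apply ext3
      intro u v w
      rw [← hΨ t' u v w, hc]
      simp only [LinearMap.smul_apply, map_smul, hΦ, smul_eq_mul]
    have hs12 : ∀ u v w, Φ m u v w = Φ m v u w := by
      intro u v w
      rw [hΦ, hΦ, hmc]
    -- the form with the last two arguments exchanged
    let t' : U →ₗ[ℝ] U →ₗ[ℝ] U →ₗ[ℝ] ℝ :=
      ((LinearMap.lflip : (U →ₗ[ℝ] U →ₗ[ℝ] ℝ) ≃ₗ[ℝ] (U →ₗ[ℝ] U →ₗ[ℝ] ℝ)) : (U →ₗ[ℝ] U →ₗ[ℝ] ℝ) →ₗ[ℝ] (U →ₗ[ℝ] U →ₗ[ℝ] ℝ)) ∘ₗ (Φ m)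
    have ht' : ∀ u v w, t' u v w = Φ m u w v := fun u v w => rfl
    obtain ⟨c, hc⟩ := huniv t' (by
      intro g u v w
      rw [ht', ht', F1 m hme])
    have hc' : ∀ u v w, Φ m u w v = c * Φ m u v w := by
      intro u v w
      rw [← ht', hc]
      simp only [LinearMap.smul_apply, smul_eq_mul]
    have hex : ∃ u v w, Φ m u v w ≠ 0 := by
      by_contra hno
      push Not at hno
      apply ht0
      apply ext3
      intro u v w
      rw [hno]
      simp
    obtain ⟨u₀, v₀, w₀, hne⟩ := hex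
    have hcc : c * c = 1 := by
      have h1 := hc' u₀ v₀ w₀
      have h2 := hc' u₀ w₀ v₀
      rw [h1] at h2
      have : (c * c - 1) * Φ m u₀ v₀ w₀ = 0 := by linarith
      rcases mul_eq_zero.mp this with h | h
      · linarith
      · exact absurd h hne
    have hc1 : c = 1 := by
      have h3 : (c - 1) * (c + 1) = 0 := by ring_nf; linarith
      rcases mul_eq_zero.mp h3 with h | h
      · linarith
      · exfalso
        have hcm : c = -1 := by linarith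
        subst hcm
        have h23 : ∀ u v w, Φ m u w v = -Φ m u v w := by
          intro u v w
          rw [hc']
          ring
        apply hne
        have e1 : Φ m u₀ v₀ w₀ = -Φ m u₀ v₀ w₀ := by
          calc Φ m u₀ v₀ w₀ = Φ m v₀ u₀ w₀ := hs12 _ _ _
            _ = -Φ m v₀ w₀ u₀ := by rw [h23 v₀ w₀ u₀]
            _ = -Φ m w₀ v₀ u₀ := by rw [hs12 v₀ w₀ u₀]
            _ = Φ m w₀ u₀ v₀ := by rw [h23 w₀ u₀ v₀, neg_neg]
            _ = Φ m u₀ w₀ v₀ := hs12 _ _ _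
            _ = -Φ m u₀ v₀ w₀ := h23 _ _ _
        linarith
    refine ⟨Φ m, ht0, ?_, F1 m hme, huniv⟩
    intro u v w
    refine ⟨hs12 u v w, ?_⟩
    have := hc' u w v
    rw [hc1, one_mul] at this
    exact this
  · rintro ⟨t, ht0, hts, hti, htu⟩
    have hm0 : Ψ t ≠ 0 := by
      intro h
      apply ht0
      apply ext3
      intro u v w
      rw [← hΨ, h]
      simp
    refine ⟨Ψ t, hm0, ?_, F2 t hti, ?_⟩
    · intro u v
      apply hinj
      intro w
      rw [hΨ, hΨ]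
      exact (hts u v w).1
    · intro m' hm'
      obtain ⟨c, hc⟩ := htu (Φ m') (F1 m' hm')
      refine ⟨c, ?_⟩
      apply ext2
      intro u v w
      rw [← hΦ, hc]
      simp only [LinearMap.smul_apply, map_smul, hΨ, smul_eq_mul]

end Cfsg.Agent.S5541
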