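import Mathlib
import Cfsg.Statements.S5543
-- import your own Cfsg.Agent.* helpers here

set_option autoImplicit false
open Cfsg

namespace Cfsg.Agent.S5543

/-- Let V be a finite-dimensional real vector space with a commutative bilinear product and a positive-definite symmetric bilinear form that associates with the product and satisfies the Norton inequality (the Majorana setting of the definitions). Let X be a group of linear automorphisms of V in which every element squares to the identity, and suppose every non-identity element x of X is a Majorana involution with an axial vector a(x) of squared length 1, such that for any two distinct non-identity x, y the product a(x) ∘ a(y) equals (1/8)(a(x) + a(y) − a(xy)) (the dihedral subalgebra of type 2A whose third axis belongs to the involution xy). Then X has order at most 4. -/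
theorem result {V : Type*} [AddCommGroup V] [Module ℝ V] [FiniteDimensional ℝ V] (mul : V →ₗ[ℝ] V →ₗ[ℝ] V) (B : LinearMap.BilinForm ℝ V) (hV : Cfsg.Axial.IsMajoranaAmbient mul B) (X : Subgroup (V ≃ₗ[ℝ] V)) (hX : ∀ x ∈ X, x * x = 1) (ax : (V ≃ₗ[ℝ] V) → V) (hax : ∀ x ∈ X, x ≠ 1 → Cfsg.Axial.IsMajoranaPair mul B x (ax x)) (h1 : ∀ x ∈ X, x ≠ 1 → B (ax x) (ax x) = 1) (h2A : ∀ x ∈ X, ∀ y ∈ X, x ≠ 1 → y ≠ 1 → x ≠ y → mul (ax x) (ax y) = (1 / 8 : ℝ) • (ax x + ax y - ax (x * y))) : Nat.card ↥X ≤ 4 := by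
  classical
  by_contra hcard
  push Not at hcard
  haveI : Finite X := Nat.finite_of_card_ne_zero (by omega)
  have hcomm : ∀ a ∈ X, ∀ b ∈ X, a * b = b * a := by
    intro a ha b hb
    have ha' : a⁻¹ = a := inv_eq_of_mul_eq_one_right (hX a ha)
    have hb' : b⁻¹ = b := inv_eq_of_mul_eq_one_right (hX b hb)
    have hab' : (a * b)⁻¹ = a * b := inv_eq_of_mul_eq_one_right (hX (a * b) (X.mul_mem ha hb))
    rw [← hab', mul_inv_rev, ha', hb']
  have hex : ∀ S : Finset X, S.card ≤ 4 → ∃ z : X, z ∉ S := by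
    intro S hS
    by_contra hall
    push Not at hall
    letI : Fintype X := Fintype.ofFinite X
    have h1 : Nat.card X ≤ S.card := by
      rw [Nat.card_eq_fintype_card, ← Finset.card_univ]
      exact Finset.card_le_card (fun z _ => hall z)
    omega
  obtain ⟨⟨x, hxX⟩, hx⟩ := hex {1} (by simp)
  obtain ⟨⟨y, hyX⟩, hy⟩ := hex {1, ⟨x, hxX⟩} (Finset.card_le_two.trans (by norm_num))
  obtain ⟨⟨z, hzX⟩, hz⟩ := hex {1, ⟨x, hxX⟩, ⟨y, hyX⟩, ⟨x, hxX⟩ * ⟨y, hyX⟩} Finset.card_le_four
  simp only [Finset.mem_insert, Finset.mem_singleton, not_or, Subtype.ext_iff, Subgroup.coe_mul,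
    Subgroup.coe_one] at hx hy hz
  obtain ⟨hy1, hyx⟩ := hy
  obtain ⟨hz1, hzx, hzy, hzxy⟩ := hz
  -- group identities
  have hxx := hX x hxX
  have hyy := hX y hyX
  have hzz := hX z hzX
  have g1 : x * (x * y) = y := by rw [← mul_assoc, hxx, one_mul]
  have g2 : x * (x * z) = z := by rw [← mul_assoc, hxx, one_mul]
  have g3 : y * (x * z) = x * (y * z) := by rw [← mul_assoc, hcomm y hyX x hxX, mul_assoc]
  have g4 : (x * y) * z = x * (y * z) := mul_assoc _ _ _
  have g5 : (x * y) * (x * z) = y * z := by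
    rw [hcomm x hxX y hyX, mul_assoc, g2]
  have g6 : x * (x * (y * z)) = y * z := by rw [← mul_assoc, hxx, one_mul]
  have hyzX : y * z ∈ X := X.mul_mem hyX hzX
  have hxyX : x * y ∈ X := X.mul_mem hxX hyX
  have hxzX : x * z ∈ X := X.mul_mem hxX hzX
  have hxyzX : x * (y * z) ∈ X := X.mul_mem hxX hyzX
  have g7 : (y * z) * (x * (y * z)) = x := by
    rw [← mul_assoc, hcomm (y * z) hyzX x hxX, mul_assoc, hX (y * z) hyzX, mul_one]
  -- non-triviality
  have n_xy : x * y ≠ 1 := by
    intro h
    apply hyx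
    have : x * (x * y) = x * 1 := by rw [h]
    rw [g1, mul_one] at this
    exact this
  have n_xz : x * z ≠ 1 := by
    intro h
    apply hzx
    have : x * (x * z) = x * 1 := by rw [h]
    rw [g2, mul_one] at this
    exact this
  have n_yz : y * z ≠ 1 := by
    intro h
    apply hzy
    have : y * (y * z) = y * 1 := by rw [h]
    rw [← mul_assoc, hyy, one_mul, mul_one] at this
    exact this
  have n_xyz : x * (y * z) ≠ 1 := by
    intro h
    apply hzxy
    have h2 : (x * y) * ((x * y) * z) = (x * y) * 1 := by rw [g4, h]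
    rw [← mul_assoc, hX (x * y) hxyX, one_mul, mul_one] at h2
    exact h2
  have n_x_xy : x ≠ x * y := by
    intro h
    apply hy1
    have : x * 1 = x * y := by rw [mul_one]; exact h
    exact (mul_left_cancel this).symm
  have n_x_xz : x ≠ x * z := by
    intro h
    apply hz1
    have : x * 1 = x * z := by rw [mul_one]; exact h
    exact (mul_left_cancel this).symm
  have n_y_xz : y ≠ x * z := by
    intro h
    apply hzxy
    rw [h, g2]
  have n_xy_z : x * y ≠ z := fun h => hzxy h.symm
  have n_xy_xz : x * y ≠ x * z := fun h => hzy (mul_left_cancel h).symm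
  have n_x_yz : x ≠ y * z := by
    intro h
    apply hzxy
    have : y * x = y * (y * z) := by rw [h]
    rw [← mul_assoc, hyy, one_mul, hcomm y hyX x hxX] at this
    exact this.symm
  have n_x_xyz : x ≠ x * (y * z) := by
    intro h
    apply n_yz
    have : x * 1 = x * (y * z) := by rw [mul_one]; exact h
    exact (mul_left_cancel this).symm
  have n_yz_xyz : y * z ≠ x * (y * z) := by
    intro h
    apply hx
    have : 1 * (y * z) = x * (y * z) := by rw [one_mul]; exact h
    exact (mul_right_cancel this).symm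
  -- relations
  have E1 := h2A x hxX y hyX hx hy1 (fun h => hyx h.symm)
  have E2 := h2A x hxX (x * y) hxyX hx n_xy n_x_xy
  rw [g1] at E2
  have E3 := h2A x hxX z hzX hx hz1 (fun h => hzx h.symm)
  have E4 := h2A x hxX (x * z) hxzX hx n_xz n_x_xz
  rw [g2] at E4
  have E5 := h2A y hyX z hzX hy1 hz1 (fun h => hzy h.symm)
  have E6 := h2A y hyX (x * z) hxzX hy1 n_xz n_y_xz
  rw [g3] at E6
  have E7 := h2A (x * y) hxyX z hzX n_xy hz1 n_xy_z
  rw [g4] at E7
  have E8 := h2A (x * y) hxyX (x * z) hxzX n_xy n_xz n_xy_xz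
  rw [g5] at E8
  have E9 := h2A (y * z) hyzX (x * (y * z)) hxyzX n_yz n_xyz n_yz_xyz
  rw [g7] at E9
  have E10 := h2A x hxX (y * z) hyzX hx n_yz n_x_yz
  have E11 := h2A x hxX (x * (y * z)) hxyzX hx n_xyz n_x_xyz
  rw [g6] at E11
  -- eigenvectors
  have hby : ax y - ax (x * y) ∈ Cfsg.Axial.eigen mul (ax x) (1 / 4) := by
    unfold Cfsg.Axial.eigen
    rw [Module.End.mem_eigenspace_iff, map_sub, E1, E2]
    module
  have hbz : ax z - ax (x * z) ∈ Cfsg.Axial.eigen mul (ax x) (1 / 4) := by
    unfold Cfsg.Axial.eigen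
    rw [Module.End.mem_eigenspace_iff, map_sub, E3, E4]
    module
  have hbw : mul (ax x) (ax (y * z) - ax (x * (y * z))) = (1 / 4 : ℝ) • (ax (y * z) - ax (x * (y * z))) := by
    rw [map_sub, E10, E11]
    module
  have hprod : mul (ax y - ax (x * y)) (ax z - ax (x * z)) =
      (-(1 / 4) : ℝ) • (ax (y * z) - ax (x * (y * z))) := by
    simp only [map_sub, LinearMap.sub_apply]
    rw [E5, E6, E7, E8]
    module
  have hlaw : Cfsg.Axial.monsterLaw (1 / 4 : ℝ) (1 / 32) (1 / 4) (1 / 4) = {1, 0} := by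
    unfold Cfsg.Axial.monsterLaw
    have h1 : ¬ ((1 / 4 : ℝ) = 1 / 32) := by norm_num
    rw [if_neg (fun h => h1 h.1), if_neg (fun h => h.elim h1 h1), if_pos ⟨rfl, rfl⟩]
  have hS : (1 / 4 : ℝ) ∈ Cfsg.Axial.majoranaSpectrum := by
    unfold Cfsg.Axial.majoranaSpectrum
    simp
  have hfus := (hax x hxX hx).2.2.1.1.2.2.2 (1 / 4) hS (1 / 4) hS _ hby _ hbz
  rw [hlaw, hprod] at hfus
  unfold Cfsg.Axial.eigenSum at hfus
  rw [iSup_insert, iSup_singleton, Submodule.mem_sup] at hfus
  obtain ⟨v1, hv1, v0, hv0, hsum⟩ := hfus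
  unfold Cfsg.Axial.eigen at hv1 hv0
  rw [Module.End.mem_eigenspace_iff] at hv1 hv0
  rw [one_smul] at hv1
  rw [zero_smul] at hv0
  set w := ax (y * z) - ax (x * (y * z)) with hw
  have hw0 : w = 0 := by
    have e1 : mul (ax x) (v1 + v0) = v1 := by rw [map_add, hv1, hv0, add_zero]
    have e2 : mul (ax x) ((-(1 / 4) : ℝ) • w) = (-(1 / 16) : ℝ) • w := by
      rw [map_smul, hbw, smul_smul]
      norm_num
    rw [hsum, e2] at e1
    -- v1 = -(1/16) w
    have e3 : mul (ax x) v1 = (-(1 / 64) : ℝ) • w := by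
      rw [← e1, map_smul, hbw, smul_smul]
      norm_num
    rw [hv1, ← e1] at e3
    have e4 : ((3 / 64 : ℝ)) • w = 0 := by
      have h5 : (3 / 64 : ℝ) • w = (-(1 / 64) : ℝ) • w - (-(1 / 16) : ℝ) • w := by module
      rw [h5, e3, sub_self]
    rcases smul_eq_zero.mp e4 with h | h
    · exact absurd h (by norm_num)
    · exact h
  have hww : ax (y * z) = ax (x * (y * z)) := sub_eq_zero.mp hw0
  have hidem : mul (ax (y * z)) (ax (y * z)) = ax (y * z) := (hax (y * z) hyzX n_yz).2.2.1.1.2.1
  rw [← hww, hidem] at E9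
  have hax6 : ax x = (-6 : ℝ) • ax (y * z) := by
    have : ax x = ax (y * z) + ax (y * z) - (8 : ℝ) • ax (y * z) := by
      nth_rewrite 3 [E9]
      module
    rw [this]
    module
  have hB := h1 x hxX hx
  rw [hax6] at hB
  simp only [map_smul, LinearMap.smul_apply, smul_eq_mul] at hB
  rw [h1 (y * z) hyzX n_yz] at hB
  norm_num at hB

end Cfsg.Agent.S5543
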