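import Cfsg.Statements.S5548
import Cfsg.Agent.Helper9.Golay.InvSub3

set_option autoImplicit false
open Cfsg

namespace Cfsg.Agent.S5548

/-- For the automorphism group of the length-24 binary Golay code of the definitions (the Mathieu group of degree 24) acting on binary words of length 24 by permuting coordinates, the only invariant subspaces of the space of all words are: zero, the span of the all-ones word, the code itself, the even-weight words, and the whole space. (So the permutation module has a unique composition series.) -/
theorem result (W : Submodule (ZMod 2) (Cfsg.GolayPt → ZMod 2)) (hW : ∀ σ ∈ Cfsg.M24, ∀ w ∈ W, (fun p => w (σ.symm p)) ∈ W) : W = ⊥ ∨ W = Submodule.span (ZMod 2) {fun _ => (1 : ZMod 2)} ∨ W = Cfsg.golayCode ∨ (W : Set (Cfsg.GolayPt → ZMod 2)) = {w | ∑ p, w p = 0} ∨ W = ⊤ := by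
  open Cfsg.Agent.Helper9.Golay in
  classical
  have hInv : InvSub W := hW
  by_cases hle : W ≤ Cfsg.golayCode
  · by_cases hex : ∃ c ∈ W, c ≠ 0 ∧ c ≠ 1
    · obtain ⟨c, hcW, h0, h1⟩ := hex
      right; right; left
      exact le_antisymm hle (le_of_mem_code W hInv c (hle hcW) hcW h0 h1)
    · have hsm : ∀ c ∈ W, c = 0 ∨ c = 1 := by
        intro c hc
        by_contra hne
        rw [not_or] at hne
        exact hex ⟨c, hc, hne.1, hne.2⟩
      by_cases h1 : (1 : Cfsg.GolayPt → ZMod 2) ∈ W
      · right; left
        apply le_antisymm
        · intro c hc
          rcases hsm c hc with rfl | rfl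
          · exact Submodule.zero_mem _
          · exact Submodule.subset_span rfl
        · rw [Submodule.span_le, Set.singleton_subset_iff]
          exact h1
      · left
        rw [eq_bot_iff]
        intro c hc
        rcases hsm c hc with rfl | rfl
        · exact Submodule.zero_mem _
        · exact absurd hc h1
  · obtain ⟨w, hwW, hwC⟩ := SetLike.not_le_iff_exists.mp hle
    have hII := fun a b hab => pair_mod_code W hInv w hwW hwC a b hab
    have hpair := pair_mem W hInv hII
    have heven := even_le W hpair
    by_cases hodd : ∃ w ∈ W, ∑ p, w p ≠ 0
    · obtain ⟨w', hw'W, hw'⟩ := hodd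
      right; right; right; right
      exact eq_top_of_odd W heven w' hw'W hw'
    · right; right; right; left
      ext x
      constructor
      · intro hx
        by_contra hne
        exact hodd ⟨x, hx, hne⟩
      · intro hx
        exact heven x hx

end Cfsg.Agent.S5548
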