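import Cfsg.Statements.S5549
import Cfsg.Agent.Helper4.GolLinD

set_option autoImplicit false
open Cfsg

namespace Cfsg.Agent.S5549

/-- Let X be a group of linear automorphisms of the length-24 binary Golay code of the definitions that fix the all-ones word, containing the coordinate-permutation action of every element of the code's automorphism group (the Mathieu group of degree 24), and such that every element of X sends each codeword into its orbit under that Mathieu group up to adding the all-ones word (X has the same orbits as the Mathieu group on the code modulo the all-ones word). Then every element of X agrees, modulo the all-ones word, with the action of a single element of the Mathieu group: X induces exactly the Mathieu group on the code modulo the all-ones word. -/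
theorem result (X : Subgroup (↥Cfsg.golayCode ≃ₗ[ZMod 2] ↥Cfsg.golayCode)) (h1 : ∀ x ∈ X, ∀ e : ↥Cfsg.golayCode, (e : (Cfsg.GolayPt → ZMod 2)) = (fun _ => (1 : ZMod 2)) → x e = e) (hM : ∀ σ ∈ Cfsg.M24, ∃ x ∈ X, ∀ c : ↥Cfsg.golayCode, ((x c : ↥Cfsg.golayCode) : (Cfsg.GolayPt → ZMod 2)) = fun p => (c : (Cfsg.GolayPt → ZMod 2)) (σ.symm p)) (horb : ∀ x ∈ X, ∀ c : ↥Cfsg.golayCode, ∃ σ ∈ Cfsg.M24, ((x c : ↥Cfsg.golayCode) : (Cfsg.GolayPt → ZMod 2)) = (fun p => (c : (Cfsg.GolayPt → ZMod 2)) (σ.symm p)) ∨ ((x c : ↥Cfsg.golayCode) : (Cfsg.GolayPt → ZMod 2)) = (fun p => (c : (Cfsg.GolayPt → ZMod 2)) (σ.symm p)) + fun _ => (1 : ZMod 2)) (x : ↥Cfsg.golayCode ≃ₗ[ZMod 2] ↥Cfsg.golayCode) (hx : x ∈ X) : ∃ σ ∈ Cfsg.M24, ∀ c : ↥Cfsg.golayCode, ((x c : ↥Cfsg.golayCode) : (Cfsg.GolayPt → ZMod 2)) = (fun p => (c : (Cfsg.GolayPt → ZMod 2)) (σ.symm p)) ∨ ((x c : ↥Cfsg.golayCode) : (Cfsg.GolayPt → ZMod 2)) = (fun p => (c : (Cfsg.GolayPt → ZMod 2)) (σ.symm p)) + fun _ => (1 : ZMod 2) := by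
  open Cfsg.Agent.Helper4.GolLin Cfsg.Agent.Helper9 Cfsg.Agent.Helper9.FixCoset in
  have hx1 : x oneC = oneC := h1 x hx oneC rfl
  -- the weight of the image of a word
  have hwt : ∀ y ∈ X, ∀ c : ↥Cfsg.golayCode, isW c → isW (y c) := by
    intro y hy c hc
    obtain ⟨σ, -, h | h⟩ := horb y hy c
    · have h2 : ((y c : ↥Cfsg.golayCode) : Cfsg.GolayPt → ZMod 2)
          = actW σ (c : Cfsg.GolayPt → ZMod 2) := h
      unfold isW at hc ⊢
      rw [h2, hammingNorm_actW]
      exact hc
    · have h2 : ((y c : ↥Cfsg.golayCode) : Cfsg.GolayPt → ZMod 2)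
          = 1 + actW σ (c : Cfsg.GolayPt → ZMod 2) := by
        rw [h, add_comm]
        rfl
      unfold isW at hc ⊢
      have h3 : hammingNorm (1 + actW σ (c : Cfsg.GolayPt → ZMod 2))
          = 24 - hammingNorm (c : Cfsg.GolayPt → ZMod 2) := by
        rw [hammingNorm_eq_card_supp2, supp2_one_add, Finset.card_compl, Golay.card_golayPt,
          ← hammingNorm_eq_card_supp2, hammingNorm_actW]
      rw [h2, h3]
      omega
  have hW : ∀ c : ↥Cfsg.golayCode, isW (x c) ↔ isW c := by
    intro c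
    constructor
    · intro h
      have h2 := hwt x⁻¹ (X.inv_mem hx) (x c) h
      have h3 : x⁻¹ (x c) = c := by
        rw [← LinearEquiv.mul_apply, inv_mul_cancel]; rfl
      rwa [h3] at h2
    · exact hwt x hx c
  exact exists_M24 x hx1 hW

end Cfsg.Agent.S5549
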