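import Cfsg.Statements.S5559
import Cfsg.Agent.Helper1.TTSo
import Cfsg.Agent.S5349
import Cfsg.Agent.S5356

set_option autoImplicit false
open Cfsg

namespace Cfsg.Agent.S5559

/-- Let H be a finite group generated by a conjugacy class E of 3-transpositions with at least two members, with F*(H) = O₂(H), and such that H/O₂(H) has a normal Sylow 3-subgroup of 2-power index (that is, H = O_{2,3,2}(H)). Then H/O₂(H) is isomorphic to the symmetric group of degree 3 or to the derived group of SU₃(2) (of order 54). -/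
theorem result {H : Type*} [Group H] [Finite H] {E : Set H} (hE : Cfsg.IsThreeTranspositionClass E)
    (hE2 : ∃ a ∈ E, ∃ b ∈ E, a ≠ b) (hF : Cfsg.generalizedFittingSubgroup H = Cfsg.pCore 2 H)
    (h232 : ∃ P : Sylow 3 (H ⧸ Cfsg.pCore 2 H), (P : Subgroup (H ⧸ Cfsg.pCore 2 H)).Normal ∧
      ∃ k : ℕ, (P : Subgroup (H ⧸ Cfsg.pCore 2 H)).index = 2 ^ k) :
    Nonempty (H ⧸ Cfsg.pCore 2 H ≃* Equiv.Perm (Fin 3)) ∨
      ∃ (F : Type) (_ : Field F) (_ : Fintype F), Fintype.card F = 4 ∧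
        Nonempty (H ⧸ Cfsg.pCore 2 H ≃* ↥(commutator ↥(Cfsg.SU 3 F 2))) := by
  have tt := Cfsg.Agent.Lead.TTW.tt3_of_class hE
  have hnQ := Cfsg.Agent.Helper1.TTS.Asm.not_mem_pCore hE hE2
  obtain ⟨hB, b, hb⟩ := Cfsg.Agent.Helper1.TTS.Asm.stepB hE hE2 h232
  obtain ⟨d, hd, _⟩ := hE.2.1
  have hV : {y : H | y ∈ E ∧ Commute d y} =
      {v : H | v ∈ E ∧ ∀ e ∈ E, Commute v e ↔ Commute d e} := by
    ext y
    constructor
    · rintro ⟨hy, hc⟩
      rw [(Cfsg.Agent.S5349.result hE hE2 hd).1]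
      exact ⟨hy, hB d hd y hy hc⟩
    · rintro ⟨hy, hall⟩
      exact ⟨hy, ((hall d hd).mpr (Commute.refl d)).symm⟩
  obtain ⟨P, hdP, hsup⟩ := Cfsg.Agent.S5356.result hE hE2 hd hV
  have c : Cfsg.Agent.Helper1.TTS.Asm.Ctx E (P : Subgroup H) d :=
    ⟨tt, hd, hE.2.2, fun e he => Cfsg.Agent.Helper1.TTS.Asm.class_conj hE hd he, hnQ, P.isPGroup', hdP, hsup, hF⟩
  exact c.concl P hb

end Cfsg.Agent.S5559
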