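import Cfsg.Statements.S5562
import Cfsg.Agent.Helper9.Dihedral
import Cfsg.Agent.Helper9.Invol

set_option autoImplicit false
open Cfsg

namespace Cfsg.Agent.S5562

/-- Let G be a finite group, d an involution of G whose conjugates pairwise have products of odd order, and x any involution of G. Then the conjugacy class of d is the disjoint union, over the conjugates a of d commuting with x, of the sets of conjugates of d commuting with ax: every conjugate of d commutes with ax for exactly one conjugate a of d that commutes with x. -/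
theorem result {G : Type*} [Group G] [Finite G] (d : G) (hd : orderOf d = 2)
    (hodd : ∀ a ∈ conjugatesOf d, ∀ b ∈ conjugatesOf d, Odd (orderOf (a * b)))
    (x : G) (hx : orderOf x = 2) :
    ∀ e ∈ conjugatesOf d,
      ∃! a : G, a ∈ conjugatesOf d ∧ Commute a x ∧ Commute e (a * x) := by
  have hd2 : d * d = 1 := Cfsg.Agent.Helper9.mul_self_of_orderOf_two hd
  have hx2 : x * x = 1 := Cfsg.Agent.Helper9.mul_self_of_orderOf_two hx
  have hxi : x⁻¹ = x := inv_eq_of_mul_eq_one_left hx2
  have hD2 : ∀ a ∈ conjugatesOf d, a * a = 1 := by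
    intro a ha
    obtain ⟨g, rfl⟩ := isConj_iff.mp (show IsConj d a from ha)
    exact Cfsg.Agent.Helper9.conj_mul_self hd2 g
  have hDc : ∀ a ∈ conjugatesOf d, ∀ g : G, g * a * g⁻¹ ∈ conjugatesOf d := by
    intro a ha g
    obtain ⟨c, rfl⟩ := isConj_iff.mp (show IsConj d a from ha)
    show IsConj d (g * (c * d * c⁻¹) * g⁻¹)
    exact isConj_iff.mpr ⟨g * c, by group⟩
  intro e he
  have he2 : e * e = 1 := hD2 e he
  have hei : e⁻¹ = e := inv_eq_of_mul_eq_one_left he2
  set r : G := e * x with hr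
  have hrr : r * r = e * (x * e * x⁻¹) := by rw [hxi, hr]; simp only [mul_assoc]
  have hoddr : Odd (orderOf (r * r)) := by rw [hrr]; exact hodd e he _ (hDc e he x)
  set n : ℕ := orderOf (r * r) with hn
  obtain ⟨m, hm⟩ := hoddr
  have hr2n : r ^ n * r ^ n = 1 := by
    rw [← pow_add, ← two_mul, pow_mul, pow_two, hn, pow_orderOf_eq_one]
  set t₀ : G := r ^ n with ht₀
  have ht₀i : t₀⁻¹ = t₀ := inv_eq_of_mul_eq_one_left hr2n
  have hxt₀ : x * t₀ * x = t₀ := by
    have := Cfsg.Agent.Helper9.invol_right_conj_pow he2 hx2 n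
    rw [← hr, ← ht₀, ht₀i] at this
    exact this
  have het₀ : e * t₀ * e = t₀ := by
    have := Cfsg.Agent.Helper9.invol_left_conj_pow he2 hx2 n
    rw [← hr, ← ht₀, ht₀i] at this
    exact this
  have hermi : e * (r ^ m)⁻¹ * e = r ^ m := by
    have h := Cfsg.Agent.Helper9.invol_left_conj_pow he2 hx2 m
    rw [← hr] at h
    have h' := congrArg (·⁻¹) h
    simp only [mul_inv_rev, hei, inv_inv] at h'
    rw [← mul_assoc] at h'
    exact h'
  have ha₀D : x * t₀ ∈ conjugatesOf d := by
    have e1 : x * t₀ = (x * r ^ m) * e * (x * r ^ m)⁻¹ := by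
      have e2 : (x * r ^ m) * e * (x * r ^ m)⁻¹ = x * r ^ m * (e * (r ^ m)⁻¹ * e) * (e * x) := by
        rw [mul_inv_rev, hxi]
        calc x * r ^ m * e * ((r ^ m)⁻¹ * x)
            = x * r ^ m * e * (r ^ m)⁻¹ * ((e * e) * x) := by rw [he2]; simp only [mul_assoc, one_mul]
          _ = x * r ^ m * (e * (r ^ m)⁻¹ * e) * (e * x) := by simp only [mul_assoc]
      rw [e2, hermi, ← hr, ht₀, hm]
      rw [pow_succ, two_mul, pow_add]
      simp only [mul_assoc]
    rw [e1]
    exact hDc e he _
  have hcomm1 : Commute (x * t₀) x := by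
    show x * t₀ * x = x * (x * t₀)
    rw [hxt₀, ← mul_assoc, hx2, one_mul]
  have ha₀x : x * t₀ * x = t₀ := hxt₀
  have hcomm2 : Commute e (x * t₀ * x) := by
    rw [ha₀x]
    show e * t₀ = t₀ * e
    calc e * t₀ = e * t₀ * (e * e) := by rw [he2, mul_one]
      _ = (e * t₀ * e) * e := by simp only [mul_assoc]
      _ = t₀ * e := by rw [het₀]
  refine ⟨x * t₀, ⟨ha₀D, hcomm1, hcomm2⟩, ?_⟩
  rintro a ⟨haD, hax, hea⟩
  have ha2 : a * a = 1 := hD2 a haD
  set t : G := a * x with ht
  have htt : t * t = 1 := by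
    calc t * t = a * (x * a) * x := by rw [ht]; simp only [mul_assoc]
      _ = a * (a * x) * x := by rw [hax.eq]
      _ = (a * a) * (x * x) := by simp only [mul_assoc]
      _ = 1 := by rw [ha2, hx2, one_mul]
  have htx : Commute t x := by
    show a * x * x = x * (a * x)
    rw [← mul_assoc, ← hax.eq]
  have hte : Commute t e := hea.symm
  have htr : Commute t r := hte.mul_right htx
  have htt₀ : Commute t t₀ := htr.pow_right n
  have haa₀ : a * (x * t₀) = t * t₀ := by rw [ht]; simp only [mul_assoc]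
  have hsq : (a * (x * t₀)) * (a * (x * t₀)) = 1 := by
    rw [haa₀]
    calc t * t₀ * (t * t₀) = t * (t₀ * t) * t₀ := by simp only [mul_assoc]
      _ = t * (t * t₀) * t₀ := by rw [htt₀.eq]
      _ = (t * t) * (t₀ * t₀) := by simp only [mul_assoc]
      _ = 1 := by rw [htt, hr2n, one_mul]
  have h1 := Cfsg.Agent.Helper9.eq_one_of_mul_self_of_odd hsq (hodd a haD _ ha₀D)
  have h2 : a = (x * t₀)⁻¹ := eq_inv_of_mul_eq_one_left h1
  rw [h2]
  exact inv_eq_of_mul_eq_one_left (hD2 _ ha₀D)

end Cfsg.Agent.S5562
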