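import Cfsg.Statements.S5588
import Cfsg.Agent.Helper3.Y5Fin

set_option autoImplicit false
open Cfsg

namespace Cfsg.Agent.S5588

open Cfsg.Agent.Helper5.LP Cfsg.Agent.Helper3.Y5 Cfsg.Agent.Helper3.Y5LP Cfsg.Spor

/-- the group of the statement. -/
abbrev Y : Type := CoxPresented Bimonster.Gen Bimonster.edges [spider]

theorem img_prod (e : Y ≃* LPG 16 R16) (he : ∀ x, e (PresentedGroup.of x) = ev 16 R16 [idx x]) :
    ∀ g : List Bimonster.Gen,
      e (PresentedGroup.mk _ ((g.map FreeGroup.of).prod)) = ev 16 R16 (g.map idx)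
  | [] => by
    simp only [List.map_nil, List.prod_nil, map_one]
    exact ev_nil.symm
  | x :: g => by
    rw [List.map_cons, List.prod_cons, map_mul, map_mul, img_prod e he g, List.map_cons,
      ev_cons (idx x) (g.map idx)]
    congr 1
    exact he x

theorem key (f : Bimonster.Gen) (g : List Bimonster.Gen)
    (h : ev 16 R16 [idx f] = ev 16 R16 (List.replicate 9 (g.map idx)).flatten) :
    (PresentedGroup.mk _ (FreeGroup.of f * (((g.map FreeGroup.of).prod) ^ 9)⁻¹) : Y) = 1 := by
  obtain ⟨e, he⟩ := y555_equiv
  apply e.injective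
  rw [map_one, map_mul, map_mul, map_inv, map_inv, map_pow, map_pow, img_prod e he g, ev_pow, ← h]
  have h1 : e (PresentedGroup.mk _ (FreeGroup.of f)) = ev 16 R16 [idx f] := he f
  rw [h1, mul_inv_cancel]

/-- In the group presented by the sixteen involutions of the Y₅₅₅ Coxeter diagram subject only to the Coxeter relations and the single spider relation (a b₁ c₁ a b₂ c₂ a b₃ c₃)^10 = 1, each of the further relators used in the definitions' presentation of the Bimonster (each end node equals the ninth power of the Coxeter element of a sub-diagram of type E₇) already holds. Equivalently, the Y₅₅₅ diagram with the spider relation alone presents the Bimonster. -/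
theorem result :
    ∀ r ∈ Cfsg.Spor.Bimonster.extra,
      (PresentedGroup.mk (Cfsg.Spor.coxRelators Cfsg.Spor.Bimonster.edges ∪ {r' | r' ∈ [(Cfsg.Spor.Bimonster.a * Cfsg.Spor.Bimonster.b1 * Cfsg.Spor.Bimonster.c1 * Cfsg.Spor.Bimonster.a * Cfsg.Spor.Bimonster.b2 * Cfsg.Spor.Bimonster.c2 * Cfsg.Spor.Bimonster.a * Cfsg.Spor.Bimonster.b3 * Cfsg.Spor.Bimonster.c3) ^ 10]}) r) = 1 := by
  intro r hr
  simp only [Bimonster.extra, List.mem_cons, List.not_mem_nil, or_false] at hr
  rcases hr with rfl | rfl | rfl | rfl | rfl | rfl | rfl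
  · exact PresentedGroup.one_of_mem (Or.inr (List.mem_singleton.mpr rfl))
  · have h := key .f1 [.a, .b1, .b2, .b3, .c1, .c2, .d1] e7_0
    simpa only [List.map_cons, List.map_nil, List.prod_cons, List.prod_nil, mul_one, mul_assoc]
      using h
  · have h := key .f1 [.a, .b1, .b3, .b2, .c1, .c3, .d1] e7_1
    simpa only [List.map_cons, List.map_nil, List.prod_cons, List.prod_nil, mul_one, mul_assoc]
      using h
  · have h := key .f2 [.a, .b2, .b1, .b3, .c2, .c1, .d2] e7_3
    simpa only [List.map_cons, List.map_nil, List.prod_cons, List.prod_nil, mul_one, mul_assoc]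
      using h
  · have h := key .f2 [.a, .b2, .b3, .b1, .c2, .c3, .d2] e7_2
    simpa only [List.map_cons, List.map_nil, List.prod_cons, List.prod_nil, mul_one, mul_assoc]
      using h
  · have h := key .f3 [.a, .b3, .b1, .b2, .c3, .c1, .d3] e7_4
    simpa only [List.map_cons, List.map_nil, List.prod_cons, List.prod_nil, mul_one, mul_assoc]
      using h
  · have h := key .f3 [.a, .b3, .b2, .b1, .c3, .c2, .d3] e7_5
    simpa only [List.map_cons, List.map_nil, List.prod_cons, List.prod_nil, mul_one, mul_assoc]
      using h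

end Cfsg.Agent.S5588
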