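import Mathlib
import Cfsg.Statements.S5596
import Cfsg.Agent.Helper3.LargeXG
import Cfsg.Agent.Helper3.LargeXJ
-- import your own Cfsg.Agent.* helpers here

set_option autoImplicit false
open Cfsg

namespace Cfsg.Agent.S5596

open Cfsg.Agent.Helper3.LargeX

/-- Setting: `z` is an involution of the finite group `G`; for each element `x`, `Q x` is the largest normal 2-subgroup of the centralizer of `x`; `Q z` is extraspecial and contains its own centralizer in `G`. A subgroup `U` is singular when it is elementary abelian, every non-identity element of `U` is conjugate to `z`, and any two non-identity elements `u`, `v` of `U` are orthogonal (`v ∈ Q u`). Write `QU` for the intersection of the `Q u` and `LU` for the join of the `Q u` over the non-identity `u` in `U`. If `U` is singular of order `2 ^ n` with `n ≥ 2`, then `U ≤ QU ≤ LU`, `LU` normalizes `U`, and `LU` induces on `U` its full automorphism group (the general linear group of dimension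 `n` over the field with two elements): every automorphism of `U` is conjugation by some element of `LU`. -/
theorem result {G : Type*} [Group G] [Finite G]
    (Q : G → Subgroup G)
    (hQ : ∀ x : G, Q x = (Cfsg.pCore 2 ↥(Subgroup.centralizer ({x} : Set G))).map (Subgroup.centralizer ({x} : Set G)).subtype)
    (z : G) (hz : orderOf z = 2) (hE : Cfsg.IsExtraspecial 2 ↥(Q z))
    (hC : Subgroup.centralizer ((Q z : Subgroup G) : Set G) ≤ Q z)
    (U : Subgroup G) (hU2 : ∀ u ∈ U, u * u = 1)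
    (hS : ∀ u ∈ U, u ≠ 1 → ∃ g : G, g * z * g⁻¹ = u)
    (hO : ∀ u ∈ U, ∀ v ∈ U, u ≠ 1 → v ≠ 1 → v ∈ Q u)
    (QU LU : Subgroup G) (hQU : QU = ⨅ u ∈ ((U : Set G) \ {1}), Q u) (hLU : LU = ⨆ u ∈ ((U : Set G) \ {1}), Q u)
    (n : ℕ) (hn : 2 ≤ n) (hcard : Nat.card ↥U = 2 ^ n) :
    U ≤ QU ∧ QU ≤ LU ∧ LU ≤ Subgroup.normalizer (U : Set G) ∧
      ∀ φ : ↥U ≃* ↥U, ∃ g ∈ LU, ∀ u : ↥U, g * (u : G) * g⁻¹ = ((φ u : ↥U) : G) := by
  have hQUle : ∀ u ∈ U, u ≠ 1 → QU ≤ Q u := by
    intro u hu hu1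
    rw [hQU]
    exact iInf₂_le u ⟨hu, hu1⟩
  have hleLU : ∀ u ∈ U, u ≠ 1 → Q u ≤ LU := by
    intro u hu hu1
    rw [hLU]
    exact le_iSup₂ (f := fun u (_ : u ∈ ((U : Set G) \ {1})) => Q u) u ⟨hu, hu1⟩
  have hUne : ∃ u ∈ U, u ≠ 1 := by
    have h1 : 1 < Nat.card U := by
      rw [hcard]
      exact Nat.one_lt_two_pow (by omega)
    have : Nontrivial U := (Finite.one_lt_card_iff_nontrivial).mp h1
    obtain ⟨a, ha⟩ := exists_ne (1 : U)
    exact ⟨a, a.2, fun h => ha (Subtype.ext h)⟩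
  refine ⟨?_, ?_, ?_, ?_⟩
  · rw [hQU]
    apply le_iInf₂
    rintro u ⟨hu, hu1⟩
    exact U_le_Q Q hQ z hz hE hC U hS hO hu hu1
  · obtain ⟨u, hu, hu1⟩ := hUne
    exact le_trans (hQUle u hu hu1) (hleLU u hu hu1)
  · rw [hLU]
    apply iSup₂_le
    rintro u ⟨hu, hu1⟩
    exact Q_le_normalizer Q hQ z hz hE hC U hS hO hu hu1
  · intro φ
    classical
    set α : G → G := fun g => if h : g ∈ U then ((φ ⟨g, h⟩ : U) : G) else 1 with hαdef
    have hαU : ∀ (g : G) (h : g ∈ U), α g = ((φ ⟨g, h⟩ : U) : G) := by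
      intro g h
      simp only [hαdef, dif_pos h]
    have hα : EA.IsAutOn U α := by
      refine ⟨?_, ?_, ?_⟩
      · intro w hw
        rw [hαU w hw]; exact (φ ⟨w, hw⟩).2
      · intro a ha b hb
        rw [hαU a ha, hαU b hb, hαU (a * b) (U.mul_mem ha hb)]
        have : (⟨a * b, U.mul_mem ha hb⟩ : U) = ⟨a, ha⟩ * ⟨b, hb⟩ := rfl
        rw [this, map_mul]; rfl
      · intro w hw h1
        rw [hαU w hw] at h1
        have h2 : φ ⟨w, hw⟩ = 1 := Subtype.ext h1
        have h3 : (⟨w, hw⟩ : U) = 1 := by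
          have := φ.injective (h2.trans (map_one φ).symm)
          exact this
        exact congrArg Subtype.val h3
    have hT : ∀ u ∈ U, u ≠ 1 → ∀ A : Subgroup G, A ≤ U → u ∈ A → ∀ x ∈ U, x ∉ A →
        ∃ g ∈ LU, (∀ a ∈ A, g * a * g⁻¹ = a) ∧ g * x * g⁻¹ = u * x ∧
          ∀ v ∈ U, g * v * g⁻¹ = v ∨ g * v * g⁻¹ = u * v := by
      intro u hu hu1 A hA huA x hx hxA
      have hUQ := U_le_Q Q hQ z hz hE hC U hS hO hu hu1
      obtain ⟨g, hg, h1, h2, h3⟩ := exists_transv Q hQ z hz hE hC U hS hO hu hu1 A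
        (le_trans hA hUQ) huA (hUQ hx) hxA
      exact ⟨g, hleLU u hu hu1 hg, h1, h2, h3⟩
    obtain ⟨g, hg, hgU, -⟩ := EA.gen hU2 hT (Nat.card U) U ⊥ le_rfl bot_le le_rfl
      (inf_bot_eq U) α hα
    refine ⟨g, hg, ?_⟩
    intro u
    rw [hgU u u.2, hαU u u.2]


end Cfsg.Agent.S5596
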