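import Mathlib
import Cfsg.Statements.S5597
import Cfsg.Agent.Helper3.LargeXG
-- import your own Cfsg.Agent.* helpers here

set_option autoImplicit false
open Cfsg

namespace Cfsg.Agent.S5597

open Cfsg.Agent.Helper3.LargeX

/-- The subgroup of elements normalizing `U` and acting trivially on `QU / U`. -/
def trivSub {G : Type*} [Group G] (U QU : Subgroup G) : Subgroup G where
  carrier := {g | g ∈ Subgroup.normalizer (U : Set G) ∧ ∀ x ∈ QU, g * x * g⁻¹ * x⁻¹ ∈ U}
  one_mem' := by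
    refine ⟨Subgroup.one_mem _, ?_⟩
    intro x _
    have : (1 : G) * x * 1⁻¹ * x⁻¹ = 1 := by group
    rw [this]; exact U.one_mem
  mul_mem' := by
    rintro a b ⟨ha, ha'⟩ ⟨hb, hb'⟩
    refine ⟨Subgroup.mul_mem _ ha hb, ?_⟩
    intro x hx
    have e : a * b * x * (a * b)⁻¹ * x⁻¹ = (a * (b * x * b⁻¹ * x⁻¹) * a⁻¹) * (a * x * a⁻¹ * x⁻¹) := by
      group
    rw [e]
    apply U.mul_mem _ (ha' x hx)
    exact (Subgroup.mem_normalizer_iff.mp ha _).mp (hb' x hx)
  inv_mem' := by
    rintro a ⟨ha, ha'⟩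
    refine ⟨Subgroup.inv_mem _ ha, ?_⟩
    intro x hx
    have e : a⁻¹ * x * a⁻¹⁻¹ * x⁻¹ = a⁻¹ * (a * x * a⁻¹ * x⁻¹)⁻¹ * a⁻¹⁻¹ := by group
    rw [e]
    exact (Subgroup.mem_normalizer_iff.mp (Subgroup.inv_mem _ ha) _).mp (U.inv_mem (ha' x hx))

/-- Setting: `z` is an involution of the finite group `G`; for each element `x`, `Q x` is the largest normal 2-subgroup of the centralizer of `x`; `Q z` is extraspecial and contains its own centralizer in `G`. A subgroup `U` is singular when it is elementary abelian, every non-identity element of `U` is conjugate to `z`, and any two non-identity elements `u`, `v` of `U` are orthogonal (`v ∈ Q u`). Write `QU` for the intersection of the `Q u` and `LU` for the join of the `Q u` over the non-identity `u` in `U`. If `U` is a non-trivial singular subgroup, then `LU` acts trivially on `QU / U` (every commutator of an element of `LU` with an element of `QU` lies in `U`), and for every `x` in `QU` outside `U` the centralizer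 of `U` in `LU` permutes the coset `x U` transitively: each `x u` with `u ∈ U` is a conjugate of `x` by an element of `LU` centralizing `U`. -/
theorem result {G : Type*} [Group G] [Finite G]
    (Q : G → Subgroup G)
    (hQ : ∀ x : G, Q x = (Cfsg.pCore 2 ↥(Subgroup.centralizer ({x} : Set G))).map (Subgroup.centralizer ({x} : Set G)).subtype)
    (z : G) (hz : orderOf z = 2) (hE : Cfsg.IsExtraspecial 2 ↥(Q z))
    (hC : Subgroup.centralizer ((Q z : Subgroup G) : Set G) ≤ Q z)
    (U : Subgroup G) (hU2 : ∀ u ∈ U, u * u = 1)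
    (hS : ∀ u ∈ U, u ≠ 1 → ∃ g : G, g * z * g⁻¹ = u)
    (hO : ∀ u ∈ U, ∀ v ∈ U, u ≠ 1 → v ≠ 1 → v ∈ Q u)
    (QU LU : Subgroup G) (hQU : QU = ⨅ u ∈ ((U : Set G) \ {1}), Q u) (hLU : LU = ⨆ u ∈ ((U : Set G) \ {1}), Q u)
    (hU : U ≠ ⊥) :
    (∀ g ∈ LU, ∀ x ∈ QU, g * x * g⁻¹ * x⁻¹ ∈ U) ∧
      ∀ x ∈ QU, x ∉ U → ∀ u ∈ U, ∃ g ∈ LU ⊓ Subgroup.centralizer (U : Set G), g * x * g⁻¹ = x * u := by
  have hQUle : ∀ u ∈ U, u ≠ 1 → QU ≤ Q u := by
    intro u hu hu1
    rw [hQU]
    exact iInf₂_le u ⟨hu, hu1⟩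
  have hleLU : ∀ u ∈ U, u ≠ 1 → Q u ≤ LU := by
    intro u hu hu1
    rw [hLU]
    exact le_iSup₂ (f := fun u (_ : u ∈ ((U : Set G) \ {1})) => Q u) u ⟨hu, hu1⟩
  constructor
  · have hle : LU ≤ trivSub U QU := by
      rw [hLU]
      apply iSup₂_le
      rintro u ⟨hu, hu1⟩
      have hu1' : u ≠ 1 := hu1
      intro q hq
      refine ⟨Q_le_normalizer Q hQ z hz hE hC U hS hO hu hu1' hq, ?_⟩
      intro x hx
      have hL := lx_U Q hQ z hz hE hC U hS hu hu1'
      rcases hL.comm q hq x (hQUle u hu hu1' hx) with h1 | h1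
      · rw [h1]; exact U.one_mem
      · rw [h1]; exact hu
    intro g hg x hx
    exact (hle hg).2 x hx
  · intro x hx hxU u hu
    by_cases hu1 : u = 1
    · refine ⟨1, Subgroup.one_mem _, ?_⟩
      rw [hu1]; group
    · have hL := lx_U Q hQ z hz hE hC U hS hu hu1
      have hxQ : x ∈ Q u := hQUle u hu hu1 hx
      obtain ⟨g, hg, hgU, hgx⟩ := hL.exists_flip' U (U_le_Q Q hQ z hz hE hC U hS hO hu hu1) hu hxQ hxU
      refine ⟨g, Subgroup.mem_inf.mpr ⟨hleLU u hu hu1 hg, ?_⟩, ?_⟩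
      · rw [Subgroup.mem_centralizer_iff]
        intro a ha
        exact (hgU a ha).symm
      · rw [hgx]
        exact (hL.z_comm x hxQ).symm


end Cfsg.Agent.S5597
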