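import Mathlib
import Cfsg.Statements.S5598
import Cfsg.Agent.Helper3.LargeXE
-- import your own Cfsg.Agent.* helpers here

set_option autoImplicit false
open Cfsg

namespace Cfsg.Agent.S5598

open Cfsg.Agent.Helper3.LargeX

/-- Setting: `z` is an involution of the finite group `G`; for each element `x`, `Q x` is the largest normal 2-subgroup of the centralizer of `x`; `Q z` is extraspecial and contains its own centralizer in `G`. A subgroup `U` is singular when it is elementary abelian, every non-identity element of `U` is conjugate to `z`, and any two non-identity elements `u`, `v` of `U` are orthogonal (`v ∈ Q u`). Write `QU` for the intersection of the `Q u` and `LU` for the join of the `Q u` over the non-identity `u` in `U`. If the singular subgroup `U` is generated by a set `T` of non-identity elements, then `QU` is already the intersection of the `Q t` over `t ∈ T`. -/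
theorem result {G : Type*} [Group G] [Finite G]
    (Q : G → Subgroup G)
    (hQ : ∀ x : G, Q x = (Cfsg.pCore 2 ↥(Subgroup.centralizer ({x} : Set G))).map (Subgroup.centralizer ({x} : Set G)).subtype)
    (z : G) (hz : orderOf z = 2) (hE : Cfsg.IsExtraspecial 2 ↥(Q z))
    (hC : Subgroup.centralizer ((Q z : Subgroup G) : Set G) ≤ Q z)
    (U : Subgroup G) (hU2 : ∀ u ∈ U, u * u = 1)
    (hS : ∀ u ∈ U, u ≠ 1 → ∃ g : G, g * z * g⁻¹ = u)
    (hO : ∀ u ∈ U, ∀ v ∈ U, u ≠ 1 → v ≠ 1 → v ∈ Q u)
    (QU LU : Subgroup G) (hQU : QU = ⨅ u ∈ ((U : Set G) \ {1}), Q u) (hLU : LU = ⨆ u ∈ ((U : Set G) \ {1}), Q u)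
    (T : Set G) (hT : Subgroup.closure T = U) (hT1 : (1 : G) ∉ T) :
    QU = ⨅ t ∈ T, Q t := by
  rw [hQU]
  apply le_antisymm
  · apply le_iInf₂
    intro t ht
    apply iInf₂_le t
    refine ⟨?_, ?_⟩
    · rw [← hT]; exact Subgroup.subset_closure ht
    · intro h1
      apply hT1
      rw [Set.mem_singleton_iff] at h1
      rw [← h1]; exact ht
  · intro x hx
    have hxT : ∀ t ∈ T, x ∈ Q t := by
      intro t ht
      have := (Subgroup.mem_iInf.mp hx) t
      exact (Subgroup.mem_iInf.mp this) ht
    have key : ∀ u ∈ Subgroup.closure T, u = 1 ∨ x ∈ Q u := by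
      intro u hu
      induction hu using Subgroup.closure_induction with
      | mem t ht => right; exact hxT t ht
      | one => left; rfl
      | mul a b ha hb iha ihb =>
        rw [hT] at ha hb
        by_cases ha1 : a = 1
        · rw [ha1, one_mul]; exact ihb
        by_cases hb1 : b = 1
        · rw [hb1, mul_one]; exact iha
        by_cases hab : a * b = 1
        · left; exact hab
        right
        have iha' : x ∈ Q a := iha.resolve_left ha1
        have ihb' : x ∈ Q b := ihb.resolve_left hb1
        have hbne : b ≠ a := by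
          intro h1
          apply hab
          rw [h1]; exact hU2 a ha
        exact mem_Q_mul Q hQ z hz hE hC (hS a ha ha1) (hO a ha b hb ha1 hb1) hb1 hbne
          (hO (a * b) (U.mul_mem ha hb) a ha hab ha1) iha' ihb'
      | inv a ha iha =>
        rw [hT] at ha
        have : a⁻¹ = a := inv_eq_of_mul_eq_one_left (hU2 a ha)
        rw [this]; exact iha
    rw [Subgroup.mem_iInf]
    intro u
    rw [Subgroup.mem_iInf]
    rintro ⟨hu, hu1⟩
    rw [← hT] at hu
    rcases key u hu with h1 | h1
    · exact absurd h1 hu1
    · exact h1


end Cfsg.Agent.S5598
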