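import Cfsg.Statements.S5600
import Cfsg.Agent.Helper9.Golay.SixSets
import Cfsg.Agent.Helper9.Golay.Restrict

set_option autoImplicit false
open scoped Pointwise
open Cfsg

namespace Cfsg.Agent.S5600

/-- Although the group of the length-24 code is only 5-transitive on the 24 points, it induces the full symmetric group on every 6-element subset: every permutation of a 6-set E is the restriction of an element of the group mapping E to itself. The pointwise stabiliser of E has order 16 when E lies in an octad and order 3 otherwise; in the latter case the setwise stabiliser of E has order 2160. -/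
theorem result (E : Finset Cfsg.GolayPt) (hE : E.card = 6) : (∀ σ : Equiv.Perm ↥E, ∃ g ∈ Cfsg.M24, ∀ p : ↥E, g p = σ p) ∧ ((∃ o ∈ Cfsg.octads, E ⊆ o) → Nat.card {g : Equiv.Perm Cfsg.GolayPt // g ∈ Cfsg.M24 ∧ ∀ p ∈ E, g p = p} = 16) ∧ ((¬ ∃ o ∈ Cfsg.octads, E ⊆ o) → Nat.card {g : Equiv.Perm Cfsg.GolayPt // g ∈ Cfsg.M24 ∧ ∀ p ∈ E, g p = p} = 3 ∧ Nat.card ↥(MulAction.stabilizer Cfsg.M24 E) = 2160) := by
  classical
  let e0 : Fin 6 ≃ ↥E := (E.equivFinOfCardEq hE).symm
  have hcond : ∀ f : Fin 6 ≃ ↥E, (∃ o ∈ Cfsg.octads, ∀ i, ((f i : ↥E) : Cfsg.GolayPt) ∈ o) ↔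
      ∃ o ∈ Cfsg.octads, E ⊆ o := by
    intro f
    constructor
    · rintro ⟨o, ho, h⟩
      refine ⟨o, ho, ?_⟩
      intro p hp
      have := h (f.symm ⟨p, hp⟩)
      rw [Equiv.apply_symm_apply] at this
      exact this
    · rintro ⟨o, ho, h⟩
      exact ⟨o, ho, fun i => h (f i).2⟩
  let emb : (Fin 6 ≃ ↥E) → (Fin 6 ↪ Cfsg.GolayPt) := fun f =>
    f.toEmbedding.trans (Function.Embedding.subtype _)
  have hfixiff : ∀ g : Equiv.Perm Cfsg.GolayPt,
      (g ∈ Cfsg.M24 ∧ ∀ p ∈ E, g p = p) ↔ (g ∈ Cfsg.M24 ∧ ∀ i, g (emb e0 i) = emb e0 i) := by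
    intro g
    apply and_congr Iff.rfl
    constructor
    · intro h i
      exact h _ (e0 i).2
    · intro h p hp
      have := h (e0.symm ⟨p, hp⟩)
      simp only [emb, Function.Embedding.trans_apply, Equiv.coe_toEmbedding,
        Equiv.apply_symm_apply, Function.Embedding.subtype_apply] at this
      exact this
  -- every permutation is induced
  have hA : ∀ σ : Equiv.Perm ↥E, ∃ g ∈ Cfsg.M24, ∀ p : ↥E, g p = σ p := by
    intro σ
    obtain ⟨g, hg, hgi⟩ := Cfsg.Agent.Helper9.Golay.six_perm (emb e0) (emb (e0.trans σ))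
      ((hcond e0).trans (hcond (e0.trans σ)).symm)
    refine ⟨g, hg, ?_⟩
    intro p
    have := hgi (e0.symm p)
    simp only [emb, Function.Embedding.trans_apply, Equiv.coe_toEmbedding,
      Equiv.apply_symm_apply, Function.Embedding.subtype_apply, Equiv.trans_apply] at this
    exact this
  refine ⟨hA, ?_, ?_⟩
  · intro hoct
    rw [Nat.card_congr (Equiv.subtypeEquivRight hfixiff)]
    exact Cfsg.Agent.Helper9.Golay.card_fix_six_in (emb e0) ((hcond e0).mpr hoct)
  · intro hoct
    have h3 : Nat.card {g : Equiv.Perm Cfsg.GolayPt // g ∈ Cfsg.M24 ∧ ∀ p ∈ E, g p = p} = 3 := by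
      rw [Nat.card_congr (Equiv.subtypeEquivRight hfixiff)]
      exact Cfsg.Agent.Helper9.Golay.card_fix_six_out (emb e0)
        (fun h => hoct ((hcond e0).mp h))
    refine ⟨h3, ?_⟩
    let ρ := Cfsg.Agent.Helper9.Golay.restrictOf E (MulAction.stabilizer Cfsg.M24 E) le_rfl
    have hsurj : Function.Surjective ρ := by
      intro σ
      obtain ⟨g, hg, hgσ⟩ := hA σ
      have hgE : g • E = E := by
        apply Finset.eq_of_subset_of_card_le
        · intro q hq
          obtain ⟨p, hp, rfl⟩ := Finset.mem_smul_finset.mp hq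
          have := hgσ ⟨p, hp⟩
          change g p = _ at this
          change g p ∈ E
          rw [this]
          exact (σ ⟨p, hp⟩).2
        · rw [Cfsg.Agent.Helper9.Golay.card_smul_finset]
      refine ⟨⟨⟨g, hg⟩, hgE⟩, ?_⟩
      apply Equiv.ext
      intro p
      apply Subtype.ext
      exact hgσ p
    have hker : Nat.card ρ.ker = 3 := by
      rw [← h3]
      apply Nat.card_congr
      refine ⟨fun x => ⟨((x.1 : ↥(MulAction.stabilizer Cfsg.M24 E)) : Cfsg.M24).1,
        ((x.1 : ↥(MulAction.stabilizer Cfsg.M24 E)) : Cfsg.M24).2, ?_⟩,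
        fun g => ⟨⟨⟨g.1, g.2.1⟩, ?_⟩, ?_⟩, ?_, ?_⟩
      · intro p hp
        have hx : ρ x.1 = 1 := x.2
        have := congrArg (fun f : Equiv.Perm ↥E => ((f ⟨p, hp⟩ : ↥E) : Cfsg.GolayPt)) hx
        exact this
      · rw [MulAction.mem_stabilizer_iff]
        change g.1 • E = E
        apply Finset.eq_of_subset_of_card_le
        · intro q hq
          obtain ⟨p, hp, rfl⟩ := Finset.mem_smul_finset.mp hq
          change g.1 p ∈ E
          rw [g.2.2 p hp]
          exact hp
        · rw [Cfsg.Agent.Helper9.Golay.card_smul_finset]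
      · rw [MonoidHom.mem_ker]
        apply Equiv.ext
        intro p
        apply Subtype.ext
        exact g.2.2 p.1 p.2
      · intro x
        rfl
      · intro g
        rfl
    have h1 := Subgroup.card_mul_index ρ.ker
    rw [Subgroup.index_ker, MonoidHom.range_eq_top.mpr hsurj, Subgroup.card_top, hker,
      Nat.card_perm, Nat.card_eq_fintype_card, Fintype.card_coe, hE] at h1
    rw [← h1]
    decide

end Cfsg.Agent.S5600
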