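import Cfsg.Statements.S5604
import Cfsg.Agent.Helper9.Golay.N7
import Cfsg.Agent.Helper9.ConjTransport

set_option autoImplicit false
open scoped Pointwise
open Cfsg

namespace Cfsg.Agent.S5604

/-- For a subgroup S of order 7 of the group of the length-24 code (a Sylow 7-subgroup): the normaliser of S has order 126, the centraliser of S has order 42 and is non-abelian, and the whole normaliser leaves some trio invariant. (These are the orders of a Frobenius group of order 21 times a symmetric group of degree 3; the isomorphism type itself is not asserted here.) -/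
theorem result (S : Subgroup ↥Cfsg.M24) (hS : Nat.card S = 7) : Nat.card ↥(Subgroup.normalizer (S : Set ↥Cfsg.M24)) = 126 ∧ Nat.card ↥(Subgroup.centralizer (S : Set ↥Cfsg.M24)) = 42 ∧ (∃ x ∈ Subgroup.centralizer (S : Set ↥Cfsg.M24), ∃ y ∈ Subgroup.centralizer (S : Set ↥Cfsg.M24), x * y ≠ y * x) ∧ ∃ T ∈ Cfsg.trios, ∀ n ∈ Subgroup.normalizer (S : Set ↥Cfsg.M24), ((n : ↥Cfsg.M24) : Equiv.Perm Cfsg.GolayPt) • T = T := by
  open Cfsg.Agent.Helper9 Cfsg.Agent.Helper9.Golay in
  have hp : Fact (Nat.Prime 7) := ⟨by norm_num⟩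
  have hnd : ¬ 7 ^ (1 + 1) ∣ Nat.card ↥M24 := by
    rw [card_M24]
    decide
  have hP0 : IsPGroup 7 N7.S0 := IsPGroup.of_card (n := 1) (by rw [N7.card_S0, pow_one])
  obtain ⟨c, hc⟩ := exists_conj_le S (by rw [hS, pow_one]) hnd N7.S0 hP0
  have heq : MulAut.conj c • N7.S0 = S := by
    apply Subgroup.eq_of_le_of_card_ge hc
    rw [hS, ← Nat.card_congr (Subgroup.equivSMul (MulAut.conj c) N7.S0).toEquiv, N7.card_S0]
  have hK : ∀ x, x ∈ S ↔ c⁻¹ * x * c ∈ N7.S0 := by
    intro x
    rw [← heq, Subgroup.mem_pointwise_smul_iff_inv_smul_mem, MulAut.smul_def, ← map_inv,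
      MulAut.conj_apply, inv_inv]
  have hN := ConjT.normalizer_conj_iff N7.S0 S c hK
  have hC := ConjT.centralizer_conj_iff N7.S0 S c hK
  have hcardC : Nat.card ↥(Subgroup.centralizer (S : Set ↥Cfsg.M24)) = 42 := by
    rw [ConjT.card_of_conj_iff _ _ c hC]
    exact N7.card_cent
  refine ⟨ConjT.card_normalizer_seven S hS card_M24 hcardC, hcardC, ?_, ?_⟩
  · obtain ⟨x, hx, y, hy, hxy⟩ := N7.cent_nonabelian
    refine ⟨c * x * c⁻¹, ?_, c * y * c⁻¹, ?_, ?_⟩
    · rw [hC]
      have e : c⁻¹ * (c * x * c⁻¹) * c = x := by group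
      rw [e]
      exact hx
    · rw [hC]
      have e : c⁻¹ * (c * y * c⁻¹) * c = y := by group
      rw [e]
      exact hy
    · intro h
      apply hxy
      have e1 : x * y = c⁻¹ * (c * x * c⁻¹ * (c * y * c⁻¹)) * c := by group
      have e2 : y * x = c⁻¹ * (c * y * c⁻¹ * (c * x * c⁻¹)) * c := by group
      rw [e1, e2, h]
  · refine ⟨(c : Equiv.Perm GolayPt) • N7.T0, ?_, ?_⟩
    · obtain ⟨h1, h2, h3⟩ := N7.T0_mem_trios
      refine ⟨by rw [Finset.card_smul_finset]; exact h1, ?_, ?_⟩
      · intro o ho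
        obtain ⟨o', ho', rfl⟩ := Finset.mem_smul_finset.mp ho
        exact smul_mem_wordsOfWeight c.2 (h2 o' ho')
      · intro o ho o' ho' hne
        obtain ⟨a, ha, rfl⟩ := Finset.mem_smul_finset.mp ho
        obtain ⟨b, hb, rfl⟩ := Finset.mem_smul_finset.mp ho'
        have hab : a ≠ b := fun h => hne (by rw [h])
        have hd := h3 a ha b hb hab
        rw [Finset.disjoint_iff_inter_eq_empty] at hd ⊢
        rw [← Finset.smul_finset_inter, hd, Finset.smul_finset_empty]
    · intro n hn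
      have h1 := N7.normalizer_trio _ ((hN n).mp hn)
      rw [Subgroup.coe_mul, Subgroup.coe_mul, Subgroup.coe_inv] at h1
      rw [smul_smul]
      have e : (n : Equiv.Perm GolayPt) * (c : Equiv.Perm GolayPt) =
          (c : Equiv.Perm GolayPt) * ((c : Equiv.Perm GolayPt)⁻¹ * (n : Equiv.Perm GolayPt) *
            (c : Equiv.Perm GolayPt)) := by group
      rw [e, mul_smul, h1]

end Cfsg.Agent.S5604
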