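import Cfsg.Statements.S5608
import Cfsg.Agent.Helper9.Golay.F6Check
import Cfsg.Agent.Helper9.Golay.Elt3
import Cfsg.Agent.Helper9.FixedPt

set_option autoImplicit false
open scoped Pointwise
open Cfsg

namespace Cfsg.Agent.S5608

/-- If an element of order 3 and an involution of the group of the length-24 code commute, then either the element of order 3 has exactly 6 fixed points and the involution exactly 8, or both are fixed-point-free. -/
theorem result (x s : Equiv.Perm Cfsg.GolayPt) (hx : x ∈ Cfsg.M24) (hs : s ∈ Cfsg.M24) (h₃ : orderOf x = 3) (h₂ : orderOf s = 2) (hc : Commute x s) : ((Finset.univ.filter fun p => x p = p).card = 6 ∧ (Finset.univ.filter fun p => s p = p).card = 8) ∨ ((Finset.univ.filter fun p => x p = p).card = 0 ∧ (Finset.univ.filter fun p => s p = p).card = 0) := by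
  classical
  have : Fact (Nat.Prime 3) := ⟨by norm_num⟩
  obtain ⟨k, hk, r, hr, hconj, hcase⟩ := Helper9.Golay.elt3_classify x hx h₃
  have hsF := Helper9.Golay.involutions_main.1 s hs h₂
  have hs2 : s * s = 1 := by rw [← pow_two, ← h₂]; exact pow_orderOf_eq_one s
  have hx3 : x ^ 3 ^ 1 = 1 := by rw [pow_one, ← h₃]; exact pow_orderOf_eq_one x
  rcases hcase with ⟨hrt, h6⟩ | ⟨hrt, h0⟩
  · left
    refine ⟨h6, ?_⟩
    rcases hsF with ho | hfpf
    · exact ho.2
    · exfalso
      have hr3 : r * r * r = 1 := by
        have e : Helper9.Golay.IsTbl (r * (r * r)) (Helper9.Golay.mulT Helper9.Golay.p3Rep6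
            (Helper9.Golay.mulT Helper9.Golay.p3Rep6 Helper9.Golay.p3Rep6)) := hrt.mul (hrt.mul hrt)
        rw [Helper9.Golay.p3Rep6_props.2.2] at e
        rw [mul_assoc]
        exact e.eq_of_eq Helper9.Golay.isTbl_one
      -- the conjugate of `s` commutes with `r`
      have hc' : (k * s * k⁻¹) * (k * x * k⁻¹) = (k * x * k⁻¹) * (k * s * k⁻¹) := by
        have := hc.eq
        calc (k * s * k⁻¹) * (k * x * k⁻¹) = k * (s * x) * k⁻¹ := by group
          _ = k * (x * s) * k⁻¹ := by rw [this]
          _ = (k * x * k⁻¹) * (k * s * k⁻¹) := by group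
      have hcr : (k * s * k⁻¹) * r = r * (k * s * k⁻¹) := by
        rcases hconj with h | h
        · rw [h] at hc'
          exact hc'
        · rw [h] at hc'
          have hr' : r = (r * r) * (r * r) := by
            calc r = r * (r * r * r) := by rw [hr3, mul_one]
              _ = (r * r) * (r * r) := by group
          calc (k * s * k⁻¹) * r = (k * s * k⁻¹) * ((r * r) * (r * r)) := by rw [← hr']
            _ = ((k * s * k⁻¹) * (r * r)) * (r * r) := by group
            _ = ((r * r) * (k * s * k⁻¹)) * (r * r) := by rw [hc']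
            _ = (r * r) * ((k * s * k⁻¹) * (r * r)) := by group
            _ = (r * r) * ((r * r) * (k * s * k⁻¹)) := by rw [hc']
            _ = ((r * r) * (r * r)) * (k * s * k⁻¹) := by group
            _ = r * (k * s * k⁻¹) := by rw [← hr']
      apply Helper9.Golay.no_fpf_commute_six hrt
        (Cfsg.M24.mul_mem (Cfsg.M24.mul_mem hk hs) (Cfsg.M24.inv_mem hk)) ?_ hcr ?_
      · calc (k * s * k⁻¹) * (k * s * k⁻¹) = k * (s * s) * k⁻¹ := by group
          _ = 1 := by rw [hs2]; group
      · intro p hp
        apply hfpf (k⁻¹ p)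
        rw [Equiv.Perm.mul_apply, Equiv.Perm.mul_apply] at hp
        exact Equiv.Perm.eq_inv_iff_eq.mpr hp
  · right
    refine ⟨h0, ?_⟩
    rcases hsF with ho | hfpf
    · exfalso
      obtain ⟨a, -, ha⟩ := Helper9.exists_fixed_of_invariant x 3 1 hx3
        (Finset.univ.filter fun p => s p = p)
        (by
          intro a ha
          rw [Finset.mem_filter] at ha ⊢
          refine ⟨Finset.mem_univ _, ?_⟩
          have := congrArg (fun f => f a) hc.eq
          simp only [Equiv.Perm.mul_apply] at this
          rw [← this, ha.2])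
        (by rw [ho.2]; norm_num)
      rw [Finset.card_eq_zero, Finset.filter_eq_empty_iff] at h0
      exact h0 (Finset.mem_univ a) ha
    · rw [Finset.card_eq_zero, Finset.filter_eq_empty_iff]
      intro p _
      exact hfpf p

end Cfsg.Agent.S5608
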