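import Cfsg.Statements.S5614
import Cfsg.Agent.Helper9.Golay.OctTwo
import Cfsg.Agent.Helper9.Golay.Restrict

set_option autoImplicit false
open scoped Pointwise
open Cfsg

namespace Cfsg.Agent.S5614

/-- In the group of the length-24 code, the joint stabiliser of two octads meeting in exactly two points is isomorphic to the symmetric group of degree 6. -/
theorem result (o o' : Finset Cfsg.GolayPt) (ho : o ∈ Cfsg.octads) (ho' : o' ∈ Cfsg.octads) (h₂ : (o ∩ o').card = 2) : Nonempty (↥(MulAction.stabilizer Cfsg.M24 o ⊓ MulAction.stabilizer Cfsg.M24 o') ≃* Equiv.Perm (Fin 6)) := by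
  classical
  have hE : (o \ o').card = 6 := by
    have := Finset.card_sdiff_add_card_inter o o'
    have h8 : o.card = 8 := ho.2
    omega
  have hJ : MulAction.stabilizer Cfsg.M24 o ⊓ MulAction.stabilizer Cfsg.M24 o' ≤
      MulAction.stabilizer Cfsg.M24 (o \ o') := by
    intro g hg
    obtain ⟨h1, h2⟩ := Subgroup.mem_inf.mp hg
    rw [MulAction.mem_stabilizer_iff] at h1 h2 ⊢
    rw [Finset.smul_finset_sdiff, h1, h2]
  let φ := Cfsg.Agent.Helper9.Golay.restrictOf (o \ o') _ hJ
  have hinj : Function.Injective φ := by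
    rw [injective_iff_map_eq_one]
    intro g hg
    have hgo' : ((g : Cfsg.M24) : Equiv.Perm Cfsg.GolayPt) • o' = o' :=
      (Subgroup.mem_inf.mp g.2).2
    have : ((g : Cfsg.M24) : Equiv.Perm Cfsg.GolayPt) = 1 :=
      Cfsg.Agent.Helper9.Golay.oct2_faithful ho ho' h₂ (g : Cfsg.M24).2 hgo'
        (fun p hp => congrArg
          (fun f : Equiv.Perm ↥(o \ o') => ((f ⟨p, hp⟩ : ↥(o \ o')) : Cfsg.GolayPt)) hg)
    exact Subtype.ext (Subtype.ext this)
  have hcard : Nat.card (Equiv.Perm ↥(o \ o')) =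
      Nat.card ↥(MulAction.stabilizer Cfsg.M24 o ⊓ MulAction.stabilizer Cfsg.M24 o') := by
    rw [Cfsg.Agent.Helper9.Golay.card_joint_oct2 ho ho' h₂, Nat.card_perm,
      Nat.card_eq_fintype_card, Fintype.card_coe, hE]
    decide
  have hbij : Function.Bijective φ := hinj.bijective_of_nat_card_le (le_of_eq hcard)
  exact ⟨(MulEquiv.ofBijective φ hbij).trans
    (Equiv.permCongrHom ((o \ o').equivFinOfCardEq hE))⟩

end Cfsg.Agent.S5614
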