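import Cfsg.Statements.S5618
import Cfsg.Agent.Helper9.Golay.Restrict
import Cfsg.Agent.S0384

set_option autoImplicit false
open scoped Pointwise
open Cfsg

namespace Cfsg.Agent.S5618

/-- For a dodecad d of the length-24 code and a hexad C on it (a 6-point intersection of d with an octad): the joint stabiliser of d and C in the code's group is isomorphic to the symmetric group of degree 6, and it acts faithfully both on the six points of C and on the six points of d outside C. -/
theorem result (d : Finset Cfsg.GolayPt) (hd : d ∈ Cfsg.dodecads) (C : Finset Cfsg.GolayPt) (hC : C ∈ Cfsg.hexadsOn d) : Nonempty (↥(MulAction.stabilizer Cfsg.M24 d ⊓ MulAction.stabilizer Cfsg.M24 C) ≃* Equiv.Perm (Fin 6)) ∧ (∀ g ∈ MulAction.stabilizer Cfsg.M24 d ⊓ MulAction.stabilizer Cfsg.M24 C, (∀ p ∈ C, ((g : ↥Cfsg.M24) : Equiv.Perm Cfsg.GolayPt) p = p) → g = 1) ∧ ∀ g ∈ MulAction.stabilizer Cfsg.M24 d ⊓ MulAction.stabilizer Cfsg.M24 C, (∀ p ∈ d \ C, ((g : ↥Cfsg.M24) : Equiv.Perm Cfsg.GolayPt) p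 = p) → g = 1 := by
  classical
  obtain ⟨hC6, o, ho, hoC⟩ := hC
  have hCd : C ⊆ d := by rw [← hoC]; exact Finset.inter_subset_right
  have hCo : C ⊆ o := by rw [← hoC]; exact Finset.inter_subset_left
  have hd12 : d.card = 12 := hd.2
  -- sharpness
  have sharp : ∀ g : Cfsg.M24, g • d = d → ∀ s : Finset Cfsg.GolayPt, s ⊆ d → 5 ≤ s.card →
      (∀ p ∈ s, (g : Equiv.Perm Cfsg.GolayPt) p = p) → g = 1 := by
    intro g hg s hsd hs5 hfix
    have hcard : Fintype.card (Fin 5) ≤ Fintype.card ↥s := by simpa using hs5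
    obtain ⟨x0⟩ := Function.Embedding.nonempty_of_card_le hcard
    let x : Fin 5 ↪ Cfsg.GolayPt := x0.trans (Function.Embedding.subtype _)
    have hx : ∀ i, x i ∈ d := fun i => hsd (x0 i).2
    have huniq := (Cfsg.Agent.S0384.result d hd x x hx hx).unique
      (y₁ := ⟨g, hg⟩) (y₂ := 1) (fun i => hfix _ (x0 i).2) (fun i => rfl)
    exact congrArg Subtype.val huniq
  have hJ : MulAction.stabilizer Cfsg.M24 d ⊓ MulAction.stabilizer Cfsg.M24 C ≤
      MulAction.stabilizer Cfsg.M24 C := inf_le_right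
  let φ := Cfsg.Agent.Helper9.Golay.restrictOf C _ hJ
  have hinj : Function.Injective φ := by
    rw [injective_iff_map_eq_one]
    intro g hg
    have hgd : (g : Cfsg.M24) • d = d := (Subgroup.mem_inf.mp g.2).1
    have : (g : Cfsg.M24) = 1 := by
      apply sharp _ hgd C hCd (by omega)
      intro p hp
      have := congrArg (fun f : Equiv.Perm ↥C => ((f ⟨p, hp⟩ : ↥C) : Cfsg.GolayPt)) hg
      exact this
    exact Subtype.ext this
  have hsurj : Function.Surjective φ := by
    intro τ
    have hcard : Fintype.card (Fin 5) ≤ Fintype.card ↥C := by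
      rw [Fintype.card_coe, hC6]; simp
    obtain ⟨x0⟩ := Function.Embedding.nonempty_of_card_le hcard
    let x : Fin 5 ↪ Cfsg.GolayPt := x0.trans (Function.Embedding.subtype _)
    let y : Fin 5 ↪ Cfsg.GolayPt :=
      (x0.trans τ.toEmbedding).trans (Function.Embedding.subtype _)
    have hx : ∀ i, x i ∈ d := fun i => hCd (x0 i).2
    have hy : ∀ i, y i ∈ d := fun i => hCd (τ (x0 i)).2
    obtain ⟨g, hg, -⟩ := Cfsg.Agent.S0384.result d hd x y hx hy
    have hgd : (g : Cfsg.M24) • d = d := g.2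
    have hgo : ((g : Cfsg.M24) : Equiv.Perm Cfsg.GolayPt) • o = o := by
      have h1 : ((g : Cfsg.M24) : Equiv.Perm Cfsg.GolayPt) • o ∈ Cfsg.octads :=
        Cfsg.Agent.Helper9.Golay.smul_mem_wordsOfWeight (g : Cfsg.M24).2 ho
      refine Cfsg.Agent.Helper9.Golay.octads_unique h1 ho (Finset.univ.map y) (by simp) ?_ ?_
      · intro p hp
        rw [Finset.mem_map] at hp
        obtain ⟨i, -, rfl⟩ := hp
        rw [← hg i]
        exact Finset.smul_mem_smul_finset (hCo (x0 i).2)
      · intro p hp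
        rw [Finset.mem_map] at hp
        obtain ⟨i, -, rfl⟩ := hp
        exact hCo (τ (x0 i)).2
    have hgC : (g : Cfsg.M24) • C = C := by
      have h1 : ((g : Cfsg.M24) : Equiv.Perm Cfsg.GolayPt) • C = C := by
        have hgd' : ((g : Cfsg.M24) : Equiv.Perm Cfsg.GolayPt) • d = d := hgd
        rw [← hoC, Finset.smul_finset_inter, hgo, hgd']
      exact h1
    let gJ : ↥(MulAction.stabilizer Cfsg.M24 d ⊓ MulAction.stabilizer Cfsg.M24 C) :=
      ⟨(g : Cfsg.M24), Subgroup.mem_inf.mpr ⟨g.2, hgC⟩⟩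
    refine ⟨gJ, ?_⟩
    have hone : τ⁻¹ * φ gJ = 1 := by
      apply Cfsg.Agent.Helper9.Golay.perm_eq_one_of_fix _ (Finset.univ.map x0)
      · rw [Fintype.card_coe, hC6]; simp
      · intro p hp
        rw [Finset.mem_map] at hp
        obtain ⟨i, -, rfl⟩ := hp
        rw [Equiv.Perm.mul_apply]
        have : φ gJ (x0 i) = τ (x0 i) := by
          apply Subtype.ext
          exact hg i
        rw [this]
        simp
    have := congrArg (fun f => τ * f) hone
    simpa using this
  refine ⟨⟨(MulEquiv.ofBijective φ ⟨hinj, hsurj⟩).trans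
    (Equiv.permCongrHom (C.equivFinOfCardEq hC6))⟩, ?_, ?_⟩
  · intro g hg hfix
    exact sharp g (Subgroup.mem_inf.mp hg).1 C hCd (by omega) hfix
  · intro g hg hfix
    refine sharp g (Subgroup.mem_inf.mp hg).1 (d \ C) Finset.sdiff_subset ?_ hfix
    rw [Finset.card_sdiff_of_subset hCd]
    omega

end Cfsg.Agent.S5618
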