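import Cfsg.Statements.S5620
import Cfsg.Agent.Helper9.Golay.SqDod

set_option autoImplicit false
open scoped Pointwise
open Cfsg

namespace Cfsg.Agent.S5620

/-- Inside the stabiliser of the dodecad of squares (a Mathieu group of degree 12), the stabiliser of the residue 0 (a point of the dodecad) and the stabiliser of the extra point (a point outside the dodecad) are isomorphic but not conjugate; conjugation by a suitable element of the code's group that maps the dodecad of squares onto its complement carries the first onto the second. -/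
theorem result : Nonempty (↥(Cfsg.Spor.M12 ⊓ MulAction.stabilizer (Equiv.Perm Cfsg.GolayPt) (none : Cfsg.GolayPt)) ≃* ↥Cfsg.Spor.M11) ∧ (¬ ∃ k ∈ Cfsg.Spor.M12, MulAut.conj k • Cfsg.Spor.M11 = Cfsg.Spor.M12 ⊓ MulAction.stabilizer (Equiv.Perm Cfsg.GolayPt) (none : Cfsg.GolayPt)) ∧ ∃ g ∈ Cfsg.M24, g • Cfsg.Spor.squareDodecad = Finset.univ \ Cfsg.Spor.squareDodecad ∧ MulAut.conj g • Cfsg.Spor.M11 = Cfsg.Spor.M12 ⊓ MulAction.stabilizer (Equiv.Perm Cfsg.GolayPt) (none : Cfsg.GolayPt) := by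
  classical
  obtain ⟨g, hg, hgS, hg0⟩ := Cfsg.Agent.Helper9.Golay.exists_swap_sqDod
  have hcompl : (Finset.univ \ Cfsg.Spor.squareDodecad) = Cfsg.Spor.squareDodecadᶜ :=
    (Finset.compl_eq_univ_sdiff _).symm
  have hconj : MulAut.conj g • Cfsg.Spor.M11 =
      Cfsg.Spor.M12 ⊓ MulAction.stabilizer (Equiv.Perm Cfsg.GolayPt) (none : Cfsg.GolayPt) := by
    ext x
    rw [Cfsg.Agent.Helper9.Golay.mem_conj_smul_iff, Cfsg.Agent.Helper9.Golay.mem_M11_iff,
      Cfsg.Agent.Helper9.Golay.mem_M12_none_iff]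
    constructor
    · rintro ⟨h1, h2, h3⟩
      refine ⟨?_, ?_, ?_⟩
      · have := Cfsg.M24.mul_mem (Cfsg.M24.mul_mem hg h1) (Cfsg.M24.inv_mem hg)
        have e : g * (g⁻¹ * x * g) * g⁻¹ = x := by group
        rwa [e] at this
      · rw [← Cfsg.Agent.Helper9.Golay.smul_compl_eq_iff, ← hgS]
        have := congrArg (fun s => g • s) h2
        simp only [mul_smul, smul_inv_smul] at this
        exact this
      · have := congrArg g h3
        simp only [Equiv.Perm.mul_apply, Equiv.Perm.coe_inv, Equiv.apply_symm_apply] at this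
        rw [hg0] at this
        exact this
    · rintro ⟨h1, h2, h3⟩
      refine ⟨Cfsg.M24.mul_mem (Cfsg.M24.mul_mem (Cfsg.M24.inv_mem hg) h1) hg, ?_, ?_⟩
      · rw [mul_smul, mul_smul, hgS, (Cfsg.Agent.Helper9.Golay.smul_compl_eq_iff x _).mpr h2,
          ← hgS, inv_smul_smul]
      · rw [Equiv.Perm.mul_apply, Equiv.Perm.mul_apply, hg0, h3, ← hg0]
        simp only [Equiv.Perm.coe_inv, Equiv.symm_apply_apply]
  refine ⟨?_, ?_, ⟨g, hg, by rw [hcompl]; exact hgS, hconj⟩⟩
  · rw [← hconj]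
    exact ⟨(Subgroup.equivSMul (MulAut.conj g) Cfsg.Spor.M11).symm⟩
  · rintro ⟨k, hk, hkconj⟩
    have hkS : k • Cfsg.Spor.squareDodecad = Cfsg.Spor.squareDodecad := (Subgroup.mem_inf.mp hk).2
    have ha : k (some 0) ∈ Cfsg.Spor.squareDodecad := by
      rw [← hkS]
      exact Finset.smul_mem_smul_finset Cfsg.Agent.Helper9.Golay.zero_mem_sqDod
    have h12 : Cfsg.Spor.squareDodecad.card = 12 := Cfsg.Agent.Helper9.Golay.sqDod_mem.2
    obtain ⟨a', ha', hne⟩ := Finset.exists_mem_ne (by omega : 1 < Cfsg.Spor.squareDodecad.card)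
      (k (some 0))
    obtain ⟨x, hx, hxd, hxn, hxa⟩ := Cfsg.Agent.Helper9.Golay.dodecad_pt_trans_compl
      (Cfsg.Agent.Helper9.Golay.compl_mem_dodecads Cfsg.Agent.Helper9.Golay.sqDod_mem)
      (Finset.mem_compl.mpr Cfsg.Agent.Helper9.Golay.none_not_mem_sqDod)
      (a := k (some 0)) (b := a')
      (by rw [Finset.mem_compl, not_not]; exact ha) (by rw [Finset.mem_compl, not_not]; exact ha')
    have hxmem : x ∈ Cfsg.Spor.M12 ⊓
        MulAction.stabilizer (Equiv.Perm Cfsg.GolayPt) (none : Cfsg.GolayPt) :=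
      Cfsg.Agent.Helper9.Golay.mem_M12_none_iff.mpr
        ⟨hx, (Cfsg.Agent.Helper9.Golay.smul_compl_eq_iff x _).mp hxd, hxn⟩
    rw [← hkconj, Cfsg.Agent.Helper9.Golay.mem_conj_smul_iff,
      Cfsg.Agent.Helper9.Golay.mem_M11_iff] at hxmem
    have := congrArg k hxmem.2.2
    simp only [Equiv.Perm.mul_apply, Equiv.Perm.coe_inv, Equiv.apply_symm_apply] at this
    rw [hxa] at this
    exact hne this

end Cfsg.Agent.S5620
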