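import Cfsg.Statements.S5627
import Cfsg.Agent.Helper9.Steiner.Plane4
import Cfsg.Agent.Helper9.Steiner.ArcTransport

set_option autoImplicit false
open Cfsg

namespace Cfsg.Agent.S5627

/-- In a projective plane of order 4 (a Steiner system S(2, 5, 21)), call a set of points independent when no line meets it in more than two points. There are exactly 2520 independent 4-sets and exactly 168 independent 6-sets (hyperovals), and every independent 4-set lies in exactly one hyperoval. -/
theorem result {α : Type*} [Fintype α] [DecidableEq α] (hα : Fintype.card α = 21) (L : Set (Finset α)) (hL : Cfsg.IsSteinerSystem 2 5 L) : {S : Finset α | (S.card = 4 ∧ ∀ l ∈ L, (l ∩ S).card ≤ 2)}.ncard = 2520 ∧ {H : Finset α | (H.card = 6 ∧ ∀ l ∈ L, (l ∩ H).card ≤ 2)}.ncard = 168 ∧ ∀ S : Finset α, (S.card = 4 ∧ ∀ l ∈ L, (l ∩ S).card ≤ 2) → ∃! H : Finset α, (H.card = 6 ∧ ∀ l ∈ L, (l ∩ H).card ≤ 2) ∧ S ⊆ H := by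
  obtain ⟨e, he⟩ := Cfsg.Agent.Helper9.Steiner.iso_std_of_checked
    Cfsg.Agent.Helper9.Steiner.D2521.checked hα hL
  refine ⟨?_, ?_, ?_⟩
  · rw [Cfsg.Agent.Helper9.Steiner.ncard_arcs_congr e L 4, he]
    exact Cfsg.Agent.Helper9.Steiner.Plane4.ncard_arcs4
  · rw [Cfsg.Agent.Helper9.Steiner.ncard_arcs_congr e L 6, he]
    exact Cfsg.Agent.Helper9.Steiner.Plane4.ncard_hyperovals
  · rintro S ⟨hSc, hS⟩
    have hS' : Cfsg.Agent.Helper9.Steiner.Plane4.Indep (S.image e) := by
      have := (Cfsg.Agent.Helper9.Steiner.arc_image_iff e L S).2 hS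
      rw [he] at this
      exact this
    have hSc' : (S.image e).card = 4 := by
      rw [Finset.card_image_of_injective _ e.injective]; exact hSc
    obtain ⟨H', ⟨⟨hH'c, hH'⟩, hsub⟩, huniq⟩ :=
      Cfsg.Agent.Helper9.Steiner.Plane4.exists_unique_hyperoval (S.image e) hSc' hS'
    have himg : ∀ T : Finset (Fin Cfsg.Agent.Helper9.Steiner.D2521.P.n),
        (T.image e.symm).image e = T := by
      intro T
      rw [Finset.image_image]; simp
    have hback : ∀ H : Finset α, (H.image e).image e.symm = H := by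
      intro H
      rw [Finset.image_image]; simp
    refine ⟨H'.image e.symm, ⟨⟨?_, ?_⟩, ?_⟩, ?_⟩
    · rw [Finset.card_image_of_injective _ e.symm.injective]; exact hH'c
    · rw [← Cfsg.Agent.Helper9.Steiner.arc_image_iff e L, himg, he]; exact hH'
    · intro a ha
      have := hsub (Finset.mem_image_of_mem e ha)
      rw [Finset.mem_image]
      exact ⟨e a, this, by simp⟩
    · rintro H ⟨⟨hHc, hH⟩, hSH⟩
      have h1 : H.image e = H' := by
        apply huniq
        refine ⟨⟨?_, ?_⟩, Finset.image_subset_image hSH⟩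
        · rw [Finset.card_image_of_injective _ e.injective]; exact hHc
        · have := (Cfsg.Agent.Helper9.Steiner.arc_image_iff e L H).2 hH
          rw [he] at this
          exact this
      rw [← h1, hback]

end Cfsg.Agent.S5627
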