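import Mathlib
import Cfsg.Statements.S5631
import Cfsg.Agent.Helper7.ParabolicMax

set_option autoImplicit false
open Cfsg

namespace Cfsg.Agent.S5631

open Matrix Cfsg.Agent.Helper7.TGL Cfsg.Agent.Helper7.PMax

/-- For a finite field F and n ≥ 13, the stabiliser in SL_n(F) of any proper non-zero subspace W of F^n is a maximal subgroup of SL_n(F). Here SL_n(F) is the kernel of the determinant inside GL_n(F) and the stabiliser is the set of elements of determinant one mapping W onto itself. -/
theorem result {F : Type*} [Field F] [Fintype F] (n : ℕ) (hn : 13 ≤ n) (W : Submodule F (Fin n → F)) (hW0 : W ≠ ⊥) (hW1 : W ≠ ⊤) : Cfsg.Geo.IsMaximalIn (Cfsg.Geo.specialLinear (Fin n) F) (Cfsg.Geo.subspaceStabilizer W ⊓ Cfsg.Geo.specialLinear (Fin n) F) := by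
  refine ⟨?_, ?_⟩
  · refine lt_of_le_of_ne inf_le_right ?_
    intro heq
    obtain ⟨w, hw, hw0⟩ := (Submodule.ne_bot_iff W).mp hW0
    obtain ⟨v, hv⟩ : ∃ v, v ∉ W := by
      by_contra h
      push Not at h
      exact hW1 (eq_top_iff.mpr fun x _ => h x)
    have hwv : w ∉ (⊥ : Submodule F (Fin n → F)) ⊔ Submodule.span F {v} := by
      rw [bot_sup_eq, Submodule.mem_span_singleton]
      rintro ⟨c, hc⟩
      have hc0 : c ≠ 0 := by
        rintro rfl
        rw [zero_smul] at hc
        exact hw0 hc.symm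
      apply hv
      have : v = c⁻¹ • w := by rw [← hc, smul_smul, inv_mul_cancel₀ hc0, one_smul]
      rw [this]
      exact W.smul_mem _ hw
    obtain ⟨g, hgSL, -, hgw⟩ := exists_tau ⊥ hwv
    have hg : g ∈ Cfsg.Geo.subspaceStabilizer W ⊓ Cfsg.Geo.specialLinear (Fin n) F := by
      rw [heq]; exact hgSL
    have h1 := ((mem_subspaceStabilizer_iff g W).mp hg.1 w).mp hw
    rw [hgw] at h1
    have := W.sub_mem h1 hw
    rw [add_sub_cancel_left] at this
    exact hv this
  · intro M hM1 hM2
    by_cases h : M ≤ Cfsg.Geo.subspaceStabilizer W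
    · left
      exact le_antisymm (le_inf h hM2) hM1
    · right
      obtain ⟨g, hgM, hgW⟩ := SetLike.not_le_iff_exists.mp h
      exact le_antisymm hM2 (specialLinear_le W M hM1 hgM hgW)

end Cfsg.Agent.S5631
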