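import Mathlib
import Cfsg.Statements.S5632
import Cfsg.Agent.Helper7.TransvectionGL

set_option autoImplicit false
open Cfsg

namespace Cfsg.Agent.S5632

open Matrix Cfsg.Agent.Helper7.TGL

/-- For a finite field F and subspaces 0 < W < U of F^n with dim W + dim U = n, the elements of SL_n(F) stabilising both W and U form a subgroup that is not maximal in SL_n(F): some subgroup lies strictly between it and SL_n(F). -/
theorem result {F : Type*} [Field F] [Fintype F] (n : ℕ) (W U : Submodule F (Fin n → F)) (hW0 : W ≠ ⊥) (hWU : W < U) (hdim : Module.finrank F W + Module.finrank F U = n) : ∃ K : Subgroup (Matrix.GeneralLinearGroup (Fin n) F), Cfsg.Geo.subspaceStabilizer W ⊓ Cfsg.Geo.subspaceStabilizer U ⊓ Cfsg.Geo.specialLinear (Fin n) F < K ∧ K < Cfsg.Geo.specialLinear (Fin n) F := by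
  -- `U` is a proper subspace
  have hWpos : 0 < Module.finrank F W := by
    rw [Module.finrank_pos_iff_exists_ne_zero]
    obtain ⟨w, hw, hw0⟩ := (Submodule.ne_bot_iff W).mp hW0
    exact ⟨⟨w, hw⟩, fun h => hw0 (congrArg Subtype.val h)⟩
  have hUtop : U ≠ ⊤ := by
    intro h
    rw [h, finrank_top, Module.finrank_pi, Fintype.card_fin] at hdim
    omega
  obtain ⟨v, hvU⟩ : ∃ v, v ∉ U := by
    by_contra hcon
    push Not at hcon
    exact hUtop (eq_top_iff.mpr (fun x _ => hcon x))
  obtain ⟨u, huU, huW⟩ := (SetLike.lt_iff_le_and_exists.mp hWU).2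
  obtain ⟨w, hwW, hw0⟩ := (Submodule.ne_bot_iff W).mp hW0
  have hvW : v ∉ W := fun h => hvU (hWU.le h)
  refine ⟨Cfsg.Geo.subspaceStabilizer W ⊓ Cfsg.Geo.specialLinear (Fin n) F, ?_, ?_⟩
  · rw [SetLike.lt_iff_le_and_exists]
    refine ⟨fun g hg => ⟨hg.1.1, hg.2⟩, ?_⟩
    -- a transvection fixing `W` and moving `u` out of `U`
    have hu : u ∉ W ⊔ Submodule.span F {v} := by
      intro h
      obtain ⟨w', hw', y, hy, e⟩ := Submodule.mem_sup.mp h
      obtain ⟨c, rfl⟩ := Submodule.mem_span_singleton.mp hy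
      by_cases hc : c = 0
      · rw [hc, zero_smul, add_zero] at e
        exact huW (e ▸ hw')
      · apply hvU
        have : c • v = u - w' := by rw [← e]; abel
        have h2 : c • v ∈ U := by rw [this]; exact U.sub_mem huU (hWU.le hw')
        have := U.smul_mem c⁻¹ h2
        rwa [smul_smul, inv_mul_cancel₀ hc, one_smul] at this
    obtain ⟨g, hgSL, hgW, hgu⟩ := exists_tau W hu
    refine ⟨g, ⟨hgW, hgSL⟩, ?_⟩
    intro hg
    have hgU := ((mem_subspaceStabilizer_iff g U).mp hg.1.2 u).mp huU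
    rw [hgu] at hgU
    apply hvU
    have := U.sub_mem hgU huU
    rwa [add_sub_cancel_left] at this
  · rw [SetLike.lt_iff_le_and_exists]
    refine ⟨fun g hg => hg.2, ?_⟩
    have hw : w ∉ (⊥ : Submodule F (Fin n → F)) ⊔ Submodule.span F {v} := by
      rw [bot_sup_eq]
      intro h
      obtain ⟨c, hc⟩ := Submodule.mem_span_singleton.mp h
      by_cases hc0 : c = 0
      · rw [hc0, zero_smul] at hc
        exact hw0 hc.symm
      · apply hvW
        have := W.smul_mem c⁻¹ (hc ▸ hwW)
        rwa [smul_smul, inv_mul_cancel₀ hc0, one_smul] at this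
    obtain ⟨g, hgSL, _, hgw⟩ := exists_tau ⊥ hw
    refine ⟨g, hgSL, ?_⟩
    intro hg
    have hgW := ((mem_subspaceStabilizer_iff g W).mp hg.1 w).mp hwW
    rw [hgw] at hgW
    apply hvW
    have := W.sub_mem hgW hwW
    rwa [add_sub_cancel_left] at this

end Cfsg.Agent.S5632
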