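import Mathlib
import Cfsg.Statements.S5633
import Cfsg.Agent.Helper7.TransvectionGL

set_option autoImplicit false
open Cfsg

namespace Cfsg.Agent.S5633

open Matrix Cfsg.Agent.Helper7.TGL

/-- For a finite field F and complementary non-zero subspaces W ⊕ U = F^n with dim W < dim U, the elements of SL_n(F) stabilising both W and U form a subgroup that is not maximal in SL_n(F): some subgroup lies strictly between it and SL_n(F). -/
theorem result {F : Type*} [Field F] [Fintype F] (n : ℕ) (W U : Submodule F (Fin n → F)) (hW0 : W ≠ ⊥) (hWU : W ⊓ U = ⊥) (hWU' : W ⊔ U = ⊤) (hdim : Module.finrank F W < Module.finrank F U) : ∃ K : Subgroup (Matrix.GeneralLinearGroup (Fin n) F), Cfsg.Geo.subspaceStabilizer W ⊓ Cfsg.Geo.subspaceStabilizer U ⊓ Cfsg.Geo.specialLinear (Fin n) F < K ∧ K < Cfsg.Geo.specialLinear (Fin n) F := by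
  obtain ⟨w, hwW, hw0⟩ := (Submodule.ne_bot_iff W).mp hW0
  have hUpos : 0 < Module.finrank F U := by omega
  obtain ⟨⟨u, huU⟩, hu0'⟩ := Module.finrank_pos_iff_exists_ne_zero.mp hUpos
  have hu0 : u ≠ 0 := fun h => hu0' (Subtype.ext h)
  have hdisj : ∀ x, x ∈ W → x ∈ U → x = 0 := by
    intro x hxW hxU
    have : x ∈ W ⊓ U := ⟨hxW, hxU⟩
    rw [hWU, Submodule.mem_bot] at this
    exact this
  have huW : u ∉ W := fun h => hu0 (hdisj u h huU)
  have hwU : w ∉ U := fun h => hw0 (hdisj w hwW h)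
  refine ⟨Cfsg.Geo.subspaceStabilizer W ⊓ Cfsg.Geo.specialLinear (Fin n) F, ?_, ?_⟩
  · rw [SetLike.lt_iff_le_and_exists]
    refine ⟨fun g hg => ⟨hg.1.1, hg.2⟩, ?_⟩
    -- a transvection fixing `W` and moving `u` to `u + w`
    have hu : u ∉ W ⊔ Submodule.span F {w} := by
      have : W ⊔ Submodule.span F {w} = W := by
        rw [sup_eq_left, Submodule.span_singleton_le_iff_mem]
        exact hwW
      rw [this]; exact huW
    obtain ⟨g, hgSL, hgW, hgu⟩ := exists_tau W hu
    refine ⟨g, ⟨hgW, hgSL⟩, ?_⟩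
    intro hg
    have hgU := ((mem_subspaceStabilizer_iff g U).mp hg.1.2 u).mp huU
    rw [hgu] at hgU
    apply hwU
    have := U.sub_mem hgU huU
    rwa [add_sub_cancel_left] at this
  · rw [SetLike.lt_iff_le_and_exists]
    refine ⟨fun g hg => hg.2, ?_⟩
    have hw : w ∉ (⊥ : Submodule F (Fin n → F)) ⊔ Submodule.span F {u} := by
      rw [bot_sup_eq]
      intro h
      obtain ⟨c, hc⟩ := Submodule.mem_span_singleton.mp h
      apply hwU
      rw [← hc]
      exact U.smul_mem c huU
    obtain ⟨g, hgSL, _, hgw⟩ := exists_tau ⊥ hw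
    refine ⟨g, hgSL, ?_⟩
    intro hg
    have hgW := ((mem_subspaceStabilizer_iff g W).mp hg.1 w).mp hwW
    rw [hgw] at hgW
    apply huW
    have := W.sub_mem hgW hwW
    rwa [add_sub_cancel_left] at this

end Cfsg.Agent.S5633
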