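import Cfsg.Statements.S5634
import Cfsg.Agent.Helper7.DcpC
import Cfsg.Agent.Helper7.MonoU
import Cfsg.Agent.Helper1.BlkTrF

set_option autoImplicit false
open Cfsg

namespace Cfsg.Agent.S5634

/-- For a finite field F with q elements and n ≥ 13, let D be a decomposition of F^n into t ≥ 2 independent subspaces of equal dimension m ≥ 1 spanning F^n. Unless m = 1 and q ≤ 4, or m = 2 and q = 2, the elements of SL_n(F) permuting the members of D form a maximal subgroup of SL_n(F). -/
theorem result {F : Type*} [Field F] [Fintype F] (n : ℕ) (hn : 13 ≤ n) {t : ℕ} (m : ℕ) (D : Fin t → Submodule F (Fin n → F)) (hD : Cfsg.Geo.IsMDecomposition m D) (h1 : ¬ (m = 1 ∧ Fintype.card F ≤ 4)) (h2 : ¬ (m = 2 ∧ Fintype.card F = 2)) : Cfsg.Geo.IsMaximalIn (Cfsg.Geo.specialLinear (Fin n) F) (Cfsg.Geo.decompositionStabilizer D ⊓ Cfsg.Geo.specialLinear (Fin n) F) := by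
  classical
  apply Cfsg.Agent.Helper7.Dcp.isMaximalIn_of_std D hD
  obtain ⟨B, -⟩ := Cfsg.Agent.Helper7.Dcp.exists_adapted D hD
  have htm : t * m = n := by
    have h := Module.finrank_eq_card_basis B
    rw [Module.finrank_fin_fun, Fintype.card_prod, Fintype.card_fin, Fintype.card_fin] at h
    exact h.symm
  by_cases hm1 : m = 1
  · subst hm1
    have hq : Fintype.card F = 5 ∨ 7 ≤ Fintype.card F := by
      have h5 : 5 ≤ Fintype.card F := by
        by_contra h
        exact h1 ⟨rfl, by omega⟩
      have h6 : Fintype.card F ≠ 6 := by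
        intro h6
        obtain ⟨p, hp⟩ := CharP.exists F
        obtain ⟨k, hprime, hcard⟩ := FiniteField.card F p
        rw [h6] at hcard
        have d2 : 2 ∣ p ^ (k : ℕ) := by rw [← hcard]; norm_num
        have d3 : 3 ∣ p ^ (k : ℕ) := by rw [← hcard]; norm_num
        have e2 := (Nat.prime_dvd_prime_iff_eq Nat.prime_two hprime).mp (Nat.Prime.dvd_of_dvd_pow Nat.prime_two d2)
        have e3 := (Nat.prime_dvd_prime_iff_eq Nat.prime_three hprime).mp
          (Nat.Prime.dvd_of_dvd_pow Nat.prime_three d3)
        omega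
      omega
    rw [Cfsg.Agent.Helper7.Mono.blockMono_of_bijective]
    · refine Cfsg.Agent.Helper7.Mono.mono_max ?_ hq
      rw [Fintype.card_prod, Fintype.card_fin, Fintype.card_fin, htm]
      exact hn
    · constructor
      · rintro ⟨a, a'⟩ ⟨b, b'⟩ h
        simp only at h
        subst h
        congr 1
        exact Subsingleton.elim _ _
      · intro a
        exact ⟨(a, 0), rfl⟩
  · have hm2 : 2 ≤ m := by
      have := hD.pos
      omega
    exact Cfsg.Agent.Helper1.BlkTr.block_max hD.two_le hm2 (by rw [htm]; exact hn) h2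

end Cfsg.Agent.S5634
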