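import Cfsg.Statements.S5642
import Cfsg.Agent.Helper7.SLMaxC

set_option autoImplicit false
open Cfsg

namespace Cfsg.Agent.S5642

open Matrix Cfsg.Agent.Helper7.SLMax

/-- For a finite field F and n ≥ 13, let f be a non-degenerate symplectic form on F^n (so n is even). Then the elements of SL_n(F) that are similarities of f (f(gu, gv) = c f(u, v) for a non-zero scalar c depending on g) form a maximal subgroup of SL_n(F). -/
theorem result {F : Type*} [Field F] [Fintype F] (n : ℕ) (hn : 13 ≤ n) (f : (Fin n → F) → (Fin n → F) → F) (hf : Cfsg.Geo.IsSymplecticForm f) : Cfsg.Geo.IsMaximalIn (Cfsg.Geo.specialLinear (Fin n) F) (Cfsg.Geo.similarityGroup f ⊓ Cfsg.Geo.specialLinear (Fin n) F) := by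
  haveI : Nontrivial (Fin n) := Fin.nontrivial_iff_two_le.mpr (by omega)
  refine ⟨lt_of_le_not_ge inf_le_right ?_, ?_⟩
  · intro hle
    obtain ⟨τ, hτ, hτs⟩ := exists_not_sim hf (by rw [Fintype.card_fin]; omega)
    exact hτs (hle hτ).1
  · intro M hPM hMG
    by_cases h : M ≤ Cfsg.Geo.similarityGroup f
    · left
      exact le_antisymm (le_inf h hMG) hPM
    · right
      obtain ⟨g, hgM, hgs⟩ := SetLike.not_le_iff_exists.mp h
      exact le_antisymm hMG (specialLinear_le_of_not_sim hf M hPM hgM hgs)

end Cfsg.Agent.S5642
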