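import Cfsg.Statements.S5644
import Cfsg.Agent.Helper7.SLOrthE

set_option autoImplicit false
open Cfsg

namespace Cfsg.Agent.S5644

open Matrix Cfsg.Agent.Helper7.SLOrth

theorem two_ne_zero_of_odd {F : Type*} [Field F] [Fintype F] (hodd : Odd (Fintype.card F)) :
    (2 : F) ≠ 0 := by
  intro h2
  haveI : CharP F 2 := CharTwo.of_one_ne_zero_of_two_eq_zero one_ne_zero h2
  have h := FiniteField.even_card_of_char_two (ringChar.eq F 2)
  rw [Nat.odd_iff] at hodd
  omega

theorem polar_self {F : Type*} [Field F] {n : ℕ} {Q : (Fin n → F) → F}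
    (hQ : Cfsg.Geo.IsNondegenerateQuadraticForm Q) (v : Fin n → F) :
    QuadraticMap.polar Q v v = 2 * Q v := by
  unfold QuadraticMap.polar
  have : v + v = (2 : F) • v := (two_smul F v).symm
  rw [this, hQ.smul]
  ring

theorem quadSim_eq {F : Type*} [Field F] {n : ℕ} {Q : (Fin n → F) → F}
    (hQ : Cfsg.Geo.IsNondegenerateQuadraticForm Q) (h2 : (2 : F) ≠ 0) :
    Cfsg.Geo.quadSimilarityGroup Q = Cfsg.Geo.similarityGroup (QuadraticMap.polar Q) := by
  ext g
  constructor
  · rintro ⟨c, hc⟩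
    refine ⟨c, fun u v => ?_⟩
    unfold QuadraticMap.polar
    rw [← mulVec_add, hc, hc, hc]
    ring
  · rintro ⟨c, hc⟩
    refine ⟨c, fun v => ?_⟩
    have := hc v v
    rw [polar_self hQ, polar_self hQ] at this
    have h : 2 * Q ((g : Matrix (Fin n) (Fin n) F) *ᵥ v) = 2 * ((c : F) * Q v) := by
      rw [this]; ring
    exact mul_left_cancel₀ h2 h

/-- For a finite field F of odd order and n ≥ 13, let Q be a non-degenerate quadratic form on F^n (its polar form is non-degenerate). Then the elements of SL_n(F) that are similarities of Q (Q(gv) = c Q(v) for a non-zero scalar c depending on g) form a maximal subgroup of SL_n(F). -/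
theorem result {F : Type*} [Field F] [Fintype F] (n : ℕ) (hn : 13 ≤ n) (hodd : Odd (Fintype.card F)) (Q : (Fin n → F) → F) (hQ : Cfsg.Geo.IsNondegenerateQuadraticForm Q) : Cfsg.Geo.IsMaximalIn (Cfsg.Geo.specialLinear (Fin n) F) (Cfsg.Geo.quadSimilarityGroup Q ⊓ Cfsg.Geo.specialLinear (Fin n) F) := by
  haveI : Nontrivial (Fin n) := Fin.nontrivial_iff_two_le.mpr (by omega)
  have h2 : (2 : F) ≠ 0 := two_ne_zero_of_odd hodd
  have H : SF (QuadraticMap.polar Q) :=
    ⟨hQ.polar_bilinear, fun v w => QuadraticMap.polar_comm Q v w, hQ.nondegenerate, h2⟩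
  have hcard : 13 ≤ Fintype.card (Fin n) := by rw [Fintype.card_fin]; exact hn
  rw [quadSim_eq hQ h2]
  refine ⟨lt_of_le_not_ge inf_le_right ?_, ?_⟩
  · intro hle
    obtain ⟨τ, hτ, hτs⟩ := exists_not_sim H hcard
    exact hτs (hle hτ).1
  · intro M hPM hMG
    by_cases h : M ≤ Cfsg.Geo.similarityGroup (QuadraticMap.polar Q)
    · left
      exact le_antisymm (le_inf h hMG) hPM
    · right
      obtain ⟨g, hgM, hgs⟩ := SetLike.not_le_iff_exists.mp h
      exact le_antisymm hMG (specialLinear_le_of_not_sim H hcard M hPM hgM hgs)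

end Cfsg.Agent.S5644
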