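import Cfsg.Statements.S5646
import Cfsg.Agent.Helper7.SpMaxB
import Cfsg.Agent.S5645

set_option autoImplicit false
open Cfsg

namespace Cfsg.Agent.S5646

open Matrix Cfsg.Agent.Helper7.Symp Cfsg.Agent.Helper7.SpMax Cfsg.Agent.S5645

/-- For a finite field F and m ≥ 7, in the symplectic group Sp_2m(F) of the standard alternating form on F^(2m), the stabiliser of any non-zero subspace W on which the form is non-degenerate and with dim W < m is a maximal subgroup. -/
theorem result {F : Type*} [Field F] [Fintype F] (m : ℕ) (hm : 7 ≤ m) (W : Submodule F (Fin m ⊕ Fin m → F)) (hW0 : W ≠ ⊥) (hW : Cfsg.Geo.IsNondegenerateOn (Cfsg.sympForm m F) W) (hdim : Module.finrank F W < m) : Cfsg.Geo.IsMaximalIn (Cfsg.spGL m F) (Cfsg.Geo.subspaceStabilizer W ⊓ Cfsg.spGL m F) := by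
  have hW' : ∀ w ∈ W, w ≠ 0 → ∃ x ∈ W, sympForm m F w x ≠ 0 := fun w hw hw0 => (hW w hw hw0).2
  refine ⟨lt_of_le_not_ge inf_le_right ?_, ?_⟩
  · -- properness
    intro hle
    obtain ⟨w, hwW, hw0⟩ := (Submodule.ne_bot_iff W).mp hW0
    have hWtop : W ≠ ⊤ := by
      intro h
      rw [h, finrank_top, Module.finrank_pi] at hdim
      simp at hdim
    have hx : ∃ x, x ∉ W := by
      by_contra hcon
      push Not at hcon
      exact hWtop ((Submodule.eq_top_iff').mpr hcon)
    obtain ⟨x, hxW⟩ := hx
    have hx0 : x ≠ 0 := by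
      rintro rfl
      exact hxW W.zero_mem
    obtain ⟨g, _, hg⟩ := exists_mem_mulVec_eq hw0 hx0
    have h1 : toGL m F g ∈ Cfsg.Geo.subspaceStabilizer W := (hle (toGL_mem g)).1
    rw [toGL_mem_stab] at h1
    have := (h1 w).mp hwW
    rw [hg] at this
    exact hxW this
  · intro M hPM hMG
    have key := stab_or_top_nondeg W hW' hdim (M.comap (toGL m F)) (by
      intro A hA
      rw [Subgroup.mem_comap]
      exact hPM ⟨(toGL_mem_stab W A).mpr hA, toGL_mem A⟩)
    rcases key with h | h
    · left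
      apply le_antisymm _ hPM
      intro g hg
      obtain ⟨A, rfl⟩ := exists_toGL_eq (hMG hg)
      exact ⟨(toGL_mem_stab W A).mpr (h A (Subgroup.mem_comap.mpr hg)), hMG hg⟩
    · right
      apply le_antisymm hMG
      intro g hg
      obtain ⟨A, rfl⟩ := exists_toGL_eq hg
      have : A ∈ M.comap (toGL m F) := by rw [h]; exact Subgroup.mem_top A
      exact this

end Cfsg.Agent.S5646
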