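import Cfsg.Statements.S5652
import Cfsg.Agent.Helper7.SpMaxC
import Cfsg.Agent.S5645

set_option autoImplicit false
open Cfsg

namespace Cfsg.Agent.S5652

open Matrix Cfsg.Agent.Helper7.Symp Cfsg.Agent.Helper7.SpMax Cfsg.Agent.S5645

theorem toGL_mem_sim {F : Type*} [Field F] {m : ℕ} (Q : (Fin m ⊕ Fin m → F) → F)
    (A : Matrix.symplecticGroup (Fin m) F) :
    toGL m F A ∈ Cfsg.Geo.quadSimilarityGroup Q ↔
      ∃ c : Fˣ, ∀ v : Fin m ⊕ Fin m → F,
        Q ((A : Matrix (Fin m ⊕ Fin m) (Fin m ⊕ Fin m) F) *ᵥ v) = (c : F) * Q v := Iff.rfl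

/-- For a finite field F of characteristic two and m ≥ 7, let Q be a non-degenerate quadratic form on F^(2m) whose polar form is the standard alternating form. Then the elements of Sp_2m(F) that are similarities of Q (they are exactly the isometries of Q) form a maximal subgroup of Sp_2m(F). -/
theorem result {F : Type*} [Field F] [Fintype F] (m : ℕ) (hm : 7 ≤ m) (heven : ¬ Odd (Fintype.card F)) (Q : (Fin m ⊕ Fin m → F) → F) (hQ : Cfsg.Geo.IsNondegenerateQuadraticForm Q) (hpol : ∀ u v, QuadraticMap.polar Q u v = Cfsg.sympForm m F u v) : Cfsg.Geo.IsMaximalIn (Cfsg.spGL m F) (Cfsg.Geo.quadSimilarityGroup Q ⊓ Cfsg.spGL m F) := by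
  have hchar : ringChar F = 2 := by
    rw [FiniteField.even_card_iff_char_two]
    rcases Nat.even_or_odd (Fintype.card F) with h | h
    · exact Nat.even_iff.mp h
    · exact absurd h heven
  have h2 : (2 : F) = 0 := by
    have := ringChar.Nat.cast_ringChar (R := F)
    rw [hchar] at this
    exact_mod_cast this
  have hsq : ∀ r : F, ∃ t : F, t * t = r := by
    intro r
    obtain ⟨t, ht⟩ := FiniteField.isSquare_of_char_two hchar r
    exact ⟨t, ht.symm⟩
  have hpol' : ∀ u v : Fin m ⊕ Fin m → F, Q (u + v) = Q u + Q v + sympForm m F u v := by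
    intro u v
    rw [← hpol u v]
    unfold QuadraticMap.polar
    ring
  have hm4 : 4 ≤ m := by omega
  refine ⟨lt_of_le_not_ge inf_le_right ?_, ?_⟩
  · -- properness
    intro hle
    obtain ⟨A, hA⟩ := exists_not_similarity h2 hm4 Q hQ.smul hpol'
    apply hA
    have h1 : toGL m F A ∈ Cfsg.Geo.quadSimilarityGroup Q := (hle (toGL_mem A)).1
    rw [toGL_mem_sim] at h1
    obtain ⟨c, hc⟩ := h1
    exact ⟨c, hc⟩
  · intro M hPM hMG
    have key := isom_or_top h2 hsq hm4 Q hQ.smul hpol' (M.comap (toGL m F)) (by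
      intro A hA
      rw [Subgroup.mem_comap]
      exact hPM ⟨(toGL_mem_sim Q A).mpr ⟨1, fun v => by rw [hA v, Units.val_one, one_mul]⟩, toGL_mem A⟩)
    rcases key with h | h
    · left
      apply le_antisymm _ hPM
      intro g hg
      obtain ⟨A, rfl⟩ := exists_toGL_eq (hMG hg)
      refine ⟨(toGL_mem_sim Q A).mpr ⟨1, fun v => ?_⟩, hMG hg⟩
      rw [h A (Subgroup.mem_comap.mpr hg) v, Units.val_one, one_mul]
    · right
      apply le_antisymm hMG
      intro g hg
      obtain ⟨A, rfl⟩ := exists_toGL_eq hg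
      have : A ∈ M.comap (toGL m F) := by rw [h]; exact Subgroup.mem_top A
      exact this

end Cfsg.Agent.S5652
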