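import Cfsg.Statements.S5654
import Cfsg.Agent.Helper7.SUNdF

set_option autoImplicit false
open Cfsg

namespace Cfsg.Agent.S5654

open Matrix Cfsg.Agent.Helper7.Herm Cfsg.Agent.Helper8.GUOrder Cfsg.Agent.Helper8.SURoot
  Cfsg.Agent.Helper8.AutSU Cfsg.Agent.Helper7.SUSimp Cfsg.Agent.Helper7.SUNd

/-- The special unitary group inside the general linear group. -/
def toGL (n : ℕ) (F : Type*) [Field F] [Fintype F] (q : ℕ) :
    SU n F q →* Matrix.GeneralLinearGroup (Fin n) F :=
  (Cfsg.GU n F q).subtype.comp toGU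

theorem toGL_mem {F : Type*} [Field F] [Fintype F] {n q : ℕ} (A : SU n F q) :
    toGL n F q A ∈ Cfsg.GU n F q ⊓ Cfsg.Geo.specialLinear (Fin n) F := by
  refine ⟨(toGU A).2, ?_⟩
  show Matrix.GeneralLinearGroup.det (toGL n F q A) = 1
  apply Units.ext
  exact A.1.2

theorem exists_toGL_eq {F : Type*} [Field F] [Fintype F] {n q : ℕ}
    {g : Matrix.GeneralLinearGroup (Fin n) F}
    (hg : g ∈ Cfsg.GU n F q ⊓ Cfsg.Geo.specialLinear (Fin n) F) : ∃ A, toGL n F q A = g := by
  obtain ⟨A, hA⟩ := exists_toGU_eq (g := (⟨g, hg.1⟩ : GU n F q)) hg.2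
  exact ⟨A, congrArg Subtype.val hA⟩

theorem toGL_mem_stab {F : Type*} [Field F] [Fintype F] {n q : ℕ} (W : Submodule F (Fin n → F))
    (A : SU n F q) :
    toGL n F q A ∈ Cfsg.Geo.subspaceStabilizer W ↔
      ∀ v : Fin n → F, v ∈ W ↔ mt A *ᵥ v ∈ W := Iff.rfl

/-- Let F be the field with q² elements and n ≥ 13. In SU_n(q) (determinant-one isometries of the standard unitary form on F^n) the stabiliser of a non-zero subspace W on which the form is non-degenerate and with 2 dim W < n is a maximal subgroup. -/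
theorem result {F : Type*} [Field F] [Fintype F] (n q : ℕ) (hF : Fintype.card F = q ^ 2) (hn : 13 ≤ n) (W : Submodule F (Fin n → F)) (hW0 : W ≠ ⊥) (hW : Cfsg.Geo.IsNondegenerateOn (Cfsg.hermForm n F q) W) (hdim : 2 * Module.finrank F W < n) : Cfsg.Geo.IsMaximalIn (Cfsg.GU n F q ⊓ Cfsg.Geo.specialLinear (Fin n) F) (Cfsg.Geo.subspaceStabilizer W ⊓ (Cfsg.GU n F q ⊓ Cfsg.Geo.specialLinear (Fin n) F)) := by
  haveI : Fact (Fintype.card F = q ^ 2) := ⟨hF⟩
  have hND : NDeg q W := fun w hw hw0 => (hW w hw hw0).2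
  have hk1 : 1 ≤ Module.finrank F W := by
    rw [Nat.one_le_iff_ne_zero]
    intro h
    exact hW0 (Submodule.finrank_eq_zero.mp h)
  refine ⟨lt_of_le_not_ge inf_le_right ?_, ?_⟩
  · -- properness
    intro hle
    obtain ⟨A, hA⟩ := not_stab_nd (q := q) W hND _ rfl hk1 (by omega)
    exact hA ((toGL_mem_stab W A).mp (hle (toGL_mem A)).1)
  · intro M hPM hMG
    have key := stab_or_top_nd (q := q) W hND _ rfl hk1 hdim (by omega)
      (M.comap (toGL n F q)) (by
      intro A hA
      rw [Subgroup.mem_comap]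
      exact hPM ⟨(toGL_mem_stab W A).mpr hA, toGL_mem A⟩)
    rcases key with h | h
    · left
      apply le_antisymm _ hPM
      intro g hg
      obtain ⟨A, rfl⟩ := exists_toGL_eq (hMG hg)
      exact ⟨(toGL_mem_stab W A).mpr (h A (Subgroup.mem_comap.mpr hg)), hMG hg⟩
    · right
      apply le_antisymm hMG
      intro g hg
      obtain ⟨A, rfl⟩ := exists_toGL_eq hg
      have : A ∈ M.comap (toGL n F q) := by rw [h]; trivial
      exact this

end Cfsg.Agent.S5654
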