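import Cfsg.Statements.S5662
import Cfsg.Agent.Helper1.AschSp12Pieces
import Cfsg.Agent.Helper2.AschSpTr
import Cfsg.Agent.Helper6.AschGSpMain
import Cfsg.Agent.Helper6.AschGSpSlot
import Cfsg.Agent.Helper6.AschGSpTr

set_option autoImplicit false
open Cfsg

namespace Cfsg.Agent.S5662

/-- Subgroup structure of the finite symplectic groups. Let F be a finite field and m ≥ 2 with (m, |F|) ≠ (2, 2), and let Sp_2m(F) be the group of invertible matrices preserving the standard alternating form on F^(2m). Let H be a subgroup of Sp_2m(F) whose product with the scalar matrices ±1 is not all of Sp_2m(F) (H does not cover PSp_2m(F)). Then either H is contained in a member of one of the eight geometric classes of subgroups of Sp_2m(F) (with the conditions built into InSymplecticClass), or H is in the residual class: modulo scalars it is almost simple, and the perfect preimage of its socle acts absolutely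 irreducibly, is realisable over no proper subfield, and fixes no non-degenerate quadratic form and no non-degenerate unitary form on F^(2m). -/
theorem result {F : Type*} [Field F] [Fintype F] (m : ℕ) (hm : 2 ≤ m) (hex : ¬ (m = 2 ∧ Fintype.card F = 2)) (H : Subgroup (Matrix.GeneralLinearGroup (Fin m ⊕ Fin m) F)) (hH : H ≤ Cfsg.spGL m F) (hproper : H ⊔ (Cfsg.Geo.scalars (Fin m ⊕ Fin m) F ⊓ Cfsg.spGL m F) ≠ Cfsg.spGL m F) : (∃ M : Subgroup (Matrix.GeneralLinearGroup (Fin m ⊕ Fin m) F), Cfsg.Geo.InSymplecticClass m F M ∧ H ≤ M) ∨ Cfsg.Geo.InSymplecticResidualClass H := by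
  classical
  have hcard : Fintype.card (Fin m ⊕ Fin m) = 2 * m := by
    rw [Fintype.card_sum, Fintype.card_fin]; ring
  let e : (Fin m ⊕ Fin m) ≃ Fin (2 * m) := Fintype.equivFinOfCardEq hcard
  have htr := Cfsg.Agent.Helper2.AschSp.spTransport (F := F) m (2 * m)
  have hmain := Cfsg.Agent.Helper6.AschGSp.asch_gsp
    (Cfsg.Agent.Helper1.AschSp.sp12Pieces (n := 2 * m) (F := F) (by omega))
    (Cfsg.Agent.Helper6.AschGSp.spPerfectCase (n := 2 * m) (F := F) (by omega)) rfl hm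
    (Cfsg.Agent.Helper1.AschSp.reF e (Cfsg.sympForm m F)) (htr.symplectic e)
    (H.map (Cfsg.Geo.glReindex e : Matrix.GeneralLinearGroup (Fin m ⊕ Fin m) F ≃*
      Matrix.GeneralLinearGroup (Fin (2 * m)) F).toMonoidHom) (htr.fixes e H hH)
  have hconcl := Cfsg.Agent.Helper6.AschGSp.gspConcl_of_map m e (Cfsg.sympForm m F) H hmain
  rcases hconcl with ⟨W, h0, hts, hle⟩ | ⟨W, h0, hnd, hdim, hle⟩ | ⟨t, k, D, hD, hle⟩ | ⟨D, hq, hD, hts, hle⟩ |
    ⟨F₀, r, P, ζ, hr, hcd, hζ, hrat, hle⟩ |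
    ⟨R, p, k, hst, habs, hsim, hp, hpo, hq, hcR, hcen, hminus, hle⟩ | ⟨Q, hq, hQ, hpol, hle⟩ |
    ⟨r, K, hr, hK, hsa, halt, hle⟩ | ⟨K, hq, hK, hadj, hnsa, hle⟩ |
    ⟨n₁, n₂, e', P, f₁, f₂, hq, hn₂, h₁, h₂, hT, hle⟩ | ⟨k, t, e', P, f₁, hq, ht, ht3, hq3, h₁, hT, hle⟩ | hres
  · exact Or.inl ⟨_, Or.inl (Or.inl ⟨W, h0, hts, rfl⟩), le_inf hle hH⟩
  · exact Or.inl ⟨_, Or.inl (Or.inr (Or.inl ⟨W, h0, hnd, hdim, rfl⟩)), le_inf hle hH⟩
  · exact Or.inl ⟨_, Or.inl (Or.inr (Or.inr (Or.inl ⟨t, k, D, hD, rfl⟩))), le_inf hle hH⟩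
  · exact Or.inl ⟨_, Or.inl (Or.inr (Or.inr (Or.inr (Or.inl ⟨D, hq, hD, hts, rfl⟩)))), le_inf hle hH⟩
  · exact Or.inl ⟨_, Or.inl (Or.inr (Or.inr (Or.inr (Or.inr (Or.inl ⟨F₀, r, P, ζ, hr, hcd, hζ, hrat, rfl⟩))))),
      le_inf hle hH⟩
  · exact Or.inl ⟨_, Or.inl (Or.inr (Or.inr (Or.inr (Or.inr (Or.inr (Or.inl
      ⟨R, p, k, hst, habs, hsim, hp, hpo, hq, hcR, hcen, hminus, rfl⟩)))))), le_inf hle hH⟩
  · exact Or.inl ⟨_, Or.inl (Or.inr (Or.inr (Or.inr (Or.inr (Or.inr (Or.inr ⟨Q, hq, hQ, hpol, rfl⟩)))))),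
      le_inf hle hH⟩
  · exact Or.inl ⟨_, Or.inr (Or.inl ⟨r, K, hr, hK, hsa, halt, rfl⟩), le_inf hle hH⟩
  · exact Or.inl ⟨_, Or.inr (Or.inr (Or.inl ⟨K, hq, hK, hadj, hnsa, rfl⟩)), le_inf hle hH⟩
  · exact Or.inl ⟨_, Or.inr (Or.inr (Or.inr (Or.inl ⟨n₁, n₂, e', P, f₁, f₂, hq, hn₂, h₁, h₂, hT, rfl⟩))),
      le_inf hle hH⟩
  · exact Or.inl ⟨_, Or.inr (Or.inr (Or.inr (Or.inr ⟨k, t, e', P, f₁, hq, ht, ht3, hq3, h₁, hT, rfl⟩))),
      le_inf hle hH⟩
  · exact Or.inr hres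

end Cfsg.Agent.S5662
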