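import Cfsg.Statements.S5673
import Cfsg.Agent.Lead.AschOStd
import Cfsg.Agent.Helper2.AschOTr
import Cfsg.Agent.Helper6.AschGOMain
import Cfsg.Agent.Helper6.AschGOSq
import Cfsg.Agent.Helper6.AschGOSlot
import Cfsg.Agent.Helper6.AschGOTr

set_option autoImplicit false
open Cfsg

namespace Cfsg.Agent.S5673

/-- Subgroup structure of the odd-dimensional orthogonal groups. Let F be a finite field of odd order and m ≥ 3, let Q be the standard quadratic form x₀² + Σ x_i y_i on F^(2m+1), and let Ω be the commutator subgroup of its isometry group, viewed inside GL_(2m+1)(F). Let H be a subgroup of Ω whose product with the scalar matrices in Ω is not all of Ω. Then either H is contained in a member of one of the geometric classes of subgroups of the isometry group (with the conditions built into InOrthogonalOddClass), or H is in the residual class: modulo scalars it is almost simple, and the perfect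 preimage of its socle acts absolutely irreducibly, is realisable over no proper subfield, and fixes no non-degenerate unitary form. -/
theorem result {F : Type*} [Field F] [Fintype F] (hodd : Odd (Fintype.card F)) (m : ℕ) (hm : 3 ≤ m) (H : Subgroup (Matrix.GeneralLinearGroup (Unit ⊕ (Fin m ⊕ Fin m)) F)) (hH : H ≤ Cfsg.Geo.omegaGL (Cfsg.quadFormOdd m F)) (hproper : H ⊔ (Cfsg.Geo.scalars (Unit ⊕ (Fin m ⊕ Fin m)) F ⊓ Cfsg.Geo.omegaGL (Cfsg.quadFormOdd m F)) ≠ Cfsg.Geo.omegaGL (Cfsg.quadFormOdd m F)) : (∃ M : Subgroup (Matrix.GeneralLinearGroup (Unit ⊕ (Fin m ⊕ Fin m)) F), Cfsg.Geo.InOrthogonalOddClass m F M ∧ H ≤ M) ∨ Cfsg.Geo.InOrthogonalResidualClass H := by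
  classical
  have h2 : (2 : F) ≠ 0 := Cfsg.Agent.Lead.AschO.two_ne_zero_of_odd' hodd
  have hQ : Cfsg.Geo.IsNondegenerateQuadraticForm (Cfsg.quadFormOdd m F) :=
    Cfsg.Agent.Lead.AschO.quadFormOdd_isNondegenerateQuadraticForm h2
  have hdisc : Cfsg.Agent.Lead.AschO.DiscInt (Cfsg.quadFormOdd m F) := Cfsg.Agent.Lead.AschO.quadFormOdd_discInt
  have hcard : Fintype.card (Unit ⊕ (Fin m ⊕ Fin m)) = 2 * m + 1 := by
    simp only [Fintype.card_sum, Fintype.card_unit, Fintype.card_fin]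
    omega
  let e : Unit ⊕ (Fin m ⊕ Fin m) ≃ Fin (2 * m + 1) := Fintype.equivFinOfCardEq hcard
  have hHI : H ≤ Cfsg.isometryGroup F (Cfsg.quadFormOdd m F) :=
    hH.trans (Cfsg.Agent.Lead.AschO.omegaGL_le_isometryGroup _)
  have hmain := Cfsg.Agent.Helper6.AschGO.asch_go (n := 2 * m + 1) (F := F)
    (Cfsg.Agent.Helper6.AschGO.tensorEqualPower hodd) Cfsg.Agent.Helper6.AschGO.noPerfectO33 ⟨m, rfl⟩ (by omega) hodd
    (Cfsg.Agent.Lead.AschO.reQ e (Cfsg.quadFormOdd m F))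
    (Cfsg.Agent.Helper2.AschO.reQ_nondegenerate e _ hQ) (Cfsg.Agent.Helper2.AschO.reQ_discInt e _ hdisc) _
    (Cfsg.Agent.Helper2.AschO.map_le_isometryGroup e _ hHI)
  have hcon : Cfsg.Agent.Helper6.AschGO.GOConcl (Cfsg.quadFormOdd m F) H :=
    Cfsg.Agent.Helper6.AschGO.goConcl_of_map e _ H hmain
  rcases hcon with ⟨W, h0, hts, hle⟩ | ⟨W, h0, h1, hnd, hle⟩ | ⟨t, k, D, hk, hD, hle⟩ | ⟨t, D, hq, hD, hle⟩ |
    ⟨r, K, hr, hcr, hK, hsa, hle⟩ | ⟨n₁, n₂, e', P, f₁, f₂, h31, h12, hs₁, hs₂, hT, hle⟩ |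
    ⟨F₀, r, P, hr, hc, hrat, hle⟩ | ⟨k, t, e', P, f₁, hk3, ht2, h33, hs₁, hT, hle⟩ | hres
  · exact Or.inl ⟨_, Or.inl ⟨W, h0, hts, rfl⟩, le_inf hle hHI⟩
  · exact Or.inl ⟨_, Or.inr (Or.inl ⟨W, h0, h1, hnd, rfl⟩), le_inf hle hHI⟩
  · exact Or.inl ⟨_, Or.inr (Or.inr (Or.inl ⟨t, k, D, hk, hD, rfl⟩)), le_inf hle hHI⟩
  · exact Or.inl ⟨_, Or.inr (Or.inr (Or.inr (Or.inl ⟨t, D, hq, hD, rfl⟩))), le_inf hle hHI⟩
  · refine Or.inl ⟨_, Or.inr (Or.inr (Or.inr (Or.inr (Or.inl ⟨r, K, hr, ?_, hK, hsa, rfl⟩)))), le_inf hle hHI⟩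
    rw [← hcard]
    exact hcr
  · exact Or.inl ⟨_, Or.inr (Or.inr (Or.inr (Or.inr (Or.inr (Or.inl
      ⟨n₁, n₂, e', P, f₁, f₂, h31, h12, hs₁, hs₂, hT, rfl⟩))))), le_inf hle hHI⟩
  · exact Or.inl ⟨_, Or.inr (Or.inr (Or.inr (Or.inr (Or.inr (Or.inr (Or.inl ⟨F₀, r, P, hr, hc, hrat, rfl⟩)))))),
      le_inf hle hHI⟩
  · exact Or.inl ⟨_, Or.inr (Or.inr (Or.inr (Or.inr (Or.inr (Or.inr (Or.inr
      ⟨k, t, e', P, f₁, hk3, ht2, h33, hs₁, hT, rfl⟩)))))), le_inf hle hHI⟩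
  · exact Or.inr hres

end Cfsg.Agent.S5673
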