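import Cfsg.Statements.S5674
import Cfsg.Agent.Helper7.OrthMaxC
import Cfsg.Agent.Helper8.OmegaStd

set_option autoImplicit false
open Cfsg

namespace Cfsg.Agent.S5674

/-- Let F be a finite field of odd order, m ≥ 6, Q the standard quadratic form x₀² + Σ x_i y_i on F^(2m+1) and Ω the commutator subgroup of its isometry group inside GL_(2m+1)(F). The elements of Ω stabilising a non-zero subspace on which Q vanishes form a maximal subgroup of Ω. -/
theorem result {F : Type*} [Field F] [Fintype F] (hodd : Odd (Fintype.card F)) (m : ℕ) (hm : 6 ≤ m) (W : Submodule F (Unit ⊕ (Fin m ⊕ Fin m) → F)) (hW0 : W ≠ ⊥) (hW : Cfsg.Geo.IsTotallySingularQuad (Cfsg.quadFormOdd m F) W) : Cfsg.Geo.IsMaximalIn (Cfsg.Geo.omegaGL (Cfsg.quadFormOdd m F)) (Cfsg.Geo.subspaceStabilizer W ⊓ Cfsg.Geo.omegaGL (Cfsg.quadFormOdd m F)) := by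
  have h2 : (2 : F) ≠ 0 := Cfsg.Agent.Helper8.OmegaStd.two_ne_zero_of_odd hodd
  have hQ := Cfsg.Agent.Helper8.StdForms.oddForm_nondeg F m h2
  have hfun : Cfsg.quadFormOdd m F = ⇑(Cfsg.Agent.Helper8.StdForms.oddForm F m) :=
    funext fun v => (Cfsg.Agent.Helper8.StdForms.oddForm_apply F m v).symm
  rw [hfun]
  have hcard : Fintype.card (Unit ⊕ (Fin m ⊕ Fin m)) = 1 + (m + m) := by
    rw [Fintype.card_sum, Fintype.card_sum, Fintype.card_fin, Fintype.card_unit]
  apply Cfsg.Agent.Helper7.OrthMax.ts_maximal _ hQ (by rw [hcard]; omega) W hW0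
  · intro w hw
    rw [← hfun]
    exact hW w hw
  · intro h
    rw [hcard] at h
    omega

end Cfsg.Agent.S5674
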