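import Cfsg.Statements.S5675
import Cfsg.Agent.Helper7.OrthNdJ
import Cfsg.Agent.Helper8.OmegaStd

set_option autoImplicit false
open Cfsg

namespace Cfsg.Agent.S5675

/-- Let F be a finite field of odd order q, m ≥ 6, Q the standard quadratic form on F^(2m+1) and Ω the commutator subgroup of its isometry group. Let W be a non-zero subspace of even dimension on which the polar form of Q is non-degenerate; exclude the case q = 3, dim W = 2 with Q vanishing on some line of W (a plus-type plane). Then the elements of Ω stabilising W (equivalently, stabilising its orthogonal complement, of odd dimension) form a maximal subgroup of Ω. -/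
theorem result {F : Type*} [Field F] [Fintype F] (hodd : Odd (Fintype.card F)) (m : ℕ) (hm : 6 ≤ m) (W : Submodule F (Unit ⊕ (Fin m ⊕ Fin m) → F)) (hW0 : W ≠ ⊥) (hev : Even (Module.finrank F W)) (hW : Cfsg.Geo.IsNondegenerateOn (QuadraticMap.polar (Cfsg.quadFormOdd m F)) W) (hex : ¬ (Fintype.card F = 3 ∧ Module.finrank F W = 2 ∧ Cfsg.Geo.IsPlusTypeOn (Cfsg.quadFormOdd m F) W)) : Cfsg.Geo.IsMaximalIn (Cfsg.Geo.omegaGL (Cfsg.quadFormOdd m F)) (Cfsg.Geo.subspaceStabilizer W ⊓ Cfsg.Geo.omegaGL (Cfsg.quadFormOdd m F)) := by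
  have h2 : (2 : F) ≠ 0 := Cfsg.Agent.Helper8.OmegaStd.two_ne_zero_of_odd hodd
  have hQ := Cfsg.Agent.Helper8.StdForms.oddForm_nondeg F m h2
  have hfun : Cfsg.quadFormOdd m F = ⇑(Cfsg.Agent.Helper8.StdForms.oddForm F m) :=
    funext fun v => (Cfsg.Agent.Helper8.StdForms.oddForm_apply F m v).symm
  rw [hfun] at hW hex ⊢
  have hcard : Fintype.card (Unit ⊕ (Fin m ⊕ Fin m)) = 1 + (m + m) := by
    rw [Fintype.card_sum, Fintype.card_sum, Fintype.card_fin, Fintype.card_unit]
  have hWn := Cfsg.Agent.Helper7.OrthNd.nondegOn_of_frozen _ hW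
  have hd := Cfsg.Agent.Helper7.OrthNd.orthDec_of_nondegOn _
    ((Cfsg.Agent.Helper8.QuadForm.nondeg_iff _).mp hQ) hWn
  have hsum := Cfsg.Agent.Helper7.OrthNd.finrank_add hd
  rw [Module.finrank_pi, hcard] at hsum
  obtain ⟨r, hr⟩ := hev
  have hW1 : W ≠ ⊤ := by
    intro h
    have h4 : Module.finrank F W = 1 + (m + m) := by
      rw [h, finrank_top, Module.finrank_pi, hcard]
    omega
  apply Cfsg.Agent.Helper7.OrthNd.nd_subspace_maximal _ hQ (by rw [hcard]; omega) hWn hW0 hW1
  · intro heq
    exfalso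
    omega
  · rintro S (rfl | rfl) hS2
    · by_cases h3 : Fintype.card F = 3
      · right
        apply Cfsg.Agent.Helper7.OrthNd.aniso_of_not_plus _ hS2
        intro hplus
        exact hex ⟨h3, hS2, hplus⟩
      · left
        have h1 := Fintype.one_lt_card (α := F)
        obtain ⟨s, hs⟩ := hodd
        omega
    · exfalso
      omega

end Cfsg.Agent.S5675
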