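import Cfsg.Statements.S5677
import Cfsg.Agent.Helper7.OrthBlkJ
import Cfsg.Agent.Helper8.OmegaStd

set_option autoImplicit false
open Cfsg

namespace Cfsg.Agent.S5677

/-- Let F be a finite field of odd order q, m ≥ 6, Q the standard quadratic form on F^(2m+1) and Ω the commutator subgroup of its isometry group. Let D be a decomposition of F^(2m+1) into t ≥ 2 pairwise orthogonal, pairwise Q-isometric subspaces of equal dimension k > 1 on which the polar form is non-degenerate. Unless q = 3 and k = 3, the elements of Ω permuting the members of D form a maximal subgroup of Ω. -/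
theorem result {F : Type*} [Field F] [Fintype F] (hodd : Odd (Fintype.card F)) (m : ℕ) (hm : 6 ≤ m) {t : ℕ} (k : ℕ) (hk : 1 < k) (D : Fin t → Submodule F (Unit ⊕ (Fin m ⊕ Fin m) → F)) (hD : Cfsg.Geo.IsOrthogonalMDecomposition (Cfsg.quadFormOdd m F) k D) (hex : ¬ (Fintype.card F = 3 ∧ k = 3)) : Cfsg.Geo.IsMaximalIn (Cfsg.Geo.omegaGL (Cfsg.quadFormOdd m F)) (Cfsg.Geo.decompositionStabilizer D ⊓ Cfsg.Geo.omegaGL (Cfsg.quadFormOdd m F)) := by
  have h2 : (2 : F) ≠ 0 := Cfsg.Agent.Helper8.OmegaStd.two_ne_zero_of_odd hodd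
  have hQ := Cfsg.Agent.Helper8.StdForms.oddForm_nondeg F m h2
  have hfun : Cfsg.quadFormOdd m F = ⇑(Cfsg.Agent.Helper8.StdForms.oddForm F m) :=
    funext fun v => (Cfsg.Agent.Helper8.StdForms.oddForm_apply F m v).symm
  rw [hfun] at hD ⊢
  have hcard : Fintype.card (Unit ⊕ (Fin m ⊕ Fin m)) = 1 + (m + m) := by
    rw [Fintype.card_sum, Fintype.card_sum, Fintype.card_fin, Fintype.card_unit]
  have hmul := Cfsg.Agent.Helper7.OrthBlk.mul_eq_card_of_decomp hD.decomp.decomp
  rw [hcard] at hmul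
  -- `k` is odd
  have hkodd : Odd k := by
    rcases Nat.even_or_odd k with he | ho
    · exfalso
      obtain ⟨r, hr⟩ := he
      rw [hr] at hmul
      have : t * (r + r) = 2 * (t * r) := by ring
      omega
    · exact ho
  obtain ⟨r, hr⟩ := hkodd
  have hk3 : 3 ≤ k := by omega
  apply Cfsg.Agent.Helper7.OrthBlk.decomposition_maximal _ hQ (by rw [hcard]; omega) h2 D hD hk3
  by_cases hk5 : 5 ≤ k
  · exact Or.inl hk5
  · right
    have hk' : k = 3 := by omega
    have h1 := Fintype.one_lt_card (α := F)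
    obtain ⟨s, hs⟩ := hodd
    have : Fintype.card F ≠ 3 := fun h => hex ⟨h, hk'⟩
    omega

end Cfsg.Agent.S5677
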