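import Cfsg.Statements.S5689
import Cfsg.Agent.Helper7.OrthNdK
import Cfsg.Agent.Lead.OrthPlaneC

set_option autoImplicit false
open Cfsg

namespace Cfsg.Agent.S5689

/-- Let F be a finite field with q elements, n ≥ 13 even, Q a non-degenerate quadratic form on F^n of minus type (no subspace of dimension n/2 is totally singular), and Ω the commutator subgroup of the isometry group of Q, viewed inside GL_n(F). Let W be a non-zero proper subspace on which the polar form of Q is non-degenerate, not of odd dimension n/2. Exclude the case q ≤ 3 in which W, or its orthogonal complement, is a plane containing a line on which Q vanishes. Then the elements of Ω stabilising W form a maximal subgroup of Ω. -/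
theorem result {F : Type*} [Field F] [Fintype F] {n : ℕ} (hn : 13 ≤ n) (heven : Even n) (Q : (Fin n → F) → F) (hQ : Cfsg.Geo.IsNondegenerateQuadraticForm Q) (hminus : ¬ Cfsg.Geo.IsPlusTypeOn Q ⊤) (W : Submodule F (Fin n → F)) (hW0 : W ≠ ⊥) (hW1 : W ≠ ⊤) (hdim : ¬ (2 * Module.finrank F W = n ∧ Odd (Module.finrank F W))) (hW : Cfsg.Geo.IsNondegenerateOn (QuadraticMap.polar Q) W) (hex : ¬ (Fintype.card F ≤ 3 ∧ (∃ U : Submodule F (Fin n → F), Module.finrank F U = 2 ∧ Cfsg.Geo.IsNondegenerateOn (QuadraticMap.polar Q) U ∧ Cfsg.Geo.IsPlusTypeOn Q U ∧ (U = W ∨ (Cfsg.Geo.AreOrthogonalFor (QuadraticMap.polar Q) U W ∧ Module.finrank F U + Module.finrank F W = n))))) : Cfsg.Geo.IsMaximalIn (Cfsg.Geo.omegaGL Q) (Cfsg.Geo.subspaceStabilizer W ⊓ Cfsg.Geo.omegaGL Q) := by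
  have hnd := Cfsg.Agent.Lead.OrthPlane.bundle_nondeg Q hQ
  have hcard : Fintype.card (Fin n) = n := Fintype.card_fin n
  apply Cfsg.Agent.Helper7.OrthNd.nd_subspace_maximal_frozen (Cfsg.Agent.Lead.OrthPlane.bundle Q hQ)
    hnd (by rw [hcard]; exact hn) hcard hW hW0 hW1 _ hex
  intro h2 g hg hmap
  apply hminus
  have hWn := Cfsg.Agent.Helper7.OrthNd.nondegOn_of_frozen (Cfsg.Agent.Lead.OrthPlane.bundle Q hQ) hW
  have hd := Cfsg.Agent.Helper7.OrthNd.orthDec_of_nondegOn (Cfsg.Agent.Lead.OrthPlane.bundle Q hQ)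
    ((Cfsg.Agent.Helper8.QuadForm.nondeg_iff _).mp hnd) hWn
  have hsum := Cfsg.Agent.Helper7.OrthNd.finrank_add hd
  rw [Module.finrank_pi, hcard] at hsum
  have hevW : Even (Module.finrank F W) := by
    rw [← Nat.not_odd_iff_even]
    intro hodd
    exact hdim ⟨h2, hodd⟩
  have hevU : Even (Module.finrank F ↥(LinearMap.BilinForm.orthogonal
      (QuadraticMap.polarBilin (Cfsg.Agent.Lead.OrthPlane.bundle Q hQ)) W)) := by
    have h3 : Module.finrank F ↥(LinearMap.BilinForm.orthogonal
      (QuadraticMap.polarBilin (Cfsg.Agent.Lead.OrthPlane.bundle Q hQ)) W) = Module.finrank F W := by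
      omega
    rw [h3]
    exact hevW
  obtain ⟨T, hT, hTd⟩ := Cfsg.Agent.Helper7.OrthNd.exists_ts_of_swap hd hevU hg hmap
  refine ⟨T, le_top, hT, ?_⟩
  rw [finrank_top, Module.finrank_pi, hcard]
  omega

end Cfsg.Agent.S5689
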