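import Cfsg.Statements.S5691
import Cfsg.Agent.Helper7.OrthMaxH
import Cfsg.Agent.Lead.OrthPlaneC

set_option autoImplicit false
open Cfsg

namespace Cfsg.Agent.S5691

/-- Let F be a finite field with q elements, n ≥ 13 even, Q a non-degenerate quadratic form on F^n (of either type), and Ω the commutator subgroup of the isometry group of Q, viewed inside GL_n(F). Suppose q is even and v is a vector with Q(v) ≠ 0. Then the elements of Ω stabilising the line spanned by v form a maximal subgroup of Ω. -/
theorem result {F : Type*} [Field F] [Fintype F] {n : ℕ} (hn : 13 ≤ n) (heven : Even n) (Q : (Fin n → F) → F) (hQ : Cfsg.Geo.IsNondegenerateQuadraticForm Q) (hchar : ¬ Odd (Fintype.card F)) (v : (Fin n → F)) (hv : Q v ≠ 0) : Cfsg.Geo.IsMaximalIn (Cfsg.Geo.omegaGL Q) (Cfsg.Geo.subspaceStabilizer (Submodule.span F {v}) ⊓ Cfsg.Geo.omegaGL Q) := by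
  have hnd := Cfsg.Agent.Lead.OrthPlane.bundle_nondeg Q hQ
  have hcard : Fintype.card (Fin n) = n := Fintype.card_fin n
  have h2 : (2 : F) = 0 := by
    have hev : Fintype.card F % 2 = 0 := by
      rcases Nat.even_or_odd (Fintype.card F) with h | h
      · exact Nat.even_iff.mp h
      · exact absurd h hchar
    have hc := (FiniteField.even_card_iff_char_two (F := F)).mpr hev
    haveI : CharP F 2 := ringChar.of_eq hc
    have := CharP.cast_eq_zero F 2
    exact_mod_cast this
  exact Cfsg.Agent.Helper7.OrthMax.nsv_maximal (Cfsg.Agent.Lead.OrthPlane.bundle Q hQ) hnd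
    (by rw [hcard]; omega) h2 (v := v) hv

end Cfsg.Agent.S5691
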