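import Cfsg.Statements.S5693
import Mathlib
import Cfsg.Agent.Helper7.ONmD
import Cfsg.Agent.Helper7.ONmE
import Cfsg.Agent.Helper7.ONmH

set_option autoImplicit false
open Cfsg

namespace Cfsg.Agent.S5693

/-- Let F be a finite field with q elements, n ≥ 13 even, Q a non-degenerate quadratic form on F^n of plus type (some subspace of dimension n/2 is totally singular), and Ω the commutator subgroup of the isometry group of Q, viewed inside GL_n(F). Let D be a decomposition of F^n into t ≥ 2 pairwise orthogonal, pairwise Q-isometric subspaces of equal dimension k on which the polar form is non-degenerate (with, for even k, all members of plus type or t even; for odd k, q odd and square discriminant), in one of the cases: k = 2 with q = 3; k = 2 with plus-type members and q ∈ {2, 4, 5}; k = 3 with q = 3; k = 4 with plus-type members and q = 2. Then the elements of Ω permuting the members of D form a subgroup that is not maximal: some subgroup lies strictly between it and Ω. -/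
theorem result {F : Type*} [Field F] [Fintype F] {n : ℕ} (hn : 13 ≤ n) (heven : Even n) (Q : (Fin n → F) → F) (hQ : Cfsg.Geo.IsNondegenerateQuadraticForm Q) (hplus : Cfsg.Geo.IsPlusTypeOn Q ⊤) {t : ℕ} (k : ℕ) (D : Fin t → Submodule F (Fin n → F)) (hD : Cfsg.Geo.IsOrthogonalMDecomposition Q k D) (hke : Even k → ((∀ i, Cfsg.Geo.IsPlusTypeOn Q (D i)) ∨ Even t)) (hko : Odd k → (Odd (Fintype.card F) ∧ Cfsg.Geo.HasSquareDiscriminant Q)) (hcase : ((k = 2 ∧ (Fintype.card F = 3 ∨ ((∀ i, Cfsg.Geo.IsPlusTypeOn Q (D i)) ∧ (Fintype.card F = 2 ∨ Fintype.card F = 4 ∨ Fintype.card F = 5)))) ∨ (k = 3 ∧ Fintype.card F = 3) ∨ (k = 4 ∧ Fintype.card F = 2 ∧ ∀ i, Cfsg.Geo.IsPlusTypeOn Q (D i)))) : ∃ K : Subgroup (Matrix.GeneralLinearGroup (Fin n) F), Cfsg.Geo.decompositionStabilizer D ⊓ Cfsg.Geo.omegaGL Q < K ∧ K < Cfsg.Geo.omegaGL Q := by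
  have hQ' := Cfsg.Agent.Lead.OrthPlane.bundle_nondeg Q hQ
  have hmul := Cfsg.Agent.Helper7.OrthBlk.mul_eq_card_of_decomp hD.decomp.decomp
  rw [Fintype.card_fin] at hmul
  have h5 : 5 ≤ Fintype.card (Fin n) := by rw [Fintype.card_fin]; omega
  rcases hcase with ⟨rfl, h⟩ | ⟨rfl, hq⟩ | ⟨rfl, hq, hpl⟩
  · have ht : 7 ≤ t := by omega
    rcases h with hq | ⟨hpl, hq | hq | hq⟩
    · by_cases hall : ∀ i, Cfsg.Geo.IsPlusTypeOn Q (D i)
      · exact Cfsg.Agent.Helper7.ONm.main_q3_hyp (Q := Cfsg.Agent.Lead.OrthPlane.bundle Q hQ) hq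
          hQ' h5 hD hall (by omega)
      · push Not at hall
        obtain ⟨i₀, hi₀⟩ := hall
        have haniso₀ : ∀ x ∈ D i₀, Q x = 0 → x = 0 := by
          intro x hx hQx
          by_contra hne
          apply hi₀
          refine ⟨Submodule.span F {x}, ?_, ?_, ?_⟩
          · rw [Submodule.span_le]
            intro z hz
            rw [Set.mem_singleton_iff] at hz
            rw [hz]; exact hx
          · intro w hw
            obtain ⟨a, rfl⟩ := Submodule.mem_span_singleton.1 hw
            rw [hQ.smul, hQx, mul_zero]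
          · rw [finrank_span_singleton hne, hD.decomp.decomp.finrank_eq i₀]
        have haniso : ∀ i, ∀ x ∈ D i,
            (Cfsg.Agent.Lead.OrthPlane.bundle Q hQ) x = 0 → x = 0 := by
          intro i x hx hQx
          obtain ⟨e, he⟩ := hD.isometric i i₀
          have h1 := haniso₀ _ (e ⟨x, hx⟩).2 (by rw [he]; exact hQx)
          have h2 : e ⟨x, hx⟩ = 0 := Subtype.ext h1
          have h3 : (⟨x, hx⟩ : D i) = 0 := by
            rw [← e.map_eq_zero_iff]; exact h2
          exact congrArg Subtype.val h3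
        exact Cfsg.Agent.Lead.OrthFrame2.main_frame2 (Cfsg.Agent.Lead.OrthPlane.bundle Q hQ) hq
          hQ' (by omega) D hD haniso (by omega)
    · exact Cfsg.Agent.Helper7.ONm.main_q2_k2 (Q := Cfsg.Agent.Lead.OrthPlane.bundle Q hQ) hq
        hQ' h5 hD hpl (by omega)
    · exact Cfsg.Agent.Helper7.ONm.main_q4_k2 (Q := Cfsg.Agent.Lead.OrthPlane.bundle Q hQ) hq
        hQ' h5 hD hpl (by omega)
    · exact Cfsg.Agent.Helper7.ONm.main_q5_hyp (Q := Cfsg.Agent.Lead.OrthPlane.bundle Q hQ) hq
        hQ' h5 hD hpl (by omega)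
  · exact Cfsg.Agent.Lead.OrthFrame.main_frame (Cfsg.Agent.Lead.OrthPlane.bundle Q hQ) hq
      hQ' (by omega) D hD
  · exact Cfsg.Agent.Helper7.ONm.main_q2_k4 (Q := Cfsg.Agent.Lead.OrthPlane.bundle Q hQ) hq
      hQ' h5 hD hpl (by omega)

end Cfsg.Agent.S5693
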