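import Cfsg.Statements.S5713
import Cfsg.Agent.Helper7.MinDegC

set_option autoImplicit false
open Cfsg

namespace Cfsg.Agent.S5713

/-- A classification-free minimal-degree bound. Let G be a finite group acting faithfully and primitively on a finite set Ω with n elements, and suppose that the image of G in the symmetric group on Ω does not contain the alternating group on Ω. Then every non-identity element of G moves at least (√n − 1)/2 points of Ω, that is, it fixes at most n − (√n − 1)/2 points. -/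
theorem result {G Ω : Type*} [Group G] [Finite G] [MulAction G Ω] [FaithfulSMul G Ω] [Fintype Ω] [DecidableEq Ω]
    (hprim : MulAction.IsPreprimitive G Ω)
    (hA : ¬ alternatingGroup Ω ≤ (MulAction.toPermHom G Ω).range)
    (g : G) (hg : g ≠ 1) :
    (Real.sqrt (Fintype.card Ω) - 1) / 2 ≤ (Fintype.card Ω : ℝ) - Nat.card (MulAction.fixedBy Ω g) := by
  classical
  haveI : Fintype G := Fintype.ofFinite G
  haveI := hprim
  obtain ⟨Γ, hΓ⟩ : ∃ Γ : Finset Ω, Γ = Finset.univ.filter (fun z => g • z ≠ z) := ⟨_, rfl⟩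
  have hmemΓ : ∀ z, z ∈ Γ ↔ g • z ≠ z := by
    intro z
    rw [hΓ, Finset.mem_filter]
    exact ⟨fun h => h.2, fun h => ⟨Finset.mem_univ _, h⟩⟩
  obtain ⟨m, hm⟩ : ∃ m, m = Γ.card := ⟨_, rfl⟩
  have hx₀ : ∃ x₀ : Ω, g • x₀ ≠ x₀ := by
    by_contra hcon
    push Not at hcon
    apply hg
    apply FaithfulSMul.eq_of_smul_eq_smul (α := Ω)
    intro x
    rw [hcon, one_smul]
  obtain ⟨x₀, hx₀⟩ := hx₀
  have key : Fintype.card Ω ≤ (2 * m + 1) ^ 2 := by
    by_cases h2 : ∀ z a b : Ω, a ≠ z → b ≠ z → ∃ k : G, k • z = z ∧ k • a = b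
    · -- doubly transitive
      have hm2 : 2 ≤ m := by
        rw [hm]
        have h1 : x₀ ∈ Γ := (hmemΓ x₀).mpr hx₀
        have h2 : g • x₀ ∈ Γ := (hmemΓ _).mpr (fun h => hx₀ (MulAction.injective g h))
        have := Finset.one_lt_card.mpr ⟨x₀, h1, g • x₀, h2, Ne.symm hx₀⟩
        omega
      by_cases hno : ∀ k : G, (Γ.filter (fun ω => k⁻¹ • ω ∈ Γ)).card ≠ 1
      · have h3 := Cfsg.Agent.Helper7.MinDeg.two_trans_bound h2 Γ hm.symm hm2 hno
        obtain ⟨j, hj⟩ : ∃ j, m = j + 1 := ⟨m - 1, by omega⟩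
        have hj' : m - 1 = j := by omega
        rw [hj'] at h3
        have h4 : Fintype.card Ω ≤ j ^ 2 + 1 := by omega
        rw [hj]
        nlinarith
      · exfalso
        push Not at hno
        obtain ⟨k, hk⟩ := hno
        obtain ⟨α, hα⟩ := Finset.card_eq_one.mp hk
        have hα1 : α ∈ Γ.filter (fun ω => k⁻¹ • ω ∈ Γ) := by rw [hα]; exact Finset.mem_singleton_self α
        rw [Finset.mem_filter] at hα1
        have hαonly : ∀ p, p ∈ Γ → k⁻¹ • p ∈ Γ → p = α := by
          intro p hp1 hp2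
          have : p ∈ Γ.filter (fun ω => k⁻¹ • ω ∈ Γ) := Finset.mem_filter.mpr ⟨hp1, hp2⟩
          rw [hα] at this
          exact Finset.mem_singleton.mp this
        obtain ⟨x, hxdef⟩ : ∃ x : Equiv.Perm Ω, x = MulAction.toPermHom G Ω g := ⟨_, rfl⟩
        obtain ⟨y, hydef⟩ : ∃ y : Equiv.Perm Ω, y = MulAction.toPermHom G Ω (k * g * k⁻¹) := ⟨_, rfl⟩
        have hxa : ∀ p, x p = g • p := fun p => by rw [hxdef]; rfl
        have hya : ∀ p, y p = k • g • k⁻¹ • p := fun p => by
          rw [hydef]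
          show (k * g * k⁻¹) • p = _
          rw [mul_smul, mul_smul]
        have hymoved : ∀ p, y p ≠ p → k⁻¹ • p ∈ Γ := by
          intro p hp
          rw [hmemΓ]
          intro h
          apply hp
          rw [hya, h, smul_inv_smul]
        have h3 : (x⁻¹ * y⁻¹ * x * y).IsThreeCycle := by
          apply Cfsg.Agent.Helper7.MinDeg.isThreeCycle_comm (α := α)
          · rw [hxa]
            exact (hmemΓ α).mp hα1.1
          · rw [hya]
            intro h
            have h4 := (hmemΓ _).mp hα1.2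
            apply h4
            have h5 : k⁻¹ • (k • g • k⁻¹ • α) = k⁻¹ • α := by rw [h]
            rwa [inv_smul_smul] at h5
          · intro p hp1 hp2
            rw [hxa] at hp1
            exact hαonly p ((hmemΓ p).mpr hp1) (hymoved p hp2)
        have hxmem : x ∈ (MulAction.toPermHom G Ω).range := by rw [hxdef]; exact ⟨g, rfl⟩
        have hymem : y ∈ (MulAction.toPermHom G Ω).range := by rw [hydef]; exact ⟨_, rfl⟩
        have hmem : x⁻¹ * y⁻¹ * x * y ∈ (MulAction.toPermHom G Ω).range :=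
          Subgroup.mul_mem _ (Subgroup.mul_mem _ (Subgroup.mul_mem _ (Subgroup.inv_mem _ hxmem)
            (Subgroup.inv_mem _ hymem)) hxmem) hymem
        have hprim' : MulAction.IsPreprimitive (MulAction.toPermHom G Ω).range Ω := by
          obtain ⟨φ, hφ⟩ : ∃ φ : G → (MulAction.toPermHom G Ω).range,
              φ = fun g => ⟨MulAction.toPermHom G Ω g, ⟨g, rfl⟩⟩ := ⟨_, rfl⟩
          obtain ⟨f, hf⟩ : ∃ f : Ω →ₑ[φ] Ω, ∀ x, f x = x :=
            ⟨{ toFun := id, map_smul' := fun g x => by rw [hφ]; rfl }, fun x => rfl⟩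
          exact MulAction.IsPreprimitive.of_surjective (f := f) (fun x => ⟨x, hf x⟩)
        exact hA (Equiv.Perm.alternatingGroup_le_of_isPreprimitive_of_isThreeCycle_mem hprim' h3 hmem)
    · -- not doubly transitive
      push Not at h2
      obtain ⟨z, a, b, haz, hbz, hab⟩ := h2
      have hD : (Cfsg.Agent.Helper7.MinDeg.dset G x₀ (g • x₀)).card ≤ m := by
        rw [hm]
        apply Finset.card_le_card
        intro w hw
        exact (hmemΓ w).mpr (Cfsg.Agent.Helper7.MinDeg.moved_of_mem_dset g x₀ hw)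
      have h3 := Cfsg.Agent.Helper7.MinDeg.card_le_of_not_two_trans (G := G) (Ne.symm hx₀) hD
        ⟨z, a, b, haz, hbz, fun ⟨l, hl1, hl2⟩ => hab l hl1 hl2⟩
      nlinarith
  -- the number of fixed points
  have hfix : Nat.card (MulAction.fixedBy Ω g) = (Finset.univ.filter (fun z : Ω => g • z = z)).card := by
    rw [Nat.card_eq_fintype_card]
    exact Fintype.card_of_subtype _ (fun x => by
      rw [Finset.mem_filter, MulAction.mem_fixedBy]
      exact ⟨fun h => h.2, fun h => ⟨Finset.mem_univ _, h⟩⟩)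
  have hsum : (Finset.univ.filter (fun z : Ω => g • z = z)).card + m = Fintype.card Ω := by
    rw [hm, hΓ, ← Finset.card_univ]
    exact Finset.card_filter_add_card_filter_not (fun z : Ω => g • z = z)
  rw [hfix]
  have hsq : Real.sqrt (Fintype.card Ω) ≤ 2 * m + 1 := by
    have h1 : ((Fintype.card Ω : ℕ) : ℝ) ≤ ((2 * (m : ℝ) + 1)) ^ 2 := by exact_mod_cast key
    have h2 := Real.sqrt_le_sqrt h1
    rwa [Real.sqrt_sq (by positivity)] at h2
  have hcast : ((Fintype.card Ω : ℕ) : ℝ) =
      ((Finset.univ.filter (fun z : Ω => g • z = z)).card : ℝ) + (m : ℝ) := by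
    rw [← hsum]
    push_cast
    ring
  rw [hcast] at hsq ⊢
  linarith

end Cfsg.Agent.S5713
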