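import Mathlib
import Cfsg.Statements.S5726

set_option autoImplicit false
open Cfsg

namespace Cfsg.Agent.S5726

/-- If a finite group acts faithfully and transitively on a set with p^k elements, p a prime and k ≥ 1, then some element of order p fixes no point. -/
theorem result {G Ω : Type*} [Group G] [Finite G] [MulAction G Ω] [FaithfulSMul G Ω] [Fintype Ω] (htr : MulAction.IsPretransitive G Ω)
    (p k : ℕ) (hp : p.Prime) (hk : 1 ≤ k) (hΩ : Fintype.card Ω = p ^ k) :
    ∃ g : G, orderOf g = p ∧ ∀ ω : Ω, g • ω ≠ ω := by
  have : Fact p.Prime := ⟨hp⟩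
  have hG0 : Nat.card G ≠ 0 := Nat.card_pos.ne'
  let P : Sylow p G := default
  set v := (Nat.card G).factorization p with hv
  have hPcard : Nat.card P = p ^ v := P.card_eq_multiplicity
  -- the orbits of `P`
  have hPtrans : ∀ ω : Ω, MulAction.orbit P ω = Set.univ := by
    intro ω
    have hidx : (MulAction.stabilizer G ω).index = p ^ k := by
      rw [MulAction.index_stabilizer_of_transitive, Nat.card_eq_fintype_card, hΩ]
    have hG : Nat.card (MulAction.stabilizer G ω) * p ^ k = Nat.card G := by
      rw [← hidx]; exact Subgroup.card_mul_index _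
    -- the stabiliser in `P` embeds in the stabiliser in `G`
    let f : MulAction.stabilizer P ω →* MulAction.stabilizer G ω :=
      { toFun := fun x => ⟨((x : P) : G), x.2⟩
        map_one' := rfl
        map_mul' := fun _ _ => rfl }
    have hf : Function.Injective f := by
      intro x y hxy
      apply Subtype.ext
      apply Subtype.ext
      exact congrArg (fun t : MulAction.stabilizer G ω => (t : G)) hxy
    have hdvd1 : Nat.card (MulAction.stabilizer P ω) ∣ Nat.card (MulAction.stabilizer G ω) :=
      Subgroup.card_dvd_of_injective f hf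
    have hdvd2 : Nat.card (MulAction.stabilizer P ω) ∣ p ^ v := by
      rw [← hPcard]; exact Subgroup.card_subgroup_dvd_card _
    obtain ⟨a, hav, hcard⟩ := (Nat.dvd_prime_pow hp).mp hdvd2
    have hak : a + k ≤ v := by
      have : p ^ (a + k) ∣ Nat.card G := by
        rw [pow_add, ← hcard, ← hG]
        exact Nat.mul_dvd_mul_right hdvd1 _
      exact (hp.pow_dvd_iff_le_factorization hG0).mp this
    have hindex : (MulAction.stabilizer P ω).index = p ^ (v - a) := by
      have h1 := Subgroup.card_mul_index (MulAction.stabilizer P ω)
      rw [hcard, hPcard] at h1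
      have h2 : p ^ v = p ^ a * p ^ (v - a) := by rw [← pow_add]; congr 1; omega
      rw [h2] at h1
      exact Nat.eq_of_mul_eq_mul_left (pow_pos hp.pos a) h1
    rw [MulAction.index_stabilizer] at hindex
    apply Set.eq_of_subset_of_ncard_le (Set.subset_univ _) _ Set.finite_univ
    rw [Set.ncard_univ, Nat.card_eq_fintype_card, hΩ, hindex]
    exact Nat.pow_le_pow_right hp.pos (by omega)
  -- a central element of order `p` in `P`
  have hkv : k ≤ v := by
    have : p ^ k ∣ Nat.card G := by
      obtain ω : Ω := by
        have : 0 < Fintype.card Ω := by rw [hΩ]; exact pow_pos hp.pos k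
        exact (Fintype.card_pos_iff.mp this).some
      have hidx : (MulAction.stabilizer G ω).index = p ^ k := by
        rw [MulAction.index_stabilizer_of_transitive, Nat.card_eq_fintype_card, hΩ]
      rw [← hidx]
      exact Subgroup.index_dvd_card _
    exact (hp.pow_dvd_iff_le_factorization hG0).mp this
  have hPnt : Nontrivial P := by
    rw [← Finite.one_lt_card_iff_nontrivial, hPcard]
    exact Nat.one_lt_pow (by omega) hp.one_lt
  have hPp : IsPGroup p P := P.isPGroup'
  have hZnt : Nontrivial (Subgroup.center P) := hPp.center_nontrivial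
  have hZp : IsPGroup p (Subgroup.center P) := hPp.to_subgroup _
  have hpZ : p ∣ Nat.card (Subgroup.center P) := by
    rcases hZp.card_eq_or_dvd with h | h
    · exfalso
      rw [← Finite.one_lt_card_iff_nontrivial, h] at hZnt
      exact lt_irrefl _ hZnt
    · exact h
  obtain ⟨z, hz⟩ := exists_prime_orderOf_dvd_card' p hpZ
  refine ⟨((z : P) : G), ?_, ?_⟩
  · rw [Subgroup.orderOf_coe, Subgroup.orderOf_coe]
    exact hz
  · intro ω hω
    have hall : ∀ ω' : Ω, ((z : P) : G) • ω' = ω' := by
      intro ω'
      have : ω' ∈ MulAction.orbit P ω := by rw [hPtrans]; trivial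
      obtain ⟨h, rfl⟩ := this
      have hcomm : (z : P) * h = h * (z : P) := (Subgroup.mem_center_iff.mp z.2 h).symm
      have hcomm' : ((z : P) : G) * (h : G) = (h : G) * ((z : P) : G) := by
        have := congrArg (fun t : P => (t : G)) hcomm
        simpa using this
      change ((z : P) : G) • ((h : G) • ω) = (h : G) • ω
      rw [← mul_smul, hcomm', mul_smul, hω]
    have h1 : ((z : P) : G) = 1 := by
      apply FaithfulSMul.eq_of_smul_eq_smul (α := Ω)
      intro y
      rw [one_smul]
      exact hall y
    have h2 : orderOf ((z : P) : G) = p := by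
      rw [Subgroup.orderOf_coe, Subgroup.orderOf_coe]
      exact hz
    rw [h1, orderOf_one] at h2
    exact hp.one_lt.ne h2

end Cfsg.Agent.S5726
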