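import Mathlib
import Cfsg.Statements.S5727
import Cfsg.Agent.S5726

set_option autoImplicit false
open Cfsg

namespace Cfsg.Agent.S5727

/-- A `p`-group all of whose orbits have length `p`, acting on `m p` points with `1 ≤ m < p`, contains
an element without fixed points whose `p`-th power acts trivially. -/
theorem exists_derangement {P Ω : Type*} [Group P] [Finite P] [MulAction P Ω] [Fintype Ω]
    (p v m : ℕ) (hp : p.Prime) (hv : 1 ≤ v) (hP : Nat.card P = p ^ v) (hm1 : 1 ≤ m) (hm : m < p)
    (hΩ : Fintype.card Ω = m * p)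
    (hstab : ∀ ω : Ω, Nat.card (MulAction.stabilizer P ω) = p ^ (v - 1)) :
    ∃ g : P, (∀ ω : Ω, g • ω ≠ ω) ∧ ∀ ω : Ω, g ^ p • ω = ω := by
  classical
  have := Fintype.ofFinite P
  have hq : 1 ≤ p ^ (v - 1) := Nat.one_le_pow _ _ hp.pos
  have hpv : p ^ v = p ^ (v - 1) * p := by rw [← pow_succ]; congr 1; omega
  have hidx : ∀ ω : Ω, (MulAction.stabilizer P ω).index = p := by
    intro ω
    have h1 := Subgroup.card_mul_index (MulAction.stabilizer P ω)
    rw [hstab, hP, hpv] at h1
    exact Nat.eq_of_mul_eq_mul_left hq h1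
  have hnormal : ∀ ω : Ω, (MulAction.stabilizer P ω).Normal := by
    intro ω
    apply Subgroup.normal_of_index_eq_minFac_card
    rw [hidx, hP, hp.pow_minFac (by omega)]
  have hpow : ∀ (g : P) (ω : Ω), g ^ p • ω = ω := by
    intro g ω
    have := hnormal ω
    have h1 := Subgroup.pow_index_mem (MulAction.stabilizer P ω) g
    rw [hidx] at h1
    exact h1
  have hfixorbit : ∀ (g : P) (ω : Ω) (h : P), g • ω = ω → g • (h • ω) = h • ω := by
    intro g ω h hg
    have h1 : h⁻¹ * g * h⁻¹⁻¹ ∈ MulAction.stabilizer P ω :=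
      (hnormal ω).conj_mem g hg h⁻¹
    rw [inv_inv, MulAction.mem_stabilizer_iff] at h1
    have e : g • h • ω = h • ((h⁻¹ * g * h) • ω) := by
      simp only [smul_smul]; congr 1; group
    rw [e, h1]
  by_contra hcon
  push Not at hcon
  have hfix : ∀ g : P, ∃ ω : Ω, g • ω = ω := by
    intro g
    by_contra hg
    push Not at hg
    obtain ⟨ω, hω⟩ := hcon g hg
    exact hω (hpow g ω)
  -- every element fixes at least `p` points
  have hN : ∀ g : P, p ≤ (Finset.univ.filter (fun ω : Ω => g • ω = ω)).card := by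
    intro g
    obtain ⟨ω, hω⟩ := hfix g
    have h1 : (MulAction.orbit P ω).ncard = p := by
      rw [← MulAction.index_stabilizer, hidx]
    have h2 : MulAction.orbit P ω ⊆ ((Finset.univ.filter (fun ω : Ω => g • ω = ω) : Finset Ω) : Set Ω) := by
      rintro _ ⟨h, rfl⟩
      simp only [Finset.coe_filter, Finset.mem_univ, true_and, Set.mem_ofPred_eq]
      exact hfixorbit g ω h hω
    have h3 := Set.ncard_le_ncard h2 (Finset.finite_toSet _)
    rw [h1, Set.ncard_coe_finset] at h3
    exact h3
  -- double counting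
  have hdc : ∑ g : P, (Finset.univ.filter (fun ω : Ω => g • ω = ω)).card =
      ∑ ω : Ω, (Finset.univ.filter (fun g : P => g • ω = ω)).card :=
    Finset.sum_card_bipartiteAbove_eq_sum_card_bipartiteBelow (fun (g : P) (ω : Ω) => g • ω = ω)
  have hstab' : ∀ ω : Ω, (Finset.univ.filter (fun g : P => g • ω = ω)).card = p ^ (v - 1) := by
    intro ω
    rw [← hstab ω, Nat.card_eq_fintype_card, Fintype.card_subtype]
    rfl
  have hrhs : ∑ ω : Ω, (Finset.univ.filter (fun g : P => g • ω = ω)).card = m * p * p ^ (v - 1) := by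
    rw [Finset.sum_congr rfl (fun ω _ => hstab' ω), Finset.sum_const, Finset.card_univ, hΩ,
      smul_eq_mul]
  have hlhs : p ^ v * p + m * p ≤
      ∑ g : P, (Finset.univ.filter (fun ω : Ω => g • ω = ω)).card + p := by
    have h1 : ∑ g : P, (p + if g = 1 then (m * p - p) else 0) ≤
        ∑ g : P, (Finset.univ.filter (fun ω : Ω => g • ω = ω)).card := by
      apply Finset.sum_le_sum
      intro g _
      by_cases hg : g = 1
      · subst hg
        simp only [one_smul, Finset.filter_true, Finset.card_univ, if_true, hΩ]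
        have : p ≤ m * p := Nat.le_mul_of_pos_left p hm1
        omega
      · rw [if_neg hg, add_zero]
        exact hN g
    rw [Finset.sum_add_distrib, Finset.sum_const, Finset.card_univ, Finset.sum_ite_eq' Finset.univ
      (1 : P), if_pos (Finset.mem_univ _), smul_eq_mul, ← Nat.card_eq_fintype_card, hP] at h1
    have : p ≤ m * p := Nat.le_mul_of_pos_left p hm1
    omega
  rw [hdc, hrhs, hpv] at hlhs
  -- arithmetic contradiction
  set q := p ^ (v - 1) with hqdef
  have hp0 : 0 < p := hp.pos
  have h1 : m * p * q + p * q ≤ p * p * q := by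
    have : m + 1 ≤ p := hm
    calc m * p * q + p * q = (m + 1) * (p * q) := by ring
      _ ≤ p * (p * q) := Nat.mul_le_mul_right _ this
      _ = p * p * q := by ring
  have h2 : p * 1 ≤ p * q := Nat.mul_le_mul_left p hq
  have h3 : p * 1 ≤ m * p := by rw [mul_comm m p]; exact Nat.mul_le_mul_left p hm1
  have h4 : q * p * p = p * p * q := by ring
  rw [h4] at hlhs
  omega

/-- If a finite group acts faithfully and transitively on a set with m·p elements, where p is a prime and 1 ≤ m ≤ p, then some element of order p fixes no point. -/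
theorem result {G Ω : Type*} [Group G] [Finite G] [MulAction G Ω] [FaithfulSMul G Ω] [Fintype Ω] (htr : MulAction.IsPretransitive G Ω)
    (p m : ℕ) (hp : p.Prime) (hm : 1 ≤ m) (hmp : m ≤ p) (hΩ : Fintype.card Ω = m * p) :
    ∃ g : G, orderOf g = p ∧ ∀ ω : Ω, g • ω ≠ ω := by
  rcases hmp.eq_or_lt with rfl | hlt
  · exact Cfsg.Agent.S5726.result htr m 2 hp (by norm_num) (by rw [hΩ]; ring)
  have : Fact p.Prime := ⟨hp⟩
  have hG0 : Nat.card G ≠ 0 := Nat.card_pos.ne'
  let P : Sylow p G := default
  set v := (Nat.card G).factorization p with hv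
  have hPcard : Nat.card P = p ^ v := P.card_eq_multiplicity
  have hmp0 : 0 < m * p := Nat.mul_pos hm hp.pos
  obtain ⟨ω₀⟩ : Nonempty Ω := by
    rw [← Fintype.card_pos_iff, hΩ]; exact hmp0
  have hidxG : ∀ ω : Ω, (MulAction.stabilizer G ω).index = m * p := by
    intro ω
    rw [MulAction.index_stabilizer_of_transitive, Nat.card_eq_fintype_card, hΩ]
  have hv1 : 1 ≤ v := by
    have : p ^ 1 ∣ Nat.card G := by
      rw [pow_one]
      have h1 := Subgroup.index_dvd_card (MulAction.stabilizer G ω₀)
      rw [hidxG] at h1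
      exact (Dvd.intro_left m rfl).trans h1
    exact (hp.pow_dvd_iff_le_factorization hG0).mp this
  -- the stabilisers in `P` have order `p ^ (v - 1)`
  have hstab : ∀ ω : Ω, Nat.card (MulAction.stabilizer P ω) = p ^ (v - 1) := by
    intro ω
    have hG : Nat.card (MulAction.stabilizer G ω) * (m * p) = Nat.card G := by
      rw [← hidxG ω]; exact Subgroup.card_mul_index _
    let f : MulAction.stabilizer P ω →* MulAction.stabilizer G ω :=
      { toFun := fun x => ⟨((x : P) : G), x.2⟩
        map_one' := rfl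
        map_mul' := fun _ _ => rfl }
    have hf : Function.Injective f := by
      intro x y hxy
      apply Subtype.ext
      apply Subtype.ext
      exact congrArg (fun t : MulAction.stabilizer G ω => (t : G)) hxy
    have hdvd1 : Nat.card (MulAction.stabilizer P ω) ∣ Nat.card (MulAction.stabilizer G ω) :=
      Subgroup.card_dvd_of_injective f hf
    have hdvd2 : Nat.card (MulAction.stabilizer P ω) ∣ p ^ v := by
      rw [← hPcard]; exact Subgroup.card_subgroup_dvd_card _
    obtain ⟨a, hav, hcard⟩ := (Nat.dvd_prime_pow hp).mp hdvd2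
    have ha1 : a + 1 ≤ v := by
      have : p ^ (a + 1) ∣ Nat.card G := by
        rw [pow_succ, ← hcard, ← hG]
        exact Nat.mul_dvd_mul hdvd1 (Dvd.intro_left m rfl)
      exact (hp.pow_dvd_iff_le_factorization hG0).mp this
    -- orbit length `p ^ (v - a)` is at most `m p < p ^ 2`
    have hindex : (MulAction.stabilizer P ω).index = p ^ (v - a) := by
      have h1 := Subgroup.card_mul_index (MulAction.stabilizer P ω)
      rw [hcard, hPcard] at h1
      have h2 : p ^ v = p ^ a * p ^ (v - a) := by rw [← pow_add]; congr 1; omega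
      rw [h2] at h1
      exact Nat.eq_of_mul_eq_mul_left (pow_pos hp.pos a) h1
    have hle : p ^ (v - a) ≤ m * p := by
      rw [← hindex, MulAction.index_stabilizer, ← hΩ, ← Nat.card_eq_fintype_card,
        ← Set.ncard_univ]
      exact Set.ncard_le_ncard (Set.subset_univ _) Set.finite_univ
    have hlt2 : p ^ (v - a) < p ^ 2 := by
      calc p ^ (v - a) ≤ m * p := hle
        _ < p * p := Nat.mul_lt_mul_of_pos_right hlt hp.pos
        _ = p ^ 2 := (sq p).symm
    have : v - a < 2 := (Nat.pow_lt_pow_iff_right hp.one_lt).mp hlt2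
    have hav' : a = v - 1 := by omega
    rw [hcard, hav']
  obtain ⟨g, hg1, hg2⟩ := exists_derangement (P := P) (Ω := Ω) p v m hp hv1 hPcard hm hlt hΩ hstab
  refine ⟨(g : G), ?_, fun ω => hg1 ω⟩
  have hgp : (g : G) ^ p = 1 := by
    apply FaithfulSMul.eq_of_smul_eq_smul (α := Ω)
    intro ω
    rw [one_smul]
    exact hg2 ω
  have hg1' : (g : G) ≠ 1 := by
    intro e
    apply hg1 ω₀
    change (g : G) • ω₀ = ω₀
    rw [e, one_smul]
  exact orderOf_eq_prime hgp hg1'

end Cfsg.Agent.S5727
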