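import Cfsg.Statements.S5728

set_option autoImplicit false
open Cfsg

namespace Cfsg.Agent.S5728

/-- Powers of a scaling map. -/
theorem pow_scale {K : Type*} [Field K] (h : Equiv.Perm K) (a : K) (hh : ∀ y, h y = a * y) (n : ℕ) :
    ∀ y, (h ^ n) y = a ^ n * y := by
  induction n with
  | zero => intro y; simp
  | succ n ih =>
    intro y
    rw [pow_succ, Equiv.Perm.mul_apply, hh, ih, pow_succ]
    ring

/-- An element of a finite field of characteristic `p` fixed by the `p`-th power map comes from the
prime field. -/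
theorem exists_zmod {K : Type*} [Field K] (p : ℕ) [Fact p.Prime] [CharP K p] [Algebra (ZMod p) K]
    {a : K} (ha : a ^ p = a) : ∃ c : ZMod p, algebraMap (ZMod p) K c = a := by
  have h1 : a ∈ (⊥ : Subfield K) := (Subfield.mem_bot_iff_pow_eq_self K p).2 ha
  obtain ⟨n, hn⟩ := (mem_bot_iff_intCast p K).1 h1
  exact ⟨(n : ZMod p), by rw [map_intCast, hn]⟩

end Cfsg.Agent.S5728

namespace Cfsg.Agent.S5728

/-- An elusive transitive action. Let p = 2^s − 1 be a prime and let F be the field with p² elements. Inside the group of affine maps x ↦ a·x + b of F (a ≠ 0), consider the subgroup of maps with both coefficients in the prime field. Then every element of prime order of the affine group is conjugate, within the affine group, to an element of that subgroup; equivalently, in the transitive action of the affine group on the cosets of that subgroup, every element of prime order fixes a point. -/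
theorem result (p s : ℕ) [Fact p.Prime] (hs : p = 2 ^ s - 1)
    (g : Equiv.Perm (GaloisField p 2)) (hg : g ∈ Cfsg.affineGroup (GaloisField p 2)) (hord : (orderOf g).Prime) :
    ∃ x ∈ Cfsg.affineGroup (GaloisField p 2), ∃ a b : ZMod p, a ≠ 0 ∧
      ∀ y : GaloisField p 2, (x * g * x⁻¹) y = algebraMap (ZMod p) (GaloisField p 2) a * y + algebraMap (ZMod p) (GaloisField p 2) b := by
  have hp : p.Prime := Fact.out
  obtain ⟨a₀, b₀, hg0⟩ := hg
  by_cases ha : (a₀ : GaloisField p 2) = 1
  · -- a translation
    have hb : b₀ ≠ 0 := by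
      intro hb
      have h1 : g = 1 := by
        ext y
        rw [hg0, ha, hb]
        simp
      rw [h1, orderOf_one] at hord
      exact Nat.not_prime_one hord
    let x : Equiv.Perm (GaloisField p 2) :=
      ⟨fun y => b₀⁻¹ * y, fun y => b₀ * y, fun y => by simp [hb], fun y => by simp [hb]⟩
    refine ⟨x, ⟨Units.mk0 b₀⁻¹ (inv_ne_zero hb), 0, fun y => by simp [x]⟩, 1, 1, one_ne_zero, ?_⟩
    intro y
    change b₀⁻¹ * g (b₀ * y) = _
    rw [hg0, ha, map_one]
    field_simp
  · -- a map with a fixed point
    have h1a : (1 : GaloisField p 2) - a₀ ≠ 0 := fun h => ha (sub_eq_zero.1 h).symm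
    let y₀ : GaloisField p 2 := b₀ / (1 - a₀)
    let x : Equiv.Perm (GaloisField p 2) :=
      ⟨fun y => y - y₀, fun y => y + y₀, fun y => by simp, fun y => by simp⟩
    have hx : x ∈ Cfsg.affineGroup (GaloisField p 2) := ⟨1, -y₀, fun y => by simp [x]; ring⟩
    have hconj : ∀ y, (x * g * x⁻¹) y = (a₀ : GaloisField p 2) * y := by
      intro y
      change g (y + y₀) - y₀ = _
      rw [hg0]
      simp only [y₀]
      field_simp
      ring
    -- the order of `a₀`
    have hpow : (a₀ : GaloisField p 2) ^ orderOf g = 1 := by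
      have h1 := pow_scale (x * g * x⁻¹) a₀ hconj (orderOf g) 1
      rw [conj_pow, pow_orderOf_eq_one, mul_one, mul_inv_cancel, Equiv.Perm.one_apply, mul_one] at h1
      exact h1.symm
    have hpowU : a₀ ^ orderOf g = 1 := by
      apply Units.ext
      rw [Units.val_pow_eq_pow_val, hpow, Units.val_one]
    have hne1 : a₀ ≠ 1 := fun h => ha (by rw [h, Units.val_one])
    have hord_a : orderOf a₀ = orderOf g := by
      rcases (Nat.dvd_prime hord).1 (orderOf_dvd_of_pow_eq_one hpowU) with h | h
      · exact absurd (orderOf_eq_one_iff.1 h) hne1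
      · exact h
    have hcardK : Nat.card (GaloisField p 2) = p ^ 2 := GaloisField.card p 2 (by norm_num)
    have hdvd : orderOf g ∣ p ^ 2 - 1 := by
      rw [← hord_a, ← hcardK, ← Nat.card_units]
      exact orderOf_dvd_natCard a₀
    have hp2 : 2 ≤ p := hp.two_le
    have hs2 : p + 1 = 2 ^ s := by
      have : 1 ≤ 2 ^ s := Nat.one_le_two_pow
      omega
    have hfac : p ^ 2 - 1 = (p - 1) * 2 ^ s := by
      rw [← hs2]
      have h3 : p ^ 2 = (p - 1) * (p + 1) + 1 := by
        obtain ⟨k, rfl⟩ : ∃ k, p = k + 1 := ⟨p - 1, by omega⟩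
        rw [Nat.add_sub_cancel]
        ring
      omega
    have hodd : ¬ 2 ∣ p := by
      intro h2
      have hs0 : s ≠ 0 := by
        intro h0
        rw [h0] at hs2
        omega
      have : 2 ∣ 2 ^ s := dvd_pow_self 2 hs0
      rw [← hs2] at this
      omega
    have hdvd' : orderOf g ∣ p - 1 := by
      rw [hfac] at hdvd
      rcases (Nat.Prime.dvd_mul hord).1 hdvd with h | h
      · exact h
      · have h2 := hord.dvd_of_dvd_pow h
        have h3 : orderOf g = 2 := (Nat.prime_dvd_prime_iff_eq hord Nat.prime_two).1 h2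
        rw [h3]
        omega
    have hpow2 : (a₀ : GaloisField p 2) ^ (p - 1) = 1 := by
      obtain ⟨k, hk⟩ := hdvd'
      rw [hk, pow_mul, hpow, one_pow]
    have hpow3 : (a₀ : GaloisField p 2) ^ p = a₀ := by
      have h4 : (a₀ : GaloisField p 2) ^ ((p - 1) + 1) = a₀ := by
        rw [pow_succ, hpow2, one_mul]
      have h5 : (p - 1) + 1 = p := by omega
      rwa [h5] at h4
    obtain ⟨c, hc⟩ := exists_zmod p hpow3
    refine ⟨x, hx, c, 0, ?_, ?_⟩
    · intro h0
      rw [h0, map_zero] at hc
      exact a₀.ne_zero hc.symm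
    · intro y
      rw [hconj, hc, map_zero, add_zero]

end Cfsg.Agent.S5728
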