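import Cfsg.Statements.S5729

set_option autoImplicit false
open Cfsg

namespace Cfsg.Agent.S5729

open MulAction

/-- The fixed points of an element on pairs are the pairs of fixed points. -/
theorem card_fixedBy_prod {G Ω : Type*} [Group G] [MulAction G Ω] [Fintype Ω] [DecidableEq Ω]
    (g : G) : Fintype.card (fixedBy (Ω × Ω) g) = Fintype.card (fixedBy Ω g) ^ 2 := by
  rw [sq, ← Fintype.card_prod]
  refine Fintype.card_congr
    { toFun := fun p => (⟨p.1.1, ?_⟩, ⟨p.1.2, ?_⟩)
      invFun := fun q => ⟨(q.1.1, q.2.1), ?_⟩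
      left_inv := fun p => rfl
      right_inv := fun q => rfl }
  · have := p.2
    rw [mem_fixedBy, Prod.smul_def, Prod.ext_iff] at this
    exact this.1
  · have := p.2
    rw [mem_fixedBy, Prod.smul_def, Prod.ext_iff] at this
    exact this.2
  · rw [mem_fixedBy, Prod.smul_def, Prod.ext_iff]
    exact ⟨q.1.2, q.2.2⟩

theorem nat_ineq (f n : ℕ) (hf : f ≤ n) :
    f ^ 2 + n ≤ (n + 1) * f + n * (if f = 0 then 1 else 0) := by
  by_cases h0 : f = 0
  · subst h0; simp
  · rw [if_neg h0, mul_zero, add_zero]
    obtain ⟨k, rfl⟩ : ∃ k, f = k + 1 := ⟨f - 1, by omega⟩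
    obtain ⟨j, rfl⟩ : ∃ j, n = k + 1 + j := ⟨n - (k + 1), by omega⟩
    nlinarith [Nat.zero_le (j * k)]

theorem nat_eq_cases (f n : ℕ) (h0 : f ≠ 0) (hf : f ≤ n)
    (h : f ^ 2 + n = (n + 1) * f) : f = 1 ∨ f = n := by
  obtain ⟨k, rfl⟩ : ∃ k, f = k + 1 := ⟨f - 1, by omega⟩
  obtain ⟨j, rfl⟩ : ∃ j, n = k + 1 + j := ⟨n - (k + 1), by omega⟩
  have : j * k = 0 := by nlinarith
  rcases Nat.mul_eq_zero.1 this with h | h
  · right; omega
  · left; omega

/-- Let a finite group G act faithfully and transitively on a set with n ≥ 3 points. Then either G is a Frobenius permutation group (Frobenius as a permutation group: transitive, some non-identity element fixes a point, and no non-identity element fixes two points) of order n(n − 1) and exactly |G|/n of its elements are derangements (fix no point), or the number of derangements is greater than |G|/n. -/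
theorem result {G Ω : Type*} [Group G] [Finite G] [MulAction G Ω] [FaithfulSMul G Ω] [Fintype Ω] (htr : MulAction.IsPretransitive G Ω) (hn : 3 ≤ Fintype.card Ω) :
    ((MulAction.IsPretransitive G Ω ∧ (∃ g : G, g ≠ 1 ∧ ∃ ω : Ω, g • ω = ω) ∧ ∀ g : G, g ≠ 1 → Nat.card (MulAction.fixedBy Ω g) ≤ 1) ∧ Nat.card G = Fintype.card Ω * (Fintype.card Ω - 1) ∧ Fintype.card Ω * Nat.card {g : G // ∀ ω : Ω, g • ω ≠ ω} = Nat.card G) ∨
    Nat.card G < Fintype.card Ω * Nat.card {g : G // ∀ ω : Ω, g • ω ≠ ω} := by
  classical
  letI : Fintype G := Fintype.ofFinite G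
  have := htr
  set n := Fintype.card Ω with hn_def
  let f : G → ℕ := fun g => Fintype.card (fixedBy Ω g)
  let δ : G → ℕ := fun g => if f g = 0 then 1 else 0
  have hfn : ∀ g, f g ≤ n := fun g => Fintype.card_subtype_le _
  have hf0 : ∀ g, f g = 0 ↔ ∀ ω : Ω, g • ω ≠ ω := by
    intro g
    rw [Fintype.card_eq_zero_iff, isEmpty_subtype]
    rfl
  have hf1 : f 1 = n := by
    show Fintype.card (fixedBy Ω (1 : G)) = Fintype.card Ω
    apply Fintype.card_congr
    exact (Equiv.subtypeUnivEquiv (fun ω => by simp))
  -- the number of derangements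
  have hD : Nat.card {g : G // ∀ ω : Ω, g • ω ≠ ω} = ∑ g, δ g := by
    rw [Nat.card_eq_fintype_card, Fintype.card_subtype, Finset.card_filter]
    apply Finset.sum_congr rfl
    intro g _
    show _ = if f g = 0 then 1 else 0
    simp only [hf0 g]
  set D := Nat.card {g : G // ∀ ω : Ω, g • ω ≠ ω} with hD_def
  have hG : Nat.card G = Fintype.card G := Nat.card_eq_fintype_card
  -- Burnside on points
  have S1 : ∑ g, f g = Fintype.card G := by
    have h := sum_card_fixedBy_eq_card_orbits_mul_card_group G Ω
    have h1 : Fintype.card (Quotient (orbitRel G Ω)) = 1 := by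
      rw [Fintype.card_eq_one_iff]
      obtain ⟨ω₀⟩ : Nonempty Ω := Fintype.card_pos_iff.1 (by omega)
      refine ⟨Quotient.mk'' ω₀, ?_⟩
      intro q
      induction q using Quotient.inductionOn' with
      | h ω =>
        apply Quotient.sound'
        obtain ⟨g, hg⟩ := exists_smul_eq G ω₀ ω
        exact ⟨g, hg⟩
    rw [h1, one_mul] at h
    convert h
  -- Burnside on pairs
  have S2 : 2 * Fintype.card G ≤ ∑ g, f g ^ 2 := by
    have h := sum_card_fixedBy_eq_card_orbits_mul_card_group G (Ω × Ω)
    have h2 : 2 ≤ Fintype.card (Quotient (orbitRel G (Ω × Ω))) := by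
      obtain ⟨a, b, hab⟩ : ∃ a b : Ω, a ≠ b := Fintype.exists_pair_of_one_lt_card (by omega)
      have : 1 < Fintype.card (Quotient (orbitRel G (Ω × Ω))) := by
        rw [Fintype.one_lt_card_iff]
        refine ⟨Quotient.mk'' (a, a), Quotient.mk'' (a, b), ?_⟩
        intro h
        have h' := Quotient.exact' h
        obtain ⟨g, hg⟩ := h'
        have hg' : g • (a, b) = (a, a) := hg
        rw [Prod.smul_def, Prod.ext_iff] at hg'
        have hg : g • a = a ∧ g • b = a := hg'
        have : g • a = g • b := by rw [hg.1, hg.2]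
        exact hab (smul_left_cancel g this)
      exact this
    calc 2 * Fintype.card G ≤ Fintype.card (Quotient (orbitRel G (Ω × Ω))) * Fintype.card G :=
          Nat.mul_le_mul_right _ h2
      _ = ∑ g : G, Fintype.card (fixedBy (Ω × Ω) g) := by rw [← h]
      _ = ∑ g, f g ^ 2 := by
          apply Finset.sum_congr rfl
          intro g _
          convert card_fixedBy_prod (Ω := Ω) g
  -- the main inequality
  have hle : ∀ g ∈ (Finset.univ : Finset G), f g ^ 2 + n ≤ (n + 1) * f g + n * δ g :=
    fun g _ => nat_ineq (f g) n (hfn g)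
  have hsum := Finset.sum_le_sum hle
  have e1 : ∑ g : G, (f g ^ 2 + n) = ∑ g, f g ^ 2 + n * Fintype.card G := by
    rw [Finset.sum_add_distrib, Finset.sum_const, Finset.card_univ, smul_eq_mul, mul_comm]
  have e2 : ∑ g : G, ((n + 1) * f g + n * δ g) = (n + 1) * Fintype.card G + n * D := by
    rw [Finset.sum_add_distrib, ← Finset.mul_sum, ← Finset.mul_sum, S1, hD]
  rw [e1, e2] at hsum
  have key : Fintype.card G ≤ n * D := by nlinarith
  rcases Nat.lt_or_ge (Fintype.card G) (n * D) with hlt | hge
  · right
    rw [hG]
    exact hlt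
  · left
    have heq : n * D = Fintype.card G := le_antisymm hge key
    -- all inequalities are equalities
    have hsumeq : ∑ g : G, (f g ^ 2 + n) = ∑ g : G, ((n + 1) * f g + n * δ g) := by
      rw [e1, e2]
      nlinarith
    have hpt := (Finset.sum_eq_sum_iff_of_le hle).1 hsumeq
    have hcases : ∀ g : G, g ≠ 1 → f g ≤ 1 := by
      intro g hg1
      by_cases h0 : f g = 0
      · omega
      · have h := hpt g (Finset.mem_univ g)
        have hδ : δ g = 0 := if_neg h0
        rw [hδ, mul_zero, add_zero] at h
        rcases nat_eq_cases (f g) n h0 (hfn g) h with h1 | h1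
        · omega
        · exfalso
          apply hg1
          apply FaithfulSMul.eq_of_smul_eq_smul (α := Ω)
          intro ω
          rw [one_smul]
          have hall : (Finset.univ.filter fun ω : Ω => g • ω = ω) = Finset.univ := by
            apply Finset.eq_univ_of_card
            rw [← Fintype.card_subtype]
            exact h1
          have : ω ∈ Finset.univ.filter fun ω : Ω => g • ω = ω := by
            rw [hall]; exact Finset.mem_univ ω
          exact (Finset.mem_filter.1 this).2
    have hfd : ∑ g : G, (f g + δ g) = n + (Fintype.card G - 1) := by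
      rw [← Finset.add_sum_erase Finset.univ _ (Finset.mem_univ (1 : G))]
      have h1 : f 1 + δ 1 = n := by
        have : δ 1 = 0 := by
          show (if f 1 = 0 then 1 else 0) = 0
          rw [if_neg]
          rw [hf1]; omega
        rw [this, hf1, add_zero]
      rw [h1]
      congr 1
      have : ∀ g ∈ (Finset.univ : Finset G).erase 1, f g + δ g = 1 := by
        intro g hg
        have hg1 : g ≠ 1 := (Finset.mem_erase.1 hg).1
        have := hcases g hg1
        show f g + (if f g = 0 then 1 else 0) = 1
        by_cases h0 : f g = 0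
        · rw [if_pos h0, h0]
        · rw [if_neg h0]; omega
      rw [Finset.sum_congr rfl this, Finset.sum_const, smul_eq_mul, mul_one,
        Finset.card_erase_of_mem (Finset.mem_univ _), Finset.card_univ]
    rw [Finset.sum_add_distrib, S1, ← hD] at hfd
    have hGpos : 0 < Fintype.card G := Fintype.card_pos
    have hDn : D + 1 = n := by omega
    have hcardG : Fintype.card G = n * (n - 1) := by
      rw [← heq]
      congr 1
      omega
    refine ⟨⟨htr, ?_, ?_⟩, ?_, ?_⟩
    · by_contra hcon
      push Not at hcon
      have hz : ∀ g : G, g ≠ 1 → f g = 0 := fun g hg => (hf0 g).2 (hcon g hg)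
      have : ∑ g : G, f g = f 1 := by
        apply Finset.sum_eq_single
        · intro g _ hg; exact hz g hg
        · intro h; exact absurd (Finset.mem_univ _) h
      rw [S1, hf1, hcardG] at this
      have h3 : 3 ≤ n := hn
      obtain ⟨k, hk⟩ : ∃ k, n = k + 3 := ⟨n - 3, by omega⟩
      rw [hk] at this
      have : (k + 3) * (k + 2) = k + 3 := by
        have e : k + 3 - 1 = k + 2 := by omega
        rw [e] at this
        exact this
      nlinarith
    · intro g hg
      rw [Nat.card_eq_fintype_card]
      convert hcases g hg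
    · rw [hG]; exact hcardG
    · rw [hG]; exact heq

end Cfsg.Agent.S5729
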