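import Mathlib
import Cfsg.Statements.S5738
-- import your own Cfsg.Agent.* helpers here

set_option autoImplicit false
open Cfsg

namespace Cfsg.Agent.S5738

variable {F K : Type*} [Field F] [Field K] [Algebra F K]

/-- multiplication map as monoid hom -/
noncomputable def L : K →* Module.End F K := ((Algebra.lmul F K : K →ₐ[F] Module.End F K) : K →* Module.End F K)

theorem L_apply (a x : K) : (L (F := F) a) x = a * x := rfl

/-- the unit of `End_F K` given by a field automorphism -/
noncomputable def sigU (σ : K ≃ₐ[F] K) : (Module.End F K)ˣ :=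
  ⟨σ.toLinearMap, σ.symm.toLinearMap, by ext x; simp, by ext x; simp⟩

theorem sigU_apply (σ : K ≃ₐ[F] K) (x : K) : ((sigU σ : (Module.End F K)ˣ) : Module.End F K) x = σ x := rfl

theorem sigU_inv_apply (σ : K ≃ₐ[F] K) (x : K) :
    (((sigU σ)⁻¹ : (Module.End F K)ˣ) : Module.End F K) x = σ.symm x := rfl

/-- the map `(σ, u) ↦ m_u ∘ σ` -/
noncomputable def iota (q : (K ≃ₐ[F] K) × Kˣ) : (Module.End F K)ˣ :=
  Units.map (L (F := F)) q.2 * sigU q.1

theorem iota_apply (q : (K ≃ₐ[F] K) × Kˣ) (x : K) :
    ((iota q : (Module.End F K)ˣ) : Module.End F K) x = (q.2 : K) * q.1 x := rfl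

theorem iota_injective : Function.Injective (iota (F := F) (K := K)) := by
  rintro ⟨σ, u⟩ ⟨τ, v⟩ h
  have h1 : ∀ x : K, (u : K) * σ x = (v : K) * τ x := by
    intro x
    have := congrArg (fun g : (Module.End F K)ˣ => (g : Module.End F K) x) h
    simpa [iota_apply] using this
  have huv : (u : K) = v := by simpa using h1 1
  have hu : u = v := Units.ext huv
  subst hu
  have hst : σ = τ := by
    ext x
    exact mul_left_cancel₀ u.ne_zero (h1 x)
  rw [hst]

theorem conj_mem (σ : K ≃ₐ[F] K) (a : Kˣ) :
    sigU σ * Units.map (L (F := F)) a * (sigU σ)⁻¹ = Units.map (L (F := F)) (Units.map (σ : K →* K) a) := by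
  apply Units.ext
  apply LinearMap.ext
  intro x
  change σ ((a : K) * σ.symm x) = σ (a : K) * x
  simp

theorem sigU_symm (σ : K ≃ₐ[F] K) : sigU σ.symm = (sigU σ)⁻¹ := by
  apply Units.ext
  apply LinearMap.ext
  intro x
  rfl

theorem sigU_mem_normalizer (σ : K ≃ₐ[F] K) :
    sigU σ ∈ Subgroup.normalizer (((Units.map (L (F := F) (K := K))).range : Subgroup (Module.End F K)ˣ) : Set (Module.End F K)ˣ) := by
  rw [Subgroup.mem_normalizer_iff]
  intro h
  constructor
  · rintro ⟨a, rfl⟩
    exact ⟨_, (conj_mem σ a).symm⟩
  · rintro ⟨b, hb⟩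
    have := conj_mem σ.symm b
    rw [hb, sigU_symm, inv_inv] at this
    refine ⟨Units.map (σ.symm : K →* K) b, ?_⟩
    rw [← this]
    group

theorem iota_mem_normalizer (q : (K ≃ₐ[F] K) × Kˣ) :
    iota q ∈ Subgroup.normalizer (((Units.map (L (F := F) (K := K))).range : Subgroup (Module.End F K)ˣ) : Set (Module.End F K)ˣ) := by
  unfold iota
  apply Subgroup.mul_mem
  · apply Subgroup.le_normalizer
    exact ⟨q.2, rfl⟩
  · exact sigU_mem_normalizer q.1


theorem apply_one_ne_zero (g : (Module.End F K)ˣ) : (g : Module.End F K) 1 ≠ 0 := by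
  intro h
  have h1 : ((g⁻¹ : (Module.End F K)ˣ) : Module.End F K) ((g : Module.End F K) 1) = 1 := by
    have : ((g⁻¹ * g : (Module.End F K)ˣ) : Module.End F K) (1 : K) = 1 := by
      rw [inv_mul_cancel]; rfl
    exact this
  rw [h, map_zero] at h1
  exact zero_ne_one h1

/-- key multiplicativity from the normalizer condition -/
theorem mul_of_mem_normalizer (g : (Module.End F K)ˣ)
    (hg : g ∈ Subgroup.normalizer (((Units.map (L (F := F) (K := K))).range : Subgroup (Module.End F K)ˣ) : Set (Module.End F K)ˣ))
    (a x : K) :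
    (g : Module.End F K) (a * x) * (g : Module.End F K) 1 = (g : Module.End F K) a * (g : Module.End F K) x := by
  by_cases ha : a = 0
  · simp [ha]
  rw [Subgroup.mem_normalizer_iff] at hg
  obtain ⟨c, hc⟩ := (hg (Units.map (L (F := F)) (Units.mk0 a ha))).mp ⟨_, rfl⟩
  -- hc : Units.map L c = g * Units.map L a * g⁻¹
  have key : ∀ y : K, (c : K) * (g : Module.End F K) y = (g : Module.End F K) (a * y) := by
    intro y
    have h1 := congrArg (fun h : (Module.End F K)ˣ => (h : Module.End F K) ((g : Module.End F K) y)) hc
    have h2 : ((g⁻¹ : (Module.End F K)ˣ) : Module.End F K) ((g : Module.End F K) y) = y := by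
      have : ((g⁻¹ * g : (Module.End F K)ˣ) : Module.End F K) y = y := by
        rw [inv_mul_cancel]; rfl
      exact this
    have h3 : ((g * Units.map (L (F := F)) (Units.mk0 a ha) * g⁻¹ : (Module.End F K)ˣ) : Module.End F K)
        ((g : Module.End F K) y) = (g : Module.End F K) (a * y) := by
      change (g : Module.End F K) (a * ((g⁻¹ : (Module.End F K)ˣ) : Module.End F K) ((g : Module.End F K) y)) = _
      rw [h2]
    rw [← h3]
    exact h1
  have k1 := key 1
  have kx := key x
  rw [mul_one] at k1
  rw [← kx, ← k1]
  ring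

variable [Finite K]

/-- the field automorphism attached to an element of the normalizer -/
noncomputable def sigOf (g : (Module.End F K)ˣ)
    (hg : g ∈ Subgroup.normalizer (((Units.map (L (F := F) (K := K))).range : Subgroup (Module.End F K)ˣ) : Set (Module.End F K)ˣ)) :
    K ≃ₐ[F] K :=
  AlgEquiv.ofBijective
    ({ toFun := fun a => (g : Module.End F K) a * ((g : Module.End F K) 1)⁻¹
       map_one' := mul_inv_cancel₀ (apply_one_ne_zero g)
       map_mul' := fun a b => by
         have h := mul_of_mem_normalizer g hg a b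
         have h1 := apply_one_ne_zero g
         field_simp
         rw [h]
       map_zero' := by simp
       map_add' := fun a b => by simp [add_mul]
       commutes' := fun r => by
         have h1 := apply_one_ne_zero g
         rw [Algebra.algebraMap_eq_smul_one, map_smul, smul_mul_assoc, mul_inv_cancel₀ h1] } : K →ₐ[F] K)
    (AlgHom.bijective _)

theorem sigOf_apply (g : (Module.End F K)ˣ)
    (hg : g ∈ Subgroup.normalizer (((Units.map (L (F := F) (K := K))).range : Subgroup (Module.End F K)ˣ) : Set (Module.End F K)ˣ))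
    (a : K) : sigOf g hg a = (g : Module.End F K) a * ((g : Module.End F K) 1)⁻¹ := rfl

theorem range_iota :
    Set.range (iota (F := F) (K := K)) =
      (Subgroup.normalizer (((Units.map (L (F := F) (K := K))).range : Subgroup (Module.End F K)ˣ) : Set (Module.End F K)ˣ) : Set (Module.End F K)ˣ) := by
  ext g
  constructor
  · rintro ⟨q, rfl⟩
    exact iota_mem_normalizer q
  · intro hg
    refine ⟨(sigOf g hg, Units.mk0 _ (apply_one_ne_zero g)), ?_⟩
    apply Units.ext
    apply LinearMap.ext
    intro x
    rw [iota_apply]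
    change (g : Module.End F K) 1 * ((g : Module.End F K) x * ((g : Module.End F K) 1)⁻¹) = _
    have h1 := apply_one_ne_zero g
    field_simp

theorem card_normalizer :
    Nat.card (Subgroup.normalizer (((Units.map (L (F := F) (K := K))).range : Subgroup (Module.End F K)ˣ) : Set (Module.End F K)ˣ)) =
      Module.finrank F K * (Nat.card K - 1) := by
  have h1 : Nat.card (Subgroup.normalizer (((Units.map (L (F := F) (K := K))).range : Subgroup (Module.End F K)ˣ) : Set (Module.End F K)ˣ)) =
      Nat.card (Set.range (iota (F := F) (K := K))) := by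
    rw [range_iota]
    rfl
  rw [h1, Nat.card_range_of_injective iota_injective, Nat.card_prod, Nat.card_units,
    IsGalois.card_aut_eq_finrank]

/-- Let F ⊆ K be finite fields with |F| = q and [K : F] = n ≥ 2, so |K| = q^n. Regard K as an n-dimensional F-vector space; the multiplications by non-zero elements of K form a cyclic subgroup of GL_F(K) of order q^n − 1 acting regularly on the non-zero vectors (a Singer group). Its normaliser in GL_F(K) has order n·(q^n − 1). -/
theorem result {F K : Type*} [Field F] [Fintype F] [Field K] [Fintype K] [Algebra F K] (n : ℕ) (hn : 2 ≤ n) (hdim : Module.finrank F K = n) :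
    Nat.card (Subgroup.normalizer (((Units.map ((Algebra.lmul F K : K →ₐ[F] Module.End F K) : K →* Module.End F K)).range : Subgroup (Module.End F K)ˣ) : Set (Module.End F K)ˣ)) = n * (Fintype.card K - 1) := by
  have h := card_normalizer (F := F) (K := K)
  rw [hdim, Nat.card_eq_fintype_card (α := K)] at h
  exact h

end Cfsg.Agent.S5738
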