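import Cfsg.Statements.S5739

set_option autoImplicit false
open Cfsg

namespace Cfsg.Agent.S5739

variable {F K : Type*} [Field F] [Field K] [Algebra F K]

/-- The multiplication by an element, as a monoid homomorphism. -/
abbrev Lam (F K : Type*) [Field F] [Field K] [Algebra F K] : K →* Module.End F K :=
  ((Algebra.lmul F K : K →ₐ[F] Module.End F K) : K →* Module.End F K)

theorem Lam_apply (a x : K) : Lam F K a x = a * x := by simp

theorem Lam_add (a b : K) : Lam F K (a + b) = Lam F K a + Lam F K b := by simp

theorem Lam_zero : Lam F K 0 = 0 := by simp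

theorem Lam_injective : Function.Injective (Lam F K) := by
  intro a b h
  have := congrArg (fun φ : Module.End F K => φ 1) h
  simpa using this

theorem Lam_algebraMap (c : F) : Lam F K (algebraMap F K c) = c • (1 : Module.End F K) := by
  ext x
  simp [Algebra.smul_def]

/-- The elements whose multiplication is a conjugate, under `g`, of a multiplication. -/
def E (g : (Module.End F K)ˣ) : IntermediateField F K where
  carrier := {b | ∃ a : K, (g : Module.End F K) * Lam F K a * ((g⁻¹ : (Module.End F K)ˣ) :
    Module.End F K) = Lam F K b}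
  mul_mem' := by
    rintro b b' ⟨a, ha⟩ ⟨a', ha'⟩
    refine ⟨a * a', ?_⟩
    rw [map_mul, map_mul (Lam F K) b, ← ha, ← ha']
    simp only [mul_assoc]
    congr 2
    rw [← mul_assoc ((g⁻¹ : (Module.End F K)ˣ) : Module.End F K), Units.inv_mul, one_mul]
  add_mem' := by
    rintro b b' ⟨a, ha⟩ ⟨a', ha'⟩
    exact ⟨a + a', by rw [Lam_add, Lam_add, mul_add, add_mul, ha, ha']⟩
  algebraMap_mem' := by
    intro c
    refine ⟨algebraMap F K c, ?_⟩
    rw [Lam_algebraMap, mul_smul_comm, mul_one, smul_mul_assoc, Units.mul_inv]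
  inv_mem' := by
    rintro b ⟨a, ha⟩
    by_cases hb : b = 0
    · subst hb
      exact ⟨0, by rw [inv_zero, Lam_zero, mul_zero, zero_mul]⟩
    · have ha0 : a ≠ 0 := by
        rintro rfl
        rw [Lam_zero, mul_zero, zero_mul] at ha
        exact hb (Lam_injective (F := F) (by rw [← ha, Lam_zero]))
      refine ⟨a⁻¹, ?_⟩
      have h1 : ((g : Module.End F K) * Lam F K a⁻¹ * ((g⁻¹ : (Module.End F K)ˣ) :
          Module.End F K)) * Lam F K b = 1 := by
        rw [← ha]
        simp only [mul_assoc]
        rw [← mul_assoc ((g⁻¹ : (Module.End F K)ˣ) : Module.End F K), Units.inv_mul, one_mul,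
          ← mul_assoc (Lam F K a⁻¹), ← map_mul, inv_mul_cancel₀ ha0, map_one, one_mul,
          Units.mul_inv]
      have h2 : Lam F K b * Lam F K b⁻¹ = 1 := by
        rw [← map_mul, mul_inv_cancel₀ hb, map_one]
      calc (g : Module.End F K) * Lam F K a⁻¹ * ((g⁻¹ : (Module.End F K)ˣ) : Module.End F K)
          = ((g : Module.End F K) * Lam F K a⁻¹ * ((g⁻¹ : (Module.End F K)ˣ) :
              Module.End F K)) * (Lam F K b * Lam F K b⁻¹) := by rw [h2, mul_one]
        _ = Lam F K b⁻¹ := by rw [← mul_assoc, h1, one_mul]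

theorem mem_E (g : (Module.End F K)ˣ) (b : K) : b ∈ E g ↔ ∃ a : K,
    (g : Module.End F K) * Lam F K a * ((g⁻¹ : (Module.End F K)ˣ) : Module.End F K) =
      Lam F K b := Iff.rfl

/-- The Singer group. -/
abbrev Sing (F K : Type*) [Field F] [Field K] [Algebra F K] : Subgroup (Module.End F K)ˣ :=
  (Units.map (Lam F K)).range

theorem unitsMap_injective : Function.Injective (Units.map (Lam F K)) := by
  intro a b h
  apply Units.ext
  apply Lam_injective (F := F)
  exact congrArg Units.val h

/-- The elements of the intersection correspond to the non-zero elements of the subfield. -/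
theorem mem_inf_iff (g : (Module.End F K)ˣ) (u : (Module.End F K)ˣ) :
    u ∈ (Sing F K).map (MulAut.conj g).toMonoidHom ⊓ Sing F K ↔
      ∃ b : Kˣ, (b : K) ∈ E g ∧ Units.map (Lam F K) b = u := by
  constructor
  · rintro ⟨⟨m, ⟨a, rfl⟩, hm⟩, ⟨b, rfl⟩⟩
    refine ⟨b, ⟨(a : K), ?_⟩, rfl⟩
    have := congrArg Units.val hm
    simpa using this
  · rintro ⟨b, ⟨a, ha⟩, rfl⟩
    refine ⟨?_, ⟨b, rfl⟩⟩
    have ha0 : a ≠ 0 := by
      rintro rfl
      rw [Lam_zero, mul_zero, zero_mul] at ha
      exact b.ne_zero (Lam_injective (F := F) (by rw [← ha, Lam_zero]))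
    refine ⟨Units.map (Lam F K) (Units.mk0 a ha0), ⟨_, rfl⟩, ?_⟩
    apply Units.ext
    simpa using ha

/-- The intersection has as many elements as the subfield has non-zero elements. -/
theorem card_inf [Finite K] (g : (Module.End F K)ˣ) :
    Nat.card ↥((Sing F K).map (MulAut.conj g).toMonoidHom ⊓ Sing F K) = Nat.card (E g) - 1 := by
  rw [← Nat.card_units]
  symm
  let ι : (E g)ˣ →* Kˣ := Units.map ((E g).val : ↥(E g) →* K)
  let ψ : (E g)ˣ → ↥((Sing F K).map (MulAut.conj g).toMonoidHom ⊓ Sing F K) := fun b =>
    ⟨Units.map (Lam F K) (ι b), (mem_inf_iff g _).2 ⟨ι b, (b : E g).2, rfl⟩⟩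
  refine Nat.card_congr (Equiv.ofBijective ψ ⟨?_, ?_⟩)
  · intro b b' h
    have h1 : Units.map (Lam F K) (ι b) = Units.map (Lam F K) (ι b') := congrArg Subtype.val h
    have h2 : ι b = ι b' := unitsMap_injective h1
    apply Units.ext
    apply Subtype.ext
    exact congrArg Units.val h2
  · rintro ⟨u, hu⟩
    obtain ⟨b, hb, rfl⟩ := (mem_inf_iff g u).1 hu
    have hne : (⟨(b : K), hb⟩ : E g) ≠ 0 := by
      intro h
      exact b.ne_zero (congrArg Subtype.val h)
    refine ⟨Units.mk0 ⟨(b : K), hb⟩ hne, ?_⟩
    apply Subtype.ext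
    show Units.map (Lam F K) (ι (Units.mk0 ⟨(b : K), hb⟩ hne)) = Units.map (Lam F K) b
    congr 1
    apply Units.ext
    rfl

/-- Let F ⊆ K be finite fields with |F| = q and [K : F] = n ≥ 2, and let M ≤ GL_F(K) be the Singer group of multiplications by non-zero elements of K. If g ∈ GL_F(K) does not normalise M, then the order of M ∩ gMg⁻¹ divides q^r − 1 for some proper divisor r of n. In particular, when n is prime, that order divides q − 1. -/
theorem result {F K : Type*} [Field F] [Fintype F] [Field K] [Fintype K] [Algebra F K] (n : ℕ) (hn : 2 ≤ n) (hdim : Module.finrank F K = n)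
    (g : (Module.End F K)ˣ) (hg : ((Units.map ((Algebra.lmul F K : K →ₐ[F] Module.End F K) : K →* Module.End F K)).range).map (MulAut.conj g).toMonoidHom ≠ (Units.map ((Algebra.lmul F K : K →ₐ[F] Module.End F K) : K →* Module.End F K)).range) :
    ∃ r : ℕ, 1 ≤ r ∧ r ∣ n ∧ r < n ∧ Nat.card ↥(((Units.map ((Algebra.lmul F K : K →ₐ[F] Module.End F K) : K →* Module.End F K)).range).map (MulAut.conj g).toMonoidHom ⊓ (Units.map ((Algebra.lmul F K : K →ₐ[F] Module.End F K) : K →* Module.End F K)).range) ∣ Fintype.card F ^ r - 1 := by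
  have hfin : FiniteDimensional F K := Module.Finite.of_finite
  have hmul : Module.finrank F (E g) * Module.finrank (E g) K = n := by
    rw [← hdim]
    exact Module.finrank_mul_finrank F (E g) K
  have hpos : 0 < Module.finrank F (E g) := Module.finrank_pos
  have hdvd : Module.finrank F (E g) ∣ n := Dvd.intro _ hmul
  refine ⟨Module.finrank F (E g), hpos, hdvd, ?_, ?_⟩
  · rcases Nat.lt_or_ge (Module.finrank F (E g)) n with h | h
    · exact h
    · exfalso
      have hle : Module.finrank F (E g) ≤ n := Nat.le_of_dvd (by omega) hdvd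
      have heq : Module.finrank F (E g) = n := le_antisymm hle h
      have htop : E g = ⊤ := by
        apply IntermediateField.eq_of_le_of_finrank_eq le_top
        rw [heq, IntermediateField.finrank_top', hdim]
      apply hg
      symm
      have : Finite (Module.End F K)ˣ := Finite.of_injective (fun u : (Module.End F K)ˣ =>
        ((u : Module.End F K) : K → K)) (by
          intro u v h
          apply Units.ext
          exact DFunLike.coe_injective h)
      apply Subgroup.eq_of_le_of_card_ge
      · intro u hu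
        obtain ⟨b, rfl⟩ := hu
        have hb : (b : K) ∈ E g := by rw [htop]; exact IntermediateField.mem_top
        exact ((mem_inf_iff g _).2 ⟨b, hb, rfl⟩).1
      · rw [Subgroup.card_map_of_injective (MulAut.conj g).injective]
  · rw [card_inf g, Module.natCard_eq_pow_finrank (K := F) (V := E g), Nat.card_eq_fintype_card]

end Cfsg.Agent.S5739
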