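import Cfsg.Statements.S5747

set_option autoImplicit false
open Cfsg

namespace Cfsg.Agent.S5747


open MulAction

variable {G Ω : Type*} [Group G] [MulAction G Ω]

/-- The pointwise stabilizer of a list of points. -/
def fixer (l : List Ω) : Subgroup G where
  carrier := {g | ∀ x ∈ l, g • x = x}
  one_mem' := by
    intro x _
    exact one_smul _ _
  mul_mem' := by
    intro a b ha hb x hx
    rw [mul_smul, hb x hx, ha x hx]
  inv_mem' := by
    intro a ha x hx
    rw [inv_smul_eq_iff, ha x hx]

theorem mem_fixer {l : List Ω} {g : G} : g ∈ (fixer l : Subgroup G) ↔ ∀ x ∈ l, g • x = x :=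
  Iff.rfl

theorem fixer_nil : (fixer ([] : List Ω) : Subgroup G) = ⊤ := by
  ext g
  simp [mem_fixer]

theorem fixer_cons (x : Ω) (l : List Ω) :
    (fixer (x :: l) : Subgroup G) = stabilizer G x ⊓ fixer l := by
  ext g
  simp [mem_fixer, mem_stabilizer_iff]

/-- Each point of the list is moved by an element of `K` fixing the earlier points. -/
def Irr : Subgroup G → List Ω → Prop
  | _, [] => True
  | K, x :: l => (∃ g ∈ K, g • x ≠ x) ∧ Irr (K ⊓ stabilizer G x) l

/-- Only the identity of `K` fixes all the points of the list. -/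
def IsBase (K : Subgroup G) (l : List Ω) : Prop := ∀ g ∈ K, (∀ x ∈ l, g • x = x) → g = 1

/-- The list is an irredundant base for `K`. -/
def IB (K : Subgroup G) (l : List Ω) : Prop := Irr K l ∧ IsBase K l

theorem irr_cons {K : Subgroup G} {x : Ω} {l : List Ω} :
    Irr K (x :: l) ↔ (∃ g ∈ K, g • x ≠ x) ∧ Irr (K ⊓ stabilizer G x) l := Iff.rfl

theorem isBase_cons {K : Subgroup G} {x : Ω} {l : List Ω} :
    IsBase K (x :: l) ↔ IsBase (K ⊓ stabilizer G x) l := by
  constructor
  · intro h g hg hl
    apply h g hg.1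
    intro y hy
    rcases List.mem_cons.1 hy with rfl | hy
    · exact hg.2
    · exact hl y hy
  · intro h g hg hl
    exact h g ⟨hg, hl x List.mem_cons_self⟩ fun y hy => hl y (List.mem_cons_of_mem _ hy)

theorem irr_append {K : Subgroup G} {l₁ l₂ : List Ω} :
    Irr K (l₁ ++ l₂) ↔ Irr K l₁ ∧ Irr (K ⊓ fixer l₁) l₂ := by
  induction l₁ generalizing K with
  | nil => simp [Irr, fixer_nil]
  | cons x l ih =>
    rw [List.cons_append, irr_cons, ih, irr_cons, fixer_cons, and_assoc, inf_assoc]

theorem isBase_append {K : Subgroup G} {l₁ l₂ : List Ω} :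
    IsBase K (l₁ ++ l₂) ↔ IsBase (K ⊓ fixer l₁) l₂ := by
  constructor
  · intro h g hg hl
    apply h g hg.1
    intro y hy
    rcases List.mem_append.1 hy with hy | hy
    · exact hg.2 y hy
    · exact hl y hy
  · intro h g hg hl
    exact h g ⟨hg, fun y hy => hl y (List.mem_append_left _ hy)⟩
      fun y hy => hl y (List.mem_append_right _ hy)

theorem IsBase.perm {K : Subgroup G} {l l' : List Ω} (h : IsBase K l) (hp : l.Perm l') :
    IsBase K l' := fun g hg hl => h g hg fun x hx => hl x (hp.mem_iff.1 hx)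

theorem IsBase.mono {K : Subgroup G} {l l' : List Ω} (h : IsBase K l) (hs : l ⊆ l') :
    IsBase K l' := fun g hg hl => h g hg fun x hx => hl x (hs hx)

theorem Irr.moved {K : Subgroup G} {l : List Ω} (h : Irr K l) {y : Ω} (hy : y ∈ l) :
    ∃ g ∈ K, g • y ≠ y := by
  induction l generalizing K with
  | nil => simp at hy
  | cons x l ih =>
    rcases List.mem_cons.1 hy with rfl | hy
    · exact h.1
    · obtain ⟨g, hg, hgy⟩ := ih h.2 hy
      exact ⟨g, hg.1, hgy⟩

theorem Irr.nodup {K : Subgroup G} {l : List Ω} (h : Irr K l) : l.Nodup := by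
  induction l generalizing K with
  | nil => exact List.nodup_nil
  | cons x l ih =>
    rw [List.nodup_cons]
    refine ⟨fun hx => ?_, ih h.2⟩
    obtain ⟨g, hg, hgx⟩ := h.2.moved hx
    exact hgx hg.2

open Classical in
/-- Drop the points that are not moved by the stabilizer of the earlier ones. -/
noncomputable def prune : Subgroup G → List Ω → List Ω
  | _, [] => []
  | K, x :: l => if ∃ g ∈ K, g • x ≠ x then x :: prune (K ⊓ stabilizer G x) l else prune K l

theorem prune_sublist (K : Subgroup G) (l : List Ω) : (prune K l).Sublist l := by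
  induction l generalizing K with
  | nil => exact List.Sublist.refl _
  | cons x l ih =>
    rw [prune]
    split_ifs
    · exact (ih _).cons_cons x
    · exact (ih _).cons x

theorem prune_irr (K : Subgroup G) (l : List Ω) : Irr K (prune K l) := by
  induction l generalizing K with
  | nil => exact trivial
  | cons x l ih =>
    rw [prune]
    split_ifs with h
    · exact ⟨h, ih _⟩
    · exact ih _

theorem prune_base {K : Subgroup G} {l : List Ω} (h : IsBase K l) : IsBase K (prune K l) := by
  induction l generalizing K with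
  | nil => exact h
  | cons x l ih =>
    rw [prune]
    split_ifs with hm
    · rw [isBase_cons]
      exact ih (isBase_cons.1 h)
    · apply ih
      intro g hg hl
      apply h g hg
      intro y hy
      rcases List.mem_cons.1 hy with rfl | hy
      · by_contra hne
        exact hm ⟨g, hg, hne⟩
      · exact hl y hy

theorem prune_cons_of_moved {K : Subgroup G} {x : Ω} (l : List Ω) (h : ∃ g ∈ K, g • x ≠ x) :
    prune K (x :: l) = x :: prune (K ⊓ stabilizer G x) l := by
  rw [prune, if_pos h]

variable (Ω) in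
/-- Reorderings of irredundant bases are irredundant bases. -/
def R (K : Subgroup G) : Prop := ∀ l l' : List Ω, IB K l → l.Perm l' → IB K l'

variable (Ω) in
/-- All irredundant bases have the same length. -/
def A (K : Subgroup G) : Prop := ∀ l l' : List Ω, IB K l → IB K l' → l.length = l'.length

theorem R_of_A {K : Subgroup G} (hA : A Ω K) : R Ω K := by
  intro l l' hl hp
  have hb : IsBase K l' := hl.2.perm hp
  have h1 : IB K (prune K l') := ⟨prune_irr _ _, prune_base hb⟩
  have h2 := hA _ _ h1 hl
  have h3 : prune K l' = l' := (prune_sublist K l').eq_of_length (by rw [h2, hp.length_eq])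
  rw [← h3]
  exact h1

theorem card_lt [Finite G] {K₁ K : Subgroup G} (hle : K₁ ≤ K) {g : G} (hg : g ∈ K)
    (hg' : g ∉ K₁) : Nat.card K₁ < Nat.card K := by
  by_contra h
  have := Subgroup.eq_of_le_of_card_ge hle (not_lt.1 h)
  exact hg' (this ▸ hg)

theorem R_inf_fixer {K : Subgroup G} (hR : R Ω K) {u : List Ω} (hu : Irr K u) :
    R Ω (K ⊓ fixer u) := by
  intro c c' hc hp
  have h1 : IB K (u ++ c) := ⟨irr_append.2 ⟨hu, hc.1⟩, isBase_append.2 hc.2⟩
  have h2 := hR _ _ h1 (List.Perm.append_left u hp)
  exact ⟨(irr_append.1 h2.1).2, isBase_append.1 h2.2⟩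

theorem inf_fixer_singleton (K : Subgroup G) (x : Ω) :
    K ⊓ fixer [x] = K ⊓ stabilizer G x := by
  rw [fixer_cons, fixer_nil, inf_top_eq]

theorem A_of_R [Finite G] : ∀ (n : ℕ) (K : Subgroup G), Nat.card K ≤ n → R Ω K → A Ω K := by
  intro n
  induction n with
  | zero =>
    intro K hK
    have := Nat.card_pos (α := K)
    omega
  | succ n ih =>
    intro K hK hR a b ha hb
    cases b with
    | nil =>
      cases a with
      | nil => rfl
      | cons x a' =>
        obtain ⟨g, hg, hgx⟩ := ha.1.1
        have : g = 1 := hb.2 g hg (by simp)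
        rw [this, one_smul] at hgx
        exact absurd rfl hgx
    | cons b₀ b' =>
      cases a with
      | nil =>
        obtain ⟨g, hg, hgx⟩ := hb.1.1
        have : g = 1 := ha.2 g hg (by simp)
        rw [this, one_smul] at hgx
        exact absurd rfl hgx
      | cons a₀ a₁ =>
        obtain ⟨g₀, hg₀, hg₀b⟩ := hb.1.1
        have hlt₁ : Nat.card ↥(K ⊓ stabilizer G b₀) < Nat.card K :=
          card_lt inf_le_left hg₀ fun h => hg₀b h.2
        have hR₁ : R Ω (K ⊓ stabilizer G b₀) := by
          rw [← inf_fixer_singleton]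
          exact R_inf_fixer hR ⟨hb.1.1, trivial⟩
        have hA₁ : A Ω (K ⊓ stabilizer G b₀) := ih _ (by omega) hR₁
        have hb' : IB (K ⊓ stabilizer G b₀) b' := ⟨hb.1.2, isBase_cons.1 hb.2⟩
        -- prune the sequence `b₀ :: a`
        set a'' := prune (K ⊓ stabilizer G b₀) (a₀ :: a₁) with ha''
        have hba : IB K (b₀ :: a'') := by
          have h1 : IsBase K (b₀ :: a₀ :: a₁) := ha.2.mono (List.subset_cons_self _ _)
          have h2 := prune_base h1
          rw [prune_cons_of_moved _ hb.1.1] at h2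
          have h3 := prune_irr K (b₀ :: a₀ :: a₁)
          rw [prune_cons_of_moved _ hb.1.1] at h3
          exact ⟨h3, h2⟩
        have ha₁'' : IB (K ⊓ stabilizer G b₀) a'' := ⟨hba.1.2, isBase_cons.1 hba.2⟩
        have hlen1 : a''.length = b'.length := hA₁ _ _ ha₁'' hb'
        obtain ⟨r, hr⟩ := (prune_sublist (K ⊓ stabilizer G b₀) (a₀ :: a₁)).exists_perm_append
        rw [← ha''] at hr
        have h_ar : IB K (a'' ++ r) := hR _ _ ha hr
        have h_ab : IB K (a'' ++ [b₀]) :=
          hR _ _ hba (by simpa using (List.perm_append_comm (l₁ := [b₀]) (l₂ := a'')))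
        have hLr : IB (K ⊓ fixer a'') r := ⟨(irr_append.1 h_ar.1).2, isBase_append.1 h_ar.2⟩
        have hLb : IB (K ⊓ fixer a'') [b₀] := ⟨(irr_append.1 h_ab.1).2, isBase_append.1 h_ab.2⟩
        rcases hcase : a'' with _ | ⟨y, a₃⟩
        · -- the stabilizer of `b₀` in `K` is trivial
          rw [hcase] at hlen1 ha₁''
          have hb'nil : b' = [] := List.length_eq_zero_iff.1 hlen1.symm
          have htriv : ∀ g ∈ K ⊓ stabilizer G b₀, g = 1 := fun g hg => ha₁''.2 g hg (by simp)
          rw [hb'nil]
          cases a₁ with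
          | nil => rfl
          | cons y a₂ =>
            exfalso
            obtain ⟨g, hg, hgy⟩ := ha.1.2.1
            have hgb : g • b₀ ≠ b₀ := by
              intro h
              have := htriv g ⟨hg.1, h⟩
              rw [this, one_smul] at hgy
              exact hgy rfl
            have h1 : IB K [a₀, b₀] := by
              refine ⟨⟨ha.1.1, ⟨g, hg, hgb⟩, trivial⟩, ?_⟩
              intro g' hg' hfix
              exact htriv g' ⟨hg', hfix b₀ (by simp)⟩
            have h2 := hR _ _ h1 (List.Perm.swap b₀ a₀ [])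
            obtain ⟨g', hg', hg'a⟩ := h2.1.2.1
            rw [htriv g' hg', one_smul] at hg'a
            exact hg'a rfl
        · -- induction on the stabilizer of `a''`
          have hirr : Irr K a'' := (irr_append.1 h_ar.1).1
          rw [hcase] at hirr
          obtain ⟨g₁, hg₁, hg₁y⟩ := hirr.1
          have hltL : Nat.card ↥(K ⊓ fixer a'') < Nat.card K := by
            refine card_lt inf_le_left hg₁ fun h => hg₁y ?_
            rw [hcase] at h
            exact h.2 y (by simp)
          have hRL : R Ω (K ⊓ fixer a'') := R_inf_fixer hR (irr_append.1 h_ar.1).1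
          have hAL : A Ω (K ⊓ fixer a'') := ih _ (by omega) hRL
          have hr1 : r.length = 1 := hAL _ _ hLr hLb
          have h3 := hr.length_eq
          rw [List.length_append, hr1, hlen1] at h3
          rw [h3, List.length_cons]


variable (G) in
/-- The statement's form of an irredundant base. -/
def IBf {t : ℕ} (f : Fin t → Ω) : Prop :=
  (∀ g : G, (∀ i : Fin t, g • f i = f i) → g = 1) ∧
    ∀ i : Fin t, ∃ g : G, (∀ j : Fin t, j < i → g • f j = f j) ∧ g • f i ≠ f i

theorem irr_ofFn : ∀ (t : ℕ) (K : Subgroup G) (f : Fin t → Ω),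
    Irr K (List.ofFn f) ↔
      ∀ i : Fin t, ∃ g ∈ K, (∀ j : Fin t, j < i → g • f j = f j) ∧ g • f i ≠ f i := by
  intro t
  induction t with
  | zero =>
    intro K f
    simp [Irr]
  | succ t ih =>
    intro K f
    rw [List.ofFn_succ, Fin.forall_fin_succ]
    show (_ ∧ Irr _ _) ↔ _
    rw [ih]
    constructor
    · rintro ⟨⟨g, hg, hg0⟩, h⟩
      refine ⟨⟨g, hg, fun j hj => absurd hj (Fin.not_lt_zero _), hg0⟩, fun i => ?_⟩
      obtain ⟨g, hg, h1, h2⟩ := h i
      refine ⟨g, hg.1, fun j hj => ?_, h2⟩
      induction j using Fin.cases with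
      | zero => exact hg.2
      | succ j => exact h1 j (Fin.succ_lt_succ_iff.1 hj)
    · rintro ⟨⟨g, hg, -, hg0⟩, h⟩
      refine ⟨⟨g, hg, hg0⟩, fun i => ?_⟩
      obtain ⟨g, hg, h1, h2⟩ := h i
      exact ⟨g, ⟨hg, h1 0 (Fin.succ_pos i)⟩, fun j hj => h1 j.succ (Fin.succ_lt_succ_iff.2 hj), h2⟩

theorem ibf_iff {t : ℕ} (f : Fin t → Ω) : IBf G f ↔ IB (⊤ : Subgroup G) (List.ofFn f) := by
  unfold IBf IB
  rw [irr_ofFn, and_comm]
  apply and_congr
  · simp
  · unfold IsBase
    simp

/-- A reordering of a duplicate-free list comes from a permutation of the indices. -/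
theorem exists_perm_of_perm {l l' : List Ω} (hp : l.Perm l') (hnd : l.Nodup) :
    ∃ (f' : Fin l.length → Ω) (σ : Equiv.Perm (Fin l.length)),
      List.ofFn f' = l' ∧ f' = l.get ∘ σ := by
  have hlen : l.length = l'.length := hp.length_eq
  have hnd' : l'.Nodup := hp.nodup_iff.1 hnd
  have hidx : ∀ i : Fin l.length, ∃ k : Fin l.length, l.get k = l'.get (i.cast hlen) := by
    intro i
    have hmem : l'.get (i.cast hlen) ∈ l := hp.mem_iff.2 (List.get_mem _ _)
    obtain ⟨k, hk⟩ := List.mem_iff_get.1 hmem
    exact ⟨k, hk⟩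
  choose s hs using hidx
  have hinj : Function.Injective s := by
    intro i j hij
    have h1 : l'.get (i.cast hlen) = l'.get (j.cast hlen) := by rw [← hs i, ← hs j, hij]
    have h2 := (List.Nodup.get_inj_iff hnd').1 h1
    exact Fin.cast_injective _ h2
  refine ⟨fun i => l'.get (i.cast hlen),
    Equiv.ofBijective s ⟨hinj, Finite.injective_iff_surjective.1 hinj⟩, ?_, ?_⟩
  · apply List.ext_get
    · rw [List.length_ofFn, hlen]
    · intro n h1 h2
      rw [List.get_ofFn]
      rfl
  · funext i
    exact (hs i).symm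

end Cfsg.Agent.S5747

namespace Cfsg.Agent.S5747

/-- Let a finite group G act on a finite set Ω. An irredundant base is a sequence of points ω₁, …, ω_t whose pointwise stabiliser is trivial and in which each ω_i is moved by some element fixing ω₁, …, ω_{i−1}. Then all irredundant bases have the same length if and only if every reordering of an irredundant base is again an irredundant base. -/
theorem result {G Ω : Type*} [Group G] [Finite G] [MulAction G Ω] [Fintype Ω] :
    (∀ (t t' : ℕ) (f : Fin t → Ω) (f' : Fin t' → Ω), ((∀ g : G, (∀ i : Fin t, g • f i = f i) → g = 1) ∧ ∀ i : Fin t, ∃ g : G, (∀ j : Fin t, j < i → g • f j = f j) ∧ g • f i ≠ f i) → ((∀ g : G, (∀ i : Fin t', g • f' i = f' i) → g = 1) ∧ ∀ i : Fin t', ∃ g : G, (∀ j : Fin t', j < i → g • f' j = f' j) ∧ g • f' i ≠ f' i) → t = t') ↔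
    (∀ (t : ℕ) (f : Fin t → Ω) (σ : Equiv.Perm (Fin t)), ((∀ g : G, (∀ i : Fin t, g • f i = f i) → g = 1) ∧ ∀ i : Fin t, ∃ g : G, (∀ j : Fin t, j < i → g • f j = f j) ∧ g • f i ≠ f i) → ((∀ g : G, (∀ i : Fin t, g • (f ∘ σ) i = (f ∘ σ) i) → g = 1) ∧ ∀ i : Fin t, ∃ g : G, (∀ j : Fin t, j < i → g • (f ∘ σ) j = (f ∘ σ) j) ∧ g • (f ∘ σ) i ≠ (f ∘ σ) i)) := by
  have key : (∀ (t t' : ℕ) (f : Fin t → Ω) (f' : Fin t' → Ω), IBf G f → IBf G f' → t = t') ↔
      (∀ (t : ℕ) (f : Fin t → Ω) (σ : Equiv.Perm (Fin t)), IBf G f → IBf G (f ∘ σ)) := by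
    constructor
    · intro hAf
      have hA : A Ω (⊤ : Subgroup G) := by
        intro l l' hl hl'
        apply hAf l.length l'.length l.get l'.get
        · rw [ibf_iff, List.ofFn_get]
          exact hl
        · rw [ibf_iff, List.ofFn_get]
          exact hl'
      have hR := R_of_A hA
      intro t f σ hf
      rw [ibf_iff] at hf ⊢
      exact hR _ _ hf (Equiv.Perm.ofFn_comp_perm σ f).symm
    · intro hBf
      have hR : R Ω (⊤ : Subgroup G) := by
        intro l l' hl hp
        obtain ⟨f', σ, h1, h2⟩ := exists_perm_of_perm hp hl.1.nodup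
        have h3 := hBf l.length l.get σ (by rw [ibf_iff, List.ofFn_get]; exact hl)
        rw [← h2, ibf_iff, h1] at h3
        exact h3
      have hA := A_of_R (Nat.card (⊤ : Subgroup G)) ⊤ le_rfl hR
      intro t t' f f' hf hf'
      rw [ibf_iff] at hf hf'
      have := hA _ _ hf hf'
      rwa [List.length_ofFn, List.length_ofFn] at this
  exact key

end Cfsg.Agent.S5747
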