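import Mathlib
import Cfsg.Statements.S5748
import Cfsg.Agent.Helper2.CAEvG
import Cfsg.Agent.Helper2.CAEvH

set_option autoImplicit false
open Cfsg

namespace Cfsg.Agent.S5748

open Cfsg.Agent.Helper2

/-- A finite non-abelian simple group in which commuting is a transitive relation on the non-identity elements (equivalently, every non-identity element has abelian centraliser) is isomorphic to PSL₂ over a field with 2^f elements for some f ≥ 2; conversely these groups have that property. -/
theorem result {G : Type*} [Group G] [Finite G] [IsSimpleGroup G] (hG : ¬ IsMulCommutative G) :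
    (∀ a b c : G, a ≠ 1 → b ≠ 1 → c ≠ 1 → Commute a b → Commute b c → Commute a c) ↔
    ∃ (F : Type) (_ : Field F) (_ : Fintype F) (f : ℕ), 2 ≤ f ∧ Fintype.card F = 2 ^ f ∧ Nonempty (G ≃* Matrix.ProjectiveSpecialLinearGroup (Fin 2) F) := by
  have hnab : ∃ a b : G, a * b ≠ b * a := by
    by_contra h
    push Not at h
    exact hG ⟨⟨h⟩⟩
  constructor
  · intro hCT
    have hCA : ∀ x : G, x ≠ 1 → ∀ a ∈ Subgroup.centralizer ({x} : Set G),
        ∀ b ∈ Subgroup.centralizer ({x} : Set G), a * b = b * a := by
      intro x hx a ha b hb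
      by_cases ha1 : a = 1
      · rw [ha1, one_mul, mul_one]
      by_cases hb1 : b = 1
      · rw [hb1, one_mul, mul_one]
      have h1 : Commute a x := (CAOdd.mem_centralizer_singleton.mp ha).symm
      have h2 : Commute x b := CAOdd.mem_centralizer_singleton.mp hb
      exact hCT a x b ha1 hx hb1 h1 h2
    exact CAEv.exists_psl hCA hnab
  · rintro ⟨F, iF, iFin, f, hf, hcard, ⟨φ⟩⟩ a b c ha hb hc hab hbc
    have h2 : (2 : F) = 0 := by
      have h0 := FiniteField.cast_card_eq_zero F
      rw [hcard] at h0
      push_cast at h0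
      exact (pow_eq_zero_iff (by omega)).mp h0
    haveI : CharP F 2 := CharTwo.of_one_ne_zero_of_two_eq_zero one_ne_zero h2
    have hφb : φ b ≠ 1 := by
      intro h
      apply hb
      apply φ.injective
      rw [h, map_one]
    have h1 : φ a * φ b = φ b * φ a := by rw [← map_mul, ← map_mul, hab.eq]
    have h3 : φ c * φ b = φ b * φ c := by rw [← map_mul, ← map_mul, hbc.eq]
    have key := CAEv.psl_ca F (φ b) (φ a) (φ c) hφb h1 h3
    apply φ.injective
    rw [map_mul, map_mul]
    exact key

end Cfsg.Agent.S5748
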