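import Cfsg.Statements.S5751
import Cfsg.Agent.E8C.Final
import Cfsg.Agent.E8C.BNE8GL
import Cfsg.Agent.E8C.GSq
import Cfsg.Agent.E8C.QFactsA
import Cfsg.Agent.E8C.ShiftB
import Cfsg.Agent.E8C.QCor7
import Cfsg.Agent.E8C.BU
import Cfsg.Agent.E8C.BaseB
import Cfsg.Agent.E8C.StepE8

set_option autoImplicit false
open Cfsg

namespace Cfsg.Agent.S5751

open Cfsg.Lie Cfsg.Agent.E8C

/-- An extremal example for iterated cores of conjugate maximal subgroups: `E₈(2)`, the maximal parabolic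
subgroup of the branch node and its conjugate by the reflection representative `n₄`; the iterated cores are the
terms of the filtration of the unipotent radical by the coefficient of `α₄`. -/
theorem result :
    ∃ (G : Type) (_ : Group G) (_ : Finite G) (M₁ M₂ : Subgroup G) (g : G) (A B : ℕ → Subgroup G),
      IsCoatom M₁ ∧ M₂ = M₁.map (MulAut.conj g).toMonoidHom ∧ M₁ ≠ M₂ ∧ M₁.normalCore = ⊥ ∧ A 0 = M₁ ∧ B 0 = M₂ ∧
      (∀ i, A (i + 1) = ((A i ⊓ B i).subgroupOf M₁).normalCore.map M₁.subtype) ∧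
      (∀ i, B (i + 1) = ((A i ⊓ B i).subgroupOf M₂).normalCore.map M₂.subtype) ∧ A 6 = ⊥ ∧ A 5 ≠ ⊥ := by
  refine ⟨e8c_G, inferInstance, inferInstance, ?_⟩
  exact e8c_final e8c_bne8_hco e8c_gsq e8c_qf_norm e8c_shb_shift e8c_qc7_Q7 e8c_qf_Q6_ne e8c_bne8_baseGL
    e8c_bu e8c_bb_base e8c_hstep1 e8c_hstep

end Cfsg.Agent.S5751
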