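import Mathlib
import Cfsg.Statements.S5754

set_option autoImplicit false
open Cfsg

namespace Cfsg.Agent.S5754

open QuadraticMap

variable {F V : Type*} [Field F] [AddCommGroup V] [Module F V]

/-- The functional `y ↦ Q(w)⁻¹ B(w, y)`. -/
noncomputable def reflFun (Q : QuadraticForm F V) (w : V) : Module.Dual F V :=
  (Q w)⁻¹ • (polarBilin Q w)

theorem reflFun_apply (Q : QuadraticForm F V) (w y : V) :
    reflFun Q w y = (Q w)⁻¹ * polar Q w y := rfl

theorem reflFun_self (Q : QuadraticForm F V) (w : V) (hw : Q w ≠ 0) : reflFun Q w w = 2 := by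
  rw [reflFun_apply, polar_self, nsmul_eq_mul, Nat.cast_ofNat, mul_comm, mul_assoc,
    mul_inv_cancel₀ hw, mul_one]

theorem map_sub_smul (Q : QuadraticForm F V) (y w : V) (c : F) :
    Q (y - c • w) = Q y + c * c * Q w - c * polar Q w y := by
  have h1 : y - c • w = y + (-c) • w := by rw [neg_smul, sub_eq_add_neg]
  rw [h1, QuadraticMap.map_add (⇑Q) y ((-c) • w), QuadraticMap.map_smul, polar_comm,
    polar_smul_left]
  simp only [smul_eq_mul]
  ring

/-- The reflection in a non-singular vector. -/
noncomputable def refl (Q : QuadraticForm F V) (w : V) (hw : Q w ≠ 0) : Q.IsometryEquiv Q :=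
  { Module.reflection (reflFun_self Q w hw) with
    map_app' := by
      intro y
      show Q (Module.reflection (reflFun_self Q w hw) y) = Q y
      rw [Module.reflection_apply, map_sub_smul, reflFun_apply]
      field_simp
      ring }

theorem refl_apply (Q : QuadraticForm F V) (w : V) (hw : Q w ≠ 0) (y : V) :
    refl Q w hw y = y - ((Q w)⁻¹ * polar Q w y) • w := by
  show Module.reflection (reflFun_self Q w hw) y = _
  rw [Module.reflection_apply, reflFun_apply]

theorem polar_isometry (Q : QuadraticForm F V) (φ : Q.IsometryEquiv Q) (x y : V) :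
    polar Q (φ x) (φ y) = polar Q x y := by
  unfold polar
  rw [← map_add, φ.map_app, φ.map_app, φ.map_app]

theorem map_sub_eq (Q : QuadraticForm F V) (x y : V) : Q (x - y) = Q x + Q y - polar Q x y := by
  have := map_sub_smul Q x y 1
  simp only [one_smul, one_mul] at this
  rw [polar_comm] at this
  exact this

theorem exists_isometry (Q : QuadraticForm F V) (hQ : Q.Anisotropic) (n : ℕ) (f f' : Fin n → V)
    (hq : ∀ i, Q (f i) = Q (f' i)) (hp : ∀ i j, polar Q (f i) (f j) = polar Q (f' i) (f' j)) :
    ∀ k ≤ n, ∃ φ : Q.IsometryEquiv Q, ∀ i : Fin n, i.val < k → φ (f i) = f' i := by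
  intro k
  induction k with
  | zero =>
    intro _
    exact ⟨QuadraticMap.IsometryEquiv.refl Q, fun i hi => absurd hi (Nat.not_lt_zero _)⟩
  | succ k ih =>
    intro hk
    obtain ⟨φ, hφ⟩ := ih (by omega)
    set i₀ : Fin n := ⟨k, by omega⟩ with hi₀
    set g := φ (f i₀) with hg
    by_cases hgf : g = f' i₀
    · refine ⟨φ, fun i hi => ?_⟩
      rcases Nat.lt_succ_iff_lt_or_eq.mp hi with h | h
      · exact hφ i h
      · have : i = i₀ := Fin.ext h
        rw [this]; exact hgf
    · set w := g - f' i₀ with hw
      have hw0 : w ≠ 0 := sub_ne_zero.mpr hgf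
      have hQw : Q w ≠ 0 := fun h => hw0 (hQ w h)
      have hQg : Q g = Q (f' i₀) := by rw [hg, φ.map_app, hq]
      refine ⟨φ.trans (refl Q w hQw), fun i hi => ?_⟩
      show refl Q w hQw (φ (f i)) = f' i
      rcases Nat.lt_succ_iff_lt_or_eq.mp hi with h | h
      · rw [hφ i h, refl_apply]
        have h0 : polar Q w (f' i) = 0 := by
          rw [hw, polar_sub_left, ← hφ i h, hg, polar_isometry, hφ i h, hp, sub_self]
        rw [h0, mul_zero, zero_smul, sub_zero]
      · have : i = i₀ := Fin.ext h
        rw [this, ← hg, refl_apply]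
        have h1 : polar Q w g = Q w := by
          rw [hw, polar_sub_left, polar_self, map_sub_eq, hQg, polar_comm Q (f' i₀) g]
          simp only [nsmul_eq_mul, Nat.cast_ofNat]
          ring
        rw [h1, inv_mul_cancel₀ hQw, one_smul, hw]
        abel

/-- Let V be a finite-dimensional vector space over a finite field F carrying an anisotropic quadratic form Q (Q(v) = 0 only for v = 0). Then the group of all maps v ↦ φ(v) + c, with φ an isometry of Q and c ∈ V, acts on V as a binary permutation group: given n ≥ 2 and two n-tuples u, u' of vectors such that every pair of corresponding entries of u is carried to that of u' by such a map, one such map carries u to u'. -/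
theorem result {F V : Type*} [Field F] [Finite F] [AddCommGroup V] [Module F V] [Module.Finite F V]
    (Q : QuadraticForm F V) (hQ : Q.Anisotropic) (n : ℕ) (hn : 2 ≤ n) (u u' : Fin n → V)
    (h2 : ∀ i j : Fin n, i ≠ j → ∃ (φ : Q.IsometryEquiv Q) (c : V), φ (u i) + c = u' i ∧ φ (u j) + c = u' j) :
    ∃ (φ : Q.IsometryEquiv Q) (c : V), ∀ i, φ (u i) + c = u' i := by
  -- pairwise distances agree
  have hdist : ∀ i j : Fin n, Q (u i - u j) = Q (u' i - u' j) := by
    intro i j
    by_cases hij : i = j
    · rw [hij, sub_self, sub_self]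
    · obtain ⟨φ, c, h1, h2'⟩ := h2 i j hij
      rw [← h1, ← h2', add_sub_add_right_eq_sub, ← map_sub, φ.map_app]
  set z : Fin n := ⟨0, by omega⟩ with hz
  set f : Fin n → V := fun i => u i - u z with hf
  set f' : Fin n → V := fun i => u' i - u' z with hf'
  have hq : ∀ i, Q (f i) = Q (f' i) := fun i => hdist i z
  have hp : ∀ i j, polar Q (f i) (f j) = polar Q (f' i) (f' j) := by
    intro i j
    have e1 : polar Q (f i) (f j) = Q (f i) + Q (f j) - Q (f i - f j) := by
      rw [map_sub_eq Q (f i) (f j)]; ring
    have e2 : polar Q (f' i) (f' j) = Q (f' i) + Q (f' j) - Q (f' i - f' j) := by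
      rw [map_sub_eq Q (f' i) (f' j)]; ring
    rw [e1, e2, hq, hq]
    have e3 : f i - f j = u i - u j := by simp [hf]
    have e4 : f' i - f' j = u' i - u' j := by simp [hf']
    rw [e3, e4, hdist]
  obtain ⟨φ, hφ⟩ := exists_isometry Q hQ n f f' hq hp n le_rfl
  refine ⟨φ, u' z - φ (u z), fun i => ?_⟩
  have h := hφ i i.isLt
  simp only [hf, hf', map_sub] at h
  rw [← sub_eq_zero]
  rw [← sub_eq_zero] at h
  rw [← h]
  abel

end Cfsg.Agent.S5754
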