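import Cfsg.Statements.S5763
import Cfsg.Agent.Helper7.S8Sylow

set_option autoImplicit false
open Cfsg

namespace Cfsg.Agent.S5763

open Cfsg.Agent.Helper7.S8Sylow

/-- In the symmetric group on 8 letters any two Sylow 2-subgroups have non-trivial intersection: for a Sylow 2-subgroup H and every element x, H ∩ xHx⁻¹ ≠ 1. -/
theorem result (H : Sylow 2 (Equiv.Perm (Fin 8))) (x : Equiv.Perm (Fin 8)) :
    (H : Subgroup (Equiv.Perm (Fin 8))) ⊓ (H : Subgroup (Equiv.Perm (Fin 8))).map (MulAut.conj x).toMonoidHom ≠ ⊥ := by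
  have : Fact (Nat.Prime 2) := ⟨Nat.prime_two⟩
  obtain ⟨Q, hQ⟩ := isPGroup_P0.exists_le_sylow
  obtain ⟨g, hg⟩ := MulAction.exists_smul_eq (Equiv.Perm (Fin 8)) Q H
  have hH : ∀ k ∈ P0, g * k * g⁻¹ ∈ (H : Subgroup (Equiv.Perm (Fin 8))) := by
    intro k hk
    rw [← hg, Sylow.coe_subgroup_smul, Subgroup.mem_pointwise_smul_iff_inv_smul_mem, MulAut.smul_def,
      MulAut.conj_inv_apply]
    have : g⁻¹ * (g * k * g⁻¹) * g = k := by group
    rw [this]
    exact hQ hk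
  obtain ⟨T, hT, hT1, hTy⟩ := exists_conj_mem (g⁻¹ * x * g)
  intro hbot
  have hmem : g * T * g⁻¹ ∈ (H : Subgroup (Equiv.Perm (Fin 8))) ⊓
      (H : Subgroup (Equiv.Perm (Fin 8))).map (MulAut.conj x).toMonoidHom := by
    refine ⟨hH T hT, ?_⟩
    show g * T * g⁻¹ ∈ (H : Subgroup (Equiv.Perm (Fin 8))).map (MulAut.conj x).toMonoidHom
    rw [Subgroup.mem_map]
    refine ⟨g * ((g⁻¹ * x * g)⁻¹ * T * (g⁻¹ * x * g)) * g⁻¹, hH _ hTy, ?_⟩
    simp only [MulEquiv.coe_toMonoidHom, MulAut.conj_apply]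
    group
  rw [hbot, Subgroup.mem_bot] at hmem
  apply hT1
  have : T = g⁻¹ * (g * T * g⁻¹) * g := by group
  rw [this, hmem]
  group

end Cfsg.Agent.S5763
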