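import Cfsg.Statements.S5876
import Cfsg.Agent.Helper7.PrimSolB
import Cfsg.Agent.Helper7.PrimSolD

set_option autoImplicit false
open Cfsg

namespace Cfsg.Agent.S5876

/-- Fixed-point spaces in primitive soluble linear groups. Let F be a finite field and G a soluble subgroup of GL_n(F) that acts irreducibly on F^n and primitively (G preserves no decomposition of F^n into two or more independent subspaces of equal dimension). Then every non-identity element g of G has fixed-point space {v : g v = v} of dimension at most 3n/4. -/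
theorem result {F : Type*} [Field F] [Fintype F] {n : ℕ} (G : Subgroup (Matrix.GeneralLinearGroup (Fin n) F)) (hsol : IsSolvable G) (hirr : Cfsg.Geo.ActsIrreducibly (Cfsg.Geo.matrixSet G)) (hprim : ∀ (m t : ℕ) (D : Fin t → Submodule F (Fin n → F)), 2 ≤ t → Cfsg.Geo.IsMDecomposition m D → ¬ G ≤ Cfsg.Geo.decompositionStabilizer D) (g : Matrix.GeneralLinearGroup (Fin n) F) (hg : g ∈ G) (hg1 : g ≠ 1) :
    4 * Module.finrank F (Module.End.eigenspace (Matrix.toLin' (g : Matrix (Fin n) (Fin n) F)) 1) ≤ 3 * n := by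
  classical
  haveI : Group.IsSolvable ↥G := hsol
  haveI : Finite ↥G := inferInstance
  by_contra hcon
  push Not at hcon
  let d : ↥G → ℕ := fun x =>
    Module.finrank F (Module.End.eigenspace (Cfsg.Agent.Helper7.ExSp.act (x : Matrix.GeneralLinearGroup (Fin n) F)) 1)
  have hcomm : ∀ a x : ↥G, 2 * d a ≤ n + d (Cfsg.Agent.Helper7.PrimSol.kap a x) := by
    intro a x
    have h1 := Cfsg.Agent.Helper7.ExSp.two_mul_le_add_inf
      (Module.End.eigenspace (Cfsg.Agent.Helper7.ExSp.act (a : Matrix.GeneralLinearGroup (Fin n) F)) 1)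
      ((Module.End.eigenspace (Cfsg.Agent.Helper7.ExSp.act (a : Matrix.GeneralLinearGroup (Fin n) F)) 1).map
        (Cfsg.Agent.Helper7.ExSp.act (x : Matrix.GeneralLinearGroup (Fin n) F)))
      (Cfsg.Agent.Helper7.ExSp.finrank_map_act _ _)
    have h2 := Submodule.finrank_mono (Cfsg.Agent.Helper7.ExSp.inf_map_le_fix
      (g := (a : Matrix.GeneralLinearGroup (Fin n) F)) (c := (1 : F)) one_ne_zero
      (x : Matrix.GeneralLinearGroup (Fin n) F))
    have h3 : ((Cfsg.Agent.Helper7.PrimSol.kap a x : ↥G) : Matrix.GeneralLinearGroup (Fin n) F) =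
        (a : Matrix.GeneralLinearGroup (Fin n) F)⁻¹ * x * a * (x : Matrix.GeneralLinearGroup (Fin n) F)⁻¹ := rfl
    change 2 * Module.finrank F (Module.End.eigenspace (Cfsg.Agent.Helper7.ExSp.act
      (a : Matrix.GeneralLinearGroup (Fin n) F)) 1) ≤ n + Module.finrank F (Module.End.eigenspace
      (Cfsg.Agent.Helper7.ExSp.act
      ((Cfsg.Agent.Helper7.PrimSol.kap a x : ↥G) : Matrix.GeneralLinearGroup (Fin n) F)) 1)
    rw [h3]
    omega
  have hab : ∀ A : Subgroup ↥G, A.Normal → (∀ a ∈ A, ∀ b ∈ A, a * b = b * a) → ∀ z ∈ A, z ≠ 1 → d z = 0 := by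
    intro A hA hAab z hz hz1
    have h1 := Cfsg.Agent.Helper7.PrimSol.fix_eq_bot_of_abelian_normal (A := A.map G.subtype) hirr hprim
      (by
        rintro u hu _ ⟨a, ha, rfl⟩
        exact ⟨⟨u, hu⟩ * a * ⟨u, hu⟩⁻¹, hA.conj_mem a ha ⟨u, hu⟩, rfl⟩)
      (by
        rintro _ ⟨a, ha, rfl⟩ _ ⟨b, hb, rfl⟩
        have := hAab a ha b hb
        rw [← map_mul, ← map_mul, this])
      (z := (z : Matrix.GeneralLinearGroup (Fin n) F)) ⟨z, hz, rfl⟩
      (by
        intro h
        apply hz1
        exact Subtype.ext h)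
    change Module.finrank F (Module.End.eigenspace (Cfsg.Agent.Helper7.ExSp.act
      (z : Matrix.GeneralLinearGroup (Fin n) F)) 1) = 0
    rw [h1, finrank_bot]
  have hmain := Cfsg.Agent.Helper7.PrimSol.abstract_main d n hcomm hab ⟨g, hg⟩ (by
    change 3 * n < 4 * Module.finrank F (Module.End.eigenspace (Matrix.toLin' (g : Matrix (Fin n) (Fin n) F)) 1)
    exact hcon)
  apply hg1
  exact congrArg Subtype.val hmain

end Cfsg.Agent.S5876
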