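import Cfsg.Statements.S5894
import Cfsg.Agent.Helper7.WreathMax

set_option autoImplicit false
open Cfsg

namespace Cfsg.Agent.S5894

open Equiv MulAction Cfsg.Agent.Helper7.WMax
open scoped Pointwise

/-- Transfer of coatoms along an injective homomorphism, inside its range. -/
theorem subgroupOf_map_range {G' G : Type*} [Group G'] [Group G] (φ : G' →* G)
    (hφ : Function.Injective φ) (H' : Subgroup G') :
    (H'.map φ).subgroupOf φ.range =
      H'.comap ((MonoidHom.ofInjective hφ).symm : φ.range →* G') := by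
  ext x
  rw [Subgroup.mem_subgroupOf, Subgroup.mem_map, Subgroup.mem_comap]
  constructor
  · rintro ⟨h, hh, hx⟩
    have : MonoidHom.ofInjective hφ h = x := Subtype.ext hx
    rw [← this]
    simpa using hh
  · intro hx
    refine ⟨_, hx, ?_⟩
    have := (MonoidHom.ofInjective hφ).apply_symm_apply x
    exact congrArg Subtype.val this

theorem isCoatom_subgroupOf_map_range {G' G : Type*} [Group G'] [Group G] (φ : G' →* G)
    (hφ : Function.Injective φ) (H' : Subgroup G') (hH' : IsCoatom H') :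
    IsCoatom ((H'.map φ).subgroupOf φ.range) := by
  rw [subgroupOf_map_range φ hφ]
  exact (Subgroup.isCoatom_comap _).2 hH'

section general

variable {Ω : Type*} [Fintype Ω] [DecidableEq Ω]

/-- Permutations preserving each fibre of `f`. -/
def fibStab (f : Ω → Fin 2) : Subgroup (Perm Ω) where
  carrier := {g : Perm Ω | ∀ x : Ω, f (g x) = f x}
  mul_mem' := by
    intro g h hg hh x
    rw [Perm.mul_apply, hg, hh]
  one_mem' := by
    intro x
    rfl
  inv_mem' := by
    intro g hg x
    have := hg (g⁻¹ x)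
    rw [← Perm.mul_apply, mul_inv_cancel, Perm.one_apply] at this
    exact this.symm

theorem mem_fibStab (f : Ω → Fin 2) (g : Perm Ω) : g ∈ fibStab f ↔ ∀ x : Ω, f (g x) = f x :=
  Iff.rfl

theorem fibStab_le (f : Ω → Fin 2) : fibStab f ≤ partStab f := by
  intro g hg x y
  rw [hg x, hg y]

theorem range_ofSubtype (z : Ω) :
    (Perm.ofSubtype : Perm {x : Ω // x ≠ z} →* Perm Ω).range = stabilizer (Perm Ω) z := by
  ext g
  rw [MonoidHom.mem_range, mem_stabilizer_iff]
  constructor
  · rintro ⟨g', rfl⟩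
    rw [Perm.smul_def]
    exact Perm.ofSubtype_apply_of_not_mem g' (by simp)
  · intro hg
    rw [Perm.smul_def] at hg
    have h₁ : ∀ x, (g x ≠ z) ↔ (x ≠ z) := by
      intro x
      rw [not_iff_not]
      constructor
      · intro h
        apply g.injective
        rw [h, hg]
      · intro h
        rw [h, hg]
    refine ⟨g.subtypePerm h₁, Perm.ofSubtype_subtypePerm h₁ ?_⟩
    intro x hx hxz
    apply hx
    rw [hxz, hg]

theorem general (m : ℕ) (hm : 2 ≤ m) (hΩ : Nat.card Ω = 2 * m) (f : Ω → Fin 2)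
    (hf : ∀ i : Fin 2, Nat.card {x : Ω // f x = i} = m) :
    ∃ M H K : Subgroup (Perm Ω), IsCoatom M ∧ M.index = 2 * m ∧ H ≤ M ∧
      IsCoatom (H.subgroupOf M) ∧ IsCoatom K ∧ H ≤ K ∧ ¬ IsCoatom (H.subgroupOf K) := by
  classical
  -- two points in the fibre over `0` and one in the fibre over `1`
  have hnt0 : Nontrivial {x : Ω // f x = (0 : Fin 2)} := by
    rw [← Finite.one_lt_card_iff_nontrivial, hf]
    omega
  obtain ⟨z, o, hzo⟩ := hnt0
  have hne1 : Nonempty {x : Ω // f x = (1 : Fin 2)} := by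
    rw [← Finite.card_pos_iff, hf]
    omega
  obtain ⟨y⟩ := hne1
  have hzo' : (o : Ω) ≠ z := fun h => hzo (Subtype.ext h.symm)
  have hyz : (y : Ω) ≠ z := by
    intro h
    have h1 := y.2
    rw [h, z.2] at h1
    exact zero_ne_one h1
  set φ : Perm {x : Ω // x ≠ (z : Ω)} →* Perm Ω := Perm.ofSubtype with hφdef
  have hφ : Function.Injective φ := Perm.ofSubtype_injective
  set A' : Set {x : Ω // x ≠ (z : Ω)} := {x | f x = 0} with hA'
  have hcardΩ' : Nat.card {x : Ω // x ≠ (z : Ω)} = 2 * m - 1 := by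
    rw [Nat.card_eq_fintype_card, Fintype.card_subtype_compl, Fintype.card_subtype_eq,
      ← Nat.card_eq_fintype_card, hΩ]
  have hH' : IsCoatom (stabilizer (Perm {x : Ω // x ≠ (z : Ω)}) A') := by
    apply Equiv.Perm.isCoatom_stabilizer
    · exact ⟨⟨o, hzo'⟩, o.2⟩
    · refine ⟨⟨y, hyz⟩, ?_⟩
      intro h
      have h1 : f y = 0 := h
      rw [y.2] at h1
      exact one_ne_zero h1
    · rw [hcardΩ']
      omega
  have hM : φ.range = stabilizer (Perm Ω) (z : Ω) := range_ofSubtype (z : Ω)
  have hpre : IsPretransitive (Perm Ω) Ω := inferInstance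
  -- elements of `H` preserve fibres
  have hHL : (stabilizer (Perm {x : Ω // x ≠ (z : Ω)}) A').map φ ≤ fibStab f := by
    rintro _ ⟨g', hg', rfl⟩
    rw [mem_fibStab]
    intro x
    by_cases hx : x = (z : Ω)
    · rw [hφdef, Perm.ofSubtype_apply_of_not_mem g' (by simpa using hx)]
    · rw [hφdef, Perm.ofSubtype_apply_of_mem g' hx]
      have hg'' : g' ∈ stabilizer (Perm {x : Ω // x ≠ (z : Ω)}) A' := hg'
      rw [mem_stabilizer_set] at hg''
      have h1 := hg'' ⟨x, hx⟩
      rw [Perm.smul_def] at h1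
      have h2 : f (g' ⟨x, hx⟩ : Ω) = 0 ↔ f x = 0 := h1
      by_cases h0 : f x = 0
      · rw [h0]
        exact h2.2 h0
      · have h3 : f (g' ⟨x, hx⟩ : Ω) ≠ 0 := fun h => h0 (h2.1 h)
        have e : ∀ a : Fin 2, a ≠ 0 → a = 1 := by decide
        rw [e _ h0, e _ h3]
  refine ⟨φ.range, (stabilizer (Perm {x : Ω // x ≠ (z : Ω)}) A').map φ, partStab f, ?_, ?_,
    Subgroup.map_le_range _ _, isCoatom_subgroupOf_map_range φ hφ _ hH',
    isCoatom_partStab hm le_rfl f hf, hHL.trans (fibStab_le f), ?_⟩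
  · rw [hM]
    have := Equiv.Perm.isCoatom_stabilizer (α := Ω) (s := {(z : Ω)}) ⟨z, rfl⟩ ⟨o, hzo'⟩ (by
      rw [Set.ncard_singleton, hΩ]
      omega)
    rwa [stabilizer_singleton] at this
  · rw [hM, index_stabilizer_of_transitive, hΩ]
  · intro hco
    have hlt : ((stabilizer (Perm {x : Ω // x ≠ (z : Ω)}) A').map φ).subgroupOf (partStab f) <
        (fibStab f).subgroupOf (partStab f) := by
      rw [SetLike.lt_iff_le_and_exists]
      refine ⟨fun x hx => hHL hx, ?_⟩
      have hsw : swap (z : Ω) (o : Ω) ∈ fibStab f := by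
        rw [mem_fibStab]
        intro x
        by_cases hxz : x = z
        · rw [hxz, swap_apply_left, z.2, o.2]
        · by_cases hxo : x = o
          · rw [hxo, swap_apply_right, z.2, o.2]
          · rw [swap_apply_of_ne_of_ne hxz hxo]
      refine ⟨⟨_, fibStab_le f hsw⟩, hsw, ?_⟩
      intro hmem
      have h1 : swap (z : Ω) (o : Ω) ∈ φ.range := Subgroup.map_le_range _ _ hmem
      rw [hM, mem_stabilizer_iff, Perm.smul_def, swap_apply_left] at h1
      exact hzo' h1
    have htop := hco.2 _ hlt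
    rw [Subgroup.subgroupOf_eq_top] at htop
    have hρ := htop (lift_mem f hf (swap 0 1))
    rw [mem_fibStab] at hρ
    have h1 := hρ z
    rw [f_lift f hf, z.2, swap_apply_left] at h1
    exact one_ne_zero h1

end general

theorem result (m : ℕ) (hm : 2 ≤ m) :
    ∃ M H K : Subgroup (Equiv.Perm (Fin (2 * m))), IsCoatom M ∧ M.index = 2 * m ∧ H ≤ M ∧ IsCoatom (H.subgroupOf M) ∧
      IsCoatom K ∧ H ≤ K ∧ ¬ IsCoatom (H.subgroupOf K) := by
  have hm0 : NeZero m := ⟨by omega⟩
  refine general m hm (by simp) (fun x => (finProdFinEquiv.symm x).1) ?_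
  intro i
  have e : {x : Fin (2 * m) // (finProdFinEquiv.symm x).1 = i} ≃ Fin m :=
    { toFun := fun x => (finProdFinEquiv.symm x.1).2
      invFun := fun j => ⟨finProdFinEquiv (i, j), by simp⟩
      left_inv := by
        rintro ⟨x, hx⟩
        apply Subtype.ext
        simp only
        rw [← hx]
        exact finProdFinEquiv.apply_symm_apply x
      right_inv := by
        intro j
        simp }
  rw [Nat.card_congr e]
  simp

end Cfsg.Agent.S5894
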