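import Mathlib
import Cfsg.Statements.S5895
import Cfsg.Agent.S0772

set_option autoImplicit false
open Cfsg

namespace Cfsg.Agent.S5895

open Matrix Cfsg.Agent.S0773

/-- The affine group of `𝔽_p^d`, as pairs (translation part, linear part). -/
@[ext]
structure Aff (p d : ℕ) where
  /-- the translation part -/
  v : Fin d → ZMod p
  /-- the linear part -/
  a : Matrix.GeneralLinearGroup (Fin d) (ZMod p)

variable {p d : ℕ}

instance : Mul (Aff p d) := ⟨fun x y => ⟨x.v + (x.a : Matrix (Fin d) (Fin d) (ZMod p)) *ᵥ y.v, x.a * y.a⟩⟩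
instance : One (Aff p d) := ⟨⟨0, 1⟩⟩
instance : Inv (Aff p d) :=
  ⟨fun x => ⟨-(((x.a⁻¹ : Matrix.GeneralLinearGroup (Fin d) (ZMod p)) : Matrix (Fin d) (Fin d) (ZMod p)) *ᵥ x.v), x.a⁻¹⟩⟩

theorem mul_v (x y : Aff p d) :
    (x * y).v = x.v + (x.a : Matrix (Fin d) (Fin d) (ZMod p)) *ᵥ y.v := rfl
theorem mul_a (x y : Aff p d) : (x * y).a = x.a * y.a := rfl
theorem one_v : (1 : Aff p d).v = 0 := rfl
theorem one_a : (1 : Aff p d).a = 1 := rfl
theorem inv_v (x : Aff p d) :
    (x⁻¹).v = -(((x.a⁻¹ : Matrix.GeneralLinearGroup (Fin d) (ZMod p)) : Matrix (Fin d) (Fin d) (ZMod p)) *ᵥ x.v) := rfl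
theorem inv_a (x : Aff p d) : (x⁻¹).a = x.a⁻¹ := rfl

instance : Group (Aff p d) where
  mul_assoc x y z := by
    ext1
    · simp only [mul_v, mul_a, Units.val_mul, mulVec_add, mulVec_mulVec, add_assoc]
    · simp only [mul_a, mul_assoc]
  one_mul x := by
    ext1
    · simp only [mul_v, one_v, one_a, Units.val_one, one_mulVec, zero_add]
    · simp only [mul_a, one_a, one_mul]
  mul_one x := by
    ext1
    · simp only [mul_v, one_v, mulVec_zero, add_zero]
    · simp only [mul_a, one_a, mul_one]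
  inv_mul_cancel x := by
    ext1
    · simp only [mul_v, inv_v, inv_a, one_v, neg_add_cancel]
    · simp only [mul_a, inv_a, one_a, inv_mul_cancel]

/-- The pairs as a product. -/
def prodEquiv (p d : ℕ) : Aff p d ≃ (Fin d → ZMod p) × Matrix.GeneralLinearGroup (Fin d) (ZMod p) where
  toFun x := (x.v, x.a)
  invFun y := ⟨y.1, y.2⟩
  left_inv _ := rfl
  right_inv _ := rfl

/-- The linear part. -/
def proj (p d : ℕ) : Aff p d →* Matrix.GeneralLinearGroup (Fin d) (ZMod p) where
  toFun x := x.a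
  map_one' := rfl
  map_mul' _ _ := rfl

/-- The linear maps inside the affine group. -/
def incl (p d : ℕ) : Matrix.GeneralLinearGroup (Fin d) (ZMod p) →* Aff p d where
  toFun A := ⟨0, A⟩
  map_one' := rfl
  map_mul' A B := by
    ext1
    · simp only [mul_v, mulVec_zero, add_zero]
    · rfl

theorem incl_v (A : Matrix.GeneralLinearGroup (Fin d) (ZMod p)) : (incl p d A).v = 0 := rfl
theorem incl_a (A : Matrix.GeneralLinearGroup (Fin d) (ZMod p)) : (incl p d A).a = A := rfl
theorem proj_apply (x : Aff p d) : proj p d x = x.a := rfl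

theorem incl_injective : Function.Injective (incl p d) := by
  intro A B h
  exact congrArg Aff.a h

theorem proj_surjective : Function.Surjective (proj p d) := fun A => ⟨incl p d A, rfl⟩

/-- The translations. -/
def tr (w : Fin d → ZMod p) : Aff p d := ⟨w, 1⟩

theorem tr_v (w : Fin d → ZMod p) : (tr w).v = w := rfl
theorem tr_a (w : Fin d → ZMod p) : (tr w).a = 1 := rfl

theorem tr_add (u w : Fin d → ZMod p) : tr (u + w) = tr u * tr w := by
  ext1
  · simp only [mul_v, tr_v, tr_a, Units.val_one, one_mulVec]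
  · simp only [mul_a, tr_a, mul_one]

theorem tr_zero : tr (0 : Fin d → ZMod p) = 1 := rfl

theorem tr_neg (u : Fin d → ZMod p) : tr (-u) = (tr u)⁻¹ := by
  ext1
  · simp only [inv_v, tr_v, tr_a, inv_one, Units.val_one, one_mulVec]
  · simp only [inv_a, tr_a, inv_one]

theorem tr_nsmul (n : ℕ) (u : Fin d → ZMod p) : tr (n • u) = tr u ^ n := by
  induction n with
  | zero => rw [zero_smul, pow_zero, tr_zero]
  | succ n ih => rw [succ_nsmul, tr_add, ih, pow_succ]

theorem conj_tr (B : Matrix.GeneralLinearGroup (Fin d) (ZMod p)) (u : Fin d → ZMod p) :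
    incl p d B * tr u * (incl p d B)⁻¹ = tr ((B : Matrix (Fin d) (Fin d) (ZMod p)) *ᵥ u) := by
  ext1
  · simp only [mul_v, mul_a, inv_v, incl_v, incl_a, tr_v, tr_a, mulVec_zero, neg_zero, zero_add,
      add_zero]
  · simp only [mul_a, inv_a, incl_a, tr_a, mul_one, mul_inv_cancel]

theorem eq_tr_mul_incl (x : Aff p d) : x = tr x.v * incl p d x.a := by
  ext1
  · simp only [mul_v, tr_v, tr_a, incl_v, mulVec_zero, add_zero]
  · simp only [mul_a, tr_a, incl_a, one_mul]

theorem card_Aff [NeZero p] : Nat.card (Aff p d) =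
    p ^ d * Nat.card (Matrix.GeneralLinearGroup (Fin d) (ZMod p)) := by
  rw [Nat.card_congr (prodEquiv p d), Nat.card_prod, Nat.card_fun, Nat.card_zmod, Nat.card_fin]

instance [NeZero p] : Finite (Aff p d) := Finite.of_equiv _ (prodEquiv p d).symm

theorem index_range [NeZero p] : (incl p d).range.index = p ^ d := by
  have h1 := Subgroup.card_mul_index (incl p d).range
  have h2 : Nat.card (incl p d).range = Nat.card (Matrix.GeneralLinearGroup (Fin d) (ZMod p)) :=
    Nat.card_congr (MonoidHom.ofInjective incl_injective).toEquiv.symm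
  rw [h2, card_Aff, mul_comm] at h1
  exact Nat.eq_of_mul_eq_mul_right Nat.card_pos h1

theorem P_zero_eq_top [Fact p.Prime] : P d (ZMod p) 0 = ⊤ := by
  rw [eq_top_iff]
  intro g _
  rw [mem_P_iff (Nat.zero_le d)]
  intro i j _ hj
  exact absurd hj (Nat.not_lt_zero _)

theorem isCoatom_range [Fact p.Prime] (hd : 2 ≤ d) : IsCoatom (incl p d).range := by
  have hd0 : 0 < d := by omega
  refine ⟨?_, ?_⟩
  · intro htop
    have hmem : tr (Pi.single (⟨0, hd0⟩ : Fin d) (1 : ZMod p)) ∈ (incl p d).range := by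
      rw [htop]; exact Subgroup.mem_top _
    obtain ⟨A, hA⟩ := hmem
    have h1 := congrFun (congrArg Aff.v hA) ⟨0, hd0⟩
    rw [incl_v, tr_v, Pi.single_eq_same, Pi.zero_apply] at h1
    exact zero_ne_one h1
  · intro X hX
    obtain ⟨x, hxX, hxM⟩ := SetLike.exists_of_lt hX
    let T : Submodule (ZMod p) (Fin d → ZMod p) :=
      { carrier := {u | tr u ∈ X}
        add_mem' := by
          intro u w hu hw
          change tr (u + w) ∈ X
          rw [tr_add]
          exact X.mul_mem hu hw
        zero_mem' := X.one_mem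
        smul_mem' := by
          intro c u hu
          change tr (c • u) ∈ X
          have hc : c • u = c.val • u := by
            rw [← Nat.cast_smul_eq_nsmul (ZMod p), ZMod.natCast_zmod_val]
          rw [hc, tr_nsmul]
          exact X.pow_mem hu _ }
    have hTmem : ∀ u, u ∈ T ↔ tr u ∈ X := fun _ => Iff.rfl
    have hinv : ∀ h ∈ P d (ZMod p) 0, ∀ u ∈ T,
        (h : Matrix (Fin d) (Fin d) (ZMod p)) *ᵥ u ∈ T := by
      intro h _ u hu
      rw [hTmem, ← conj_tr]
      have hh : incl p d h ∈ X := hX.le ⟨h, rfl⟩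
      exact X.mul_mem (X.mul_mem hh hu) (X.inv_mem hh)
    have hxv : x.v ∈ T := by
      rw [hTmem]
      have h1 : tr x.v = x * (incl p d x.a)⁻¹ :=
        eq_mul_inv_iff_mul_eq.2 (eq_tr_mul_incl x).symm
      rw [h1]
      exact X.mul_mem hxX (X.inv_mem (hX.le ⟨x.a, rfl⟩))
    have hxv0 : x.v ≠ 0 := by
      intro h0
      apply hxM
      refine ⟨x.a, ?_⟩
      ext1
      · rw [incl_v, h0]
      · rfl
    have hT : T = ⊤ := by
      rcases invariant_trichotomy (Nat.zero_le d) T hinv with h | h | h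
      · exfalso
        rw [h] at hxv
        exact hxv0 ((Submodule.mem_bot _).1 hxv)
      · exfalso
        rw [h] at hxv
        apply hxv0
        funext i
        exact hxv i (Nat.zero_le _)
      · exact h
    rw [eq_top_iff]
    intro y _
    rw [eq_tr_mul_incl y]
    refine X.mul_mem ?_ (hX.le ⟨y.a, rfl⟩)
    rw [← hTmem, hT]
    exact Submodule.mem_top

/-- The stabilizer of the first coordinate line in the general linear group. -/
abbrev HQ (p d : ℕ) [Fact p.Prime] : Subgroup (Matrix.GeneralLinearGroup (Fin d) (ZMod p)) :=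
  P d (ZMod p) 1

theorem mem_HQ [Fact p.Prime] (g : Matrix.GeneralLinearGroup (Fin d) (ZMod p)) :
    g ∈ HQ p d ↔ ∀ u, u ∈ W d (ZMod p) 1 ↔ (g : Matrix (Fin d) (Fin d) (ZMod p)) *ᵥ u ∈ W d (ZMod p) 1 :=
  Iff.rfl

theorem subgroupOf_map_range [Fact p.Prime] :
    ((HQ p d).map (incl p d)).subgroupOf (incl p d).range =
      (HQ p d).comap ((MonoidHom.ofInjective (incl_injective (p := p) (d := d))).symm :
        (incl p d).range →* Matrix.GeneralLinearGroup (Fin d) (ZMod p)) := by
  ext x
  rw [Subgroup.mem_subgroupOf, Subgroup.mem_map, Subgroup.mem_comap]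
  constructor
  · rintro ⟨h, hh, hx⟩
    have : MonoidHom.ofInjective (incl_injective (p := p) (d := d)) h = x := Subtype.ext hx
    rw [← this]
    simpa using hh
  · intro hx
    refine ⟨_, hx, ?_⟩
    have := (MonoidHom.ofInjective (incl_injective (p := p) (d := d))).apply_symm_apply x
    exact congrArg Subtype.val this

/-- The subgroup `W ⋊ H` in between. -/
def L (p d : ℕ) [Fact p.Prime] : Subgroup (Aff p d) where
  carrier := {x | x.a ∈ HQ p d ∧ x.v ∈ W d (ZMod p) 1}
  one_mem' := ⟨(HQ p d).one_mem, (Wsub d (ZMod p) 1).zero_mem⟩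
  mul_mem' := by
    rintro x y ⟨hxa, hxv⟩ ⟨hya, hyv⟩
    refine ⟨(HQ p d).mul_mem hxa hya, ?_⟩
    rw [mul_v]
    exact (Wsub d (ZMod p) 1).add_mem hxv (((mem_HQ x.a).1 hxa _).1 hyv)
  inv_mem' := by
    rintro x ⟨hxa, hxv⟩
    refine ⟨(HQ p d).inv_mem hxa, ?_⟩
    rw [inv_v]
    exact (Wsub d (ZMod p) 1).neg_mem (((mem_HQ _).1 ((HQ p d).inv_mem hxa) _).1 hxv)

theorem mem_L [Fact p.Prime] (x : Aff p d) :
    x ∈ L p d ↔ x.a ∈ HQ p d ∧ x.v ∈ W d (ZMod p) 1 := Iff.rfl

end Cfsg.Agent.S5895

namespace Cfsg.Agent.S5895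

/-- For every prime p and every d ≥ 2 there is a finite group G with a maximal subgroup M of index p^d and a maximal subgroup H of M that is not second maximal in G: some maximal subgroup K of G contains H without H being maximal in K. (One may take G the affine group V ⋊ GL(V) of V = 𝔽_p^d, M = GL(V), H the stabiliser in M of a line W of V, and K = V ⋊ H, with H < W ⋊ H < K.) So the prime-index hypothesis in the second-maximality criterion cannot be relaxed to prime-power index. -/
theorem result (p d : ℕ) (hp : p.Prime)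
    (hd : 2 ≤ d) :
    ∃ (G : Type) (_ : Group G) (_ : Finite G) (M H K : Subgroup G), IsCoatom M ∧ M.index = p ^ d ∧ H ≤ M ∧
      IsCoatom (H.subgroupOf M) ∧ IsCoatom K ∧ H ≤ K ∧ ¬ IsCoatom (H.subgroupOf K) := by
  have : Fact p.Prime := ⟨hp⟩
  have : NeZero p := ⟨hp.ne_zero⟩
  have hd0 : 0 < d := by omega
  have hHQ : IsCoatom (HQ p d) := Cfsg.Agent.S0772.result (F := ZMod p) d 1 Nat.one_pos (by omega)
  refine ⟨Aff p d, inferInstance, inferInstance, (incl p d).range, (HQ p d).map (incl p d),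
    (HQ p d).comap (proj p d), isCoatom_range hd, index_range, Subgroup.map_le_range _ _, ?_,
    Subgroup.isCoatom_comap_of_surjective proj_surjective hHQ, ?_, ?_⟩
  · rw [subgroupOf_map_range]
    exact (Subgroup.isCoatom_comap _).2 hHQ
  · rintro _ ⟨h, hh, rfl⟩
    exact hh
  · intro hco
    have hHL : (HQ p d).map (incl p d) ≤ L p d := by
      rintro _ ⟨h, hh, rfl⟩
      exact ⟨hh, (Cfsg.Agent.S0773.Wsub d (ZMod p) 1).zero_mem⟩
    have hLK : L p d ≤ (HQ p d).comap (proj p d) := fun x hx => hx.1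
    have hlt : ((HQ p d).map (incl p d)).subgroupOf ((HQ p d).comap (proj p d)) <
        (L p d).subgroupOf ((HQ p d).comap (proj p d)) := by
      rw [SetLike.lt_iff_le_and_exists]
      refine ⟨fun x hx => hHL hx, ?_⟩
      have hmemL : tr (Pi.single (⟨0, hd0⟩ : Fin d) (1 : ZMod p)) ∈ L p d := by
        refine ⟨(HQ p d).one_mem, ?_⟩
        intro i hi
        rw [tr_v, Pi.single_apply, if_neg]
        intro hi0
        rw [hi0] at hi
        simp at hi
      refine ⟨⟨_, hLK hmemL⟩, hmemL, ?_⟩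
      rintro ⟨h, -, hh⟩
      have h1 := congrFun (congrArg Aff.v hh) ⟨0, hd0⟩
      rw [incl_v, Subgroup.subtype_apply, tr_v, Pi.single_eq_same, Pi.zero_apply] at h1
      exact zero_ne_one h1
    have htop := hco.2 _ hlt
    rw [Subgroup.subgroupOf_eq_top] at htop
    have hmemK : tr (Pi.single (⟨1, by omega⟩ : Fin d) (1 : ZMod p)) ∈ (HQ p d).comap (proj p d) :=
      (HQ p d).one_mem
    have := (htop hmemK).2 ⟨1, by omega⟩ le_rfl
    rw [tr_v, Pi.single_eq_same] at this
    exact one_ne_zero this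

end Cfsg.Agent.S5895
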