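import Mathlib
import Cfsg.Statements.S5902

set_option autoImplicit false
open Cfsg

namespace Cfsg.Agent.S5902

/-- Complements transfer along conjugation. -/
theorem exists_compl_of_conj {G : Type*} [Group G] (H : Subgroup G) (b : G)
    (h : ∃ C : Subgroup G, H.map (MulAut.conj b).toMonoidHom ⊔ C = ⊤ ∧
      H.map (MulAut.conj b).toMonoidHom ⊓ C = ⊥) :
    ∃ C : Subgroup G, H ⊔ C = ⊤ ∧ H ⊓ C = ⊥ := by
  obtain ⟨C', h1, h2⟩ := h
  have hinj : Function.Injective (MulAut.conj b).toMonoidHom := (MulAut.conj b).injective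
  have hsurj : Function.Surjective (MulAut.conj b).toMonoidHom := (MulAut.conj b).surjective
  have hC : (C'.comap (MulAut.conj b).toMonoidHom).map (MulAut.conj b).toMonoidHom = C' :=
    Subgroup.map_comap_eq_self_of_surjective hsurj C'
  refine ⟨C'.comap (MulAut.conj b).toMonoidHom, ?_, ?_⟩
  · apply Subgroup.map_injective hinj
    rw [Subgroup.map_sup, hC, h1, ← MonoidHom.range_eq_map, MonoidHom.range_eq_top.mpr hsurj]
  · apply Subgroup.map_injective hinj
    rw [Subgroup.map_inf _ _ _ hinj, hC, h2, Subgroup.map_bot]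

/-- If `X` has a complemented subgroup lattice and lies in the unique maximal subgroup `M`, then
every subgroup not contained in `M` has a complement. -/
theorem exists_compl_of_not_le {G : Type*} [Group G] [Finite G] (X M : Subgroup G)
    (hK : ComplementedLattice (Subgroup X))
    (huniq : ∀ M' : Subgroup G, IsCoatom M' → X ≤ M' → M' = M) (H : Subgroup G) (hH : ¬ H ≤ M) :
    ∃ C : Subgroup G, H ⊔ C = ⊤ ∧ H ⊓ C = ⊥ := by
  obtain ⟨C₀, hC₀⟩ := hK.exists_isCompl (H.subgroupOf X)
  refine ⟨C₀.map X.subtype, ?_, ?_⟩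
  · have hX : X ≤ H ⊔ C₀.map X.subtype := by
      have h1 : ((H.subgroupOf X) ⊔ C₀).map X.subtype = X := by
        rw [hC₀.sup_eq_top, ← MonoidHom.range_eq_map, Subgroup.range_subtype]
      rw [Subgroup.map_sup, Subgroup.subgroupOf_map_subtype] at h1
      calc X = H ⊓ X ⊔ C₀.map X.subtype := h1.symm
        _ ≤ H ⊔ C₀.map X.subtype := sup_le_sup_right inf_le_left _
    rcases eq_top_or_exists_le_coatom (H ⊔ C₀.map X.subtype) with h | ⟨M', hM', hle⟩
    · exact h
    · exfalso
      have := huniq M' hM' (hX.trans hle)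
      rw [this] at hle
      exact hH (le_sup_left.trans hle)
  · rw [eq_bot_iff]
    intro x hx
    obtain ⟨hxH, c, hc, rfl⟩ := hx
    have : c ∈ H.subgroupOf X ⊓ C₀ := ⟨Subgroup.mem_subgroupOf.mpr hxH, hc⟩
    rw [hC₀.inf_eq_bot, Subgroup.mem_bot] at this
    rw [this]
    exact Subgroup.one_mem _

/-- Let G be a finite group, X a subgroup whose own subgroup lattice is complemented, and suppose X lies in exactly one maximal subgroup M of G. Then every subgroup H of G not contained in the normal core of M has a complement in the subgroup lattice of G (some C with H ⊔ C = G and H ⊓ C = 1); in particular the subgroup lattice of G modulo the normal core of M is complemented. -/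
theorem result {G : Type*} [Group G] [Finite G] (X M : Subgroup G)
    (hK : ComplementedLattice (Subgroup X))
    (hM : IsCoatom M) (hXM : X ≤ M) (huniq : ∀ M' : Subgroup G, IsCoatom M' → X ≤ M' → M' = M) :
    (∀ H : Subgroup G, ¬ H ≤ M.normalCore → ∃ C : Subgroup G, H ⊔ C = ⊤ ∧ H ⊓ C = ⊥) ∧
    ComplementedLattice (Subgroup (G ⧸ M.normalCore)) := by
  have key : ∀ H : Subgroup G, ¬ H ≤ M.normalCore → ∃ C : Subgroup G, H ⊔ C = ⊤ ∧ H ⊓ C = ⊥ := by
    intro H hH
    rw [SetLike.not_le_iff_exists] at hH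
    obtain ⟨h, hhH, hhM⟩ := hH
    have : ∃ b : G, b * h * b⁻¹ ∉ M := by
      by_contra hcon
      push Not at hcon
      exact hhM hcon
    obtain ⟨b, hb⟩ := this
    apply exists_compl_of_conj H b
    apply exists_compl_of_not_le X M hK huniq
    intro hle
    apply hb
    apply hle
    exact ⟨h, hhH, rfl⟩
  refine ⟨key, ⟨fun Hbar => ?_⟩⟩
  by_cases hbot : Hbar = ⊥
  · rw [hbot]
    exact ⟨⊤, isCompl_bot_top⟩
  · have hsurj : Function.Surjective (QuotientGroup.mk' M.normalCore) :=
      QuotientGroup.mk'_surjective _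
    have hnot : ¬ Hbar.comap (QuotientGroup.mk' M.normalCore) ≤ M.normalCore := by
      intro hle
      apply hbot
      rw [eq_bot_iff, ← Subgroup.map_comap_eq_self_of_surjective hsurj Hbar]
      intro x hx
      obtain ⟨y, hy, rfl⟩ := hx
      rw [Subgroup.mem_bot]
      exact (QuotientGroup.eq_one_iff y).mpr (hle hy)
    obtain ⟨C, h1, h2⟩ := key _ hnot
    refine ⟨C.map (QuotientGroup.mk' M.normalCore), ?_⟩
    rw [isCompl_iff]
    constructor
    · rw [disjoint_iff, eq_bot_iff]
      intro x hx
      obtain ⟨hxH, c, hc, rfl⟩ := hx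
      have : c ∈ Hbar.comap (QuotientGroup.mk' M.normalCore) ⊓ C := ⟨hxH, hc⟩
      rw [h2, Subgroup.mem_bot] at this
      rw [this, map_one]
      exact Subgroup.one_mem _
    · rw [codisjoint_iff, ← Subgroup.map_comap_eq_self_of_surjective hsurj Hbar, ← Subgroup.map_sup, h1,
        ← MonoidHom.range_eq_map, MonoidHom.range_eq_top.mpr hsurj]

end Cfsg.Agent.S5902
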