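import Mathlib
import Cfsg.Statements.S5903
import Cfsg.Agent.S5902

set_option autoImplicit false
open Cfsg

namespace Cfsg.Agent.S5903

/-- A conjugate of `H` avoiding both `M` and `N`. -/
theorem exists_conj {G : Type*} [Group G] [Finite G] [IsSimpleGroup G] (M N H : Subgroup G)
    (hM : M ≠ ⊤) (hN : N ≠ ⊥) (hcen : ∀ n ∈ N, ∀ m ∈ M, m * n = n * m)
    (hH0 : H ≠ ⊥) (hH1 : H ≠ ⊤) :
    ∃ c : G, ¬ (∀ h ∈ H, c⁻¹ * h * c ∈ M) ∧ ¬ (∀ n ∈ N, c * n * c⁻¹ ∈ H) := by
  by_contra hcon
  push Not at hcon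
  -- `hcon : ∀ c, ¬ (∀ h ∈ H, c⁻¹ h c ∈ M) → ∀ n ∈ N, c n c⁻¹ ∈ H`
  obtain ⟨L, hL⟩ : ∃ L : Subgroup G, L = Subgroup.closure
      {x : G | ∃ c : G, ∃ n ∈ N, x = c * n * c⁻¹ ∧ ∀ n' ∈ N, c * n' * c⁻¹ ∈ H} := ⟨_, rfl⟩
  have hLH : L ≤ H := by
    rw [hL, Subgroup.closure_le]
    rintro x ⟨c, n, hn, rfl, hc⟩
    exact hc n hn
  -- the normal closure of `N` is everything
  have hNC : Subgroup.normalClosure (N : Set G) = ⊤ := by
    rcases (Subgroup.normalClosure_normal (s := (N : Set G))).eq_bot_or_eq_top with h | h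
    · exfalso
      apply hN
      rw [eq_bot_iff, ← h]
      exact Subgroup.le_normalClosure
    · exact h
  have hnorm : L.Normal := by
    rw [← Subgroup.normalizer_eq_top_iff, eq_top_iff, ← hNC, Subgroup.normalClosure,
      Subgroup.closure_le]
    intro y hy
    rw [Group.mem_conjugatesOfSet_iff] at hy
    obtain ⟨n, hn, hconj⟩ := hy
    rw [isConj_iff] at hconj
    obtain ⟨c, rfl⟩ := hconj
    by_cases hc : ∀ n' ∈ N, c * n' * c⁻¹ ∈ H
    · apply Subgroup.le_normalizer
      rw [hL]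
      exact Subgroup.subset_closure ⟨c, n, hn, rfl, hc⟩
    · have hHM : ∀ h ∈ H, c⁻¹ * h * c ∈ M := by
        by_contra hh
        push Not at hh
        exact hc (hcon c hh)
      -- `c n c⁻¹` centralizes `H`
      have hcomm : ∀ h ∈ H, c * n * c⁻¹ * h = h * (c * n * c⁻¹) := by
        intro h hh
        have := hcen n hn _ (hHM h hh)
        calc c * n * c⁻¹ * h = c * (n * (c⁻¹ * h * c)) * c⁻¹ := by group
          _ = c * ((c⁻¹ * h * c) * n) * c⁻¹ := by rw [this]
          _ = h * (c * n * c⁻¹) := by group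
      change c * n * c⁻¹ ∈ Subgroup.normalizer (L : Set G)
      rw [Subgroup.mem_normalizer_iff]
      intro l
      constructor
      · intro hl
        have := hcomm l (hLH hl)
        rw [this, mul_assoc, mul_inv_cancel, mul_one]
        exact hl
      · intro hl
        have h1 : (c * n * c⁻¹)⁻¹ * (c * n * c⁻¹ * l * (c * n * c⁻¹)⁻¹) * (c * n * c⁻¹) = l := by
          group
        have h2 := hcomm _ (hLH hl)
        rw [← h1, mul_assoc _ _ (c * n * c⁻¹), ← h2, ← mul_assoc, inv_mul_cancel, one_mul]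
        exact hl
  rcases hnorm.eq_bot_or_eq_top with h | h
  · -- then no conjugate of `N` lies in `H`, so `H` lies in every conjugate of `M`
    have hall : ∀ c : G, ∀ h ∈ H, c⁻¹ * h * c ∈ M := by
      intro c
      by_contra hh
      push Not at hh
      have hc := hcon c hh
      obtain ⟨n, hn⟩ := (Subgroup.ne_bot_iff_exists_ne_one (H := N)).mp hN
      have hmem : c * (n : G) * c⁻¹ ∈ L := by
        rw [hL]
        exact Subgroup.subset_closure ⟨c, n, n.2, rfl, hc⟩
      rw [h, Subgroup.mem_bot] at hmem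
      apply hn
      apply Subtype.ext
      have : (n : G) = c⁻¹ * (c * (n : G) * c⁻¹) * c := by group
      rw [this, hmem]
      simp
    have hcore : H ≤ M.normalCore := by
      intro h hh b
      have := hall b⁻¹ h hh
      rwa [inv_inv] at this
    rcases (Subgroup.normalCore_normal M).eq_bot_or_eq_top with h' | h'
    · rw [h'] at hcore
      exact hH0 (eq_bot_iff.mpr hcore)
    · apply hM
      rw [eq_top_iff, ← h']
      exact Subgroup.normalCore_le M
  · apply hH1
    rw [eq_top_iff, ← h]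
    exact hLH

/-- The complement, for a subgroup contained neither in `M` nor containing `N`. -/
theorem exists_compl {G : Type*} [Group G] [Finite G] (X M N : Subgroup G)
    (huniq : ∀ M' : Subgroup G, IsCoatom M' → X ≤ M' → M' = M)
    (hNX : N ≤ X) (hN : (Nat.card N).Prime)
    [(N.subgroupOf X).Normal] (hK : ComplementedLattice (Subgroup (X ⧸ N.subgroupOf X)))
    (H : Subgroup G) (hHM : ¬ H ≤ M) (hNH : ¬ N ≤ H) :
    ∃ C : Subgroup G, H ⊔ C = ⊤ ∧ H ⊓ C = ⊥ := by
  have hsurj : Function.Surjective (QuotientGroup.mk' (N.subgroupOf X)) :=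
    QuotientGroup.mk'_surjective _
  obtain ⟨Cbar, hCbar⟩ := hK.exists_isCompl
    ((H.subgroupOf X).map (QuotientGroup.mk' (N.subgroupOf X)))
  obtain ⟨C₀, hC₀⟩ : ∃ C₀ : Subgroup X, C₀ = Cbar.comap (QuotientGroup.mk' (N.subgroupOf X)) :=
    ⟨_, rfl⟩
  have hker : (QuotientGroup.mk' (N.subgroupOf X)).ker = N.subgroupOf X := QuotientGroup.ker_mk' _
  have hNC₀ : N.subgroupOf X ≤ C₀ := by
    rw [hC₀]
    exact hker.symm.le.trans (MonoidHom.ker_le_comap _ _)
  have htop : H.subgroupOf X ⊔ C₀ = ⊤ := by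
    have h1 : ((H.subgroupOf X).map (QuotientGroup.mk' (N.subgroupOf X))).comap
        (QuotientGroup.mk' (N.subgroupOf X)) ⊔ C₀ = ⊤ := by
      rw [hC₀, Subgroup.comap_sup_eq_of_le_range _
        (by rw [MonoidHom.range_eq_top.mpr hsurj]; exact le_top)
        (by rw [MonoidHom.range_eq_top.mpr hsurj]; exact le_top), hCbar.sup_eq_top, Subgroup.comap_top]
    rw [Subgroup.comap_map_eq, hker, sup_assoc, sup_eq_right.mpr hNC₀] at h1
    exact h1
  refine ⟨C₀.map X.subtype, ?_, ?_⟩
  · have hX : X ≤ H ⊔ C₀.map X.subtype := by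
      have h1 : ((H.subgroupOf X) ⊔ C₀).map X.subtype = X := by
        rw [htop, ← MonoidHom.range_eq_map, Subgroup.range_subtype]
      rw [Subgroup.map_sup, Subgroup.subgroupOf_map_subtype] at h1
      calc X = H ⊓ X ⊔ C₀.map X.subtype := h1.symm
        _ ≤ H ⊔ C₀.map X.subtype := sup_le_sup_right inf_le_left _
    rcases eq_top_or_exists_le_coatom (H ⊔ C₀.map X.subtype) with h | ⟨M', hM', hle⟩
    · exact h
    · exfalso
      have := huniq M' hM' (hX.trans hle)
      rw [this] at hle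
      exact hHM (le_sup_left.trans hle)
  · -- the intersection lies in `N`
    have hleN : H ⊓ C₀.map X.subtype ≤ N := by
      intro x hx
      obtain ⟨hxH, c, hc, rfl⟩ := hx
      have hc1 : QuotientGroup.mk' (N.subgroupOf X) c ∈
          (H.subgroupOf X).map (QuotientGroup.mk' (N.subgroupOf X)) ⊓ Cbar := by
        refine ⟨⟨c, Subgroup.mem_subgroupOf.mpr hxH, rfl⟩, ?_⟩
        rw [hC₀] at hc
        exact hc
      rw [hCbar.inf_eq_bot, Subgroup.mem_bot] at hc1
      have : c ∈ N.subgroupOf X := by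
        rw [← hker]
        exact hc1
      exact Subgroup.mem_subgroupOf.mp this
    have : Fact (Nat.card N).Prime := ⟨hN⟩
    rcases ((H ⊓ C₀.map X.subtype).subgroupOf N).eq_bot_or_eq_top_of_prime_card with h | h
    · rw [Subgroup.subgroupOf_eq_bot] at h
      exact h.eq_bot_of_le hleN
    · exfalso
      rw [Subgroup.subgroupOf_eq_top] at h
      exact hNH (h.trans inf_le_left)

/-- Let G be a finite simple group, X a subgroup lying in exactly one maximal subgroup M of G, and N a subgroup of prime order with N ≤ X that is central in M. If the subgroup lattice of X/N is complemented, then the subgroup lattice of G is complemented. -/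
theorem result {G : Type*} [Group G] [Finite G] [IsSimpleGroup G] (X M N : Subgroup G)
    (hM : IsCoatom M) (hXM : X ≤ M) (huniq : ∀ M' : Subgroup G, IsCoatom M' → X ≤ M' → M' = M)
    (hNX : N ≤ X) (hN : (Nat.card N).Prime) (hcen : ∀ n ∈ N, ∀ m ∈ M, m * n = n * m)
    [(N.subgroupOf X).Normal] (hK : ComplementedLattice (Subgroup (X ⧸ N.subgroupOf X))) :
    ComplementedLattice (Subgroup G) := by
  refine ⟨fun H => ?_⟩
  by_cases hH0 : H = ⊥
  · rw [hH0]; exact ⟨⊤, isCompl_bot_top⟩
  by_cases hH1 : H = ⊤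
  · rw [hH1]; exact ⟨⊥, isCompl_top_bot⟩
  have hN0 : N ≠ ⊥ := by
    intro h
    rw [h, Subgroup.card_bot] at hN
    exact Nat.not_prime_one hN
  obtain ⟨c, hc1, hc2⟩ := exists_conj M N H hM.1 hN0 hcen hH0 hH1
  have hex : ∃ C : Subgroup G, H ⊔ C = ⊤ ∧ H ⊓ C = ⊥ := by
    apply Cfsg.Agent.S5902.exists_compl_of_conj H c⁻¹
    apply exists_compl X M N huniq hNX hN hK
    · intro hle
      apply hc1
      intro h hh
      have : c⁻¹ * h * c⁻¹⁻¹ ∈ M := hle ⟨h, hh, rfl⟩
      rwa [inv_inv] at this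
    · intro hle
      apply hc2
      intro n hn
      obtain ⟨h, hh, hhn⟩ := hle hn
      have : h = c * n * c⁻¹ := by
        have : c⁻¹ * h * c⁻¹⁻¹ = n := hhn
        rw [← this]; group
      rw [← this]
      exact hh
  obtain ⟨C, h1, h2⟩ := hex
  exact ⟨C, isCompl_iff.mpr ⟨disjoint_iff.mpr h2, codisjoint_iff.mpr h1⟩⟩

end Cfsg.Agent.S5903
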