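import Mathlib
import Cfsg.Statements.S5904

set_option autoImplicit false
open scoped Pointwise
open Cfsg

namespace Cfsg.Agent.S5904

theorem mem_stab_pair_iff {G X : Type*} [Group G] [MulAction G X] {x y : X} (g : G) :
    g ∈ MulAction.stabilizer G ({x, y} : Set X) ↔
      (g • x = x ∧ g • y = y) ∨ (g • x = y ∧ g • y = x) := by
  rw [MulAction.mem_stabilizer_iff, ← Set.image_smul, Set.image_pair, Set.pair_eq_pair_iff]

/-- Let Ω be a finite set with more than two elements and O ⊆ Ω a subset with exactly as many elements as its complement. Then the setwise stabilizer of O in the symmetric group on Ω is not a maximal subgroup (it is properly contained in the stabilizer of the partition {O, Ω ∖ O}, which is proper). -/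
theorem result {Ω : Type*} [Fintype Ω] [DecidableEq Ω] (hΩ : 2 < Fintype.card Ω)
    (O : Set Ω) (hO : Nat.card O = Nat.card ↥Oᶜ) :
    ¬ IsCoatom (MulAction.stabilizer (Equiv.Perm Ω) O) := by
  classical
  intro hc
  -- cardinalities
  have hsum : Nat.card O + Nat.card ↥Oᶜ = Fintype.card Ω := by
    rw [← Nat.card_eq_fintype_card, ← Nat.card_sum]
    exact Nat.card_congr (Equiv.Set.sumCompl O)
  have hO2 : 2 ≤ Nat.card O := by omega
  have hOc2 : 2 ≤ Nat.card ↥Oᶜ := by omega
  -- two points of O, one point of the complement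
  obtain ⟨a, b, hab⟩ : ∃ a b : O, a ≠ b := by
    have : 1 < Nat.card O := by omega
    rw [Finite.one_lt_card_iff_nontrivial] at this
    exact exists_pair_ne O
  obtain ⟨c⟩ : Nonempty ↥Oᶜ := by
    have : 0 < Nat.card ↥Oᶜ := by omega
    exact (Nat.card_pos_iff.mp this).1
  have hne : O ≠ Oᶜ := by
    intro h
    have : (a : Ω) ∈ Oᶜ := by rw [← h]; exact a.2
    exact this a.2
  -- the stabiliser of the partition
  set M : Subgroup (Equiv.Perm Ω) := MulAction.stabilizer (Equiv.Perm Ω) ({O, Oᶜ} : Set (Set Ω)) with hM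
  have hle : MulAction.stabilizer (Equiv.Perm Ω) O ≤ M := by
    intro σ hσ
    rw [MulAction.mem_stabilizer_iff] at hσ
    rw [hM, mem_stab_pair_iff]
    left
    exact ⟨hσ, by rw [Set.smul_set_compl, hσ]⟩
  -- an element exchanging O and its complement
  obtain ⟨e⟩ : Nonempty (O ≃ ↥Oᶜ) := by
    have : Finite O := inferInstance
    exact ⟨(Finite.equivFinOfCardEq rfl).trans (Finite.equivFinOfCardEq hO.symm).symm⟩
  let τ : Equiv.Perm Ω :=
    (Equiv.Set.sumCompl O).symm.trans
      ((Equiv.sumComm _ _).trans ((Equiv.sumCongr e.symm e).trans (Equiv.Set.sumCompl O)))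
  have hτO : ∀ x : O, τ x = e x := by
    intro x
    simp [τ, Equiv.Set.sumCompl_symm_apply_of_mem x.2]
  have hτO' : τ • O = Oᶜ := by
    ext y
    rw [Set.mem_smul_set]
    constructor
    · rintro ⟨x, hx, rfl⟩
      rw [Equiv.Perm.smul_def, hτO ⟨x, hx⟩]
      exact (e ⟨x, hx⟩).2
    · intro hy
      refine ⟨e.symm ⟨y, hy⟩, (e.symm ⟨y, hy⟩).2, ?_⟩
      rw [Equiv.Perm.smul_def, hτO]
      simp
  have hτM : τ ∈ M := by
    rw [hM, mem_stab_pair_iff]
    right
    refine ⟨hτO', ?_⟩
    rw [Set.smul_set_compl, hτO', compl_compl]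
  have hτH : τ ∉ MulAction.stabilizer (Equiv.Perm Ω) O := by
    rw [MulAction.mem_stabilizer_iff, hτO']
    exact fun h => hne h.symm
  have hlt : MulAction.stabilizer (Equiv.Perm Ω) O < M :=
    lt_of_le_of_ne hle (fun h => hτH (h ▸ hτM))
  have hMtop := hc.2 M hlt
  -- a transposition outside M
  have hσ : Equiv.swap (a : Ω) (c : Ω) ∈ M := by rw [hMtop]; trivial
  rw [hM, mem_stab_pair_iff] at hσ
  have hcO : (c : Ω) ∉ O := c.2
  have hb1 : (b : Ω) ≠ a := fun h => hab (Subtype.ext h).symm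
  have hb2 : (b : Ω) ≠ c := fun h => hcO (h ▸ b.2)
  have h1 : (c : Ω) ∈ Equiv.swap (a : Ω) (c : Ω) • O := by
    rw [Set.mem_smul_set]
    exact ⟨a, a.2, by simp⟩
  have h2 : (b : Ω) ∈ Equiv.swap (a : Ω) (c : Ω) • O := by
    rw [Set.mem_smul_set]
    exact ⟨b, b.2, by rw [Equiv.Perm.smul_def, Equiv.swap_apply_of_ne_of_ne hb1 hb2]⟩
  rcases hσ with h | h
  · rw [h.1] at h1
    exact hcO h1
  · rw [h.1] at h2
    exact h2 b.2

end Cfsg.Agent.S5904
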