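import Cfsg.Statements.S5908
import Cfsg.Agent.S0827

set_option autoImplicit false
open Cfsg

namespace Cfsg.Agent.S5908

/-- The elements of the quaternion group of order eight whose square is trivial. -/
def Zs : Subgroup (QuaternionGroup 2) where
  carrier := {q | q ^ 2 = 1}
  one_mem' := by decide
  mul_mem' := by
    have : ∀ a b : QuaternionGroup 2, a ^ 2 = 1 → b ^ 2 = 1 → (a * b) ^ 2 = 1 := by decide
    exact fun {a b} ha hb => this a b ha hb
  inv_mem' := by
    have : ∀ a : QuaternionGroup 2, a ^ 2 = 1 → a⁻¹ ^ 2 = 1 := by decide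
    exact fun {a} ha => this a ha

theorem pow_four (q : QuaternionGroup 2) : q ^ 4 = 1 := by
  revert q
  decide

/-- A group with a normal subgroup whose quotient is the quaternion group of order eight does not
have a complemented lattice of subgroups. -/
theorem not_complemented {G : Type*} [Group G] (N : Subgroup G) [N.Normal]
    (e : G ⧸ N ≃* QuaternionGroup 2) : ¬ ComplementedLattice (Subgroup G) := by
  intro hc
  let π : G →* QuaternionGroup 2 := e.toMonoidHom.comp (QuotientGroup.mk' N)
  have hsurj : Function.Surjective π := by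
    intro q
    obtain ⟨g, hg⟩ := QuotientGroup.mk'_surjective N (e.symm q)
    refine ⟨g, ?_⟩
    show e ((QuotientGroup.mk' N) g) = q
    rw [hg, MulEquiv.apply_symm_apply]
  let H : Subgroup G := Zs.comap π
  obtain ⟨X, hX⟩ := hc.exists_isCompl H
  have hXbot : X = ⊥ := by
    rw [Subgroup.eq_bot_iff_forall]
    intro x hx
    have h4 : π x ^ 4 = 1 := pow_four _
    have hx2 : x ^ 2 ∈ H := by
      show π (x ^ 2) ^ 2 = 1
      rw [map_pow, ← pow_mul]
      exact h4
    have hx2' : x ^ 2 = 1 := by
      have : x ^ 2 ∈ H ⊓ X := ⟨hx2, X.pow_mem hx 2⟩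
      rw [hX.inf_eq_bot] at this
      exact (Subgroup.mem_bot).1 this
    have hxH : x ∈ H := by
      show π x ^ 2 = 1
      rw [← map_pow, hx2', map_one]
    have : x ∈ H ⊓ X := ⟨hxH, hx⟩
    rw [hX.inf_eq_bot] at this
    exact (Subgroup.mem_bot).1 this
  have htop := hX.sup_eq_top
  rw [hXbot, sup_bot_eq] at htop
  obtain ⟨g, hg⟩ := hsurj (QuaternionGroup.a 1)
  have hgH : g ∈ H := by rw [htop]; exact Subgroup.mem_top g
  have : π g ^ 2 = 1 := hgH
  rw [hg] at this
  revert this
  decide

/-- The subgroup lattice of PSU₃(2) (the solvable group of order 72, realised over the field with 4 elements) is not complemented: some subgroup H has no subgroup X with H ⊔ X = ⊤ and H ⊓ X = ⊥. -/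
theorem result {F : Type*} [Field F] [Fintype F] (hF : Fintype.card F = 4) :
    ¬ ComplementedLattice (Subgroup (Cfsg.PSU 3 F 2)) := by
  obtain ⟨N, hN, _, _, ⟨e⟩⟩ := Cfsg.Agent.S0827.result hF
  exact not_complemented N e

end Cfsg.Agent.S5908
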