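import Cfsg.Statements.S5910
import Cfsg.Agent.Helper7.S8Aff

set_option autoImplicit false
open Cfsg

namespace Cfsg.Agent.S5910

open Cfsg.Agent.Helper7.S8Aff

theorem exists_equiv {Ω : Type*} [Fintype Ω] (f : Ω → Fin 4)
    (hf : ∀ i : Fin 4, Nat.card {x : Ω // f x = i} = 2) :
    ∃ e : Ω ≃ Fin 8, ∀ x, (e x).val / 2 = (f x).val := by
  have ε : ∀ i : Fin 4, {x : Ω // f x = i} ≃ Fin 2 := fun i => Finite.equivFinOfCardEq (hf i)
  let e : Ω ≃ Fin 8 := ((Equiv.sigmaFiberEquiv f).symm.trans (Equiv.sigmaCongrRight ε)).trans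
    ((Equiv.sigmaEquivProd (Fin 4) (Fin 2)).trans finProdFinEquiv)
  refine ⟨e, fun x => ?_⟩
  show ((ε (f x) ⟨x, rfl⟩).val + 2 * (f x).val) / 2 = (f x).val
  have := (ε (f x) ⟨x, rfl⟩).isLt
  omega

/-- An affine even permutation not preserving the pairs. -/
def k0 : Equiv.Perm (Fin 8) := Equiv.swap 1 2 * Equiv.swap 5 6

/-- An even permutation that is not affine. -/
def c0 : Equiv.Perm (Fin 8) := Equiv.swap 0 1 * Equiv.swap 1 2

theorem k0_mem : k0 ∈ Aff := by
  rw [mem_Aff]
  decide

theorem k0_not_mem : k0 ∉ P1 := by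
  rw [mem_P1]
  decide

theorem c0_not_mem : c0 ∉ Aff := by
  rw [mem_Aff]
  decide

theorem sign_k0 : Equiv.Perm.sign k0 = 1 := by
  rw [k0, Equiv.Perm.sign_mul, Equiv.Perm.sign_swap (by decide), Equiv.Perm.sign_swap (by decide)]
  rfl

theorem sign_c0 : Equiv.Perm.sign c0 = 1 := by
  rw [c0, Equiv.Perm.sign_mul, Equiv.Perm.sign_swap (by decide), Equiv.Perm.sign_swap (by decide)]
  rfl

/-- Let Ω be a set with 8 elements and f : Ω → Fin 4 a labelling whose four fibres all have size 2 (a partition of the 8 points into 4 pairs). Then the group of even permutations preserving this partition, (S₂ ≀ S₄) ∩ A₈, is not a maximal subgroup of the alternating group A₈ (it lies in a subgroup isomorphic to the affine group AGL₃(2)). -/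
theorem result {Ω : Type*} [Fintype Ω] [DecidableEq Ω] (h8 : Fintype.card Ω = 8)
    (f : Ω → Fin 4) (hf : ∀ i : Fin 4, Nat.card {x : Ω // f x = i} = 2) :
    ¬ IsCoatom ((Subgroup.closure {g : Equiv.Perm Ω | ∀ x y : Ω, f x = f y ↔ f (g x) = f (g y)} ⊓ alternatingGroup Ω).subgroupOf (alternatingGroup Ω)) := by
  obtain ⟨e, he⟩ := exists_equiv f hf
  intro hco
  have hφapp : ∀ (g : Equiv.Perm Ω) (i : Fin 8), e.permCongrHom g i = e (g (e.symm i)) :=
    fun g i => rfl
  have hsign : ∀ g : Equiv.Perm Ω, Equiv.Perm.sign (e.permCongrHom g) = Equiv.Perm.sign g :=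
    fun g => Equiv.Perm.sign_permCongr e g
  have hS : Subgroup.closure {g : Equiv.Perm Ω | ∀ x y : Ω, f x = f y ↔ f (g x) = f (g y)} ≤
      P1.comap e.permCongrHom.toMonoidHom := by
    rw [Subgroup.closure_le]
    intro g hg
    show e.permCongrHom g ∈ P1
    rw [mem_P1]
    intro i j
    rw [hφapp, hφapp, he, he]
    have h := hg (e.symm i) (e.symm j)
    have hi := he (e.symm i)
    have hj := he (e.symm j)
    rw [Equiv.apply_symm_apply] at hi hj
    rw [hi, hj]
    constructor
    · intro h'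
      rw [h.1 (Fin.ext h')]
    · intro h'
      rw [h.2 (Fin.ext h')]
  -- the intermediate subgroup
  have hlt : (Subgroup.closure {g : Equiv.Perm Ω | ∀ x y : Ω, f x = f y ↔ f (g x) = f (g y)} ⊓
      alternatingGroup Ω).subgroupOf (alternatingGroup Ω) <
      (Aff.comap e.permCongrHom.toMonoidHom ⊓ alternatingGroup Ω).subgroupOf
        (alternatingGroup Ω) := by
    refine lt_of_le_of_ne ?_ ?_
    · intro g hg
      rw [Subgroup.mem_subgroupOf] at hg ⊢
      refine ⟨?_, hg.2⟩
      show e.permCongrHom g.1 ∈ Aff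
      apply mem_Aff_of_even
      · exact hS hg.1
      · rw [hsign]
        exact Equiv.Perm.mem_alternatingGroup.1 hg.2
    · intro heq
      have hk : e.permCongrHom.symm k0 ∈ alternatingGroup Ω := by
        rw [Equiv.Perm.mem_alternatingGroup, ← hsign, MulEquiv.apply_symm_apply]
        exact sign_k0
      have hk2 : (⟨_, hk⟩ : alternatingGroup Ω) ∈ (Aff.comap e.permCongrHom.toMonoidHom ⊓
          alternatingGroup Ω).subgroupOf (alternatingGroup Ω) := by
        rw [Subgroup.mem_subgroupOf]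
        refine ⟨?_, hk⟩
        show e.permCongrHom (e.permCongrHom.symm k0) ∈ Aff
        rw [MulEquiv.apply_symm_apply]
        exact k0_mem
      rw [← heq, Subgroup.mem_subgroupOf] at hk2
      have hk3 := hS hk2.1
      have hk4 : e.permCongrHom (e.permCongrHom.symm k0) ∈ P1 := hk3
      rw [MulEquiv.apply_symm_apply] at hk4
      exact k0_not_mem hk4
  have htop := hco.2 _ hlt
  have hc : e.permCongrHom.symm c0 ∈ alternatingGroup Ω := by
    rw [Equiv.Perm.mem_alternatingGroup, ← hsign, MulEquiv.apply_symm_apply]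
    exact sign_c0
  have hc2 : (⟨_, hc⟩ : alternatingGroup Ω) ∈ (Aff.comap e.permCongrHom.toMonoidHom ⊓
      alternatingGroup Ω).subgroupOf (alternatingGroup Ω) := by
    rw [htop]
    exact Subgroup.mem_top _
  rw [Subgroup.mem_subgroupOf] at hc2
  have hc3 : e.permCongrHom (e.permCongrHom.symm c0) ∈ Aff := hc2.1
  rw [MulEquiv.apply_symm_apply] at hc3
  exact c0_not_mem hc3

end Cfsg.Agent.S5910
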