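import Mathlib
import Cfsg.Statements.S5913

set_option autoImplicit false
open Cfsg

namespace Cfsg.Agent.S5913

/-- Let S be a non-abelian simple group and n a natural number. Every normal subgroup N of the direct power S^n (functions Fin n → S) is a subproduct: there is a set T of coordinates such that N consists exactly of the elements whose coordinates outside T are trivial. In particular the minimal normal subgroups of S^n are its n factors. -/
theorem result {S : Type*} [Group S] [IsSimpleGroup S] (hS : ¬ IsMulCommutative S) (n : ℕ)
    (N : Subgroup (Fin n → S)) [N.Normal] :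
    ∃ T : Finset (Fin n), ∀ x : Fin n → S, x ∈ N ↔ ∀ i, i ∉ T → x i = 1 := by
  classical
  have hNn : N.Normal := inferInstance
  refine ⟨Finset.univ.filter (fun i => ∃ x ∈ N, x i ≠ 1), fun x => ⟨?_, ?_⟩⟩
  · intro hx i hi
    by_contra h
    apply hi
    simp only [Finset.mem_filter, Finset.mem_univ, true_and]
    exact ⟨x, hx, h⟩
  · intro hx
    rw [← Finset.noncommProd_mulSingle x]
    apply Subgroup.noncommProd_mem
    intro i _
    by_cases hi : i ∈ Finset.univ.filter (fun i => ∃ x ∈ N, x i ≠ 1)
    · simp only [Finset.mem_filter, Finset.mem_univ, true_and] at hi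
      obtain ⟨y, hyN, hyi⟩ := hi
      -- the subgroup of `S` of the `s` with `mulSingle i s ∈ N`
      let Ni : Subgroup S := N.comap (MonoidHom.mulSingle (fun _ : Fin n => S) i)
      have hNin : Ni.Normal := hNn.comap _
      -- some `s` does not commute with `y i`
      have hex : ∃ s : S, y i * s ≠ s * y i := by
        by_contra hcon
        push Not at hcon
        have hyc : y i ∈ Subgroup.center S := by
          rw [Subgroup.mem_center_iff]
          intro s
          exact (hcon s).symm
        rcases (inferInstance : (Subgroup.center S).Normal).eq_bot_or_eq_top with h | h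
        · rw [h, Subgroup.mem_bot] at hyc
          exact hyi hyc
        · apply hS
          rw [isMulCommutative_iff]
          intro a b
          have ha : a ∈ Subgroup.center S := by rw [h]; trivial
          exact (Subgroup.mem_center_iff.mp ha b).symm
      obtain ⟨s, hs⟩ := hex
      have hc : y i * s * (y i)⁻¹ * s⁻¹ ∈ Ni := by
        change Pi.mulSingle i (y i * s * (y i)⁻¹ * s⁻¹) ∈ N
        have e : Pi.mulSingle i (y i * s * (y i)⁻¹ * s⁻¹) =
            y * (Pi.mulSingle i s * y⁻¹ * (Pi.mulSingle i s)⁻¹) := by
          ext j
          by_cases hj : j = i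
          · subst hj
            simp [mul_assoc]
          · simp [Pi.mulSingle_eq_of_ne hj]
        rw [e]
        exact N.mul_mem hyN (hNn.conj_mem _ (N.inv_mem hyN) _)
      have hne : Ni ≠ ⊥ := by
        intro h
        rw [h, Subgroup.mem_bot] at hc
        apply hs
        have : y i * s = s * y i := by
          have h2 : y i * s * (y i)⁻¹ * s⁻¹ * (s * y i) = s * y i := by rw [hc, one_mul]
          rw [← h2]; group
        exact this
      have htop : Ni = ⊤ := (hNin.eq_bot_or_eq_top).resolve_left hne
      have : x i ∈ Ni := by rw [htop]; trivial
      exact this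
    · simp only [Finset.mem_filter, Finset.mem_univ, true_and] at hi
      have : x i = 1 := hx i (by simpa using hi)
      rw [this, Pi.mulSingle_one]
      exact N.one_mem

end Cfsg.Agent.S5913
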