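import Cfsg.Statements.S5914
import Cfsg.Agent.Helper4.CharSimplePower
import Cfsg.Agent.Helper4.MinNormalPower

set_option autoImplicit false
open Cfsg

namespace Cfsg.Agent.S5914

/-- A non-trivial finite group G is characteristically simple (its only characteristic subgroups are 1 and G) if and only if G is isomorphic to a direct power S^n (n ≥ 1) of some simple group S (possibly cyclic of prime order). -/
theorem result {G : Type*} [Group G] [Finite G] [Nontrivial G] :
    (∀ H : Subgroup G, H.Characteristic → H = ⊥ ∨ H = ⊤) ↔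
    ∃ (S : Type) (_ : Group S) (_ : IsSimpleGroup S) (n : ℕ), 1 ≤ n ∧ Nonempty (G ≃* (Fin n → S)) := by
  constructor
  · intro hchar
    obtain ⟨T, hT, m, hsimple, hm, he⟩ := Cfsg.Agent.Helper4.exists_mulEquiv_pi_simple (X := G)
      (A := MulAut G) (MonoidHom.id _) (by
        intro D _ hD
        exact hchar D (Subgroup.characteristic_iff_map_le.mpr hD))
    exact ⟨T, hT, hsimple, m, hm, he⟩
  · rintro ⟨S, hS, hsimple, n, hn, ⟨e⟩⟩ H hH
    have hH' : ∀ ψ : (Fin n → S) ≃* (Fin n → S),
        (H.map e.toMonoidHom).map ψ.toMonoidHom ≤ H.map e.toMonoidHom := by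
      intro ψ
      rintro _ ⟨_, ⟨x, hx, rfl⟩, rfl⟩
      have h1 : ((e.trans ψ).trans e.symm) x ∈ H :=
        (Subgroup.characteristic_iff_map_le.mp hH ((e.trans ψ).trans e.symm)) ⟨x, hx, rfl⟩
      refine ⟨_, h1, ?_⟩
      change e (e.symm (ψ (e x))) = ψ (e x)
      rw [MulEquiv.apply_symm_apply]
    rcases Cfsg.Agent.Helper4.char_pi_simple S n _ hH' with h | h
    · left
      exact (Subgroup.map_eq_bot_iff_of_injective H e.injective).mp h
    · right
      rw [eq_top_iff]
      intro x _
      have : e x ∈ H.map e.toMonoidHom := by rw [h]; trivial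
      obtain ⟨y, hy, hyx⟩ := this
      have : y = x := e.injective hyx
      rw [← this]; exact hy

end Cfsg.Agent.S5914
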