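import Mathlib
import Cfsg.Statements.S5942
import Cfsg.Agent.Helper8.DkMaxH
import Cfsg.Agent.Helper8.DkMaxArith
import Cfsg.Agent.Helper8.DkMinArith
import Cfsg.Agent.S0251
import Cfsg.Agent.Lead.PSL2SubF

set_option autoImplicit false
open Cfsg

namespace Cfsg.Agent.S5942

open Cfsg.Agent.Helper8.Dk Matrix

/-- Let K and F be finite fields of odd characteristic with #F = (#K)^r for an odd prime r. Then PSL_2(F) has a maximal subgroup isomorphic to PSL_2(K). -/
theorem result {F K : Type*} [Field F] [Fintype F] [Field K] [Fintype K] (q r : ℕ) (hK : Fintype.card K = q) (hF : Fintype.card F = q ^ r) (hq : Odd q) (hr : r.Prime) (hr2 : r ≠ 2) : ∃ H : Subgroup (Matrix.ProjectiveSpecialLinearGroup (Fin 2) F), IsCoatom H ∧ Nonempty (H ≃* Matrix.ProjectiveSpecialLinearGroup (Fin 2) K) := by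
  subst hK
  obtain ⟨p, hpF⟩ := CharP.exists F
  haveI : Fact p.Prime := ⟨CharP.char_is_prime F p⟩
  have hrodd : Odd r := hr.odd_of_ne_two hr2
  have hQodd : Odd (Fintype.card K ^ r) := hq.pow
  have hp2 : p ≠ 2 := by
    rintro rfl
    obtain ⟨n, -, hn⟩ := FiniteField.card F 2
    rw [hF] at hn
    rw [hn] at hQodd
    have : Even (2 ^ (n : ℕ)) := (Nat.even_pow.mpr ⟨even_two, n.ne_zero⟩)
    exact (Nat.not_even_iff_odd.mpr hQodd) this
  have hKF : Fintype.card K ^ r = Fintype.card F := hF.symm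
  obtain ⟨f⟩ := Cfsg.Agent.Lead.PSL2Sub.exists_ringHom (F := F) (K := K) r hKF
  obtain ⟨H, ⟨e⟩⟩ := Cfsg.Agent.Lead.PSL2Sub.exists_PSL2_sub f
  refine ⟨H, ?_, ⟨e⟩⟩
  obtain ⟨q, hq'⟩ : ∃ q, q = Fintype.card K := ⟨_, rfl⟩
  rw [← hq'] at hKF hq hF hQodd
  have hq1 : 2 ≤ q := hq' ▸ Fintype.one_lt_card
  have hq3 : 3 ≤ q := by
    obtain ⟨j, hj⟩ := hq
    omega
  have hgcd : Nat.gcd 2 (q - 1) = 2 := by
    rcases gcd_two_cases q (by omega) with ⟨h, -⟩ | ⟨-, h⟩
    · obtain ⟨j, hj⟩ := hq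
      omega
    · exact h
  have hc : 2 * Nat.card H = q * (q ^ 2 - 1) := by
    have h1 := Cfsg.Agent.Lead.PSL2Sub.card_mul (F := K) hq'.symm
    rw [hgcd, ← Nat.card_congr e.toEquiv] at h1
    exact h1
  have h8 : 8 ≤ q ^ 2 - 1 := by
    have : 9 ≤ q ^ 2 := by nlinarith
    omega
  have hHbig : 12 ≤ Nat.card H := by
    have : 3 * 8 ≤ q * (q ^ 2 - 1) := Nat.mul_le_mul hq3 h8
    omega
  have hbig5 : q ≠ 3 → 60 ≤ Nat.card H := by
    intro h3
    have hq5 : 5 ≤ q := by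
      obtain ⟨j, hj⟩ := hq
      omega
    have h24 : 24 ≤ q ^ 2 - 1 := by
      have : 25 ≤ q ^ 2 := by nlinarith
      omega
    have : 5 * 24 ≤ q * (q ^ 2 - 1) := Nat.mul_le_mul hq5 h24
    omega
  have hQ : q < q ^ r := by
    calc q = q ^ 1 := (pow_one q).symm
      _ < q ^ r := Nat.pow_lt_pow_right (by omega) hr.one_lt
  have hgcdQ : Nat.gcd 2 (q ^ r - 1) = 2 := by
    rcases gcd_two_cases (q ^ r) (by omega) with ⟨h, -⟩ | ⟨-, h⟩
    · obtain ⟨j, hj⟩ := hQodd
      omega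
    · exact h
  have hG := Cfsg.Agent.Lead.PSL2Sub.card_mul (F := F) hF
  rw [hgcdQ] at hG
  -- powers of three
  have h3r : q = 3 → ∃ k, r = 2 * k + 1 := by
    intro _
    obtain ⟨k, hk⟩ := hrodd
    exact ⟨k, hk⟩
  apply isCoatom_of_cases p H
  · intro htop
    rw [htop, Subgroup.card_top] at hc
    have h1 : q ^ 2 - 1 < (q ^ r) ^ 2 - 1 := by
      have : q ^ 2 < (q ^ r) ^ 2 := Nat.pow_lt_pow_left hQ (by norm_num)
      omega
    have := Nat.mul_lt_mul'' hQ h1
    omega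
  · omega
  · intro M hM hle
    by_cases h3 : q = 3
    · obtain ⟨e'⟩ := Cfsg.Agent.S0251.result (F := K) (by rw [← hq', h3])
      exact not_le_normalizer_of_A4 p hp2 (e.trans e') hM hle
    · have hq5 : 5 ≤ q := by
        obtain ⟨j, hj⟩ := hq
        omega
      have hs := isSolvable_of_le_normalizer hM hle
      apply not_isSolvable_PSL2 (F := K) (by rw [← hq']; omega)
      exact Group.isSolvable_of_isSolvable_injective (f := e.symm.toMonoidHom) e.symm.injective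
  · intro h hne
    have := Nat.le_of_dvd (by norm_num) h
    omega
  · intro h hne hX
    have h3 : q = 3 := by
      by_contra h3
      have := hbig5 h3
      have := Nat.le_of_dvd (by norm_num) h
      omega
    obtain ⟨k, hk⟩ := h3r h3
    have h16 := (Cfsg.Agent.Lead.PSL2Sub.s0803 hF).mp hX
    rw [h3, ← pow_mul, hk] at h16
    have e1 : 3 ^ ((2 * k + 1) * 2) = 81 ^ k * 9 := by
      rw [show (2 * k + 1) * 2 = 4 * k + 2 by ring, pow_add, pow_mul]; norm_num
    rw [e1, Nat.mul_mod, Nat.pow_mod] at h16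
    norm_num at h16
  · intro h hne hX _
    have h3 : q = 3 := by
      by_contra h3
      have := hbig5 h3
      have := Nat.le_of_dvd (by norm_num) h
      omega
    obtain ⟨k, hk⟩ := h3r h3
    have h5 := (Cfsg.Agent.Lead.PSL2Sub.s0804 hF).mp hX
    have h1 := Cfsg.Agent.Lead.PSL2Sub.mod_five_of_dvd h5
    rw [h3, hk] at h1
    rcases three_pow_odd_mod_five k with h2 | h2 <;> omega
  · intro X hHX hne K' _ _ m hm2 hm hiso
    rw [hq'] at hKF
    obtain ⟨h1, h2⟩ := subfield_overgroup hr hm2 hKF hm e hHX hiso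
    rcases hiso with ⟨⟨e'⟩⟩ | ⟨⟨e'⟩⟩
    · have h3 := Cfsg.Agent.Lead.PSL2Sub.card_mul (F := K') rfl
      rw [h1, ← hq', hgcd, ← Nat.card_congr e'.toEquiv] at h3
      apply hne
      omega
    · have hev := (Cfsg.Agent.Lead.PSL2Sub.s0805 (F := F) (K := K') hF hQodd m (by omega)
        (by rw [hm, hF])).2.mp ⟨X, ⟨e'⟩⟩
      rw [h2] at hev
      exact (Nat.not_even_iff_odd.mpr hrodd) hev

end Cfsg.Agent.S5942
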