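import Mathlib
import Cfsg.Statements.S5943
import Cfsg.Agent.Helper8.DkMaxH
import Cfsg.Agent.Helper8.DkMaxArith

set_option autoImplicit false
open Cfsg

namespace Cfsg.Agent.S5943

open Cfsg.Agent.Helper8.Dk Matrix

/-- Let K and F be finite fields of characteristic 2 with #K = q > 2 and #F = q^r for a prime r. Then PSL_2(F) has a maximal subgroup isomorphic to PSL_2(K) (which equals PGL_2(K) in characteristic 2). -/
theorem result {F K : Type*} [Field F] [Fintype F] [Field K] [Fintype K] (q r : ℕ) (hK : Fintype.card K = q) (hF : Fintype.card F = q ^ r) (hq : Even q) (hq2 : q ≠ 2) (hr : r.Prime) : ∃ H : Subgroup (Matrix.ProjectiveSpecialLinearGroup (Fin 2) F), IsCoatom H ∧ Nonempty (H ≃* Matrix.ProjectiveSpecialLinearGroup (Fin 2) K) := by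
  subst hK
  obtain ⟨p, hpF⟩ := CharP.exists F
  haveI : Fact p.Prime := ⟨CharP.char_is_prime F p⟩
  have hKF : Fintype.card K ^ r = Fintype.card F := hF.symm
  obtain ⟨f⟩ := Cfsg.Agent.Lead.PSL2Sub.exists_ringHom (F := F) (K := K) r hKF
  obtain ⟨H, ⟨e⟩⟩ := Cfsg.Agent.Lead.PSL2Sub.exists_PSL2_sub f
  refine ⟨H, ?_, ⟨e⟩⟩
  obtain ⟨q, hq'⟩ : ∃ q, q = Fintype.card K := ⟨_, rfl⟩
  rw [← hq'] at hKF hq hq2 hF
  have hq1 : 2 ≤ q := hq' ▸ Fintype.one_lt_card
  have hq4 : 4 ≤ q := by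
    obtain ⟨j, hj⟩ := hq
    omega
  have hgcd : Nat.gcd 2 (q - 1) = 1 := by
    rcases gcd_two_cases q (by omega) with ⟨-, h⟩ | ⟨h, -⟩
    · exact h
    · obtain ⟨j, hj⟩ := hq
      omega
  have hc : Nat.card H = q * (q ^ 2 - 1) := by
    have h1 := Cfsg.Agent.Lead.PSL2Sub.card_mul (F := K) hq'.symm
    rw [hgcd, one_mul, ← Nat.card_congr e.toEquiv] at h1
    exact h1
  have h15 : 15 ≤ q ^ 2 - 1 := by
    have : 16 ≤ q ^ 2 := by nlinarith
    omega
  have hHbig : 60 ≤ Nat.card H := by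
    rw [hc]
    calc 60 = 4 * 15 := by norm_num
      _ ≤ q * (q ^ 2 - 1) := Nat.mul_le_mul hq4 h15
  have hQ : q < q ^ r := by
    calc q = q ^ 1 := (pow_one q).symm
      _ < q ^ r := Nat.pow_lt_pow_right (by omega) hr.one_lt
  have hQeven : Even (q ^ r) := (Nat.even_pow.mpr ⟨hq, hr.ne_zero⟩)
  have hgcdQ : Nat.gcd 2 (q ^ r - 1) = 1 := by
    rcases gcd_two_cases (q ^ r) (by omega) with ⟨-, h⟩ | ⟨h, -⟩
    · exact h
    · obtain ⟨j, hj⟩ := hQeven
      omega
  have hG := Cfsg.Agent.Lead.PSL2Sub.card_mul (F := F) hF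
  rw [hgcdQ, one_mul] at hG
  apply isCoatom_of_cases p H
  · intro htop
    rw [htop, Subgroup.card_top, hG] at hc
    have h1 : q ^ 2 - 1 < (q ^ r) ^ 2 - 1 := by
      have : q ^ 2 < (q ^ r) ^ 2 := Nat.pow_lt_pow_left hQ (by norm_num)
      omega
    have := Nat.mul_lt_mul'' hQ h1
    omega
  · omega
  · intro M hM hle
    have hs := isSolvable_of_le_normalizer hM hle
    apply not_isSolvable_PSL2 (F := K) (hq' ▸ hq4)
    exact Group.isSolvable_of_isSolvable_injective (f := e.symm.toMonoidHom) e.symm.injective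
  · intro h _
    have := Nat.le_of_dvd (by norm_num) h
    omega
  · intro h _ _
    have := Nat.le_of_dvd (by norm_num) h
    omega
  · intro h hne _ _
    have := Nat.le_of_dvd (by norm_num) h
    omega
  · intro X hHX hne K' _ _ m hm2 hm hiso
    rw [hq'] at hKF
    obtain ⟨h1, -⟩ := subfield_overgroup hr hm2 hKF hm e hHX hiso
    have h2 := card_dvd_of_subfield_type hiso
    rw [h1, ← hq', ← hc] at h2
    exact hne (Nat.dvd_antisymm (Subgroup.card_dvd_of_le hHX) h2)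

end Cfsg.Agent.S5943
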