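import Mathlib
import Cfsg.Statements.S5947
import Cfsg.Agent.Helper3.SingerA
-- import your own Cfsg.Agent.* helpers here

set_option autoImplicit false
open Cfsg

namespace Cfsg.Agent.S5947

open Cfsg.Agent.Helper3.SingerA

theorem coprime_pred_of_dvd {p m : ℕ} (hp : p.Prime) (hm : p ∣ m) (hm0 : 0 < m) :
    (m - 1).Coprime p := by
  apply Nat.Coprime.symm
  rw [Nat.Prime.coprime_iff_not_dvd hp]
  intro h
  have := (Nat.dvd_sub hm h)
  have h1 : m - (m - 1) = 1 := by omega
  rw [h1] at this
  exact hp.one_lt.ne' (Nat.dvd_one.mp this)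

/-- Let F ⊆ K be finite fields with |F| = q and [K : F] = n ≥ 2, regard K as an n-dimensional F-vector space, and let M ≤ GL_F(K) be the Singer group of multiplications by non-zero elements of K (cyclic of order q^n − 1). Assume (n, q) ≠ (6, 2), and that it is not the case that n = 2 with q a prime such that q + 1 is a power of 2. Then every abelian subgroup of GL_F(K) of order q^n − 1 is conjugate to M. -/
theorem result {F K : Type*} [Field F] [Fintype F] [Field K] [Fintype K] [Algebra F K] (n : ℕ) (hn : 2 ≤ n) (hdim : Module.finrank F K = n)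
    (hex1 : ¬ (n = 6 ∧ Fintype.card F = 2))
    (hex2 : ¬ (n = 2 ∧ (Fintype.card F).Prime ∧ ∃ a : ℕ, Fintype.card F + 1 = 2 ^ a))
    (U : Subgroup (Module.End F K)ˣ) (hU : IsMulCommutative U) (hcard : Nat.card U = Fintype.card K - 1) :
    ∃ g : (Module.End F K)ˣ, U.map (MulAut.conj g).toMonoidHom = (Units.map ((Algebra.lmul F K : K →ₐ[F] Module.End F K) : K →* Module.End F K)).range := by
  classical
  have hcomm : ∀ a ∈ U, ∀ b ∈ U, a * b = b * a := by
    intro a ha b hb
    have := mul_comm' (⟨a, ha⟩ : U) ⟨b, hb⟩
    exact congrArg Subtype.val this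
  set p := ringChar F with hp
  haveI : CharP F p := ringChar.charP F
  have hpp : p.Prime := CharP.char_is_prime F p
  haveI : Fact p.Prime := ⟨hpp⟩
  have hcardK : Fintype.card K = Fintype.card F ^ n := by
    rw [← hdim]; exact Module.card_eq_pow_finrank
  have hpF : p ∣ Fintype.card F := by
    obtain ⟨f, -, hf⟩ := FiniteField.card F p
    rw [hf]
    exact dvd_pow_self p f.ne_zero
  have hpK : p ∣ Fintype.card K := by
    rw [hcardK]
    exact dvd_pow hpF (by omega)
  have hcop : (Nat.card U).Coprime p := by
    rw [hcard]
    exact coprime_pred_of_dvd hpp hpK Fintype.card_pos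
  have hcardeq : Nat.card U + 1 = Nat.card K := by
    rw [hcard, Nat.card_eq_fintype_card]
    have : 0 < Fintype.card K := Fintype.card_pos
    omega
  obtain ⟨-, hirr'⟩ := abelian_bound p n K U hcomm hcop hdim
  have hirr := hirr' hcardeq
  set B := alg U with hB
  have hBcard : Nat.card B = Nat.card K := card_alg_of_card_eq U hcomm hirr hcardeq
  have hBmem : ∀ b ∈ B, b ≠ 0 → ∃ a ∈ U, ((a : (Module.End F K)ˣ) : Module.End F K) = b :=
    fun b hb hb0 => exists_eq_of_card_eq U hcomm hirr hcardeq hb hb0
  have hBinj : ∀ b ∈ B, b ≠ 0 → Function.Injective b :=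
    fun b hb hb0 => alg_injective U hcomm hirr hb hb0
  -- commutativity of `B`
  have hBcomm : ∀ x y : B, x * y = y * x := by
    have := Algebra.isMulCommutative_adjoin F (s := {b | ∃ a ∈ U, ((a : (Module.End F K)ˣ) : Module.End F K) = b})
      (by
        rintro _ ⟨x, hx, rfl⟩ _ ⟨y, hy, rfl⟩
        rw [← Units.val_mul, ← Units.val_mul, hcomm x hx y hy])
    intro x y
    exact @mul_comm' _ _ this x y
  letI : CommRing B := { (inferInstance : Ring B) with mul_comm := hBcomm }
  haveI : Finite B := by
    have : Finite (Module.End F K) := Finite.of_injective (fun f : Module.End F K => (f : K → K))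
      DFunLike.coe_injective
    exact Finite.of_injective (fun b : B => (b : Module.End F K)) Subtype.val_injective
  haveI : IsDomain B := by
    haveI : NoZeroDivisors B := ⟨by
      intro x y hxy
      by_contra hne
      push Not at hne
      have hx0 : (x : Module.End F K) ≠ 0 := fun h => hne.1 (Subtype.ext h)
      have hxinj := hBinj x x.2 hx0
      apply hne.2
      apply Subtype.ext
      ext v
      apply hxinj
      have := congrArg (fun z : B => (z : Module.End F K) v) hxy
      simpa using this⟩
    exact NoZeroDivisors.to_isDomain B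
  haveI : Fintype B := Fintype.ofFinite B
  letI : Field B := Fintype.fieldOfDomain B
  -- the dimensions agree
  have hfinrank : Module.finrank F B = n := by
    have h1 : Fintype.card B = Fintype.card F ^ Module.finrank F B := Module.card_eq_pow_finrank
    have h2 : Fintype.card B = Fintype.card F ^ n := by
      rw [← hcardK, ← Nat.card_eq_fintype_card, ← Nat.card_eq_fintype_card, hBcard]
    have h3 : 1 < Fintype.card F := Fintype.one_lt_card
    exact Nat.pow_right_injective h3 (h1.symm.trans h2)
  obtain ⟨φ⟩ := FiniteField.nonempty_algHom_of_finrank_dvd (F := F) (K := K) (L := B)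
    (by rw [hdim, hfinrank])
  have hφinj : Function.Injective φ := φ.toRingHom.injective
  have hφbij : Function.Bijective φ := by
    apply hφinj.bijective_of_nat_card_le
    rw [hBcard]
  -- the intertwining map
  let g : K →ₗ[F] K :=
    { toFun := fun c => ((φ c : B) : Module.End F K) 1
      map_add' := fun a b => by
        rw [map_add, Subalgebra.coe_add, LinearMap.add_apply]
      map_smul' := fun r a => by
        rw [map_smul, Subalgebra.coe_smul, LinearMap.smul_apply, RingHom.id_apply] }
  have hg : ∀ c : K, g c = ((φ c : B) : Module.End F K) 1 := fun c => rfl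
  have hφ0 : ∀ c : K, c ≠ 0 → ((φ c : B) : Module.End F K) ≠ 0 := by
    intro c hc h0
    apply hc
    apply hφinj
    rw [map_zero]
    exact Subtype.ext h0
  have hginj : Function.Injective g := by
    rw [← LinearMap.ker_eq_bot, LinearMap.ker_eq_bot']
    intro c hc
    by_contra hc0
    have hinj := hBinj _ (φ c).2 (hφ0 c hc0)
    have h1 : ((φ c : B) : Module.End F K) 1 = ((φ c : B) : Module.End F K) 0 := by
      rw [map_zero]; exact hc
    exact one_ne_zero (hinj h1)
  have hgsurj : Function.Surjective g := LinearMap.injective_iff_surjective.mp hginj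
  let e : K ≃ₗ[F] K := LinearEquiv.ofBijective g ⟨hginj, hgsurj⟩
  let gU : (Module.End F K)ˣ :=
    { val := g
      inv := e.symm
      val_inv := by
        ext x
        change g (e.symm x) = x
        exact e.apply_symm_apply x
      inv_val := by
        ext x
        change e.symm (g x) = x
        exact e.symm_apply_apply x }
  have hgUv : ((gU : (Module.End F K)ˣ) : Module.End F K) = g := rfl
  have hinter : ∀ c x : K, g (c * x) = ((φ c : B) : Module.End F K) (g x) := by
    intro c x
    rw [hg, hg, map_mul, Subalgebra.coe_mul, Module.End.mul_apply]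
  -- key: conjugation relation
  have hkey : ∀ (c : Kˣ) (u : (Module.End F K)ˣ),
      ((u : (Module.End F K)ˣ) : Module.End F K) = ((φ (c : K) : B) : Module.End F K) →
      (MulAut.conj gU⁻¹).toMonoidHom u =
        Units.map ((Algebra.lmul F K : K →ₐ[F] Module.End F K) : K →* Module.End F K) c := by
    intro c u hu
    have h1 : gU * Units.map ((Algebra.lmul F K : K →ₐ[F] Module.End F K) : K →* Module.End F K) c
        = u * gU := by
      apply Units.ext
      ext x
      rw [Units.val_mul, Units.val_mul, Module.End.mul_apply, Module.End.mul_apply, hgUv, hu,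
        Units.coe_map]
      exact hinter c x
    change gU⁻¹ * u * gU⁻¹⁻¹ = _
    rw [inv_inv, mul_assoc, ← h1, ← mul_assoc, inv_mul_cancel, one_mul]
  refine ⟨gU⁻¹, ?_⟩
  ext x
  constructor
  · rintro ⟨u, hu, rfl⟩
    have hu0 : ((u : (Module.End F K)ˣ) : Module.End F K) ≠ 0 := u.ne_zero
    obtain ⟨c, hc⟩ := hφbij.2 ⟨_, coe_mem_alg U hu⟩
    have hc0 : c ≠ 0 := by
      intro h0
      apply hu0
      have := congrArg (fun b : B => (b : Module.End F K)) hc
      simp only at this
      rw [← this, h0, map_zero]
      rfl
    have := hkey (Units.mk0 c hc0) u (by rw [Units.val_mk0, hc])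
    rw [this]
    exact ⟨_, rfl⟩
  · rintro ⟨c, rfl⟩
    obtain ⟨u, hu, huv⟩ := hBmem _ (φ (c : K)).2 (hφ0 _ c.ne_zero)
    exact ⟨u, hu, hkey c u huv⟩


end Cfsg.Agent.S5947
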