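import Cfsg.Statements.S5949
import Cfsg.Agent.Helper7.POrdL

set_option autoImplicit false
open scoped MatrixGroups
open Cfsg

namespace Cfsg.Agent.S5949

/-- Elements of prime order of PSL_n(q) with no fixed `m`-space. Here `T = PSL_n(F)` for a field `F` with `q = p^f` elements (`n ≥ 2`, `(n, q) ≠ (2, 2), (2, 3)`); an element of `T` of prime order `r` is represented by a matrix `x` of determinant 1 with `x^r` scalar and `x` not scalar; `i` denotes the multiplicative order of `q` modulo `r` (when `r ≠ p`), and `(a)_r` the `r`-part of `a`. Let `1 ≤ m ≤ n/2` and let `r` be a prime dividing the number of `m`-dimensional subspaces of `F^n`. Then every element of `T` of order `r` fixes some `m`-dimensional subspace (the action on `m`-spaces is `r`-elusive) if and only if `r ≠ p` and either (i) `i = 1` and (`r ∣ m`, or `(q−1)_r ≥ (n)_r` where in addition `q ≡ 1 (mod 4)` is required when `r = 2` and `n` is even), or (ii) `2 ≤ i ≤ m` and `n mod i ≥ m mod i`. -/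
theorem result {F : Type*} [Field F] [Fintype F] {p : ℕ} [Fact p.Prime] [CharP F p] {q : ℕ} (hq : Fintype.card F = q)
    (n m : ℕ) (hn : 2 ≤ n) (hT : (n, q) ≠ (2, 2) ∧ (n, q) ≠ (2, 3)) (hm : 1 ≤ m) (hmn : 2 * m ≤ n)
    (r : ℕ) [Fact r.Prime] (hrΩ : r ∣ Nat.card {W : Submodule F (Fin n → F) // Module.finrank F ↥W = m}) :
    (∀ x : Matrix.SpecialLinearGroup (Fin n) F,
      (∃ c : F, ((x ^ r : Matrix.SpecialLinearGroup (Fin n) F) : Matrix (Fin n) (Fin n) F) = c • (1 : Matrix (Fin n) (Fin n) F)) →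
      (∀ c : F, (x : Matrix (Fin n) (Fin n) F) ≠ c • (1 : Matrix (Fin n) (Fin n) F)) →
      ∃ W : Submodule F (Fin n → F), Module.finrank F ↥W = m ∧ W.map (Matrix.toLin' (x : Matrix (Fin n) (Fin n) F)) ≤ W) ↔
    (r ≠ p ∧
      ((orderOf (q : ZMod r) = 1 ∧ (r ∣ m ∨ (padicValNat r n ≤ padicValNat r (q - 1) ∧ (r = 2 → Even n → q % 4 = 1)))) ∨
       (2 ≤ orderOf (q : ZMod r) ∧ orderOf (q : ZMod r) ≤ m ∧ m % orderOf (q : ZMod r) ≤ n % orderOf (q : ZMod r)))) := by
  classical
  subst hq
  have hr : r.Prime := Fact.out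
  have hrp : r ≠ p := Cfsg.Agent.Helper7.POrd.ne_char_of_dvd_card_sub hmn hm hrΩ
  have hipos : 0 < orderOf ((Fintype.card F : ℕ) : ZMod r) := Cfsg.Agent.Helper7.POrd.orderOf_q_pos hrp
  have hfr : Module.finrank F (Fin n → F) = n := Module.finrank_fin_fun F
  constructor
  · intro hall
    refine ⟨hrp, ?_⟩
    by_cases hi : orderOf ((Fintype.card F : ℕ) : ZMod r) = 1
    · refine Or.inl ⟨hi, ?_⟩
      by_contra hfail
      rw [not_or] at hfail
      obtain ⟨hrm, hfail⟩ := hfail
      have hrq : r ∣ Fintype.card F - 1 :=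
        (Cfsg.Agent.Helper7.POrd.orderOf_eq_one_iff_dvd Fintype.card_pos).mp hi
      obtain ⟨⟨N, hN⟩, c, hc, hdet⟩ :=
        Cfsg.Agent.Helper7.POrd.exists_bad_scalar (F := F) (n := n) (by omega) hrq hfail
      subst hN
      have hNpos : 0 < N := by
        rcases Nat.eq_zero_or_pos N with h | h
        · rw [h, mul_zero] at hn; omega
        · exact h
      rw [Nat.mul_div_cancel_left _ hr.pos] at hdet
      obtain ⟨x, hx1, hx2, hx3⟩ := Cfsg.Agent.Helper7.POrd.exists_model_irred hr hNpos hc hdet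
      obtain ⟨W, hW1, hW2⟩ := hall x ⟨c, hx1⟩ hx2
      exact hrm (hW1 ▸ hx3 W hW2)
    · have hi2 : 2 ≤ orderOf ((Fintype.card F : ℕ) : ZMod r) := by omega
      have hmod : m % orderOf ((Fintype.card F : ℕ) : ZMod r) ≤ n % orderOf ((Fintype.card F : ℕ) : ZMod r) := by
        by_contra hlt
        rw [not_le] at hlt
        have hin : orderOf ((Fintype.card F : ℕ) : ZMod r) ≤ n := by
          by_contra hni
          rw [not_le] at hni
          rw [Nat.mod_eq_of_lt hni, Nat.mod_eq_of_lt (by omega)] at hlt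
          omega
        obtain ⟨x, hx1, hx2, hx3⟩ := Cfsg.Agent.Helper7.POrd.exists_model_cyclo (F := F) hrp n hi hin
        obtain ⟨W, hW1, hW2⟩ := hall x ⟨1, hx1⟩ hx2
        have := hx3 W hW2
        rw [hW1] at this
        omega
      refine Or.inr ⟨hi2, ?_, hmod⟩
      by_contra hlt
      rw [not_le] at hlt
      rw [Nat.mod_eq_of_lt hlt] at hmod
      obtain ⟨t, ht, hdvd⟩ := Cfsg.Agent.Helper7.POrd.exists_dvd_of_dvd_card (F := F) (V := Fin n → F) m
        (by rw [hfr]; omega) hr hrΩ
      rw [hfr] at hdvd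
      obtain ⟨a, ha⟩ := Cfsg.Agent.Helper7.POrd.orderOf_dvd_of_dvd_pow_sub_one hdvd
      have h1 := Nat.div_add_mod n (orderOf ((Fintype.card F : ℕ) : ZMod r))
      have h2 := Nat.mod_lt n hipos
      generalize orderOf ((Fintype.card F : ℕ) : ZMod r) = i at *
      generalize n / i = b at *
      generalize n % i = k at *
      -- `i * b + k = n`, `n - t = i * a`, `t < m ≤ k < i`
      have h3 : i * a + t = i * b + k := by omega
      have h4 : i * b < i * a + i := by nlinarith
      have h5 : i * a < i * b + i := by nlinarith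
      have h6 : b < a + 1 := by
        by_contra h
        have : i * (a + 1) ≤ i * b := Nat.mul_le_mul_left i (by omega)
        rw [Nat.mul_add, mul_one] at this
        omega
      have h7 : a < b + 1 := by
        by_contra h
        have : i * (b + 1) ≤ i * a := Nat.mul_le_mul_left i (by omega)
        rw [Nat.mul_add, mul_one] at this
        omega
      have h8 : a = b := by omega
      subst h8
      omega
  · rintro ⟨-, hcond⟩ x ⟨c, hxc⟩ hns
    have hT := Cfsg.Agent.Helper7.POrd.toLin'_pow_eq x hxc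
    have hdetT : LinearMap.det (Matrix.toLin' (x : Matrix (Fin n) (Fin n) F)) = 1 := by
      rw [LinearMap.det_toLin', x.2]
    have hmod : m % orderOf ((Fintype.card F : ℕ) : ZMod r) ≤ n % orderOf ((Fintype.card F : ℕ) : ZMod r) := by
      rcases hcond with ⟨hi, -⟩ | ⟨-, -, h⟩
      · rw [hi, Nat.mod_one, Nat.mod_one]
      · exact h
    have hc0 : c ≠ 0 := by
      rintro rfl
      have h1 : ((x ^ r : Matrix.SpecialLinearGroup (Fin n) F) : Matrix (Fin n) (Fin n) F).det = 1 := (x ^ r).2
      haveI : Nonempty (Fin n) := ⟨⟨0, by omega⟩⟩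
      rw [hxc, zero_smul, Matrix.det_zero] at h1
      exact zero_ne_one h1
    suffices h : ∃ W : Submodule F (Fin n → F), Module.finrank F ↥W = m ∧
        W ∈ Module.End.invtSubmodule (Matrix.toLin' (x : Matrix (Fin n) (Fin n) F)) by
      obtain ⟨W, h1, h2⟩ := h
      exact ⟨W, h1, (Cfsg.Agent.Helper7.POrd.map_le_iff_mem_invt _ W).mpr h2⟩
    by_cases hpow : ∃ μ : F, μ ^ r = c
    · obtain ⟨μ, rfl⟩ := hpow
      have hμ : μ ≠ 0 := by
        rintro rfl
        exact hc0 (zero_pow hr.ne_zero)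
      exact Cfsg.Agent.Helper7.POrd.exists_invt_of_power hrp (by omega) hmod _ hμ hT
    · rw [not_exists] at hpow
      have hi : orderOf ((Fintype.card F : ℕ) : ZMod r) = 1 := by
        by_contra hi
        have hrq : ¬ r ∣ Fintype.card F - 1 := by
          rw [← Cfsg.Agent.Helper7.POrd.orderOf_eq_one_iff_dvd Fintype.card_pos]
          exact hi
        obtain ⟨b, hb⟩ := Cfsg.Agent.Helper7.POrd.exists_pow_eq_of_not_dvd hr hrq c
        exact hpow b hb
      rcases hcond with ⟨-, hcond⟩ | ⟨h2, -, -⟩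
      · exact Cfsg.Agent.Helper7.POrd.exists_invt_of_nonpower (by omega) (by omega) _ hdetT hpow hT hcond
      · omega

end Cfsg.Agent.S5949
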