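import Cfsg.Statements.S5950
import Cfsg.Agent.Helper7.POrdS
import Cfsg.Agent.S5949

set_option autoImplicit false
open scoped MatrixGroups
open Cfsg

namespace Cfsg.Agent.S5950

/-- Elements of prime order of PSL_n(q) fixing no decomposition `F^n = U ⊕ W` with `dim U = m`. Here `T = PSL_n(F)` for a field `F` with `q = p^f` elements (`n ≥ 2`, `(n, q) ≠ (2, 2), (2, 3)`); an element of `T` of prime order `r` is represented by a matrix `x` of determinant 1 with `x^r` scalar and `x` not scalar; `i` denotes the multiplicative order of `q` modulo `r` (when `r ≠ p`), and `(a)_r` the `r`-part of `a`. Let `n ≥ 3`, `1 ≤ m < n/2`, and let `r` be a prime dividing the number of such decompositions (unordered pairs `{U, W}` of complementary subspaces with `dim U = m`; since `m ≠ n − m` these are the ordered pairs with `dim U = m`). Then every element of `T` of order `r` fixes such a pair (fixes both `U` and `W` for some complementary `U, W` with `dim U = m`) if and only if one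 of: (i) `r = p > 2` and every partition of `n` into parts of size at most `p` contains, as a sub-multiset, a partition of `m`; (ii) `r = p = 2` and `n` is odd or `m` is even; (iii) `r ≠ p`, `i = 1`, and `r ∣ m` or `(q−1)_r ≥ (n)_r` (with `q ≡ 1 (mod 4)` required when `r = 2` and `n` is even); (iv) `r ≠ p`, `2 ≤ i ≤ m` and `n mod i ≥ m mod i`. -/
theorem result {F : Type*} [Field F] [Fintype F] {p : ℕ} [Fact p.Prime] [CharP F p] {q : ℕ} (hq : Fintype.card F = q)
    (n m : ℕ) (hn : 3 ≤ n) (hm : 1 ≤ m) (hmn : 2 * m < n)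
    (r : ℕ) [Fact r.Prime]
    (hrΩ : r ∣ Nat.card {P : Submodule F (Fin n → F) × Submodule F (Fin n → F) // IsCompl P.1 P.2 ∧ Module.finrank F ↥P.1 = m}) :
    (∀ x : Matrix.SpecialLinearGroup (Fin n) F,
      (∃ c : F, ((x ^ r : Matrix.SpecialLinearGroup (Fin n) F) : Matrix (Fin n) (Fin n) F) = c • (1 : Matrix (Fin n) (Fin n) F)) →
      (∀ c : F, (x : Matrix (Fin n) (Fin n) F) ≠ c • (1 : Matrix (Fin n) (Fin n) F)) →
      ∃ U W : Submodule F (Fin n → F), IsCompl U W ∧ Module.finrank F ↥U = m ∧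
        U.map (Matrix.toLin' (x : Matrix (Fin n) (Fin n) F)) ≤ U ∧ W.map (Matrix.toLin' (x : Matrix (Fin n) (Fin n) F)) ≤ W) ↔
    ((r = p ∧ 2 < p ∧ (∀ μ : Multiset ℕ, (∀ a ∈ μ, 0 < a ∧ a ≤ p) → μ.sum = n → ∃ ν : Multiset ℕ, ν ≤ μ ∧ ν.sum = m)) ∨
     (r = p ∧ p = 2 ∧ (Odd n ∨ Even m)) ∨
     (r ≠ p ∧
      ((orderOf (q : ZMod r) = 1 ∧ (r ∣ m ∨ (padicValNat r n ≤ padicValNat r (q - 1) ∧ (r = 2 → Even n → q % 4 = 1)))) ∨
       (2 ≤ orderOf (q : ZMod r) ∧ orderOf (q : ZMod r) ≤ m ∧ m % orderOf (q : ZMod r) ≤ n % orderOf (q : ZMod r))))) := by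
  classical
  subst hq
  have hr : r.Prime := Fact.out
  have hfr : Module.finrank F (Fin n → F) = n := Module.finrank_fin_fun F
  have hc0 : ∀ (x : Matrix.SpecialLinearGroup (Fin n) F) (c : F),
      ((x ^ r : Matrix.SpecialLinearGroup (Fin n) F) : Matrix (Fin n) (Fin n) F) = c • 1 → c ≠ 0 := by
    intro x c hxc
    rintro rfl
    have h1 : ((x ^ r : Matrix.SpecialLinearGroup (Fin n) F) : Matrix (Fin n) (Fin n) F).det = 1 := (x ^ r).2
    haveI : Nonempty (Fin n) := ⟨⟨0, by omega⟩⟩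
    rw [hxc, zero_smul, Matrix.det_zero] at h1
    exact zero_ne_one h1
  by_cases hrp : r = p
  · subst hrp
    -- the partition condition
    have hkey : (∀ x : Matrix.SpecialLinearGroup (Fin n) F,
        (∃ c : F, ((x ^ r : Matrix.SpecialLinearGroup (Fin n) F) : Matrix (Fin n) (Fin n) F) = c • (1 : Matrix (Fin n) (Fin n) F)) →
        (∀ c : F, (x : Matrix (Fin n) (Fin n) F) ≠ c • (1 : Matrix (Fin n) (Fin n) F)) →
        ∃ U W : Submodule F (Fin n → F), IsCompl U W ∧ Module.finrank F ↥U = m ∧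
          U.map (Matrix.toLin' (x : Matrix (Fin n) (Fin n) F)) ≤ U ∧ W.map (Matrix.toLin' (x : Matrix (Fin n) (Fin n) F)) ≤ W) ↔
        (∀ μ : Multiset ℕ, (∀ a ∈ μ, 0 < a ∧ a ≤ r) → μ.sum = n → ∃ ν : Multiset ℕ, ν ≤ μ ∧ ν.sum = m) := by
      constructor
      · intro hall μ hμ hsum
        by_cases hne : ∃ b ∈ μ, 2 ≤ b
        · obtain ⟨x, N', hlin, hNp, hxp, hns, hcntS, -⟩ :=
            Cfsg.Agent.Helper7.NilRk.exists_model (F := F) n μ hμ hsum hne
          obtain ⟨U, W, hUW, hUd, hUi, hWi⟩ :=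
            hall x ⟨1, by rw [Matrix.SpecialLinearGroup.coe_pow, hxp, one_smul]⟩ hns
          rw [hlin] at hUi hWi
          obtain ⟨ν, hν1, hν2⟩ := Cfsg.Agent.Helper7.POrd.exists_sub_partition N' hNp hUW
            (Cfsg.Agent.Helper7.POrd.map_le_of_map_one_add_le hUi)
            (Cfsg.Agent.Helper7.POrd.map_le_of_map_one_add_le hWi) μ hcntS
          exact ⟨ν, hν1, hν2.trans hUd⟩
        · have h1 : ∀ b ∈ μ, b = 1 := by
            intro b hb
            have h2 := (hμ b hb).1
            have h3 : ¬ 2 ≤ b := fun h4 => hne ⟨b, hb, h4⟩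
            omega
          have h2 : μ = Multiset.replicate (Multiset.card μ) 1 :=
            Multiset.eq_replicate.mpr ⟨rfl, h1⟩
          have h3 : Multiset.card μ = n := by
            rw [h2, Multiset.sum_replicate, smul_eq_mul, mul_one] at hsum
            exact hsum
          refine ⟨Multiset.replicate m 1, ?_, ?_⟩
          · rw [h2, h3, Multiset.replicate_le_replicate]
            omega
          · rw [Multiset.sum_replicate, smul_eq_mul, mul_one]
      · intro hPC x ⟨c, hxc⟩ hns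
        have hT := Cfsg.Agent.Helper7.POrd.toLin'_pow_eq x hxc
        obtain ⟨U, W, hUW, hUd, hUi, hWi⟩ := Cfsg.Agent.Helper7.POrd.exists_isCompl_of_char (m := m)
          (Matrix.toLin' (x : Matrix (Fin n) (Fin n) F)) (hc0 x c hxc) hT (by rw [hfr]; exact hPC)
        exact ⟨U, W, hUW, hUd, (Cfsg.Agent.Helper7.POrd.map_le_iff_mem_invt _ U).mpr hUi,
          (Cfsg.Agent.Helper7.POrd.map_le_iff_mem_invt _ W).mpr hWi⟩
    rw [hkey]
    constructor
    · intro hPC
      by_cases h2 : r = 2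
      · refine Or.inr (Or.inl ⟨rfl, h2, ?_⟩)
        subst h2
        exact (Cfsg.Agent.Helper7.POrd.pc_two_iff (by omega)).mp hPC
      · refine Or.inl ⟨rfl, ?_, hPC⟩
        have := hr.two_le
        omega
    · rintro (⟨-, -, hPC⟩ | ⟨-, h2, hcond⟩ | ⟨hne, -⟩)
      · exact hPC
      · subst h2
        exact (Cfsg.Agent.Helper7.POrd.pc_two_iff (by omega)).mpr hcond
      · exact absurd rfl hne
  · have hrΩ' : r ∣ Nat.card {W : Submodule F (Fin n → F) // Module.finrank F ↥W = m} :=
      Cfsg.Agent.Helper7.POrd.dvd_card_sub_of_dvd_card_cpair (F := F) (V := Fin n → F) m hr hrp hrΩ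
    have hT' : (n, Fintype.card F) ≠ (2, 2) ∧ (n, Fintype.card F) ≠ (2, 3) := by
      constructor <;> (intro h; have := (Prod.mk.inj h).1; omega)
    have h49 := Cfsg.Agent.S5949.result (F := F) (p := p) rfl n m (by omega) hT' hm (by omega) r hrΩ'
    constructor
    · intro hall
      refine Or.inr (Or.inr ?_)
      apply h49.mp
      intro x hx hns
      obtain ⟨U, W, -, hUd, hUi, -⟩ := hall x hx hns
      exact ⟨U, hUd, hUi⟩
    · rintro (⟨h, -⟩ | ⟨h, -⟩ | hcond)
      · exact absurd h hrp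
      · exact absurd h hrp
      · intro x hx hns
        obtain ⟨U, hUd, hUi⟩ := h49.mpr hcond x hx hns
        obtain ⟨c, hxc⟩ := hx
        have hT := Cfsg.Agent.Helper7.POrd.toLin'_pow_eq x hxc
        obtain ⟨W, hWi, hUW⟩ := Cfsg.Agent.Helper7.POrd.exists_invt_compl hrp (hc0 x c hxc) hT
          ((Cfsg.Agent.Helper7.POrd.map_le_iff_mem_invt _ U).mp hUi)
        exact ⟨U, W, hUW, hUd, hUi, (Cfsg.Agent.Helper7.POrd.map_le_iff_mem_invt _ W).mpr hWi⟩

end Cfsg.Agent.S5950
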