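import Cfsg.Statements.S5951
import Cfsg.Agent.Helper7.POrdO

set_option autoImplicit false
open scoped MatrixGroups
open Cfsg

namespace Cfsg.Agent.S5951

/-- Elements of prime order of PSL_n(q) fixing no pair of subspaces `U < W` with `dim U = m`, `dim W = n − m`. Here `T = PSL_n(F)` for a field `F` with `q = p^f` elements (`n ≥ 2`, `(n, q) ≠ (2, 2), (2, 3)`); an element of `T` of prime order `r` is represented by a matrix `x` of determinant 1 with `x^r` scalar and `x` not scalar; `i` denotes the multiplicative order of `q` modulo `r` (when `r ≠ p`), and `(a)_r` the `r`-part of `a`. Let `1 ≤ m < n/2` and let `r` be a prime dividing the number of such pairs. Then every element of `T` of order `r` fixes such a pair (both `U` and `W`) if and only if `r ≠ p` and either (i) `i = 1` and (`r ∣ m`, or `(q−1)_r ≥ (n)_r` with `q ≡ 1 (mod 4)` required when `r = 2` and `n` is even), or (ii) `2 ≤ i ≤ m` and `n mod i ≥ 2 (m mod i)`. -/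
theorem result {F : Type*} [Field F] [Fintype F] {p : ℕ} [Fact p.Prime] [CharP F p] {q : ℕ} (hq : Fintype.card F = q)
    (n m : ℕ) (hn : 2 ≤ n) (hT : (n, q) ≠ (2, 2) ∧ (n, q) ≠ (2, 3)) (hm : 1 ≤ m) (hmn : 2 * m < n)
    (r : ℕ) [Fact r.Prime]
    (hrΩ : r ∣ Nat.card {P : Submodule F (Fin n → F) × Submodule F (Fin n → F) //
        P.1 ≤ P.2 ∧ Module.finrank F ↥P.1 = m ∧ Module.finrank F ↥P.2 = n - m}) :
    (∀ x : Matrix.SpecialLinearGroup (Fin n) F,
      (∃ c : F, ((x ^ r : Matrix.SpecialLinearGroup (Fin n) F) : Matrix (Fin n) (Fin n) F) = c • (1 : Matrix (Fin n) (Fin n) F)) →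
      (∀ c : F, (x : Matrix (Fin n) (Fin n) F) ≠ c • (1 : Matrix (Fin n) (Fin n) F)) →
      ∃ U W : Submodule F (Fin n → F), U ≤ W ∧ Module.finrank F ↥U = m ∧ Module.finrank F ↥W = n - m ∧
        U.map (Matrix.toLin' (x : Matrix (Fin n) (Fin n) F)) ≤ U ∧ W.map (Matrix.toLin' (x : Matrix (Fin n) (Fin n) F)) ≤ W) ↔
    (r ≠ p ∧
      ((orderOf (q : ZMod r) = 1 ∧ (r ∣ m ∨ (padicValNat r n ≤ padicValNat r (q - 1) ∧ (r = 2 → Even n → q % 4 = 1)))) ∨
       (2 ≤ orderOf (q : ZMod r) ∧ orderOf (q : ZMod r) ≤ m ∧ 2 * (m % orderOf (q : ZMod r)) ≤ n % orderOf (q : ZMod r)))) := by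
  classical
  subst hq
  have hr : r.Prime := Fact.out
  have hrp : r ≠ p := Cfsg.Agent.Helper7.POrd.ne_char_of_dvd_card_flag hmn hrΩ
  have hipos : 0 < orderOf ((Fintype.card F : ℕ) : ZMod r) := Cfsg.Agent.Helper7.POrd.orderOf_q_pos hrp
  have hfr : Module.finrank F (Fin n → F) = n := Module.finrank_fin_fun F
  constructor
  · intro hall
    refine ⟨hrp, ?_⟩
    by_cases hi : orderOf ((Fintype.card F : ℕ) : ZMod r) = 1
    · refine Or.inl ⟨hi, ?_⟩
      by_contra hfail
      rw [not_or] at hfail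
      obtain ⟨hrm, hfail⟩ := hfail
      have hrq : r ∣ Fintype.card F - 1 :=
        (Cfsg.Agent.Helper7.POrd.orderOf_eq_one_iff_dvd Fintype.card_pos).mp hi
      obtain ⟨⟨N, hN⟩, c, hc, hdet⟩ :=
        Cfsg.Agent.Helper7.POrd.exists_bad_scalar (F := F) (n := n) (by omega) hrq hfail
      subst hN
      have hNpos : 0 < N := by
        rcases Nat.eq_zero_or_pos N with h | h
        · rw [h, mul_zero] at hn; omega
        · exact h
      rw [Nat.mul_div_cancel_left _ hr.pos] at hdet
      obtain ⟨x, hx1, hx2, hx3⟩ := Cfsg.Agent.Helper7.POrd.exists_model_irred hr hNpos hc hdet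
      obtain ⟨U, W, -, hU1, -, hU2, -⟩ := hall x ⟨c, hx1⟩ hx2
      exact hrm (hU1 ▸ hx3 U hU2)
    · have hi2 : 2 ≤ orderOf ((Fintype.card F : ℕ) : ZMod r) := by omega
      have hmod : 2 * (m % orderOf ((Fintype.card F : ℕ) : ZMod r)) ≤
          n % orderOf ((Fintype.card F : ℕ) : ZMod r) := by
        by_contra hlt
        rw [not_le] at hlt
        have hin : orderOf ((Fintype.card F : ℕ) : ZMod r) ≤ n := by
          by_contra hni
          rw [not_le] at hni
          rw [Nat.mod_eq_of_lt hni, Nat.mod_eq_of_lt (by omega)] at hlt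
          omega
        obtain ⟨x, hx1, hx2, hx3⟩ := Cfsg.Agent.Helper7.POrd.exists_model_cyclo_fix (F := F) hrp n hi hin
        obtain ⟨U, W, hUW, hU1, hW1, hU2, hW2⟩ := hall x ⟨1, hx1⟩ hx2
        have hT := Cfsg.Agent.Helper7.POrd.toLin'_pow_eq x hx1
        rw [map_one] at hT
        have hklt := Nat.mod_lt n hipos
        have hfixlt := lt_of_le_of_lt hx3 hklt
        have hUi := (Cfsg.Agent.Helper7.POrd.map_le_iff_mem_invt _ U).mp hU2
        have hWi := (Cfsg.Agent.Helper7.POrd.map_le_iff_mem_invt _ W).mp hW2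
        have h1 := Cfsg.Agent.Helper7.POrd.finrank_mod_eq hrp hT hfixlt hUi
        have h2 := Cfsg.Agent.Helper7.POrd.finrank_mod_eq hrp hT hfixlt hWi
        rw [hU1] at h1
        rw [hW1] at h2
        have h3 : Module.finrank F ↥(U ⊓ Cfsg.Agent.Helper7.POrd.fixS (Matrix.toLin' (x : Matrix (Fin n) (Fin n) F))) ≤
            Module.finrank F ↥(W ⊓ Cfsg.Agent.Helper7.POrd.fixS (Matrix.toLin' (x : Matrix (Fin n) (Fin n) F))) :=
          Submodule.finrank_mono (inf_le_inf_right _ hUW)
        have h4 : Module.finrank F ↥(W ⊓ Cfsg.Agent.Helper7.POrd.fixS (Matrix.toLin' (x : Matrix (Fin n) (Fin n) F))) ≤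
            n % orderOf ((Fintype.card F : ℕ) : ZMod r) :=
          le_trans (Submodule.finrank_mono inf_le_right) hx3
        rw [← h1, ← h2] at h3
        rw [← h2] at h4
        -- `u ≤ w ≤ k`, `(u + w) % i = k`
        have h5 : (m % orderOf ((Fintype.card F : ℕ) : ZMod r) + (n - m) % orderOf ((Fintype.card F : ℕ) : ZMod r)) %
            orderOf ((Fintype.card F : ℕ) : ZMod r) = n % orderOf ((Fintype.card F : ℕ) : ZMod r) := by
          rw [← Nat.add_mod]
          congr 1
          omega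
        have hult := Nat.mod_lt m hipos
        have hwlt := Nat.mod_lt (n - m) hipos
        generalize orderOf ((Fintype.card F : ℕ) : ZMod r) = i at *
        generalize m % i = u at *
        generalize (n - m) % i = w at *
        generalize n % i = k at *
        by_cases h6 : u + w < i
        · rw [Nat.mod_eq_of_lt h6] at h5
          omega
        · have h7 : (u + w) % i = u + w - i := by
            rw [Nat.mod_eq_sub_mod (by omega), Nat.mod_eq_of_lt (by omega)]
          rw [h7] at h5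
          omega
      refine Or.inr ⟨hi2, ?_, hmod⟩
      by_contra hlt
      rw [not_le] at hlt
      rw [Nat.mod_eq_of_lt hlt] at hmod
      have h' : r ∣ Nat.card (Cfsg.Agent.Helper7.POrd.Flag F (Fin n → F) m (Module.finrank F (Fin n → F) - m)) := by
        rw [hfr]; exact hrΩ
      obtain ⟨t, ht, hdvd⟩ := Cfsg.Agent.Helper7.POrd.exists_dvd_of_dvd_card_flag (F := F) (V := Fin n → F) m
        (by rw [hfr]; omega) hr h'
      rw [hfr] at hdvd
      have h1 := Cfsg.Agent.Helper7.POrd.orderOf_dvd_of_dvd_pow_sub_one hdvd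
      exact Cfsg.Agent.Helper7.POrd.not_dvd_sub_of_lt_mod hipos (by omega) h1
  · rintro ⟨-, hcond⟩ x ⟨c, hxc⟩ hns
    have hT := Cfsg.Agent.Helper7.POrd.toLin'_pow_eq x hxc
    have hdetT : LinearMap.det (Matrix.toLin' (x : Matrix (Fin n) (Fin n) F)) = 1 := by
      rw [LinearMap.det_toLin', x.2]
    have hmod : 2 * (m % orderOf ((Fintype.card F : ℕ) : ZMod r)) ≤ n % orderOf ((Fintype.card F : ℕ) : ZMod r) := by
      rcases hcond with ⟨hi, -⟩ | ⟨-, -, h⟩
      · rw [hi, Nat.mod_one, Nat.mod_one]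
      · exact h
    have hc0 : c ≠ 0 := by
      rintro rfl
      have h1 : ((x ^ r : Matrix.SpecialLinearGroup (Fin n) F) : Matrix (Fin n) (Fin n) F).det = 1 := (x ^ r).2
      haveI : Nonempty (Fin n) := ⟨⟨0, by omega⟩⟩
      rw [hxc, zero_smul, Matrix.det_zero] at h1
      exact zero_ne_one h1
    suffices h : ∃ U W : Submodule F (Fin n → F), U ≤ W ∧ Module.finrank F ↥U = m ∧ Module.finrank F ↥W = n - m ∧
        U ∈ Module.End.invtSubmodule (Matrix.toLin' (x : Matrix (Fin n) (Fin n) F)) ∧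
        W ∈ Module.End.invtSubmodule (Matrix.toLin' (x : Matrix (Fin n) (Fin n) F)) by
      obtain ⟨U, W, h0, h1, h2, h3, h4⟩ := h
      exact ⟨U, W, h0, h1, h2, (Cfsg.Agent.Helper7.POrd.map_le_iff_mem_invt _ U).mpr h3,
        (Cfsg.Agent.Helper7.POrd.map_le_iff_mem_invt _ W).mpr h4⟩
    by_cases hpow : ∃ μ : F, μ ^ r = c
    · obtain ⟨μ, rfl⟩ := hpow
      have hμ : μ ≠ 0 := by
        rintro rfl
        exact hc0 (zero_pow hr.ne_zero)
      exact Cfsg.Agent.Helper7.POrd.exists_flag_of_power hrp (by omega) hmod _ hμ hT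
    · rw [not_exists] at hpow
      have hi : orderOf ((Fintype.card F : ℕ) : ZMod r) = 1 := by
        by_contra hi
        have hrq : ¬ r ∣ Fintype.card F - 1 := by
          rw [← Cfsg.Agent.Helper7.POrd.orderOf_eq_one_iff_dvd Fintype.card_pos]
          exact hi
        obtain ⟨b, hb⟩ := Cfsg.Agent.Helper7.POrd.exists_pow_eq_of_not_dvd hr hrq c
        exact hpow b hb
      rcases hcond with ⟨-, hcond⟩ | ⟨h2, -, -⟩
      · exact Cfsg.Agent.Helper7.POrd.exists_flag_of_nonpower (by omega) (by omega) _ hdetT hpow hT hcond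
      · omega

end Cfsg.Agent.S5951
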