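import Cfsg.Statements.S5953
import Cfsg.Agent.Helper7.UTnpG
import Cfsg.Agent.Helper8.UTIH
import Cfsg.Agent.Helper5.HermCntB

set_option autoImplicit false
open scoped MatrixGroups
open Cfsg

namespace Cfsg.Agent.S5953

open Cfsg.Agent.Helper7.UBlk in
/-- the derangement direction for odd `r ≠ p`. -/
theorem der_odd {F : Type*} [Field F] [Fintype F] {p : ℕ} [Fact p.Prime] [CharP F p] {q : ℕ}
    (hq : Fintype.card F = q ^ 2) (n m : ℕ) (hn : 3 ≤ n) (hm : 1 ≤ m) (hmn : 2 * m ≤ n)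
    (r : ℕ) [Fact r.Prime] (hrp : r ≠ p) (hr2 : r ≠ 2)
    (i b c : ℕ) (hi : i = orderOf (q : ZMod r)) (hb : b = if Even i then i / 2 else i)
    (hc : c = if i % 4 = 0 then i else if i % 4 = 2 then i / 2 else 2 * i)
    (hcnt : n % c < 2 * m)
    (H : ∀ x : Matrix.SpecialLinearGroup (Fin n) F, x ∈ Cfsg.SU n F q →
      (∃ z : F, ((x ^ r : Matrix.SpecialLinearGroup (Fin n) F) : Matrix (Fin n) (Fin n) F) =
        z • (1 : Matrix (Fin n) (Fin n) F)) →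
      (∀ z : F, (x : Matrix (Fin n) (Fin n) F) ≠ z • (1 : Matrix (Fin n) (Fin n) F)) →
      ∃ W : Submodule F (Fin n → F), Module.finrank F ↥W = m ∧
        (∀ u ∈ W, ∀ v ∈ W, Cfsg.hermForm n F q u v = 0) ∧
        W.map (Matrix.toLin' (x : Matrix (Fin n) (Fin n) F)) ≤ W) :
    2 * (m % b) ≤ n % c ∧ (i % 4 ≠ 2 ∨ (r - 1) / b + 2 * (m / b) ≤ n / b) := by
  haveI : Fact (Fintype.card F = q ^ 2) := ⟨hq⟩
  have hB : orderOf ((Fintype.card F : ℕ) : ZMod r) = b := by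
    rw [hb]; exact orderOf_card_eq (F := F) hrp hi
  have hcU : cU F q r = c := by rw [hc]; exact cU_eq_of_orderOf (F := F) hrp hr2 hi
  have hsd : SD F q r ↔ i % 4 = 2 := sd_iff_mod_four (F := F) hrp hr2 hi
  have hi2 : i = 2 ↔ r ∣ q + 1 := orderOf_eq_two_iff hr2 hi
  by_cases hq1 : r ∣ q + 1
  · have h2 := hi2.mpr hq1
    have hb1 : b = 1 := by
      rw [hb, h2, if_pos (by decide)]
    have hle : r - 1 + 2 * m ≤ n := by
      by_contra hcon
      push Not at hcon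
      obtain ⟨x, hx, hz, hns, hW⟩ := exists_diag_der (F := F) hr2 hq1 hn hm hcon
      obtain ⟨W, hWd, hWti, hWinv⟩ := H x hx hz hns
      have := hW W hWti hWinv
      omega
    rw [hb1, Nat.mod_one, Nat.div_one, Nat.div_one, Nat.div_one]
    exact ⟨by omega, Or.inr hle⟩
  · have h := (Cfsg.Agent.Helper8.UTI.main_ti_ne_two (F := F) (n := n) (m := m) hrp hq1 hmn
      (by rw [hcU]; exact hcnt)).mp H
    rw [hB, hcU, hsd] at h
    exact ⟨h.2.1, h.2.2⟩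

/-- Elements of prime order of PSU_n(q) with no fixed totally isotropic `m`-space. -/
theorem result {F : Type*} [Field F] [Fintype F] {p : ℕ} [Fact p.Prime] [CharP F p] {q : ℕ} (hq : Fintype.card F = q ^ 2)
    (n m : ℕ) (hn : 3 ≤ n) (hT : (n, q) ≠ (3, 2)) (hm : 1 ≤ m) (hmn : 2 * m ≤ n)
    (r : ℕ) [Fact r.Prime]
    (hrΩ : r ∣ Nat.card {W : Submodule F (Fin n → F) // Module.finrank F ↥W = m ∧ (∀ u ∈ W, ∀ v ∈ W, Cfsg.hermForm n F q u v = 0)})
    (i b c : ℕ) (hi : i = orderOf (q : ZMod r)) (hb : b = if Even i then i / 2 else i)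
    (hc : c = if i % 4 = 0 then i else if i % 4 = 2 then i / 2 else 2 * i) :
    (∀ x : Matrix.SpecialLinearGroup (Fin n) F, x ∈ Cfsg.SU n F q →
      (∃ z : F, ((x ^ r : Matrix.SpecialLinearGroup (Fin n) F) : Matrix (Fin n) (Fin n) F) = z • (1 : Matrix (Fin n) (Fin n) F)) →
      (∀ z : F, (x : Matrix (Fin n) (Fin n) F) ≠ z • (1 : Matrix (Fin n) (Fin n) F)) →
      ∃ W : Submodule F (Fin n → F), Module.finrank F ↥W = m ∧ (∀ u ∈ W, ∀ v ∈ W, Cfsg.hermForm n F q u v = 0) ∧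
        W.map (Matrix.toLin' (x : Matrix (Fin n) (Fin n) F)) ≤ W) ↔
    ((r = 2 ∧ p ≠ 2 ∧ (2 * m < n ∨ padicValNat 2 (q + 1) ≤ padicValNat 2 n)) ∨
     (r ≠ p ∧ 2 < r ∧ b ≤ m ∧ 2 * (m % b) ≤ n % c ∧
       (i % 4 ≠ 2 ∨ (i % 4 = 2 ∧ (r - 1) / b + 2 * (m / b) ≤ n / b ∧
         (2 < i ∨ (i = 2 ∧ (r ∣ m ∨ padicValNat r n ≤ padicValNat r (q + 1)))))))) := by
  have hrpr : r.Prime := Fact.out
  by_cases hrp : r = p
  · subst hrp
    exact absurd hrΩ (Cfsg.Agent.Helper8.HermReg.not_dvd_card_ti hq n m hmn)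
  by_cases hr2 : r = 2
  · subst hr2
    rw [Cfsg.Agent.Helper8.HermTwo.ti_two hq n m hn hm hmn (Ne.symm hrp)]
    constructor
    · intro h
      exact Or.inl ⟨rfl, Ne.symm hrp, h⟩
    · rintro (⟨-, -, h⟩ | ⟨-, h, -⟩)
      · exact h
      · omega
  · have hr3 : 2 < r := by
      have := hrpr.two_le
      omega
    haveI : Fact (Fintype.card F = q ^ 2) := ⟨hq⟩
    have hcU : Cfsg.Agent.Helper7.UBlk.cU F q r = c := by
      rw [hc]; exact Cfsg.Agent.Helper7.UBlk.cU_eq_of_orderOf (F := F) hrp hr2 hi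
    have hcnt : n % c < 2 * m := by
      have := Cfsg.Agent.Helper5.HermCount.lt_of_dvd_card_ti (F := F) (q := q) hrp n m hmn hrΩ
      rwa [hcU] at this
    refine Iff.trans (Cfsg.Agent.Helper7.UBlk.ti_odd_case hq n m hn hm hmn r hrp hr2 i b c hi hb hc hcnt
      (der_odd hq n m hn hm hmn r hrp hr2 i b c hi hb hc hcnt)) ?_
    constructor
    · intro h
      exact Or.inr ⟨hrp, hr3, h⟩
    · rintro (⟨h, -⟩ | ⟨-, -, h⟩)
      · exact absurd h hr2
      · exact h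

end Cfsg.Agent.S5953
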