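import Cfsg.Statements.S5954
import Cfsg.Agent.Helper7.UBlkL
import Cfsg.Agent.Helper8.HermTwoI
import Cfsg.Agent.Helper8.HermUniG

set_option autoImplicit false
open scoped MatrixGroups
open Cfsg

namespace Cfsg.Agent.S5954

open Cfsg.Agent.Helper7.UBlk Cfsg.Agent.Helper7.SUNd in
/-- the case of an odd prime `r` different from the characteristic. -/
theorem odd_case {F : Type*} [Field F] [Fintype F] {p : ℕ} [Fact p.Prime] [CharP F p] {q : ℕ}
    (hq : Fintype.card F = q ^ 2) (n m : ℕ) (hm : 1 ≤ m) (hmn : 2 * m < n)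
    (r : ℕ) [Fact r.Prime] (hrp : r ≠ p) (hr2 : r ≠ 2)
    (hrΩ : r ∣ Nat.card {W : Submodule F (Fin n → F) // Module.finrank F ↥W = m ∧ (∀ u ∈ W, u ≠ 0 → ∃ v ∈ W, Cfsg.hermForm n F q u v ≠ 0)})
    (i c : ℕ) (hi : i = orderOf (q : ZMod r))
    (hc : c = if i % 4 = 0 then i else if i % 4 = 2 then i / 2 else 2 * i) :
    (∀ x : Matrix.SpecialLinearGroup (Fin n) F, x ∈ Cfsg.SU n F q →
      (∃ z : F, ((x ^ r : Matrix.SpecialLinearGroup (Fin n) F) : Matrix (Fin n) (Fin n) F) = z • (1 : Matrix (Fin n) (Fin n) F)) →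
      (∀ z : F, (x : Matrix (Fin n) (Fin n) F) ≠ z • (1 : Matrix (Fin n) (Fin n) F)) →
      ∃ W : Submodule F (Fin n → F), Module.finrank F ↥W = m ∧ (∀ u ∈ W, u ≠ 0 → ∃ v ∈ W, Cfsg.hermForm n F q u v ≠ 0) ∧
        W.map (Matrix.toLin' (x : Matrix (Fin n) (Fin n) F)) ≤ W) ↔
    ((i ≠ 2 ∧ c ≤ m ∧ m % c ≤ n % c) ∨ (i = 2 ∧ (r ∣ m ∨ padicValNat r n ≤ padicValNat r (q + 1)))) := by
  haveI : Fact (Fintype.card F = q ^ 2) := ⟨hq⟩
  have hrpr : r.Prime := Fact.out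
  have hne : (1 : ZMod r) ≠ -1 := by
    intro h
    have h2 : ((2 : ℕ) : ZMod r) = 0 := by
      push_cast
      linear_combination h
    rw [ZMod.natCast_eq_zero_iff] at h2
    exact hr2 ((Nat.prime_dvd_prime_iff_eq hrpr Nat.prime_two).mp h2)
  have hi2 : i = 2 ↔ r ∣ q + 1 := by
    rw [← ZMod.natCast_eq_zero_iff, Nat.cast_add, Nat.cast_one, hi]
    constructor
    · intro h
      have h1 : (q : ZMod r) ^ 2 = 1 := by rw [← h]; exact pow_orderOf_eq_one _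
      have h2 : (q : ZMod r) * (q : ZMod r) = 1 := by rw [← sq]; exact h1
      rcases mul_self_eq_one_iff.mp h2 with h3 | h3
      · exfalso
        rw [h3, orderOf_one] at h
        omega
      · rw [h3]; ring
    · intro h
      have h3 : (q : ZMod r) = -1 := by linear_combination h
      rw [h3, orderOf_neg_one, if_neg]
      rw [ZMod.ringChar_zmod_n]
      exact hr2
  have hcU : cU F q r = c := by rw [hc]; exact cU_eq_of_orderOf (F := F) hrp hr2 hi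
  by_cases hq1 : r ∣ q + 1
  · refine Iff.trans (main_two (F := F) (n := n) (m := m) hrp hr2 hq1 hm (by omega)) ?_
    have := hi2.mpr hq1
    constructor
    · intro h
      exact Or.inr ⟨this, h⟩
    · rintro (⟨h, -⟩ | ⟨-, h⟩)
      · exact absurd this h
      · exact h
  · refine Iff.trans (main_ne_two (F := F) (n := n) (m := m) hrp hq1 (by omega : m ≤ n)) ?_
    rw [hcU]
    have hne2 : i ≠ 2 := fun h => hq1 (hi2.mp h)
    have hlt : n % c < m := by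
      obtain ⟨m', rfl⟩ : ∃ m', n = m + m' := ⟨n - m, by omega⟩
      have := lt_of_dvd_card_ndeg (F := F) (q := q) hrp (k := m) (m := m') hrΩ
      rwa [hcU] at this
    constructor
    · intro h
      refine Or.inl ⟨hne2, ?_, h⟩
      by_contra hcon
      push Not at hcon
      rw [Nat.mod_eq_of_lt hcon] at h
      omega
    · rintro (⟨-, -, h⟩ | ⟨h, -⟩)
      · exact h
      · exact absurd h hne2

/-- Elements of prime order of PSU_n(q) with no fixed nondegenerate `m`-space. -/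
theorem result {F : Type*} [Field F] [Fintype F] {p : ℕ} [Fact p.Prime] [CharP F p] {q : ℕ} (hq : Fintype.card F = q ^ 2)
    (n m : ℕ) (hn : 3 ≤ n) (hT : (n, q) ≠ (3, 2)) (hm : 1 ≤ m) (hmn : 2 * m < n)
    (r : ℕ) [Fact r.Prime]
    (hrΩ : r ∣ Nat.card {W : Submodule F (Fin n → F) // Module.finrank F ↥W = m ∧ (∀ u ∈ W, u ≠ 0 → ∃ v ∈ W, Cfsg.hermForm n F q u v ≠ 0)})
    (i b c : ℕ) (hi : i = orderOf (q : ZMod r)) (hb : b = if Even i then i / 2 else i)
    (hc : c = if i % 4 = 0 then i else if i % 4 = 2 then i / 2 else 2 * i) :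
    (∀ x : Matrix.SpecialLinearGroup (Fin n) F, x ∈ Cfsg.SU n F q →
      (∃ z : F, ((x ^ r : Matrix.SpecialLinearGroup (Fin n) F) : Matrix (Fin n) (Fin n) F) = z • (1 : Matrix (Fin n) (Fin n) F)) →
      (∀ z : F, (x : Matrix (Fin n) (Fin n) F) ≠ z • (1 : Matrix (Fin n) (Fin n) F)) →
      ∃ W : Submodule F (Fin n → F), Module.finrank F ↥W = m ∧ (∀ u ∈ W, u ≠ 0 → ∃ v ∈ W, Cfsg.hermForm n F q u v ≠ 0) ∧
        W.map (Matrix.toLin' (x : Matrix (Fin n) (Fin n) F)) ≤ W) ↔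
    ((r = p ∧ 2 < p ∧ (∀ μ : Multiset ℕ, (∀ a ∈ μ, 0 < a ∧ a ≤ p) → μ.sum = n → ∃ ν : Multiset ℕ, ν ≤ μ ∧ ν.sum = m)) ∨
     (r = p ∧ p = 2 ∧ (Odd n ∨ Even m)) ∨
     (r = 2 ∧ p ≠ 2 ∧ (Odd n ∨ Even m ∨ (padicValNat 2 n ≤ padicValNat 2 (q + 1) ∧ q % 4 = 3))) ∨
     (r ≠ p ∧ 2 < r ∧ ((i ≠ 2 ∧ c ≤ m ∧ m % c ≤ n % c) ∨ (i = 2 ∧ (r ∣ m ∨ padicValNat r n ≤ padicValNat r (q + 1)))))) := by
  have hrpr : r.Prime := Fact.out
  have hppr : p.Prime := Fact.out
  by_cases hr2 : r = 2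
  · subst hr2
    rw [Cfsg.Agent.Helper8.HermTwo.nd_two hq n m hn hm (by omega)]
    constructor
    · rintro (⟨hp, h⟩ | ⟨hp, h⟩)
      · exact Or.inr (Or.inl ⟨hp.symm, hp, h⟩)
      · exact Or.inr (Or.inr (Or.inl ⟨rfl, hp, h⟩))
    · rintro (⟨hp, h, -⟩ | ⟨hp, -, h⟩ | ⟨-, hp, h⟩ | ⟨-, h, -⟩)
      · omega
      · exact Or.inl ⟨hp.symm, h⟩
      · exact Or.inr ⟨hp, h⟩
      · omega
  · have hr3 : 2 < r := by
      have := hrpr.two_le
      omega
    by_cases hrp : r = p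
    · subst hrp
      rw [Cfsg.Agent.Helper8.HermUni.nd_p hq hr3 n m hn hm hmn]
      constructor
      · intro h
        exact Or.inl ⟨rfl, hr3, h⟩
      · rintro (⟨-, -, h⟩ | ⟨-, h, -⟩ | ⟨h, -⟩ | ⟨h, -⟩)
        · exact h
        · exact absurd h hr2
        · exact absurd h hr2
        · exact absurd rfl h
    · rw [odd_case hq n m hm hmn r hrp hr2 hrΩ i c hi hc]
      constructor
      · intro h
        exact Or.inr (Or.inr (Or.inr ⟨hrp, hr3, h⟩))
      · rintro (⟨h, -⟩ | ⟨h, -⟩ | ⟨h, -⟩ | ⟨-, -, h⟩)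
        · exact absurd h hrp
        · exact absurd h hrp
        · exact absurd h hr2
        · exact h

end Cfsg.Agent.S5954
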