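import Cfsg.Statements.S5956
import Cfsg.Agent.Helper7.SpUnH

set_option autoImplicit false
open scoped MatrixGroups
open Cfsg

namespace Cfsg.Agent.S5956

/-- Elements of prime order of PSp_n(q) with no fixed nondegenerate `m`-space. Here `T = PSp_n(q)` with `n = 2d ≥ 4`, `(n, q) ≠ (4, 2)`, realised through the symplectic matrices over the field `F` with `q` elements (preserving the standard alternating form); an element of `T` of prime order `r` is such a matrix `x` with `x^r` scalar and `x` not scalar. For `r ≠ p` let `i` be the multiplicative order of `q` modulo `r`, `c = i` for `i` even and `c = 2i` for `i` odd, and write `k = n mod c`, `ℓ = m mod i`, `ℓ' = m mod c`, `n' = ⌊n/i⌋`, `m' = ⌊m/i⌋`, `t = (r−1)/i`. Let `m` be even with `2 ≤ m < n/2` and let `r` be a prime dividing the number of nondegenerate `m`-spaces. Then every element of `T` of order `r` fixes a nondegenerate `m`-space if and only if one of: (i) `r = p > 2` and every partition of `n` into parts of size at most `p`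 in which every odd part has even multiplicity contains (as a sub-multiset) a partition of `m` in which every odd part has even multiplicity; (ii) `r = p = 2` and (`n ≡ 2 (mod 4)` or `m ≡ 0 (mod 4)`); (iii) `r = 2 ≠ p`; (iv) `r ≠ p`, `r > 2`, `c ≤ m` and `k ≥ ℓ'`. -/
theorem result {F : Type*} [Field F] [Fintype F] {p : ℕ} [Fact p.Prime] [CharP F p] {q : ℕ} (hq : Fintype.card F = q)
    (d m : ℕ) (hd : 2 ≤ d) (hT : (d, q) ≠ (2, 2)) (hm : 2 ≤ m) (hme : Even m) (hmd : m < d)
    (r : ℕ) [Fact r.Prime]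
    (hrΩ : r ∣ Nat.card {W : Submodule F (Fin d ⊕ Fin d → F) // Module.finrank F ↥W = m ∧ (∀ u ∈ W, u ≠ 0 → ∃ v ∈ W, Cfsg.sympForm d F u v ≠ 0)})
    (i c : ℕ) (hi : i = orderOf (q : ZMod r)) (hc : c = if Even i then i else 2 * i) :
    (∀ x : ↥(Matrix.symplecticGroup (Fin d) F),
      (∃ z : F, ((x ^ r : ↥(Matrix.symplecticGroup (Fin d) F)) : Matrix (Fin d ⊕ Fin d) (Fin d ⊕ Fin d) F) = z • (1 : Matrix (Fin d ⊕ Fin d) (Fin d ⊕ Fin d) F)) →
      (∀ z : F, (x : Matrix (Fin d ⊕ Fin d) (Fin d ⊕ Fin d) F) ≠ z • (1 : Matrix (Fin d ⊕ Fin d) (Fin d ⊕ Fin d) F)) →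
      ∃ W : Submodule F (Fin d ⊕ Fin d → F), Module.finrank F ↥W = m ∧ (∀ u ∈ W, u ≠ 0 → ∃ v ∈ W, Cfsg.sympForm d F u v ≠ 0) ∧
        W.map (Matrix.toLin' (x : Matrix (Fin d ⊕ Fin d) (Fin d ⊕ Fin d) F)) ≤ W) ↔
    ((r = p ∧ 2 < p ∧ (∀ μ : Multiset ℕ, (∀ a ∈ μ, 0 < a ∧ a ≤ p) → (∀ a : ℕ, Odd a → Even (μ.count a)) → μ.sum = 2 * d →
        ∃ ν : Multiset ℕ, ν ≤ μ ∧ ν.sum = m ∧ ∀ a : ℕ, Odd a → Even (ν.count a))) ∨
     (r = p ∧ p = 2 ∧ ((2 * d) % 4 = 2 ∨ m % 4 = 0)) ∨
     (r = 2 ∧ p ≠ 2) ∨
     (r ≠ p ∧ 2 < r ∧ c ≤ m ∧ m % c ≤ (2 * d) % c)) := by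
  classical
  subst hq
  subst hi
  have hc' : c = Cfsg.Agent.Helper7.SpOrd.cOf (orderOf ((Fintype.card F : ℕ) : ZMod r)) := hc
  clear hc
  subst hc'
  have hp : p.Prime := Fact.out
  have hr : r.Prime := Fact.out
  have hd1 : 1 ≤ d := by omega
  have hm2d : m ≤ 2 * d := by omega
  by_cases hrp : r = p
  · subst hrp
    by_cases hp2 : r = 2
    · -- r = p = 2
      subst hp2
      constructor
      · intro hall
        right; left
        refine ⟨rfl, rfl, ?_⟩
        by_contra hcon
        push Not at hcon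
        obtain ⟨h1, h2⟩ := hcon
        have hde : Even d := by
          rcases Nat.even_or_odd d with h | h
          · exact h
          · obtain ⟨e, he⟩ := h
            omega
        obtain ⟨a, ha2, hans, haW⟩ := Cfsg.Agent.Helper7.SpUn.exists_no_nd_char_two (F := F) hd1 hde
        obtain ⟨W, hWd, hWnd, hWinv⟩ := hall a ⟨1, by rw [ha2, one_smul]; rfl⟩ hans
        have := haW W hWnd hWinv
        rw [hWd] at this
        exact h2 this
      · rintro (⟨-, h, -⟩ | ⟨-, -, hcond⟩ | ⟨-, h⟩ | ⟨h, -⟩)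
        · omega
        · intro x hz hns
          obtain ⟨z, hz⟩ := hz
          have hXr : (Matrix.toLin' (x : Matrix (Fin d ⊕ Fin d) (Fin d ⊕ Fin d) F) :
              Module.End F (Fin d ⊕ Fin d → F)) ^ 2 = z • (1 : Module.End F (Fin d ⊕ Fin d → F)) := by
            rw [Cfsg.Agent.Helper7.SpOrd.toLin'_pow_symp, hz, map_smul, Matrix.toLin'_one]
            rfl
          have hz2 := Cfsg.Agent.Helper7.SpOrd.scalar_sq_eq_one hd1 (Cfsg.Agent.Helper7.SpOrd.sB_iso x) hXr
          have h20 : (2 : F) = 0 := CharTwo.two_eq_zero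
          have hz1 : z = 1 := by
            have h3 : (z - 1) * (z - 1) = 0 := by linear_combination hz2 + (1 - z) * h20
            have h4 := mul_self_eq_zero.mp h3
            exact sub_eq_zero.mp h4
          have hx2 : x ^ 2 = 1 := by
            apply Subtype.ext
            rw [hz, hz1, one_smul]
            rfl
          exact Cfsg.Agent.Helper7.SpUn.exists_nd_invt_char_two hme hm2d hcond x hx2
        · exact absurd rfl h
        · exact absurd rfl h
    · -- r = p odd
      have h2r : 2 < r := by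
        have := hr.two_le
        omega
      constructor
      · intro hall
        left
        exact ⟨rfl, h2r, Cfsg.Agent.Helper7.SpUn.cond_of_forall_p hp2 hme hm2d hall⟩
      · rintro (⟨-, -, hcond⟩ | ⟨-, h, -⟩ | ⟨h, -⟩ | ⟨h, -⟩)
        · intro x hz hns
          obtain ⟨z, hz⟩ := hz
          exact Cfsg.Agent.Helper7.SpUn.exists_nd_invt_p hp2 hd1 hcond x hz
        · exact absurd h hp2
        · exact absurd h hp2
        · exact absurd rfl h
  · by_cases hr2 : r = 2
    · -- r = 2 ≠ p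
      have hp2 : p ≠ 2 := fun h => hrp (by rw [hr2, h])
      constructor
      · intro _
        right; right; left
        exact ⟨hr2, hp2⟩
      · intro _ x hz hns
        obtain ⟨z, hz⟩ := hz
        subst hr2
        exact Cfsg.Agent.Helper7.SpUn.exists_nd_invt_two (p := p) hp2 hd1 hme hm2d x hz
    · -- r odd, r ≠ p
      have h2r : 2 < r := by
        have := hr.two_le
        omega
      constructor
      · intro hall
        right; right; right
        obtain ⟨h, hh⟩ := hme
        have hm2h : m = 2 * h := by omega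
        have hΩ : r ∣ Nat.card (Cfsg.Agent.Helper7.SpUn.NdSub (Cfsg.Agent.Helper8.SpStab.sB d F) (2 * h)) := by
          rw [← hm2h]
          have he : Nat.card {W : Submodule F (Fin d ⊕ Fin d → F) // Module.finrank F ↥W = m ∧
              (∀ u ∈ W, u ≠ 0 → ∃ v ∈ W, Cfsg.sympForm d F u v ≠ 0)} =
              Nat.card (Cfsg.Agent.Helper7.SpUn.NdSub (Cfsg.Agent.Helper8.SpStab.sB d F) m) := by
            apply Nat.card_congr
            apply Equiv.subtypeEquivRight
            intro W
            constructor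
            · rintro ⟨h1, h2⟩
              refine ⟨h1, fun u hu hne => ?_⟩
              obtain ⟨v, hv, hv'⟩ := h2 u hu hne
              exact ⟨v, hv, by rw [Cfsg.Agent.Helper8.SpStab.sB_apply]; exact hv'⟩
            · rintro ⟨h1, h2⟩
              refine ⟨h1, fun u hu hne => ?_⟩
              obtain ⟨v, hv, hv'⟩ := h2 u hu hne
              exact ⟨v, hv, by rw [← Cfsg.Agent.Helper8.SpStab.sB_apply]; exact hv'⟩
          rw [← he]
          exact hrΩ
        obtain ⟨j, hjh, hj⟩ := Cfsg.Agent.Helper7.SpUn.exists_dvd_of_dvd_card_ndSub (p := p)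
          (Cfsg.Agent.Helper7.SpOrd.sB_isAlt (F := F) d) (Cfsg.Agent.Helper7.SpOrd.sB_ND d) h hr hrp hΩ
        rw [Cfsg.Agent.Helper7.SpUn.finrank_std] at hj
        obtain ⟨h1, h2⟩ := Cfsg.Agent.Helper7.SpUn.cond_of_forall_odd_nd hr2 hrp hd1 (by omega) hm2d
          ⟨j, by omega, hj⟩ hall
        exact ⟨hrp, h2r, h1, h2⟩
      · rintro (⟨h, -⟩ | ⟨h, -⟩ | ⟨h, -⟩ | ⟨-, -, -, h4⟩)
        · exact absurd h hrp
        · exact absurd h hrp
        · exact absurd h hr2
        · intro x hz hns
          obtain ⟨z, hz⟩ := hz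
          exact Cfsg.Agent.Helper7.SpUn.exists_nd_invt_odd hr2 hrp hd1 hme hm2d h4 x hz

end Cfsg.Agent.S5956
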