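import Cfsg.Statements.S5959
import Cfsg.Agent.Helper7.NilRkC
import Cfsg.Agent.Helper7.NilRkD

set_option autoImplicit false
open scoped MatrixGroups
open Cfsg

namespace Cfsg.Agent.S5959

/-- Elements of order `p` of PSL_n(q) and imprimitive subgroups: a necessary condition. Here `T = PSL_n(F)` for a field `F` with `q = p^f` elements (`n ≥ 2`, `(n, q) ≠ (2, 2), (2, 3)`), `n = a·t` with `t ≥ 2`, and Ω is the set of direct-sum decompositions of `F^n` into `t` subspaces of dimension `a` (unordered; their number is the number of ordered ones divided by `t!`), whose stabilizers are the imprimitive subgroups of type GL_a(q) ≀ S_t (maximal except in some small cases; maximality is not assumed); an element of `T` of prime order `r` (a matrix `x` of determinant 1 with `x^r` scalar, `x` not scalar) fixes a point of Ω when it permutes the summands of some such decomposition. Suppose `p > 2` divides the number of such decompositions. If every element of `T` of order `p` stabilizes such a decomposition, then every partition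 of `n` into parts of size at most `p` in which the part `p` occurs fewer than `a` times contains (as a sub-multiset) a partition of `a`. -/
theorem result {F : Type*} [Field F] [Fintype F] {p : ℕ} [Fact p.Prime] [CharP F p] {q : ℕ} (hq : Fintype.card F = q)
    (n a t : ℕ) (hn : 2 ≤ n) (hT : (n, q) ≠ (2, 2) ∧ (n, q) ≠ (2, 3)) (hat : n = a * t) (ha : 1 ≤ a) (ht : 2 ≤ t)
    (hp : 2 < p) (hΩ : p ∣ Nat.card {D : Fin t → Submodule F (Fin n → F) // Cfsg.Geo.IsMDecomposition a D} / Nat.factorial t)
    (h : ∀ x : Matrix.SpecialLinearGroup (Fin n) F,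
      (∃ z : F, ((x ^ p : Matrix.SpecialLinearGroup (Fin n) F) : Matrix (Fin n) (Fin n) F) = z • (1 : Matrix (Fin n) (Fin n) F)) →
      (∀ z : F, (x : Matrix (Fin n) (Fin n) F) ≠ z • (1 : Matrix (Fin n) (Fin n) F)) →
      ∃ D : Fin t → Submodule F (Fin n → F), Cfsg.Geo.IsMDecomposition a D ∧
        ∃ σ : Equiv.Perm (Fin t), ∀ j, (D j).map (Matrix.toLin' (x : Matrix (Fin n) (Fin n) F)) = D (σ j)) :
    (∀ μ : Multiset ℕ, (∀ b ∈ μ, 0 < b ∧ b ≤ p) → μ.sum = n → μ.count p < a → ∃ ν : Multiset ℕ, ν ≤ μ ∧ ν.sum = a) := by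
  intro μ hμ hsum hcnt
  by_cases hne : ∃ b ∈ μ, 2 ≤ b
  · obtain ⟨x, N', hlin, hNp, hxp, hns, hcntS, hrkp⟩ :=
      Cfsg.Agent.Helper7.NilRk.exists_model (F := F) n μ hμ hsum hne
    obtain ⟨D, hD, σ, hσ⟩ := h x ⟨1, by rw [Matrix.SpecialLinearGroup.coe_pow, hxp, one_smul]⟩ hns
    have hfp : (1 + N') ^ p = 1 := by
      rw [← hlin, ← Matrix.toLin'_pow, hxp, Matrix.toLin'_one]
      rfl
    rcases Cfsg.Agent.Helper7.NilRk.decomp_analysis N' hNp hfp D hD.two_le hD.pos hD.finrank_eq
      hD.indep hD.iSup_eq_top σ (by rw [← hlin]; exact hσ) with ⟨ν, hν, hνs⟩ | hbig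
    · refine ⟨ν, ?_, hνs⟩
      rw [Multiset.le_iff_count]
      intro m
      have h1 := hν m
      by_cases hm : 1 ≤ m
      · rw [if_pos hm, hcntS, Nat.sub_add_cancel hm] at h1
        exact h1
      · rw [if_neg hm] at h1
        exact le_trans h1 (Nat.zero_le _)
    · rw [hrkp] at hbig
      omega
  · have h1 : ∀ b ∈ μ, b = 1 := by
      intro b hb
      have h2 := (hμ b hb).1
      have h3 : ¬ 2 ≤ b := fun h4 => hne ⟨b, hb, h4⟩
      omega
    have h2 : μ = Multiset.replicate (Multiset.card μ) 1 :=
      Multiset.eq_replicate.mpr ⟨rfl, h1⟩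
    have h3 : Multiset.card μ = n := by
      rw [h2, Multiset.sum_replicate, smul_eq_mul, mul_one] at hsum
      exact hsum
    refine ⟨Multiset.replicate a 1, ?_, ?_⟩
    · rw [h2, h3, Multiset.replicate_le_replicate]
      rw [hat]
      nlinarith
    · rw [Multiset.sum_replicate, smul_eq_mul, mul_one]

end Cfsg.Agent.S5959
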