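import Mathlib
import Cfsg.Statements.S5960
import Cfsg.Agent.Helper8.PlaneDecompC
import Cfsg.Agent.Helper8.SpStabMain
import Cfsg.Agent.Helper7.SympTransitive

set_option autoImplicit false
open scoped MatrixGroups
open Cfsg

namespace Cfsg.Agent.S5960

/-- Involutions of PSp_n(q) and imprimitive subgroups. Here `T = PSp_n(q)`, `n = 2d ≥ 4`, `(n, q) ≠ (4, 2)`, realised through the symplectic matrices over the field `F` with `q` elements and the standard alternating form; `n = a·t` with `a` even and `t ≥ 2`, and Ω is the (nonempty) set of orthogonal decompositions of `F^n` into `t` nondegenerate subspaces of dimension `a` (unordered; counted as ordered ones divided by `t!`), whose stabilizers are the imprimitive subgroups of type Sp_a(q) ≀ S_t (maximality is not assumed); an element of `T` of prime order `r` (a symplectic matrix `x` with `x^r` scalar, `x` not scalar) fixes a point of Ω when it permutes the summands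 of some such decomposition. If the number of such decompositions is even, then every involution of `T` stabilizes one of them (the action is 2-elusive). -/
theorem result {F : Type*} [Field F] [Fintype F] {p : ℕ} [Fact p.Prime] [CharP F p] {q : ℕ} (hq : Fintype.card F = q)
    (d : ℕ) (hd : 2 ≤ d) (hT : (d, q) ≠ (2, 2))
    (a t : ℕ) (hat : 2 * d = a * t) (ha : 2 ≤ a) (hae : Even a) (ht : 2 ≤ t) (hΩ : 2 ∣ Nat.card {D : Fin t → Submodule F (Fin d ⊕ Fin d → F) // (Cfsg.Geo.IsMDecomposition a D ∧ (∀ j, ∀ u ∈ D j, u ≠ 0 → ∃ v ∈ D j, Cfsg.sympForm d F u v ≠ 0) ∧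
          (∀ j j', j ≠ j' → ∀ u ∈ D j, ∀ v ∈ D j', Cfsg.sympForm d F u v = 0))} / Nat.factorial t)
    (x : ↥(Matrix.symplecticGroup (Fin d) F))
    (hx1 : ∃ z : F, ((x ^ 2 : ↥(Matrix.symplecticGroup (Fin d) F)) : Matrix (Fin d ⊕ Fin d) (Fin d ⊕ Fin d) F) = z • (1 : Matrix (Fin d ⊕ Fin d) (Fin d ⊕ Fin d) F))
    (hx2 : ∀ z : F, (x : Matrix (Fin d ⊕ Fin d) (Fin d ⊕ Fin d) F) ≠ z • (1 : Matrix (Fin d ⊕ Fin d) (Fin d ⊕ Fin d) F)) :
    ∃ D : Fin t → Submodule F (Fin d ⊕ Fin d → F), (Cfsg.Geo.IsMDecomposition a D ∧ (∀ j, ∀ u ∈ D j, u ≠ 0 → ∃ v ∈ D j, Cfsg.sympForm d F u v ≠ 0) ∧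
          (∀ j j', j ≠ j' → ∀ u ∈ D j, ∀ v ∈ D j', Cfsg.sympForm d F u v = 0)) ∧
        ∃ σ : Equiv.Perm (Fin t), ∀ j, (D j).map (Matrix.toLin' (x : Matrix (Fin d ⊕ Fin d) (Fin d ⊕ Fin d) F)) = D (σ j) := by
  classical
  obtain ⟨z, hz⟩ := hx1
  set X : (Fin d ⊕ Fin d → F) →ₗ[F] (Fin d ⊕ Fin d → F) :=
    Matrix.toLin' (x : Matrix (Fin d ⊕ Fin d) (Fin d ⊕ Fin d) F) with hX
  have hxx : ∀ v, X (X v) = z • v := by
    intro v
    have h1 : X (X v) = Matrix.toLin' ((x : Matrix (Fin d ⊕ Fin d) (Fin d ⊕ Fin d) F) *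
        (x : Matrix (Fin d ⊕ Fin d) (Fin d ⊕ Fin d) F)) v := by
      rw [Matrix.toLin'_mul]; rfl
    have h3 : ((x ^ 2 : ↥(Matrix.symplecticGroup (Fin d) F)) : Matrix (Fin d ⊕ Fin d) (Fin d ⊕ Fin d) F)
        = (x : Matrix (Fin d ⊕ Fin d) (Fin d ⊕ Fin d) F) * (x : Matrix (Fin d ⊕ Fin d) (Fin d ⊕ Fin d) F) := by
      rw [pow_two]; rfl
    rw [h1, ← h3, hz, Matrix.toLin'_apply, Matrix.smul_mulVec, Matrix.one_mulVec]
  have hXB : ∀ u v, Cfsg.Agent.Helper8.SpStab.sB d F (X u) (X v) = Cfsg.Agent.Helper8.SpStab.sB d F u v := by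
    intro u v
    rw [Cfsg.Agent.Helper8.SpStab.sB_apply, Cfsg.Agent.Helper8.SpStab.sB_apply, hX,
      Matrix.toLin'_apply, Matrix.toLin'_apply]
    exact Cfsg.Agent.Helper7.Symp.sympForm_mulVec x u v
  have hz0 : z ≠ 0 := by
    intro h0
    have hu0 : (Pi.single (Sum.inl ⟨0, by omega⟩) 1 : Fin d ⊕ Fin d → F) ≠ 0 := by
      intro h
      have := congrFun h (Sum.inl ⟨0, by omega⟩)
      rw [Pi.single_eq_same, Pi.zero_apply] at this
      exact one_ne_zero this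
    apply hu0
    apply Cfsg.Agent.Helper8.SpStab.sB_nondeg
    intro v
    have h1 : Cfsg.Agent.Helper8.SpStab.sB d F (X (X (Pi.single (Sum.inl ⟨0, by omega⟩) 1))) (X (X v)) =
        Cfsg.Agent.Helper8.SpStab.sB d F (Pi.single (Sum.inl ⟨0, by omega⟩) 1) v := by
      rw [hXB, hXB]
    rw [← h1, hxx, h0, zero_smul, map_zero, LinearMap.zero_apply]
  obtain ⟨a', ha'⟩ := hae
  have ha'pos : 0 < a' := by omega
  have hdim : Module.finrank F (Fin d ⊕ Fin d → F) = 2 * (a' * t) := by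
    rw [Module.finrank_pi, Fintype.card_sum, Fintype.card_fin]
    have : a * t = 2 * (a' * t) := by rw [ha']; ring
    omega
  obtain ⟨D, h1, h2, h3, h4, h5, σ, h6⟩ :=
    Cfsg.Agent.Helper8.PlaneDecomp.exists_nondeg_decomposition
      (Cfsg.Agent.Helper8.SpStab.sB d F) Cfsg.Agent.Helper8.SpStab.sB_alt
      Cfsg.Agent.Helper8.SpStab.sB_nondeg X hXB z hz0 hxx a' t ha'pos hdim
  refine ⟨D, ⟨⟨ht, by omega, fun j => by rw [h1 j, ha']; ring, h2, h3⟩, ?_, ?_⟩, σ, h6⟩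
  · intro j u hu hu0
    obtain ⟨v, hv, hv'⟩ := h4 j u hu hu0
    refine ⟨v, hv, ?_⟩
    rw [← Cfsg.Agent.Helper8.SpStab.sB_apply]
    exact hv'
  · intro j j' hjj' u hu v hv
    rw [← Cfsg.Agent.Helper8.SpStab.sB_apply]
    exact h5 j j' hjj' u hu v hv

end Cfsg.Agent.S5960
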