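import Cfsg.Statements.S5961
import Cfsg.Agent.Helper7.SpOrdM

set_option autoImplicit false
open scoped MatrixGroups
open Cfsg

namespace Cfsg.Agent.S5961

/-- Elements of odd prime order of PSp_n(q) and imprimitive subgroups. Here `T = PSp_n(q)`, `n = 2d ≥ 4`, `(n, q) ≠ (4, 2)`, realised through the symplectic matrices over the field `F` with `q` elements and the standard alternating form; `n = a·t` with `a` even and `t ≥ 2`, and Ω is the (nonempty) set of orthogonal decompositions of `F^n` into `t` nondegenerate subspaces of dimension `a` (unordered; counted as ordered ones divided by `t!`), whose stabilizers are the imprimitive subgroups of type Sp_a(q) ≀ S_t (maximality is not assumed); an element of `T` of prime order `r` (a symplectic matrix `x` with `x^r` scalar, `x` not scalar) fixes a point of Ω when it permutes the summands of some such decomposition. Let `r ≠ p` be an odd prime dividing the number of such decompositions,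 let `i` be the multiplicative order of `q` modulo `r`, `c = i` if `i` is even and `c = 2i` if `i` is odd, and write `k = n mod c`, `ℓ = a mod c`. Then every element of `T` of order `r` stabilizes such a decomposition if and only if `c ≤ a` and `k = t·ℓ`. -/
theorem result {F : Type*} [Field F] [Fintype F] {p : ℕ} [Fact p.Prime] [CharP F p] {q : ℕ} (hq : Fintype.card F = q)
    (d : ℕ) (hd : 2 ≤ d) (hT : (d, q) ≠ (2, 2))
    (a t : ℕ) (hat : 2 * d = a * t) (ha : 2 ≤ a) (hae : Even a) (ht : 2 ≤ t)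
    (r : ℕ) [Fact r.Prime] (hr2 : r ≠ 2) (hrp : r ≠ p) (hΩ : r ∣ Nat.card {D : Fin t → Submodule F (Fin d ⊕ Fin d → F) // (Cfsg.Geo.IsMDecomposition a D ∧ (∀ j, ∀ u ∈ D j, u ≠ 0 → ∃ v ∈ D j, Cfsg.sympForm d F u v ≠ 0) ∧
          (∀ j j', j ≠ j' → ∀ u ∈ D j, ∀ v ∈ D j', Cfsg.sympForm d F u v = 0))} / Nat.factorial t)
    (i c : ℕ) (hi : i = orderOf (q : ZMod r)) (hc : c = if Even i then i else 2 * i) :
    (∀ x : ↥(Matrix.symplecticGroup (Fin d) F),
      (∃ z : F, ((x ^ r : ↥(Matrix.symplecticGroup (Fin d) F)) : Matrix (Fin d ⊕ Fin d) (Fin d ⊕ Fin d) F) = z • (1 : Matrix (Fin d ⊕ Fin d) (Fin d ⊕ Fin d) F)) →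
      (∀ z : F, (x : Matrix (Fin d ⊕ Fin d) (Fin d ⊕ Fin d) F) ≠ z • (1 : Matrix (Fin d ⊕ Fin d) (Fin d ⊕ Fin d) F)) →
      ∃ D : Fin t → Submodule F (Fin d ⊕ Fin d → F), (Cfsg.Geo.IsMDecomposition a D ∧ (∀ j, ∀ u ∈ D j, u ≠ 0 → ∃ v ∈ D j, Cfsg.sympForm d F u v ≠ 0) ∧
          (∀ j j', j ≠ j' → ∀ u ∈ D j, ∀ v ∈ D j', Cfsg.sympForm d F u v = 0)) ∧
        ∃ σ : Equiv.Perm (Fin t), ∀ j, (D j).map (Matrix.toLin' (x : Matrix (Fin d ⊕ Fin d) (Fin d ⊕ Fin d) F)) = D (σ j)) ↔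
    (c ≤ a ∧ (2 * d) % c = t * (a % c)) := by
  classical
  subst hq
  have hcdef : c = Cfsg.Agent.Helper7.SpOrd.cOf (orderOf ((Fintype.card F : ℕ) : ZMod r)) := by
    rw [hc, hi]
    rfl
  have ha0 : 0 < a := by omega
  have hd1 : 1 ≤ d := by omega
  constructor
  · intro hall
    -- the counting hypothesis
    have hΩ' : r ∣ Nat.card {D : Fin t → Submodule F (Fin d ⊕ Fin d → F) //
        Cfsg.Agent.Helper7.SpOrd.OD a D} / Nat.factorial t := by
      rw [← Nat.card_congr (Equiv.subtypeEquivRight (fun D => Cfsg.Agent.Helper7.SpOrd.od_iff ht ha0 D))]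
      exact hΩ
    have hcle := Cfsg.Agent.Helper7.SpOrd.cOf_le_of_dvd_card_od hr2 hrp hat ha0 hae hΩ'
    have hall' : ∀ x : Matrix.symplecticGroup (Fin d) F, x ^ r = 1 → x ≠ 1 →
        ∃ D : Fin t → Submodule F (Fin d ⊕ Fin d → F), Cfsg.Agent.Helper7.SpOrd.OD a D ∧
          ∃ σ : Equiv.Perm (Fin t),
          ∀ j, (D j).map (Matrix.toLin' (x : Matrix (Fin d ⊕ Fin d) (Fin d ⊕ Fin d) F)) = D (σ j) := by
      intro x hxr hx1
      have h1 : ∃ z : F, ((x ^ r : ↥(Matrix.symplecticGroup (Fin d) F)) :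
          Matrix (Fin d ⊕ Fin d) (Fin d ⊕ Fin d) F) = z • (1 : Matrix (Fin d ⊕ Fin d) (Fin d ⊕ Fin d) F) := by
        refine ⟨1, ?_⟩
        rw [hxr, one_smul]
        rfl
      obtain ⟨D, hD, σ, hσ⟩ := hall x h1 (Cfsg.Agent.Helper7.SpOrd.not_scalar_of_pow hr2 hd1 hxr hx1)
      exact ⟨D, (Cfsg.Agent.Helper7.SpOrd.od_iff ht ha0 D).mp hD, σ, hσ⟩
    have hca := Cfsg.Agent.Helper7.SpOrd.cOf_le_of_all hr2 hrp hd1 hat ha hcle hall'
    have hmod := Cfsg.Agent.Helper7.SpOrd.mod_eq_of_all hr2 hrp hd1 hat (by omega) hca hall'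
    rw [hcdef]
    exact ⟨hca, hmod⟩
  · rintro ⟨-, hmod⟩ x ⟨z, hz⟩ -
    rw [hcdef] at hmod
    obtain ⟨D, hD, hmap⟩ := Cfsg.Agent.Helper7.SpOrd.exists_invt_od hr2 hrp hd1 hat hae hmod x hz
    refine ⟨D, (Cfsg.Agent.Helper7.SpOrd.od_iff ht ha0 D).mpr hD, 1, fun j => ?_⟩
    rw [hmap j]
    rfl

end Cfsg.Agent.S5961
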