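import Mathlib
import Cfsg.Statements.S5962
import Cfsg.Agent.Helper8.LagPairB
import Cfsg.Agent.Helper8.SpStabMain
import Cfsg.Agent.Helper7.SympTransitive

set_option autoImplicit false
open scoped MatrixGroups
open Cfsg

namespace Cfsg.Agent.S5962

/-- Involutions of PSp_n(q), q odd, and the subgroups GL_{n/2}(q).2. Here `T = PSp_n(q)`, `n = 2d ≥ 4`, `q` odd, realised through the symplectic matrices over the field `F` with `q` elements; Ω is the set of unordered pairs `{U, W}` of complementary totally isotropic `d`-spaces (`F^n = U ⊕ W`), whose stabilizers are the subgroups of type GL_d(q).2 (maximal except in some small cases; maximality is not assumed); an element of `T` of prime order `r` (a symplectic matrix `x` with `x^r` scalar, `x` not scalar) fixes such a pair when it fixes or interchanges `U` and `W`. If the number of such pairs is even, every involution of `T` fixes one of them (the action is 2-elusive).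 -/
theorem result {F : Type*} [Field F] [Fintype F] {p : ℕ} [Fact p.Prime] [CharP F p] {q : ℕ} (hq : Fintype.card F = q)
    (d : ℕ) (hd : 2 ≤ d) (hT : (d, q) ≠ (2, 2)) (hodd : Odd q)
    (hΩ : 2 ∣ Nat.card {P : Submodule F (Fin d ⊕ Fin d → F) × Submodule F (Fin d ⊕ Fin d → F) // IsCompl P.1 P.2 ∧ (∀ u ∈ P.1, ∀ v ∈ P.1, Cfsg.sympForm d F u v = 0) ∧ (∀ u ∈ P.2, ∀ v ∈ P.2, Cfsg.sympForm d F u v = 0)} / 2)
    (x : ↥(Matrix.symplecticGroup (Fin d) F))
    (hx1 : ∃ z : F, ((x ^ 2 : ↥(Matrix.symplecticGroup (Fin d) F)) : Matrix (Fin d ⊕ Fin d) (Fin d ⊕ Fin d) F) = z • (1 : Matrix (Fin d ⊕ Fin d) (Fin d ⊕ Fin d) F))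
    (hx2 : ∀ z : F, (x : Matrix (Fin d ⊕ Fin d) (Fin d ⊕ Fin d) F) ≠ z • (1 : Matrix (Fin d ⊕ Fin d) (Fin d ⊕ Fin d) F)) :
    ∃ U W : Submodule F (Fin d ⊕ Fin d → F), IsCompl U W ∧ (∀ u ∈ U, ∀ v ∈ U, Cfsg.sympForm d F u v = 0) ∧ (∀ u ∈ W, ∀ v ∈ W, Cfsg.sympForm d F u v = 0) ∧
        ((U.map (Matrix.toLin' (x : Matrix (Fin d ⊕ Fin d) (Fin d ⊕ Fin d) F)) = U ∧ W.map (Matrix.toLin' (x : Matrix (Fin d ⊕ Fin d) (Fin d ⊕ Fin d) F)) = W) ∨
         (U.map (Matrix.toLin' (x : Matrix (Fin d ⊕ Fin d) (Fin d ⊕ Fin d) F)) = W ∧ W.map (Matrix.toLin' (x : Matrix (Fin d ⊕ Fin d) (Fin d ⊕ Fin d) F)) = U)) := by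
  classical
  obtain ⟨z, hz⟩ := hx1
  set X : (Fin d ⊕ Fin d → F) →ₗ[F] (Fin d ⊕ Fin d → F) :=
    Matrix.toLin' (x : Matrix (Fin d ⊕ Fin d) (Fin d ⊕ Fin d) F) with hX
  have hxx : ∀ v, X (X v) = z • v := by
    intro v
    have h1 : X (X v) = Matrix.toLin' ((x : Matrix (Fin d ⊕ Fin d) (Fin d ⊕ Fin d) F) *
        (x : Matrix (Fin d ⊕ Fin d) (Fin d ⊕ Fin d) F)) v := by
      rw [Matrix.toLin'_mul]; rfl
    have h3 : ((x ^ 2 : ↥(Matrix.symplecticGroup (Fin d) F)) : Matrix (Fin d ⊕ Fin d) (Fin d ⊕ Fin d) F)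
        = (x : Matrix (Fin d ⊕ Fin d) (Fin d ⊕ Fin d) F) * (x : Matrix (Fin d ⊕ Fin d) (Fin d ⊕ Fin d) F) := by
      rw [pow_two]; rfl
    rw [h1, ← h3, hz, Matrix.toLin'_apply, Matrix.smul_mulVec, Matrix.one_mulVec]
  have h2 : (2 : F) ≠ 0 := by
    intro h20
    obtain ⟨k, hk⟩ := hodd
    have h1 : ((Fintype.card F : ℕ) : F) = 0 := Nat.cast_card_eq_zero F
    rw [hq, hk] at h1
    push_cast at h1
    rw [h20, zero_mul, zero_add] at h1
    exact one_ne_zero h1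
  have hXB : ∀ u v, Cfsg.Agent.Helper8.SpStab.sB d F (X u) (X v) = Cfsg.Agent.Helper8.SpStab.sB d F u v := by
    intro u v
    rw [Cfsg.Agent.Helper8.SpStab.sB_apply, Cfsg.Agent.Helper8.SpStab.sB_apply, hX,
      Matrix.toLin'_apply, Matrix.toLin'_apply]
    exact Cfsg.Agent.Helper7.Symp.sympForm_mulVec x u v
  have hz2 : z = 1 ∨ z = -1 := by
    have hu0 : (Pi.single (Sum.inl ⟨0, by omega⟩) 1 : Fin d ⊕ Fin d → F) ≠ 0 := by
      intro h
      have := congrFun h (Sum.inl ⟨0, by omega⟩)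
      rw [Pi.single_eq_same, Pi.zero_apply] at this
      exact one_ne_zero this
    have hex : ∃ v, Cfsg.Agent.Helper8.SpStab.sB d F (Pi.single (Sum.inl ⟨0, by omega⟩) 1) v ≠ 0 := by
      by_contra hcon
      push_neg at hcon
      exact hu0 (Cfsg.Agent.Helper8.SpStab.sB_nondeg _ hcon)
    obtain ⟨v, hv⟩ := hex
    have h1 : Cfsg.Agent.Helper8.SpStab.sB d F (X (X (Pi.single (Sum.inl ⟨0, by omega⟩) 1))) (X (X v)) =
        Cfsg.Agent.Helper8.SpStab.sB d F (Pi.single (Sum.inl ⟨0, by omega⟩) 1) v := by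
      rw [hXB, hXB]
    rw [hxx, hxx, map_smul, map_smul, LinearMap.smul_apply, smul_eq_mul, smul_eq_mul] at h1
    have h3 : (z - 1) * (z + 1) = 0 := by
      have h4 : (z * z - 1) * Cfsg.Agent.Helper8.SpStab.sB d F (Pi.single (Sum.inl ⟨0, by omega⟩) 1) v = 0 := by
        rw [sub_mul, one_mul, mul_assoc, h1, sub_self]
      rcases mul_eq_zero.1 h4 with h | h
      · rw [← h]; ring
      · exact absurd h hv
    rcases mul_eq_zero.1 h3 with h | h
    · left; exact sub_eq_zero.1 h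
    · right; exact eq_neg_of_add_eq_zero_left h
  obtain ⟨U, W, hc, hU, hW, hact⟩ := Cfsg.Agent.Helper8.LagPair.exists_lagrangian_pair
    (Cfsg.Agent.Helper8.SpStab.sB d F) Cfsg.Agent.Helper8.SpStab.sB_alt
    Cfsg.Agent.Helper8.SpStab.sB_nondeg h2 X hXB z hz2 hxx
  refine ⟨U, W, hc, ?_, ?_, hact⟩
  · intro u hu v hv
    rw [← Cfsg.Agent.Helper8.SpStab.sB_apply]
    exact hU u hu v hv
  · intro u hu v hv
    rw [← Cfsg.Agent.Helper8.SpStab.sB_apply]
    exact hW u hu v hv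

end Cfsg.Agent.S5962
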