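import Cfsg.Statements.S5963
import Cfsg.Agent.Helper7.SpCPG
import Cfsg.Agent.Helper7.SpCPE

set_option autoImplicit false
open scoped MatrixGroups
open Cfsg

namespace Cfsg.Agent.S5963

/-- Derangements of odd prime order of PSp_n(q), q odd, on pairs of complementary totally isotropic subspaces. Here `T = PSp_n(q)`, `n = 2d ≥ 4`, `q` odd, realised through the symplectic matrices over the field `F` with `q` elements; Ω is the set of unordered pairs `{U, W}` of complementary totally isotropic `d`-spaces (`F^n = U ⊕ W`), whose stabilizers are the subgroups of type GL_d(q).2 (maximal except in some small cases; maximality is not assumed); an element of `T` of prime order `r` (a symplectic matrix `x` with `x^r` scalar, `x` not scalar) fixes such a pair when it fixes or interchanges `U` and `W`. For every odd prime `r ≠ p` dividing the number of such pairs, some element of `T` of order `r` fixes no such pair (the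 action is never `r`-elusive for odd `r ≠ p`). -/
theorem result {F : Type*} [Field F] [Fintype F] {p : ℕ} [Fact p.Prime] [CharP F p] {q : ℕ} (hq : Fintype.card F = q)
    (d : ℕ) (hd : 2 ≤ d) (hT : (d, q) ≠ (2, 2)) (hodd : Odd q)
    (r : ℕ) [Fact r.Prime] (hr2 : r ≠ 2) (hrp : r ≠ p) (hΩ : r ∣ Nat.card {P : Submodule F (Fin d ⊕ Fin d → F) × Submodule F (Fin d ⊕ Fin d → F) // IsCompl P.1 P.2 ∧ (∀ u ∈ P.1, ∀ v ∈ P.1, Cfsg.sympForm d F u v = 0) ∧ (∀ u ∈ P.2, ∀ v ∈ P.2, Cfsg.sympForm d F u v = 0)} / 2) :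
    ∃ x : ↥(Matrix.symplecticGroup (Fin d) F),
      (∃ z : F, ((x ^ r : ↥(Matrix.symplecticGroup (Fin d) F)) : Matrix (Fin d ⊕ Fin d) (Fin d ⊕ Fin d) F) = z • (1 : Matrix (Fin d ⊕ Fin d) (Fin d ⊕ Fin d) F)) ∧
      (∀ z : F, (x : Matrix (Fin d ⊕ Fin d) (Fin d ⊕ Fin d) F) ≠ z • (1 : Matrix (Fin d ⊕ Fin d) (Fin d ⊕ Fin d) F)) ∧
      ¬ (∃ U W : Submodule F (Fin d ⊕ Fin d → F), IsCompl U W ∧ (∀ u ∈ U, ∀ v ∈ U, Cfsg.sympForm d F u v = 0) ∧ (∀ u ∈ W, ∀ v ∈ W, Cfsg.sympForm d F u v = 0) ∧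
        ((U.map (Matrix.toLin' (x : Matrix (Fin d ⊕ Fin d) (Fin d ⊕ Fin d) F)) = U ∧ W.map (Matrix.toLin' (x : Matrix (Fin d ⊕ Fin d) (Fin d ⊕ Fin d) F)) = W) ∨
         (U.map (Matrix.toLin' (x : Matrix (Fin d ⊕ Fin d) (Fin d ⊕ Fin d) F)) = W ∧ W.map (Matrix.toLin' (x : Matrix (Fin d ⊕ Fin d) (Fin d ⊕ Fin d) F)) = U))) := by
  classical
  subst hq
  have hd1 : 1 ≤ d := by omega
  have hr : r.Prime := Fact.out
  have hN : r ∣ Nat.card (Cfsg.Agent.Helper7.SpCP.Pairs d F) := by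
    obtain ⟨c, hc⟩ := Cfsg.Agent.Helper7.SpCP.even_card_pairs (F := F) hd1 hodd
    have h2 : Nat.card (Cfsg.Agent.Helper7.SpCP.Pairs d F) / 2 = c := by
      rw [hc]; simp
    have h3 : r ∣ c := by rw [← h2]; exact hΩ
    rw [hc]
    exact Dvd.dvd.mul_left h3 2
  obtain ⟨i₁, hi₁a, hi₁b, hi₁c⟩ := Cfsg.Agent.Helper7.SpCP.exists_i p r hrp hN
  have hex : ∃ j, 1 ≤ j ∧ r ∣ Fintype.card F ^ j + 1 := ⟨i₁, hi₁a, hi₁c⟩
  obtain ⟨i, hi⟩ : ∃ i, i = Nat.find hex := ⟨_, rfl⟩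
  have hPi : 1 ≤ i ∧ r ∣ Fintype.card F ^ i + 1 := by rw [hi]; exact Nat.find_spec hex
  have hile : i ≤ i₁ := by rw [hi]; exact Nat.find_min' hex ⟨hi₁a, hi₁c⟩
  have hmin : ∀ j, 1 ≤ j → j < i → ¬ r ∣ Fintype.card F ^ j + 1 := by
    intro j hj hji h
    rw [hi] at hji
    exact Nat.find_min hex hji ⟨hj, h⟩
  have hord := Cfsg.Agent.Helper7.SpCP.order_lemma (Fintype.card F) r i hr2 hPi.1 hPi.2 hmin
  have hrq : ¬ r ∣ Fintype.card F := by
    intro h
    obtain ⟨n, _, hn⟩ := FiniteField.card F p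
    rw [hn] at h
    have h4 := hr.dvd_of_dvd_pow h
    exact hrp ((Nat.prime_dvd_prime_iff_eq hr (Fact.out : p.Prime)).mp h4)
  have h2F := Cfsg.Agent.Helper7.SpCP.two_ne_zero_of_odd_card (F := F) p hodd
  obtain ⟨x, hx1, hx2, hx3⟩ :=
    Cfsg.Agent.Helper7.SpCP.exists_elt p hodd r i d hPi.1 (hile.trans hi₁b) hPi.2
  refine ⟨x, ⟨1, ?_⟩, ?_,
    Cfsg.Agent.Helper7.SpCP.no_pair r hr2 i hPi.1 (hile.trans hi₁b) x hx1 hx2 hx3 hrq hord⟩
  · rw [hx1, one_smul]
    rfl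
  · intro z hz
    have hzr : z ^ r = 1 := by
      have h5 := congrArg Subtype.val hx1
      rw [SubmonoidClass.coe_pow, hz, smul_pow, one_pow] at h5
      have h6 := congrFun (congrFun h5 (Sum.inl ⟨0, by omega⟩)) (Sum.inl ⟨0, by omega⟩)
      simpa using h6
    have hz2 : z ^ 2 = 1 := by
      have h5 := (SymplecticGroup.mem_iff').mp x.2
      rw [hz] at h5
      have h6 := congrFun (congrFun h5 (Sum.inl ⟨0, by omega⟩)) (Sum.inr ⟨0, by omega⟩)
      simp [Matrix.J, Matrix.smul_mul, Matrix.mul_smul] at h6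
      rw [pow_two]
      exact h6
    obtain ⟨k, hk⟩ := hr.odd_of_ne_two hr2
    have hz1 : z = 1 := by
      rw [hk, pow_succ, pow_mul, hz2, one_pow, one_mul] at hzr
      exact hzr
    apply hx2
    apply Subtype.ext
    rw [hz, hz1, one_smul]
    rfl

end Cfsg.Agent.S5963
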