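import Cfsg.Statements.S5964
import Cfsg.Agent.Helper7.InvolZC

set_option autoImplicit false
open scoped MatrixGroups
open Cfsg

namespace Cfsg.Agent.S5964

/-- Involutions of PSL_n(q) and subfield subgroups. Here `T = PSL_n(F)` for a field `F` with `q = p^f` elements (`n ≥ 2`, `(n, q) ≠ (2, 2), (2, 3)`), `F₀` is the subfield with `q₀` elements where `q = q₀^k` for a prime `k`, and `H` is the subgroup of matrices of determinant 1 lying in the subfield group of `F₀` (invertible matrices over `F₀` times scalars) — a maximal subgroup of type GL_n(q₀) (the case `n = 2`, `q₀ = 2` is excluded); Ω is the set of `T`-conjugates of `H` (cosets of `H`), so an element of `T` of prime order `r` (a matrix `x` of determinant 1 with `x^r` scalar, `x` not scalar) fixes a point of Ω when some conjugate of `x` by a matrix of determinant 1 lies in `H`. Suppose the index of `H` is even. Then every involution of `T` is conjugate in `T` into `H` if and only if either `q` is even, or `k = 2`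 and `(n)_2 ≤ (q − 1)_2`. (For `q` odd and `k` odd the index of `H` is odd, so that case does not arise.) -/
theorem result {F : Type*} [Field F] [Fintype F] {p : ℕ} [Fact p.Prime] [CharP F p] {q : ℕ} (hq : Fintype.card F = q)
    (n : ℕ) (hn : 2 ≤ n) (hT : (n, q) ≠ (2, 2) ∧ (n, q) ≠ (2, 3))
    (F₀ : Subfield F) (k q₀ : ℕ) (hk : k.Prime) (hF₀ : Nat.card ↥F₀ = q₀) (hqk : q = q₀ ^ k) (hC5 : ¬ (n = 2 ∧ q₀ = 2)) (hΩ : 2 ∣ ((Cfsg.Geo.subfieldSubgroup F₀ 1).comap (Matrix.SpecialLinearGroup.toGL : Matrix.SpecialLinearGroup (Fin n) F →* GL (Fin n) F)).index) :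
    (∀ x : Matrix.SpecialLinearGroup (Fin n) F,
      (∃ z : F, ((x ^ 2 : Matrix.SpecialLinearGroup (Fin n) F) : Matrix (Fin n) (Fin n) F) = z • (1 : Matrix (Fin n) (Fin n) F)) →
      (∀ z : F, (x : Matrix (Fin n) (Fin n) F) ≠ z • (1 : Matrix (Fin n) (Fin n) F)) →
      ∃ P : Matrix.SpecialLinearGroup (Fin n) F, P⁻¹ * x * P ∈ ((Cfsg.Geo.subfieldSubgroup F₀ 1).comap (Matrix.SpecialLinearGroup.toGL : Matrix.SpecialLinearGroup (Fin n) F →* GL (Fin n) F))) ↔
    (Odd q → (k = 2 ∧ padicValNat 2 n ≤ padicValNat 2 (q - 1))) := by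
  classical
  subst hq
  have hiff := Cfsg.Agent.Helper7.Invol.two_eq_zero_iff_card (F := F)
  have hn0 : 0 < n := by omega
  have h4of : (2 : F) ≠ 0 → k = 2 → 4 ∣ Fintype.card F - 1 := by
    intro h2 hk2
    rw [hqk, hk2]
    have hodd : Fintype.card F % 2 = 1 := by
      by_contra h
      exact h2 (hiff.2 (by omega))
    have hq₀odd : q₀ % 2 = 1 := by
      rw [hqk, hk2, Nat.pow_mod] at hodd
      rcases Nat.mod_two_eq_zero_or_one q₀ with h | h
      · rw [h] at hodd; simp at hodd
      · exact h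
    obtain ⟨l, hl⟩ : ∃ l, q₀ = 2 * l + 1 := ⟨q₀ / 2, by omega⟩
    refine ⟨l * (l + 1), ?_⟩
    rw [hl]
    have : (2 * l + 1) ^ 2 = 4 * (l * (l + 1)) + 1 := by ring
    omega
  constructor
  · intro hall hoddq
    have h2 : (2 : F) ≠ 0 := by
      intro h
      have := hiff.1 h
      rw [Nat.odd_iff] at hoddq
      omega
    have hk2 : k = 2 := by
      by_contra hk2
      have hkodd : Odd k := hk.odd_of_ne_two hk2
      exact Cfsg.Agent.Helper7.Invol.subf_index_odd h2 hn0 F₀ q₀ k hF₀ hqk hkodd hΩ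
    refine ⟨hk2, ?_⟩
    by_contra hcon
    have h4 := h4of h2 hk2
    obtain ⟨x, z, hz, hxx⟩ := Cfsg.Agent.Helper7.Invol.exists_typeII_elt h2 hn0 h4 hcon
    have hns : ∀ c : F, (x : Matrix (Fin n) (Fin n) F) ≠ c • (1 : Matrix (Fin n) (Fin n) F) := by
      intro c hc
      apply hz
      refine ⟨c, ?_⟩
      apply Cfsg.Agent.Helper7.Invol.smul_one_injective hn0
      rw [← hxx, hc]
      simp [smul_smul]
    obtain ⟨P, hP⟩ := hall x ⟨z, by
      rw [pow_two, Matrix.SpecialLinearGroup.coe_mul]; exact hxx⟩ hns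
    exact Cfsg.Agent.Helper7.Invol.subf_no_typeII_conj h2 hn0 F₀ q₀ hF₀ (by rw [hqk, hk2])
      x z hz hxx P hP
  · intro hcond x hz hns
    obtain ⟨z, hz⟩ := hz
    rw [pow_two, Matrix.SpecialLinearGroup.coe_mul] at hz
    by_cases h2 : (2 : F) = 0
    · exact Cfsg.Agent.Helper7.Invol.subf_char2 h2 hn0 F₀ x z hz hns
    · have hoddq : Odd (Fintype.card F) := by
        rw [Nat.odd_iff]
        by_contra h
        exact h2 (hiff.2 (by omega))
      obtain ⟨hk2, hae⟩ := hcond hoddq
      by_cases hsq : IsSquare z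
      · obtain ⟨μ, hμ⟩ := hsq
        rw [hμ] at hz
        exact Cfsg.Agent.Helper7.Invol.subf_typeI h2 hn0 F₀ x μ hz
      · exfalso
        exact Cfsg.Agent.Helper7.Invol.no_typeII h2 hn0 (h4of h2 hk2) hae
          (x : Matrix (Fin n) (Fin n) F) z hsq hz x.det_coe

end Cfsg.Agent.S5964
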