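import Cfsg.Statements.S5966
import Cfsg.Agent.Helper7.JordL

set_option autoImplicit false
open scoped MatrixGroups
open Cfsg

namespace Cfsg.Agent.S5966

/-- Elements of order 3 of PSL_n(q) in characteristic 3 and subfield subgroups. Here `T = PSL_n(F)` for a field `F` with `q` elements, `q` a power of 3 (`n ≥ 2`, `(n, q) ≠ (2, 2), (2, 3)`), `F₀` is the subfield with `q₀` elements where `q = q₀^k` for a prime `k`, and `H` is the subgroup of matrices of determinant 1 lying in the subfield group of `F₀` (invertible matrices over `F₀` times scalars) — a maximal subgroup of type GL_n(q₀) (the case `n = 2`, `q₀ = 2` is excluded); Ω is the set of `T`-conjugates of `H` (cosets of `H`), so an element of `T` of prime order `r` (a matrix `x` of determinant 1 with `x^r` scalar, `x` not scalar) fixes a point of Ω when some conjugate of `x` by a matrix of determinant 1 lies in `H`. Suppose 3 divides the index of `H`. Then every element of `T` of order 3 is conjugate in `T` into `H` if and only if `n` is odd, or `n` is even and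 `k > 2`. -/
theorem result {F : Type*} [Field F] [Fintype F] [CharP F 3] {q : ℕ} (hq : Fintype.card F = q)
    (n : ℕ) (hn : 2 ≤ n) (hT : (n, q) ≠ (2, 3))
    (F₀ : Subfield F) (k q₀ : ℕ) (hk : k.Prime) (hF₀ : Nat.card ↥F₀ = q₀) (hqk : q = q₀ ^ k) (hC5 : ¬ (n = 2 ∧ q₀ = 2)) (hΩ : 3 ∣ ((Cfsg.Geo.subfieldSubgroup F₀ 1).comap (Matrix.SpecialLinearGroup.toGL : Matrix.SpecialLinearGroup (Fin n) F →* GL (Fin n) F)).index) :
    (∀ x : Matrix.SpecialLinearGroup (Fin n) F,
      (∃ z : F, ((x ^ 3 : Matrix.SpecialLinearGroup (Fin n) F) : Matrix (Fin n) (Fin n) F) = z • (1 : Matrix (Fin n) (Fin n) F)) →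
      (∀ z : F, (x : Matrix (Fin n) (Fin n) F) ≠ z • (1 : Matrix (Fin n) (Fin n) F)) →
      ∃ P : Matrix.SpecialLinearGroup (Fin n) F, P⁻¹ * x * P ∈ ((Cfsg.Geo.subfieldSubgroup F₀ 1).comap (Matrix.SpecialLinearGroup.toGL : Matrix.SpecialLinearGroup (Fin n) F →* GL (Fin n) F))) ↔
    (Odd n ∨ (Even n ∧ 2 < k)) := by
  classical
  have h3 : (3 : F) = 0 := by exact_mod_cast CharP.cast_eq_zero F 3
  have h2 : (2 : F) ≠ 0 := by
    intro h
    have : (1 : F) = 0 := by linear_combination h3 - h
    exact one_ne_zero this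
  have hn0 : 0 < n := by omega
  constructor
  · intro hall
    rcases Nat.even_or_odd n with hev | hodd
    · right
      refine ⟨hev, ?_⟩
      by_contra hk2
      have hk2' : k = 2 := by
        have := hk.two_le
        omega
      subst hk2'
      obtain ⟨m, hm⟩ := hev
      have hm0 : 0 < m := by omega
      obtain ⟨x, hx3, hxns, hxP⟩ := Cfsg.Agent.Helper7.Jord.exists_bad_char3 h3 F₀ q₀ hF₀
        (hq.trans hqk) hm0 (finSumFinEquiv.trans (finCongr hm.symm))
      obtain ⟨P, hP⟩ := hall x ⟨1, hx3⟩ hxns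
      exact hxP P hP
    · left
      exact hodd
  · intro hcond x hx _
    apply Cfsg.Agent.Helper7.Jord.backward_char3 F₀ h3 hn0
      (Cfsg.Agent.Helper7.Jord.exists_cube_root_char3 h3) ?_ x hx
    rcases hcond with hodd | ⟨_, hk2⟩
    · left
      exact hodd
    · right
      intro δ hδ
      have hkodd : Odd k := by
        rcases hk.eq_two_or_odd' with h | h
        · omega
        · exact h
      exact Cfsg.Agent.Helper7.Jord.exists_decomp h2 F₀ q₀ k hF₀ (hq.trans hqk) hkodd δ hδ

end Cfsg.Agent.S5966
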