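import Cfsg.Statements.S5969
import Cfsg.Agent.Helper7.InvolO

set_option autoImplicit false
open scoped MatrixGroups
open Cfsg

namespace Cfsg.Agent.S5969

/-- Involutions of PSL_n(q) and extension-field subgroups of degree 2. Here `T = PSL_n(F)` for a field `F` with `q = p^f` elements (`n ≥ 2`, `(n, q) ≠ (2, 2), (2, 3)`), `k` is a prime dividing `n`, `K` is a subalgebra of the `n × n` matrices that is a field of degree `k` over `F` (an extension-field structure F_{q^k} on `F^n`), and `H` is the subgroup of matrices of determinant 1 normalizing `K` — a subgroup of type GL_{n/k}(q^k) (maximal except in some small cases; maximality is not assumed); Ω is the set of cosets of `H` in `T`, so an element of `T` of prime order `r` (a matrix `x` of determinant 1 with `x^r` scalar, `x` not scalar) fixes a point of Ω when some conjugate of `x` by a matrix of determinant 1 normalizes `K`. Take `k = 2` and suppose the index of `H` is even. Then every involution of `T` is conjugate in `T` into `H` if and only if `n = 2`, or `q` is odd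 and `(q − 1)_2 ≤ (n)_2`. -/
theorem result {F : Type*} [Field F] [Fintype F] {p : ℕ} [Fact p.Prime] [CharP F p] {q : ℕ} (hq : Fintype.card F = q)
    (n : ℕ) (hn : 2 ≤ n) (hT : (n, q) ≠ (2, 2) ∧ (n, q) ≠ (2, 3))
    (k : ℕ) (hk : k.Prime) (hkn : k ∣ n) (K : Subalgebra F (Matrix (Fin n) (Fin n) F)) (hK : Cfsg.Geo.IsFieldSubalgebra k K) (hk2 : k = 2) (hΩ : 2 ∣ ((Cfsg.Geo.subalgebraNormalizer K).comap (Matrix.SpecialLinearGroup.toGL : Matrix.SpecialLinearGroup (Fin n) F →* GL (Fin n) F)).index) :
    (∀ x : Matrix.SpecialLinearGroup (Fin n) F,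
      (∃ z : F, ((x ^ 2 : Matrix.SpecialLinearGroup (Fin n) F) : Matrix (Fin n) (Fin n) F) = z • (1 : Matrix (Fin n) (Fin n) F)) →
      (∀ z : F, (x : Matrix (Fin n) (Fin n) F) ≠ z • (1 : Matrix (Fin n) (Fin n) F)) →
      ∃ P : Matrix.SpecialLinearGroup (Fin n) F, P⁻¹ * x * P ∈ ((Cfsg.Geo.subalgebraNormalizer K).comap (Matrix.SpecialLinearGroup.toGL : Matrix.SpecialLinearGroup (Fin n) F →* GL (Fin n) F))) ↔
    (n = 2 ∨ (Odd q ∧ padicValNat 2 (q - 1) ≤ padicValNat 2 n)) := by
  classical
  subst hk2
  subst hq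
  have hiff := Cfsg.Agent.Helper7.Invol.two_eq_zero_iff_card (F := F)
  constructor
  · intro hall
    by_cases hn2 : n = 2
    · exact Or.inl hn2
    · right
      obtain ⟨h2, hv⟩ := Cfsg.Agent.Helper7.Invol.forward (by omega : 3 ≤ n) K hK hall
      refine ⟨?_, hv⟩
      rw [Nat.odd_iff]
      by_contra hodd
      exact h2 (hiff.2 (by omega))
  · intro hcond x hz hns
    obtain ⟨z, hz⟩ := hz
    rw [pow_two, Matrix.SpecialLinearGroup.coe_mul] at hz
    by_cases h2 : (2 : F) = 0
    · have hn2 : n = 2 := by
        rcases hcond with h | ⟨hodd, -⟩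
        · exact h
        · rw [Nat.odd_iff] at hodd
          have := hiff.1 h2
          omega
      exact Cfsg.Agent.Helper7.Invol.backward_char2 h2 hn2 K hK x z hz hns
    · by_cases hsq : IsSquare z
      · obtain ⟨μ, hμ⟩ := hsq
        rw [hμ] at hz
        refine Cfsg.Agent.Helper7.Invol.backward_typeI h2 hn K hK ?_ x μ hz hns
        rcases hcond with h | ⟨-, h⟩
        · exact Or.inl h
        · exact Or.inr h
      · exact Cfsg.Agent.Helper7.Invol.backward_typeII h2 (by omega) K hK x z hsq hz

end Cfsg.Agent.S5969
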