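import Cfsg.Statements.S5972
import Cfsg.Agent.Helper7.OrTSP

set_option autoImplicit false
open scoped MatrixGroups
open Cfsg

namespace Cfsg.Agent.S5972

/-- Elements of prime order of Ω_n(q), n = 2d+1 ≥ 7, q odd, with no fixed totally singular `m`-space. Here `T = Ω_n(q)` is realised as the commutator subgroup of the isometry group of the quadratic form `x₀² + Σ xᵢyᵢ` over the field `F` with `q` elements (it has trivial centre, so its elements of prime order `r` are used directly); let `1 ≤ m ≤ d` and let `r` be a prime dividing the number of totally singular `m`-spaces. For `r ≠ p` let `i` be the multiplicative order of `q` modulo `r`, `c = i` for `i` even and `c = 2i` for `i` odd, and write `k = n mod c`, `ℓ = m mod i`, `n' = ⌊n/i⌋`, `m' = ⌊m/i⌋`, `t = (r−1)/i`. Then every element of `T` of order `r` fixes some totally singular `m`-space if and only if either (i) `r = 2` and (`m < (n−1)/2` or `q ≡ 1 (mod 4)`); or (ii) `r ≠ p` is odd, `i ≤ m`, `k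 > 2ℓ`, and (`i` is odd or `n' − 2m' ≥ t`). -/
theorem result {F : Type*} [Field F] [Fintype F] {p : ℕ} [Fact p.Prime] [CharP F p] {q : ℕ} (hq : Fintype.card F = q) (hqodd : Odd q)
    (d m : ℕ) (hd : 3 ≤ d) (hm : 1 ≤ m) (hmd : m ≤ d)
    (r : ℕ) [Fact r.Prime]
    (hrΩ : r ∣ Nat.card {W : Submodule F (Unit ⊕ (Fin d ⊕ Fin d) → F) // Module.finrank F ↥W = m ∧ (∀ w ∈ W, Cfsg.quadFormOdd d F w = 0)})
    (i c : ℕ) (hi : i = orderOf (q : ZMod r)) (hc : c = if Even i then i else 2 * i) :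
    (∀ x : GL (Unit ⊕ (Fin d ⊕ Fin d)) F, x ∈ Cfsg.Geo.omegaGL (Cfsg.quadFormOdd d F) → orderOf x = r →
      ∃ W : Submodule F (Unit ⊕ (Fin d ⊕ Fin d) → F), Module.finrank F ↥W = m ∧ (∀ w ∈ W, Cfsg.quadFormOdd d F w = 0) ∧
        W.map (Matrix.toLin' (x : Matrix (Unit ⊕ (Fin d ⊕ Fin d)) (Unit ⊕ (Fin d ⊕ Fin d)) F)) ≤ W) ↔
    ((r = 2 ∧ (m < d ∨ q % 4 = 1)) ∨
     (r ≠ p ∧ 2 < r ∧ i ≤ m ∧ 2 * (m % i) < (2 * d + 1) % c ∧ (Odd i ∨ (r - 1) / i + 2 * (m / i) ≤ (2 * d + 1) / i))) := by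
  classical
  subst hq
  subst hi
  have hc' : c = Cfsg.Agent.Helper7.SpOrd.cOf (orderOf ((Fintype.card F : ℕ) : ZMod r)) := hc
  subst hc'
  have hr : r.Prime := Fact.out
  have h2F : (2 : F) ≠ 0 := by
    intro h20
    have hch : ringChar F = 2 := by
      apply CharP.ringChar_of_prime_eq_zero Nat.prime_two
      exact_mod_cast h20
    have := (FiniteField.even_card_iff_char_two (F := F)).mp hch
    rw [Nat.odd_iff] at hqodd
    omega
  have hrΩ' : r ∣ Nat.card (Cfsg.Agent.Helper7.SpTI.TISub (Cfsg.Agent.Helper7.OrTS.oB d F) m) := by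
    rw [← Cfsg.Agent.Helper7.OrTS.card_ts_eq h2F d m]
    exact hrΩ
  have hrp : r ≠ p := by
    intro h
    rw [h] at hrΩ'
    exact Cfsg.Agent.Helper7.OrTS.char_not_dvd_card_tiSub_s (Cfsg.Agent.Helper7.OrTS.oB_isSymm (F := F) d) h2F
      (Cfsg.Agent.Helper7.OrTS.oB_ND h2F d) (Cfsg.Agent.Helper7.OrTS.finrank_std_odd d) m hmd hrΩ'
  by_cases hr2 : r = 2
  · subst hr2
    constructor
    · intro hall
      left
      refine ⟨rfl, ?_⟩
      by_contra hcon
      push Not at hcon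
      obtain ⟨hm2, hq4⟩ := hcon
      have hodd : Fintype.card F % 2 = 1 := Nat.odd_iff.mp hqodd
      have h3 : Fintype.card F % 4 = 3 := by omega
      have hmd' : m = d := by omega
      obtain ⟨x, hx1, hx2, hx3⟩ := Cfsg.Agent.Helper7.OrTS.exists_no_invt_two (F := F) h2F (d := d) (by omega) h3
      obtain ⟨W, hWd, hWts, hWinv⟩ := hall x hx1 hx2
      have := hx3 W hWts hWinv
      omega
    · rintro (⟨-, hcond⟩ | ⟨-, h, -⟩)
      · intro x hx hxo
        have hx2 : x ^ 2 = 1 := by rw [← hxo]; exact pow_orderOf_eq_one x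
        exact Cfsg.Agent.Helper7.OrTS.exists_ts_invt_two h2F (by omega) hmd hcond x hx hx2
      · omega
  · constructor
    · intro hall
      right
      obtain ⟨h1, h2, h3⟩ := Cfsg.Agent.Helper7.OrTS.cond_of_forall_odd_s h2F hr2 hrp (by omega) hm hmd hrΩ' hall
      refine ⟨hrp, ?_, h1, h2, h3⟩
      have := hr.two_le
      omega
    · rintro (⟨h, -⟩ | ⟨-, -, -, h2, h3⟩)
      · exact absurd h hr2
      · intro x hx hxo
        have hxiso : x ∈ Cfsg.isometryGroup F (Cfsg.quadFormOdd d F) := by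
          obtain ⟨y, -, rfl⟩ := hx
          exact y.2
        have hxr : x ^ r = 1 := by rw [← hxo]; exact pow_orderOf_eq_one x
        exact Cfsg.Agent.Helper7.OrTS.exists_ts_invt_odd h2F hr2 hrp hmd h2 h3 x hxiso hxr

end Cfsg.Agent.S5972
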