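import Cfsg.Statements.S5973
import Cfsg.Agent.Helper7.OpTSV

set_option autoImplicit false
open scoped MatrixGroups
open Cfsg

namespace Cfsg.Agent.S5973

/-- Elements of prime order of PΩ⁺_n(q), n = 2d ≥ 8, with no fixed totally singular `m`-space, `m < n/2`. Here `T = PΩ⁺_n(q)` is realised through `Ω⁺_n(q)`, the commutator subgroup of the isometry group of the quadratic form `Σ xᵢyᵢ` over the field `F` with `q` elements; an element of `T` of prime order `r` is an element `x` of `Ω⁺_n(q)` with `x^r` scalar and `x` not scalar. Let `1 ≤ m < d` and let `r` be a prime dividing the number of totally singular `m`-spaces. For `r ≠ p` let `i` be the multiplicative order of `q` modulo `r`, `c = i` for `i` even and `c = 2i` for `i` odd, and write `k = n mod c`, `ℓ = m mod i`, `n' = ⌊n/i⌋`, `m' = ⌊m/i⌋`, `t = (r−1)/i`. Then every element of `T` of order `r` fixes some totally singular `m`-space if and only if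 one of: (i) `r = 2 ≠ p` and either `q ≡ 1 (mod 4)`, or `q ≡ 3 (mod 4)`, `m ≤ n/2 − 2` and (`m` even or `n ≡ 2 (mod 4)`); (ii) `r ≠ p` odd, `i` odd, `i ≤ m` and `k ≥ 2ℓ`; (iii) `r ≠ p` odd, `i` even, `i ≤ m`, `n' − 2m' ≥ t`, and one of: `i ≥ 2ℓ`, `k = 0`, `n/i` odd and `n' − 2m' > t`; or `k ≥ 2ℓ` and `n'` even; or `k > 2ℓ` and `n'` odd. -/
theorem result {F : Type*} [Field F] [Fintype F] {p : ℕ} [Fact p.Prime] [CharP F p] {q : ℕ} (hq : Fintype.card F = q)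
    (d m : ℕ) (hd : 4 ≤ d) (hm : 1 ≤ m) (hmd : m < d)
    (r : ℕ) [Fact r.Prime]
    (hrΩ : r ∣ Nat.card {W : Submodule F (Fin d ⊕ Fin d → F) // Module.finrank F ↥W = m ∧ (∀ w ∈ W, Cfsg.quadFormPlus d F w = 0)})
    (i c : ℕ) (hi : i = orderOf (q : ZMod r)) (hc : c = if Even i then i else 2 * i) :
    (∀ x : GL (Fin d ⊕ Fin d) F, x ∈ Cfsg.Geo.omegaGL (Cfsg.quadFormPlus d F) →
      (∃ z : F, ((x ^ r : GL (Fin d ⊕ Fin d) F) : Matrix (Fin d ⊕ Fin d) (Fin d ⊕ Fin d) F) = z • (1 : Matrix (Fin d ⊕ Fin d) (Fin d ⊕ Fin d) F)) →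
      (∀ z : F, (x : Matrix (Fin d ⊕ Fin d) (Fin d ⊕ Fin d) F) ≠ z • (1 : Matrix (Fin d ⊕ Fin d) (Fin d ⊕ Fin d) F)) →
      ∃ W : Submodule F (Fin d ⊕ Fin d → F), Module.finrank F ↥W = m ∧ (∀ w ∈ W, Cfsg.quadFormPlus d F w = 0) ∧
        W.map (Matrix.toLin' (x : Matrix (Fin d ⊕ Fin d) (Fin d ⊕ Fin d) F)) ≤ W) ↔
    ((r = 2 ∧ p ≠ 2 ∧ (q % 4 = 1 ∨ (q % 4 = 3 ∧ m + 2 ≤ d ∧ (Even m ∨ (2 * d) % 4 = 2)))) ∨
     (r ≠ p ∧ 2 < r ∧ Odd i ∧ i ≤ m ∧ 2 * (m % i) ≤ (2 * d) % c) ∨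
     (r ≠ p ∧ 2 < r ∧ Even i ∧ i ≤ m ∧ (r - 1) / i + 2 * (m / i) ≤ (2 * d) / i ∧
       ((2 * (m % i) ≤ i ∧ (2 * d) % c = 0 ∧ Odd ((2 * d) / i) ∧ (r - 1) / i + 2 * (m / i) < (2 * d) / i) ∨
        (2 * (m % i) ≤ (2 * d) % c ∧ Even ((2 * d) / i)) ∨
        (2 * (m % i) < (2 * d) % c ∧ Odd ((2 * d) / i))))) := by
  classical
  subst hq
  subst hi
  have hc' : c = Cfsg.Agent.Helper7.SpOrd.cOf (orderOf ((Fintype.card F : ℕ) : ZMod r)) := hc
  subst hc'
  have hr : r.Prime := Fact.out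
  have hp : p.Prime := Fact.out
  have hQs := Cfsg.Agent.Helper7.QPa.plus_nd_top (F := F) d
  have hdimV : Module.finrank F (Fin d ⊕ Fin d → F) = 2 * d := Cfsg.Agent.Helper8.StdForms.finrank_plus F d
  have hcard : Fintype.card (Fin d ⊕ Fin d) = 2 * d := by
    rw [Fintype.card_sum, Fintype.card_fin]
    ring
  have hrΩ' : r ∣ Nat.card (Cfsg.Agent.Helper7.OpTS.TSSub (Cfsg.Agent.Helper8.StdForms.plusForm F d) m) := by
    rw [← Cfsg.Agent.Helper7.OpTS.card_ts_eq_plus d m]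
    exact hrΩ
  have hrp : r ≠ p := by
    intro h
    rw [h] at hrΩ'
    exact Cfsg.Agent.Helper7.OpTS.char_not_dvd_card_tsSub hQs hdimV m hmd hrΩ'
  by_cases hr2 : r = 2
  · subst hr2
    have hp2 : p ≠ 2 := fun h => hrp h.symm
    have h2F : (2 : F) ≠ 0 := by
      intro h20
      have h1 : ((2 : ℕ) : F) = 0 := by exact_mod_cast h20
      rw [CharP.cast_eq_zero_iff F p] at h1
      exact hp2 ((Nat.prime_dvd_prime_iff_eq hp Nat.prime_two).mp h1)
    have hqodd : Odd (Fintype.card F) := by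
      rw [← Nat.not_even_iff_odd]
      intro hev
      have hch : ringChar F = 2 := (FiniteField.even_card_iff_char_two (F := F)).mpr (Nat.even_iff.mp hev)
      apply h2F
      have h1 : ((ringChar F : ℕ) : F) = 0 := ringChar.Nat.cast_ringChar
      rw [hch] at h1
      exact_mod_cast h1
    rw [Cfsg.Agent.Helper7.OpTS.two_case_iff_ts_plus h2F hqodd (by omega) hm hmd]
    constructor
    · intro h
      exact Or.inl ⟨rfl, hp2, h⟩
    · rintro (⟨-, -, h⟩ | ⟨-, h, -⟩ | ⟨-, h, -⟩)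
      · exact h
      · omega
      · omega
  · have hr2lt : 2 < r := by
      have := hr.two_le
      omega
    have hmain := Cfsg.Agent.Helper7.OpTS.odd_case_iff_ts (Cfsg.Agent.Helper8.StdForms.plusForm F d) hQs
      (by omega) hcard hr2 hrp hm hmd hrΩ'
    rw [Cfsg.Agent.Helper7.QPa.plusForm_coe] at hmain
    rw [hmain, Cfsg.Agent.Helper7.OpTS.plus_cond_iff (Cfsg.Agent.Helper7.QPa.plus_hyp_top d)]
    constructor
    · rintro (h | h)
      · exact Or.inr (Or.inl ⟨hrp, hr2lt, h⟩)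
      · exact Or.inr (Or.inr ⟨hrp, hr2lt, h⟩)
    · rintro (⟨h, -⟩ | ⟨-, -, h⟩ | ⟨-, -, h⟩)
      · exact absurd h hr2
      · exact Or.inl h
      · exact Or.inr h

end Cfsg.Agent.S5973
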