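import Cfsg.Statements.S5981
import Cfsg.Agent.Helper1.SLOD
import Cfsg.Agent.Helper1.SLOF
import Cfsg.Agent.Helper1.SLOI
import Cfsg.Agent.Helper1.SLON
import Cfsg.Agent.Helper4.SLOExcC

set_option autoImplicit false
open scoped MatrixGroups
open Cfsg

namespace Cfsg.Agent.S5981

open Cfsg.Agent.Helper1.SLO

theorem result {F : Type*} [Field F] [Fintype F] {p : ℕ} [Fact p.Prime] [CharP F p] {q : ℕ} (hq : Fintype.card F = q)
    (hodd : Odd q) (n : ℕ) (hn : 3 ≤ n) (Q : (Fin n → F) → F) (hQ : Cfsg.Geo.IsNondegenerateQuadraticForm Q)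
    (r : ℕ) [Fact r.Prime] (hgap : ¬ (n = 6 ∧ r = 3))
    (hΩ : r ∣ (Cfsg.Geo.quadSimilarityGroup Q).relIndex (Cfsg.Geo.specialLinear (Fin n) F)) :
    (∀ x ∈ Cfsg.Geo.specialLinear (Fin n) F, (∃ z : F, ((x ^ r : GL (Fin n) F) : Matrix (Fin n) (Fin n) F) = z • (1 : Matrix (Fin n) (Fin n) F)) →
      (∀ z : F, (x : Matrix (Fin n) (Fin n) F) ≠ z • (1 : Matrix (Fin n) (Fin n) F)) →
      ∃ g ∈ Cfsg.Geo.specialLinear (Fin n) F, g⁻¹ * x * g ∈ Cfsg.Geo.quadSimilarityGroup Q) ↔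
    (r = 2 ∨ ((r = 3 ∨ r = 5) ∧ n = r ∧ padicValNat r (q - 1) = 1)) := by
  subst hq
  have hr : Fact r.Prime := inferInstance
  have hp2 : p ≠ 2 := by
    intro hp
    subst hp
    obtain ⟨k, -, hk⟩ := FiniteField.card F 2
    rw [hk] at hodd
    have : Even (2 ^ (k : ℕ)) := (Nat.even_pow' k.ne_zero).mpr even_two
    exact (Nat.not_odd_iff_even.mpr this) hodd
  have h2 : (2 : F) ≠ 0 := by
    intro h
    have h1 : ((2 : ℕ) : F) = 0 := by exact_mod_cast h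
    have h3 := (CharP.cast_eq_zero_iff F p 2).mp h1
    exact hp2 ((Nat.prime_dvd_prime_iff_eq (Fact.out) Nat.prime_two).mp h3)
  constructor
  · intro h
    by_contra hcon
    rw [not_or] at hcon
    obtain ⟨hr2, hexc⟩ := hcon
    -- a derangement
    have hx : ∃ x : Matrix (Fin n) (Fin n) F, x.det = 1 ∧
        (∃ z : F, x ^ r = z • (1 : Matrix (Fin n) (Fin n) F)) ∧
        (∀ z : F, x ≠ z • (1 : Matrix (Fin n) (Fin n) F)) ∧ NoSimQ x (nu Q) := by
      by_cases hrp : r = p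
      · subst hrp
        obtain ⟨x, h1, h2, h3, h4⟩ := exists_case_char (F := F) (p := r) hn hp2 (nu Q)
        exact ⟨x, h1, ⟨1, by rw [h2, one_smul]⟩, h3, h4⟩
      by_cases hrq : r ∣ Fintype.card F - 1
      · exact exists_case_dvd hn r hr2 hgap hrq hexc (nu Q)
      rcases cases_of_dvd_index (p := p) h2 hn hQ r hrp hΩ with
        ⟨j, hj, hj3, hjn, hrj⟩ | ⟨d, hd, hnd, hk⟩
      · obtain ⟨x, h1, h2, h3, h4⟩ := exists_case_ext_odd (p := p) h2 r j hj hj3 hjn hrq hrj (nu Q)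
        exact ⟨x, h1, ⟨1, by rw [h2, one_smul]⟩, h3, h4⟩
      · obtain ⟨x, h1, h2, h3, h4⟩ := exists_case_ext_even (p := p) r hr2 d hd hnd hrq (nu Q) hk
        exact ⟨x, h1, ⟨1, by rw [h2, one_smul]⟩, h3, h4⟩
    obtain ⟨x, hdet, ⟨z, hz⟩, hns, hno⟩ := hx
    have hdet' : IsUnit x.det := by rw [hdet]; exact isUnit_one
    set X : GL (Fin n) F := Matrix.GeneralLinearGroup.mk'' x hdet' with hX
    have hXc : (X : Matrix (Fin n) (Fin n) F) = x := rfl
    have hXmem : X ∈ Cfsg.Geo.specialLinear (Fin n) F := by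
      rw [mem_specialLinear_iff, hXc]
      exact hdet
    obtain ⟨g, -, hg⟩ := h X hXmem ⟨z, by rw [Units.val_pow_eq_pow_val, hXc, hz]⟩ (by rw [hXc]; exact hns)
    exact not_mem_of_noSimQ hQ X g (by rw [hXc]; exact hno) hg
  · rintro (hr2 | ⟨hr35, hnr, hv⟩)
    · subst hr2
      intro x _ ⟨z, hz⟩ _
      exact conj_of_sq h2 (by omega) hQ x z hz
    · subst hnr
      intro x hx ⟨z, hz⟩ hns
      exact Cfsg.Agent.Helper4.SLOExc.conj_of_exc h2 n hr35 hv hQ x hx z hz hns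

end Cfsg.Agent.S5981
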