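import Cfsg.Statements.S5982
import Cfsg.Agent.Helper8.SLUd
import Cfsg.Agent.Helper8.SLUe
import Cfsg.Agent.Helper8.SLUi
import Cfsg.Agent.Helper8.SLUj

set_option autoImplicit false
open scoped MatrixGroups
open Cfsg

namespace Cfsg.Agent.S5982

open Cfsg.Agent.Helper8.SLU Cfsg.Agent.Helper8.GUOrder

/-- from a divisor of a complementary twisted factor to the congruence `(-q) ^ j = -1`. -/
theorem neg_pow_of_tT' (q r i : ℕ) (hq : 1 ≤ q) (h : r ∣ tT' q i) :
    (-(q : ZMod r)) ^ (i + 1) = -1 := by
  unfold tT' at h
  split_ifs at h with hi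
  · have h1 : ((q ^ (i + 1) - 1 : ℕ) : ZMod r) = 0 := (ZMod.natCast_eq_zero_iff _ _).mpr h
    rw [Nat.cast_sub (Nat.one_le_pow _ _ hq), Nat.cast_pow, Nat.cast_one, sub_eq_zero] at h1
    rw [neg_pow, h1, mul_one]
    exact Odd.neg_one_pow (Even.add_one hi)
  · have h1 : ((q ^ (i + 1) + 1 : ℕ) : ZMod r) = 0 := (ZMod.natCast_eq_zero_iff _ _).mpr h
    rw [Nat.cast_add, Nat.cast_pow, Nat.cast_one] at h1
    have hodd : Odd i := Nat.not_even_iff_odd.mp hi
    rw [neg_pow, Even.neg_one_pow (Odd.add_one hodd), one_mul]
    exact eq_neg_of_add_eq_zero_left h1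

/-- Elements of prime order of PSL_n(q), q = q₀², and the subgroups of unitary type. Here `T = PSL_n(F)` for a field `F` with `q = q₀²` elements (`n ≥ 3`), `f` is a non-degenerate unitary form on `F^n` for the involutory automorphism `x ↦ x^{q₀}`, and `H` is the subgroup of matrices of determinant 1 that preserve `f` up to a scalar — a subgroup of type GU_n(q₀) (maximality is not assumed); Ω is the set of cosets of `H` in `T`, so an element of `T` of prime order `r` (a matrix `x` of determinant 1 with `x^r` scalar, `x` not scalar) fixes a point of Ω exactly when some conjugate of `x` by a matrix of determinant 1 preserves `f` up to a scalar. Let `r` be a prime dividing the index of `H`, with `r = 2` or `r` different from the characteristic `p`, and with `(n, r) ≠ (6, 3)`. Then every element of `T` of order `r` fixes a point of Ω if and only if either `r = 2` and (`p = 2` or `(n)_2 ≤ (q − 1)_2`), or `r ∈ {3, 5}`, `n = r` and `(q₀ − 1)_r = r`. (Odd `r = p` and the case `(n, r) = (6, 3)` are not covered by this statement.) -/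
theorem result {F : Type*} [Field F] [Fintype F] {p : ℕ} [Fact p.Prime] [CharP F p] {q : ℕ} (hq : Fintype.card F = q)
    (q₀ : ℕ) (hq₀ : q = q₀ ^ 2) (n : ℕ) (hn : 3 ≤ n) (f : (Fin n → F) → (Fin n → F) → F) (hf : Cfsg.Geo.IsUnitaryFormPow q₀ f)
    (r : ℕ) [Fact r.Prime] (hr : r = 2 ∨ r ≠ p) (hgap : ¬ (n = 6 ∧ r = 3))
    (hΩ : r ∣ (Cfsg.Geo.similarityGroup f).relIndex (Cfsg.Geo.specialLinear (Fin n) F)) :
    (∀ x ∈ Cfsg.Geo.specialLinear (Fin n) F, (∃ z : F, ((x ^ r : GL (Fin n) F) : Matrix (Fin n) (Fin n) F) = z • (1 : Matrix (Fin n) (Fin n) F)) →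
      (∀ z : F, (x : Matrix (Fin n) (Fin n) F) ≠ z • (1 : Matrix (Fin n) (Fin n) F)) →
      ∃ g ∈ Cfsg.Geo.specialLinear (Fin n) F, g⁻¹ * x * g ∈ Cfsg.Geo.similarityGroup f) ↔
    ((r = 2 ∧ (p = 2 ∨ padicValNat 2 n ≤ padicValNat 2 (q - 1))) ∨ ((r = 3 ∨ r = 5) ∧ n = r ∧ padicValNat r (q₀ - 1) = 1)) := by
  subst hq₀
  have hF : Fact (Fintype.card F = q₀ ^ 2) := ⟨hq⟩
  have hrp : r.Prime := Fact.out
  have hpp : p.Prime := Fact.out
  have hq2 := two_le_q hq (K := F)
  have hn1 : 1 ≤ n := by omega
  constructor
  · intro H
    by_contra hR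
    push Not at hR
    obtain ⟨hR1, hR2⟩ := hR
    -- it suffices to produce a derangement
    suffices hder : ∃ (x : GL (Fin n) F) (z : F), x ∈ Cfsg.Geo.specialLinear (Fin n) F ∧
        (x : Matrix (Fin n) (Fin n) F) ^ r = z • 1 ∧
        (∀ z : F, (x : Matrix (Fin n) (Fin n) F) ≠ z • 1) ∧
        ∀ g : GL (Fin n) F, g⁻¹ * x * g ∉ Cfsg.Geo.similarityGroup f by
      obtain ⟨x, z, hx, hxz, hns, hno⟩ := hder
      obtain ⟨g, _, hg⟩ := H x hx ⟨z, by rw [Units.val_pow_eq_pow_val]; exact hxz⟩ hns
      exact hno g hg
    by_cases hr2 : r = 2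
    · obtain ⟨hp2, hv⟩ := hR1 hr2
      subst hr2
      exact derangement_two_odd p hp2 hn1 hf (by omega)
    · have hrp' : r ≠ p := hr.resolve_left hr2
      by_cases hrq : r ∣ q₀ - 1
      · by_cases hn7 : 7 ≤ n
        · obtain ⟨m, rfl⟩ : ∃ m, n = m + 3 := ⟨n - 3, by omega⟩
          obtain ⟨x, h1, h2, h3, h4⟩ := derangement_diag3 (by omega : 4 ≤ m) hf r hrp hr2 hrq
          exact ⟨x, 1, h1, h2, h3, h4⟩
        · -- `n ≤ 6`
          have ha1 : 1 ≤ padicValNat r (q₀ - 1) := by
            rw [← padicValNat_dvd_iff_le (by omega), pow_one]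
            exact hrq
          have hb : padicValNat r n < padicValNat r (q₀ - 1) := by
            by_cases hrn : r ∣ n
            · have hle : r ≤ n := Nat.le_of_dvd (by omega) hrn
              have hr3 : 3 ≤ r := by
                have := hrp.two_le
                omega
              have hnr : n = r := by
                have hn6 : n ≤ 6 := by omega
                interval_cases n
                · interval_cases r
                  rfl
                · interval_cases r
                  · omega
                  · omega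
                · interval_cases r
                  · omega
                  · exact absurd hrp (by decide)
                  · rfl
                · interval_cases r
                  · exact absurd ⟨rfl, rfl⟩ hgap
                  · exact absurd hrp (by decide)
                  · omega
                  · exact absurd hrp (by decide)
              have hbn : padicValNat r n = 1 := by
                rw [hnr]
                exact padicValNat_self
              rw [hbn]
              have h35 : r = 3 ∨ r = 5 := by
                have hn6 : n ≤ 6 := by omega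
                rw [← hnr]
                interval_cases n
                · left; rfl
                · exact absurd (hnr ▸ hrp) (by decide)
                · right; rfl
                · exact absurd (hnr ▸ hrp) (by decide)
              have := hR2 h35 hnr
              omega
            · rw [padicValNat.eq_zero_of_not_dvd hrn]
              omega
          obtain ⟨m, rfl⟩ : ∃ m, n = m + 1 := ⟨n - 1, by omega⟩
          have hb1 : r ^ padicValNat r (m + 1) ∣ m + 1 := pow_padicValNat_dvd
          have hb2 : ¬ r ^ (padicValNat r (m + 1) + 1) ∣ m + 1 := by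
            rw [padicValNat_dvd_iff_le (by omega)]
            omega
          have hb3 : r ^ (padicValNat r (m + 1) + 1) ∣ q₀ - 1 := by
            rw [padicValNat_dvd_iff_le (by omega)]
            omega
          exact derangement_diag2 (by omega : 2 ≤ m) hf r hrp hr2 _ hb1 hb2 hb3
      · -- `r` does not divide `q₀ - 1`: one irreducible block
        obtain ⟨i, hi1, hin, hri⟩ := exists_tT'_of_index p hn1 hf r hrp hrp' hΩ
        have hj := neg_pow_of_tT' q₀ r i (by omega) hri
        have hrQ : ¬ r ∣ q₀ ^ 2 - 1 := by
          rw [qsq_sub_one' hq2]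
          intro h
          rcases (Nat.Prime.dvd_mul hrp).mp h with h1 | h1
          · exact hrq h1
          · have h2 : ((q₀ + 1 : ℕ) : ZMod r) = 0 := (ZMod.natCast_eq_zero_iff _ _).mpr h1
            rw [Nat.cast_add, Nat.cast_one] at h2
            have h3 : -(q₀ : ZMod r) = 1 := by
              rw [neg_eq_iff_eq_neg]
              exact eq_neg_of_add_eq_zero_left h2
            rw [h3, one_pow] at hj
            have h4 : ((2 : ℕ) : ZMod r) = 0 := by
              have : (1 : ZMod r) + 1 = 0 := by
                nth_rewrite 1 [hj]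
                ring
              rw [← this]
              norm_num
            rw [ZMod.natCast_eq_zero_iff] at h4
            exact hr2 ((Nat.prime_dvd_prime_iff_eq hrp Nat.prime_two).mp h4)
        obtain ⟨x, h1, h2, h3, h4⟩ := derangement_block p hn1 hf r hrp hr2 hrp' hrQ (i + 1)
          (by omega) (by omega) hj
        exact ⟨x, 1, h1, by rw [h2, one_smul], h3, h4⟩
  · intro hR x hx hxz hns
    obtain ⟨z, hxz⟩ := hxz
    rw [Units.val_pow_eq_pow_val] at hxz
    rcases hR with ⟨rfl, hor⟩ | ⟨h35, hnr, ha⟩
    · by_cases hp2 : p = 2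
      · subst hp2
        exact fix_two_even hn1 hf x z hxz hns
      · have hv : padicValNat 2 n ≤ padicValNat 2 (q₀ ^ 2 - 1) := hor.resolve_left hp2
        exact fix_two_odd p hp2 hn1 hf hv x hx z hxz
    · subst hnr
      exact fix_small p hf h35 ha x hx z hxz hns

end Cfsg.Agent.S5982
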