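import Cfsg.Statements.S5984
import Cfsg.Agent.Helper7.PolK

set_option autoImplicit false
open scoped MatrixGroups
open Cfsg

namespace Cfsg.Agent.S5984

/-- Elements of prime order of PSU_n(q) and the stabilizers of pairs of complementary totally singular subspaces. Here `T = PSU_n(q)` is realised through `SU_n(q)`, the matrices of determinant 1 over the field `F` with `q²` elements preserving the hermitian form `Σ uᵢ vᵢ^q`, with `n ≥ 4` even; `D` is a pair of complementary subspaces of dimension `n/2` on each of which the form vanishes identically, and `H` is the subgroup of `SU_n(q)` fixing or interchanging the two members — a subgroup of type GL_{n/2}(q²).2 (maximality is not assumed). Ω is the set of cosets of `H`, so an element of `T` of prime order `r` (`x ∈ SU_n(q)` with `x^r` scalar, `x` not scalar) fixes a point of Ω exactly when some `SU_n(q)`-conjugate of `x` lies in `H`. Let `r` be a prime dividing the index of `H`. Then every element of `T` of order `r` fixes a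 point of Ω if and only if `r = 2`, `q` is odd and `(q + 1)_2 ≤ (n)_2` (2-parts). -/
theorem result {F : Type*} [Field F] [Fintype F] {p : ℕ} [Fact p.Prime] [CharP F p] {q : ℕ} (hq : Fintype.card F = q ^ 2)
    (n : ℕ) (hn : 4 ≤ n) (he : Even n) (D : Fin 2 → Submodule F (Fin n → F)) (hD : Cfsg.Geo.IsMDecomposition (n / 2) D)
    (hDs : ∀ i, Cfsg.Geo.IsTotallySingularFor (Cfsg.hermForm n F q) (D i))
    (r : ℕ) [Fact r.Prime]
    (hΩ : r ∣ (Cfsg.Geo.decompositionStabilizer D).relIndex (Cfsg.GU n F q ⊓ Cfsg.Geo.specialLinear (Fin n) F)) :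
    (∀ x ∈ Cfsg.GU n F q ⊓ Cfsg.Geo.specialLinear (Fin n) F, (∃ z : F, ((x ^ r : GL (Fin n) F) : Matrix (Fin n) (Fin n) F) = z • (1 : Matrix (Fin n) (Fin n) F)) →
      (∀ z : F, (x : Matrix (Fin n) (Fin n) F) ≠ z • (1 : Matrix (Fin n) (Fin n) F)) →
      ∃ g ∈ Cfsg.GU n F q ⊓ Cfsg.Geo.specialLinear (Fin n) F, g⁻¹ * x * g ∈ Cfsg.Geo.decompositionStabilizer D) ↔
    (r = 2 ∧ Odd q ∧ padicValNat 2 (q + 1) ≤ padicValNat 2 n) := by
  haveI hF : Fact (Fintype.card F = q ^ 2) := ⟨hq⟩
  have hp := (Fact.out : p.Prime)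
  have hr := (Fact.out : r.Prime)
  have hk : 2 ≤ n / 2 := by omega
  have hn0 : n ≠ 0 := by omega
  -- the characteristic and `q`
  obtain ⟨m, -, hcard⟩ := FiniteField.card F p
  have hqm : q ^ 2 = p ^ (m : ℕ) := by rw [← hq, hcard]
  have hpq : p ∣ q := by
    have : p ∣ q ^ 2 := by
      rw [hqm]
      exact dvd_pow_self p m.ne_zero
    exact hp.dvd_of_dvd_pow this
  have hrq : r ≠ p → ¬ r ∣ q := by
    intro hne hdvd
    have h1 : r ∣ p ^ (m : ℕ) := by
      rw [← hqm]
      exact Dvd.dvd.trans hdvd (dvd_pow_self q (by norm_num))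
    exact hne ((Nat.prime_dvd_prime_iff_eq hr hp).mp (hr.dvd_of_dvd_pow h1))
  have h2F : p ≠ 2 → (2 : F) ≠ 0 := by
    intro hne h0
    have : ((2 : ℕ) : F) = 0 := by exact_mod_cast h0
    rw [CharP.cast_eq_zero_iff F p] at this
    exact hne ((Nat.prime_dvd_prime_iff_eq hp Nat.prime_two).mp this)
  have hodd_of : p ≠ 2 → Odd q := by
    intro hne
    rw [← Nat.not_even_iff_odd]
    intro hev
    have h1 : 2 ∣ p ^ (m : ℕ) := by
      rw [← hqm]
      exact Dvd.dvd.trans hev.two_dvd (dvd_pow_self q (by norm_num))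
    exact hne ((Nat.prime_dvd_prime_iff_eq Nat.prime_two hp).mp
      (Nat.prime_two.dvd_of_dvd_pow h1)).symm
  have hp_of_odd : Odd q → p ≠ 2 := by
    intro hodd hp2
    rw [hp2] at hpq
    exact (Nat.not_even_iff_odd.mpr hodd) (even_iff_two_dvd.mpr hpq)
  constructor
  · intro h
    by_cases hrp : r = p
    · exfalso
      obtain ⟨x, hxS, hxr, hxns, hder⟩ :=
        Cfsg.Agent.Helper7.Pol.derangement_p (q := q) (p := p) D hD hDs hk
      rw [← hrp] at hxr
      obtain ⟨g, hg, hmem⟩ := h x hxS hxr hxns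
      exact hder g hg hmem
    · by_cases hr2 : r = 2
      · have hp2 : p ≠ 2 := fun h' => hrp (hr2.trans h'.symm)
        refine ⟨hr2, hodd_of hp2, ?_⟩
        by_contra hcon
        push Not at hcon
        obtain ⟨c, hcq, hcN⟩ :=
          Cfsg.Agent.Helper7.Pol.exists_norm_one_pow_eq_neg_one (F := F) (q := q) hn0 hcon
        obtain ⟨x, hxS, hxr, hxns, hder⟩ :=
          Cfsg.Agent.Helper7.Pol.derangement_two (q := q) (h2F hp2) D hD hDs hk c hcq hcN
        rw [← hr2] at hxr
        obtain ⟨g, hg, hmem⟩ := h x hxS hxr hxns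
        exact hder g hg hmem
      · exfalso
        obtain ⟨j, hj, hdvd⟩ :=
          Cfsg.Agent.Helper7.Pol.exists_odd_dvd (q := q) D hD hDs r hr (hrq hrp) hΩ
        obtain ⟨x, hxS, hxr, hxns, hder⟩ :=
          Cfsg.Agent.Helper7.Pol.derangement_odd (q := q) D hD hDs hk r hr2 (hrq hrp) j hj hdvd
        obtain ⟨g, hg, hmem⟩ := h x hxS hxr hxns
        exact hder g hg hmem
  · rintro ⟨hr2, hqodd, hv2⟩ x hx ⟨z, hz⟩ -
    subst hr2
    exact Cfsg.Agent.Helper7.Pol.fixes_point_of_invol (q := q) D hD hDs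
      (h2F (hp_of_odd hqodd)) hqodd hv2 x hx z hz

end Cfsg.Agent.S5984
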