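import Cfsg.Statements.S5991
import Cfsg.Agent.Helper7.QMiJ

set_option autoImplicit false
open scoped MatrixGroups
open Cfsg

namespace Cfsg.Agent.S5991

/-- Elements of prime order of PΩ⁻_n(q), q odd, with no fixed nondegenerate `m`-space of odd dimension. Here `T = PΩ⁻_n(F)`, `n = 2d ≥ 8`, realised through `Ω⁻_n(q)`, the commutator subgroup of the isometry group of `Q = Σ_{i<d−1} xᵢyᵢ + z₁² + a z₁z₂ + b z₂²` with `z₁² + a z₁z₂ + b z₂²` anisotropic, over the field `F` with `q` elements; an element of `T` of prime order `r` is an element `x` of `Ω⁻_n(q)` with `x^r` scalar and `x` not scalar; `q` and `m` are odd, `1 ≤ m < n/2`. The nondegenerate `m`-spaces fall into two isometry classes, each an orbit of `T`, with equivalent actions; fix one such space `W₀` and let Ω be the set of nondegenerate `m`-spaces isometric to `W₀`. Let `r` be a prime dividing the size of Ω; for `r ≠ p` let `i`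 be the multiplicative order of `q` modulo `r`, `c = i` for `i` even and `c = 2i` for `i` odd, and write `k = n mod c`, `ℓ = m mod i`, `ℓ' = m mod c`, `n' = ⌊n/i⌋`, `m' = ⌊m/i⌋`, `t = (r−1)/i`. Then every element of `T` of order `r` fixes a member of Ω if and only if one of: (i) `r = 2` and (`n ≡ 0 (mod 4)` or `q ≢ 7 (mod 8)`); (ii) `r ≠ p` odd, `i` odd, and `k = 0` or (`c ≤ m` and `k > ℓ' > 0`); (iii) `r ≠ p` odd, `i` even, and either `k = 0` and `n/i` even, or `k > 0`, `i ≤ m` and `k > ℓ' > 0`. (For `r = p` there is always an element of order `p` fixing no member of Ω.) -/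
theorem result {F : Type*} [Field F] [Fintype F] {p : ℕ} [Fact p.Prime] [CharP F p] {q : ℕ} (hq : Fintype.card F = q)
    (hodd : Odd q) (d m : ℕ) (hd : 4 ≤ d) (hm : Odd m) (hmd : m < d) (a b : F) (hab : ∀ x y : F, x ^ 2 + a * x * y + b * y ^ 2 = 0 → x = 0 ∧ y = 0)
    (W₀ : Submodule F ((Fin (d - 1) ⊕ Fin (d - 1)) ⊕ Fin 2 → F)) (hW₀ : Module.finrank F ↥W₀ = m ∧ Cfsg.Geo.IsNondegenerateOn (QuadraticMap.polar (Cfsg.quadFormMinus (d - 1) F a b)) W₀)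
    (r : ℕ) [Fact r.Prime]
    (hrΩ : r ∣ Nat.card {W : Submodule F ((Fin (d - 1) ⊕ Fin (d - 1)) ⊕ Fin 2 → F) // Module.finrank F ↥W = m ∧ Cfsg.Geo.IsNondegenerateOn (QuadraticMap.polar (Cfsg.quadFormMinus (d - 1) F a b)) W ∧ Cfsg.Geo.AreIsometricFor (Cfsg.quadFormMinus (d - 1) F a b) W W₀})
    (i c : ℕ) (hi : i = orderOf (q : ZMod r)) (hc : c = if Even i then i else 2 * i) :
    (∀ x : GL ((Fin (d - 1) ⊕ Fin (d - 1)) ⊕ Fin 2) F, x ∈ Cfsg.Geo.omegaGL (Cfsg.quadFormMinus (d - 1) F a b) →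
      (∃ z : F, ((x ^ r : GL ((Fin (d - 1) ⊕ Fin (d - 1)) ⊕ Fin 2) F) : Matrix ((Fin (d - 1) ⊕ Fin (d - 1)) ⊕ Fin 2) ((Fin (d - 1) ⊕ Fin (d - 1)) ⊕ Fin 2) F) = z • (1 : Matrix ((Fin (d - 1) ⊕ Fin (d - 1)) ⊕ Fin 2) ((Fin (d - 1) ⊕ Fin (d - 1)) ⊕ Fin 2) F)) →
      (∀ z : F, (x : Matrix ((Fin (d - 1) ⊕ Fin (d - 1)) ⊕ Fin 2) ((Fin (d - 1) ⊕ Fin (d - 1)) ⊕ Fin 2) F) ≠ z • (1 : Matrix ((Fin (d - 1) ⊕ Fin (d - 1)) ⊕ Fin 2) ((Fin (d - 1) ⊕ Fin (d - 1)) ⊕ Fin 2) F)) →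
      ∃ W : Submodule F ((Fin (d - 1) ⊕ Fin (d - 1)) ⊕ Fin 2 → F), (Module.finrank F ↥W = m ∧ Cfsg.Geo.IsNondegenerateOn (QuadraticMap.polar (Cfsg.quadFormMinus (d - 1) F a b)) W ∧ Cfsg.Geo.AreIsometricFor (Cfsg.quadFormMinus (d - 1) F a b) W W₀) ∧ W.map (Matrix.toLin' (x : Matrix ((Fin (d - 1) ⊕ Fin (d - 1)) ⊕ Fin 2) ((Fin (d - 1) ⊕ Fin (d - 1)) ⊕ Fin 2) F)) ≤ W) ↔
    ((r = 2 ∧ (Even d ∨ q % 8 ≠ 7)) ∨
     (r ≠ p ∧ 2 < r ∧ Odd i ∧ ((2 * d) % c = 0 ∨ (c ≤ m ∧ 0 < m % c ∧ m % c < (2 * d) % c))) ∨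
     (r ≠ p ∧ 2 < r ∧ Even i ∧ (((2 * d) % c = 0 ∧ Even ((2 * d) / i)) ∨ (0 < (2 * d) % c ∧ i ≤ m ∧ 0 < m % c ∧ m % c < (2 * d) % c)))) := by
  classical
  subst hq
  subst hi
  have hc' : c = Cfsg.Agent.Helper7.SpOrd.cOf (orderOf ((Fintype.card F : ℕ) : ZMod r)) := hc
  subst hc'
  have hr : r.Prime := Fact.out
  have hp : p.Prime := Fact.out
  have h2F : (2 : F) ≠ 0 := by
    intro h20
    have hch : ringChar F = 2 := by
      apply CharP.ringChar_of_prime_eq_zero Nat.prime_two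
      exact_mod_cast h20
    have := (FiniteField.even_card_iff_char_two (F := F)).mp hch
    rw [Nat.odd_iff] at hodd
    omega
  have hp2 : p ≠ 2 := by
    intro h
    apply h2F
    have h1 : ((p : ℕ) : F) = 0 := CharP.cast_eq_zero F p
    rw [h] at h1
    exact_mod_cast h1
  obtain ⟨h, rfl⟩ := hm
  obtain ⟨hW₀d, hW₀nd⟩ := hW₀
  have hdk : d = (d - 1) + 1 := by omega
  rw [Cfsg.Agent.Helper7.QMi.nd_iff_minus] at hW₀nd
  obtain ⟨c₀, hc₀, hot₀⟩ := Cfsg.Agent.Helper7.QPa.exists_ot (Cfsg.Agent.Helper7.QMi.minus_nd_top (d - 1) hab)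
    hW₀nd hW₀d
  have hroom : 2 * h + 3 ≤ 2 * (d - 1) + 2 := by omega
  have hrΩ' : r ∣ Nat.card (Cfsg.Agent.Helper7.QPa.ParSub
      (Cfsg.Agent.Helper8.StdForms.minusForm F (d - 1) a b) h c₀) := by
    rw [← Cfsg.Agent.Helper7.QMi.card_par_eq_minus h2F hab hroom hot₀ hc₀ hW₀d]
    exact hrΩ
  have hLHS := forall_congr' (fun x : GL ((Fin (d - 1) ⊕ Fin (d - 1)) ⊕ Fin 2) F =>
    imp_congr_right (fun _ : x ∈ Cfsg.Geo.omegaGL (Cfsg.quadFormMinus (d - 1) F a b) =>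
      imp_congr_right (fun _ : (∃ z : F, ((x ^ r : GL ((Fin (d - 1) ⊕ Fin (d - 1)) ⊕ Fin 2) F) : Matrix ((Fin (d - 1) ⊕ Fin (d - 1)) ⊕ Fin 2) ((Fin (d - 1) ⊕ Fin (d - 1)) ⊕ Fin 2) F) = z • (1 : Matrix ((Fin (d - 1) ⊕ Fin (d - 1)) ⊕ Fin 2) ((Fin (d - 1) ⊕ Fin (d - 1)) ⊕ Fin 2) F)) =>
        imp_congr_right (fun _ : (∀ z : F, (x : Matrix ((Fin (d - 1) ⊕ Fin (d - 1)) ⊕ Fin 2) ((Fin (d - 1) ⊕ Fin (d - 1)) ⊕ Fin 2) F) ≠ z • (1 : Matrix ((Fin (d - 1) ⊕ Fin (d - 1)) ⊕ Fin 2) ((Fin (d - 1) ⊕ Fin (d - 1)) ⊕ Fin 2) F)) =>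
          Cfsg.Agent.Helper7.QMi.concl_iff_minus h2F hab hroom hot₀ hc₀ hW₀d x))))
  rw [hLHS]
  have hceven : Even (Cfsg.Agent.Helper7.SpOrd.cOf (orderOf ((Fintype.card F : ℕ) : ZMod r))) :=
    Cfsg.Agent.Helper7.SpOrd.cOf_even _
  have hmodpos : 0 < (2 * h + 1) % Cfsg.Agent.Helper7.SpOrd.cOf (orderOf ((Fintype.card F : ℕ) : ZMod r)) := by
    rcases Nat.eq_zero_or_pos ((2 * h + 1) %
      Cfsg.Agent.Helper7.SpOrd.cOf (orderOf ((Fintype.card F : ℕ) : ZMod r))) with h0 | h0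
    · exfalso
      have h1 := Nat.dvd_of_mod_eq_zero h0
      obtain ⟨t, ht⟩ := hceven
      have h2 : 2 ∣ 2 * h + 1 := Dvd.dvd.trans ⟨t, by omega⟩ h1
      omega
    · exact h0
  by_cases hr2 : r = 2
  · subst hr2
    rw [Cfsg.Agent.Helper7.QMi.two_case_iff_minus h2F hodd hdk (by omega) hab hc₀]
    constructor
    · intro h1
      exact Or.inl ⟨rfl, h1⟩
    · rintro (⟨-, h1⟩ | ⟨-, h1, -⟩ | ⟨-, h1, -⟩)
      · exact h1
      · omega
      · omega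
  · have hr2lt : 2 < r := by
      have := hr.two_le
      omega
    by_cases hrp : r = p
    · constructor
      · intro hall
        exfalso
        rw [hrp] at hall
        exact Cfsg.Agent.Helper7.QMi.not_forall_odd_char_minus (F := F) (p := p) hp2 hdk hd hmd hab hc₀ hall
      · rintro (⟨h1, -⟩ | ⟨h1, -⟩ | ⟨h1, -⟩)
        · exact absurd h1 hr2
        · exact absurd hrp h1
        · exact absurd hrp h1
    · rw [Cfsg.Agent.Helper7.QMi.odd_case_iff_minus h2F hr2 hrp hdk hmd hab hc₀ hrΩ']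
      constructor
      · rintro (⟨h1, h2 | h2⟩ | ⟨h1, h2⟩)
        · right; left
          exact ⟨hrp, hr2lt, h2, Or.inl h1⟩
        · by_cases hev : Even (orderOf ((Fintype.card F : ℕ) : ZMod r))
          · right; right
            exact ⟨hrp, hr2lt, hev, Or.inl ⟨h1, h2⟩⟩
          · right; left
            exact ⟨hrp, hr2lt, Nat.not_even_iff_odd.mp hev, Or.inl h1⟩
        · by_cases hev : Even (orderOf ((Fintype.card F : ℕ) : ZMod r))
          · right; right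
            have hce : Cfsg.Agent.Helper7.SpOrd.cOf (orderOf ((Fintype.card F : ℕ) : ZMod r)) =
                orderOf ((Fintype.card F : ℕ) : ZMod r) := by
              unfold Cfsg.Agent.Helper7.SpOrd.cOf
              rw [if_pos hev]
            refine ⟨hrp, hr2lt, hev, Or.inr ⟨by omega, ?_, hmodpos, h2⟩⟩
            rw [hce] at h1
            exact h1
          · right; left
            exact ⟨hrp, hr2lt, Nat.not_even_iff_odd.mp hev, Or.inr ⟨h1, hmodpos, h2⟩⟩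
      · rintro (⟨h1, -⟩ | ⟨-, -, hoddi, h1 | ⟨h1, -, h2⟩⟩ | ⟨-, -, hev, ⟨h1, h2⟩ | ⟨-, h1, -, h2⟩⟩)
        · exact absurd h1 hr2
        · exact Or.inl ⟨h1, Or.inl hoddi⟩
        · exact Or.inr ⟨h1, h2⟩
        · exact Or.inl ⟨h1, Or.inr h2⟩
        · right
          have hce : Cfsg.Agent.Helper7.SpOrd.cOf (orderOf ((Fintype.card F : ℕ) : ZMod r)) =
              orderOf ((Fintype.card F : ℕ) : ZMod r) := by
            unfold Cfsg.Agent.Helper7.SpOrd.cOf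
            rw [if_pos hev]
          refine ⟨?_, h2⟩
          rw [hce]
          exact h1

end Cfsg.Agent.S5991
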