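import Cfsg.Statements.S5992
import Cfsg.Agent.Helper7.QTyJ

set_option autoImplicit false
open scoped MatrixGroups
open Cfsg

namespace Cfsg.Agent.S5992

/-- Elements of prime order r ≠ p of Ω_n(q), nq odd, with no fixed hyperbolic `m`-space. Here `T = Ω_n(F)`, `n = 2d+1 ≥ 7`, `q` odd, realised as the commutator subgroup of the isometry group of `Q = x₀² + Σ xᵢyᵢ` over the field `F` with `q` elements (trivial centre, so its elements of prime order `r` are used directly); a nondegenerate `m`-space (even `m`) is a subspace on which the polar form of `Q` is nondegenerate; it is hyperbolic if it contains an `m/2`-dimensional subspace on which `Q` vanishes, elliptic otherwise. Let `m` be even with `2 ≤ m ≤ n − 1` (no restriction `m < n/2`) and let `r ≠ p` be a prime dividing the number of hyperbolic `m`-spaces; for `r ≠ p` let `i` be the multiplicative order of `q` modulo `r`, `c = i` for `i` even and `c = 2i` for `i` odd, and write `k = n mod c`, `ℓ' = m mod c`. Then every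 element of `T` of order `r` fixes some hyperbolic `m`-space if and only if `r = 2`, or `r` is odd and one of: (i) `i` odd, `c ≤ m` and either `k > ℓ' > 0` or `ℓ' = 0`; (ii) `i` even, `i ≤ m`, `k > ℓ'`, and `m/i` even whenever `ℓ' = 0`. (`r = p` is not covered by this statement.) -/
theorem result {F : Type*} [Field F] [Fintype F] {p : ℕ} [Fact p.Prime] [CharP F p] {q : ℕ} (hq : Fintype.card F = q) (hqodd : Odd q)
    (d m : ℕ) (hd : 3 ≤ d) (hm : 2 ≤ m) (hme : Even m) (hmn : m ≤ 2 * d)
    (r : ℕ) [Fact r.Prime] (hrp : r ≠ p)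
    (hrΩ : r ∣ Nat.card {W : Submodule F (Unit ⊕ (Fin d ⊕ Fin d) → F) // Module.finrank F ↥W = m ∧ Cfsg.Geo.IsNondegenerateOn (QuadraticMap.polar (Cfsg.quadFormOdd d F)) W ∧ Cfsg.Geo.IsPlusTypeOn (Cfsg.quadFormOdd d F) W})
    (i c : ℕ) (hi : i = orderOf (q : ZMod r)) (hc : c = if Even i then i else 2 * i) :
    (∀ x : GL (Unit ⊕ (Fin d ⊕ Fin d)) F, x ∈ Cfsg.Geo.omegaGL (Cfsg.quadFormOdd d F) → orderOf x = r →
      ∃ W : Submodule F (Unit ⊕ (Fin d ⊕ Fin d) → F), (Module.finrank F ↥W = m ∧ Cfsg.Geo.IsNondegenerateOn (QuadraticMap.polar (Cfsg.quadFormOdd d F)) W ∧ Cfsg.Geo.IsPlusTypeOn (Cfsg.quadFormOdd d F) W) ∧ W.map (Matrix.toLin' (x : Matrix (Unit ⊕ (Fin d ⊕ Fin d)) (Unit ⊕ (Fin d ⊕ Fin d)) F)) ≤ W) ↔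
    (r = 2 ∨
     (2 < r ∧ Odd i ∧ c ≤ m ∧ (m % c = 0 ∨ (0 < m % c ∧ m % c < (2 * d + 1) % c))) ∨
     (2 < r ∧ Even i ∧ i ≤ m ∧ m % c < (2 * d + 1) % c ∧ (0 < m % c ∨ Even (m / i)))) := by
  classical
  subst hq
  subst hi
  have hc' : c = Cfsg.Agent.Helper7.SpOrd.cOf (orderOf ((Fintype.card F : ℕ) : ZMod r)) := hc
  subst hc'
  have hr : r.Prime := Fact.out
  have h2F : (2 : F) ≠ 0 := by
    intro h20
    have hch : ringChar F = 2 := by
      apply CharP.ringChar_of_prime_eq_zero Nat.prime_two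
      exact_mod_cast h20
    have := (FiniteField.even_card_iff_char_two (F := F)).mp hch
    rw [Nat.odd_iff] at hqodd
    omega
  have hrΩ' : r ∣ Nat.card (Cfsg.Agent.Helper7.QTy.HypSub (Cfsg.Agent.Helper8.StdForms.oddForm F d) m) := by
    rw [← Cfsg.Agent.Helper7.QTy.card_hyp_eq d m]
    exact hrΩ
  have hV := Cfsg.Agent.Helper7.QTy.std_nd_top h2F d
  have hcE := Cfsg.Agent.Helper7.SpOrd.cOf_even (orderOf ((Fintype.card F : ℕ) : ZMod r))
  by_cases hr2 : r = 2
  · subst hr2
    constructor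
    · intro _
      exact Or.inl rfl
    · intro _ x hx hxo
      have hxiso : x ∈ Cfsg.isometryGroup F (Cfsg.quadFormOdd d F) := by
        obtain ⟨y, -, rfl⟩ := hx
        exact y.2
      have hx2 : x ^ 2 = 1 := by rw [← hxo]; exact pow_orderOf_eq_one x
      obtain ⟨W, hW1, hW2, hW3, hW4⟩ := Cfsg.Agent.Helper7.QTy.exists_hyp_invt_two h2F hV
        (Cfsg.Agent.Helper7.QTy.std_QT hxiso) (Cfsg.Agent.Helper7.OrTS.toLin'_pow_eq_one hx2)
        (Cfsg.Agent.Helper7.OrTS.finrank_std_odd d) hme hm hmn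
      exact Cfsg.Agent.Helper7.QTy.to_statement_h x hW1 hW2 hW3 hW4
  · have hr2lt : 2 < r := by
      have := hr.two_le
      omega
    constructor
    · intro hall
      right
      obtain ⟨h1, h2, h3⟩ := Cfsg.Agent.Helper7.QTy.cond_of_forall_hyp h2F hr2 hrp hme hm hmn hrΩ' hall
      by_cases hev : Even (orderOf ((Fintype.card F : ℕ) : ZMod r))
      · right
        have hce : Cfsg.Agent.Helper7.SpOrd.cOf (orderOf ((Fintype.card F : ℕ) : ZMod r)) =
            orderOf ((Fintype.card F : ℕ) : ZMod r) := by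
          unfold Cfsg.Agent.Helper7.SpOrd.cOf
          rw [if_pos hev]
        refine ⟨hr2lt, hev, ?_, h2, ?_⟩
        · rw [hce] at h1
          exact h1
        · rcases h3 with h3 | h3 | h3
          · exact Or.inl h3
          · exact absurd hev (Nat.not_even_iff_odd.mpr h3)
          · exact Or.inr h3
      · left
        have hodd := Nat.not_even_iff_odd.mp hev
        refine ⟨hr2lt, hodd, h1, ?_⟩
        by_cases h0 : m % Cfsg.Agent.Helper7.SpOrd.cOf (orderOf ((Fintype.card F : ℕ) : ZMod r)) = 0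
        · exact Or.inl h0
        · exact Or.inr ⟨by omega, h2⟩
    · intro hcond x hx hxo
      have hxiso : x ∈ Cfsg.isometryGroup F (Cfsg.quadFormOdd d F) := by
        obtain ⟨y, -, rfl⟩ := hx
        exact y.2
      have hxr : x ^ r = 1 := by rw [← hxo]; exact pow_orderOf_eq_one x
      have key : m % Cfsg.Agent.Helper7.SpOrd.cOf (orderOf ((Fintype.card F : ℕ) : ZMod r)) <
          (2 * d + 1) % Cfsg.Agent.Helper7.SpOrd.cOf (orderOf ((Fintype.card F : ℕ) : ZMod r)) ∧
          (0 < m % Cfsg.Agent.Helper7.SpOrd.cOf (orderOf ((Fintype.card F : ℕ) : ZMod r)) ∨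
            Odd (orderOf ((Fintype.card F : ℕ) : ZMod r)) ∨
            Even (m / orderOf ((Fintype.card F : ℕ) : ZMod r))) := by
        rcases hcond with h | ⟨-, hodd, -, h⟩ | ⟨-, hev, -, h1, h2⟩
        · exact absurd h hr2
        · refine ⟨?_, Or.inr (Or.inl hodd)⟩
          rcases h with h | ⟨-, h⟩
          · rw [h]
            obtain ⟨z, hz⟩ := hcE
            have hdm := Nat.div_add_mod (2 * d + 1)
              (Cfsg.Agent.Helper7.SpOrd.cOf (orderOf ((Fintype.card F : ℕ) : ZMod r)))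
            rw [hz] at hdm ⊢
            have hmul : (z + z) * ((2 * d + 1) / (z + z)) = 2 * (z * ((2 * d + 1) / (z + z))) := by ring
            rw [hmul] at hdm
            omega
          · exact h
        · refine ⟨h1, ?_⟩
          rcases h2 with h2 | h2
          · exact Or.inl h2
          · exact Or.inr (Or.inr h2)
      obtain ⟨W, hW1, hW2, hW3, hW4⟩ := Cfsg.Agent.Helper7.QTy.exists_hyp_invt_odd_aux h2F hr2 hrp hV
        (Cfsg.Agent.Helper7.QTy.std_QT hxiso) (Cfsg.Agent.Helper7.OrTS.toLin'_pow_eq_one hxr)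
        (Cfsg.Agent.Helper7.OrTS.finrank_std_odd d) hme hmn key.1 key.2
      exact Cfsg.Agent.Helper7.QTy.to_statement_h x hW1 hW2 hW3 hW4

end Cfsg.Agent.S5992
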