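import Cfsg.Statements.S5993
import Cfsg.Agent.Helper7.QEllH

set_option autoImplicit false
open scoped MatrixGroups
open Cfsg

namespace Cfsg.Agent.S5993

/-- Elements of prime order of Ω_n(q), nq odd, with no fixed elliptic `m`-space. Here `T = Ω_n(F)`, `n = 2d+1 ≥ 7`, `q` odd, realised as the commutator subgroup of the isometry group of `Q = x₀² + Σ xᵢyᵢ` over the field `F` with `q` elements (trivial centre, so its elements of prime order `r` are used directly); a nondegenerate `m`-space (even `m`) is a subspace on which the polar form of `Q` is nondegenerate; it is hyperbolic if it contains an `m/2`-dimensional subspace on which `Q` vanishes, elliptic otherwise. Let `m` be even with `2 ≤ m ≤ n − 1` (no restriction `m < n/2`) and let `r` be a prime dividing the number of elliptic `m`-spaces; for `r ≠ p` let `i` be the multiplicative order of `q` modulo `r`, `c = i` for `i` even and `c = 2i` for `i` odd, and write `k = n mod c`, `ℓ' = m mod c`. Then every element of `T` of order `r` fixes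 some elliptic `m`-space if and only if `r = 2`, or `r ≠ p` is odd and one of: (i) `i` odd, `c ≤ m` and `k > ℓ' > 0`; (ii) `i` even, `i ≤ m`, `k > ℓ'`, and `m/i` odd whenever `ℓ' = 0`. (For `r = p` there is always an element of order `p` fixing no elliptic `m`-space.) -/
theorem result {F : Type*} [Field F] [Fintype F] {p : ℕ} [Fact p.Prime] [CharP F p] {q : ℕ} (hq : Fintype.card F = q) (hqodd : Odd q)
    (d m : ℕ) (hd : 3 ≤ d) (hm : 2 ≤ m) (hme : Even m) (hmn : m ≤ 2 * d)
    (r : ℕ) [Fact r.Prime]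
    (hrΩ : r ∣ Nat.card {W : Submodule F (Unit ⊕ (Fin d ⊕ Fin d) → F) // Module.finrank F ↥W = m ∧ Cfsg.Geo.IsNondegenerateOn (QuadraticMap.polar (Cfsg.quadFormOdd d F)) W ∧ ¬ Cfsg.Geo.IsPlusTypeOn (Cfsg.quadFormOdd d F) W})
    (i c : ℕ) (hi : i = orderOf (q : ZMod r)) (hc : c = if Even i then i else 2 * i) :
    (∀ x : GL (Unit ⊕ (Fin d ⊕ Fin d)) F, x ∈ Cfsg.Geo.omegaGL (Cfsg.quadFormOdd d F) → orderOf x = r →
      ∃ W : Submodule F (Unit ⊕ (Fin d ⊕ Fin d) → F), (Module.finrank F ↥W = m ∧ Cfsg.Geo.IsNondegenerateOn (QuadraticMap.polar (Cfsg.quadFormOdd d F)) W ∧ ¬ Cfsg.Geo.IsPlusTypeOn (Cfsg.quadFormOdd d F) W) ∧ W.map (Matrix.toLin' (x : Matrix (Unit ⊕ (Fin d ⊕ Fin d)) (Unit ⊕ (Fin d ⊕ Fin d)) F)) ≤ W) ↔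
    (r = 2 ∨
     (r ≠ p ∧ 2 < r ∧ Odd i ∧ c ≤ m ∧ 0 < m % c ∧ m % c < (2 * d + 1) % c) ∨
     (r ≠ p ∧ 2 < r ∧ Even i ∧ i ≤ m ∧ m % c < (2 * d + 1) % c ∧ (0 < m % c ∨ Odd (m / i)))) := by
  classical
  subst hq
  subst hi
  have hc' : c = Cfsg.Agent.Helper7.SpOrd.cOf (orderOf ((Fintype.card F : ℕ) : ZMod r)) := hc
  subst hc'
  have hr : r.Prime := Fact.out
  have hp : p.Prime := Fact.out
  have h2F : (2 : F) ≠ 0 := by
    intro h20
    have hch : ringChar F = 2 := by
      apply CharP.ringChar_of_prime_eq_zero Nat.prime_two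
      exact_mod_cast h20
    have := (FiniteField.even_card_iff_char_two (F := F)).mp hch
    rw [Nat.odd_iff] at hqodd
    omega
  have hp2 : p ≠ 2 := by
    intro h
    apply h2F
    have h1 : ((p : ℕ) : F) = 0 := CharP.cast_eq_zero F p
    rw [h] at h1
    exact_mod_cast h1
  have hrΩ' : r ∣ Nat.card (Cfsg.Agent.Helper7.QEll.EllIn (Cfsg.Agent.Helper8.StdForms.oddForm F d) ⊤ m) := by
    rw [← Cfsg.Agent.Helper7.QEll.card_ell_eq d m]
    exact hrΩ
  have hV := Cfsg.Agent.Helper7.QTy.std_nd_top h2F d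
  by_cases hr2 : r = 2
  · subst hr2
    constructor
    · intro _
      exact Or.inl rfl
    · intro _ x hx hxo
      have hxiso : x ∈ Cfsg.isometryGroup F (Cfsg.quadFormOdd d F) := by
        obtain ⟨y, -, rfl⟩ := hx
        exact y.2
      have hx2 : x ^ 2 = 1 := by rw [← hxo]; exact pow_orderOf_eq_one x
      obtain ⟨W, hW1, hW2, hW3, hW4⟩ := Cfsg.Agent.Helper7.QEll.exists_ell_invt_two h2F hV
        (Cfsg.Agent.Helper7.QTy.std_QT hxiso) (Cfsg.Agent.Helper7.OrTS.toLin'_pow_eq_one hx2)
        (Cfsg.Agent.Helper7.OrTS.finrank_std_odd d) hme hm hmn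
      exact Cfsg.Agent.Helper7.QEll.to_statement_e x hW1 hW2 hW3 hW4
  · have hr2lt : 2 < r := by
      have := hr.two_le
      omega
    by_cases hrp : r = p
    · constructor
      · intro hall
        exfalso
        rw [hrp] at hall
        exact Cfsg.Agent.Helper7.QEll.not_forall_ell_char hp2 (by omega) hme hall
      · rintro (h | ⟨h, -⟩ | ⟨h, -⟩)
        · exact absurd h hr2
        · exact absurd hrp h
        · exact absurd hrp h
    · constructor
      · intro hall
        right
        obtain ⟨h1, h2, h3⟩ := Cfsg.Agent.Helper7.QEll.cond_of_forall_ell h2F hr2 hrp hme hm hmn hrΩ' hall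
        by_cases hev : Even (orderOf ((Fintype.card F : ℕ) : ZMod r))
        · right
          have hce : Cfsg.Agent.Helper7.SpOrd.cOf (orderOf ((Fintype.card F : ℕ) : ZMod r)) =
              orderOf ((Fintype.card F : ℕ) : ZMod r) := by
            unfold Cfsg.Agent.Helper7.SpOrd.cOf
            rw [if_pos hev]
          refine ⟨hrp, hr2lt, hev, ?_, h2, ?_⟩
          · rw [hce] at h1
            exact h1
          · rcases h3 with h3 | h3
            · exact Or.inl h3
            · exact Or.inr h3.2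
        · left
          have hodd := Nat.not_even_iff_odd.mp hev
          refine ⟨hrp, hr2lt, hodd, h1, ?_, h2⟩
          rcases h3 with h3 | h3
          · exact h3
          · exact absurd h3.1 hev
      · intro hcond x hx hxo
        have hxiso : x ∈ Cfsg.isometryGroup F (Cfsg.quadFormOdd d F) := by
          obtain ⟨y, -, rfl⟩ := hx
          exact y.2
        have hxr : x ^ r = 1 := by rw [← hxo]; exact pow_orderOf_eq_one x
        have key : m % Cfsg.Agent.Helper7.SpOrd.cOf (orderOf ((Fintype.card F : ℕ) : ZMod r)) <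
            (2 * d + 1) % Cfsg.Agent.Helper7.SpOrd.cOf (orderOf ((Fintype.card F : ℕ) : ZMod r)) ∧
            (0 < m % Cfsg.Agent.Helper7.SpOrd.cOf (orderOf ((Fintype.card F : ℕ) : ZMod r)) ∨
              (Even (orderOf ((Fintype.card F : ℕ) : ZMod r)) ∧
                Odd (m / orderOf ((Fintype.card F : ℕ) : ZMod r)))) := by
          rcases hcond with h | ⟨-, -, hodd, -, h0, hlt⟩ | ⟨-, -, hev, -, hlt, h⟩
          · exact absurd h hr2
          · exact ⟨hlt, Or.inl h0⟩
          · refine ⟨hlt, ?_⟩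
            rcases h with h | h
            · exact Or.inl h
            · exact Or.inr ⟨hev, h⟩
        obtain ⟨W, hW1, hW2, hW3, hW4⟩ := Cfsg.Agent.Helper7.QEll.exists_ell_invt_odd_aux h2F hr2 hrp hV
          (Cfsg.Agent.Helper7.QTy.std_QT hxiso) (Cfsg.Agent.Helper7.OrTS.toLin'_pow_eq_one hxr)
          (Cfsg.Agent.Helper7.OrTS.finrank_std_odd d) hme hmn key.1 key.2
        exact Cfsg.Agent.Helper7.QEll.to_statement_e x hW1 hW2 hW3 hW4

end Cfsg.Agent.S5993
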