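import Cfsg.Statements.S5998
import Cfsg.Agent.Helper7.Ex27I

set_option autoImplicit false
open scoped MatrixGroups
open Cfsg

namespace Cfsg.Agent.S5998

/-- Elements of prime order of PSL_3(p), p ≡ 1 (mod 3), and the normalizer of an extraspecial subgroup of order 27. Here `T = PSL_3(F)` for the field `F` with `p` elements, `p` a prime with `p ≡ 1 (mod 3)`; `R` is a non-abelian subgroup of GL_3(F) of order 27 and exponent 3 (an extraspecial group 3^{1+2}, acting absolutely irreducibly), and `H` is the subgroup of matrices of determinant 1 normalizing `R` — a subgroup of type 3^{1+2}.Sp₂(3) (maximality is not assumed). Ω is the set of cosets of `H` in `T`, so an element of `T` of prime order `r` (a matrix `x` of determinant 1 with `x^r` scalar, `x` not scalar) fixes a point of Ω exactly when some conjugate of `x` by a matrix of determinant 1 normalizes `R`. Let `r` be a prime dividing the index of `H`. Then every element of `T` of order `r` fixes a point of Ω if and only if `r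 = 2`, or `r = 3` and `p ≡ 1 (mod 9)`. -/
theorem result {F : Type*} [Field F] [Fintype F] {p : ℕ} [Fact p.Prime] [CharP F p] (hF : Fintype.card F = p) (hp3 : p % 3 = 1)
    (R : Subgroup (GL (Fin 3) F)) (hR : Nat.card R = 27) (hRe : Monoid.exponent R = 3) (hRna : ¬ IsMulCommutative R)
    (r : ℕ) [Fact r.Prime]
    (hΩ : r ∣ (Cfsg.Geo.subgroupNormalizer R).relIndex (Cfsg.Geo.specialLinear (Fin 3) F)) :
    (∀ x ∈ Cfsg.Geo.specialLinear (Fin 3) F, (∃ z : F, ((x ^ r : GL (Fin 3) F) : Matrix (Fin 3) (Fin 3) F) = z • (1 : Matrix (Fin 3) (Fin 3) F)) →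
      (∀ z : F, (x : Matrix (Fin 3) (Fin 3) F) ≠ z • (1 : Matrix (Fin 3) (Fin 3) F)) →
      ∃ g ∈ Cfsg.Geo.specialLinear (Fin 3) F, g⁻¹ * x * g ∈ Cfsg.Geo.subgroupNormalizer R) ↔ (r = 2 ∨ (r = 3 ∧ p % 9 = 1)) := by
  classical
  have hpp : p.Prime := Fact.out
  have hp7 : 7 ≤ p := by
    have := hpp.two_le
    by_contra hlt
    push_neg at hlt
    interval_cases p <;> simp_all
    exact absurd hpp (by decide)
  have h3 : (3 : F) ≠ 0 := by
    intro h
    have h' : ((3 : ℕ) : F) = 0 := by exact_mod_cast h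
    have := (CharP.cast_eq_zero_iff F p 3).mp h'
    have := Nat.le_of_dvd (by norm_num) this
    omega
  have h2 : (2 : F) ≠ 0 := by
    intro h
    have h' : ((2 : ℕ) : F) = 0 := by exact_mod_cast h
    have := (CharP.cast_eq_zero_iff F p 2).mp h'
    have := Nat.le_of_dvd (by norm_num) this
    omega
  have hd3 : 3 ∣ Fintype.card F - 1 := by rw [hF]; omega
  obtain ⟨ω₀, hω₀⟩ := Cfsg.Agent.Helper7.Singer.exists_omega hd3
  obtain ⟨ω, hω, P, hRP⟩ := Cfsg.Agent.Helper7.Ex27.normal_form h3 ω₀ hω₀ R hR hRe hRna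
  have hNP := Cfsg.Agent.Helper7.Ex27.normalizer_conj R _ P hRP
  have hRSL : R ≤ Cfsg.Geo.specialLinear (Fin 3) F := by
    intro g hg
    have h1 := Cfsg.Agent.Helper7.Ex27.R0_le_SL ω hω ((hRP g).1 hg)
    have h2 := Cfsg.Agent.Helper7.Ex27.conj_mem_SL P⁻¹ _ h1
    rw [inv_inv] at h2
    have : P * (P⁻¹ * g * P) * P⁻¹ = g := by group
    rwa [this] at h2
  constructor
  · intro hall
    by_contra hcon
    push_neg at hcon
    obtain ⟨hr2, hr3⟩ := hcon
    by_cases h3r : r = 3
    · subst h3r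
      have hp9 : p % 9 ≠ 1 := hr3 rfl
      have hq : Fintype.card F % 9 = 4 ∨ Fintype.card F % 9 = 7 := by rw [hF]; omega
      exact Cfsg.Agent.Helper7.Ex27.three_not_dvd_relIndex hq R hR hRSL hΩ
    · have hrp : r.Prime := Fact.out
      have hr5 : 5 ≤ r := by
        have := hrp.two_le
        have h4 : r ≠ 4 := by
          intro h; rw [h] at hrp; exact absurd hrp (by decide)
        omega
      have hdvd : r ∣ Nat.card (Cfsg.Geo.specialLinear (Fin 3) F) :=
        dvd_trans hΩ (Subgroup.relIndex_dvd_card _ _)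
      exact Cfsg.Agent.Helper7.Ex27.not_elus_ge_five h3 ω hω R hR P hRP r hr5 hdvd hall
  · rintro (rfl | ⟨rfl, h9⟩)
    · exact Cfsg.Agent.Helper7.Ex27.elus_of_conj 2 _ _ P hNP
        (Cfsg.Agent.Helper7.Ex27.elus_two ω hω h2)
    · have hd9 : 9 ∣ Fintype.card F - 1 := by rw [hF]; omega
      exact Cfsg.Agent.Helper7.Ex27.elus_of_conj 3 _ _ P hNP
        (Cfsg.Agent.Helper7.Ex27.elus_three ω hω h3 hd9)

end Cfsg.Agent.S5998
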