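import Cfsg.Statements.S5999
import Cfsg.Agent.Helper7.Ex27UI

set_option autoImplicit false
open scoped MatrixGroups
open Cfsg

namespace Cfsg.Agent.S5999

/-- Elements of prime order of PSU_3(p), p ≡ 2 (mod 3), and the normalizer of an extraspecial subgroup of order 27. Here `T = PSU_3(p)` for a prime `p ≥ 5` with `p ≡ 2 (mod 3)`, realised through `SU_3(p)`, the matrices of determinant 1 over the field `F` with `p²` elements preserving the hermitian form `Σ uᵢvᵢ^p`; `R` is a non-abelian subgroup of order 27 and exponent 3 of the full unitary group of that form (an extraspecial group 3^{1+2}, acting absolutely irreducibly), and `H` is the subgroup of `SU_3(p)` normalizing `R` — a subgroup of type 3^{1+2}.Sp₂(3) (maximality is not assumed). Ω is the set of cosets of `H`, so an element of `T` of prime order `r` (`x ∈ SU_3(p)` with `x^r` scalar, `x` not scalar) fixes a point of Ω exactly when some `SU_3(p)`-conjugate of `x` normalizes `R`. Let `r`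 be a prime dividing the index of `H`. Then every element of `T` of order `r` fixes a point of Ω if and only if `r = 2`, or `r = 3` and `p ≡ 8 (mod 9)`. -/
theorem result {F : Type*} [Field F] [Fintype F] {p : ℕ} [Fact p.Prime] [CharP F p] (hF : Fintype.card F = p ^ 2) (hp : 5 ≤ p) (hp3 : p % 3 = 2)
    (R : Subgroup (GL (Fin 3) F)) (hRU : R ≤ Cfsg.GU 3 F p) (hR : Nat.card R = 27) (hRe : Monoid.exponent R = 3) (hRna : ¬ IsMulCommutative R)
    (r : ℕ) [Fact r.Prime]
    (hΩ : r ∣ (Cfsg.Geo.subgroupNormalizer R).relIndex (Cfsg.GU 3 F p ⊓ Cfsg.Geo.specialLinear (Fin 3) F)) :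
    (∀ x ∈ Cfsg.GU 3 F p ⊓ Cfsg.Geo.specialLinear (Fin 3) F, (∃ z : F, ((x ^ r : GL (Fin 3) F) : Matrix (Fin 3) (Fin 3) F) = z • (1 : Matrix (Fin 3) (Fin 3) F)) →
      (∀ z : F, (x : Matrix (Fin 3) (Fin 3) F) ≠ z • (1 : Matrix (Fin 3) (Fin 3) F)) →
      ∃ g ∈ Cfsg.GU 3 F p ⊓ Cfsg.Geo.specialLinear (Fin 3) F, g⁻¹ * x * g ∈ Cfsg.Geo.subgroupNormalizer R) ↔ (r = 2 ∨ (r = 3 ∧ p % 9 = 8)) := by
  classical
  haveI : Fact (Fintype.card F = p ^ 2) := ⟨hF⟩
  have hpp : p.Prime := Fact.out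
  have h3 : (3 : F) ≠ 0 := by
    intro h
    have h' : ((3 : ℕ) : F) = 0 := by exact_mod_cast h
    have := (CharP.cast_eq_zero_iff F p 3).mp h'
    have := Nat.le_of_dvd (by norm_num) this
    omega
  have h2 : (2 : F) ≠ 0 := by
    intro h
    have h' : ((2 : ℕ) : F) = 0 := by exact_mod_cast h
    have := (CharP.cast_eq_zero_iff F p 2).mp h'
    have := Nat.le_of_dvd (by norm_num) this
    omega
  have h3q : 3 ∣ p + 1 := by omega
  have hodd : (-1 : F) ^ (p + 1) = 1 := by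
    have hpo : Odd p := hpp.odd_of_ne_two (by omega)
    have : Even (p + 1) := hpo.add_one
    exact this.neg_one_pow
  have hd3 : 3 ∣ Fintype.card F - 1 := by
    rw [hF]
    have : p ^ 2 % 3 = 1 := by rw [Nat.pow_mod, hp3]
    omega
  obtain ⟨ω₀, hω₀⟩ := Cfsg.Agent.Helper7.Singer.exists_omega hd3
  obtain ⟨ω, hω, P, hPU, hRP⟩ :=
    Cfsg.Agent.Helper7.Ex27.normal_form_U (q := p) h3 h3q ω₀ hω₀ R hRU hR hRe hRna
  have hNP := Cfsg.Agent.Helper7.Ex27.normalizer_conj R _ P hRP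
  have hRSL : R ≤ Cfsg.Geo.specialLinear (Fin 3) F := by
    intro g hg
    have h1 := Cfsg.Agent.Helper7.Ex27.R0_le_SL ω hω ((hRP g).1 hg)
    have h2 := Cfsg.Agent.Helper7.Ex27.conj_mem_SL P⁻¹ _ h1
    rw [inv_inv] at h2
    have : P * (P⁻¹ * g * P) * P⁻¹ = g := by group
    rwa [this] at h2
  have hRS : R ≤ Cfsg.GU 3 F p ⊓ Cfsg.Geo.specialLinear (Fin 3) F := le_inf hRU hRSL
  constructor
  · intro hall
    by_contra hcon
    push_neg at hcon
    obtain ⟨hr2, hr3⟩ := hcon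
    by_cases h3r : r = 3
    · subst h3r
      have hp9 : p % 9 ≠ 8 := hr3 rfl
      have hq : p % 9 = 2 ∨ p % 9 = 5 := by omega
      refine Cfsg.Agent.Helper7.Ex27.three_not_dvd_relIndex_gen _ R ?_ hR hRS hΩ
      rw [Cfsg.Agent.Helper7.Ex27.card_GU_inf_SL]
      exact Cfsg.Agent.Helper7.Ex27.card_SU3_not_dvd_81 hq
    · have hrp : r.Prime := Fact.out
      have hr5 : 5 ≤ r := by
        have := hrp.two_le
        have h4 : r ≠ 4 := by
          intro h; rw [h] at hrp; exact absurd hrp (by decide)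
        omega
      have hdvd : r ∣ Nat.card ↥(Cfsg.GU 3 F p ⊓ Cfsg.Geo.specialLinear (Fin 3) F) :=
        dvd_trans hΩ (Subgroup.relIndex_dvd_card _ _)
      exact Cfsg.Agent.Helper7.Ex27.not_elus_ge_five_gen _ inf_le_right h3 ω hω R hR P hRP r hr5
        hdvd hall
  · rintro (rfl | ⟨rfl, h9⟩)
    · exact Cfsg.Agent.Helper7.Ex27.elusU_of_conj 2 _ _ P hPU hNP
        (Cfsg.Agent.Helper7.Ex27.elusU_two ω hω h2 hodd h3q)
    · have hd9 : 9 ∣ p + 1 := by omega
      exact Cfsg.Agent.Helper7.Ex27.elusU_of_conj 3 _ _ P hPU hNP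
        (Cfsg.Agent.Helper7.Ex27.elusU_three ω hω h3 hd9)

end Cfsg.Agent.S5999
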