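-- Statement S6001 (row 6001): PSU_4(p), p ≡ 3 (mod 4), and the normalizer of 4 ∘ 2^{1+4}.
-- The statement below is byte-identical to the frozen statement Cfsg.CfsgFrozen.S6001.
import Cfsg.Statements.S6001
import Cfsg.Agent.Helper9.U4Bad
import Cfsg.Agent.Helper9.U4Good
import Cfsg.Agent.Helper9.S4Data
import Cfsg.Agent.Helper1.U4BadB

set_option autoImplicit false
open scoped MatrixGroups
open Cfsg

namespace Cfsg.Agent.S6001

/-- Elements of prime order of PSU_4(p), p ≡ 3 (mod 4), and the normalizer of a 2-group of symplectic type of order 2⁶. Here `T = PSU_4(p)` for a prime `p ≡ 3 (mod 4)`, realised through `SU_4(p)`, the matrices of determinant 1 over the field `F` with `p²` elements preserving the hermitian form `f = Σ uᵢvᵢ^p`; `R` is an absolutely irreducible subgroup of the full unitary group of `f` of order 2⁶ that is a 2-group of symplectic type of exponent 4 with centre of order 4, and `H` is the subgroup of `SU_4(p)` normalizing `R` — a subgroup of type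 2⁴.Sp₄(2) (maximality is not assumed). Ω is the set of cosets of `H`, so an element of `T` of prime order `r` (`x ∈ SU_4(p)` with `x^r` scalar, `x` not scalar) fixes a point of Ω exactly when some `SU_4(p)`-conjugate of `x` normalizes `R`. Let `r` be a prime dividing the index of `H`. Then every element of `T` of order `r` fixes a point of Ω if and only if `r = 2`, or `r = 3` and `p ≡ 1 (mod 3)`, or `r = 5` and `p ≡ ±2 (mod 5)` (`p` has multiplicative order 4 modulo 5). -/
theorem result {F : Type*} [Field F] [Fintype F] {p : ℕ} [Fact p.Prime] [CharP F p] (hF : Fintype.card F = p ^ 2) (hp4 : p % 4 = 3)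
    (R : Subgroup (GL (Fin 4) F)) (hRs : Cfsg.Geo.IsSymplecticTypeGroup 2 R) (hRi : Cfsg.Geo.ActsAbsolutelyIrreducibly (Cfsg.Geo.matrixSet R))
    (hRU : R ≤ Cfsg.GU 4 F p) (hR6 : Nat.card R = 2 ^ 6) (hRZ : Nat.card (Subgroup.center R) = 4)
    (r : ℕ) [Fact r.Prime]
    (hΩ : r ∣ (Cfsg.Geo.subgroupNormalizer R).relIndex (Cfsg.GU 4 F p ⊓ Cfsg.Geo.specialLinear (Fin 4) F)) :
    (∀ x ∈ Cfsg.GU 4 F p ⊓ Cfsg.Geo.specialLinear (Fin 4) F, (∃ z : F, ((x ^ r : GL (Fin 4) F) : Matrix (Fin 4) (Fin 4) F) = z • (1 : Matrix (Fin 4) (Fin 4) F)) →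
      (∀ z : F, (x : Matrix (Fin 4) (Fin 4) F) ≠ z • (1 : Matrix (Fin 4) (Fin 4) F)) →
      ∃ g ∈ Cfsg.GU 4 F p ⊓ Cfsg.Geo.specialLinear (Fin 4) F, g⁻¹ * x * g ∈ Cfsg.Geo.subgroupNormalizer R) ↔ (r = 2 ∨ (r = 3 ∧ p % 3 = 1) ∨ (r = 5 ∧ orderOf (p : ZMod 5) = 4)) := by
  have D := Cfsg.Agent.Helper9.S4.s4data_of_hyps R hRs hRi hR6 hRZ
  have hpp : p.Prime := Fact.out
  have h2 : (2 : F) ≠ 0 := by
    have : ¬ p ∣ 2 := by
      intro h
      have := (Nat.prime_dvd_prime_iff_eq hpp Nat.prime_two).mp h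
      omega
    intro h0
    apply this
    have h' : ((2 : ℕ) : F) = 0 := by exact_mod_cast h0
    exact (CharP.cast_eq_zero_iff F p 2).mp h'
  constructor
  · intro hgood
    exact Cfsg.Agent.Helper9.U4.bad_of_not_listed_aux hF hp4 R D
      (fun h => Cfsg.Agent.Helper1.U4Bad.not_good_three_of_mod hF h h2 R D)
      (fun h => Cfsg.Agent.Helper1.U4Bad.not_good_five_of_mod_four hF h h2 R D)
      (fun h => Cfsg.Agent.Helper1.U4Bad.not_good_five_of_mod_one hF h h2 R D) r
      (dvd_trans hΩ (Subgroup.relIndex_dvd_card _ _)) hgood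
  · intro hlist
    exact Cfsg.Agent.Helper9.U4.good_of_listed hF hp4 R hRs hRi hRU hR6 hRZ r hlist

end Cfsg.Agent.S6001
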