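import Cfsg.Statements.S6002
import Cfsg.Agent.Helper5.XSMain
import Cfsg.Agent.Lead.XSGroup
import Cfsg.Agent.Helper1.XSConjB

set_option autoImplicit false
open scoped MatrixGroups
open Cfsg

namespace Cfsg.Agent.S6002

/-- Elements of prime order of PSp_4(p), p odd, and the normalizer of an extraspecial 2-group of order 2⁵ of minus type. Here `T = PSp_4(F)` for the field `F` with `p` elements, `p` an odd prime, realised through the matrices preserving the standard alternating form `f`; `R` is an absolutely irreducible subgroup of `T` (it preserves `f`) that is a 2-group of symplectic type of exponent 4, order 2⁵ and centre of order 2, of minus type (no elementary abelian subgroup of order 2³), and `H` is the subgroup of `T` normalizing `R` — a subgroup of type 2^{1+4}.O₄⁻(2) (maximality is not assumed). Ω is the set of cosets of `H` in `T`, so an element of `T` of prime order `r` (`x ∈ T` with `x^r` scalar, `x` not scalar) fixes a point of Ω exactly when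 some `T`-conjugate of `x` normalizes `R`. Let `r` be a prime dividing the index of `H`. Then every element of `T` of order `r` fixes a point of Ω if and only if `r = 2`, or `r = 5` and `p` has multiplicative order 4 modulo 5. -/
theorem result {F : Type*} [Field F] [Fintype F] {p : ℕ} [Fact p.Prime] [CharP F p] (hF : Fintype.card F = p) (hodd : Odd p)
    (R : Subgroup (GL (Fin 2 ⊕ Fin 2) F)) (hRs : Cfsg.Geo.IsSymplecticTypeGroup 2 R) (hRi : Cfsg.Geo.ActsAbsolutelyIrreducibly (Cfsg.Geo.matrixSet R))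
    (hRf : R ≤ Cfsg.spGL 2 F) (hR5 : Nat.card R = 2 ^ 5) (hRZ : Nat.card (Subgroup.center R) = 2) (hRm : Cfsg.Geo.IsOfMinusType 2 R)
    (r : ℕ) [Fact r.Prime]
    (hΩ : r ∣ (Cfsg.Geo.subgroupNormalizer R).relIndex (Cfsg.spGL 2 F)) :
    (∀ x ∈ Cfsg.spGL 2 F, (∃ z : F, ((x ^ r : GL (Fin 2 ⊕ Fin 2) F) : Matrix (Fin 2 ⊕ Fin 2) (Fin 2 ⊕ Fin 2) F) = z • (1 : Matrix (Fin 2 ⊕ Fin 2) (Fin 2 ⊕ Fin 2) F)) →
      (∀ z : F, (x : Matrix (Fin 2 ⊕ Fin 2) (Fin 2 ⊕ Fin 2) F) ≠ z • (1 : Matrix (Fin 2 ⊕ Fin 2) (Fin 2 ⊕ Fin 2) F)) →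
      ∃ g ∈ Cfsg.spGL 2 F, g⁻¹ * x * g ∈ Cfsg.Geo.subgroupNormalizer R) ↔ (r = 2 ∨ (r = 5 ∧ orderOf (p : ZMod 5) = 4)) := by
  have hpp : p.Prime := Fact.out
  have hoddF : Odd (Fintype.card F) := hF ▸ hodd
  have h2 : (2 : F) ≠ 0 := by
    intro h
    have h2p : ((2 : ℕ) : F) = 0 := by exact_mod_cast h
    rw [CharP.cast_eq_zero_iff F p] at h2p
    have : p = 2 := (Nat.prime_dvd_prime_iff_eq hpp Nat.prime_two).mp h2p
    subst this
    exact absurd hodd (by decide)
  have h32 : Nat.card R = 32 := by rw [hR5]; norm_num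
  have : Finite ↥R := Nat.finite_of_card_ne_zero (by rw [h32]; norm_num)
  have hexp : Monoid.exponent ↥R = 4 := by
    rw [hRs.exponent_eq]; rfl
  have hG := Cfsg.Agent.Lead.XS.structure_of_group (G := ↥R) h32 hRZ hexp hRs.cyclic_of_characteristic hRm
  have hR := Cfsg.Agent.Helper5.XS.xsdata_of_struct h2 R hRi hRf hR5 hRm hG
  exact Cfsg.Agent.Helper5.XS.main_of hF hodd R hR
    (fun x y hx hy hx2 hy2 h1 h1' h3 h3' => Cfsg.Agent.Helper1.XS.conj_of_sq_one h2 hx hy hx2 hy2 h1 h1' h3 h3')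
    (fun x y hx hy hx2 hy2 => Cfsg.Agent.Helper1.XS.conj_of_sq_neg_one hoddF hx hy hx2 hy2) r hΩ

end Cfsg.Agent.S6002
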